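import Mathlib
import Groth.Prelude.Def_EGA4b

namespace Groth.Agent.Helper29.NormDesc

universe u

open TensorProduct

section Flat

/-- flatness descends along a faithfully flat second map -/
theorem flat_of_comp (A B C : Type*) [CommRing A] [CommRing B] [CommRing C] [Algebra A B]
    [Algebra B C] [Algebra A C] [IsScalarTower A B C] [Module.Flat A C]
    [Module.FaithfullyFlat B C] : Module.Flat A B := by
  rw [Module.Flat.iff_lTensor_preserves_injective_linearMap]
  intro N P _ _ _ _ f hf
  have h1 : Function.Injective (f.lTensor C) :=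
    Module.Flat.lTensor_preserves_injective_linearMap f hf
  have key : ∀ x, AlgebraTensorModule.cancelBaseChange A B C C P ((f.baseChange B).lTensor C x)
      = f.lTensor C (AlgebraTensorModule.cancelBaseChange A B C C N x) := by
    intro x
    induction x using TensorProduct.induction_on with
    | zero => simp
    | add x y hx hy => simp only [map_add, hx, hy]
    | tmul c y =>
      induction y using TensorProduct.induction_on with
      | zero => simp
      | add x y hx hy => simp only [tmul_add, map_add, hx, hy]
      | tmul b n => simp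
  have h2 : Function.Injective ((f.baseChange B).lTensor C) := by
    intro x y hxy
    have := congrArg (AlgebraTensorModule.cancelBaseChange A B C C P) hxy
    rw [key, key] at this
    exact (AlgebraTensorModule.cancelBaseChange A B C C N).injective (h1 this)
  rw [Module.FaithfullyFlat.lTensor_injective_iff_injective B C] at h2
  rwa [LinearMap.baseChange_eq_ltensor] at h2

end Flat

section Descent

variable (R S : Type*) [CommRing R] [CommRing S] [Algebra R S] [Module.FaithfullyFlat R S]

theorem isDomain_of_faithfullyFlat [IsDomain S] : IsDomain R :=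
  Function.Injective.isDomain (algebraMap R S) (FaithfulSMul.algebraMap_injective R S)

theorem isIntegrallyClosed_of_faithfullyFlat [IsDomain S] [IsIntegrallyClosed S] :
    IsIntegrallyClosed R := by
  have hinj : Function.Injective (algebraMap R S) := FaithfulSMul.algebraMap_injective R S
  have : IsDomain R := isDomain_of_faithfullyFlat R S
  rw [isIntegrallyClosed_iff (FractionRing R)]
  intro x hx
  obtain ⟨a, b, hb, rfl⟩ := IsFractionRing.div_surjective (A := R) x
  let g : R →+* FractionRing S := (algebraMap S (FractionRing S)).comp (algebraMap R S)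
  have hg : Function.Injective g := (IsFractionRing.injective S (FractionRing S)).comp hinj
  let φ : FractionRing R →+* FractionRing S := IsFractionRing.lift hg
  have hφ : ∀ r, φ (algebraMap R (FractionRing R) r)
      = algebraMap S (FractionRing S) (algebraMap R S r) :=
    fun r => IsFractionRing.lift_algebraMap hg r
  have h1 : IsIntegral S (φ (algebraMap R _ a / algebraMap R _ b)) :=
    hx.map_of_comp_eq (algebraMap R S) φ (by ext r; exact (hφ r).symm)
  obtain ⟨s, hs⟩ := (isIntegrallyClosed_iff (FractionRing S)).mp ‹_› h1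
  have hb0 : b ≠ 0 := nonZeroDivisors.ne_zero hb
  have hfb0 : algebraMap S (FractionRing S) (algebraMap R S b) ≠ 0 := by
    intro h
    apply hb0
    apply hinj
    apply IsFractionRing.injective S (FractionRing S)
    simpa using h
  rw [map_div₀, hφ, hφ, eq_div_iff hfb0, ← map_mul] at hs
  have hs' : s * algebraMap R S b = algebraMap R S a :=
    IsFractionRing.injective S (FractionRing S) hs
  have hmem : a ∈ ((Ideal.span {b}).map (algebraMap R S)).comap (algebraMap R S) := by
    rw [Ideal.mem_comap, Ideal.map_span, Set.image_singleton, Ideal.mem_span_singleton']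
    exact ⟨s, hs'⟩
  rw [Ideal.comap_map_eq_self_of_faithfullyFlat, Ideal.mem_span_singleton'] at hmem
  obtain ⟨c, rfl⟩ := hmem
  refine ⟨c, ?_⟩
  have hb1 : algebraMap R (FractionRing R) b ≠ 0 := fun h =>
    hb0 ((IsFractionRing.injective R (FractionRing R)) (by simpa using h))
  rw [map_mul, mul_div_assoc, div_self hb1, mul_one]

theorem isNormalRing_of_faithfullyFlat (R S : Type u) [CommRing R] [CommRing S] [Algebra R S]
    [Module.FaithfullyFlat R S] (hS : EGA4.IsNormalRing S) : EGA4.IsNormalRing R := by
  intro q hq
  obtain ⟨Q, hQ, hQq⟩ := Ideal.exists_isPrime_liesOver_of_faithfullyFlat (B := S) q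
  obtain ⟨hdom, hic⟩ := hS Q
  let _ := Localization.AtPrime.algebraOfLiesOver q Q
  have : IsLocalHom (algebraMap (Localization.AtPrime q) (Localization.AtPrime Q)) := by
    rw [RingHom.algebraMap_toAlgebra]
    exact Localization.isLocalHom_localRingHom q Q (algebraMap R S) Ideal.LiesOver.over
  have : Module.FaithfullyFlat (Localization.AtPrime q) (Localization.AtPrime Q) :=
    Module.FaithfullyFlat.of_flat_of_isLocalHom
  exact ⟨isDomain_of_faithfullyFlat (Localization.AtPrime q) (Localization.AtPrime Q),
    isIntegrallyClosed_of_faithfullyFlat (Localization.AtPrime q) (Localization.AtPrime Q)⟩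

theorem isNormalRing_of_ringHom {R S : Type u} [CommRing R] [CommRing S] (φ : R →+* S)
    (hφ : φ.FaithfullyFlat) (hS : EGA4.IsNormalRing S) : EGA4.IsNormalRing R := by
  let _ : Algebra R S := φ.toAlgebra
  have : Module.FaithfullyFlat R S := hφ
  exact isNormalRing_of_faithfullyFlat R S hS

end Descent

section BaseChange

variable (R K A B : Type u) [CommRing R] [CommRing K] [CommRing A] [CommRing B]
  [Algebra R K] [Algebra R A] [Algebra R B] [Algebra A B] [IsScalarTower R A B]

/-- the map `K ⊗ A → K ⊗ B` -/
noncomputable abbrev tmap : K ⊗[R] A →ₐ[K] K ⊗[R] B :=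
  Algebra.TensorProduct.map (AlgHom.id K K) (IsScalarTower.toAlgHom R A B)

attribute [local instance] Algebra.TensorProduct.rightAlgebra

theorem tmap_faithfullyFlat [Module.FaithfullyFlat A B] :
    (tmap R K A B).toRingHom.FaithfullyFlat := by
  let _ : Algebra (K ⊗[R] A) (K ⊗[R] B) := (tmap R K A B).toRingHom.toAlgebra
  let _ : Algebra A (K ⊗[R] B) := ((algebraMap B (K ⊗[R] B)).comp (algebraMap A B)).toAlgebra
  have t1 : IsScalarTower A B (K ⊗[R] B) := IsScalarTower.of_algebraMap_eq fun x => rfl
  have t2 : IsScalarTower A (K ⊗[R] A) (K ⊗[R] B) := IsScalarTower.of_algebraMap_eq fun x => by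
    show (1 : K) ⊗ₜ[R] algebraMap A B x = tmap R K A B ((1 : K) ⊗ₜ[R] x)
    simp [tmap]
  have t3 : IsScalarTower R (K ⊗[R] A) (K ⊗[R] B) := IsScalarTower.of_algebraMap_eq fun x => by
    show algebraMap R (K ⊗[R] B) x = tmap R K A B (algebraMap R (K ⊗[R] A) x)
    rw [Algebra.TensorProduct.algebraMap_apply, Algebra.TensorProduct.algebraMap_apply]
    simp [tmap]
  have t4 : IsScalarTower K (K ⊗[R] A) (K ⊗[R] B) :=
    IsScalarTower.of_algebraMap_eq fun x => ((tmap R K A B).commutes x).symm
  have hpo : Algebra.IsPushout A B (K ⊗[R] A) (K ⊗[R] B) :=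
    (Algebra.IsPushout.comp_iff R A K (S' := K ⊗[R] A) (T := B) (T' := K ⊗[R] B)).mp inferInstance
  have := RingHom.FaithfullyFlat.isStableUnderBaseChange A B (K ⊗[R] A) (K ⊗[R] B)
    (RingHom.faithfullyFlat_algebraMap_iff.mpr ‹_›)
  exact this

end BaseChange

theorem main (A B C : Type u) [CommRing A] [CommRing B] [CommRing C]
    [Algebra A B] [Algebra B C] [Algebra A C] [IsScalarTower A B C] [Module.FaithfullyFlat B C]
    (hAC : EGA4.IsNormalHom A C) : EGA4.IsNormalHom A B := by
  obtain ⟨hflat, hfib⟩ := hAC
  refine ⟨flat_of_comp A B C, ?_⟩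
  intro p _ k' _ _ hfin
  have hS := hfib p k' hfin
  have h1 := tmap_faithfullyFlat A p.ResidueField B C
  let _ : Algebra (p.Fiber B) (p.Fiber C) := (tmap A p.ResidueField B C).toRingHom.toAlgebra
  have t : IsScalarTower p.ResidueField (p.Fiber B) (p.Fiber C) :=
    IsScalarTower.of_algebraMap_eq fun x => ((tmap A p.ResidueField B C).commutes x).symm
  have ff : Module.FaithfullyFlat (p.Fiber B) (p.Fiber C) := h1
  have h2 := tmap_faithfullyFlat p.ResidueField k' (p.Fiber B) (p.Fiber C)
  exact isNormalRing_of_ringHom _ h2 hS

end Groth.Agent.Helper29.NormDesc
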