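import Mathlib

/-!
# Flatness descends through a faithfully flat second map (helper29)

`flat_of_faithfullyFlat_comp`: `A → B → C`, `C` faithfully flat over `B` and flat over `A` ⇒ `B` flat over `A`.
-/

open TensorProduct

namespace Groth.Agent.Helper29.FlatDescentComp

universe u

theorem flat_of_faithfullyFlat_comp (A B C : Type u) [CommRing A] [CommRing B] [CommRing C]
    [Algebra A B] [Algebra B C] [Algebra A C] [IsScalarTower A B C]
    [Module.FaithfullyFlat B C] [Module.Flat A C] : Module.Flat A B := by
  rw [Module.Flat.iff_lTensor_preserves_injective_linearMap]
  intro N P _ _ _ _ f hf
  have h1 : Function.Injective (f.baseChange B) := by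
    rw [← Module.FaithfullyFlat.lTensor_injective_iff_injective B C]
    have hC : Function.Injective (f.lTensor C) :=
      Module.Flat.lTensor_preserves_injective_linearMap f hf
    let eN := TensorProduct.AlgebraTensorModule.cancelBaseChange A B C C N
    let eP := TensorProduct.AlgebraTensorModule.cancelBaseChange A B C C P
    have hcomm : ∀ t, eP ((f.baseChange B).lTensor C t) = f.lTensor C (eN t) := by
      intro t
      induction t using TensorProduct.induction_on with
      | zero => simp
      | tmul c s =>
        induction s using TensorProduct.induction_on with
        | zero => simp
        | tmul b n => simp [eN, eP]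
        | add x y hx hy => simp only [TensorProduct.tmul_add, map_add, hx, hy]
      | add x y hx hy => simp only [map_add, hx, hy]
    intro t₁ t₂ h
    apply eN.injective
    apply hC
    rw [← hcomm, ← hcomm, h]
  exact h1

end Groth.Agent.Helper29.FlatDescentComp
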