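import Mathlib
import Groth.Agent.Lib.Helper29.H1TorFree

/-!
# The local criterion of flatness, without Tor

`TorVanish R M Q` is a Tor-free formulation of `Tor₁(Q, M) = 0`.
-/

namespace Groth.Agent.Helper29.H1Copy

open TensorProduct Function

universe u

section Pres

variable (R : Type u) [CommRing R] (M : Type u) [AddCommGroup M] [Module R M]

/-- The free module of the canonical free presentation of `M`. -/
def PresG : Type u := M →₀ R

noncomputable instance : AddCommGroup (PresG R M) := inferInstanceAs (AddCommGroup (M →₀ R))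
noncomputable instance : Module R (PresG R M) := inferInstanceAs (Module R (M →₀ R))
instance : Module.Free R (PresG R M) := inferInstanceAs (Module.Free R (M →₀ R))

/-- The canonical free presentation of `M`. -/
noncomputable def presπ : PresG R M →ₗ[R] M := Finsupp.linearCombination R id

/-- The kernel of the canonical free presentation of `M`. -/
def PresK : Type u := LinearMap.ker (presπ R M)

noncomputable instance : AddCommGroup (PresK R M) :=
  inferInstanceAs (AddCommGroup (LinearMap.ker (presπ R M)))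
noncomputable instance : Module R (PresK R M) :=
  inferInstanceAs (Module R (LinearMap.ker (presπ R M)))

/-- The kernel inclusion of the canonical presentation. -/
noncomputable def presι : PresK R M →ₗ[R] PresG R M :=
  (LinearMap.ker (presπ R M)).subtype

theorem presπ_surjective : Surjective (presπ R M) := fun m =>
  ⟨(Finsupp.single m 1 : M →₀ R), by
    show Finsupp.linearCombination R id (Finsupp.single m 1) = m
    rw [Finsupp.linearCombination_single, one_smul]; rfl⟩

theorem pres_exact : Exact (presι R M) (presπ R M) := (presπ R M).exact_subtype_ker_map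

theorem presι_injective : Injective (presι R M) := Submodule.injective_subtype _

/-- Tor-free formulation of `Tor₁(Q, M) = 0`. -/
def TorVanish (Q : Type*) [AddCommGroup Q] [Module R Q] : Prop :=
  Injective ((presι R M).lTensor Q)

variable {R M}

/-- If for one presentation `K → F → Q → 0` with `F` flat the map `K ⊗ M → F ⊗ M` is injective,
then `Tor₁(Q, M) = 0`. -/
theorem TorVanish.of_presentation {K F Q : Type*} [AddCommGroup K] [Module R K]
    [AddCommGroup F] [Module R F] [AddCommGroup Q] [Module R Q] [Module.Flat R F]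
    (f : K →ₗ[R] F) (g : F →ₗ[R] Q) (hfg : Exact f g) (hg : Surjective g)
    (h : Injective (f.rTensor M)) : TorVanish R M Q :=
  lTensor_injective_of_exact_of_exact_of_rTensor_injective hfg hg (pres_exact R M)
    (presπ_surjective R M) h
    (Module.Flat.lTensor_preserves_injective_linearMap _ (presι_injective R M))

/-- If `Tor₁(Q, M) = 0` then for every exact `0 → A → B → Q → 0`, `A ⊗ M → B ⊗ M` is injective. -/
theorem TorVanish.rTensor_injective {A B Q : Type*} [AddCommGroup A] [Module R A]
    [AddCommGroup B] [Module R B] [AddCommGroup Q] [Module R Q] (hQ : TorVanish R M Q)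
    (f : A →ₗ[R] B) (g : B →ₗ[R] Q) (hf : Injective f) (hfg : Exact f g) (hg : Surjective g) :
    Injective (f.rTensor M) := by
  rw [← LinearMap.lTensor_inj_iff_rTensor_inj]
  refine lTensor_injective_of_exact_of_exact_of_rTensor_injective (pres_exact R M)
    (presπ_surjective R M) hfg hg ?_ ?_
  · rw [← LinearMap.lTensor_inj_iff_rTensor_inj]
    exact hQ
  · exact Module.Flat.lTensor_preserves_injective_linearMap _ hf

/-- The class of modules with vanishing Tor₁ against `M` is stable under extensions. -/
theorem TorVanish.of_extension {Q : Type*} [AddCommGroup Q] [Module R Q] (Q' : Submodule R Q)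
    (h1 : TorVanish R M Q') (h2 : TorVanish R M (Q ⧸ Q')) : TorVanish R M Q :=
  lTensor_injective_of_extension (presι R M) Q'.subtype Q'.mkQ (Submodule.injective_subtype _)
    (LinearMap.exact_subtype_mkQ Q') (Submodule.mkQ_surjective _) h1 h2

end Pres

section Flat

/-- If `0 → A → B → C → 0` is exact with `C` flat, then `Q ⊗ A → Q ⊗ B` is injective. -/
theorem lTensor_injective_of_exact_of_flat {R : Type u} [CommRing R] {A B C : Type*}
    [AddCommGroup A] [Module R A] [AddCommGroup B] [Module R B] [AddCommGroup C] [Module R C]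
    [Module.Flat R C] (f : A →ₗ[R] B) (g : B →ₗ[R] C) (hf : Injective f) (hfg : Exact f g)
    (hg : Surjective g) (Q : Type u) [AddCommGroup Q] [Module R Q] :
    Injective (f.lTensor Q) :=
  lTensor_injective_of_exact_of_exact_of_rTensor_injective (pres_exact R Q)
    (presπ_surjective R Q) hfg hg
    (Module.Flat.rTensor_preserves_injective_linearMap _ (presι_injective R Q))
    (Module.Flat.lTensor_preserves_injective_linearMap _ hf)

end Flat

section BaseChange

variable {R : Type*} [CommRing R] (R' : Type*) [CommRing R'] [Algebra R R']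

/-- Variant of `lTensor_injective_of_baseChange_injective` with the injectivity over `R'` as a
hypothesis. -/
theorem lTensor_injective_of_baseChange_lTensor_injective
    {N M : Type*} [AddCommGroup N] [Module R N] [AddCommGroup M] [Module R M]
    (Q : Type*) [AddCommGroup Q] [Module R Q] [Module R' Q] [IsScalarTower R R' Q]
    (u : N →ₗ[R] M) (h1 : Injective ((u.baseChange R').lTensor Q)) : Injective (u.lTensor Q) := by
  intro x y hxy
  obtain ⟨x, rfl⟩ := (AlgebraTensorModule.cancelBaseChange R R' R' Q N).surjective x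
  obtain ⟨y, rfl⟩ := (AlgebraTensorModule.cancelBaseChange R R' R' Q N).surjective y
  rw [← cancelBaseChange_lTensor, ← cancelBaseChange_lTensor] at hxy
  rw [h1 ((AlgebraTensorModule.cancelBaseChange R R' R' Q M).injective hxy)]

/-- Injectivity of `f ⊗_R M` is equivalent to injectivity of `f ⊗_{R'} (R' ⊗_R M)`. -/
theorem rTensor_baseChange_injective_iff
    {A B : Type*} [AddCommGroup A] [Module R A] [Module R' A] [IsScalarTower R R' A]
    [AddCommGroup B] [Module R B] [Module R' B] [IsScalarTower R R' B]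
    (M : Type*) [AddCommGroup M] [Module R M] (f : A →ₗ[R'] B) :
    Injective (f.rTensor (R' ⊗[R] M)) ↔ Injective ((f.restrictScalars R).rTensor M) := by
  constructor
  · intro h1 x y hxy
    obtain ⟨x, rfl⟩ := (AlgebraTensorModule.cancelBaseChange R R' R' A M).surjective x
    obtain ⟨y, rfl⟩ := (AlgebraTensorModule.cancelBaseChange R R' R' A M).surjective y
    rw [← cancelBaseChange_rTensor, ← cancelBaseChange_rTensor] at hxy
    rw [h1 ((AlgebraTensorModule.cancelBaseChange R R' R' B M).injective hxy)]
  · intro h1 x y hxy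
    apply (AlgebraTensorModule.cancelBaseChange R R' R' A M).injective
    apply h1
    rw [← cancelBaseChange_rTensor, ← cancelBaseChange_rTensor, hxy]

end BaseChange

section LCNil

variable {R : Type u} [CommRing R] {M : Type u} [AddCommGroup M] [Module R M]

/-- Step 1: if `I ⊗ M → M` is injective and `M/IM` is flat over `R/I`, then `Tor₁(Q, M) = 0` for
every `Q` killed by `I`. -/
theorem TorVanish.of_smul_eq_bot (I : Ideal R) (H1 : Injective (I.subtype.rTensor M))
    [H2 : Module.Flat (R ⧸ I) ((R ⧸ I) ⊗[R] M)]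
    (Q : Type u) [AddCommGroup Q] [Module R Q] (hQ : I • (⊤ : Submodule R Q) = ⊥) :
    TorVanish R M Q := by
  -- Tor₁(R/I, M) = 0
  have h0 : TorVanish R M (R ⧸ I) :=
    TorVanish.of_presentation I.subtype I.mkQ (LinearMap.exact_subtype_mkQ I)
      (Submodule.mkQ_surjective _) H1
  -- `Q` is an `R/I`-module
  have hT : Module.IsTorsionBySet R Q I := by
    intro x a
    have : (a : R) • x ∈ I • (⊤ : Submodule R Q) :=
      Submodule.smul_mem_smul a.2 Submodule.mem_top
    rw [hQ] at this
    exact this
  let _ : Module (R ⧸ I) Q := hT.module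
  have : IsScalarTower R (R ⧸ I) Q := hT.isScalarTower
  -- the base-changed presentation is exact with flat cokernel
  have hinj : Injective ((presι R M).baseChange (R ⧸ I)) := h0
  have hex : Exact ((presι R M).baseChange (R ⧸ I)) ((presπ R M).baseChange (R ⧸ I)) :=
    lTensor_exact (R ⧸ I) (pres_exact R M) (presπ_surjective R M)
  have hsurj : Surjective ((presπ R M).baseChange (R ⧸ I)) :=
    LinearMap.lTensor_surjective (R ⧸ I) (presπ_surjective R M)
  have h1 : Injective (((presι R M).baseChange (R ⧸ I)).lTensor Q) :=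
    lTensor_injective_of_exact_of_flat _ _ hinj hex hsurj Q
  exact lTensor_injective_of_baseChange_lTensor_injective (R ⧸ I) Q (presι R M) h1

/-- Nilpotent local criterion: if `I ⊗ M → M` is injective and `M/IM` is flat over `R/I`,
then `Tor₁(Q, M) = 0` for every `Q` killed by a power of `I`. -/
theorem TorVanish.of_pow_smul_eq_bot (I : Ideal R) (H1 : Injective (I.subtype.rTensor M))
    [H2 : Module.Flat (R ⧸ I) ((R ⧸ I) ⊗[R] M)] (n : ℕ)
    (Q : Type u) [AddCommGroup Q] [Module R Q] (hQ : I ^ n • (⊤ : Submodule R Q) = ⊥) :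
    TorVanish R M Q := by
  refine devissage_pow I (fun Q _ _ => TorVanish R M Q) ?_ ?_ n Q hQ
  · intro Q _ _ hQ
    exact TorVanish.of_smul_eq_bot I H1 Q hQ
  · intro Q _ _ Q' h1 h2
    exact TorVanish.of_extension Q' h1 h2

/-- If `Tor₁(Q, M) = 0` for all `Q` killed by `J`, then `M/JM` is flat over `R/J`. -/
theorem flat_quotient_of_torVanish (J : Ideal R)
    (h : ∀ (Q : Type u) [AddCommGroup Q] [Module R Q],
      J • (⊤ : Submodule R Q) = ⊥ → TorVanish R M Q) :
    Module.Flat (R ⧸ J) ((R ⧸ J) ⊗[R] M) := by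
  rw [Module.Flat.iff_rTensor_injective']
  intro 𝔟
  rw [rTensor_baseChange_injective_iff]
  have hQ : J • (⊤ : Submodule R ((R ⧸ J) ⧸ 𝔟)) = ⊥ := by
    rw [eq_bot_iff]
    intro x hx
    refine Submodule.smul_induction_on hx ?_ ?_
    · intro a ha y _
      rw [Submodule.mem_bot, ← algebraMap_smul (R ⧸ J) a y, Ideal.Quotient.algebraMap_eq,
        Ideal.Quotient.eq_zero_iff_mem.mpr ha, zero_smul]
    · intro x y hx hy
      exact Submodule.add_mem _ hx hy
  exact (h _ hQ).rTensor_injective (𝔟.subtype.restrictScalars R) (𝔟.mkQ.restrictScalars R)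
    (Submodule.injective_subtype _) (LinearMap.exact_subtype_mkQ 𝔟) (Submodule.mkQ_surjective _)

/-- If `Tor₁(Q, M) = 0` for all `Q`, then `M` is flat. -/
theorem flat_of_torVanish
    (h : ∀ (Q : Type u) [AddCommGroup Q] [Module R Q], TorVanish R M Q) :
    Module.Flat R M := by
  rw [Module.Flat.iff_rTensor_injective']
  intro 𝔟
  exact (h (R ⧸ 𝔟)).rTensor_injective 𝔟.subtype 𝔟.mkQ
    (Submodule.injective_subtype _) (LinearMap.exact_subtype_mkQ 𝔟) (Submodule.mkQ_surjective _)

/-- Local criterion of flatness for a nilpotent ideal. -/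
theorem flat_of_isNilpotent (I : Ideal R) (hI : IsNilpotent I)
    (H1 : Injective (I.subtype.rTensor M))
    [H2 : Module.Flat (R ⧸ I) ((R ⧸ I) ⊗[R] M)] : Module.Flat R M := by
  obtain ⟨n, hn⟩ := hI
  apply flat_of_torVanish
  intro Q _ _
  apply TorVanish.of_pow_smul_eq_bot I H1 n Q
  rw [hn]
  exact Submodule.bot_smul _

/-- `(3) ⇒ (5)` of the local criterion: `M/IⁿM` is flat over `R/Iⁿ`. -/
theorem flat_quotient_pow (I : Ideal R) (H1 : Injective (I.subtype.rTensor M))
    [H2 : Module.Flat (R ⧸ I) ((R ⧸ I) ⊗[R] M)] (n : ℕ) :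
    Module.Flat (R ⧸ I ^ n) ((R ⧸ I ^ n) ⊗[R] M) := by
  apply flat_quotient_of_torVanish
  intro Q _ _ hQ
  exact TorVanish.of_pow_smul_eq_bot I H1 n Q hQ

end LCNil

section MapIdeal

variable {R S M : Type*} [CommRing R] [CommRing S] [Algebra R S] [AddCommGroup M] [Module R M]
  [Module S M] [IsScalarTower R S M]

/-- If `M` is an `S`-module which is flat over `R`, then `IS ⊗_S M → M` is injective. -/
theorem rTensor_map_subtype_injective_of_flat [Module.Flat R M] (I : Ideal R) :
    Injective ((I.map (algebraMap R S)).subtype.rTensor M) := by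
  classical
  set J : Ideal S := I.map (algebraMap R S) with hJ
  -- the map `I → J`
  let ι : I →ₗ[R] J :=
    { toFun := fun a => ⟨algebraMap R S a, Ideal.mem_map_of_mem _ a.2⟩
      map_add' := fun a b => by ext; simp
      map_smul' := fun r a => by ext; simp [Algebra.smul_def] }
  let ψ : J ⊗[R] M →ₗ[R] J ⊗[S] M := mapOfCompatibleSMul S R R J M
  let φ : I ⊗[R] M →ₗ[R] J ⊗[S] M := ψ ∘ₗ ι.rTensor M
  have hφ : ∀ (a : I) (m : M), φ (a ⊗ₜ m) = (ι a) ⊗ₜ[S] m := fun a m => rfl
  -- surjectivity of φ
  have hsurj : ∀ (j : S) (hj : j ∈ J) (m : M), ∃ z, φ z = (⟨j, hj⟩ : J) ⊗ₜ[S] m := by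
    intro j hj
    induction hj using Submodule.span_induction with
    | mem j hj =>
      obtain ⟨a, ha, rfl⟩ := hj
      intro m
      exact ⟨(⟨a, ha⟩ : I) ⊗ₜ m, rfl⟩
    | zero =>
      intro m
      refine ⟨0, ?_⟩
      rw [map_zero]
      exact (zero_tmul _ m).symm
    | add j₁ j₂ h₁ h₂ ih₁ ih₂ =>
      intro m
      obtain ⟨z₁, hz₁⟩ := ih₁ m
      obtain ⟨z₂, hz₂⟩ := ih₂ m
      refine ⟨z₁ + z₂, ?_⟩
      rw [map_add, hz₁, hz₂, ← add_tmul]
      rfl
    | smul s j h ih =>
      intro m
      obtain ⟨z, hz⟩ := ih (s • m)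
      refine ⟨z, ?_⟩
      rw [hz, ← smul_tmul]
      rfl
  have hsurj' : Surjective φ := by
    intro x
    induction x using TensorProduct.induction_on with
    | zero => exact ⟨0, map_zero _⟩
    | tmul j m => exact hsurj j.1 j.2 m
    | add x y hx hy =>
      obtain ⟨x', rfl⟩ := hx
      obtain ⟨y', rfl⟩ := hy
      exact ⟨x' + y', map_add _ _ _⟩
  -- compatibility
  have hcomp : ∀ z : I ⊗[R] M,
      TensorProduct.lid S M (J.subtype.rTensor M (φ z)) =
        TensorProduct.lid R M (I.subtype.rTensor M z) := by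
    intro z
    induction z using TensorProduct.induction_on with
    | zero => simp
    | tmul a m =>
      rw [hφ]
      simp [ι]
    | add x y hx hy => simp only [map_add, hx, hy]
  rw [injective_iff_map_eq_zero]
  intro x hx
  obtain ⟨z, rfl⟩ := hsurj' x
  have h1 := hcomp z
  rw [hx, map_zero] at h1
  have h2 : I.subtype.rTensor M z = 0 := (TensorProduct.lid R M).injective (by rw [← h1, map_zero])
  have h3 : z = 0 :=
    (Module.Flat.rTensor_preserves_injective_linearMap (M := M) I.subtype
      (Submodule.injective_subtype _)) (by rw [h2, map_zero])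
  rw [h3, map_zero]

end MapIdeal

section FiveToOne

variable {R S M : Type u} [CommRing R] [IsNoetherianRing R] [CommRing S] [IsNoetherianRing S]
  [Algebra R S] [AddCommGroup M] [Module R M] [Module S M] [IsScalarTower R S M]
  [Module.Finite S M]

omit [IsNoetherianRing R] [IsNoetherianRing S] [Module.Finite S M] in
/-- Key step of `(5) ⇒ (1)`: the kernel of `M ⊗ 𝔞 → M` is contained in the image of
`M ⊗ (𝔞 ∩ J) → M ⊗ 𝔞` when `M/JM` is flat over `R/J`. -/
theorem mem_range_lTensor_of_flat_quotient (J : Ideal R)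
    [Module.Flat (R ⧸ J) ((R ⧸ J) ⊗[R] M)] (𝔞 : Ideal R) (x : M ⊗[R] 𝔞)
    (hx : 𝔞.subtype.lTensor M x = 0) :
    x ∈ LinearMap.range
      ((Submodule.comap 𝔞.subtype (J.restrictScalars R)).subtype.lTensor M) := by
  classical
  set 𝔟 : Ideal (R ⧸ J) := 𝔞.map (Ideal.Quotient.mk J) with h𝔟
  let γ : 𝔞 →ₗ[R] 𝔟 :=
    { toFun := fun a => ⟨Ideal.Quotient.mk J a, Ideal.mem_map_of_mem _ a.2⟩
      map_add' := fun a b => by ext; simp
      map_smul' := fun r a => by ext; simp [Algebra.smul_def] }
  have hγsurj : Surjective γ := by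
    rintro ⟨b, hb⟩
    obtain ⟨a, ha, rfl⟩ := (Ideal.mem_map_iff_of_surjective _ Ideal.Quotient.mk_surjective).mp hb
    exact ⟨⟨a, ha⟩, rfl⟩
  have hker : LinearMap.ker γ = Submodule.comap 𝔞.subtype (J.restrictScalars R) := by
    ext a
    rw [LinearMap.mem_ker, Submodule.mem_comap, Submodule.restrictScalars_mem]
    constructor
    · intro h
      have : Ideal.Quotient.mk J a = 0 := congrArg Subtype.val h
      exact Ideal.Quotient.eq_zero_iff_mem.mp this
    · intro h
      apply Subtype.ext
      exact Ideal.Quotient.eq_zero_iff_mem.mpr h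
  -- the commutative square
  have hsq : (𝔟.subtype.restrictScalars R) ∘ₗ γ =
      (Ideal.Quotient.mkₐ R J).toLinearMap ∘ₗ 𝔞.subtype := by
    ext a; rfl
  have hinj : Injective ((𝔟.subtype.restrictScalars R).lTensor M) := by
    rw [LinearMap.lTensor_inj_iff_rTensor_inj]
    exact rTensor_injective_of_flat_baseChange (R ⧸ J) M 𝔟.subtype (Submodule.injective_subtype _)
  have h1 : γ.lTensor M x = 0 := by
    apply hinj
    rw [map_zero, ← LinearMap.comp_apply, ← LinearMap.lTensor_comp, hsq, LinearMap.lTensor_comp,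
      LinearMap.comp_apply, hx, map_zero]
  have hex := lTensor_exact M (LinearMap.exact_subtype_ker_map γ) hγsurj
  have := (hex x).mp h1
  rw [hker] at this
  exact this

omit [IsNoetherianRing R] [IsNoetherianRing S] [Module.Finite S M] in
/-- Elements of `M ⊗ 𝔞` coming from `M ⊗ (Iⁿ 𝔞)` lie in `Iⁿ (M ⊗ 𝔞)`. -/
theorem range_lTensor_le_smul_top (K : Ideal R) (𝔞 : Ideal R) (L : Submodule R 𝔞)
    (hL : ∀ c ∈ L, (c : R) ∈ K • 𝔞) :
    LinearMap.range (L.subtype.lTensor M) ≤ K • (⊤ : Submodule R (M ⊗[R] 𝔞)) := by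
  rintro _ ⟨y, rfl⟩
  induction y using TensorProduct.induction_on with
  | zero => simp
  | add x y hx hy =>
    rw [map_add]
    exact Submodule.add_mem _ hx hy
  | tmul m c =>
    rw [LinearMap.lTensor_tmul]
    have hc : (c : 𝔞) ∈ K • (⊤ : Submodule R 𝔞) := by
      have h1 : ((c : 𝔞) : R) ∈ K • 𝔞 := hL c c.2
      have h2 : Submodule.map 𝔞.subtype (K • (⊤ : Submodule R 𝔞)) = K • 𝔞 := by
        rw [Submodule.map_smul'', Submodule.map_top, Submodule.range_subtype]
      rw [← h2] at h1
      obtain ⟨c', hc', hcc'⟩ := h1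
      have : c' = (c : 𝔞) := Subtype.ext hcc'
      rw [← this]
      exact hc'
    suffices hsuff : ∀ c' ∈ K • (⊤ : Submodule R 𝔞),
        m ⊗ₜ[R] c' ∈ K • (⊤ : Submodule R (M ⊗[R] 𝔞)) from hsuff _ hc
    intro c' hc'
    refine Submodule.smul_induction_on hc' ?_ ?_
    · intro a ha b _
      rw [tmul_smul]
      exact Submodule.smul_mem_smul ha Submodule.mem_top
    · intro b₁ b₂ h₁ h₂
      rw [tmul_add]
      exact Submodule.add_mem _ h₁ h₂

/-- `(5) ⇒ (1)` in the local criterion of flatness. -/
theorem flat_of_flat_quotient_pow (I : Ideal R)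
    (hI : I.map (algebraMap R S) ≤ Ideal.jacobson ⊥)
    (h : ∀ n, 0 < n → Module.Flat (R ⧸ I ^ n) ((R ⧸ I ^ n) ⊗[R] M)) : Module.Flat R M := by
  classical
  rw [Module.Flat.iff_lTensor_injective']
  intro 𝔞
  rw [injective_iff_map_eq_zero]
  intro x hx
  -- `M ⊗ 𝔞` is a finite `S`-module
  have : Module.Finite S (M ⊗[R] 𝔞) :=
    Module.Finite.equiv (AlgebraTensorModule.cancelBaseChange R S S M 𝔞)
  have hkrull := Ideal.iInf_pow_smul_eq_bot_of_le_jacobson (R := S) (M := M ⊗[R] 𝔞)
    (I.map (algebraMap R S)) hI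
  have hmem : x ∈ (⨅ i : ℕ, (I.map (algebraMap R S)) ^ i • ⊤ : Submodule S (M ⊗[R] 𝔞)) := by
    rw [Submodule.mem_iInf]
    intro n
    have hrs : ((I.map (algebraMap R S)) ^ n • (⊤ : Submodule S (M ⊗[R] 𝔞))).restrictScalars R =
        I ^ n • (⊤ : Submodule R (M ⊗[R] 𝔞)) := by
      rw [← Ideal.map_pow, Ideal.smul_restrictScalars, Submodule.restrictScalars_top]
    have : x ∈ ((I.map (algebraMap R S)) ^ n • (⊤ : Submodule S (M ⊗[R] 𝔞))).restrictScalars R := by
      rw [hrs]
      -- Artin–Rees
      obtain ⟨k, hk⟩ := Ideal.exists_pow_inf_eq_pow_smul I (𝔞 : Submodule R R)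
      have hAR : I ^ (n + k + 1) ⊓ 𝔞 ≤ I ^ n • 𝔞 := by
        have := hk (n + k + 1) (by omega)
        rw [show n + k + 1 - k = n + 1 by omega] at this
        have e1 : I ^ (n + k + 1) • (⊤ : Submodule R R) = I ^ (n + k + 1) := by
          rw [Ideal.smul_eq_mul, Ideal.mul_top]
        rw [e1] at this
        rw [this]
        exact Submodule.smul_mono (Ideal.pow_le_pow_right (Nat.le_succ n)) inf_le_right
      have := h (n + k + 1) (Nat.succ_pos _)
      have h1 := mem_range_lTensor_of_flat_quotient (M := M) (I ^ (n + k + 1)) 𝔞 x hx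
      refine range_lTensor_le_smul_top (I ^ n) 𝔞 _ ?_ h1
      intro c hc
      rw [Submodule.mem_comap, Submodule.restrictScalars_mem] at hc
      exact hAR ⟨hc, c.2⟩
    exact this
  rw [hkrull] at hmem
  exact hmem

end FiveToOne

section Localized

variable {R S : Type*} [CommRing R] [CommRing S] [Algebra R S]
  {M M' : Type*} [AddCommGroup M] [Module R M] [Module S M] [IsScalarTower R S M]
  [AddCommGroup M'] [Module R M'] [Module S M'] [IsScalarTower R S M']
  (p : Submonoid S) (g : M →ₗ[S] M') [IsLocalizedModule p g]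

include p g in
/-- Localizing the module preserves injectivity of `M ⊗ f`. -/
theorem lTensor_injective_of_isLocalizedModule {N P : Type*} [AddCommGroup N] [Module R N]
    [AddCommGroup P] [Module R P] (f : N →ₗ[R] P) (h : Injective (f.lTensor M)) :
    Injective (f.lTensor M') := by
  have h1 : Injective (AlgebraTensorModule.lTensor S M f) := h
  have h2 := IsLocalizedModule.map_injective p (AlgebraTensorModule.rTensor R N g)
    (AlgebraTensorModule.rTensor R P g) (AlgebraTensorModule.lTensor S M f) h1
  rw [IsLocalizedModule.map_lTensor] at h2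
  exact h2

include p g in
/-- If `A ⊗ M` is flat over `A` then so is `A ⊗ M'` for a localization `M'` of `M`. -/
theorem flat_baseChange_of_isLocalizedModule (A : Type*) [CommRing A] [Algebra R A]
    [Module.Flat A (A ⊗[R] M)] : Module.Flat A (A ⊗[R] M') := by
  rw [Module.Flat.iff_rTensor_injective']
  intro 𝔟
  rw [rTensor_baseChange_injective_iff, ← LinearMap.lTensor_inj_iff_rTensor_inj]
  apply lTensor_injective_of_isLocalizedModule p g
  rw [LinearMap.lTensor_inj_iff_rTensor_inj, ← rTensor_baseChange_injective_iff]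
  exact Module.Flat.rTensor_preserves_injective_linearMap _ (Submodule.injective_subtype _)

end Localized

end Groth.Agent.Helper29.H1Copy
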