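import Mathlib
import Groth.Agent.Lib.Helper29.H1LocalCriterion

/-!
# Flatness over a ring with a square-zero principal ideal (e.g. dual numbers)
-/

open TensorProduct

namespace Groth.Agent.Helper29.DualFlat

theorem flat_of_semilinear_bijective {B A : Type*} [CommRing B] [CommRing A] (σ : B →+* A)
    (hσ : Function.Bijective σ) {N : Type*} [AddCommGroup N] [Module B N]
    {P : Type*} [AddCommGroup P] [Module A P] [Module.Flat A P]
    (Θ : N →+ P) (hΘ : Function.Bijective Θ) (hsl : ∀ (b : B) (n : N), Θ (b • n) = σ b • Θ n) :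
    Module.Flat B N := by
  apply Module.Flat.of_forall_isTrivialRelation
  intro l f x hfx
  have h1 : ∑ i, (σ (f i)) • Θ (x i) = 0 := by
    have := congrArg Θ hfx
    rw [map_sum, map_zero] at this
    simpa only [hsl] using this
  obtain ⟨κ, a, y, hxy, hay⟩ := Module.Flat.isTrivialRelation_of_sum_smul_eq_zero
    (R := A) (M := P) (f := fun i => σ (f i)) (x := fun i => Θ (x i)) h1
  obtain ⟨σinv, _, hr⟩ := Function.bijective_iff_has_inverse.1 hσ
  obtain ⟨Θinv, _, hr'⟩ := Function.bijective_iff_has_inverse.1 hΘ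
  refine ⟨κ, fun i j => σinv (a i j), fun j => Θinv (y j), ?_, ?_⟩
  · intro i
    apply hΘ.1
    rw [map_sum]
    have := hxy i
    simp only [hsl, hr _, hr' _]
    exact this
  · intro j
    apply hσ.1
    rw [map_sum, map_zero]
    simp only [map_mul, hr _]
    exact hay j

universe u

theorem flat_of_quotient_flat {Λ A : Type u} [CommRing Λ] [CommRing A] (π : Λ →+* A)
    (hπ : Function.Surjective π) (e : Λ) (he : RingHom.ker π = Ideal.span {e}) (hee : e * e = 0)
    {M : Type u} [AddCommGroup M] [Module Λ M]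
    {P : Type u} [AddCommGroup P] [Module A P] [Module.Flat A P]
    (θ : M →+ P) (hθs : Function.Surjective θ) (hθl : ∀ (l : Λ) (m : M), θ (l • m) = π l • θ m)
    (hθk : ∀ m, θ m = 0 → ∃ m', m = e • m')
    (hb : ∀ m : M, e • m = 0 → ∃ m', m = e • m') : Module.Flat Λ M := by
  obtain ⟨I, hI⟩ : ∃ I : Ideal Λ, I = Ideal.span {e} := ⟨_, rfl⟩
  have heI : e ∈ I := by rw [hI]; exact Ideal.mem_span_singleton_self e
  have hnil : IsNilpotent I := ⟨2, by
    rw [hI, Ideal.span_singleton_pow, pow_two, hee, Ideal.zero_eq_bot]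
    exact Ideal.span_singleton_eq_bot.2 rfl⟩
  have H1 : Function.Injective (I.subtype.rTensor M) := by
    have hgen : ∀ z : ↥I ⊗[Λ] M, ∃ m : M, z = (⟨e, heI⟩ : ↥I) ⊗ₜ[Λ] m := by
      intro z
      induction z using TensorProduct.induction_on with
      | zero => exact ⟨0, by rw [TensorProduct.tmul_zero]⟩
      | tmul i m =>
        obtain ⟨i, hi⟩ := i
        have hi' := hi
        rw [hI] at hi'
        obtain ⟨l, rfl⟩ := Ideal.mem_span_singleton'.1 hi'
        refine ⟨l • m, ?_⟩
        rw [← TensorProduct.smul_tmul]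
        have : (⟨l * e, hi⟩ : ↥I) = l • (⟨e, heI⟩ : ↥I) := Subtype.ext rfl
        rw [this]
      | add z w hz hw =>
        obtain ⟨m, rfl⟩ := hz
        obtain ⟨m', rfl⟩ := hw
        exact ⟨m + m', by rw [TensorProduct.tmul_add]⟩
    rw [injective_iff_map_eq_zero]
    intro z hz
    obtain ⟨m, rfl⟩ := hgen z
    rw [LinearMap.rTensor_tmul, Submodule.subtype_apply] at hz
    have hz' : e • m = 0 := by
      have := congrArg (TensorProduct.lid Λ M) hz
      simpa using this
    obtain ⟨m', rfl⟩ := hb m hz'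
    rw [← TensorProduct.smul_tmul]
    have : e • (⟨e, heI⟩ : ↥I) = 0 := Subtype.ext (by simpa using hee)
    rw [this, TensorProduct.zero_tmul]
  have H2 : Module.Flat (Λ ⧸ I) ((Λ ⧸ I) ⊗[Λ] M) := by
    let _ : Module Λ P := Module.compHom P π
    have hsmul : ∀ (l : Λ) (q : P), l • q = π l • q := fun _ _ => rfl
    let θ' : M →ₗ[Λ] P :=
      { toFun := θ
        map_add' := θ.map_add
        map_smul' := fun l m => by rw [RingHom.id_apply, hsmul]; exact hθl l m }
    have hσker : ∀ a ∈ I, π a = 0 := fun a ha => by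
      rw [← RingHom.mem_ker, he, ← hI]; exact ha
    have hker : I • (⊤ : Submodule Λ M) ≤ LinearMap.ker θ' := by
      rw [Submodule.smul_le]
      intro l hl m _
      rw [LinearMap.mem_ker]
      change θ (l • m) = 0
      rw [hθl, hσker l hl, zero_smul]
    let θbar : (M ⧸ (I • ⊤ : Submodule Λ M)) →ₗ[Λ] P := Submodule.liftQ _ θ' hker
    let Θ : (Λ ⧸ I) ⊗[Λ] M →ₗ[Λ] P :=
      θbar ∘ₗ (TensorProduct.quotTensorEquivQuotSMul M I).toLinearMap
    let σ : Λ ⧸ I →+* A := Ideal.Quotient.lift I π hσker
    have hσ : Function.Bijective σ := by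
      constructor
      · rw [injective_iff_map_eq_zero]
        intro b hb'
        obtain ⟨l, rfl⟩ := Ideal.Quotient.mk_surjective b
        rw [Ideal.Quotient.lift_mk] at hb'
        rw [Ideal.Quotient.eq_zero_iff_mem, hI, ← he, RingHom.mem_ker]; exact hb'
      · intro a
        obtain ⟨l, rfl⟩ := hπ a
        exact ⟨Ideal.Quotient.mk I l, Ideal.Quotient.lift_mk _ _ _⟩
    refine flat_of_semilinear_bijective σ hσ Θ.toAddMonoidHom ?_ ?_
    · constructor
      · have : Function.Injective θbar := by
          rw [← LinearMap.ker_eq_bot]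
          apply Submodule.ker_liftQ_eq_bot
          intro m hm
          obtain ⟨m', rfl⟩ := hθk m hm
          exact Submodule.smul_mem_smul heI Submodule.mem_top
        exact this.comp (TensorProduct.quotTensorEquivQuotSMul M I).injective
      · have : Function.Surjective θbar := by
          intro q
          obtain ⟨m, rfl⟩ := hθs q
          exact ⟨Submodule.Quotient.mk m, rfl⟩
        exact this.comp (TensorProduct.quotTensorEquivQuotSMul M I).surjective
    · intro b n
      obtain ⟨l, rfl⟩ := Ideal.Quotient.mk_surjective b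
      change Θ ((Ideal.Quotient.mk I l) • n) = σ (Ideal.Quotient.mk I l) • Θ n
      have : (Ideal.Quotient.mk I l) • n = l • n := by
        change algebraMap Λ (Λ ⧸ I) l • n = l • n
        rw [algebraMap_smul]
      rw [this, map_smul, Ideal.Quotient.lift_mk, hsmul]
  exact Groth.Agent.Helper29.H1Copy.flat_of_isNilpotent I hnil H1

end Groth.Agent.Helper29.DualFlat
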