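import Mathlib

/-!
# Homology commutes with colimits of shape `J` when `colim_J` is exact
-/
set_option autoImplicit false
universe w w' v u t

open CategoryTheory CategoryTheory.Limits HomologicalComplex

namespace Groth.Agent.Helper29.HomColim

variable {A : Type u} [Category.{v} A] [Abelian A] {ι : Type t} (c : ComplexShape ι)
  {J : Type w} [Category.{w'} J] [HasColimitsOfShape J A] [HasExactColimitsOfShape J A]
  (F : J ⥤ HomologicalComplex A c) (i : ι)

/-- the short complex of functors `F_{i-1} ⟶ F_i ⟶ F_{i+1}` -/
@[simps]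
noncomputable def sc' : ShortComplex (J ⥤ A) where
  X₁ := F ⋙ eval A c (c.prev i)
  X₂ := F ⋙ eval A c i
  X₃ := F ⋙ eval A c (c.next i)
  f := { app := fun j => (F.obj j).d (c.prev i) i
         naturality := fun j j' u => (F.map u).comm _ _ }
  g := { app := fun j => (F.obj j).d i (c.next i)
         naturality := fun j j' u => (F.map u).comm _ _ }
  zero := by ext j; exact (F.obj j).d_comp_d _ _ _

/-- the natural transformation `ev_j ⟶ colim` -/
@[simps]
noncomputable def ρ (j : J) : (evaluation J A).obj j ⟶ (colim : (J ⥤ A) ⥤ A) where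
  app G := colimit.ι G j
  naturality G G' α := by simp

instance : PreservesFiniteColimits (colim : (J ⥤ A) ⥤ A) :=
  ⟨fun _ => inferInstance⟩

/-- pointwise computation of the homology of `sc'` -/
noncomputable def νApp (j : J) :
    (F ⋙ homologyFunctor A c i).obj j ≅ (sc' c F i).homology.obj j :=
  (sc' c F i).mapHomologyIso ((evaluation J A).obj j)

lemma νApp_naturality {j j' : J} (u : j ⟶ j') :
    (F ⋙ homologyFunctor A c i).map u ≫ (νApp c F i j').hom =
      (νApp c F i j).hom ≫ (sc' c F i).homology.map u := by
  have h : (sc' c F i).homology.map u =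
      (νApp c F i j).inv ≫ (F ⋙ homologyFunctor A c i).map u ≫ (νApp c F i j').hom :=
    NatTrans.app_homology ((evaluation J A).map u) (sc' c F i)
  rw [h, Iso.hom_inv_id_assoc]

/-- pointwise computation of the homology of `sc'` -/
noncomputable def ν : F ⋙ homologyFunctor A c i ≅ (sc' c F i).homology :=
  NatIso.ofComponents (fun j => νApp c F i j) (fun u => νApp_naturality c F i u)

/-- the homology of the explicit colimit complex -/
noncomputable def μ : (coconeOfHasColimitEval F).pt.homology i ≅
    colimit (sc' c F i).homology :=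
  (sc' c F i).mapHomologyIso (colim : (J ⥤ A) ⥤ A)

lemma μ_spec (j : J) :
    (homologyFunctor A c i).map ((coconeOfHasColimitEval F).ι.app j) =
      (νApp c F i j).hom ≫ colimit.ι (sc' c F i).homology j ≫ (μ c F i).inv :=
  ShortComplex.homologyMap_mapNatTrans (sc' c F i) (ρ j)

/-- the homology functor preserves the explicit colimit cocone -/
noncomputable def isColimitMapCocone :
    IsColimit ((homologyFunctor A c i).mapCocone (coconeOfHasColimitEval F)) := by
  refine IsColimit.ofIsoColimit ((IsColimit.precomposeHomEquiv (ν c F i) _).symm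
    (colimit.isColimit (sc' c F i).homology)) ?_
  refine Cocone.ext (μ c F i).symm (fun j => ?_)
  rw [Functor.mapCocone_ι_app, μ_spec]
  exact Category.assoc _ _ _

instance preservesColimitsOfShape_homologyFunctor :
    PreservesColimitsOfShape J (homologyFunctor A c i) :=
  ⟨fun {F} => preservesColimit_of_preserves_colimit_cocone (isColimitCoconeOfHasColimitEval F)
    (isColimitMapCocone c F i)⟩

section Seq

variable {A : Type u} [Category.{v} A] [Abelian A] [HasColimitsOfShape ℕ A]
  [HasExactColimitsOfShape ℕ A]

/-- a cocone map out of a sequential colimit of complexes, whose components are eventually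
quasi-isomorphisms in each degree, is a quasi-isomorphism -/
theorem quasiIso_of_eventually (F : ℕ ⥤ CochainComplex A ℤ) {cc : Cocone F} (hcc : IsColimit cc)
    {G : CochainComplex A ℤ} (c : cc.pt ⟶ G)
    (h : ∀ i : ℤ, ∃ N : ℕ, ∀ n, N ≤ n → QuasiIsoAt (cc.ι.app n ≫ c) i) : QuasiIso c := by
  rw [quasiIso_iff]
  intro i
  rw [quasiIsoAt_iff_isIso_homologyMap]
  obtain ⟨N, hN⟩ := h i
  let H := homologyFunctor A (ComplexShape.up ℤ) i
  have hc₁ : IsColimit (H.mapCocone cc) := isColimitOfPreserves H hcc
  let c₂ : Cocone (F ⋙ H) := H.mapCocone (cc.extend c)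
  have hiso : ∀ n, N ≤ n → IsIso (c₂.ι.app n) := fun n hn => by
    have := hN n hn
    rw [quasiIsoAt_iff_isIso_homologyMap] at this
    exact this
  have hconst : (F ⋙ H).IsEventuallyConstantFrom N := fun j f => by
    haveI := hiso j (leOfHom f)
    haveI := hiso N le_rfl
    haveI : IsIso ((F ⋙ H).map f ≫ c₂.ι.app j) := by
      rw [c₂.w f]; infer_instance
    exact IsIso.of_isIso_comp_right ((F ⋙ H).map f) (c₂.ι.app j)
  haveI := hiso N le_rfl
  have hc₂ : IsColimit c₂ := hconst.isColimitOfIsIso c₂
  have heq : homologyMap c i = (hc₁.coconePointUniqueUpToIso hc₂).hom := by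
    refine hc₁.hom_ext (fun n => ?_)
    have e := IsColimit.comp_coconePointUniqueUpToIso_hom hc₁ hc₂ n
    refine Eq.trans ?_ e.symm
    change H.map (cc.ι.app n) ≫ H.map c = H.map (cc.ι.app n ≫ c)
    rw [← H.map_comp]
  rw [heq]
  infer_instance

end Seq

end Groth.Agent.Helper29.HomColim
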