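import Mathlib
import Groth.Prelude.Def_ModSite2
import Groth.Prelude.Def_DCoh4
import Groth.Agent.Lib.Helper13.DualFinLocFree

/-!
# The sheaf-Hom functor `homFun D = 𝓗om(D, -)` on a scheme, its adjunction with `- ⊗ D`, and the
comparison with the chosen right adjoints `ModSite.sheafHom` and `DCoh.sheafHom`.
-/

set_option autoImplicit false
set_option maxHeartbeats 400000
universe u
open CategoryTheory CategoryTheory.Limits AlgebraicGeometry Opposite TopologicalSpace TensorProduct
open Groth.Agent.Helper13.QCoh Groth.Agent.Helper13.FinType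
open Groth.Agent.Helper13.Tensor Groth.Agent.Helper13.TensorFunctor RefHull
open Groth.Agent.Lead.HomSh Groth.Agent.Helper13.HomShAff Groth.Agent.Helper13.TensorHom

namespace Groth.Agent.Helper29.SHomA

variable {X : Scheme.{u}}

/-- the tensor-hom bijection. -/
noncomputable def homEquiv (D B I : X.Modules) :
    (CohB1.tensorMod B D ⟶ I) ≃ (B ⟶ homSh D I) where
  toFun := curry
  invFun := uncurry
  left_inv h := uncurry_curry h
  right_inv _ := uncurry_injective _ _ (uncurry_curry _)

lemma homEquiv_naturality (D : X.Modules) {B' B I : X.Modules} (f : B' ⟶ B)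
    (g : CohB1.tensorMod B D ⟶ I) :
    homEquiv D B' I ((tensorRight D).map f ≫ g) = f ≫ homEquiv D B I g := by
  apply (homEquiv D B' I).symm.injective
  rw [Equiv.symm_apply_apply]
  change _ = uncurry (f ≫ curry g)
  rw [uncurry_comp, uncurry_curry]
  rfl

/-- the sheaf-Hom functor `𝓗om(D, -)`. -/
noncomputable def homFun (D : X.Modules) : X.Modules ⥤ X.Modules :=
  Adjunction.rightAdjointOfEquiv (F := tensorRight D) (G_obj := fun I => homSh D I)
    (fun B I => homEquiv D B I) (fun _ _ _ f g => homEquiv_naturality D f g)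

/-- the adjunction `- ⊗ D ⊣ 𝓗om(D, -)`. -/
noncomputable def adj (D : X.Modules) : tensorRight D ⊣ homFun D :=
  Adjunction.adjunctionOfEquivRight (F := tensorRight D) (G_obj := fun I => homSh D I)
    (fun B I => homEquiv D B I) (fun _ _ _ f g => homEquiv_naturality D f g)

@[simp] lemma homFun_obj (D I : X.Modules) : (homFun D).obj I = homSh D I := rfl

lemma adj_homEquiv (D B I : X.Modules) (g : CohB1.tensorMod B D ⟶ I) :
    (adj D).homEquiv B I g = curry g := by
  unfold adj Adjunction.adjunctionOfEquivRight
  erw [Adjunction.mkOfHomEquiv_homEquiv]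
  rfl

lemma adj_homEquiv_symm (D B I : X.Modules) (k : B ⟶ homSh D I) :
    ((adj D).homEquiv B I).symm k = uncurry k := by
  apply ((adj D).homEquiv B I).injective
  rw [Equiv.apply_symm_apply, adj_homEquiv]
  exact (uncurry_injective _ _ (uncurry_curry _)).symm

/-- the counit of the adjunction is the evaluation map. -/
lemma adj_counit_app (D I : X.Modules) : (adj D).counit.app I = ev D I := by
  have h := adj_homEquiv_symm D (homSh D I) I (𝟙 _)
  rw [Adjunction.homEquiv_symm_apply] at h
  have h2 : (tensorRight D).map (𝟙 ((homFun D).obj I)) = 𝟙 _ := (tensorRight D).map_id _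
  have h3 : (adj D).counit.app I = (tensorRight D).map (𝟙 ((homFun D).obj I)) ≫ (adj D).counit.app I := by
    rw [h2, Category.id_comp]
  rw [h3]
  refine h.trans ?_
  unfold Groth.Agent.Helper13.TensorHom.uncurry
  rw [Groth.Agent.Helper13.Tensor.map_id, Category.id_comp]

/-- the action of `homFun D` on morphisms. -/
lemma homFun_map (D : X.Modules) {I J : X.Modules} (g : I ⟶ J) :
    (homFun D).map g = curry (ev D I ≫ g) := by
  have h := (adj D).homEquiv_naturality_right ((adj D).counit.app I) g
  have h1 : (adj D).homEquiv _ _ ((adj D).counit.app I) = 𝟙 _ := by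
    rw [Adjunction.homEquiv_apply, Adjunction.right_triangle_components]
  rw [h1, Category.id_comp] at h
  rw [← h, adj_counit_app]
  exact adj_homEquiv D _ _ _



lemma tensorBi_map_app (D : X.Modules) {B B' : X.Modules} (f : B ⟶ B') :
    ((DCoh.tensorBi (X := X)).map f).app D = Groth.Agent.Helper13.Tensor.map f (𝟙 D) := by
  unfold Groth.Agent.Helper13.Tensor.map Groth.Agent.Helper13.Tensor.preMap
  erw [MonoidalCategory.tensorHom_id]
  rfl

lemma tensorBi_obj_map (D : X.Modules) {B B' : X.Modules} (f : B ⟶ B') :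
    ((DCoh.tensorBi (X := X)).obj D).map f = Groth.Agent.Helper13.Tensor.map (𝟙 D) f := by
  unfold Groth.Agent.Helper13.Tensor.map Groth.Agent.Helper13.Tensor.preMap
  erw [MonoidalCategory.id_tensorHom]
  rfl

lemma modSite_tensorBi_map_app (D : X.Modules) {B B' : X.Modules} (f : B ⟶ B') :
    ((ModSite.tensorBi X.sheaf).map (show (B : ModSite.Mod X.sheaf) ⟶ B' from f)).app D =
      Groth.Agent.Helper13.Tensor.map f (𝟙 D) := by
  unfold Groth.Agent.Helper13.Tensor.map Groth.Agent.Helper13.Tensor.preMap
  erw [MonoidalCategory.tensorHom_id]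
  rfl


/-- `- ⊗ D` for the ringed-site tensor is `tensorRight D`. -/
noncomputable def tensorRightIso (D : X.Modules) :
    ((ModSite.tensorBi X.sheaf).flip.obj (D : ModSite.Mod X.sheaf) : X.Modules ⥤ X.Modules) ≅
      tensorRight D :=
  NatIso.ofComponents (fun B => Iso.refl _) (fun {B B'} f => by
    refine (Category.comp_id _).trans (Eq.trans ?_ (Category.id_comp _).symm)
    exact modSite_tensorBi_map_app D f)

/-- `D ⊗ -` is isomorphic to `tensorRight D`. -/
noncomputable def tensorLeftIso (D : X.Modules) :
    (DCoh.tensorBi (X := X)).obj D ≅ tensorRight D :=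
  NatIso.ofComponents (fun B => Groth.Agent.Helper13.Tensor.braid D B) (fun {B B'} f => by
    rw [tensorBi_obj_map]
    change Groth.Agent.Helper13.Tensor.map (𝟙 D) f ≫ Groth.Agent.Helper13.Tensor.braidHom D B' =
      Groth.Agent.Helper13.Tensor.braidHom D B ≫ Groth.Agent.Helper13.Tensor.map f (𝟙 D)
    apply Groth.Agent.Helper13.Tensor.hom_ext
    intro U m n
    rw [Scheme.Modules.Hom.comp_app, Scheme.Modules.Hom.comp_app, ConcreteCategory.comp_apply,
      ConcreteCategory.comp_apply, map_app_tmul, braidHom_app_tmul, braidHom_app_tmul, map_app_tmul])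

end Groth.Agent.Helper29.SHomA


namespace Groth.Agent.Helper29.SHomA
variable {X : Scheme.{u}}

/-- the chosen right adjoint of `- ⊗ D` is the concrete sheaf Hom. -/
noncomputable def sheafHomIso (D : X.Modules) [ModSite.HasSheafHom (O := X.sheaf) D] :
    (ModSite.sheafHom (O := X.sheaf) D : X.Modules ⥤ X.Modules) ≅ homFun D :=
  Adjunction.rightAdjointUniq
    ((ModSite.sheafHomAdj (O := X.sheaf) D).ofNatIsoLeft (tensorRightIso D)) (adj D)

/-- the chosen right adjoint of `D ⊗ -` is the concrete sheaf Hom. -/
noncomputable def dSheafHomIso (D : X.Modules) [DCoh.HasSheafHom D] :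
    DCoh.sheafHom D ≅ homFun D :=
  Adjunction.rightAdjointUniq ((DCoh.sheafHomAdj D).ofNatIsoLeft (tensorLeftIso D)) (adj D)

end Groth.Agent.Helper29.SHomA
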