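import Mathlib
import Groth.Agent.Lib.Helper29.SHomA

/-!
# `𝓗om(E, N) ≅ N ⊗ E^∨` for `E` finite locally free, naturally in `N`; exactness of `𝓗om(E, -)`.
-/

set_option autoImplicit false
set_option maxHeartbeats 400000
universe u
open CategoryTheory CategoryTheory.Limits AlgebraicGeometry Opposite TopologicalSpace TensorProduct
open Groth.Agent.Helper13.QCoh Groth.Agent.Helper13.FinType Groth.Agent.Helper13.LocFree
open Groth.Agent.Helper13.Tensor Groth.Agent.Helper13.TensorFunctor RefHull
open Groth.Agent.Lead.HomSh Groth.Agent.Helper13.HomShAff Groth.Agent.Helper13.TensorHom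
open Groth.Agent.Helper13.DualFinLocFree Groth.Agent.Helper29.SHomA

namespace Groth.Agent.Helper29.SHomC

variable {X : Scheme.{u}}

section HomExt3

variable {A B C P : X.Modules}

/-- maps out of a triple tensor product are determined by their values on pure tensors. -/
lemma hom_ext₃ (f g : CohB1.tensorMod (CohB1.tensorMod A B) C ⟶ P)
    (h : ∀ (U : X.Opens) (a : Γ(A, U)) (b : Γ(B, U)) (c : Γ(C, U)),
      f.app U (tmul _ C (tmul A B a b) c) = g.app U (tmul _ C (tmul A B a b) c)) : f = g := by
  rw [← uncurry_curry f, ← uncurry_curry g]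
  congr 1
  apply Groth.Agent.Helper13.Tensor.hom_ext
  intro U a b
  apply Groth.Agent.Lead.HomSh.sec_ext
  intro y
  rw [curry_app_apply, curry_app_apply]
  apply LinearMap.ext
  intro d
  obtain ⟨V, hyV, d₀, rfl⟩ := TopCat.Presheaf.exists_germ_eq C.presheaf d
  have hyW : y.1 ∈ U ⊓ V := ⟨y.2, hyV⟩
  let iU : U ⊓ V ⟶ U := homOfLE inf_le_left
  let iV : U ⊓ V ⟶ V := homOfLE inf_le_right
  have e1 : (CohB1.tensorMod A B).presheaf.germ U y.1 y.2 (tmul A B a b) =
      (CohB1.tensorMod A B).presheaf.germ (U ⊓ V) y.1 hyW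
        (tmul A B (A.presheaf.map iU.op a) (B.presheaf.map iU.op b)) := by
    rw [← tmul_res, TopCat.Presheaf.germ_res_apply]
  have e2 : C.presheaf.germ V y.1 hyV d₀ =
      C.presheaf.germ (U ⊓ V) y.1 hyW (C.presheaf.map iV.op d₀) :=
    (TopCat.Presheaf.germ_res_apply C.presheaf iV y.1 hyW d₀).symm
  rw [e1, e2, curryAt_germ, curryAt_germ, h]

end HomExt3

section Psi

variable (N E : X.Modules)

/-- the contraction `(N ⊗ E^∨) ⊗ E ⟶ N`. -/
noncomputable def contr' :
    CohB1.tensorMod (CohB1.tensorMod N (homSh E (Coh.structureModule X))) E ⟶ N :=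
  (Groth.Agent.Helper13.Tensor.assoc N (homSh E (Coh.structureModule X)) E).hom ≫
    Groth.Agent.Helper13.Tensor.map (𝟙 N) (ev E (Coh.structureModule X)) ≫
      (Groth.Agent.Helper13.Tensor.rid N).hom

lemma contr'_app_tmul {U : X.Opens} (n : Γ(N, U))
    (d : Γ(homSh E (Coh.structureModule X), U)) (e : Γ(E, U)) :
    (contr' N E).app U (tmul _ _ (tmul N _ n d) e) = (show Γ(X, U) from evalSec d e) • n := by
  unfold contr'
  rw [Scheme.Modules.Hom.comp_app, Scheme.Modules.Hom.comp_app, ConcreteCategory.comp_apply,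
    ConcreteCategory.comp_apply, assoc_hom_app_tmul, map_app_tmul, ev_app_tmul]
  exact rid_hom_app_tmul N n _

/-- the canonical map `N ⊗ E^∨ ⟶ 𝓗om(E, N)`. -/
noncomputable def ψ : CohB1.tensorMod N (homSh E (Coh.structureModule X)) ⟶ homSh E N :=
  curry (contr' N E)

end Psi

theorem bijective_of_contraction' {R : Type u} [CommRing R] {E N D : Type u} [AddCommGroup E]
    [Module R E] [AddCommGroup N] [Module R N] [AddCommGroup D] [Module R D] [Module.Free R E]
    [Module.Finite R E] (c : D ≃ₗ[R] Module.Dual R E) (Φ : N ⊗[R] D →ₗ[R] (E →ₗ[R] N))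
    (hΦ : ∀ n d e, Φ (n ⊗ₜ d) e = c d e • n) : Function.Bijective Φ := by
  let Ψ : N ⊗[R] D ≃ₗ[R] (E →ₗ[R] N) :=
    (TensorProduct.comm R N D).trans
      ((TensorProduct.congr c (LinearEquiv.refl R N)).trans (dualTensorHomEquiv R E N))
  have : Φ = Ψ.toLinearMap := by
    apply TensorProduct.ext'
    intro n d
    apply LinearMap.ext
    intro e
    rw [hΦ]
    simp [Ψ]
  rw [this]
  exact Ψ.bijective

theorem isIso_ψ (N E : X.Modules) (hE : FlatMod.IsFinLocFree E) : IsIso (ψ N E) := by
  apply isIso_of_stalkTensor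
  intro x
  obtain ⟨hfree, hfin⟩ := free_finite_stalk E hE x
  let f := (stalkLinearMap (ψ N E) x).comp
    (stalkTensorEquiv N (homSh E (Coh.structureModule X)) x).toLinearMap
  let Φ := (evalStalk E N x).comp f
  let c : (homSh E (Coh.structureModule X)).presheaf.stalk x ≃ₗ[X.presheaf.stalk x]
      Module.Dual (X.presheaf.stalk x) (E.presheaf.stalk x) :=
    (LinearEquiv.ofBijective (evalStalk E (Coh.structureModule X) x)
      (evalStalk_bijective E _ hE x)).trans
      (LinearEquiv.congrRight (Groth.Agent.Helper13.WeakAss.unitStalkEquiv x))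
  have hΦ : ∀ n d e, Φ (n ⊗ₜ d) e = c d e • n := by
    intro n d e
    obtain ⟨W, hW, n₀, d₀, e₀, rfl, rfl, rfl⟩ :=
      exists_three N (homSh E (Coh.structureModule X)) E x n d e
    change evalStalk E N x (stalkMap (ψ N E) x (stalkTensorEquiv N _ x _)) _ = _
    rw [stalkMap_stalkTensorEquiv_germ, evalStalk_germ]
    unfold ψ
    rw [curry_app_apply, curryAt_germ, contr'_app_tmul, Groth.Agent.Helper13.QCoh.germ_smul]
    congr 1
    change _ = Groth.Agent.Helper13.WeakAss.unitStalkEquiv x
      (evalStalk E (Coh.structureModule X) x _ _)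
    rw [evalStalk_germ]
    have h1 : (d₀.1 ⟨x, hW⟩) (E.presheaf.germ W x hW e₀) =
        (Coh.structureModule X).presheaf.germ W x hW (evalSec d₀ e₀) :=
      (germ_evalSec d₀ e₀ x hW).symm
    exact ((congrArg (Groth.Agent.Helper13.WeakAss.unitStalkEquiv x) h1).trans
      (Groth.Agent.Helper13.WeakAss.unitStalkEquiv_germ x W hW _)).symm
  have hbij : Function.Bijective Φ := bijective_of_contraction' c Φ hΦ
  have hinj := evalStalk_injective E N hE x
  constructor
  · exact Function.Injective.of_comp (f := evalStalk E N x) hbij.1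
  · intro z
    obtain ⟨w, hw⟩ := hbij.2 (evalStalk E N x z)
    exact ⟨w, hinj hw⟩


lemma contr'_natural {N N' : X.Modules} (E : X.Modules) (g : N ⟶ N') :
    Groth.Agent.Helper13.Tensor.map
        (Groth.Agent.Helper13.Tensor.map g (𝟙 (homSh E (Coh.structureModule X)))) (𝟙 E) ≫
      contr' N' E = contr' N E ≫ g := by
  apply hom_ext₃
  intro U n d e
  rw [Scheme.Modules.Hom.comp_app, Scheme.Modules.Hom.comp_app, ConcreteCategory.comp_apply,
    ConcreteCategory.comp_apply, map_app_tmul, map_app_tmul, contr'_app_tmul, contr'_app_tmul]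
  exact (Scheme.Modules.Hom.app_smul g _ _).symm

lemma ψ_natural {N N' : X.Modules} (E : X.Modules) (g : N ⟶ N') :
    (tensorRight (homSh E (Coh.structureModule X))).map g ≫ ψ N' E =
      ψ N E ≫ (homFun E).map g := by
  have h1 : (tensorRight (homSh E (Coh.structureModule X))).map g ≫ ψ N' E =
      curry ((tensorRight E).map ((tensorRight (homSh E (Coh.structureModule X))).map g) ≫
        contr' N' E) :=
    (homEquiv_naturality E _ (contr' N' E)).symm
  have h2 : ψ N E ≫ (homFun E).map g = curry (contr' N E ≫ g) := by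
    have := (adj E).homEquiv_naturality_right (contr' N E) g
    rw [adj_homEquiv, adj_homEquiv] at this
    exact this.symm
  rw [h1, h2]
  congr 1
  exact contr'_natural E g

/-- `- ⊗ E^∨ ≅ 𝓗om(E, -)` for `E` finite locally free. -/
noncomputable def homFunIso (E : X.Modules) (hE : FlatMod.IsFinLocFree E) :
    tensorRight (homSh E (Coh.structureModule X)) ≅ homFun E :=
  NatIso.ofComponents (fun N => @asIso _ _ _ _ (ψ N E) (isIso_ψ N E hE))
    (fun g => ψ_natural E g)

/-- `𝓗om(E, -)` is exact for `E` finite locally free. -/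
theorem exact_homFun (E : X.Modules) (hE : FlatMod.IsFinLocFree E) :
    PreservesFiniteLimits (homFun E) ∧ PreservesFiniteColimits (homFun E) := by
  obtain ⟨h1, h2⟩ := exact_tensorRight (homSh E (Coh.structureModule X))
    (flat_stalk _ (isFinLocFree_dual E hE))
  exact ⟨preservesFiniteLimits_of_natIso (homFunIso E hE),
    preservesFiniteColimits_of_natIso (homFunIso E hE)⟩

instance (D : X.Modules) : (homFun D).Additive := (adj D).right_adjoint_additive

end Groth.Agent.Helper29.SHomC
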