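import Mathlib
import Groth.Agent.Lib.Helper29.SHomC
import Groth.Agent.Lib.Helper24.Supp8
import Groth.Agent.Lib.Helper24.ExtSS1

/-!
# `𝓗om(E ⊗ F, -) ≅ 𝓗om(F, -) ⋙ 𝓗om(E, -)` and Ext sheaves twisted by a finite locally free module.
-/

set_option autoImplicit false
set_option maxHeartbeats 400000
universe u
open CategoryTheory CategoryTheory.Limits AlgebraicGeometry Opposite TopologicalSpace TensorProduct
open Groth.Agent.Helper13.QCoh Groth.Agent.Helper13.FinType Groth.Agent.Helper13.LocFree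
open Groth.Agent.Helper13.Tensor Groth.Agent.Helper13.TensorFunctor RefHull
open Groth.Agent.Lead.HomSh Groth.Agent.Helper13.HomShAff Groth.Agent.Helper13.TensorHom
open Groth.Agent.Helper13.DualFinLocFree Groth.Agent.Helper29.SHomA Groth.Agent.Helper29.SHomC

namespace Groth.Agent.Helper29.SHomD

variable {X : Scheme.{u}}

lemma assoc_natural₁ {B B' : X.Modules} (E F : X.Modules) (f : B ⟶ B') :
    Groth.Agent.Helper13.Tensor.map (Groth.Agent.Helper13.Tensor.map f (𝟙 E)) (𝟙 F) ≫
        (Groth.Agent.Helper13.Tensor.assoc B' E F).hom =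
      (Groth.Agent.Helper13.Tensor.assoc B E F).hom ≫
        Groth.Agent.Helper13.Tensor.map f (𝟙 (CohB1.tensorMod E F)) := by
  apply hom_ext₃
  intro U b e f'
  rw [Scheme.Modules.Hom.comp_app, Scheme.Modules.Hom.comp_app, ConcreteCategory.comp_apply,
    ConcreteCategory.comp_apply, map_app_tmul, map_app_tmul, assoc_hom_app_tmul,
    assoc_hom_app_tmul, map_app_tmul]
  rfl

/-- `(- ⊗ E) ⊗ F ≅ - ⊗ (E ⊗ F)`. -/
noncomputable def tensorRightAssoc (E F : X.Modules) :
    tensorRight E ⋙ tensorRight F ≅ tensorRight (CohB1.tensorMod E F) :=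
  NatIso.ofComponents (fun B => Groth.Agent.Helper13.Tensor.assoc B E F)
    (fun f => assoc_natural₁ E F f)

/-- `- ⊗ D ≅ - ⊗ D'` for `D ≅ D'`. -/
noncomputable def tensorRightCongr {D D' : X.Modules} (e : D ≅ D') :
    tensorRight D ≅ tensorRight D' :=
  NatIso.ofComponents (fun B => Groth.Agent.Helper13.Tensor.mapIso (Iso.refl B) e) (fun {B B'} f => by
    change Groth.Agent.Helper13.Tensor.map f (𝟙 D) ≫ Groth.Agent.Helper13.Tensor.map (𝟙 B') e.hom =
      Groth.Agent.Helper13.Tensor.map (𝟙 B) e.hom ≫ Groth.Agent.Helper13.Tensor.map f (𝟙 D')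
    rw [← Groth.Agent.Helper13.Tensor.map_comp, ← Groth.Agent.Helper13.Tensor.map_comp,
      Category.comp_id, Category.id_comp, Category.comp_id, Category.id_comp])

/-- `𝓗om(D, -) ≅ 𝓗om(D', -)` for `D ≅ D'`. -/
noncomputable def homFunCongr {D D' : X.Modules} (e : D ≅ D') : homFun D ≅ homFun D' :=
  Adjunction.rightAdjointUniq (adj D) ((adj D').ofNatIsoLeft (tensorRightCongr e).symm)

/-- `𝓗om(E ⊗ F, -) ≅ 𝓗om(F, -) ⋙ 𝓗om(E, -)`. -/
noncomputable def homFunComp (E F : X.Modules) :
    homFun (CohB1.tensorMod E F) ≅ homFun F ⋙ homFun E :=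
  Adjunction.rightAdjointUniq (adj (CohB1.tensorMod E F))
    (((adj E).comp (adj F)).ofNatIsoLeft (tensorRightAssoc E F))


open Groth.Agent.Helper24.Supp Groth.Agent.Helper24.GSS in
/-- Ext sheaves twisted by a finite locally free module: if `D ≅ E ⊗ F` with `E` finite locally
free with dual `E'`, then `ℰxt^q(D, G) ≅ ℰxt^q(F, G) ⊗ E'`. -/
theorem nonempty_extSh_iso (E F D E' : X.Modules) (hE : FlatMod.IsFinLocFree E)
    (d : D ≅ CohB1.tensorMod E F) (hd : E' ≅ homSh E (Coh.structureModule X))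
    [ModSite.HasSheafHom (O := X.sheaf) F] [ModSite.HasSheafHom (O := X.sheaf) D]
    [HasInjectiveResolutions (ModSite.Mod X.sheaf)] (q : ℕ) (G : X.Modules) :
    Nonempty ((ModSite.extSh (O := X.sheaf) D q).obj G ≅
      CohB1.tensorMod ((ModSite.extSh (O := X.sheaf) F q).obj G) E') := by
  haveI : EnoughInjectives (ModSite.Mod X.sheaf) :=
    Groth.Agent.Helper24.ExtSS.enoughInjectives_of_hasInjectiveResolutions _
  let T : ModSite.Mod X.sheaf ⥤ ModSite.Mod X.sheaf := tensorRight E'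
  let Φ : ModSite.sheafHom (O := X.sheaf) D ≅ ModSite.sheafHom (O := X.sheaf) F ⋙ T :=
    sheafHomIso D ≪≫ homFunCongr d ≪≫ homFunComp E F ≪≫
      Functor.isoWhiskerLeft (homFun F) ((homFunIso E hE).symm ≪≫ tensorRightCongr hd.symm) ≪≫
      Functor.isoWhiskerRight (sheafHomIso F).symm (tensorRight E')
  haveI : T.Additive := inferInstanceAs (tensorRight E').Additive
  obtain ⟨h1, h2⟩ := exact_tensorRight (homSh E (Coh.structureModule X))
    (flat_stalk _ (isFinLocFree_dual E hE))
  haveI := h1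
  haveI := h2
  have hT1 : PreservesFiniteLimits (tensorRight E') :=
    preservesFiniteLimits_of_natIso (tensorRightCongr hd.symm)
  have hT2 : PreservesFiniteColimits (tensorRight E') :=
    preservesFiniteColimits_of_natIso (tensorRightCongr hd.symm)
  haveI : PreservesFiniteLimits T := hT1
  haveI : PreservesFiniteColimits T := hT2
  haveI : PreservesFiniteLimits (ModSite.sheafHom (O := X.sheaf) F) :=
    ⟨fun _ _ _ => (ModSite.sheafHomAdj (O := X.sheaf) F).rightAdjoint_preservesLimits.preservesLimitsOfShape⟩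
  obtain ⟨e1⟩ := nonempty_rightDerived_iso_of_iso _ _ Φ q
  obtain ⟨e2⟩ := nonempty_rightDerived_comp_exact_iso (ModSite.sheafHom (O := X.sheaf) F) T q
  exact ⟨e1.app G ≪≫ (e2.app G).symm⟩

end Groth.Agent.Helper29.SHomD
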