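import Mathlib

namespace Groth.Agent.Helper29.KInjA

open CategoryTheory Limits

universe v u

variable {ℬ : Type u} [Category.{v} ℬ] [Abelian ℬ]

/-- `X` is generated by an `I`-indexed family of maps from `G` (jointly epimorphic). -/
def Gen (G : ℬ) (I : Type v) (X : ℬ) : Prop :=
  ∃ f : I → (G ⟶ X), ∀ ⦃Z : ℬ⦄ (φ : X ⟶ Z), (∀ i, f i ≫ φ = 0) → φ = 0

variable {G : ℬ}

lemma Gen.of_epi {I : Type v} {X Y : ℬ} (h : Gen G I X) (p : X ⟶ Y) [Epi p] : Gen G I Y := by
  obtain ⟨f, hf⟩ := h
  refine ⟨fun i => f i ≫ p, fun Z φ hφ => ?_⟩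
  have : p ≫ φ = 0 := hf _ (fun i => by simpa using hφ i)
  rwa [← cancel_epi p, comp_zero]

lemma Gen.of_iso {I : Type v} {X Y : ℬ} (h : Gen G I X) (e : X ≅ Y) : Gen G I Y :=
  h.of_epi e.hom

lemma Gen.of_injective {I : Type v} {I' : Type v} {X : ℬ} (h : Gen G I X) (e : I → I')
    (he : Function.Injective e) : Gen G I' X := by
  classical
  obtain ⟨f, hf⟩ := h
  refine ⟨fun i' => if h : ∃ i, e i = i' then f h.choose else 0, fun Z φ hφ => hf φ (fun i => ?_)⟩
  have h1 : ∃ i₀, e i₀ = e i := ⟨i, rfl⟩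
  have h2 := hφ (e i)
  dsimp only at h2
  rw [dif_pos h1] at h2
  have h3 : h1.choose = i := he h1.choose_spec
  rwa [h3] at h2

lemma gen_of_isZero {I : Type v} {X : ℬ} (hX : IsZero X) : Gen G I X :=
  ⟨fun _ => 0, fun _ _ _ => hX.eq_of_src _ _⟩

/-- a family of subobjects: the supremum is generated by the union of the generators -/
lemma gen_iSup {K : Type v} {I : K → Type v} {Y : ℬ} [IsGrothendieckAbelian.{v} ℬ]
    (B : K → Subobject Y)
    (h : ∀ j, Gen G (I j) (B j : ℬ)) : Gen G (Σ j, I j) ((⨆ j, B j : Subobject Y) : ℬ) := by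
  choose f hf using h
  refine ⟨fun p => f p.1 p.2 ≫ Subobject.ofLE _ _ (le_iSup B p.1), fun Z φ hφ => ?_⟩
  have h1 : ∀ j, Subobject.ofLE _ _ (le_iSup B j) ≫ φ = 0 := fun j =>
    hf j _ (fun i => by simpa using hφ ⟨j, i⟩)
  -- the kernel of φ contains every B j
  let S : Subobject Y := ⨆ j, B j
  let K' : Subobject Y := Subobject.mk (kernel.ι φ ≫ S.arrow)
  have h2 : ∀ j, B j ≤ K' := fun j =>
    Subobject.le_mk_of_comm (kernel.lift φ (Subobject.ofLE _ _ (le_iSup B j)) (h1 j))
      (by simp only [kernel.lift_ι_assoc]; exact Subobject.ofLE_arrow _)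
  have h3 : S ≤ K' := iSup_le h2
  have h4 : S.arrow = (Subobject.ofLE _ _ h3 ≫ (Subobject.underlyingIso _).hom ≫ kernel.ι φ) ≫
      S.arrow := by
    simp [K']
  have h5 : 𝟙 _ = Subobject.ofLE _ _ h3 ≫ (Subobject.underlyingIso _).hom ≫ kernel.ι φ := by
    rw [← cancel_mono S.arrow, ← h4, Category.id_comp]
  calc φ = 𝟙 _ ≫ φ := (Category.id_comp _).symm
    _ = 0 := by rw [h5]; simp


/-- if two maps have the same image and one is killed by `ψ`, so is the other -/
lemma comp_eq_zero_of_imageSubobject_eq {A A' X Z : ℬ} (a : A ⟶ X) (b : A' ⟶ X)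
    (h : imageSubobject a = imageSubobject b) (ψ : X ⟶ Z) (ha : a ≫ ψ = 0) : b ≫ ψ = 0 := by
  have h3 : imageSubobject a ≤ kernelSubobject ψ :=
    imageSubobject_le a (factorThruKernelSubobject ψ a ha)
      (factorThruKernelSubobject_comp_arrow ψ a ha)
  rw [h] at h3
  have h4 : (imageSubobject b).arrow = Subobject.ofLE _ _ h3 ≫ (kernelSubobject ψ).arrow :=
    (Subobject.ofLE_arrow h3).symm
  rw [← imageSubobject_arrow_comp b, Category.assoc, h4, Category.assoc,
    kernelSubobject_arrow_comp, comp_zero, comp_zero]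

section

variable [IsGrothendieckAbelian.{v} ℬ] (hG : IsSeparator G)
include hG

/-- every object is generated by a family indexed by its subobjects -/
lemma gen_subobject (X : ℬ) : Gen G (Shrink.{v} (Subobject X)) X := by
  classical
  let g : Subobject X → (G ⟶ X) := fun B =>
    if h : ∃ f : G ⟶ X, imageSubobject f = B then h.choose else 0
  refine ⟨fun s => g ((equivShrink _).symm s), fun Z φ hφ => ?_⟩
  apply hG.def
  intro f
  rw [comp_zero]
  have h1 : ∃ f' : G ⟶ X, imageSubobject f' = imageSubobject f := ⟨f, rfl⟩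
  have h2 := hφ (equivShrink _ (imageSubobject f))
  simp only [Equiv.symm_apply_apply, g, dif_pos h1] at h2
  exact comp_eq_zero_of_imageSubobject_eq _ _ h1.choose_spec φ h2

/-- a relative version: for `q : X ⟶ Y`, there is a family of maps `G ⟶ X` indexed by
subobjects of `Y`, such that any `ψ` out of `Y` killing all `h ≫ q` of the family kills `q`. -/
lemma exists_family (X Y : ℬ) (q : X ⟶ Y) :
    ∃ h : Shrink.{v} (Subobject Y) → (G ⟶ X), ∀ ⦃Z : ℬ⦄ (ψ : Y ⟶ Z),
      (∀ s, h s ≫ q ≫ ψ = 0) → q ≫ ψ = 0 := by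
  classical
  let g : Subobject Y → (G ⟶ X) := fun B =>
    if h : ∃ f : G ⟶ X, imageSubobject (f ≫ q) = B then h.choose else 0
  refine ⟨fun s => g ((equivShrink _).symm s), fun Z ψ hψ => ?_⟩
  apply hG.def
  intro f
  rw [comp_zero]
  have h1 : ∃ f' : G ⟶ X, imageSubobject (f' ≫ q) = imageSubobject (f ≫ q) := ⟨f, rfl⟩
  have h2 := hψ (equivShrink _ (imageSubobject (f ≫ q)))
  simp only [Equiv.symm_apply_apply, g, dif_pos h1] at h2
  have := comp_eq_zero_of_imageSubobject_eq _ _ h1.choose_spec ψ (by simpa using h2)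
  simpa using this

/-- lifting generators along an epimorphism -/
lemma gen_lift {I : Type v} {M P : ℬ} (p : M ⟶ P) [Epi p] (h : Gen G I P) :
    ∃ (M' : Subobject M), Gen G (I × Shrink.{v} (Subobject G)) (M' : ℬ) ∧
      Epi (M'.arrow ≫ p) := by
  obtain ⟨f, hf⟩ := h
  have hfam := fun i => exists_family hG (pullback p (f i)) G (pullback.snd p (f i))
  choose hh hhh using hfam
  let k : I × Shrink.{v} (Subobject G) → (G ⟶ M) := fun x => hh x.1 x.2 ≫ pullback.fst p (f x.1)
  let M' : Subobject M := ⨆ x, imageSubobject (k x)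
  have hk : ∀ x, ∃ t : G ⟶ (M' : ℬ), t ≫ M'.arrow = k x := fun x =>
    ⟨factorThruImageSubobject (k x) ≫ Subobject.ofLE _ _ (le_iSup (fun x => imageSubobject (k x)) x),
      by simp⟩
  refine ⟨M', ?_, ?_⟩
  · have h1 : Gen G (Σ _ : I × Shrink.{v} (Subobject G), PUnit.{v+1}) (M' : ℬ) := by
      apply gen_iSup
      intro x
      exact ⟨fun _ => factorThruImageSubobject (k x), fun Z φ hφ => by
        have := hφ PUnit.unit
        rwa [← cancel_epi (factorThruImageSubobject (k x)), comp_zero]⟩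
    exact h1.of_injective (fun x => x.1) (fun x y hxy => by
      cases x; cases y; simp_all)
  · apply Preadditive.epi_of_cancel_zero
    intro Z φ hφ
    apply hf
    intro i
    have h1 : pullback.snd p (f i) ≫ (f i ≫ φ) = 0 := by
      apply hhh i
      intro s
      obtain ⟨t, ht⟩ := hk (i, s)
      have : k (i, s) ≫ p ≫ φ = 0 := by
        rw [← ht, Category.assoc, ← Category.assoc M'.arrow, hφ, comp_zero]
      simpa [k, pullback.condition_assoc] using this
    rwa [← cancel_epi (pullback.snd p (f i)), comp_zero]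

omit hG in
lemma epi_sigmaDesc {I : Type v} {X : ℬ} (f : I → (G ⟶ X))
    (hf : ∀ ⦃Z : ℬ⦄ (φ : X ⟶ Z), (∀ i, f i ≫ φ = 0) → φ = 0) :
    Epi (Sigma.desc f) := by
  apply Preadditive.epi_of_cancel_zero
  intro Z φ hφ
  apply hf
  intro i
  have := Sigma.ι (fun _ : I => G) i ≫= hφ
  simpa using this

/-- subobjects of an `I`-generated object are generated by a family bounded in terms of `I` -/
lemma gen_of_mono {I : Type v} {X X' : ℬ} (h : Gen G I X) (j : X' ⟶ X) [Mono j] :
    Gen G (Shrink.{v} (Subobject (∐ fun _ : I => G))) X' := by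
  obtain ⟨f, hf⟩ := h
  have := epi_sigmaDesc f hf
  let π := Sigma.desc f
  have h1 := gen_subobject hG (pullback π j)
  have h2 : Gen G (Shrink.{v} (Subobject (∐ fun _ : I => G))) (pullback π j) := by
    refine h1.of_injective (fun s => equivShrink _ ((Subobject.map (pullback.fst π j)).obj
      ((equivShrink _).symm s))) ?_
    intro s t hst
    have := (equivShrink _).injective hst
    have := Subobject.map_obj_injective _ this
    exact (equivShrink _).symm.injective this
  exact h2.of_epi (pullback.snd π j)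

end

/-- binary sup -/
lemma gen_sup [IsGrothendieckAbelian.{v} ℬ] {I I' : Type v} {Y : ℬ} (B B' : Subobject Y)
    (h : Gen G I (B : ℬ)) (h' : Gen G I' (B' : ℬ)) : Gen G (I ⊕ I') ((B ⊔ B' : Subobject Y) : ℬ) := by
  obtain ⟨f, hf⟩ := h
  obtain ⟨f', hf'⟩ := h'
  refine ⟨fun x => Sum.elim (fun i => f i ≫ Subobject.ofLE _ _ le_sup_left)
    (fun i => f' i ≫ Subobject.ofLE _ _ le_sup_right) x, fun Z φ hφ => ?_⟩
  have h1 : Subobject.ofLE B (B ⊔ B') le_sup_left ≫ φ = 0 :=
    hf _ (fun i => by simpa using hφ (Sum.inl i))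
  have h1' : Subobject.ofLE B' (B ⊔ B') le_sup_right ≫ φ = 0 :=
    hf' _ (fun i => by simpa using hφ (Sum.inr i))
  let S : Subobject Y := B ⊔ B'
  let K' : Subobject Y := Subobject.mk (kernel.ι φ ≫ S.arrow)
  have h2 : B ≤ K' :=
    Subobject.le_mk_of_comm (kernel.lift φ (Subobject.ofLE _ _ le_sup_left) h1)
      (by simp only [kernel.lift_ι_assoc]; exact Subobject.ofLE_arrow _)
  have h2' : B' ≤ K' :=
    Subobject.le_mk_of_comm (kernel.lift φ (Subobject.ofLE _ _ le_sup_right) h1')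
      (by simp only [kernel.lift_ι_assoc]; exact Subobject.ofLE_arrow _)
  have h3 : S ≤ K' := sup_le h2 h2'
  have h4 : S.arrow = (Subobject.ofLE _ _ h3 ≫ (Subobject.underlyingIso _).hom ≫ kernel.ι φ) ≫
      S.arrow := by
    simp [K']
  have h5 : 𝟙 _ = Subobject.ofLE _ _ h3 ≫ (Subobject.underlyingIso _).hom ≫ kernel.ι φ := by
    rw [← cancel_mono S.arrow, ← h4, Category.id_comp]
  calc φ = 𝟙 _ ≫ φ := (Category.id_comp _).symm
    _ = 0 := by rw [h5]; simp

end Groth.Agent.Helper29.KInjA
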