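import Mathlib
import Groth.Agent.Lib.Helper29.KInjA

namespace Groth.Agent.Helper29.KInjC

open CategoryTheory Limits

universe v u

variable {A : Type u} [Category.{v} A] [Abelian A]

/-- bridge between the order on subobjects and factorization -/
lemma le_pullback_iff {X Y : A} (f : X ⟶ Y) (P : Subobject X) (B : Subobject Y) :
    P ≤ (Subobject.pullback f).obj B ↔ B.Factors (P.arrow ≫ f) := by
  rw [← pullback_factors_iff]
  constructor
  · intro h
    exact Subobject.factors_of_le _ h (Subobject.factors_self P)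
  · intro h
    exact Subobject.le_of_comm (Subobject.factorThru _ _ h) (Subobject.factorThru_arrow _ _ h)

/-- a criterion to be contained in an image -/
lemma le_imageSubobject_of_epi {X Y M : A} (Z : Subobject Y) (g : X ⟶ Y) (e : M ⟶ (Z : A)) [Epi e]
    (t : M ⟶ X) (h : e ≫ Z.arrow = t ≫ g) : Z ≤ imageSubobject g := by
  have h0 : Z.arrow ≫ cokernel.π (imageSubobject g).arrow = 0 := by
    have h1 : t ≫ g = (t ≫ factorThruImageSubobject g) ≫ (imageSubobject g).arrow := by
      rw [Category.assoc, imageSubobject_arrow_comp]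
    rw [← cancel_epi e, comp_zero, ← Category.assoc, h, h1, Category.assoc, cokernel.condition,
      comp_zero]
  exact Subobject.le_of_comm (Abelian.monoLift (imageSubobject g).arrow Z.arrow h0)
    (Abelian.monoLift_comp _ _ _)

lemma imageSubobject_comp_arrow_le {X Y : A} (g : X ⟶ Y) {P P' : Subobject X} (h : P ≤ P') :
    imageSubobject (P.arrow ≫ g) ≤ imageSubobject (P'.arrow ≫ g) := by
  rw [← Subobject.ofLE_arrow h, Category.assoc]
  exact imageSubobject_comp_le _ _

variable (Q : CochainComplex A ℤ)

/-- a degreewise family of subobjects which is stable under the differential -/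
structure SubCx where
  T : ∀ n : ℤ, Subobject (Q.X n)
  stable : ∀ n : ℤ, T n ≤ (Subobject.pullback (Q.d n (n + 1))).obj (T (n + 1))

namespace SubCx

variable {Q} (T : SubCx Q)

lemma factors (n : ℤ) : (T.T (n + 1)).Factors ((T.T n).arrow ≫ Q.d n (n + 1)) :=
  (le_pullback_iff _ _ _).1 (T.stable n)

/-- the differential of the subcomplex -/
noncomputable def d (n : ℤ) : (T.T n : A) ⟶ (T.T (n + 1) : A) :=
  (T.T (n + 1)).factorThru _ (T.factors n)

@[reassoc (attr := simp)]
lemma d_arrow (n : ℤ) : T.d n ≫ (T.T (n + 1)).arrow = (T.T n).arrow ≫ Q.d n (n + 1) :=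
  Subobject.factorThru_arrow _ _ _

/-- the associated complex -/
noncomputable def cx : CochainComplex A ℤ :=
  CochainComplex.of (fun n => (T.T n : A)) T.d (fun n => by
    rw [← cancel_mono (T.T (n + 1 + 1)).arrow, Category.assoc, d_arrow, d_arrow_assoc,
      Q.d_comp_d, comp_zero, zero_comp])

/-- the inclusion of the subcomplex -/
noncomputable def ι : T.cx ⟶ Q where
  f n := (T.T n).arrow
  comm' i j hij := by
    obtain rfl : i + 1 = j := hij
    dsimp [cx]
    rw [CochainComplex.of_d]
    exact (T.d_arrow i).symm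

@[simp] lemma ι_f (n : ℤ) : T.ι.f n = (T.T n).arrow := rfl

instance : Mono T.ι := HomologicalComplex.mono_of_mono_f _ (fun n => by
  change Mono (T.T n).arrow
  infer_instance)

/-- the differential of `T.cx`, with a convenient type -/
noncomputable def dd (i j : ℤ) : (T.T i : A) ⟶ (T.T j : A) := T.cx.d i j

@[reassoc]
lemma dd_arrow (i j : ℤ) : T.dd i j ≫ (T.T j).arrow = (T.T i).arrow ≫ Q.d i j :=
  (T.ι.comm i j).symm

/-- lattice form of exactness in degree `n` -/
def LatExact (n : ℤ) : Prop :=
  T.T n ⊓ kernelSubobject (Q.d n (n + 1)) ≤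
    imageSubobject ((T.T (n - 1)).arrow ≫ Q.d (n - 1) n)

lemma exactAt_of_latExact (n : ℤ) (h : T.LatExact n) : T.cx.ExactAt n := by
  rw [T.cx.exactAt_iff' (n - 1) n (n + 1) (by simp) (by simp),
    ShortComplex.exact_iff_exact_up_to_refinements]
  intro S x₂ hx₂
  change S ⟶ (T.T n : A) at x₂
  change x₂ ≫ T.dd n (n + 1) = 0 at hx₂
  -- the image of `x₂` in `Q.X n` is a cycle
  have h1 : (x₂ ≫ (T.T n).arrow) ≫ Q.d n (n + 1) = 0 := by
    rw [Category.assoc, ← T.dd_arrow, ← Category.assoc, hx₂, zero_comp]
  have h2 : (T.T n ⊓ kernelSubobject (Q.d n (n + 1))).Factors (x₂ ≫ (T.T n).arrow) := by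
    rw [Subobject.inf_factors]
    exact ⟨Subobject.factors_comp_arrow _, kernelSubobject_factors _ _ h1⟩
  have h3 := Subobject.factors_of_le _ h h2
  let I := imageSubobject ((T.T (n - 1)).arrow ≫ Q.d (n - 1) n)
  let z : S ⟶ (I : A) := I.factorThru _ h3
  have hz : z ≫ I.arrow = x₂ ≫ (T.T n).arrow := Subobject.factorThru_arrow _ _ _
  let e : (T.T (n - 1) : A) ⟶ (I : A) :=
    factorThruImageSubobject ((T.T (n - 1)).arrow ≫ Q.d (n - 1) n)
  have he : e ≫ I.arrow = (T.T (n - 1)).arrow ≫ Q.d (n - 1) n := imageSubobject_arrow_comp _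
  refine ⟨pullback z e, pullback.fst z e, inferInstance, pullback.snd z e, ?_⟩
  change pullback.fst z e ≫ x₂ = pullback.snd z e ≫ T.dd (n - 1) n
  rw [← cancel_mono (T.T n).arrow, Category.assoc, ← hz, ← Category.assoc, pullback.condition,
    Category.assoc, he, Category.assoc, T.dd_arrow]

lemma acyclic_of_latExact (h : ∀ n, T.LatExact n) : T.cx.Acyclic :=
  fun n => T.exactAt_of_latExact n (h n)

/-- the binary supremum -/
noncomputable def sup (T T' : SubCx Q) : SubCx Q where
  T n := T.T n ⊔ T'.T n
  stable n := sup_le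
    ((T.stable n).trans ((Subobject.pullback (Q.d n (n + 1))).monotone le_sup_left))
    ((T'.stable n).trans ((Subobject.pullback (Q.d n (n + 1))).monotone le_sup_right))

@[simp] lemma sup_T (T T' : SubCx Q) (n : ℤ) : (T.sup T').T n = T.T n ⊔ T'.T n := rfl

/-- the supremum of a sequence -/
noncomputable def iSup [IsGrothendieckAbelian.{v} A] (T : ℕ → SubCx Q) : SubCx Q where
  T n := ⨆ k, (T k).T n
  stable n := iSup_le (fun k => ((T k).stable n).trans
    ((Subobject.pullback (Q.d n (n + 1))).monotone (le_iSup (fun k => (T k).T (n + 1)) k)))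

@[simp] lemma iSup_T [IsGrothendieckAbelian.{v} A] (T : ℕ → SubCx Q) (n : ℤ) :
    (iSup T).T n = ⨆ k, (T k).T n := rfl

end SubCx

lemma factors_imageSubobject {X Y : A} (f : X ⟶ Y) : (imageSubobject f).Factors f := by
  have := Subobject.factors_comp_arrow (P := imageSubobject f) (factorThruImageSubobject f)
  rwa [imageSubobject_arrow_comp] at this

section Gen

variable {Q} (S : ∀ n : ℤ, Subobject (Q.X n))

/-- the subcomplex generated by a degreewise family of subobjects -/
noncomputable def genT (n : ℤ) : Subobject (Q.X n) :=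
  S n ⊔ imageSubobject ((S (n - 1)).arrow ≫ Q.d (n - 1) n)

lemma le_genT (n : ℤ) : S n ≤ genT S n := le_sup_left

lemma image_le_genT (i j : ℤ) (h : i + 1 = j) :
    imageSubobject ((S i).arrow ≫ Q.d i j) ≤ genT S j := by
  obtain rfl : i = j - 1 := by omega
  exact le_sup_right

/-- the subcomplex generated by a degreewise family of subobjects -/
noncomputable def genCx : SubCx Q where
  T := genT S
  stable n := by
    apply sup_le
    · rw [le_pullback_iff]
      exact Subobject.factors_of_le _ (image_le_genT S n (n + 1) rfl) (factors_imageSubobject _)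
    · rw [le_pullback_iff]
      have : (imageSubobject ((S (n - 1)).arrow ≫ Q.d (n - 1) n)).arrow ≫ Q.d n (n + 1) = 0 := by
        rw [← cancel_epi (factorThruImageSubobject ((S (n - 1)).arrow ≫ Q.d (n - 1) n)),
          ← Category.assoc, imageSubobject_arrow_comp, Category.assoc, Q.d_comp_d, comp_zero,
          comp_zero]
      rw [this]
      exact Subobject.factors_zero

@[simp] lemma genCx_T (n : ℤ) : (genCx S).T n = genT S n := rfl

lemma gen_genT {G : A} [IsGrothendieckAbelian.{v} A] {I : Type v}
    (h : ∀ n, KInjA.Gen G I (S n : A)) (n : ℤ) :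
    KInjA.Gen G (I ⊕ I) (genT S n : A) :=
  KInjA.gen_sup _ _ (h n) ((h (n - 1)).of_epi (factorThruImageSubobject _))

end Gen

end Groth.Agent.Helper29.KInjC
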