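import Mathlib

namespace Groth.Agent.Helper29.KInjU

open CategoryTheory Limits

universe w v u

variable {A : Type u} [Category.{v} A] [Abelian A]

lemma exact_of_evaluation {K : Type*} [Category* K] (S : ShortComplex (K ⥤ A))
    (h : ∀ k, (S.map ((evaluation K A).obj k)).Exact) : S.Exact := by
  rw [ShortComplex.exact_iff_isZero_homology, Functor.isZero_iff]
  intro k
  have := h k
  rw [ShortComplex.exact_iff_isZero_homology] at this
  exact this.of_iso (S.mapHomologyIso ((evaluation K A).obj k)).symm

section

variable [IsGrothendieckAbelian.{w} A] {Y : A} {K : Type w} [Preorder K]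

/-- a monotone family of subobjects, as a functor to `MonoOver` -/
@[simps]
noncomputable def fam (T : K → Subobject Y) (hT : Monotone T) : K ⥤ MonoOver Y where
  obj k := MonoOver.mk (T k).arrow
  map f := MonoOver.homMk (Subobject.ofLE _ _ (hT (leOfHom f)))

/-- the cocone with point the supremum -/
@[simps]
noncomputable def supCocone (T : K → Subobject Y) (hT : Monotone T) :
    Cocone (fam T hT ⋙ MonoOver.forget _) where
  pt := Over.mk (⨆ k, T k).arrow
  ι :=
    { app := fun k => Over.homMk (Subobject.ofLE (T k) (⨆ k, T k) (le_iSup T k))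
        (Subobject.ofLE_arrow (le_iSup T k))
      naturality := fun k k' f => by
        ext
        simp only [MonoOver.forget, Functor.comp_obj, Functor.const_obj_obj, Functor.comp_map,
          Functor.const_obj_map, Category.comp_id]
        exact Subobject.ofLE_comp_ofLE _ _ _ _ _ }

omit [IsGrothendieckAbelian.{w} A] in
lemma inf_arrow_comp_cokernel (T B : Subobject Y) :
    Subobject.ofLE (T ⊓ B) T inf_le_left ≫ T.arrow ≫ cokernel.π B.arrow = 0 := by
  rw [Subobject.ofLE_arrow_assoc, ← Subobject.ofLE_arrow (inf_le_right : T ⊓ B ≤ B),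
    Category.assoc, cokernel.condition, comp_zero]

omit [IsGrothendieckAbelian.{w} A] in
lemma inf_factors_of_comp_eq_zero (T B : Subobject Y) {W' : A} (s : W' ⟶ (T : A))
    (hs : s ≫ T.arrow ≫ cokernel.π B.arrow = 0) : (T ⊓ B).Factors (s ≫ T.arrow) := by
  rw [Subobject.inf_factors]
  refine ⟨Subobject.factors_comp_arrow _, ?_⟩
  rw [← Abelian.monoLift_comp B.arrow (s ≫ T.arrow) (by simpa using hs)]
  exact Subobject.factors_comp_arrow _

/-- `T ⊓ B` is the kernel of `T ⟶ Y ⟶ Y/B` -/
noncomputable def isKernelInf (T B : Subobject Y) :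
    IsLimit (KernelFork.ofι (Subobject.ofLE (T ⊓ B) T inf_le_left)
      (inf_arrow_comp_cokernel T B)) :=
  KernelFork.IsLimit.ofι _ _
    (fun {W'} s hs => (T ⊓ B).factorThru (s ≫ T.arrow) (inf_factors_of_comp_eq_zero T B s hs))
    (fun {W'} s hs => by
      rw [← cancel_mono T.arrow, Category.assoc, Subobject.ofLE_arrow,
        Subobject.factorThru_arrow])
    (fun {W'} s hs m hm => by
      rw [← cancel_mono (T ⊓ B).arrow, Subobject.factorThru_arrow, ← hm, Category.assoc,
        Subobject.ofLE_arrow])

/-- a monotone family of subobjects, as a functor -/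
@[simps]
noncomputable def famA (T : K → Subobject Y) (hT : Monotone T) : K ⥤ A where
  obj k := (T k : A)
  map f := Subobject.ofLE _ _ (hT (leOfHom f))
  map_id k := by simp
  map_comp f g := by simp

/-- the cocone with point the supremum -/
@[simps]
noncomputable def supCoconeA (T : K → Subobject Y) (hT : Monotone T) :
    Cocone (famA T hT) where
  pt := ((⨆ k, T k : Subobject Y) : A)
  ι :=
    { app := fun k => Subobject.ofLE (T k) (⨆ k, T k) (le_iSup T k)
      naturality := fun k k' f => by
        change Subobject.ofLE (T k) (T k') (hT (leOfHom f)) ≫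
          Subobject.ofLE (T k') (⨆ k, T k) (le_iSup T k') =
            Subobject.ofLE (T k) (⨆ k, T k) (le_iSup T k) ≫ 𝟙 _
        rw [Category.comp_id, Subobject.ofLE_comp_ofLE] }

variable [IsDirected K (· ≤ ·)] [Nonempty K]

/-- the supremum of a directed family of subobjects is its colimit -/
noncomputable def isColimitSup (T : K → Subobject Y) (hT : Monotone T) :
    IsColimit (supCoconeA T hT) := by
  have : Mono (supCocone T hT).pt.hom := by
    change Mono (⨆ k, T k).arrow
    infer_instance
  have h := IsGrothendieckAbelian.isColimitMapCoconeOfSubobjectMkEqISup (fam T hT)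
    (supCocone T hT) (by
      change Subobject.mk (⨆ k, T k).arrow = ⨆ k, Subobject.mk (T k).arrow
      simp)
  exact h

attribute [local instance] IsFiltered.isConnected

/-- upper continuity of the lattice of subobjects -/
theorem iSup_inf_eq (T : K → Subobject Y) (hT : Monotone T) (B : Subobject Y) :
    (⨆ k, T k) ⊓ B = ⨆ k, (T k ⊓ B) := by
  apply le_antisymm
  · let T₁ : K → Subobject Y := fun k => T k ⊓ B
    have hT₁ : Monotone T₁ := fun k k' h => inf_le_inf_right B (hT h)
    let S : ShortComplex (K ⥤ A) :=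
      { X₁ := famA T₁ hT₁
        X₂ := famA T hT
        X₃ := (Functor.const K).obj (cokernel B.arrow)
        f :=
          { app := fun k => Subobject.ofLE (T k ⊓ B) (T k) inf_le_left
            naturality := fun k k' f => by
              change Subobject.ofLE (T k ⊓ B) (T k' ⊓ B) (hT₁ (leOfHom f)) ≫
                Subobject.ofLE (T k' ⊓ B) (T k') inf_le_left =
                  Subobject.ofLE (T k ⊓ B) (T k) inf_le_left ≫
                    Subobject.ofLE (T k) (T k') (hT (leOfHom f))
              rw [Subobject.ofLE_comp_ofLE, Subobject.ofLE_comp_ofLE] }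
        g :=
          { app := fun k => (T k).arrow ≫ cokernel.π B.arrow
            naturality := fun k k' f => by
              change Subobject.ofLE (T k) (T k') (hT (leOfHom f)) ≫
                (T k').arrow ≫ cokernel.π B.arrow = ((T k).arrow ≫ cokernel.π B.arrow) ≫ 𝟙 _
              rw [Category.comp_id, Subobject.ofLE_arrow_assoc] }
        zero := by
          ext k
          change Subobject.ofLE (T k ⊓ B) (T k) inf_le_left ≫ (T k).arrow ≫ cokernel.π B.arrow = 0
          rw [Subobject.ofLE_arrow_assoc, ← Subobject.ofLE_arrow (inf_le_right : T k ⊓ B ≤ B),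
            Category.assoc, cokernel.condition, comp_zero] }
    have hS : S.Exact := by
      apply exact_of_evaluation
      intro k
      apply ShortComplex.exact_of_f_is_kernel
      exact isKernelInf (T k) B
    have hle : (⨆ k, T₁ k) ≤ ⨆ k, T k := iSup_mono (fun k => inf_le_left)
    have hf : ∀ k, (supCoconeA T₁ hT₁).ι.app k ≫ Subobject.ofLE (⨆ k, T₁ k) (⨆ k, T k) hle =
        S.f.app k ≫ (supCoconeA T hT).ι.app k := fun k => by
      change Subobject.ofLE (T k ⊓ B) (⨆ k, T₁ k) (le_iSup T₁ k) ≫ Subobject.ofLE _ _ hle =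
        Subobject.ofLE (T k ⊓ B) (T k) inf_le_left ≫
          Subobject.ofLE (T k) (⨆ k, T k) (le_iSup T k)
      rw [Subobject.ofLE_comp_ofLE, Subobject.ofLE_comp_ofLE]
    have hg : ∀ k, (supCoconeA T hT).ι.app k ≫ ((⨆ k, T k).arrow ≫ cokernel.π B.arrow) =
        S.g.app k ≫ (constCocone K (cokernel B.arrow)).ι.app k := fun k => by
      change Subobject.ofLE (T k) (⨆ k, T k) (le_iSup T k) ≫
        (⨆ k, T k).arrow ≫ cokernel.π B.arrow = ((T k).arrow ≫ cokernel.π B.arrow) ≫ 𝟙 _
      rw [Category.comp_id, Subobject.ofLE_arrow_assoc]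
    let S' := colim.mapShortComplex S (isColimitSup T₁ hT₁) (supCoconeA T hT)
      (constCocone K (cokernel B.arrow)) (Subobject.ofLE (⨆ k, T₁ k) (⨆ k, T k) hle)
      ((⨆ k, T k).arrow ≫ cokernel.π B.arrow) hf hg
    have hex : S'.Exact := colim.exact_mapShortComplex hS (isColimitSup T₁ hT₁)
      (isColimitSup T hT) (isColimitConstCocone K _) _ _ hf hg
    have : Mono S'.f := by
      change Mono (Subobject.ofLE (⨆ k, T₁ k) (⨆ k, T k) hle)
      infer_instance
    let κ : (((⨆ k, T k) ⊓ B : Subobject Y) : A) ⟶ S'.X₂ :=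
      Subobject.ofLE ((⨆ k, T k) ⊓ B) (⨆ k, T k) inf_le_left
    have hκ : κ ≫ S'.g = 0 := inf_arrow_comp_cokernel (⨆ k, T k) B
    refine Subobject.le_of_comm (hex.lift κ hκ) ?_
    have h1 : hex.lift κ hκ ≫ Subobject.ofLE (⨆ k, T₁ k) (⨆ k, T k) hle =
      Subobject.ofLE ((⨆ k, T k) ⊓ B) (⨆ k, T k) inf_le_left := hex.lift_f κ hκ
    rw [← Subobject.ofLE_arrow hle, ← Category.assoc]
    erw [h1]
    exact Subobject.ofLE_arrow _
  · exact iSup_le (fun k => inf_le_inf_right B (le_iSup T k))

/-- upper continuity for sequences -/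
theorem iSup_inf_eq_nat (T : ℕ → Subobject Y) (hT : Monotone T) (B : Subobject Y) :
    (⨆ k, T k) ⊓ B = ⨆ k, (T k ⊓ B) := by
  have h := iSup_inf_eq (K := ULift.{w} ℕ) (fun k => T k.down)
    (fun k k' h => hT (ULift.down_le.2 h)) B
  simpa using h

end

end Groth.Agent.Helper29.KInjU
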