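import Mathlib
import Groth.Agent.Lib.Helper29.KInjA
import Groth.Agent.Lib.Helper29.KInjU
import Groth.Agent.Lib.Helper29.KInjC

namespace Groth.Agent.Helper29.KInjD

open CategoryTheory Limits KInjA KInjC

universe v u

variable {A : Type u} [Category.{v} A] [Abelian A] [IsGrothendieckAbelian.{v} A]
  {G : A} (hG : IsSeparator G) {Q : CochainComplex A ℤ} (hQ : Q.Acyclic)

variable (G) in
/-- the growth of index types in the closure step -/
abbrev Φ (I : Type v) : Type v :=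
  Shrink.{v} (Subobject (∐ fun _ : I => G)) × Shrink.{v} (Subobject G)

include hG hQ in
/-- cycles of a small subobject are boundaries of a small subobject -/
lemma exists_preimage {I : Type v} (m : ℤ) (T : Subobject (Q.X (m + 1)))
    (hT : Gen G I (T : A)) :
    ∃ S' : Subobject (Q.X m), Gen G (Φ G I) (S' : A) ∧
      T ⊓ kernelSubobject (Q.d (m + 1) (m + 1 + 1)) ≤
        imageSubobject (S'.arrow ≫ Q.d m (m + 1)) := by
  let Z := T ⊓ kernelSubobject (Q.d (m + 1) (m + 1 + 1))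
  have hZ : Z.arrow ≫ Q.d (m + 1) (m + 1 + 1) = 0 := by
    rw [← Subobject.ofLE_arrow (inf_le_right : Z ≤ kernelSubobject (Q.d (m + 1) (m + 1 + 1))),
      Category.assoc, kernelSubobject_arrow_comp, comp_zero]
  have hex := (Q.exactAt_iff_exact_up_to_refinements m (m + 1) (m + 1 + 1) (by simp)
    (by simp)).1 (hQ (m + 1))
  obtain ⟨P, π, hπ, x₁, hx₁⟩ := hex Z.arrow hZ
  have hgZ : Gen G (Shrink.{v} (Subobject (∐ fun _ : I => G))) (Z : A) :=
    gen_of_mono hG hT (Subobject.ofLE Z T inf_le_left)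
  obtain ⟨M', hM', hepi⟩ := gen_lift hG π hgZ
  refine ⟨imageSubobject (M'.arrow ≫ x₁), hM'.of_epi (factorThruImageSubobject _), ?_⟩
  refine le_imageSubobject_of_epi Z _ (M'.arrow ≫ π) (factorThruImageSubobject (M'.arrow ≫ x₁)) ?_
  rw [Category.assoc, hx₁, ← Category.assoc (factorThruImageSubobject (M'.arrow ≫ x₁)),
    imageSubobject_arrow_comp, Category.assoc]

include hG hQ in
/-- one step of the closure -/
lemma exists_step {I : Type v} (T : SubCx Q) (h : ∀ n, Gen G I (T.T n : A)) :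
    ∃ T' : SubCx Q, (∀ n, T.T n ≤ T'.T n) ∧
      (∀ n, Gen G (I ⊕ (Φ G I ⊕ Φ G I)) (T'.T n : A)) ∧
      ∀ n : ℤ, T.T n ⊓ kernelSubobject (Q.d n (n + 1)) ≤
        imageSubobject ((T'.T (n - 1)).arrow ≫ Q.d (n - 1) n) := by
  have h1 := fun m : ℤ => exists_preimage hG hQ m (T.T (m + 1)) (h (m + 1))
  choose S hS hS' using h1
  have hS'' : ∀ (i j : ℤ) (_ : i + 1 = j), T.T j ⊓ kernelSubobject (Q.d j (j + 1)) ≤
      imageSubobject ((S i).arrow ≫ Q.d i j) := by
    intro i j hij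
    subst hij
    exact hS' i
  refine ⟨T.sup (genCx S), fun n => le_sup_left,
    fun n => gen_sup _ _ (h n) (gen_genT S hS n), fun n => ?_⟩
  refine (hS'' (n - 1) n (by omega)).trans ?_
  apply imageSubobject_comp_arrow_le
  exact (le_genT S (n - 1)).trans le_sup_right

variable (G) in
/-- index types of the stages of the closure -/
def Ix (I₀ : Type v) : ℕ → Type v
  | 0 => I₀
  | (k + 1) => Ix I₀ k ⊕ (Φ G (Ix I₀ k) ⊕ Φ G (Ix I₀ k))

variable (G) in
/-- the index type bounding the closure -/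
abbrev Bound (I₀ : Type v) : Type v := Σ k : ULift.{v} ℕ, Ix G I₀ k.down

/-- the stages of the closure -/
structure Stage (I₀ : Type v) (Q : CochainComplex A ℤ) (k : ℕ) where
  T : SubCx Q
  gen : ∀ n, Gen G (Ix G I₀ k) (T.T n : A)

/-- the sequence of stages -/
noncomputable def seq {I₀ : Type v} (T₀ : SubCx Q) (h₀ : ∀ n, Gen G I₀ (T₀.T n : A)) :
    ∀ k, Stage (G := G) I₀ Q k
  | 0 => ⟨T₀, h₀⟩
  | (k + 1) => ⟨(exists_step hG hQ (seq T₀ h₀ k).T (seq T₀ h₀ k).gen).choose,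
      (exists_step hG hQ (seq T₀ h₀ k).T (seq T₀ h₀ k).gen).choose_spec.2.1⟩

lemma seq_le {I₀ : Type v} (T₀ : SubCx Q) (h₀ : ∀ n, Gen G I₀ (T₀.T n : A)) (k : ℕ) (n : ℤ) :
    (seq hG hQ T₀ h₀ k).T.T n ≤ (seq hG hQ T₀ h₀ (k + 1)).T.T n :=
  (exists_step hG hQ (seq hG hQ T₀ h₀ k).T (seq hG hQ T₀ h₀ k).gen).choose_spec.1 n

lemma seq_cycles {I₀ : Type v} (T₀ : SubCx Q) (h₀ : ∀ n, Gen G I₀ (T₀.T n : A)) (k : ℕ) (n : ℤ) :
    (seq hG hQ T₀ h₀ k).T.T n ⊓ kernelSubobject (Q.d n (n + 1)) ≤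
      imageSubobject (((seq hG hQ T₀ h₀ (k + 1)).T.T (n - 1)).arrow ≫ Q.d (n - 1) n) :=
  (exists_step hG hQ (seq hG hQ T₀ h₀ k).T (seq hG hQ T₀ h₀ k).gen).choose_spec.2.2 n

include hG hQ in
/-- every small subcomplex of an acyclic complex is contained in a small acyclic subcomplex -/
theorem exists_small_acyclic {I₀ : Type v} (T₀ : SubCx Q) (h₀ : ∀ n, Gen G I₀ (T₀.T n : A)) :
    ∃ T : SubCx Q, (∀ n, T₀.T n ≤ T.T n) ∧ T.cx.Acyclic ∧
      ∀ n, Gen G (Bound G I₀) (T.T n : A) := by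
  let Ts : ℕ → SubCx Q := fun k => (seq hG hQ T₀ h₀ k).T
  have hmono : ∀ n : ℤ, Monotone (fun k => (Ts k).T n) := fun n =>
    monotone_nat_of_le_succ (fun k => seq_le hG hQ T₀ h₀ k n)
  refine ⟨SubCx.iSup Ts, fun n => ?_, ?_, fun n => ?_⟩
  · exact le_iSup (fun k => (Ts k).T n) 0
  · apply SubCx.acyclic_of_latExact
    intro n
    dsimp only [SubCx.LatExact, SubCx.iSup_T]
    rw [KInjU.iSup_inf_eq_nat _ (hmono n)]
    apply iSup_le
    intro k
    refine (seq_cycles hG hQ T₀ h₀ k n).trans ?_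
    apply imageSubobject_comp_arrow_le
    exact le_iSup (fun k => (Ts k).T (n - 1)) (k + 1)
  · have h1 : Gen G (Bound G I₀)
        ((⨆ k : ULift.{v} ℕ, (Ts k.down).T n : Subobject (Q.X n)) : A) :=
      gen_iSup (fun k : ULift.{v} ℕ => (Ts k.down).T n)
        (fun k => (seq hG hQ T₀ h₀ k.down).gen n)
    have h2 : (⨆ k : ULift.{v} ℕ, (Ts k.down).T n) = (SubCx.iSup Ts).T n := by
      simp
    rwa [h2] at h1

end Groth.Agent.Helper29.KInjD
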