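import Mathlib

namespace Groth.Agent.Helper29.KInjQ

open CategoryTheory Limits

universe w' w v u

variable {A : Type u} [Category.{v} A] [Abelian A] {ι : Type*} {c : ComplexShape ι}
  {J : Type w} [Category.{w'} J]

/-- a functor to complexes gives a complex of functors -/
@[simps]
def toCx (X : J ⥤ HomologicalComplex A c) : HomologicalComplex (J ⥤ A) c where
  X i := X ⋙ HomologicalComplex.eval A c i
  d i j :=
    { app := fun t => (X.obj t).d i j
      naturality := fun s t g => ((X.map g).comm i j) }
  shape i j h := by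
    ext t
    exact (X.obj t).shape i j h
  d_comp_d' i j k _ _ := by
    ext t
    exact (X.obj t).d_comp_d i j k

@[simps]
def toCxMap {X₁ X₂ : J ⥤ HomologicalComplex A c} (f : X₁ ⟶ X₂) : toCx X₁ ⟶ toCx X₂ where
  f i := Functor.whiskerRight f (HomologicalComplex.eval A c i)
  comm' i j _ := by
    ext t
    exact (f.app t).comm i j

/-- evaluating `toCx X` at `t` gives back `X.obj t` -/
def evalIso (X : J ⥤ HomologicalComplex A c) (t : J) :
    (((evaluation J A).obj t).mapHomologicalComplex c).obj (toCx X) ≅ X.obj t :=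
  HomologicalComplex.Hom.isoOfComponents (fun i => Iso.refl _) (by
    intro i j _
    exact (Category.id_comp _).trans (Category.comp_id _).symm)

lemma evalIso_hom_f (X : J ⥤ HomologicalComplex A c) (t : J) (i : ι) :
    (evalIso X t).hom.f i = 𝟙 ((X.obj t).X i) := rfl

lemma quasiIso_toCxMap {X₁ X₂ : J ⥤ HomologicalComplex A c} (f : X₁ ⟶ X₂)
    (hf : ∀ t, QuasiIso (f.app t)) : QuasiIso (toCxMap f) := by
  rw [HomologicalComplex.quasiIso_iff_evaluation]
  intro t
  have e : Arrow.mk ((((evaluation J A).obj t).mapHomologicalComplex c).map (toCxMap f)) ≅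
      Arrow.mk (f.app t) :=
    Arrow.isoMk (evalIso X₁ t) (evalIso X₂ t) (by
      ext i
      change (evalIso X₁ t).hom.f i ≫ (f.app t).f i = (f.app t).f i ≫ (evalIso X₂ t).hom.f i
      rw [evalIso_hom_f, evalIso_hom_f]
      exact (Category.id_comp ((f.app t).f i)).trans (Category.comp_id ((f.app t).f i)).symm)
  exact (_root_.quasiIso_iff_of_arrow_mk_iso _ _ e).2 (hf t)

section

variable [HasColimitsOfShape J A]

/-- componentwise identification -/
noncomputable def compIso (X : J ⥤ HomologicalComplex A c) (cc : Cocone X) (hcc : IsColimit cc)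
    (i : ι) : colimit (X ⋙ HomologicalComplex.eval A c i) ≅ cc.pt.X i :=
  (colimit.isColimit (X ⋙ HomologicalComplex.eval A c i)).coconePointUniqueUpToIso
      (isColimitOfPreserves (HomologicalComplex.eval A c i) hcc)

@[reassoc (attr := simp)]
lemma ι_compIso_hom (X : J ⥤ HomologicalComplex A c) (cc : Cocone X) (hcc : IsColimit cc)
    (i : ι) (t : J) :
    colimit.ι (X ⋙ HomologicalComplex.eval A c i) t ≫ (compIso X cc hcc i).hom =
      (cc.ι.app t).f i :=
  IsColimit.comp_coconePointUniqueUpToIso_hom _ _ t

/-- the differential, as a natural transformation -/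
@[simps]
def dNat (X : J ⥤ HomologicalComplex A c) (i j : ι) :
    X ⋙ HomologicalComplex.eval A c i ⟶ X ⋙ HomologicalComplex.eval A c j where
  app t := (X.obj t).d i j
  naturality _ _ g := (X.map g).comm i j

/-- the complex of colimits identifies to the point of a colimit cocone -/
noncomputable def colimIso (X : J ⥤ HomologicalComplex A c) (cc : Cocone X) (hcc : IsColimit cc) :
    ((colim : (J ⥤ A) ⥤ A).mapHomologicalComplex c).obj (toCx X) ≅ cc.pt :=
  HomologicalComplex.Hom.isoOfComponents (fun i => compIso X cc hcc i) (by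
    intro i j _
    change (compIso X cc hcc i).hom ≫ cc.pt.d i j = colimMap (dNat X i j) ≫ (compIso X cc hcc j).hom
    apply colimit.hom_ext
    intro t
    rw [ι_compIso_hom_assoc, ι_colimMap_assoc, ι_compIso_hom]
    exact (cc.ι.app t).comm i j)

@[reassoc (attr := simp)]
lemma colimIso_hom_f (X : J ⥤ HomologicalComplex A c) (cc : Cocone X) (hcc : IsColimit cc)
    (i : ι) : (colimIso X cc hcc).hom.f i = (compIso X cc hcc i).hom := rfl

variable (A c J) in
/-- quasi-isomorphisms are stable under colimits of shape `J` when these are exact -/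
theorem quasiIso_isStableUnderColimitsOfShape [HasExactColimitsOfShape J A] :
    (HomologicalComplex.quasiIso A c).IsStableUnderColimitsOfShape J where
  condition X₁ X₂ c₁ c₂ h₁ h₂ f hf φ hφ := by
    have hq : QuasiIso (toCxMap f) := quasiIso_toCxMap f (fun t => hf t)
    have hq' : QuasiIso (((colim : (J ⥤ A) ⥤ A).mapHomologicalComplex c).map (toCxMap f)) :=
      inferInstance
    have e : Arrow.mk (((colim : (J ⥤ A) ⥤ A).mapHomologicalComplex c).map (toCxMap f)) ≅
        Arrow.mk φ :=
      Arrow.isoMk (colimIso X₁ c₁ h₁) (colimIso X₂ c₂ h₂) (by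
        ext i
        change (compIso X₁ c₁ h₁ i).hom ≫ φ.f i =
          colimMap (Functor.whiskerRight f (HomologicalComplex.eval A c i)) ≫
            (compIso X₂ c₂ h₂ i).hom
        apply colimit.hom_ext
        intro t
        rw [ι_compIso_hom_assoc, ι_colimMap_assoc, ι_compIso_hom]
        exact congrArg (fun g => g.f i) (hφ t))
    exact (_root_.quasiIso_iff_of_arrow_mk_iso _ _ e).1 hq'

end

end Groth.Agent.Helper29.KInjQ
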