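import Mathlib
import Groth.Agent.Lib.Helper29.KInjQ

namespace Groth.Agent.Helper29.KInjW

open CategoryTheory Limits MorphismProperty

universe v u

variable {A : Type u} [Category.{v} A] [Abelian A]

/-- a monomorphism of cochain complexes with acyclic cokernel is a quasi-isomorphism -/
lemma quasiIso_of_shortExact {S : ShortComplex (CochainComplex A ℤ)} (hS : S.ShortExact)
    (h : S.X₃.Acyclic) : QuasiIso S.f := by
  rw [quasiIso_iff]
  intro j
  rw [quasiIsoAt_iff_isIso_homologyMap]
  have h3 : ∀ i, IsZero (S.X₃.homology i) := fun i => by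
    have := h i
    rwa [HomologicalComplex.exactAt_iff_isZero_homology] at this
  have hm : Mono (HomologicalComplex.homologyMap S.f j) :=
    (hS.homology_exact₁ (j - 1) j (by simp)).mono_g ((h3 _).eq_of_src _ _)
  have he : Epi (HomologicalComplex.homologyMap S.f j) :=
    (hS.homology_exact₂ j).epi_f ((h3 _).eq_of_tgt _ _)
  exact isIso_of_mono_of_epi _

lemma quasiIso_iff_acyclic_cokernel {K L : CochainComplex A ℤ} (f : K ⟶ L) [Mono f] :
    QuasiIso f ↔ (cokernel f).Acyclic := by
  have hS : (ShortComplex.mk f (cokernel.π f) (cokernel.condition f)).ShortExact :=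
    { exact := ShortComplex.exact_cokernel f }
  exact ⟨fun h => hS.acyclic_X₃ h, fun h => quasiIso_of_shortExact hS h⟩

variable (A) in
/-- monomorphisms which are quasi-isomorphisms -/
def W : MorphismProperty (CochainComplex A ℤ) :=
  monomorphisms _ ⊓ HomologicalComplex.quasiIso A (ComplexShape.up ℤ)

lemma W_iff {K L : CochainComplex A ℤ} (f : K ⟶ L) : W A f ↔ Mono f ∧ QuasiIso f := Iff.rfl

instance : (W A).IsMultiplicative := by unfold W; infer_instance

instance : (W A).RespectsIso := by unfold W; infer_instance

instance : (W A).IsStableUnderRetracts where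
  of_retract h hg := ⟨of_retract h hg.1, of_retract h hg.2⟩

instance : (W A).IsStableUnderCobaseChange where
  of_isPushout {K K' L L' f g f' g'} sq hf := by
    obtain ⟨hf1, hf2⟩ := hf
    have : Mono f := hf1
    have : QuasiIso f := hf2
    have hm : Mono f' := (monomorphisms _).of_isPushout sq hf1
    refine ⟨hm, ?_⟩
    change QuasiIso f'
    rw [quasiIso_iff_acyclic_cokernel]
    have h1 : (cokernel f).Acyclic := (quasiIso_iff_acyclic_cokernel f).1 inferInstance
    have := isIso_cokernel_map_of_isPushout sq.flip
    let e : cokernel f ≅ cokernel f' := asIso (cokernel.map f f' g g' sq.flip.w)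
    exact fun i => (h1 i).of_iso e

lemma W_isStableUnderColimitsOfShape (J : Type*) [Category* J] [HasColimitsOfShape J A]
    [HasExactColimitsOfShape J A]
    [(monomorphisms (CochainComplex A ℤ)).IsStableUnderColimitsOfShape J] :
    (W A).IsStableUnderColimitsOfShape J where
  condition X₁ X₂ c₁ c₂ h₁ h₂ f hf φ hφ := by
    have := KInjQ.quasiIso_isStableUnderColimitsOfShape A (ComplexShape.up ℤ) J
    exact ⟨IsStableUnderColimitsOfShape.condition X₁ X₂ c₁ c₂ h₁ h₂ f (fun j => (hf j).1) φ hφ,
      IsStableUnderColimitsOfShape.condition X₁ X₂ c₁ c₂ h₁ h₂ f (fun j => (hf j).2) φ hφ⟩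

section

variable [IsGrothendieckAbelian.{v} A]

instance : IsStableUnderCoproducts.{v} (W A) where
  isStableUnderCoproductsOfShape J := W_isStableUnderColimitsOfShape _

instance : IsStableUnderFilteredColimits.{v, v} (W A) where
  isStableUnderColimitsOfShape J _ _ := W_isStableUnderColimitsOfShape _

instance : IsStableUnderTransfiniteComposition.{v} (W A) := inferInstance

/-- the closure property that we need -/
lemma closure_le :
    (transfiniteCompositions.{v} (coproducts.{v} (W A)).pushouts).retracts ≤ W A := by
  simp

end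

end Groth.Agent.Helper29.KInjW
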