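import Mathlib
import Groth.Agent.Lib.Helper29.KInjW
import Groth.Agent.Lib.Helper29.KInjD

namespace Groth.Agent.Helper29.KInjK

open CategoryTheory Limits KInjA KInjC KInjD

universe v u

variable {A : Type u} [Category.{v} A] [Abelian A] [IsGrothendieckAbelian.{v} A]
  {G : A} (hG : IsSeparator G)

variable (G) in
/-- the index type bounding the small complexes -/
abbrev FinIx : Type v :=
  (Bound G (PUnit.{v + 1} ⊕ PUnit.{v + 1}) × Shrink.{v} (Subobject G)) ⊕
    (Bound G (PUnit.{v + 1} ⊕ PUnit.{v + 1}) × Shrink.{v} (Subobject G))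

omit [IsGrothendieckAbelian.{v} A] in
lemma gen_self : Gen G PUnit.{v + 1} G :=
  ⟨fun _ => 𝟙 G, fun Z φ hφ => by simpa using hφ PUnit.unit⟩

lemma gen_bot {I : Type v} {X : A} : Gen G I ((⊥ : Subobject X) : A) := by
  apply gen_of_isZero
  rw [IsZero.iff_id_eq_zero, ← cancel_mono (⊥ : Subobject X).arrow]
  simp

include hG in
/-- a nonzero acyclic complex contains a nonzero small acyclic subcomplex -/
lemma exists_nonzero_small_acyclic {Q : CochainComplex A ℤ} (hQ : Q.Acyclic) (m : ℤ)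
    (x₀ : G ⟶ Q.X m) :
    ∃ T : SubCx Q, T.cx.Acyclic ∧ (∀ n, Gen G (Bound G (PUnit.{v + 1} ⊕ PUnit.{v + 1})) (T.T n : A)) ∧
      imageSubobject x₀ ≤ T.T m := by
  classical
  let S₀ : ∀ n : ℤ, Subobject (Q.X n) :=
    Function.update (fun n => (⊥ : Subobject (Q.X n))) m (imageSubobject x₀)
  have hS₀ : ∀ n, Gen G PUnit.{v + 1} (S₀ n : A) := by
    intro n
    by_cases hn : n = m
    · subst hn
      simp only [S₀, Function.update_self]
      exact gen_self.of_epi (factorThruImageSubobject x₀)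
    · simp only [S₀, Function.update_of_ne hn]
      exact gen_bot
  obtain ⟨T, hT₁, hT₂, hT₃⟩ := exists_small_acyclic hG hQ (genCx S₀) (gen_genT S₀ hS₀)
  refine ⟨T, hT₂, hT₃, ?_⟩
  refine le_trans ?_ (hT₁ m)
  refine le_trans ?_ (le_genT S₀ m)
  simp [S₀]

include hG in
/-- the key lemma: a monomorphism which is a quasi-isomorphism but not an isomorphism
can be enlarged using a small complex -/
theorem key_lemma {X Y : CochainComplex A ℤ} (a : X ⟶ Y) [Mono a] [QuasiIso a]
    (ha : ¬ IsIso a) :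
    ∃ (Z : CochainComplex A ℤ) (z : Z ⟶ Y), (∀ n, Gen G (FinIx G) (Z.X n)) ∧
      QuasiIso (pullback.snd a z) ∧ ¬ ∃ l : Z ⟶ X, l ≫ a = z := by
  let Q := cokernel a
  let π : Y ⟶ Q := cokernel.π a
  have hQ : Q.Acyclic := (KInjW.quasiIso_iff_acyclic_cokernel a).1 inferInstance
  -- `Q` is nonzero
  have h1 : ∃ m : ℤ, ¬ IsZero (Q.X m) := by
    by_contra hc
    push Not at hc
    have h0 : π = 0 := by
      ext n
      exact (hc n).eq_of_tgt _ _
    have := Abelian.epi_of_cokernel_π_eq_zero a h0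
    exact ha (isIso_of_mono_of_epi a)
  obtain ⟨m, hm⟩ := h1
  have h2 : ∃ x₀ : G ⟶ Q.X m, x₀ ≠ 0 := by
    by_contra hc
    push Not at hc
    apply hm
    rw [IsZero.iff_id_eq_zero]
    apply hG.def
    intro h
    rw [hc h, zero_comp, zero_comp]
  obtain ⟨x₀, hx₀⟩ := h2
  obtain ⟨T, hT₁, hT₂, hT₃⟩ := exists_nonzero_small_acyclic hG hQ m x₀
  -- the pullback
  let P := pullback π T.ι
  let p₁ : P ⟶ Y := pullback.fst π T.ι
  let p₂ : P ⟶ T.cx := pullback.snd π T.ι
  have hp₂ : Epi p₂ := inferInstance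
  have h3 := fun n : ℤ => gen_lift hG (p₂.f n) (hT₂ n)
  choose Z₀ hZ₀ hZ₀' using h3
  let Zc : SubCx P := genCx Z₀
  let z : Zc.cx ⟶ Y := Zc.ι ≫ p₁
  let ρ : Zc.cx ⟶ T.cx := Zc.ι ≫ p₂
  have hρ : Epi ρ := by
    apply HomologicalComplex.epi_of_epi_f
    intro n
    change Epi ((genT Z₀ n).arrow ≫ p₂.f n)
    have : Epi (Subobject.ofLE _ _ (le_genT Z₀ n) ≫ (genT Z₀ n).arrow ≫ p₂.f n) := by
      rw [Subobject.ofLE_arrow_assoc]
      exact hZ₀' n
    exact epi_of_epi (Subobject.ofLE _ _ (le_genT Z₀ n)) _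
  have hzρ : z ≫ π = ρ ≫ T.ι := by
    dsimp only [z, ρ, p₁, p₂]
    rw [Category.assoc, Category.assoc, pullback.condition]
  have haπ : a ≫ π = 0 := cokernel.condition a
  refine ⟨Zc.cx, z, fun n => gen_genT Z₀ hZ₀ n, ?_, ?_⟩
  · have hzero : pullback.snd a z ≫ ρ = 0 := by
      rw [← cancel_mono T.ι, Category.assoc, ← hzρ, ← pullback.condition_assoc, haπ, comp_zero,
        zero_comp]
    have hlift : ∀ {W : CochainComplex A ℤ} (s : W ⟶ Zc.cx) (_ : s ≫ ρ = 0),
        (s ≫ z) ≫ cokernel.π a = 0 := fun {W} s hs => by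
      change (s ≫ z) ≫ π = 0
      rw [Category.assoc, hzρ, ← Category.assoc, hs, zero_comp]
    have hS : (ShortComplex.mk (pullback.snd a z) ρ hzero).ShortExact :=
      { exact := ShortComplex.exact_of_f_is_kernel _ (KernelFork.IsLimit.ofι _ _
          (fun {W} s hs => pullback.lift (Abelian.monoLift a (s ≫ z) (hlift s hs)) s
            (Abelian.monoLift_comp _ _ _))
          (fun {W} s hs => pullback.lift_snd _ _ _)
          (fun {W} s hs l hl => by
            rw [← cancel_mono (pullback.snd a z), hl, pullback.lift_snd])) }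
    exact KInjW.quasiIso_of_shortExact hS hT₁
  · rintro ⟨l, hl⟩
    have h4 : ρ ≫ T.ι = 0 := by
      rw [← hzρ, ← hl, Category.assoc, haπ, comp_zero]
    have h5 : ρ = 0 := by
      rwa [← cancel_mono T.ι, zero_comp]
    have h6 : 𝟙 T.cx = 0 := by
      rw [← cancel_epi ρ, comp_zero, h5, zero_comp]
    have h7 : (T.T m).arrow = 0 := by
      have := congrArg (fun f => f.f m) h6
      change 𝟙 (T.T m : A) = 0 at this
      rw [← Category.id_comp (T.T m).arrow, this, zero_comp]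
    apply hx₀
    rw [← imageSubobject_arrow_comp x₀, ← Subobject.ofLE_arrow hT₃, h7, comp_zero, comp_zero]

end Groth.Agent.Helper29.KInjK
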