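import Mathlib
import Groth.Agent.Lib.Helper29.KInjK

namespace Groth.Agent.Helper29.KInjP

open CategoryTheory Limits KInjA MorphismProperty

universe v u

variable {A : Type u} [Category.{v} A] [Abelian A]

/-- the disk complex on `X` in degrees `n` and `n+1` -/
noncomputable abbrev disk (X : A) (n : ℤ) : CochainComplex A ℤ :=
  HomologicalComplex.double (𝟙 X) (show (ComplexShape.up ℤ).Rel n (n + 1) from rfl)

/-- morphisms from the disk -/
noncomputable def diskEquiv (X : A) (n : ℤ) (K : CochainComplex A ℤ) :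
    (disk X n ⟶ K) ≃ (X ⟶ K.X n) :=
  (HomologicalComplex.evalCompCoyonedaCorepresentableByDoubleId
    (show (ComplexShape.up ℤ).Rel n (n + 1) from rfl) (by omega) X).homEquiv

lemma diskEquiv_apply (X : A) (n : ℤ) (K : CochainComplex A ℤ) (g : disk X n ⟶ K) :
    diskEquiv X n K g = (HomologicalComplex.doubleXIso₀ (𝟙 X)
      (show (ComplexShape.up ℤ).Rel n (n + 1) from rfl)).inv ≫ g.f n := rfl

lemma diskEquiv_comp (X : A) (n : ℤ) {K L : CochainComplex A ℤ} (g : disk X n ⟶ K) (ψ : K ⟶ L) :
    diskEquiv X n L (g ≫ ψ) = diskEquiv X n K g ≫ ψ.f n := by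
  simp [diskEquiv_apply]

section

variable [IsGrothendieckAbelian.{v} A] (G : A)

/-- the big complex of which all small complexes are quotients -/
noncomputable abbrev E : CochainComplex A ℤ := ∐ (fun p : ℤ × KInjK.FinIx G => disk G p.1)

variable {G}

lemma exists_epi {Z : CochainComplex A ℤ} (h : ∀ n, Gen G (KInjK.FinIx G) (Z.X n)) :
    ∃ q : E G ⟶ Z, Epi q := by
  choose f hf using h
  refine ⟨Sigma.desc (fun p => (diskEquiv G p.1 Z).symm (f p.1 p.2)), ?_⟩
  apply Preadditive.epi_of_cancel_zero
  intro W ψ hψ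
  ext n
  apply hf n
  intro i
  have h1 : (diskEquiv G n Z).symm (f n i) ≫ ψ = 0 := by
    have := Sigma.ι (fun p : ℤ × KInjK.FinIx G => disk G p.1) (n, i) ≫= hψ
    simpa using this
  have h2 := congrArg (diskEquiv G n W) h1
  rw [diskEquiv_comp, Equiv.apply_symm_apply] at h2
  rw [h2]
  simp [diskEquiv_apply]

/-- the cokernel of the kernel of an epimorphism -/
noncomputable def cokerKernelIso {X Y : CochainComplex A ℤ} (q : X ⟶ Y) [Epi q] :
    cokernel (kernelSubobject q).arrow ≅ Y where
  hom := cokernel.desc _ q (kernelSubobject_arrow_comp q)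
  inv := Abelian.epiDesc q (cokernel.π (kernelSubobject q).arrow) (by
    rw [← kernelSubobject_arrow' q, Category.assoc, cokernel.condition, comp_zero])
  hom_inv_id := by
    rw [← cancel_epi (cokernel.π (kernelSubobject q).arrow), cokernel.π_desc_assoc,
      Abelian.comp_epiDesc, Category.comp_id]
  inv_hom_id := by
    rw [← cancel_epi q, Abelian.comp_epiDesc_assoc, cokernel.π_desc, Category.comp_id]

variable (G) in
/-- index type of the generating family -/
abbrev ιJ : Type (max u v) :=
  Σ N : Subobject (E G), {B : Subobject (cokernel N.arrow) // QuasiIso B.arrow}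

variable (G) in
/-- the generating family -/
noncomputable def fam (i : ιJ G) : (i.2.1 : CochainComplex A ℤ) ⟶ cokernel i.1.arrow :=
  i.2.1.arrow

instance (i : ιJ G) : Mono (fam G i) := by dsimp [fam]; infer_instance

instance (i : ιJ G) : QuasiIso (fam G i) := i.2.2

variable (G) in
/-- the generating class of monomorphisms which are quasi-isomorphisms -/
def J : MorphismProperty (CochainComplex A ℤ) := MorphismProperty.ofHoms (fam G)

instance : Small.{v} (ιJ G) := by
  dsimp [ιJ]
  infer_instance

instance : MorphismProperty.IsSmall.{v} (J G) := by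
  dsimp [J]
  infer_instance

lemma J_le_W : J G ≤ KInjW.W A := by
  rintro _ _ _ ⟨i⟩
  exact ⟨inferInstanceAs (Mono (fam G i)), inferInstanceAs (QuasiIso (fam G i))⟩

lemma J_le_mono : J G ≤ monomorphisms _ := fun _ _ _ h => (J_le_W _ h).1

/-- monomorphisms which are quasi-isomorphisms with small target are isomorphic to members
of the generating family -/
lemma exists_arrow_iso {Z' Z : CochainComplex A ℤ} (j : Z' ⟶ Z) [Mono j] [QuasiIso j]
    (h : ∀ n, Gen G (KInjK.FinIx G) (Z.X n)) :
    ∃ i : ιJ G, Nonempty (CategoryTheory.Arrow.mk j ≅ CategoryTheory.Arrow.mk (fam G i)) := by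
  obtain ⟨q, hq⟩ := exists_epi h
  let e := cokerKernelIso q
  let B : Subobject (cokernel (kernelSubobject q).arrow) := Subobject.mk (j ≫ e.inv)
  have hB : QuasiIso B.arrow := by
    have : B.arrow = (Subobject.underlyingIso (j ≫ e.inv)).hom ≫ j ≫ e.inv := by simp [B]
    rw [this]
    infer_instance
  refine ⟨⟨kernelSubobject q, ⟨B, hB⟩⟩, ⟨CategoryTheory.Arrow.isoMk (Subobject.underlyingIso (j ≫ e.inv)).symm
    e.symm ?_⟩⟩
  simp [fam, B]

/-- pushouts of morphisms isomorphic to members of the family are pushouts of members -/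
lemma pushouts_of_arrow_iso {Pb Z X X' : CochainComplex A ℤ} {t : Pb ⟶ X} {j : Pb ⟶ Z}
    {r : X ⟶ X'} {b : Z ⟶ X'} (sq : IsPushout t j r b) (i : ιJ G)
    (φ : CategoryTheory.Arrow.mk j ≅ CategoryTheory.Arrow.mk (fam G i)) : (J G).pushouts r := by
  refine ⟨_, _, fam G i, φ.inv.left ≫ t, φ.inv.right ≫ b, ⟨i⟩, ?_⟩
  refine sq.of_iso (CategoryTheory.Arrow.leftFunc.mapIso φ) (Iso.refl _)
    (CategoryTheory.Arrow.rightFunc.mapIso φ) (Iso.refl _) ?_ ?_ ?_ ?_
  · simp
  · have := φ.hom.w
    dsimp at this ⊢
    exact this.symm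
  · simp
  · simp

variable (hG : IsSeparator G)

include hG in
/-- the analogue of `generatingMonomorphisms.exists_pushouts` -/
lemma exists_pushouts {X Y : CochainComplex A ℤ} (a : X ⟶ Y) [Mono a] [QuasiIso a]
    (ha : ¬ IsIso a) :
    ∃ (X' : CochainComplex A ℤ) (i : X ⟶ X') (p' : X' ⟶ Y) (_ : (J G).pushouts i)
      (_ : ¬ IsIso i) (_ : Mono p') (_ : QuasiIso p'), i ≫ p' = a := by
  obtain ⟨Z, z, hZ, hq, hz⟩ := KInjK.key_lemma hG a ha
  have : Mono (pullback.snd a z) := inferInstance
  obtain ⟨i₀, ⟨φ⟩⟩ := exists_arrow_iso (pullback.snd a z) hZ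
  have sq := IsPushout.of_hasPushout (pullback.fst a z) (pullback.snd a z)
  have hi : (J G).pushouts (pushout.inl (pullback.fst a z) (pullback.snd a z)) :=
    pushouts_of_arrow_iso sq i₀ φ
  have hW : KInjW.W A (pushout.inl (pullback.fst a z) (pullback.snd a z)) :=
    MorphismProperty.of_isPushout (P := KInjW.W A) sq ⟨this, hq⟩
  have h1 : pushout.inl (pullback.fst a z) (pullback.snd a z) ≫
      pushout.desc a z pullback.condition = a := pushout.inl_desc _ _ _
  have h2 : pushout.inr (pullback.fst a z) (pullback.snd a z) ≫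
      pushout.desc a z pullback.condition = z := pushout.inr_desc _ _ _
  have hmono : Mono (pushout.desc a z pullback.condition) :=
    sq.mono_of_isPullback_of_mono (IsPullback.of_hasPullback a z) _ h1 h2
  refine ⟨pushout (pullback.fst a z) (pullback.snd a z), pushout.inl _ _,
    pushout.desc a z pullback.condition, hi, ?_, hmono, ?_, h1⟩
  · intro h
    apply hz
    refine ⟨pushout.inr _ _ ≫ inv (pushout.inl (pullback.fst a z) (pullback.snd a z)), ?_⟩
    calc (pushout.inr _ _ ≫ inv (pushout.inl (pullback.fst a z) (pullback.snd a z))) ≫ a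
        = (pushout.inr _ _ ≫ inv (pushout.inl (pullback.fst a z) (pullback.snd a z))) ≫
          pushout.inl (pullback.fst a z) (pullback.snd a z) ≫
            pushout.desc a z pullback.condition := by rw [h1]
      _ = z := by rw [Category.assoc, IsIso.inv_hom_id_assoc, h2]
  · have : QuasiIso (pushout.inl (pullback.fst a z) (pullback.snd a z)) := hW.2
    have : QuasiIso (pushout.inl (pullback.fst a z) (pullback.snd a z) ≫
      pushout.desc a z pullback.condition) := by rw [h1]; infer_instance
    exact quasiIso_of_comp_left (pushout.inl (pullback.fst a z) (pullback.snd a z)) _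

end

end Groth.Agent.Helper29.KInjP
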