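import Mathlib
import Groth.Agent.Lib.Helper29.KInjP

namespace Groth.Agent.Helper29.KInjT

open CategoryTheory Limits MorphismProperty KInjP Category

universe v u

variable {A : Type u} [Category.{v} A] [Abelian A] [IsGrothendieckAbelian.{v} A]
  {G : A}

variable (G) in
lemma isomorphisms_le_pushouts_J :
    MorphismProperty.isomorphisms (CochainComplex A ℤ) ≤ (J G).pushouts := by
  let i₀ : ιJ G := ⟨⊤, ⟨⊤, inferInstance⟩⟩
  refine MorphismProperty.isomorphisms_le_pushouts _ (fun X => ⟨_, _, fam G i₀, ⟨i₀⟩, 0, ?_⟩)
  dsimp [fam, i₀]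
  infer_instance

variable (hG : IsSeparator G)

include hG in
lemma exists_larger_subobject {X : CochainComplex A ℤ} (B : Subobject X) (hB : B ≠ ⊤)
    (hq : QuasiIso B.arrow) :
    ∃ (B' : Subobject X) (h : B < B'),
      (J G).pushouts (Subobject.ofLE B B' h.le) ∧ QuasiIso B'.arrow := by
  induction B using Subobject.ind with | _ f
  have hf : QuasiIso f := by
    have : f = (Subobject.underlyingIso f).inv ≫ (Subobject.mk f).arrow := by simp
    rw [this]
    infer_instance
  obtain ⟨X', i, p', hi, hi', hp', hp'', fac⟩ := exists_pushouts hG f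
    (by simpa only [Subobject.isIso_iff_mk_eq_top] using hB)
  refine ⟨Subobject.mk p', Subobject.mk_lt_mk_of_comm i fac hi', ?_, ?_⟩
  · refine (MorphismProperty.arrow_mk_iso_iff _ ?_).2 hi
    refine Arrow.isoMk (Subobject.underlyingIso f) (Subobject.underlyingIso p') ?_
    dsimp
    simp only [← cancel_mono p', assoc, fac,
      Subobject.underlyingIso_hom_comp_eq_mk, Subobject.ofLE_arrow]
  · have : (Subobject.mk p').arrow = (Subobject.underlyingIso p').hom ≫ p' := by simp
    rw [this]
    infer_instance

variable {X : CochainComplex A ℤ}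

open scoped Classical in
/-- the larger subobject -/
noncomputable def largerSubobject (B : Subobject X) : Subobject X :=
  if hB : B ≠ ⊤ ∧ QuasiIso B.arrow then (exists_larger_subobject hG B hB.1 hB.2).choose else ⊤

variable (X) in
@[simp]
lemma largerSubobject_top : largerSubobject hG (⊤ : Subobject X) = ⊤ := dif_neg (by simp)

lemma lt_largerSubobject (B : Subobject X) (hB : B ≠ ⊤) :
    B < largerSubobject hG B := by
  dsimp only [largerSubobject]
  split_ifs with h
  · exact (exists_larger_subobject hG B h.1 h.2).choose_spec.choose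
  · exact lt_top_iff_ne_top.2 hB

lemma le_largerSubobject (B : Subobject X) :
    B ≤ largerSubobject hG B := by
  by_cases hB : B = ⊤
  · subst hB
    simp only [largerSubobject_top, le_refl]
  · exact (lt_largerSubobject hG B hB).le

lemma quasiIso_largerSubobject (B : Subobject X) :
    QuasiIso (largerSubobject hG B).arrow := by
  by_cases h : B ≠ ⊤ ∧ QuasiIso B.arrow
  · have : largerSubobject hG B = (exists_larger_subobject hG B h.1 h.2).choose := dif_pos h
    rw [this]
    exact (exists_larger_subobject hG B h.1 h.2).choose_spec.choose_spec.2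
  · have : largerSubobject hG B = ⊤ := dif_neg h
    rw [this]
    infer_instance

set_option backward.defeqAttrib.useBackward true in
set_option backward.isDefEq.respectTransparency false in
lemma pushouts_ofLE_le_largerSubobject (B : Subobject X) (hq : QuasiIso B.arrow) :
    (J G).pushouts (Subobject.ofLE _ _ (le_largerSubobject hG B)) := by
  by_cases hB : B = ⊤
  · subst hB
    have := (Subobject.isIso_arrow_iff_eq_top (largerSubobject hG (⊤ : Subobject X))).2 (by simp)
    exact (MorphismProperty.arrow_mk_iso_iff _
      (Arrow.isoMk (asIso (Subobject.arrow _)) (asIso (Subobject.arrow _)) (by simp))).2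
        (isomorphisms_le_pushouts_J G (𝟙 X)
          (MorphismProperty.isomorphisms.infer_property _))
  · have h : B ≠ ⊤ ∧ QuasiIso B.arrow := ⟨hB, hq⟩
    refine (MorphismProperty.arrow_mk_iso_iff _ ?_).1
      (exists_larger_subobject hG B hB hq).choose_spec.choose_spec.1
    exact Arrow.isoMk (Iso.refl _)
      (Subobject.isoOfEq _ _ ((by simp [largerSubobject, dif_pos h])))

attribute [local instance] IsFiltered.isConnected in
omit hG in
/-- a directed supremum of subobjects whose inclusions are quasi-isomorphisms -/
lemma quasiIso_iSup_arrow {K : Type v} [Preorder K] [IsDirected K (· ≤ ·)] [Nonempty K]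
    (T : K → Subobject X) (hT : Monotone T) (h : ∀ k, QuasiIso (T k).arrow) :
    QuasiIso (⨆ k, T k).arrow := by
  let f : KInjU.famA T hT ⟶ (Functor.const K).obj X :=
    { app := fun k => (T k).arrow
      naturality := fun k k' g => by
        change Subobject.ofLE (T k) (T k') (hT (leOfHom g)) ≫ (T k').arrow = (T k).arrow ≫ 𝟙 _
        rw [Category.comp_id, Subobject.ofLE_arrow] }
  have := MorphismProperty.IsStableUnderColimitsOfShape.condition (W := KInjW.W A) (J := K)
    (KInjU.famA T hT) ((Functor.const K).obj X) (KInjU.supCoconeA T hT) (constCocone K X)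
    (KInjU.isColimitSup T hT) (isColimitConstCocone K X) f
    (fun k => ⟨inferInstanceAs (Mono (T k).arrow), h k⟩) (⨆ k, T k).arrow (fun k => by
      change Subobject.ofLE (T k) (⨆ k, T k) (le_iSup T k) ≫ (⨆ k, T k).arrow = (T k).arrow ≫ 𝟙 _
      rw [Category.comp_id, Subobject.ofLE_arrow])
  exact this.2

section

variable (A₀ : Subobject X) {J₀ : Type v} [LinearOrder J₀] [OrderBot J₀] [SuccOrder J₀]
  [WellFoundedLT J₀]

lemma quasiIso_transfiniteIterate (h₀ : QuasiIso A₀.arrow) (j : J₀) :
    QuasiIso (transfiniteIterate (largerSubobject hG) j A₀).arrow := by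
  induction j using SuccOrder.limitRecOn with
  | isMin j hj =>
    obtain rfl := hj.eq_bot
    rw [transfiniteIterate_bot]
    exact h₀
  | succ j hj _ =>
    rw [transfiniteIterate_succ _ _ _ hj]
    exact quasiIso_largerSubobject hG _
  | isSuccLimit j hj ih =>
    rw [transfiniteIterate_limit _ _ _ hj]
    have := hj.nonempty_Iio.to_subtype
    exact quasiIso_iSup_arrow (fun k : Set.Iio j => transfiniteIterate (largerSubobject hG) k.1 A₀)
      (fun k k' hkk' => monotone_transfiniteIterate _ _ (le_largerSubobject hG) hkk')
      (fun k => ih k.1 k.2)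

lemma top_mem_range (hJ : HasCardinalLT (Subobject X) (Cardinal.mk J₀)) :
    ∃ (j : J₀), transfiniteIterate (largerSubobject hG) j A₀ = ⊤ :=
  top_mem_range_transfiniteIterate (largerSubobject hG) A₀ (lt_largerSubobject hG) (by simp)
    (fun h ↦ by simpa [hasCardinalLT_iff_cardinal_mk_lt] using hJ.of_injective _ h)

end

lemma exists_ordinal (A₀ : Subobject X) :
    ∃ (o : Ordinal.{v}) (j : o.ToType), transfiniteIterate (largerSubobject hG) j A₀ = ⊤ := by
  let κ := Order.succ (Cardinal.mk (Shrink.{v} (Subobject X)))
  have : Nonempty κ.ord.ToType := by simp [κ]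
  have := WellFoundedLT.toOrderBot κ.ord.ToType
  exact ⟨κ.ord, top_mem_range hG A₀ (lt_of_lt_of_le (Order.lt_succ _) (by simp [κ]))⟩

section

variable (A₀ : Subobject X) (J₀ : Type v) [LinearOrder J₀] [OrderBot J₀] [SuccOrder J₀]
  [WellFoundedLT J₀]

/-- the functor `J₀ ⥤ MonoOver X` given by the transfinite iteration -/
@[simps]
noncomputable def functorToMonoOver : J₀ ⥤ MonoOver X where
  obj j := MonoOver.mk (transfiniteIterate (largerSubobject hG) j A₀).arrow
  map {j j'} f := MonoOver.homMk (Subobject.ofLE _ _
      (monotone_transfiniteIterate _ _ (le_largerSubobject hG) (leOfHom f)))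

/-- The functor `J₀ ⥤ C` induced by `functorToMonoOver` -/
noncomputable abbrev functor : J₀ ⥤ CochainComplex A ℤ :=
  functorToMonoOver hG A₀ J₀ ⋙ MonoOver.forget _ ⋙ Over.forget _

set_option backward.defeqAttrib.useBackward true in
instance : (functor hG A₀ J₀).IsWellOrderContinuous where
  nonempty_isColimit m hm := ⟨by
    have := hm.nonempty_Iio.to_subtype
    let c := (Set.principalSegIio m).cocone (functorToMonoOver hG A₀ J₀ ⋙ MonoOver.forget _)
    have : Mono c.pt.hom := by dsimp [c]; infer_instance
    apply IsGrothendieckAbelian.isColimitMapCoconeOfSubobjectMkEqISup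
      ((Set.principalSegIio m).monotone.functor ⋙ functorToMonoOver hG A₀ J₀) c
    dsimp [c]
    simp only [Subobject.mk_arrow]
    exact transfiniteIterate_limit (largerSubobject hG) A₀ m hm⟩

set_option backward.isDefEq.respectTransparency.types false in
set_option backward.defeqAttrib.useBackward true in
variable {J₀} in
/-- For any `j`, the map `(functor hG A₀ J₀).map (homOfLE bot_le : ⊥ ⟶ j)`
is a transfinite composition of pushouts of morphisms in the family `J G`. -/
noncomputable def transfiniteCompositionOfShapeMapFromBot (h₀ : QuasiIso A₀.arrow) (j : J₀) :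
    (J G).pushouts.TransfiniteCompositionOfShape (Set.Iic j)
    ((functor hG A₀ J₀).map (homOfLE bot_le : ⊥ ⟶ j)) where
  F := (Set.initialSegIic j).monotone.functor ⋙ functor hG A₀ J₀
  isoBot := Iso.refl _
  incl :=
    { app k := (functor hG A₀ J₀).map (homOfLE k.2)
      naturality k k' h := by simp [MonoOver.forget] }
  isColimit := colimitOfDiagramTerminal isTerminalTop _
  map_mem k hk := by
    dsimp [MonoOver.forget]
    convert!
      pushouts_ofLE_le_largerSubobject hG (transfiniteIterate (largerSubobject hG) k.1 A₀)
        (quasiIso_transfiniteIterate hG A₀ h₀ k.1) using 2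
    all_goals
      rw [Set.Iic.succ_eq_of_not_isMax hk,
        transfiniteIterate_succ _ _ _ (Set.not_isMax_coe _ hk)]

end

variable {Y : CochainComplex A ℤ} {f : Y ⟶ X} [Mono f]

set_option backward.defeqAttrib.useBackward true in
set_option backward.isDefEq.respectTransparency false in
/-- If `transfiniteIterate (largerSubobject hG) j (Subobject.mk f) = ⊤`,
then the monomorphism `f` is a transfinite composition of pushouts of
morphisms in the family `J G`. -/
noncomputable def transfiniteCompositionOfShapeOfEqTop [QuasiIso f]
    {J₀ : Type v} [LinearOrder J₀] [OrderBot J₀] [SuccOrder J₀] [WellFoundedLT J₀] {j : J₀}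
    (hj : transfiniteIterate (largerSubobject hG) j (Subobject.mk f) = ⊤) :
    (J G).pushouts.TransfiniteCompositionOfShape (Set.Iic j) f := by
  let t := transfiniteIterate (largerSubobject hG) j (Subobject.mk f)
  have := (Subobject.isIso_arrow_iff_eq_top t).2 hj
  have h₀ : QuasiIso (Subobject.mk f).arrow := by
    have : (Subobject.mk f).arrow = (Subobject.underlyingIso f).hom ≫ f := by simp
    rw [this]
    infer_instance
  apply (transfiniteCompositionOfShapeMapFromBot hG (Subobject.mk f) h₀ j).ofArrowIso
  refine Arrow.isoMk ((Subobject.isoOfEq _ _ (transfiniteIterate_bot _ _) ≪≫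
    Subobject.underlyingIso f)) (asIso t.arrow) ?_
  dsimp [MonoOver.forget]
  rw [assoc, Subobject.underlyingIso_hom_comp_eq_mk, Subobject.ofLE_arrow,
    Subobject.ofLE_arrow]

variable (f)

include hG in
/-- every monomorphism which is a quasi-isomorphism is a transfinite composition of pushouts
of morphisms in the family `J G` -/
lemma exists_transfiniteCompositionOfShape [QuasiIso f] :
    ∃ (J₀ : Type v) (_ : LinearOrder J₀) (_ : OrderBot J₀) (_ : SuccOrder J₀)
        (_ : WellFoundedLT J₀),
    Nonempty ((J G).pushouts.TransfiniteCompositionOfShape J₀ f) := by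
  obtain ⟨o, j, hj⟩ := exists_ordinal hG (Subobject.mk f)
  have : Nonempty o.ToType := ⟨j⟩
  have : OrderBot o.ToType := WellFoundedLT.toOrderBot _
  exact ⟨_, _, _, _, _, ⟨transfiniteCompositionOfShapeOfEqTop hG hj⟩⟩

include hG in
/-- the main consequence -/
theorem J_rlp : (J G).rlp = (KInjW.W A).rlp := by
  apply le_antisymm
  · intro X Y p hp K L i hi
    have : Mono i := hi.1
    have : QuasiIso i := hi.2
    obtain ⟨J₀, _, _, _, _, ⟨h⟩⟩ := exists_transfiniteCompositionOfShape hG i
    exact transfiniteCompositionsOfShape_le_llp_rlp _ _ _ h.mem _ (by simpa)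
  · exact antitone_rlp J_le_W

end Groth.Agent.Helper29.KInjT
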