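import Mathlib
import Groth.Agent.Lib.Helper29.KInjT

namespace Groth.Agent.Helper29.KInjR

open CategoryTheory Limits MorphismProperty KInjP

universe v u

variable {A : Type u} [Category.{v} A] [Abelian A]

lemma disk_d_isIso (X : A) (n : ℤ) : IsIso ((disk X n).d n (n + 1)) := by
  rw [HomologicalComplex.double_d _ _ (by omega : n ≠ n + 1)]
  infer_instance

lemma disk_isZero (X : A) (n k : ℤ) (h₀ : k ≠ n) (h₁ : k ≠ n + 1) : IsZero ((disk X n).X k) :=
  HomologicalComplex.isZero_double_X (𝟙 X) _ k h₀ h₁

/-- the disk complexes are acyclic -/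
lemma disk_acyclic (X : A) (n : ℤ) : (disk X n).Acyclic := by
  intro k
  have := disk_d_isIso X n
  by_cases h₀ : k = n
  · subst h₀
    rw [(disk X k).exactAt_iff' (k - 1) k (k + 1) (by simp) (by simp),
      ShortComplex.exact_iff_mono _
        ((disk_isZero X k (k - 1) (by omega) (by omega)).eq_of_src _ _)]
    change Mono ((disk X k).d k (k + 1))
    infer_instance
  · by_cases h₁ : k = n + 1
    · subst h₁
      rw [(disk X n).exactAt_iff' n (n + 1) (n + 1 + 1) (by simp) (by simp),
        ShortComplex.exact_iff_epi _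
          ((disk_isZero X n (n + 1 + 1) (by omega) (by omega)).eq_of_tgt _ _)]
      change Epi ((disk X n).d n (n + 1))
      infer_instance
    · exact HomologicalComplex.ExactAt.of_isZero (disk_isZero X n k h₀ h₁)

/-- the canonical element of the disk -/
noncomputable def diskUnit (X : A) (n : ℤ) : X ⟶ (disk X n).X n :=
  (HomologicalComplex.doubleXIso₀ (𝟙 X)
      (show (ComplexShape.up ℤ).Rel n (n + 1) from rfl)).inv

lemma diskEquiv_apply' (X : A) (n : ℤ) (K : CochainComplex A ℤ) (g : disk X n ⟶ K) :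
    diskEquiv X n K g = diskUnit X n ≫ g.f n := rfl

/-- the map of disks induced by a morphism -/
noncomputable def diskMap {B C : A} (j : B ⟶ C) (n : ℤ) : disk B n ⟶ disk C n :=
  (diskEquiv B n _).symm (j ≫ diskUnit C n)

lemma diskUnit_diskMap {B C : A} (j : B ⟶ C) (n : ℤ) :
    diskUnit B n ≫ (diskMap j n).f n = j ≫ diskUnit C n := by
  have := (diskEquiv B n (disk C n)).apply_symm_apply (j ≫ diskUnit C n)
  rwa [diskEquiv_apply'] at this

lemma diskEquiv_diskMap_comp {B C : A} (j : B ⟶ C) (n : ℤ) {K : CochainComplex A ℤ}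
    (l : disk C n ⟶ K) : diskEquiv B n K (diskMap j n ≫ l) = j ≫ diskEquiv C n K l := by
  rw [diskEquiv_apply', diskEquiv_apply', HomologicalComplex.comp_f, ← Category.assoc,
    diskUnit_diskMap, Category.assoc]

instance (X : A) (n : ℤ) : IsIso (diskUnit X n) := by
  dsimp [diskUnit]; infer_instance

lemma mono_diskMap {B C : A} (j : B ⟶ C) [Mono j] (n : ℤ) : Mono (diskMap j n) := by
  apply HomologicalComplex.mono_of_mono_f
  intro k
  have h0 : Mono ((diskMap j n).f n) := by
    have h : Mono (diskUnit B n ≫ (diskMap j n).f n) := by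
      rw [diskUnit_diskMap]; infer_instance
    have e : (diskMap j n).f n =
        inv (diskUnit B n) ≫ (diskUnit B n ≫ (diskMap j n).f n) := by simp
    rw [e]
    infer_instance
  by_cases h₀ : k = n
  · subst h₀
    exact h0
  · by_cases h₁ : k = n + 1
    · subst h₁
      have := disk_d_isIso B n
      have := disk_d_isIso C n
      have hc := (diskMap j n).comm n (n + 1)
      have : (diskMap j n).f (n + 1) =
          inv ((disk B n).d n (n + 1)) ≫ (diskMap j n).f n ≫ (disk C n).d n (n + 1) := by
        rw [hc, IsIso.inv_hom_id_assoc]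
      rw [this]
      infer_instance
    · exact ⟨fun _ _ _ => (disk_isZero B n k h₀ h₁).eq_of_tgt _ _⟩

lemma W_diskMap {B C : A} (j : B ⟶ C) [Mono j] (n : ℤ) : KInjW.W A (diskMap j n) := by
  refine ⟨mono_diskMap j n, ?_⟩
  change QuasiIso (diskMap j n)
  rw [quasiIso_iff]
  intro k
  rw [quasiIsoAt_iff_exactAt _ _ (disk_acyclic B n k)]
  exact disk_acyclic C n k

/-- an object `I` such that `I ⟶ 0` has the right lifting property with respect to
monomorphisms that are quasi-isomorphisms has injective terms -/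
lemma injective_X {I Z : CochainComplex A ℤ} (p : I ⟶ Z) (hZ : IsZero Z)
    (hp : (KInjW.W A).rlp p) (n : ℤ) : Injective (I.X n) where
  factors {B C} g j _ := by
    have := hp _ (W_diskMap j n)
    have sq : CommSq ((diskEquiv B n I).symm g) (diskMap j n) p 0 := ⟨hZ.eq_of_tgt _ _⟩
    refine ⟨diskEquiv C n I sq.lift, ?_⟩
    rw [← diskEquiv_diskMap_comp, sq.fac_left, Equiv.apply_symm_apply]

open CochainComplex HomComplex

lemma mono_inr (K : CochainComplex A ℤ) : Mono (mappingCone.inr (𝟙 K)) := by
  apply HomologicalComplex.mono_of_mono_f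
  intro n
  exact mono_of_mono_fac (mappingCone.inr_f_snd_v (𝟙 K) n)

/-- the cone of the identity is contractible -/
noncomputable def coneIdHomotopy (K : CochainComplex A ℤ) :
    Homotopy (𝟙 (mappingCone (𝟙 K))) 0 :=
  (Cochain.equivHomotopy _ _).symm
    ⟨(mappingCone.snd (𝟙 K)).comp (mappingCone.inl (𝟙 K)) (zero_add (-1)), by
      rw [δ_zero_cochain_comp _ _ _ (neg_add_cancel 1), mappingCone.δ_inl, mappingCone.δ_snd,
        ← mappingCone.id (𝟙 K)]
      simp only [Category.id_comp, Cochain.ofHom_zero, add_zero, Cochain.comp_id, Cochain.neg_comp,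
        Int.negOnePow_neg, Int.negOnePow_one, Units.neg_smul, one_smul, neg_neg]
      exact add_comm _ _⟩

lemma cone_id_acyclic (K : CochainComplex A ℤ) : (mappingCone (𝟙 K)).Acyclic := by
  intro n
  rw [HomologicalComplex.exactAt_iff_isZero_homology, IsZero.iff_id_eq_zero,
    ← HomologicalComplex.homologyMap_id, (coneIdHomotopy K).homologyMap_eq n,
    HomologicalComplex.homologyMap_zero]

lemma W_inr (K : CochainComplex A ℤ) (hK : K.Acyclic) : KInjW.W A (mappingCone.inr (𝟙 K)) := by
  refine ⟨mono_inr K, ?_⟩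
  change QuasiIso (mappingCone.inr (𝟙 K))
  rw [quasiIso_iff]
  intro k
  rw [quasiIsoAt_iff_exactAt _ _ (hK k)]
  exact cone_id_acyclic K k

/-- an object `I` such that `I ⟶ 0` has the right lifting property with respect to
monomorphisms that are quasi-isomorphisms is K-injective -/
lemma isKInjective {I Z : CochainComplex A ℤ} (p : I ⟶ Z) (hZ : IsZero Z)
    (hp : (KInjW.W A).rlp p) : I.IsKInjective where
  nonempty_homotopy_zero {K} f hK := by
    have := hp _ (W_inr K hK)
    have sq : CommSq f (mappingCone.inr (𝟙 K)) p 0 := ⟨hZ.eq_of_tgt _ _⟩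
    refine ⟨(Cochain.equivHomotopy _ _).symm
      ⟨(mappingCone.inl (𝟙 K)).comp (Cochain.ofHom sq.lift) (add_zero (-1)), ?_⟩⟩
    rw [δ_comp_ofHom, mappingCone.δ_inl, Category.id_comp, Cochain.ofHom_zero, add_zero,
      ← Cochain.ofHom_comp, sq.fac_left]

end Groth.Agent.Helper29.KInjR
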