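import Mathlib
import Groth.Agent.Lib.Helper29.KInjS
import Groth.Agent.Lib.Helper29.KInjR

namespace Groth.Agent.Helper29.KInjE

open CategoryTheory Limits MorphismProperty KInjP ZeroObject

universe v u

variable {A : Type u} [Category.{v} A] [Abelian A] [IsGrothendieckAbelian.{v} A]

/-- K-injective resolutions in Grothendieck abelian categories -/
theorem exists_kInjective_resolution (M : CochainComplex A ℤ) :
    ∃ (I : CochainComplex A ℤ) (f : M ⟶ I), I.IsKInjective ∧ QuasiIso f ∧ Mono f ∧
      ∀ n, Injective (I.X n) := by
  let G := separator A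
  have hG : IsSeparator G := isSeparator_separator A
  have : HasSmallObjectArgument.{v} (J G) := KInjS.hasSmallObjectArgument (J G) J_le_mono
  let fac := (functorialFactorizationData (J G).rlp.llp (J G).rlp).factorizationData
    (0 : M ⟶ 0)
  have hle : (J G).rlp.llp ≤ KInjW.W A := by
    rw [llp_rlp_of_hasSmallObjectArgument]
    refine le_trans ?_ KInjW.closure_le
    apply retracts_monotone
    apply transfiniteCompositions_monotone
    apply pushouts_monotone
    apply coproducts_monotone
    exact J_le_W
  have hi : KInjW.W A fac.i := hle _ fac.hi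
  have hp : (KInjW.W A).rlp fac.p := by
    rw [← KInjT.J_rlp hG]
    exact fac.hp
  exact ⟨fac.Z, fac.i, KInjR.isKInjective fac.p (isZero_zero _) hp, hi.2, hi.1,
    fun n => KInjR.injective_X fac.p (isZero_zero _) hp n⟩

end Groth.Agent.Helper29.KInjE
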