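import Mathlib

namespace Groth.Agent.Helper29.KProdA

open CategoryTheory Limits CochainComplex HomComplex

universe w v u

variable {A : Type u} [Category.{v} A] [Abelian A] {ι : Type w}
  (I : ι → CochainComplex A ℤ) [HasProduct I] [HasProductsOfShape ι A]

/-- the degreewise product structure on the product of complexes -/
noncomputable def isLimitEval (q : ℤ) :
    IsLimit ((HomologicalComplex.eval A (ComplexShape.up ℤ) q).mapCone (limit.cone (Discrete.functor I))) :=
  isLimitOfPreserves _ (limit.isLimit _)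

lemma hom_ext_X (q : ℤ) {T : A} {a b : T ⟶ (∏ᶜ I).X q}
    (h : ∀ i, a ≫ (Pi.π I i).f q = b ≫ (Pi.π I i).f q) : a = b :=
  (isLimitEval I q).hom_ext (fun ⟨i⟩ => h i)

/-- lifting to the product degreewise -/
noncomputable def liftX (q : ℤ) {T : A} (a : ∀ i, T ⟶ (I i).X q) : T ⟶ (∏ᶜ I).X q :=
  (isLimitEval I q).lift
    { pt := T
      π := Discrete.natTrans (fun ⟨i⟩ => a i) }

@[reassoc (attr := simp)]
lemma liftX_π (q : ℤ) {T : A} (a : ∀ i, T ⟶ (I i).X q) (i : ι) :
    liftX I q a ≫ (Pi.π I i).f q = a i :=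
  (isLimitEval I q).fac
    { pt := T
      π := Discrete.natTrans (fun ⟨i⟩ => a i) } ⟨i⟩

/-- cochains to a product -/
noncomputable def liftCochain {L : CochainComplex A ℤ} {n : ℤ} (z : ∀ i, Cochain L (I i) n) :
    Cochain L (∏ᶜ I) n :=
  Cochain.mk (fun p q hpq => liftX I q (fun i => (z i).v p q hpq))

@[simp]
lemma liftCochain_comp {L : CochainComplex A ℤ} {n : ℤ} (z : ∀ i, Cochain L (I i) n) (i : ι) :
    (liftCochain I z).comp (Cochain.ofHom (Pi.π I i)) (add_zero n) = z i := by
  ext p q hpq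
  simp [liftCochain]

lemma cochain_ext {L : CochainComplex A ℤ} {n : ℤ} {z z' : Cochain L (∏ᶜ I) n}
    (h : ∀ i, z.comp (Cochain.ofHom (Pi.π I i)) (add_zero n) =
      z'.comp (Cochain.ofHom (Pi.π I i)) (add_zero n)) : z = z' := by
  ext p q hpq
  apply hom_ext_X
  intro i
  have := Cochain.congr_v (h i) p q hpq
  simpa using this

/-- homotopies to a product can be constructed componentwise -/
lemma nonempty_homotopy {L : CochainComplex A ℤ} (f g : L ⟶ ∏ᶜ I)
    (h : ∀ i, Nonempty (Homotopy (f ≫ Pi.π I i) (g ≫ Pi.π I i))) : Nonempty (Homotopy f g) := by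
  have h' := fun i => (h i).some
  refine ⟨(Cochain.equivHomotopy _ _).symm
    ⟨liftCochain I (fun i => Cochain.ofHomotopy (h' i)), ?_⟩⟩
  apply cochain_ext
  intro i
  rw [Cochain.add_comp, ← δ_comp_ofHom, liftCochain_comp, δ_ofHomotopy,
    ← Cochain.ofHom_comp, ← Cochain.ofHom_comp]
  simp

/-- a product of K-injective complexes is K-injective -/
lemma isKInjective_pi [∀ i, (I i).IsKInjective] : (∏ᶜ I).IsKInjective where
  nonempty_homotopy_zero {K} f hK :=
    nonempty_homotopy I f 0 (fun i => ⟨(IsKInjective.homotopyZero (f ≫ Pi.π I i) hK).trans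
      (Homotopy.ofEq (by simp))⟩)

end Groth.Agent.Helper29.KProdA
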