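import Mathlib
import Groth.Agent.Lib.Helper29.KProdA
import Groth.Agent.Lib.Helper29.KInjE

namespace Groth.Agent.Helper29.KProdB

open CategoryTheory Limits CochainComplex DerivedCategory

universe w' w v u

variable {A : Type u} [Category.{v} A] [Abelian A] [HasDerivedCategory.{w'} A]

lemma Q_map_surjective (L I : CochainComplex A ℤ) [I.IsKInjective] (s : Q.obj L ⟶ Q.obj I) :
    ∃ φ : L ⟶ I, Q.map φ = s := by
  obtain ⟨g, hg⟩ := (IsKInjective.Qh_map_bijective ((HomotopyCategory.quotient _ _).obj L)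
    I).surjective ((quotientCompQhIso A).hom.app L ≫ s ≫ (quotientCompQhIso A).inv.app I)
  obtain ⟨φ, rfl⟩ := (HomotopyCategory.quotient _ _).map_surjective g
  refine ⟨φ, ?_⟩
  have h1 := quotientCompQhIso_hom_naturality φ
  rw [hg] at h1
  simpa using h1.symm

lemma homotopy_of_Q_map_eq {L I : CochainComplex A ℤ} [I.IsKInjective] (φ φ' : L ⟶ I)
    (h : Q.map φ = Q.map φ') : Nonempty (Homotopy φ φ') := by
  refine ⟨HomotopyCategory.homotopyOfEq _ _ ?_⟩
  apply (IsKInjective.Qh_map_bijective ((HomotopyCategory.quotient _ _).obj L) I).injective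
  have h1 := quotientCompQhIso_hom_naturality φ
  have h2 := quotientCompQhIso_hom_naturality φ'
  rw [← cancel_mono ((quotientCompQhIso A).hom.app I), h1, h2, h]

section

variable {ι : Type w} (I : ι → CochainComplex A ℤ) [HasProduct I] [HasProductsOfShape ι A]
  [∀ i, (I i).IsKInjective]

lemma existsUnique_lift (T : DerivedCategory A) (s : ∀ i, T ⟶ Q.obj (I i)) :
    ∃! m : T ⟶ Q.obj (∏ᶜ I), ∀ i, m ≫ Q.map (Pi.π I i) = s i := by
  have := KProdA.isKInjective_pi I
  let L := Q.objPreimage T
  let e : Q.obj L ≅ T := Q.objObjPreimageIso T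
  have h1 := fun i => Q_map_surjective L (I i) (e.hom ≫ s i)
  choose φ hφ using h1
  refine ⟨e.inv ≫ Q.map (Pi.lift φ), fun i => ?_, fun m hm => ?_⟩
  · rw [Category.assoc, ← Q.map_comp, Pi.lift_π, hφ, e.inv_hom_id_assoc]
  · obtain ⟨ψ, hψ⟩ := Q_map_surjective L (∏ᶜ I) (e.hom ≫ m)
    have h2 : Nonempty (Homotopy ψ (Pi.lift φ)) := by
      apply KProdA.nonempty_homotopy
      intro i
      apply homotopy_of_Q_map_eq
      rw [Q.map_comp, Q.map_comp, hψ, ← Q.map_comp, Pi.lift_π, hφ, Category.assoc, hm]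
    rw [← DerivedCategory.Q_map_eq_of_homotopy A h2.some, hψ, e.inv_hom_id_assoc]

/-- the product of K-injective complexes is a product in the derived category -/
noncomputable def isLimitFan :
    IsLimit (Fan.mk (Q.obj (∏ᶜ I)) (fun i => Q.map (Pi.π I i))) :=
  Fan.IsLimit.mk _ (fun s => (existsUnique_lift I s.pt s.proj).choose)
    (fun s i => (existsUnique_lift I s.pt s.proj).choose_spec.1 i)
    (fun s m hm => (existsUnique_lift I s.pt s.proj).choose_spec.2 m hm)

lemma hasProduct : HasProduct (fun i => (Q.obj (I i) : DerivedCategory A)) :=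
  ⟨⟨⟨_, isLimitFan I⟩⟩⟩

end

/-- the derived category of a Grothendieck abelian category has products -/
theorem hasProducts {A : Type u} [Category.{v} A] [Abelian A] [IsGrothendieckAbelian.{v} A]
    [HasDerivedCategory.{w'} A] : HasProducts.{v} (DerivedCategory A) := by
  intro ι
  constructor
  intro F
  have h1 := fun i : ι => KInjE.exists_kInjective_resolution (Q.objPreimage (F.obj ⟨i⟩))
  choose I r hI hr _ _ using h1
  have := hasProduct I
  have e : ∀ i : ι, Q.obj (I i) ≅ F.obj ⟨i⟩ := fun i =>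
    (asIso (Q.map (r i))).symm ≪≫ Q.objObjPreimageIso (F.obj ⟨i⟩)
  exact hasLimit_of_iso (F := Discrete.functor (fun i => (Q.obj (I i) : DerivedCategory A)))
    (Discrete.natIso (F := Discrete.functor (fun i => (Q.obj (I i) : DerivedCategory A)))
      (G := F) (fun ⟨i⟩ => e i))

end Groth.Agent.Helper29.KProdB
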