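import Mathlib
import Groth.Agent.Lib.Helper29.KProdB
import Groth.Agent.Lib.Helper29.KInjE

set_option autoImplicit false

namespace Groth.Agent.Helper29.DAdjA

open CategoryTheory Limits CochainComplex DerivedCategory

universe w' w v u v' u'

section Cx

variable {A : Type u} [Category.{v} A] {B : Type u'} [Category.{v'} B]
  [Preadditive A] [Preadditive B]
  {F : A ⥤ B} {G : B ⥤ A} (adj : F ⊣ G) [F.Additive] [G.Additive]
  {ι : Type*} (c : ComplexShape ι)

/-- The unit at the level of complexes. -/
@[simps]
def unitCx (K : HomologicalComplex A c) :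
    K ⟶ (G.mapHomologicalComplex c).obj ((F.mapHomologicalComplex c).obj K) where
  f i := adj.unit.app (K.X i)
  comm' i j _ := adj.unit_naturality (K.d i j)

/-- The counit at the level of complexes. -/
@[simps]
def counitCx (M : HomologicalComplex B c) :
    (F.mapHomologicalComplex c).obj ((G.mapHomologicalComplex c).obj M) ⟶ M where
  f i := adj.counit.app (M.X i)
  comm' i j _ := (adj.counit_naturality (M.d i j)).symm

/-- The induced adjunction on complexes. -/
def cxAdj : F.mapHomologicalComplex c ⊣ G.mapHomologicalComplex c :=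
  Adjunction.mkOfUnitCounit
    { unit :=
        { app := fun K => unitCx adj c K
          naturality := fun K L φ => by
            ext i
            exact adj.unit.naturality (φ.f i) }
      counit :=
        { app := fun K => counitCx adj c K
          naturality := fun K L φ => by
            ext i
            exact adj.counit.naturality (φ.f i) }
      left_triangle := by
        ext K i
        simp
        exact adj.left_triangle_components (K.X i)
      right_triangle := by
        ext K i
        simp
        exact adj.right_triangle_components (K.X i) }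

@[simp]
lemma cxAdj_unit_app (K : HomologicalComplex A c) :
    (cxAdj adj c).unit.app K = unitCx adj c K := rfl

@[simp]
lemma cxAdj_counit_app (M : HomologicalComplex B c) :
    (cxAdj adj c).counit.app M = counitCx adj c M := rfl

end Cx

section KInj

variable {A : Type u} [Category.{v} A] [Abelian A] {B : Type u'} [Category.{v'} B] [Abelian B]
  {F : A ⥤ B} {G : B ⥤ A} (adj : F ⊣ G) [F.Additive] [G.Additive]
  [PreservesFiniteLimits F] [PreservesFiniteColimits F]

lemma acyclic_map (F : A ⥤ B) [F.Additive]
    [PreservesFiniteLimits F] [PreservesFiniteColimits F]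
    (K : CochainComplex A ℤ) (hK : K.Acyclic) :
    ((F.mapHomologicalComplex (ComplexShape.up ℤ)).obj K).Acyclic :=
  fun i => (hK i).map F

include adj in
lemma isKInjective_map (I : CochainComplex B ℤ) [I.IsKInjective] :
    CochainComplex.IsKInjective ((G.mapHomologicalComplex (ComplexShape.up ℤ)).obj I) where
  nonempty_homotopy_zero {K} f hK := by
    let f' : (F.mapHomologicalComplex _).obj K ⟶ I := ((cxAdj adj _).homEquiv _ _).symm f
    have h : Homotopy f' 0 := IsKInjective.homotopyZero f' (acyclic_map F K hK)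
    have h' := (G.mapHomotopy h).compLeft (unitCx adj _ K)
    refine ⟨(Homotopy.ofEq ?_).trans (h'.trans (Homotopy.ofEq ?_))⟩
    · have := ((cxAdj adj _).homEquiv K I).apply_symm_apply f
      rw [Adjunction.homEquiv_unit] at this
      exact this.symm
    · simp

end KInj

section Der

variable {A : Type u} [Category.{v} A] [Abelian A] {B : Type u'} [Category.{v'} B] [Abelian B]
  {F : A ⥤ B} {G : B ⥤ A} (adj : F ⊣ G) [F.Additive] [G.Additive]
  [PreservesFiniteLimits F] [PreservesFiniteColimits F]
  [HasDerivedCategory.{w} A] [HasDerivedCategory.{w'} B]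

/-- The comparison map `F̄ (Q (G_* I)) ⟶ Q I`. -/
noncomputable def cMap (I : CochainComplex B ℤ) :
    F.mapDerivedCategory.obj (Q.obj ((G.mapHomologicalComplex (ComplexShape.up ℤ)).obj I)) ⟶
      Q.obj I :=
  F.mapDerivedCategoryFactors.hom.app _ ≫ Q.map (counitCx adj _ I)

lemma map_Q_map_comp_cMap {L : CochainComplex A ℤ} {I : CochainComplex B ℤ}
    (a : L ⟶ (G.mapHomologicalComplex (ComplexShape.up ℤ)).obj I) :
    F.mapDerivedCategory.map (Q.map a) ≫ cMap adj I =
      F.mapDerivedCategoryFactors.hom.app L ≫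
        Q.map (((cxAdj adj (ComplexShape.up ℤ)).homEquiv _ _).symm a) := by
  rw [cMap, F.mapDerivedCategoryFactors_hom_naturality_assoc, ← Functor.map_comp,
    Adjunction.homEquiv_counit]
  rfl

lemma cMap_naturality {I J : CochainComplex B ℤ} (f : I ⟶ J) :
    F.mapDerivedCategory.map (Q.map ((G.mapHomologicalComplex (ComplexShape.up ℤ)).map f)) ≫
      cMap adj J = cMap adj I ≫ Q.map f := by
  rw [cMap, cMap, F.mapDerivedCategoryFactors_hom_naturality_assoc, Category.assoc,
    ← Functor.map_comp, ← Functor.map_comp]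
  congr 2
  exact (cxAdj adj (ComplexShape.up ℤ)).counit.naturality f

lemma existsUnique_lift_Q (L : CochainComplex A ℤ) (I : CochainComplex B ℤ) [I.IsKInjective]
    (v : F.mapDerivedCategory.obj (Q.obj L) ⟶ Q.obj I) :
    ∃! u : Q.obj L ⟶ Q.obj ((G.mapHomologicalComplex (ComplexShape.up ℤ)).obj I),
      F.mapDerivedCategory.map u ≫ cMap adj I = v := by
  haveI := isKInjective_map adj I
  obtain ⟨ψ, hψ⟩ := KProdB.Q_map_surjective _ I (F.mapDerivedCategoryFactors.inv.app L ≫ v)
  refine ⟨Q.map ((cxAdj adj _).homEquiv _ _ ψ), ?_, ?_⟩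
  · dsimp only
    rw [map_Q_map_comp_cMap, Equiv.symm_apply_apply, hψ]
    simp
  · intro u hu
    obtain ⟨a, rfl⟩ := KProdB.Q_map_surjective _ _ u
    rw [map_Q_map_comp_cMap] at hu
    have h1 : Q.map (((cxAdj adj _).homEquiv _ _).symm a) = Q.map ψ := by
      rw [hψ, ← hu]
      simp
    obtain ⟨h⟩ := KProdB.homotopy_of_Q_map_eq _ _ h1
    have h' := (G.mapHomotopy h).compLeft (unitCx adj _ L)
    have e1 : a = unitCx adj _ L ≫
        (G.mapHomologicalComplex _).map (((cxAdj adj _).homEquiv _ _).symm a) := by
      have := ((cxAdj adj _).homEquiv L I).apply_symm_apply a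
      rw [Adjunction.homEquiv_unit] at this
      exact this.symm
    have e2 : (cxAdj adj _).homEquiv _ _ ψ =
        unitCx adj _ L ≫ (G.mapHomologicalComplex _).map ψ := by
      rw [Adjunction.homEquiv_unit]
      rfl
    rw [e1, e2]
    exact DerivedCategory.Q_map_eq_of_homotopy A h'

lemma existsUnique_lift (X : DerivedCategory A) (I : CochainComplex B ℤ) [I.IsKInjective]
    (v : F.mapDerivedCategory.obj X ⟶ Q.obj I) :
    ∃! u : X ⟶ Q.obj ((G.mapHomologicalComplex (ComplexShape.up ℤ)).obj I),
      F.mapDerivedCategory.map u ≫ cMap adj I = v := by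
  let e := Q.objObjPreimageIso X
  obtain ⟨u, hu, huu⟩ := existsUnique_lift_Q adj (Q.objPreimage X) I
    (F.mapDerivedCategory.map e.hom ≫ v)
  refine ⟨e.inv ≫ u, ?_, ?_⟩
  · dsimp only at hu ⊢
    rw [Functor.map_comp, Category.assoc, hu, ← Functor.map_comp_assoc, e.inv_hom_id,
      CategoryTheory.Functor.map_id, Category.id_comp]
  · intro u' hu'
    rw [← huu (e.hom ≫ u') (by
      dsimp only
      rw [Functor.map_comp, Category.assoc, hu']), e.inv_hom_id_assoc]

end Der

section Adj

variable {A : Type u} [Category.{v} A] [Abelian A] {B : Type u'} [Category.{v'} B] [Abelian B]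
  [IsGrothendieckAbelian.{v'} B]
  {F : A ⥤ B} {G : B ⥤ A} (adj : F ⊣ G) [F.Additive] [G.Additive]
  [PreservesFiniteLimits F] [PreservesFiniteColimits F]
  [HasDerivedCategory.{w} A] [HasDerivedCategory.{w'} B]

include adj in
lemma hasTerminal_costructuredArrow (Y : DerivedCategory B) :
    HasTerminal (CostructuredArrow F.mapDerivedCategory Y) := by
  obtain ⟨I, r, hI, hr, -, -⟩ := KInjE.exists_kInjective_resolution (Q.objPreimage Y)
  haveI : IsIso (Q.map r) := by rw [isIso_Q_map_iff_quasiIso]; exact hr
  let e : Q.obj I ≅ Y := (asIso (Q.map r)).symm ≪≫ Q.objObjPreimageIso Y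
  let T : CostructuredArrow F.mapDerivedCategory Y := CostructuredArrow.mk (cMap adj I ≫ e.hom)
  have hT : IsTerminal T := by
    refine IsTerminal.ofUniqueHom (fun Z => ?_) (fun Z m => ?_)
    · exact CostructuredArrow.homMk (existsUnique_lift adj Z.left I (Z.hom ≫ e.inv)).choose (by
        have := (existsUnique_lift adj Z.left I (Z.hom ≫ e.inv)).choose_spec.1
        dsimp only at this
        dsimp [T]
        rw [← Category.assoc, this, Category.assoc, e.inv_hom_id, Category.comp_id])
    · apply CostructuredArrow.hom_ext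
      apply (existsUnique_lift adj Z.left I (Z.hom ≫ e.inv)).choose_spec.2
      have := CostructuredArrow.w m
      dsimp [T] at this
      rw [← this]
      simp
  exact hT.hasTerminal

include adj in
theorem nonempty_adj (RG : DerivedCategory B ⥤ DerivedCategory A)
    (α : G.mapHomologicalComplex (ComplexShape.up ℤ) ⋙ Q ⟶ Q ⋙ RG)
    [RG.IsRightDerivedFunctor α (HomologicalComplex.quasiIso B (ComplexShape.up ℤ))] :
    Nonempty (F.mapDerivedCategory ⊣ RG) := by
  haveI : ∀ Y, HasTerminal (CostructuredArrow F.mapDerivedCategory Y) :=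
    hasTerminal_costructuredArrow adj
  haveI : F.mapDerivedCategory.IsLeftAdjoint := isLeftAdjoint_of_costructuredArrowTerminals _
  let R' := F.mapDerivedCategory.rightAdjoint
  let adj' : F.mapDerivedCategory ⊣ R' := Adjunction.ofIsLeftAdjoint _
  let W₁ := HomologicalComplex.quasiIso A (ComplexShape.up ℤ)
  let W₂ := HomologicalComplex.quasiIso B (ComplexShape.up ℤ)
  let γ : G.mapHomologicalComplex (ComplexShape.up ℤ) ⋙ Q ⟶ Q ⋙ R' :=
    { app := fun Y => adj'.homEquiv _ _ (cMap adj Y)
      naturality := fun X Y f => by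
        dsimp
        rw [← adj'.homEquiv_naturality_left, ← adj'.homEquiv_naturality_right,
          cMap_naturality] }
  let τ : RG ⟶ R' := RG.rightDerivedDesc α W₂ R' γ
  let ε : RG ⋙ F.mapDerivedCategory ⟶ 𝟭 _ := Functor.whiskerRight τ _ ≫ adj'.counit
  let φ := F.mapDerivedCategoryFactors
  haveI h1 : F.mapDerivedCategory.IsLeftDerivedFunctor φ.hom W₁ :=
    Functor.isLeftDerivedFunctor_of_inverts W₁ _ φ
  haveI h3 : (F.mapDerivedCategory ⋙ RG).IsLeftDerivedFunctor
      ((Functor.associator _ _ _).inv ≫ Functor.whiskerRight φ.hom RG) W₁ :=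
    Functor.isLeftDerivedFunctor_of_inverts W₁ _
      ((Functor.associator _ _ _).symm ≪≫ Functor.isoWhiskerRight φ RG)
  refine ⟨(cxAdj adj _).derived' W₁ W₂ φ.hom α ((cxAdj adj _).derivedη W₁ φ.hom α) ε
    (fun X => (cxAdj adj _).derivedη_fac_app W₁ φ.hom α X) (fun X => ?_)⟩
  have h := RG.rightDerived_fac_app α W₂ R' γ X
  dsimp [ε]
  rw [← Functor.map_comp_assoc]
  erw [h]
  dsimp [γ]
  rw [← Adjunction.homEquiv_counit, Equiv.symm_apply_apply]
  rfl

end Adj

end Groth.Agent.Helper29.DAdjA
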