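import Mathlib
import Groth.Prelude.Def_W4stkadequateTF

namespace Groth.Agent.Helper29.FreeRepA

open CategoryTheory Limits

universe u

variable {A : Type u} [CommRing A]

/-- index set of the free module `P_D(C)`. -/
abbrev Idx (D : Adeq.Alg A) (X : (Adeq.Alg A)ᵒᵖᵒᵖ) : Type (u + 1) :=
  ULift.{u + 1} (D ⟶ X.unop.unop)

/-- the underlying module of `P_D(C)`. -/
abbrev PMod (D : Adeq.Alg A) (X : (Adeq.Alg A)ᵒᵖᵒᵖ) : Type (u + 1) :=
  Idx D X →₀ ((Adeq.ringOf A).obj X)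

noncomputable def pObj (D : Adeq.Alg A) (X : (Adeq.Alg A)ᵒᵖᵒᵖ) :
    ModuleCat.{u + 1} ((Adeq.ringOf A).obj X) :=
  ModuleCat.of ((Adeq.ringOf A).obj X) (PMod D X)

/-- index transition -/
def idxMap (D : Adeq.Alg A) {X Y : (Adeq.Alg A)ᵒᵖᵒᵖ} (f : X ⟶ Y) : Idx D X → Idx D Y :=
  fun φ => ULift.up (φ.down ≫ f.unop.unop)

noncomputable def pMap (D : Adeq.Alg A) {X Y : (Adeq.Alg A)ᵒᵖᵒᵖ} (f : X ⟶ Y) :
    pObj D X ⟶ (ModuleCat.restrictScalars ((Adeq.ringOf A).map f).hom).obj (pObj D Y) :=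
  ModuleCat.ofHom (X := PMod D X)
    (Y := ((ModuleCat.restrictScalars ((Adeq.ringOf A).map f).hom).obj (pObj D Y)))
    (Finsupp.linearCombination
    (M := ((ModuleCat.restrictScalars ((Adeq.ringOf A).map f).hom).obj (pObj D Y)))
    ((Adeq.ringOf A).obj X)
    (fun φ : Idx D X => (Finsupp.single (idxMap D f φ) 1 : PMod D Y)))

lemma pMap_single (D : Adeq.Alg A) {X Y : (Adeq.Alg A)ᵒᵖᵒᵖ} (f : X ⟶ Y) (φ : Idx D X)
    (c : (Adeq.ringOf A).obj X) :
    (pMap D f).hom (Finsupp.single φ c : PMod D X) =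
      (Finsupp.single (idxMap D f φ) (((Adeq.ringOf A).map f).hom c) : PMod D Y) := by
  show Finsupp.linearCombination
    (M := ((ModuleCat.restrictScalars ((Adeq.ringOf A).map f).hom).obj (pObj D Y)))
    ((Adeq.ringOf A).obj X)
    (fun φ : Idx D X => (Finsupp.single (idxMap D f φ) 1 : PMod D Y)) (Finsupp.single φ c) = _
  rw [Finsupp.linearCombination_single]
  show (((Adeq.ringOf A).map f).hom c) • (Finsupp.single (idxMap D f φ) 1 : PMod D Y) = _
  rw [Finsupp.smul_single, smul_eq_mul, mul_one]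

lemma hom_ext_P (D : Adeq.Alg A) {X : (Adeq.Alg A)ᵒᵖᵒᵖ}
    {M : ModuleCat.{u + 1} ((Adeq.ringOf A).obj X)} (f g : pObj D X ⟶ M)
    (h : ∀ (φ : Idx D X) (c : (Adeq.ringOf A).obj X),
      f.hom (Finsupp.single φ c : PMod D X) = g.hom (Finsupp.single φ c : PMod D X)) : f = g :=
  ModuleCat.hom_ext (Finsupp.lhom_ext h)

lemma idxMap_id (D : Adeq.Alg A) (X : (Adeq.Alg A)ᵒᵖᵒᵖ) (φ : Idx D X) :
    idxMap D (𝟙 X) φ = φ := by
  apply ULift.ext
  show φ.down ≫ 𝟙 _ = φ.down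
  simp

lemma idxMap_comp (D : Adeq.Alg A) {X Y Z : (Adeq.Alg A)ᵒᵖᵒᵖ} (f : X ⟶ Y) (g : Y ⟶ Z)
    (φ : Idx D X) :
    idxMap D (f ≫ g) φ = idxMap D g (idxMap D f φ) := by
  apply ULift.ext
  show φ.down ≫ (f ≫ g).unop.unop = (φ.down ≫ f.unop.unop) ≫ g.unop.unop
  rw [Category.assoc]
  rfl

/-- the free module-valued functor on the representable functor `Hom(D, -)`. -/
noncomputable def P (D : Adeq.Alg A) : Adeq.MVF A where
  obj X := pObj D X
  map f := pMap D f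
  map_id X := by
    apply hom_ext_P
    intro φ c
    rw [pMap_single, idxMap_id]
    rfl
  map_comp f g := by
    apply hom_ext_P
    intro φ c
    rw [pMap_single, idxMap_comp]
    show _ = (pMap D g).hom ((pMap D f).hom (Finsupp.single φ c : PMod D _))
    rw [pMap_single, pMap_single]
    rfl

end Groth.Agent.Helper29.FreeRepA
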