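import Mathlib
import Groth.Prelude.Def_W4stkadequateTF

namespace Groth.Agent.Helper29.TanA

open CategoryTheory Limits AdeqTF

universe u

variable {A : Type u} [CommRing A] (B : Adeq.Alg A) (F : Adeq.MVF A)

lemma map_comp {N N' N'' : ModuleCat.{u} B} (g : N ⟶ N') (h : N' ⟶ N'') :
    AdeqTF.map B (g ≫ h) = AdeqTF.map B g ≫ AdeqTF.map B h := by
  apply CommAlgCat.hom_ext
  refine AlgHom.ext fun x => ?_
  show TrivSqZeroExt.map (g ≫ h).hom x = TrivSqZeroExt.map h.hom (TrivSqZeroExt.map g.hom x)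
  ext <;> simp

lemma map_id (N : ModuleCat.{u} B) :
    AdeqTF.map B (𝟙 N) = 𝟙 _ := by
  apply CommAlgCat.hom_ext
  refine AlgHom.ext fun x => ?_
  show TrivSqZeroExt.map (𝟙 N : N ⟶ N).hom x = x
  ext <;> simp

lemma map_zero (N N' : ModuleCat.{u} B) :
    AdeqTF.map B (0 : N ⟶ N') = AdeqTF.fst B N ≫ AdeqTF.inl B N' := by
  apply CommAlgCat.hom_ext
  refine AlgHom.ext fun x => ?_
  show TrivSqZeroExt.map (0 : N ⟶ N').hom x = TrivSqZeroExt.inl (TrivSqZeroExt.fst x)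
  ext <;> simp

lemma tangentMap_comp {N N' N'' : ModuleCat.{u} B} (g : N ⟶ N') (h : N' ⟶ N'')
    (x : tangent B N F) :
    tangentMap B F (g ≫ h) x = tangentMap B F h (tangentMap B F g x) := by
  apply Subtype.ext
  show F.map (Adeq.ptHom (AdeqTF.map B (g ≫ h))) x.1 =
    F.map (Adeq.ptHom (AdeqTF.map B h)) (F.map (Adeq.ptHom (AdeqTF.map B g)) x.1)
  rw [← F.map_comp_apply]
  exact F.congr_map_apply (congrArg Adeq.ptHom (map_comp B g h)) _

lemma map_id_apply' (X : (Adeq.Alg A)ᵒᵖᵒᵖ) (x : F.obj X) : F.map (𝟙 X) x = x := by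
  rw [F.map_id]; rfl

lemma tangentMap_id (N : ModuleCat.{u} B) (x : tangent B N F) :
    tangentMap B F (𝟙 N) x = x := by
  apply Subtype.ext
  show F.map (Adeq.ptHom (AdeqTF.map B (𝟙 N))) x.1 = x.1
  refine (F.congr_map_apply (congrArg Adeq.ptHom (map_id B N)) _).trans ?_
  exact map_id_apply' F _ _

lemma tangentMap_zero (N N' : ModuleCat.{u} B) (x : tangent B N F) :
    tangentMap B F (0 : N ⟶ N') x = 0 := by
  apply Subtype.ext
  show F.map (Adeq.ptHom (AdeqTF.map B (0 : N ⟶ N'))) x.1 = 0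
  refine (F.congr_map_apply (congrArg Adeq.ptHom (map_zero B N N')) _).trans ?_
  refine (F.map_comp_apply (Adeq.ptHom (fst B N)) (Adeq.ptHom (inl B N')) _).trans ?_
  have hx : F.map (Adeq.ptHom (fst B N)) x.1 = 0 := x.2
  rw [hx]
  exact _root_.map_zero _

end Groth.Agent.Helper29.TanA

namespace Groth.Agent.Helper29.TanA

open CategoryTheory Limits AdeqTF

universe u

theorem main8783 (A : Type u) [CommRing A] (F : Adeq.MVF A)
    (hF : (∀ (B : Adeq.Alg A) (S : ShortComplex (ModuleCat.{u} B)), S.ShortExact →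
        Function.Surjective (AdeqTF.tangentMap B F S.g) ∧
          (AdeqTF.tangentMap B F S.g).ker = (AdeqTF.tangentMap B F S.f).range))
    (B : Adeq.Alg A) (N₁ N₂ : ModuleCat.{u} B) :
    Function.Bijective ((AdeqTF.tangentMap B F (biprod.inl : N₁ ⟶ N₁ ⊞ N₂)).coprod
      (AdeqTF.tangentMap B F (biprod.inr : N₂ ⟶ N₁ ⊞ N₂))) := by
  constructor
  · rw [injective_iff_map_eq_zero]
    rintro ⟨a, b⟩ hab
    rw [AddMonoidHom.coprod_apply] at hab
    have h1 := congrArg (tangentMap B F (biprod.fst : N₁ ⊞ N₂ ⟶ N₁)) hab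
    have h2 := congrArg (tangentMap B F (biprod.snd : N₁ ⊞ N₂ ⟶ N₂)) hab
    rw [map_add, ← tangentMap_comp, ← tangentMap_comp, _root_.map_zero] at h1 h2
    rw [biprod.inl_fst, biprod.inr_fst, tangentMap_id, tangentMap_zero, add_zero] at h1
    rw [biprod.inl_snd, biprod.inr_snd, tangentMap_id, tangentMap_zero, zero_add] at h2
    exact Prod.ext h1 h2
  · intro x
    have hS : (ShortComplex.mk (biprod.inl : N₁ ⟶ N₁ ⊞ N₂) (biprod.snd : N₁ ⊞ N₂ ⟶ N₂)
        (by simp)).ShortExact :=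
      (ShortComplex.Splitting.ofHasBinaryBiproduct N₁ N₂).shortExact
    obtain ⟨-, hker⟩ := hF B _ hS
    dsimp only at hker
    set b := tangentMap B F (biprod.snd : N₁ ⊞ N₂ ⟶ N₂) x with hb
    have h1 : x - tangentMap B F (biprod.inr : N₂ ⟶ N₁ ⊞ N₂) b ∈
        (tangentMap B F (biprod.snd : N₁ ⊞ N₂ ⟶ N₂)).ker := by
      rw [AddMonoidHom.mem_ker, map_sub, ← tangentMap_comp, biprod.inr_snd, tangentMap_id,
        sub_self]
    rw [hker] at h1
    obtain ⟨a, ha⟩ := h1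
    refine ⟨(a, b), ?_⟩
    rw [AddMonoidHom.coprod_apply, ha]
    abel

end Groth.Agent.Helper29.TanA
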