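import Mathlib
import Groth.Prelude.Def_W4stkadequateTF
import Groth.Agent.Lib.Helper29.TanA

namespace Groth.Agent.Helper29.TanB

open CategoryTheory Limits AdeqTF Groth.Agent.Helper29.TanA

universe u

variable {A : Type u} [CommRing A]

/-- transition map with clean types -/
noncomputable def mp (F : Adeq.MVF A) {X Y : (Adeq.Alg A)ᵒᵖᵒᵖ} (g : X ⟶ Y) : F.obj X →+ F.obj Y :=
  (F.map g).hom.toAddMonoidHom

/-- component of a morphism with clean types -/
noncomputable def ap {F G : Adeq.MVF A} (φ : F ⟶ G) (X : (Adeq.Alg A)ᵒᵖᵒᵖ) : F.obj X →+ G.obj X :=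
  (φ.app X).hom.toAddMonoidHom

lemma mp_comp (F : Adeq.MVF A) {X Y Z : (Adeq.Alg A)ᵒᵖᵒᵖ} (f : X ⟶ Y) (g : Y ⟶ Z) (x : F.obj X) :
    mp F (f ≫ g) x = mp F g (mp F f x) :=
  F.map_comp_apply f g x

lemma mp_id (F : Adeq.MVF A) (X : (Adeq.Alg A)ᵒᵖᵒᵖ) (x : F.obj X) : mp F (𝟙 X) x = x :=
  map_id_apply' F X x

lemma mp_congr (F : Adeq.MVF A) {X Y : (Adeq.Alg A)ᵒᵖᵒᵖ} {f g : X ⟶ Y} (h : f = g) (x : F.obj X) :
    mp F f x = mp F g x := by rw [h]

lemma ap_mp {F G : Adeq.MVF A} (φ : F ⟶ G) {X Y : (Adeq.Alg A)ᵒᵖᵒᵖ} (g : X ⟶ Y) (x : F.obj X) :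
    ap φ Y (mp F g x) = mp G g (ap φ X x) :=
  PresheafOfModules.naturality_apply φ g x

section pointwise

variable (C : ShortComplex (Adeq.MVF A)) (hC : C.ShortExact) (X : (Adeq.Alg A)ᵒᵖᵒᵖ)

include hC in
lemma pointwise : Function.Injective (ap C.f X) ∧ Function.Surjective (ap C.g X) ∧
    ∀ y : C.X₂.obj X, ap C.g X y = 0 → ∃ x : C.X₁.obj X, ap C.f X x = y := by
  have := PresheafOfModules.instAdditiveModuleCatCarrierObjOppositeRingCatEvaluation.{u+1}
    (Adeq.ringOf A) X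
  have := PresheafOfModules.evaluation_preservesFiniteLimits.{u+1} (Adeq.ringOf A) X
  have := PresheafOfModules.Finite.evaluation_preservesFiniteColimits.{u+1} (Adeq.ringOf A) X
  have h := hC.map_of_exact (PresheafOfModules.evaluation.{u+1} (Adeq.ringOf A) X)
  refine ⟨h.moduleCat_injective_f, h.moduleCat_surjective_g, ?_⟩
  have h2 := (ShortComplex.moduleCat_exact_iff _).mp h.exact
  exact fun y hy => h2 y hy

lemma zero_fg (x : C.X₁.obj X) : ap C.g X (ap C.f X x) = 0 := by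
  have : (C.f ≫ C.g).app X x = 0 := by rw [C.zero]; rfl
  exact this

end pointwise

variable (B : Adeq.Alg A) (N : ModuleCat.{u} B)

lemma mem_tangent (F : Adeq.MVF A) (x : F.obj (Adeq.pt (ext B N))) :
    x ∈ tangent B N F ↔ mp F (Adeq.ptHom (fst B N)) x = 0 := Iff.rfl

/-- The map on tangent modules induced by a morphism of module-valued functors. -/
noncomputable def tanNat {F G : Adeq.MVF A} (φ : F ⟶ G) : tangent B N F →+ tangent B N G :=
  ((ap φ (Adeq.pt (ext B N))).comp (tangent B N F).subtype).codRestrict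
    (tangent B N G) (fun x => by
      obtain ⟨x, hx⟩ := x
      rw [mem_tangent] at hx ⊢
      show mp G _ (ap φ _ x) = 0
      rw [← ap_mp, hx, _root_.map_zero])

lemma tanNat_val {F G : Adeq.MVF A} (φ : F ⟶ G) (x : tangent B N F) :
    (tanNat B N φ x).1 = ap φ (Adeq.pt (ext B N)) x.1 := rfl

variable {N} in
lemma tangentMap_val (F : Adeq.MVF A) {N' : ModuleCat.{u} B} (g : N ⟶ N') (x : tangent B N F) :
    (tangentMap B F g x).1 = mp F (Adeq.ptHom (AdeqTF.map B g)) x.1 := rfl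

variable {N} in
lemma tanNat_tangentMap {F G : Adeq.MVF A} (φ : F ⟶ G) {N' : ModuleCat.{u} B} (g : N ⟶ N')
    (x : tangent B N F) :
    tanNat B N' φ (tangentMap B F g x) = tangentMap B G g (tanNat B N φ x) := by
  apply Subtype.ext
  rw [tanNat_val, tangentMap_val, tangentMap_val, tanNat_val, ap_mp]

lemma fst_inl : AdeqTF.inl B N ≫ AdeqTF.fst B N = 𝟙 B := by
  apply CommAlgCat.hom_ext
  refine AlgHom.ext fun x => ?_
  show TrivSqZeroExt.fst (TrivSqZeroExt.inl x : TrivSqZeroExt (B : Type u) N) = x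
  simp

lemma map_fst_inl (F : Adeq.MVF A) (y : F.obj (Adeq.pt B)) :
    mp F (Adeq.ptHom (fst B N)) (mp F (Adeq.ptHom (inl B N)) y) = y := by
  have e : Adeq.ptHom (inl B N) ≫ Adeq.ptHom (fst B N) = 𝟙 _ :=
    congrArg Adeq.ptHom (fst_inl B N)
  rw [← mp_comp, mp_congr F e, mp_id]

section cols

variable (C : ShortComplex (Adeq.MVF A)) (hC : C.ShortExact)

include hC

lemma col_inj : Function.Injective (tanNat B N C.f) := by
  intro x y hxy
  apply Subtype.ext
  apply (pointwise C hC _).1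
  exact congrArg Subtype.val hxy

lemma col_surj : Function.Surjective (tanNat B N C.g) := by
  intro h
  obtain ⟨g', hg'⟩ := (pointwise C hC (Adeq.pt (ext B N))).2.1 h.1
  set g₀ := mp C.X₂ (Adeq.ptHom (fst B N)) g' with hg₀
  have hh : mp C.X₃ (Adeq.ptHom (fst B N)) h.1 = 0 := h.2
  have h0 : ap C.g _ g₀ = 0 := by
    rw [hg₀, ap_mp, hg', hh]
  have hmem : g' - mp C.X₂ (Adeq.ptHom (inl B N)) g₀ ∈ tangent B N C.X₂ := by
    rw [mem_tangent, map_sub, map_fst_inl, sub_self]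
  refine ⟨⟨_, hmem⟩, ?_⟩
  apply Subtype.ext
  rw [tanNat_val]
  show ap C.g _ (g' - mp C.X₂ (Adeq.ptHom (inl B N)) g₀) = h.1
  rw [map_sub, hg', ap_mp, h0, _root_.map_zero, sub_zero]

lemma col_exact (g : tangent B N C.X₂) (hg : tanNat B N C.g g = 0) :
    ∃ f : tangent B N C.X₁, tanNat B N C.f f = g := by
  have h1 : ap C.g _ g.1 = 0 := congrArg Subtype.val hg
  obtain ⟨f', hf'⟩ := (pointwise C hC _).2.2 g.1 h1
  have hmem : f' ∈ tangent B N C.X₁ := by
    rw [mem_tangent]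
    apply (pointwise C hC _).1
    rw [ap_mp, hf', _root_.map_zero]
    exact g.2
  exact ⟨⟨f', hmem⟩, Subtype.ext hf'⟩

omit hC in
lemma col_zero (f : tangent B N C.X₁) : tanNat B N C.g (tanNat B N C.f f) = 0 := by
  apply Subtype.ext
  exact zero_fg C _ f.1

end cols

end Groth.Agent.Helper29.TanB
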