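import Mathlib
import Groth.Prelude.Def_W4stkadequateTF
import Groth.Agent.Lib.Helper29.TanB
import Groth.Agent.Lib.Helper29.FreeRepA

namespace Groth.Agent.Helper29.FreeRepB

open CategoryTheory Limits Groth.Agent.Helper29.TanB Groth.Agent.Helper29.FreeRepA

universe u

variable {A : Type u} [CommRing A]

/-- the double-op of an index. -/
def idxHom (D : Adeq.Alg A) {X : (Adeq.Alg A)ᵒᵖᵒᵖ} (φ : Idx D X) : Adeq.pt D ⟶ X :=
  (φ.down).op.op

lemma idxHom_idxMap (D : Adeq.Alg A) {X Y : (Adeq.Alg A)ᵒᵖᵒᵖ} (f : X ⟶ Y) (φ : Idx D X) :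
    idxHom D (idxMap D f φ) = idxHom D φ ≫ f := rfl

/-- the value function of the Yoneda morphism. -/
noncomputable def yoFun (D : Adeq.Alg A) (F : Adeq.MVF A) (x : F.obj (Adeq.pt D))
    (X : (Adeq.Alg A)ᵒᵖᵒᵖ) : Idx D X → F.obj X :=
  fun φ => mp F (idxHom D φ) x

noncomputable def yoApp (D : Adeq.Alg A) (F : Adeq.MVF A) (x : F.obj (Adeq.pt D))
    (X : (Adeq.Alg A)ᵒᵖᵒᵖ) : pObj D X ⟶ F.obj X :=
  ModuleCat.ofHom (X := PMod D X) (Y := F.obj X)
    (Finsupp.linearCombination ((Adeq.ringOf A).obj X) (yoFun D F x X))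

lemma yoApp_single (D : Adeq.Alg A) (F : Adeq.MVF A) (x : F.obj (Adeq.pt D))
    (X : (Adeq.Alg A)ᵒᵖᵒᵖ) (φ : Idx D X) (c : (Adeq.ringOf A).obj X) :
    (yoApp D F x X).hom (Finsupp.single φ c : PMod D X) = c • mp F (idxHom D φ) x := by
  show Finsupp.linearCombination ((Adeq.ringOf A).obj X) (yoFun D F x X) (Finsupp.single φ c) = _
  rw [Finsupp.linearCombination_single]
  rfl

lemma mp_smul (F : Adeq.MVF A) {X Y : (Adeq.Alg A)ᵒᵖᵒᵖ} (f : X ⟶ Y) (c : (Adeq.ringOf A).obj X)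
    (m : F.obj X) : mp F f (c • m) = (((Adeq.ringOf A).map f).hom c) • mp F f m :=
  F.map_smul f c m

/-- Yoneda: the morphism `P D ⟶ F` attached to an element of `F(D)`. -/
noncomputable def yo (D : Adeq.Alg A) (F : Adeq.MVF A) (x : F.obj (Adeq.pt D)) : P D ⟶ F where
  app X := yoApp D F x X
  naturality {X Y} f := by
    apply hom_ext_P
    intro φ c
    show (yoApp D F x Y).hom ((pMap D f).hom (Finsupp.single φ c : PMod D X)) =
      mp F f ((yoApp D F x X).hom (Finsupp.single φ c : PMod D X))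
    rw [pMap_single, yoApp_single, yoApp_single, mp_smul, idxHom_idxMap, mp_comp]

end Groth.Agent.Helper29.FreeRepB

namespace Groth.Agent.Helper29.FreeRepB

open CategoryTheory Limits Groth.Agent.Helper29.TanB Groth.Agent.Helper29.FreeRepA

universe u

variable {A : Type u} [CommRing A]

/-- precomposition on indices -/
def preIdx {E E₂ : Adeq.Alg A} (π : E ⟶ E₂) (X : (Adeq.Alg A)ᵒᵖᵒᵖ) : Idx E₂ X → Idx E X :=
  fun φ => ULift.up (π ≫ φ.down)

lemma preIdx_injective {E E₂ : Adeq.Alg A} (π : E ⟶ E₂) (hπ : Function.Surjective π.hom)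
    (X : (Adeq.Alg A)ᵒᵖᵒᵖ) : Function.Injective (preIdx π X) := by
  intro φ φ' h
  apply ULift.ext
  have h1 : π ≫ φ.down = π ≫ φ'.down := congrArg ULift.down h
  apply CommAlgCat.hom_ext
  refine AlgHom.ext fun y => ?_
  obtain ⟨x, rfl⟩ := hπ y
  have := congrArg (fun ψ => ψ.hom x) h1
  simpa using this

lemma preIdx_idxMap {E E₂ : Adeq.Alg A} (π : E ⟶ E₂) {X Y : (Adeq.Alg A)ᵒᵖᵒᵖ} (f : X ⟶ Y)
    (φ : Idx E₂ X) : preIdx π Y (idxMap E₂ f φ) = idxMap E f (preIdx π X φ) := by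
  apply ULift.ext
  show π ≫ (φ.down ≫ f.unop.unop) = (π ≫ φ.down) ≫ f.unop.unop
  rw [Category.assoc]

noncomputable def preApp {E E₂ : Adeq.Alg A} (π : E ⟶ E₂) (X : (Adeq.Alg A)ᵒᵖᵒᵖ) :
    pObj E₂ X ⟶ pObj E X :=
  ModuleCat.ofHom (X := PMod E₂ X) (Y := PMod E X)
    (Finsupp.lmapDomain ((Adeq.ringOf A).obj X) ((Adeq.ringOf A).obj X) (preIdx π X))

lemma preApp_single {E E₂ : Adeq.Alg A} (π : E ⟶ E₂) (X : (Adeq.Alg A)ᵒᵖᵒᵖ) (φ : Idx E₂ X)
    (c : (Adeq.ringOf A).obj X) :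
    (preApp π X).hom (Finsupp.single φ c : PMod E₂ X) =
      (Finsupp.single (preIdx π X φ) c : PMod E X) := by
  show Finsupp.mapDomain (preIdx π X) (Finsupp.single φ c) = _
  rw [Finsupp.mapDomain_single]

/-- `P E₂ ⟶ P E` induced by `π : E ⟶ E₂`. -/
noncomputable def pre {E E₂ : Adeq.Alg A} (π : E ⟶ E₂) : P E₂ ⟶ P E where
  app X := preApp π X
  naturality {X Y} f := by
    apply hom_ext_P
    intro φ c
    show (preApp π Y).hom ((pMap E₂ f).hom (Finsupp.single φ c : PMod E₂ X)) =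
      (pMap E f).hom ((preApp π X).hom (Finsupp.single φ c : PMod E₂ X))
    rw [pMap_single, preApp_single, preApp_single, pMap_single, preIdx_idxMap]

lemma pre_mono {E E₂ : Adeq.Alg A} (π : E ⟶ E₂) (hπ : Function.Surjective π.hom) :
    Mono (pre π) := by
  apply PresheafOfModules.mono_of_injective
  intro X
  exact Finsupp.mapDomain_injective (preIdx_injective π hπ X)

/-- the generator of `P D` at `D`. -/
noncomputable def gen (D : Adeq.Alg A) : (P D).obj (Adeq.pt D) :=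
  (Finsupp.single (ULift.up (𝟙 D)) 1 : PMod D (Adeq.pt D))

lemma yo_gen (D : Adeq.Alg A) (F : Adeq.MVF A) (x : F.obj (Adeq.pt D)) :
    ap (yo D F x) (Adeq.pt D) (gen D) = x := by
  show (yoApp D F x (Adeq.pt D)).hom (Finsupp.single (ULift.up (𝟙 D)) 1 : PMod D (Adeq.pt D)) = x
  rw [yoApp_single, one_smul]
  exact mp_id F _ x

lemma mp_gen {E E₂ : Adeq.Alg A} (π : E ⟶ E₂) :
    mp (P E) (Adeq.ptHom π) (gen E) = ap (pre π) (Adeq.pt E₂) (gen E₂) := by
  show (pMap E (Adeq.ptHom π)).hom (Finsupp.single (ULift.up (𝟙 E)) 1 : PMod E (Adeq.pt E)) =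
    (preApp π (Adeq.pt E₂)).hom (Finsupp.single (ULift.up (𝟙 E₂)) 1 : PMod E₂ (Adeq.pt E₂))
  rw [pMap_single, preApp_single, map_one]
  have : idxMap E (Adeq.ptHom π) (ULift.up (𝟙 E)) = preIdx π (Adeq.pt E₂) (ULift.up (𝟙 E₂)) := by
    apply ULift.ext
    show 𝟙 E ≫ π = π ≫ 𝟙 E₂
    simp
  rw [this]

/-- Extension property: if `I` is injective and `π : E → E₂` is surjective, every element of
`I(E₂)` is the image of an element of `I(E)`. -/
lemma exists_lift_of_injective (I : Adeq.MVF A) [Injective I] {E E₂ : Adeq.Alg A} (π : E ⟶ E₂)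
    (hπ : Function.Surjective π.hom) (t₂ : I.obj (Adeq.pt E₂)) :
    ∃ t : I.obj (Adeq.pt E), mp I (Adeq.ptHom π) t = t₂ := by
  have := pre_mono π hπ
  let ψ : P E ⟶ I := Injective.factorThru (yo E₂ I t₂) (pre π)
  have hψ : pre π ≫ ψ = yo E₂ I t₂ := Injective.comp_factorThru _ _
  refine ⟨ap ψ (Adeq.pt E) (gen E), ?_⟩
  rw [← ap_mp, mp_gen]
  have : ap ψ (Adeq.pt E₂) (ap (pre π) (Adeq.pt E₂) (gen E₂)) =
      ap (pre π ≫ ψ) (Adeq.pt E₂) (gen E₂) := rfl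
  rw [this, hψ, yo_gen]

end Groth.Agent.Helper29.FreeRepB
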