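import Mathlib
import Groth.Prelude.Def_W4stkadequateTF
import Groth.Agent.Lib.Helper29.TanB
import Groth.Agent.Lib.Helper29.FreeRepB

namespace Groth.Agent.Helper29.MVFInjA

open CategoryTheory Limits

universe u v v₁

section generic

variable {C : Type v} [Category.{v₁} C] (R : Cᵒᵖ ⥤ RingCat.{u})

lemma ab5 : AB5OfSize.{v, v} (PresheafOfModules.{v} R) where
  ofShape J _ _ :=
    HasExactColimitsOfShape.domain_of_functor J (PresheafOfModules.toPresheaf.{v} R)

theorem enoughInjectives_of_hasSeparator (hsep : HasSeparator (PresheafOfModules.{v} R)) :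
    EnoughInjectives (PresheafOfModules.{v} R) := by
  have h5 := ab5 R
  have : IsGrothendieckAbelian.{v} (PresheafOfModules.{v} R) := { }
  infer_instance

end generic

open Groth.Agent.Helper29.TanB Groth.Agent.Helper29.FreeRepA Groth.Agent.Helper29.FreeRepB

variable (A : Type u) [CommRing A]

lemma isSeparating_P :
    ObjectProperty.IsSeparating (ObjectProperty.ofObj (fun D : Adeq.Alg A => P D)) := by
  intro M N f g h
  apply PresheafOfModules.hom_ext
  intro X
  apply ModuleCat.hom_ext
  apply LinearMap.ext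
  intro x
  obtain ⟨⟨D⟩⟩ := X
  have h1 := h (P D) ⟨D⟩ (yo D M x)
  have h2 : ap (yo D M x ≫ f) (Adeq.pt D) (gen D) = ap (yo D M x ≫ g) (Adeq.pt D) (gen D) := by
    rw [h1]
  have e : ∀ k : M ⟶ N, ap (yo D M x ≫ k) (Adeq.pt D) (gen D) = ap k (Adeq.pt D) x := by
    intro k
    have : ap (yo D M x ≫ k) (Adeq.pt D) (gen D) =
      ap k (Adeq.pt D) (ap (yo D M x) (Adeq.pt D) (gen D)) := rfl
    rw [this, yo_gen]
  rw [e, e] at h2
  exact h2

theorem main8754 : EnoughInjectives (Adeq.MVF A) := by
  apply enoughInjectives_of_hasSeparator (Adeq.ringOf A)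
  have : HasColimitsOfShape (Discrete (Adeq.Alg A)) (PresheafOfModules.{u+1} (Adeq.ringOf A)) :=
    PresheafOfModules.hasColimitsOfShape.{u+1, u, u+1, u+1, u+1, u} (Adeq.ringOf A)
      (Discrete (Adeq.Alg A))
  have : HasCoproduct (fun D : Adeq.Alg A => P D) := inferInstance
  exact ⟨⟨_, (isSeparating_P A).isSeparator_coproduct⟩⟩

end Groth.Agent.Helper29.MVFInjA
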