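import Mathlib
import Groth.Agent.Lib.Helper29.MVFInjA

namespace Groth.Agent.Helper29.ShModGA

open CategoryTheory Limits

universe u v₁ u₁ v₂ u₂

/-- the left adjoint of a faithful functor sends separators to separators. -/
lemma isSeparator_of_adjunction {C : Type u₁} [Category.{v₁} C] {D : Type u₂} [Category.{v₂} D]
    {F : C ⥤ D} {G : D ⥤ C} (adj : F ⊣ G) [G.Faithful] {S : C} (hS : IsSeparator S) :
    IsSeparator (F.obj S) := by
  rw [isSeparator_def] at hS ⊢
  intro X Y f g h
  apply G.map_injective
  apply hS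
  intro k
  have := h ((adj.homEquiv _ _).symm k)
  have e := congrArg (adj.homEquiv _ _) this
  simpa [Adjunction.homEquiv_naturality_right] using e

variable {C : Type u} [SmallCategory C] (J : GrothendieckTopology C) (R : Sheaf J RingCat.{u})

lemma hasSeparator_presheaf (R₀ : Cᵒᵖ ⥤ RingCat.{u}) :
    HasSeparator (PresheafOfModules.{u} R₀) :=
  ⟨⟨_, (PresheafOfModules.freeYoneda.isSeparating R₀).isSeparator_coproduct⟩⟩

theorem main0484 : IsGrothendieckAbelian.{u} (SheafOfModules.{u} R) := by
  let adj := PresheafOfModules.sheafificationAdjunction.{u} (𝟙 R.obj)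
  have hff : (SheafOfModules.forget.{u} R ⋙ PresheafOfModules.restrictScalars (𝟙 R.obj)).Full :=
    inferInstance
  have hfa : (SheafOfModules.forget.{u} R ⋙ PresheafOfModules.restrictScalars (𝟙 R.obj)).Faithful :=
    inferInstance
  have h5 := MVFInjA.ab5.{u, u, u} R.obj
  have : AB5OfSize.{u, u} (SheafOfModules.{u} R) :=
    ⟨fun K _ _ => adj.hasExactColimitsOfShape K⟩
  have : HasSeparator (SheafOfModules.{u} R) := by
    obtain ⟨S, hS⟩ := (hasSeparator_presheaf R.obj).hasSeparator
    exact ⟨⟨_, isSeparator_of_adjunction adj hS⟩⟩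
  exact { }

end Groth.Agent.Helper29.ShModGA
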