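import Mathlib
import Groth.Prelude.Def_DDual2
import Groth.Agent.Lib.Helper5.LDer6
import Groth.Agent.Lib.Helper11.KI1
import Groth.Agent.Lib.Helper9.DerAdj
import Groth.Agent.Lib.Helper29.ShModGA

/-!
# The adjunction `Lf^* ⊣ Rf_*` for a morphism of schemes
-/
set_option autoImplicit false
universe u
open CategoryTheory CategoryTheory.Limits AlgebraicGeometry

attribute [local instance] HasDerivedCategory.standard

namespace Groth.Agent.Helper29.LRAdj

instance isGrothendieckAbelian_modules (X : Scheme.{u}) : IsGrothendieckAbelian.{u} X.Modules :=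
  Groth.Agent.Helper29.ShModGA.main0484 _ _

variable {X Y : Scheme.{u}} (f : X ⟶ Y)

/-- `f^*` on homotopy categories -/
noncomputable abbrev pullK : HomotopyCategory Y.Modules (ComplexShape.up ℤ) ⥤
    HomotopyCategory X.Modules (ComplexShape.up ℤ) :=
  (Scheme.Modules.pullback f).mapHomotopyCategory (ComplexShape.up ℤ)

/-- `f_*` on homotopy categories -/
noncomputable abbrev pushK : HomotopyCategory X.Modules (ComplexShape.up ℤ) ⥤
    HomotopyCategory Y.Modules (ComplexShape.up ℤ) :=
  (Scheme.Modules.pushforward f).mapHomotopyCategory (ComplexShape.up ℤ)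

/-- the adjunction on homotopy categories -/
noncomputable def adjK : pullK f ⊣ pushK f :=
  Groth.Agent.Helper9.DerAdj.homotopyAdj (Scheme.Modules.pullbackPushforwardAdjunction f) _

variable [DCoh.HasLpull f] [DCoh.HasRpush f]

/-- the counit of `Lf^*` -/
noncomputable abbrev α : DerivedCategory.Qh ⋙ DCoh.Lpull f ⟶ pullK f ⋙ DerivedCategory.Qh :=
  Groth.Agent.Helper5.LDer.LpullCounit f

/-- the unit of `Rf_*` -/
noncomputable abbrev β : pushK f ⋙ DerivedCategory.Qh ⟶ DerivedCategory.Qh ⋙ DCoh.Rpush f :=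
  (DCoh.pushKh f).totalRightDerivedUnit DerivedCategory.Qh
    (HomotopyCategory.quasiIso X.Modules (ComplexShape.up ℤ))

instance isLeftDerivedFunctor_comp :
    (DCoh.Lpull f ⋙ DCoh.Rpush f).IsLeftDerivedFunctor
      ((Functor.associator _ _ _).inv ≫ Functor.whiskerRight (α f) (DCoh.Rpush f))
      (HomotopyCategory.quasiIso Y.Modules (ComplexShape.up ℤ)) := by
  refine Groth.Agent.Helper5.LDer.isLeftDerivedFunctor_K_of_isIso
    ((pullK f ⋙ DerivedCategory.Qh) ⋙ DCoh.Rpush f) ?_ _ _ (fun K hK => ?_)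
  · intro K L g hg hK hL
    have := Groth.Agent.Helper5.LDer.invertsKFlatQis_pullKh f g hg hK hL
    change IsIso ((DCoh.Rpush f).map (((HomotopyCategory.quotient Y.Modules (ComplexShape.up ℤ) ⋙
      DCoh.pullKh f)).map g))
    infer_instance
  · haveI := Groth.Agent.Helper5.LDer.isIso_LpullCounit f K hK
    simp only [NatTrans.comp_app, Functor.associator_inv_app, Functor.whiskerRight_app,
      Category.id_comp]
    infer_instance

instance isRightDerivedFunctor_comp :
    (DCoh.Rpush f ⋙ DCoh.Lpull f).IsRightDerivedFunctor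
      (Functor.whiskerRight (β f) (DCoh.Lpull f) ≫ (Functor.associator _ _ _).hom)
      (HomotopyCategory.quasiIso X.Modules (ComplexShape.up ℤ)) :=
  Groth.Agent.Helper11.KI.isRightDerivedFunctor_comp (DCoh.pushKh f) (DCoh.Rpush f) (β f)
    (DCoh.Lpull f)

/-- the derived adjunction `Lf^* ⊣ Rf_*` -/
noncomputable def adj : DCoh.Lpull f ⊣ DCoh.Rpush f :=
  (adjK f).derived (HomotopyCategory.quasiIso Y.Modules (ComplexShape.up ℤ))
    (HomotopyCategory.quasiIso X.Modules (ComplexShape.up ℤ)) (α f) (β f)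

omit [DCoh.HasLpull f] in
/-- the derived adjunction, with the existence of `Lf^*` supplied -/
noncomputable def adj' :
    haveI : DCoh.HasLpull f := Groth.Agent.Helper5.LDer.hasLpull f
    DCoh.Lpull f ⊣ DCoh.Rpush f :=
  haveI : DCoh.HasLpull f := Groth.Agent.Helper5.LDer.hasLpull f
  adj f

theorem main0922 {X Y Z : Scheme.{u}} (f : X ⟶ Y) (g : Y ⟶ Z)
    [DCoh.HasRpush f] [DCoh.HasRpush g] [DCoh.HasRpush (f ≫ g)] :
    Nonempty (DCoh.Rpush f ⋙ DCoh.Rpush g ≅ DCoh.Rpush (f ≫ g)) := by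
  haveI : DCoh.HasLpull f := Groth.Agent.Helper5.LDer.hasLpull f
  haveI : DCoh.HasLpull g := Groth.Agent.Helper5.LDer.hasLpull g
  haveI : DCoh.HasLpull (f ≫ g) := Groth.Agent.Helper5.LDer.hasLpull (f ≫ g)
  obtain ⟨e⟩ := Groth.Agent.Helper5.LDer.Lpull_comp_iso f g
  exact ⟨(((adj g).comp (adj f)).ofNatIsoLeft e).rightAdjointUniq (adj (f ≫ g))⟩

end Groth.Agent.Helper29.LRAdj
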