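import Mathlib
import Groth.Prelude.Def_DCoh3
import Groth.Agent.Lib.Helper13.ModFlasque

/-!
# Mayer–Vietoris for modules on a scheme: module level
-/
set_option autoImplicit false
universe u
open CategoryTheory CategoryTheory.Limits AlgebraicGeometry TopologicalSpace Opposite

namespace Groth.Agent.Helper29.OpenMVA

variable {X : Scheme.{u}}

section Criterion

lemma isZero_homology_ab (S : ShortComplex AddCommGrpCat.{u})
    (h : ∀ x : S.X₂, S.g x = 0 → ∃ y : S.X₁, S.f y = x) : S.Exact := by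
  rw [ShortComplex.ab_exact_iff]
  exact h

/-- a short complex of `O_X`-modules which is sectionwise short exact is short exact -/
theorem shortExact_of_sections (S : ShortComplex X.Modules)
    (h1 : ∀ Y : X.Opens, Function.Injective (S.f.app Y))
    (h2 : ∀ (Y : X.Opens) (x : Γ(S.X₂, Y)), S.g.app Y x = 0 → ∃ y, S.f.app Y y = x)
    (h3 : ∀ Y : X.Opens, Function.Surjective (S.g.app Y)) : S.ShortExact := by
  have hm : Mono S.f := by
    apply (Scheme.Modules.toPresheaf X).mono_of_mono_map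
    rw [NatTrans.mono_iff_mono_app]
    intro Y
    rw [AddCommGrpCat.mono_iff_injective]
    exact h1 Y.unop
  have he : Epi S.g := by
    apply (Scheme.Modules.toPresheaf X).epi_of_epi_map
    rw [NatTrans.epi_iff_epi_app]
    intro Y
    rw [AddCommGrpCat.epi_iff_surjective]
    exact h3 Y.unop
  refine ShortComplex.ShortExact.mk ?_
  apply (Scheme.Modules.toPresheaf X).reflects_exact_of_faithful
  rw [ShortComplex.exact_iff_isZero_homology, Functor.isZero_iff]
  intro Y
  let ev := (evaluation (Opens X)ᵒᵖ AddCommGrpCat.{u}).obj Y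
  haveI : ev.Additive := ⟨fun {_ _ f g} => rfl⟩
  haveI : PreservesFiniteLimits ev := ⟨fun _ _ _ => inferInstance⟩
  haveI : PreservesFiniteColimits ev := ⟨fun _ _ _ => inferInstance⟩
  haveI : ev.PreservesHomology := inferInstance
  have e := (S.map (Scheme.Modules.toPresheaf X)).mapHomologyIso ev
  refine IsZero.of_iso ?_ e.symm
  rw [← ShortComplex.exact_iff_isZero_homology]
  apply isZero_homology_ab
  exact h2 Y.unop

end Criterion

section Functors

open Scheme.Modules

/-- restriction to an open -/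
noncomputable abbrev R (O : X.Opens) : X.Modules ⥤ (O : Scheme.{u}).Modules :=
  restrictFunctor O.ι

/-- direct image from an open -/
noncomputable abbrev P (O : X.Opens) : (O : Scheme.{u}).Modules ⥤ X.Modules :=
  pushforward O.ι

/-- `j_* j^*` -/
noncomputable abbrev T (O : X.Opens) : X.Modules ⥤ X.Modules := R O ⋙ P O

/-- the unit `F ⟶ j_* j^* F` -/
noncomputable abbrev η (O : X.Opens) : 𝟭 X.Modules ⟶ T O := (restrictAdjunction O.ι).unit

lemma η_app_app (O : X.Opens) (F : X.Modules) (Y : X.Opens) :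
    ((η O).app F).app Y = F.presheaf.map (homOfLE (O.ι.image_preimage_le Y)).op := rfl

variable {O W : X.Opens} (h : W ≤ O)

/-- `T W ≅ R O ⋙ T' ⋙ P O` -/
noncomputable def TIso : T W ≅ R O ⋙ (restrictFunctor (X.homOfLE h) ⋙ pushforward (X.homOfLE h)) ⋙ P O :=
  Functor.isoWhiskerRight (restrictFunctorCongr (X.homOfLE_ι h).symm ≪≫
    restrictFunctorComp (X.homOfLE h) O.ι) (P W) ≪≫
  Functor.isoWhiskerLeft (R O ⋙ restrictFunctor (X.homOfLE h))
    (pushforwardCongr (X.homOfLE_ι h).symm ≪≫ (pushforwardComp (X.homOfLE h) O.ι).symm) ≪≫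
  Functor.associator _ _ _ ≪≫ Functor.isoWhiskerLeft (R O) (Functor.associator _ _ _).symm

/-- the restriction `j_{O*} j_O^* F ⟶ j_{W*} j_W^* F` for `W ≤ O` -/
noncomputable def ρ : T O ⟶ T W :=
  Functor.whiskerLeft (R O) (Functor.whiskerRight (restrictAdjunction (X.homOfLE h)).unit (P O)) ≫
    (TIso h).inv

lemma restrict_map' {X' Y' : Scheme.{u}} (M : Y'.Modules) (f : X' ⟶ Y') [IsOpenImmersion f]
    {A B : X'.Opensᵒᵖ} (g : A ⟶ B) :
    (M.restrict f).presheaf.map g = M.presheaf.map (f.opensFunctor.op.map g) := rfl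

lemma presheaf_map_eq (M : X.Modules) {A B : X.Opensᵒᵖ} (g g' : A ⟶ B) :
    M.presheaf.map g = M.presheaf.map g' := by
  rw [Subsingleton.elim g g']

lemma comp4 (M : X.Modules) {A B C D E : X.Opensᵒᵖ} (a : A ⟶ B) (b : B ⟶ C) (c : C ⟶ D)
    (d : D ⟶ E) : M.presheaf.map a ≫ M.presheaf.map b ≫ M.presheaf.map c ≫ M.presheaf.map d =
      M.presheaf.map (a ≫ b ≫ c ≫ d) := by
  simp only [Functor.map_comp]

lemma comp2 (M : X.Modules) {A B C : X.Opensᵒᵖ} (a : A ⟶ B) (b : B ⟶ C) :
    M.presheaf.map a ≫ M.presheaf.map b = M.presheaf.map (a ≫ b) := by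
  simp only [Functor.map_comp]

include h in
lemma image_le (Y : X.Opens) : W.ι ''ᵁ (W.ι ⁻¹ᵁ Y) ≤ O.ι ''ᵁ (O.ι ⁻¹ᵁ Y) := by
  simp only [Scheme.Hom.image_preimage_eq_opensRange_inf, Scheme.Opens.opensRange_ι]
  exact inf_le_inf_right _ h

lemma ρ_app_app (F : X.Modules) (Y : X.Opens) :
    ((ρ h).app F).app Y = F.presheaf.map
      (homOfLE (image_le h Y) : W.ι ''ᵁ (W.ι ⁻¹ᵁ Y) ⟶ O.ι ''ᵁ (O.ι ⁻¹ᵁ Y)).op := by
  simp only [Functor.comp_obj, pushforward_obj_obj, ρ, TIso, Functor.isoWhiskerRight_trans,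
    Functor.isoWhiskerLeft_trans, Iso.trans_assoc, Iso.trans_inv, Functor.isoWhiskerLeft_inv, Iso.symm_inv,
    Category.assoc, Functor.isoWhiskerRight_inv, NatTrans.comp_app, Functor.whiskerLeft_app, Functor.whiskerRight_app,
    Functor.id_obj, Functor.associator_hom_app, Functor.associator_inv_app, Category.id_comp, Hom.comp_app,
    pushforward_map_app, restrictAdjunction_unit_app_app, homOfLE_leOfHom, Scheme.Hom.comp_base, Opens.map_comp_obj,
    pushforwardComp_hom_app_app, pushforwardCongr_inv_app_app, eqToHom_op, restrictFunctorComp_inv_app_app,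
    Functor.op_obj, restrictFunctorCongr_inv_app_app]
  rw [restrict_map', restrict_map', restrict_map']
  exact (comp4 F _ _ _ _).trans (presheaf_map_eq F _ _)

end Functors

section Glue

/-- the underlying sheaf of abelian groups -/
noncomputable abbrev shf (F : X.Modules) : TopCat.Sheaf Ab X.toTopCat := ⟨F.presheaf, F.isSheaf⟩

/-- restriction of sections -/
noncomputable abbrev res (F : X.Modules) {A Y : X.Opens} (hA : A ≤ Y) (s : Γ(F, Y)) : Γ(F, A) :=
  F.presheaf.map (homOfLE hA).op s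

lemma res_res (F : X.Modules) {A B Y : X.Opens} (hA : A ≤ B) (hB : B ≤ Y) (s : Γ(F, Y)) :
    res F hA (res F hB s) = res F (hA.trans hB) s := by
  dsimp only [res]
  rw [← ConcreteCategory.comp_apply, ← Functor.map_comp]
  rfl

lemma res_zero (F : X.Modules) {A Y : X.Opens} (hA : A ≤ Y) : res F hA 0 = 0 := map_zero _

lemma res_ext (F : X.Modules) {A B Y : X.Opens} (hA : A ≤ Y) (hB : B ≤ Y) (hc : Y ≤ A ⊔ B)
    (s t : Γ(F, Y)) (h₁ : res F hA s = res F hA t) (h₂ : res F hB s = res F hB t) : s = t :=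
  (shf F).eq_of_locally_eq₂ (homOfLE hA) (homOfLE hB) hc s t h₁ h₂

lemma res_glue (F : X.Modules) {A B Y : X.Opens} (hA : A ≤ Y) (hB : B ≤ Y) (hc : Y ≤ A ⊔ B)
    (a : Γ(F, A)) (b : Γ(F, B))
    (h : res F (inf_le_left : A ⊓ B ≤ A) a = res F (inf_le_right : A ⊓ B ≤ B) b) :
    ∃ s : Γ(F, Y), res F hA s = a ∧ res F hB s = b := by
  let Uf : Bool → X.Opens := fun t => if t then A else B
  let sf : ∀ i : Bool, ToType ((shf F).1.obj (op (Uf i))) := fun i =>
    match i with
    | true => a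
    | false => b
  have hcov : Y ≤ iSup Uf := by
    refine le_trans hc ?_
    rw [sup_le_iff]
    exact ⟨le_iSup Uf true, le_iSup Uf false⟩
  have hcompat : TopCat.Presheaf.IsCompatible (shf F).1 Uf sf := by
    rintro (_ | _) (_ | _)
    · rfl
    · have := congrArg (res F (le_of_eq (inf_comm B A))) h
      rw [res_res, res_res] at this
      exact this.symm
    · exact h
    · rfl
  obtain ⟨s, hs, -⟩ := (shf F).existsUnique_gluing' Uf Y
    (fun i => match i with
      | true => homOfLE hA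
      | false => homOfLE hB) hcov sf hcompat
  exact ⟨s, hs true, hs false⟩

end Glue

section MV

open Scheme.Modules

variable (U V : X.Opens)

lemma η_ρ {O W : X.Opens} (h : W ≤ O) : η O ≫ ρ h = η W := by
  apply NatTrans.ext
  funext F
  apply Scheme.Modules.hom_ext
  intro Y
  rw [NatTrans.comp_app, Hom.comp_app, η_app_app, ρ_app_app, η_app_app]
  exact (comp2 F _ _).trans (presheaf_map_eq F _ _)

/-- the unit, as a map out of `F` -/
noncomputable abbrev ηa (O : X.Opens) (F : X.Modules) : F ⟶ (T O).obj F := (η O).app F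

lemma mv_zero (F : X.Modules) :
    biprod.lift (ηa U F) (ηa V F) ≫
      biprod.desc ((ρ (inf_le_left : U ⊓ V ≤ U)).app F) (-(ρ (inf_le_right : U ⊓ V ≤ V)).app F) = 0 := by
  rw [biprod.lift_desc, Preadditive.comp_neg, ← sub_eq_add_neg, sub_eq_zero]
  change ((η U) ≫ ρ _).app F = ((η V) ≫ ρ _).app F
  rw [η_ρ, η_ρ]

/-- the Mayer–Vietoris short complex `F → j_{U*}F|_U ⊞ j_{V*}F|_V → j_{W*}F|_W`, `W = U ⊓ V` -/
noncomputable abbrev mvSC (F : X.Modules) : ShortComplex X.Modules :=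
  ShortComplex.mk (biprod.lift (ηa U F) (ηa V F))
    (biprod.desc ((ρ (inf_le_left : U ⊓ V ≤ U)).app F) (-(ρ (inf_le_right : U ⊓ V ≤ V)).app F))
    (mv_zero U V F)

section Biprod

variable {M N : X.Modules} (Y : X.Opens)

lemma app_comp_apply {A B C : X.Modules} (f : A ⟶ B) (g : B ⟶ C) (x : Γ(A, Y)) :
    (f ≫ g).app Y x = g.app Y (f.app Y x) := by
  rw [Hom.comp_app]; rfl

lemma app_add_apply {A B : X.Modules} (f g : A ⟶ B) (x : Γ(A, Y)) :
    (f + g).app Y x = f.app Y x + g.app Y x := by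
  rw [Hom.add_app]; rfl

lemma biprod_total_apply (x : Γ(M ⊞ N, Y)) :
    (biprod.inl : M ⟶ M ⊞ N).app Y ((biprod.fst : M ⊞ N ⟶ M).app Y x) +
      (biprod.inr : N ⟶ M ⊞ N).app Y ((biprod.snd : M ⊞ N ⟶ N).app Y x) = x := by
  have h := congrArg (fun φ : M ⊞ N ⟶ M ⊞ N => φ.app Y x) (biprod.total (X := M) (Y := N))
  dsimp only at h
  rw [app_add_apply, app_comp_apply, app_comp_apply] at h
  rw [h, Hom.id_app]
  rfl

lemma biprod_ext_apply (x x' : Γ(M ⊞ N, Y))
    (h₁ : (biprod.fst : M ⊞ N ⟶ M).app Y x = (biprod.fst : M ⊞ N ⟶ M).app Y x')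
    (h₂ : (biprod.snd : M ⊞ N ⟶ N).app Y x = (biprod.snd : M ⊞ N ⟶ N).app Y x') : x = x' := by
  rw [← biprod_total_apply Y x, ← biprod_total_apply Y x', h₁, h₂]

end Biprod

theorem mvSC_shortExact (hUV : U ⊔ V = ⊤) (F : X.Modules)
    (hF : ∀ {A B : X.Opens} (h : A ≤ B), Function.Surjective (res F h)) :
    (mvSC U V F).ShortExact := by
  have hcov : ∀ Y : X.Opens, Y ≤ U.ι ''ᵁ (U.ι ⁻¹ᵁ Y) ⊔ V.ι ''ᵁ (V.ι ⁻¹ᵁ Y) := by
    intro Y
    rw [Scheme.Hom.image_preimage_eq_opensRange_inf, Scheme.Hom.image_preimage_eq_opensRange_inf,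
      Scheme.Opens.opensRange_ι, Scheme.Opens.opensRange_ι, ← inf_sup_right, hUV, top_inf_eq]
  have hW : ∀ Y : X.Opens, U.ι ''ᵁ (U.ι ⁻¹ᵁ Y) ⊓ V.ι ''ᵁ (V.ι ⁻¹ᵁ Y) =
      (U ⊓ V).ι ''ᵁ ((U ⊓ V).ι ⁻¹ᵁ Y) := by
    intro Y
    rw [Scheme.Hom.image_preimage_eq_opensRange_inf, Scheme.Hom.image_preimage_eq_opensRange_inf,
      Scheme.Hom.image_preimage_eq_opensRange_inf,
      Scheme.Opens.opensRange_ι, Scheme.Opens.opensRange_ι, Scheme.Opens.opensRange_ι]
    exact (inf_inf_distrib_right U V Y).symm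
  have hfst : ∀ (Y : X.Opens) (s : Γ(F, Y)),
      (biprod.fst : (T U).obj F ⊞ (T V).obj F ⟶ _).app Y ((mvSC U V F).f.app Y s) =
        res F (U.ι.image_preimage_le Y) s := by
    intro Y s
    rw [← app_comp_apply, biprod.lift_fst, η_app_app]
    rfl
  have hsnd : ∀ (Y : X.Opens) (s : Γ(F, Y)),
      (biprod.snd : (T U).obj F ⊞ (T V).obj F ⟶ _).app Y ((mvSC U V F).f.app Y s) =
        res F (V.ι.image_preimage_le Y) s := by
    intro Y s
    rw [← app_comp_apply, biprod.lift_snd, η_app_app]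
    rfl
  have hg : ∀ (Y : X.Opens) (x : Γ((T U).obj F ⊞ (T V).obj F, Y)),
      (mvSC U V F).g.app Y x =
        res F (image_le (inf_le_left : U ⊓ V ≤ U) Y) ((biprod.fst : (T U).obj F ⊞ (T V).obj F ⟶ _).app Y x) -
        res F (image_le (inf_le_right : U ⊓ V ≤ V) Y) ((biprod.snd : (T U).obj F ⊞ (T V).obj F ⟶ _).app Y x) := by
    intro Y x
    have h1 : (mvSC U V F).g = biprod.fst ≫ (ρ (inf_le_left : U ⊓ V ≤ U)).app F -
        biprod.snd ≫ (ρ (inf_le_right : U ⊓ V ≤ V)).app F := by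
      apply biprod.hom_ext' <;> simp
    rw [h1, Hom.sub_app]
    change (biprod.fst ≫ (ρ (inf_le_left : U ⊓ V ≤ U)).app F).app Y x -
      (biprod.snd ≫ (ρ (inf_le_right : U ⊓ V ≤ V)).app F).app Y x = _
    rw [app_comp_apply, app_comp_apply, ρ_app_app, ρ_app_app]
    rfl
  apply shortExact_of_sections
  · intro Y
    rw [injective_iff_map_eq_zero]
    intro s hs
    refine res_ext F (U.ι.image_preimage_le Y) (V.ι.image_preimage_le Y) (hcov Y) s 0 ?_ ?_
    · rw [← hfst, hs, map_zero]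
      exact (res_zero F _).symm
    · rw [← hsnd, hs, map_zero]
      exact (res_zero F _).symm
  · intro Y x hx
    replace hx : res F (image_le (inf_le_left : U ⊓ V ≤ U) Y)
        ((biprod.fst : (T U).obj F ⊞ (T V).obj F ⟶ _).app Y x) =
        res F (image_le (inf_le_right : U ⊓ V ≤ V) Y)
        ((biprod.snd : (T U).obj F ⊞ (T V).obj F ⟶ _).app Y x) :=
      sub_eq_zero.mp ((hg Y x).symm.trans hx)
    obtain ⟨s, hs1, hs2⟩ := res_glue F (U.ι.image_preimage_le Y) (V.ι.image_preimage_le Y) (hcov Y)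
      ((biprod.fst : (T U).obj F ⊞ (T V).obj F ⟶ _).app Y x)
      ((biprod.snd : (T U).obj F ⊞ (T V).obj F ⟶ _).app Y x) (by
        have := congrArg (res F (le_of_eq (hW Y))) hx
        rw [res_res, res_res] at this
        exact this)
    refine ⟨s, biprod_ext_apply Y _ _ ?_ ?_⟩
    · rw [hfst, hs1]
    · rw [hsnd, hs2]
  · intro Y c
    obtain ⟨a, ha⟩ := hF (image_le (inf_le_left : U ⊓ V ≤ U) Y) c
    refine ⟨(biprod.inl : (T U).obj F ⟶ (T U).obj F ⊞ (T V).obj F).app Y a, ?_⟩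
    rw [hg, ← app_comp_apply, ← app_comp_apply, biprod.inl_fst, biprod.inl_snd, Hom.id_app,
      Hom.zero_app]
    have h0 := res_zero F (image_le (inf_le_right : U ⊓ V ≤ V) Y)
    exact (congrArg (fun t => res F (image_le (inf_le_left : U ⊓ V ≤ U) Y) a - t) h0).trans
      ((sub_zero _).trans ha)

lemma res_surjective_of_injective (F : X.Modules) [Injective F] {A B : X.Opens} (h : A ≤ B) :
    Function.Surjective (res F h) := by
  have : Mono (homOfLE h) := ⟨fun _ _ _ => Subsingleton.elim _ _⟩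
  have hI : @Injective (SheafOfModules.{u} X.ringCatSheaf) _ F :=
    ⟨fun {A B} g f hf => @Injective.factors X.Modules _ F _ A B g f hf⟩
  exact @Groth.Agent.Helper13.ModFlasque.restrict_surjective_of_injective _ _ _ X.ringCatSheaf _ _ F hI
    _ _ (homOfLE h) _

/-- for injective `F` the Mayer–Vietoris sequence is split short exact -/
noncomputable def mvSplitting (hUV : U ⊔ V = ⊤) (F : X.Modules) [Injective F] :
    (mvSC U V F).Splitting :=
  (mvSC_shortExact U V hUV F (fun h => res_surjective_of_injective F h)).splittingOfInjective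

end MV

end Groth.Agent.Helper29.OpenMVA
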