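import Mathlib
import Groth.Prelude.Def_DCoh3
import Groth.Prelude.Def_CxOX
import Groth.Agent.Lib.Helper29.OpenMVA

/-!
# Mayer–Vietoris for modules on a scheme: complexes and derived categories
-/
set_option autoImplicit false
universe w v v' u u'
open CategoryTheory CategoryTheory.Limits AlgebraicGeometry TopologicalSpace Opposite

namespace Groth.Agent.Helper29.OpenMVB

open Groth.Agent.Helper29.OpenMVA

section LB

variable {𝒞 : Type u} {𝒟 : Type u'} [Category.{v} 𝒞] [Category.{v'} 𝒟] [Preadditive 𝒞] [Preadditive 𝒟]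
  [HasBinaryBiproducts 𝒞] [HasBinaryBiproducts 𝒟]
  {A B₁ B₂ C : 𝒞} (a₁ : A ⟶ B₁) (a₂ : A ⟶ B₂) (b₁ : B₁ ⟶ C) (b₂ : B₂ ⟶ C) (w : a₁ ≫ b₁ = a₂ ≫ b₂)

/-- the short complex `A → B₁ ⊞ B₂ → C` -/
noncomputable abbrev sc : ShortComplex 𝒞 :=
  ShortComplex.mk (biprod.lift a₁ a₂) (biprod.desc b₁ (-b₂)) (by
    rw [biprod.lift_desc, Preadditive.comp_neg, ← sub_eq_add_neg, sub_eq_zero, w])

variable (Φ : 𝒞 ⥤ 𝒟) [Φ.Additive]

include w in
lemma map_w : Φ.map a₁ ≫ Φ.map b₁ = Φ.map a₂ ≫ Φ.map b₂ := by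
  rw [← Φ.map_comp, w, Φ.map_comp]

instance (priority := 100) preservesBinaryBiproducts_of_additive :
    PreservesBinaryBiproducts Φ :=
  preservesBinaryBiproducts_of_preservesBiproducts Φ

/-- additive functors commute with the formation of `sc` -/
noncomputable def scMapIso :
    (sc a₁ a₂ b₁ b₂ w).map Φ ≅ sc (Φ.map a₁) (Φ.map a₂) (Φ.map b₁) (Φ.map b₂) (map_w a₁ a₂ b₁ b₂ w Φ) :=
  ShortComplex.isoMk (Iso.refl _) (Φ.mapBiprod B₁ B₂) (Iso.refl _)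
    (by
      change 𝟙 (Φ.obj A) ≫ biprod.lift (Φ.map a₁) (Φ.map a₂) =
        Φ.map (biprod.lift a₁ a₂) ≫ (Φ.mapBiprod B₁ B₂).hom
      rw [Category.id_comp]
      apply biprod.hom_ext
      · rw [biprod.lift_fst, Category.assoc, Functor.mapBiprod_hom, biprod.lift_fst, ← Φ.map_comp,
          biprod.lift_fst]
      · rw [biprod.lift_snd, Category.assoc, Functor.mapBiprod_hom, biprod.lift_snd, ← Φ.map_comp,
          biprod.lift_snd])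
    (by
      change (Φ.mapBiprod B₁ B₂).hom ≫ biprod.desc (Φ.map b₁) (-Φ.map b₂) =
        Φ.map (biprod.desc b₁ (-b₂)) ≫ 𝟙 (Φ.obj C)
      rw [Category.comp_id, ← cancel_epi (Φ.mapBiprod B₁ B₂).inv, Iso.inv_hom_id_assoc]
      apply biprod.hom_ext'
      · rw [biprod.inl_desc, Functor.mapBiprod_inv, biprod.inl_desc_assoc, ← Φ.map_comp,
          biprod.inl_desc]
      · rw [biprod.inr_desc, Functor.mapBiprod_inv, biprod.inr_desc_assoc, ← Φ.map_comp,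
          biprod.inr_desc, Functor.map_neg])

end LB

section Cx

variable {ℬ : Type u} [Category.{v} ℬ] [Abelian ℬ]
  {A B₁ B₂ C : CochainComplex ℬ ℤ} (a₁ : A ⟶ B₁) (a₂ : A ⟶ B₂) (b₁ : B₁ ⟶ C) (b₂ : B₂ ⟶ C)
  (w : a₁ ≫ b₁ = a₂ ≫ b₂)

include w in
lemma w_f (n : ℤ) : a₁.f n ≫ b₁.f n = a₂.f n ≫ b₂.f n := by
  rw [← HomologicalComplex.comp_f, w, HomologicalComplex.comp_f]

theorem shortExact_of_degreewise
    (h : ∀ n, (sc (a₁.f n) (a₂.f n) (b₁.f n) (b₂.f n) (w_f a₁ a₂ b₁ b₂ w n)).ShortExact) :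
    (sc a₁ a₂ b₁ b₂ w).ShortExact := by
  apply HomologicalComplex.shortExact_of_degreewise_shortExact
  intro n
  exact ShortComplex.shortExact_of_iso
    (scMapIso a₁ a₂ b₁ b₂ w (HomologicalComplex.eval ℬ (ComplexShape.up ℤ) n)).symm (h n)

end Cx

section Tri

open Pretriangulated DerivedCategory

variable {ℬ : Type u} [Category.{v} ℬ] [Abelian ℬ] [HasDerivedCategory.{w} ℬ]
  {A B₁ B₂ C : CochainComplex ℬ ℤ} (a₁ : A ⟶ B₁) (a₂ : A ⟶ B₂) (b₁ : B₁ ⟶ C) (b₂ : B₂ ⟶ C)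
  (w : a₁ ≫ b₁ = a₂ ≫ b₂)

theorem exists_triangle (hS : (sc a₁ a₂ b₁ b₂ w).ShortExact)
    {R₁ R₂₁ R₂₂ R₃ : DerivedCategory ℬ} (e₁ : Q.obj A ≅ R₁) (e₂₁ : Q.obj B₁ ≅ R₂₁)
    (e₂₂ : Q.obj B₂ ≅ R₂₂) (e₃ : Q.obj C ≅ R₃) :
    ∃ (a : R₁ ⟶ R₂₁ ⊞ R₂₂) (b : R₂₁ ⊞ R₂₂ ⟶ R₃) (c : R₃ ⟶ R₁⟦(1 : ℤ)⟧),
      Triangle.mk a b c ∈ distTriang (DerivedCategory ℬ) := by
  let e₂ : Q.obj (B₁ ⊞ B₂) ≅ R₂₁ ⊞ R₂₂ := Q.mapBiprod B₁ B₂ ≪≫ biprod.mapIso e₂₁ e₂₂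
  refine ⟨e₁.inv ≫ Q.map (sc a₁ a₂ b₁ b₂ w).f ≫ e₂.hom,
    e₂.inv ≫ Q.map (sc a₁ a₂ b₁ b₂ w).g ≫ e₃.hom,
    e₃.inv ≫ triangleOfSESδ hS ≫ e₁.hom⟦(1 : ℤ)⟧', ?_⟩
  refine isomorphic_distinguished _ (triangleOfSES_distinguished hS) _
    (Triangle.isoMk _ _ e₁.symm e₂.symm e₃.symm ?_ ?_ ?_)
  · change (e₁.inv ≫ Q.map (sc a₁ a₂ b₁ b₂ w).f ≫ e₂.hom) ≫ e₂.inv =
      e₁.inv ≫ Q.map (sc a₁ a₂ b₁ b₂ w).f
    rw [Category.assoc, Category.assoc, Iso.hom_inv_id, Category.comp_id]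
  · change (e₂.inv ≫ Q.map (sc a₁ a₂ b₁ b₂ w).g ≫ e₃.hom) ≫ e₃.inv =
      e₂.inv ≫ Q.map (sc a₁ a₂ b₁ b₂ w).g
    rw [Category.assoc, Category.assoc, Iso.hom_inv_id, Category.comp_id]
  · change (e₃.inv ≫ triangleOfSESδ hS ≫ e₁.hom⟦(1 : ℤ)⟧') ≫ e₁.inv⟦(1 : ℤ)⟧' =
      e₃.inv ≫ triangleOfSESδ hS
    rw [Category.assoc, Category.assoc, ← Functor.map_comp, Iso.hom_inv_id,
      CategoryTheory.Functor.map_id, Category.comp_id]

end Tri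

section MVcx

variable {X : Scheme.{u}}

/-- the unit on complexes -/
noncomputable def ηc (O : X.Opens) (I : CochainComplex X.Modules ℤ) :
    I ⟶ ((T O).mapHomologicalComplex (ComplexShape.up ℤ)).obj I where
  f n := ηa O (I.X n)
  comm' i j _ := ((η O).naturality (I.d i j)).symm

/-- the restriction on complexes -/
noncomputable def ρc {O W : X.Opens} (h : W ≤ O) (I : CochainComplex X.Modules ℤ) :
    ((T O).mapHomologicalComplex (ComplexShape.up ℤ)).obj I ⟶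
      ((T W).mapHomologicalComplex (ComplexShape.up ℤ)).obj I :=
  (NatTrans.mapHomologicalComplex (ρ h) (ComplexShape.up ℤ)).app I

lemma ηc_ρc {O W : X.Opens} (h : W ≤ O) (I : CochainComplex X.Modules ℤ) :
    ηc O I ≫ ρc h I = ηc W I := by
  apply HomologicalComplex.hom_ext
  intro n
  change (η O ≫ ρ h).app (I.X n) = (η W).app (I.X n)
  rw [η_ρ]

lemma mv_w (U V : X.Opens) (F : X.Modules) :
    ηa U F ≫ (ρ (inf_le_left : U ⊓ V ≤ U)).app F = ηa V F ≫ (ρ (inf_le_right : U ⊓ V ≤ V)).app F := by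
  change ((η U) ≫ ρ _).app F = ((η V) ≫ ρ _).app F
  rw [η_ρ, η_ρ]

variable (U V : X.Opens) (hUV : U ⊔ V = ⊤)
  {ℬ : Type u'} [Category.{v'} ℬ] [Abelian ℬ] (G : X.Modules ⥤ ℬ) [G.Additive]
  (I : CochainComplex X.Modules ℤ)

lemma cx_w :
    (G.mapHomologicalComplex (ComplexShape.up ℤ)).map (ηc U I) ≫
      (G.mapHomologicalComplex (ComplexShape.up ℤ)).map (ρc (inf_le_left : U ⊓ V ≤ U) I) =
    (G.mapHomologicalComplex (ComplexShape.up ℤ)).map (ηc V I) ≫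
      (G.mapHomologicalComplex (ComplexShape.up ℤ)).map (ρc (inf_le_right : U ⊓ V ≤ V) I) := by
  rw [← Functor.map_comp, ← Functor.map_comp, ηc_ρc, ηc_ρc]

include hUV in
theorem mv_cx_shortExact (hI : ∀ n, Injective (I.X n)) :
    (sc ((G.mapHomologicalComplex (ComplexShape.up ℤ)).map (ηc U I))
      ((G.mapHomologicalComplex (ComplexShape.up ℤ)).map (ηc V I))
      ((G.mapHomologicalComplex (ComplexShape.up ℤ)).map (ρc (inf_le_left : U ⊓ V ≤ U) I))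
      ((G.mapHomologicalComplex (ComplexShape.up ℤ)).map (ρc (inf_le_right : U ⊓ V ≤ V) I))
      (cx_w U V G I)).ShortExact := by
  apply shortExact_of_degreewise
  intro n
  haveI := hI n
  have h1 : ((mvSC U V (I.X n)).map G).ShortExact := ((mvSplitting U V hUV (I.X n)).map G).shortExact
  exact ShortComplex.shortExact_of_iso
    (scMapIso (ηa U (I.X n)) (ηa V (I.X n)) ((ρ (inf_le_left : U ⊓ V ≤ U)).app (I.X n))
      ((ρ (inf_le_right : U ⊓ V ≤ V)).app (I.X n)) (mv_w U V (I.X n)) G) h1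

end MVcx

end Groth.Agent.Helper29.OpenMVB
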