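import Mathlib
import Groth.Prelude.Def_DCoh3
import Groth.Prelude.Def_CxOX
import Groth.Agent.Lib.Helper29.OpenMVB
import Groth.Agent.Lib.Helper29.DAdjA
import Groth.Agent.Lib.Helper29.KInjE
import Groth.Agent.Lib.Helper29.LRAdj
import Groth.Agent.Lib.Helper11.KI1
import Groth.Agent.Lib.Helper17.IR1

/-!
# Mayer–Vietoris triangles in the derived category of a scheme
-/
set_option autoImplicit false
universe w v v' u u'
open CategoryTheory CategoryTheory.Limits AlgebraicGeometry TopologicalSpace Opposite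

attribute [local instance] HasDerivedCategory.standard

namespace Groth.Agent.Helper29.OpenMVC

open Groth.Agent.Helper29.OpenMVA Groth.Agent.Helper29.OpenMVB Groth.Agent.Helper11.KI
open Groth.Agent.Helper29.LRAdj

variable {X : Scheme.{u}}

/-- restriction to an open preserves K-injective complexes -/
lemma isKInjective_restrict (O : X.Opens) (I : CochainComplex X.Modules ℤ) [I.IsKInjective] :
    CochainComplex.IsKInjective (((R O).mapHomologicalComplex (ComplexShape.up ℤ)).obj I) := by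
  haveI : PreservesFiniteLimits (CxOX.extZero O.ι) :=
    Groth.Agent.Helper17.IR.preservesFiniteLimits_extZero X O
  exact Groth.Agent.Helper29.DAdjA.isKInjective_map (CxOX.extZeroAdj O.ι) I

/-- every object of `D(O_X)` is represented by a K-injective complex with injective terms -/
lemma exists_res (E : DCoh.D X) :
    ∃ (I : CochainComplex X.Modules ℤ) (_ : I.IsKInjective) (_ : ∀ n, Injective (I.X n)),
      Nonempty (E ≅ DerivedCategory.Q.obj I) := by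
  obtain ⟨I, f, hI, hf, -, hinj⟩ :=
    Groth.Agent.Helper29.KInjE.exists_kInjective_resolution (DerivedCategory.Q.objPreimage E)
  haveI : IsIso (DerivedCategory.Q.map f) := by
    rw [DerivedCategory.isIso_Q_map_iff_quasiIso]; exact hf
  exact ⟨I, hI, hinj,
    ⟨(DerivedCategory.Q.objObjPreimageIso E).symm ≪≫ asIso (DerivedCategory.Q.map f)⟩⟩

section ID

variable {ℬ : Type u'} [Category.{v'} ℬ] [Abelian ℬ] [HasDerivedCategory.{w} ℬ]
  (O : X.Opens) (G : X.Modules ⥤ ℬ) [G.Additive]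
  (H : (O : Scheme.{u}).Modules ⥤ ℬ) [H.Additive] (θ : P O ⋙ G ≅ H)
  (RH : DCoh.D (O : Scheme.{u}) ⥤ DerivedCategory ℬ)
  (βH : H.mapHomotopyCategory (ComplexShape.up ℤ) ⋙ DerivedCategory.Qh ⟶ DerivedCategory.Qh ⋙ RH)
  [RH.IsRightDerivedFunctor βH (WK (O : Scheme.{u}).Modules)]

/-- identification of `G(j_* j^* I)` with `RH(E|_O)` -/
noncomputable def idIso (I : CochainComplex X.Modules ℤ) [I.IsKInjective] (E : DCoh.D X)
    (e : E ≅ DerivedCategory.Q.obj I) :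
    DerivedCategory.Q.obj ((G.mapHomologicalComplex (ComplexShape.up ℤ)).obj
      (((T O).mapHomologicalComplex (ComplexShape.up ℤ)).obj I)) ≅
      RH.obj ((DCoh.restrictD O.ι).obj E) := by
  haveI := isKInjective_restrict O I
  let K := ((R O).mapHomologicalComplex (ComplexShape.up ℤ)).obj I
  have h1 : IsIso (βH.app ((quo _).obj K)) := isIso_unit.{u+1} _ RH βH K
  let e1 : DerivedCategory.Q.obj ((H.mapHomologicalComplex (ComplexShape.up ℤ)).obj K) ≅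
      RH.obj (DerivedCategory.Q.obj K) := @asIso _ _ _ _ (βH.app ((quo _).obj K)) h1
  let e0 : (G.mapHomologicalComplex (ComplexShape.up ℤ)).obj
      (((T O).mapHomologicalComplex (ComplexShape.up ℤ)).obj I) ≅
      (H.mapHomologicalComplex (ComplexShape.up ℤ)).obj K :=
    (NatIso.mapHomologicalComplex θ (ComplexShape.up ℤ)).app K
  exact DerivedCategory.Q.mapIso e0 ≪≫ e1 ≪≫
    RH.mapIso (((R O).mapDerivedCategoryFactors.app I).symm ≪≫ (DCoh.restrictD O.ι).mapIso e.symm)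

end ID

section Main

open Pretriangulated

variable {ℬ : Type u'} [Category.{v'} ℬ] [Abelian ℬ] [HasDerivedCategory.{w} ℬ]
  (U V : X.Opens) (hUV : U ⊔ V = ⊤) (G : X.Modules ⥤ ℬ) [G.Additive]
  (HU : (U : Scheme.{u}).Modules ⥤ ℬ) [HU.Additive] (θU : P U ⋙ G ≅ HU)
  (RHU : DCoh.D (U : Scheme.{u}) ⥤ DerivedCategory ℬ)
  (βU : HU.mapHomotopyCategory (ComplexShape.up ℤ) ⋙ DerivedCategory.Qh ⟶ DerivedCategory.Qh ⋙ RHU)
  [RHU.IsRightDerivedFunctor βU (WK (U : Scheme.{u}).Modules)]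
  (HV : (V : Scheme.{u}).Modules ⥤ ℬ) [HV.Additive] (θV : P V ⋙ G ≅ HV)
  (RHV : DCoh.D (V : Scheme.{u}) ⥤ DerivedCategory ℬ)
  (βV : HV.mapHomotopyCategory (ComplexShape.up ℤ) ⋙ DerivedCategory.Qh ⟶ DerivedCategory.Qh ⋙ RHV)
  [RHV.IsRightDerivedFunctor βV (WK (V : Scheme.{u}).Modules)]
  (HW : ((U ⊓ V : X.Opens) : Scheme.{u}).Modules ⥤ ℬ) [HW.Additive] (θW : P (U ⊓ V) ⋙ G ≅ HW)
  (RHW : DCoh.D ((U ⊓ V : X.Opens) : Scheme.{u}) ⥤ DerivedCategory ℬ)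
  (βW : HW.mapHomotopyCategory (ComplexShape.up ℤ) ⋙ DerivedCategory.Qh ⟶ DerivedCategory.Qh ⋙ RHW)
  [RHW.IsRightDerivedFunctor βW (WK ((U ⊓ V : X.Opens) : Scheme.{u}).Modules)]
  (E : DCoh.D X) (R₁ : DerivedCategory ℬ)
  (e₁ : ∀ (I : CochainComplex X.Modules ℤ) [I.IsKInjective] (_ : E ≅ DerivedCategory.Q.obj I),
    DerivedCategory.Q.obj ((G.mapHomologicalComplex (ComplexShape.up ℤ)).obj I) ≅ R₁)

include hUV θU θV θW βU βV βW e₁ in
theorem mv_triangle :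
    ∃ (a : R₁ ⟶ RHU.obj ((DCoh.restrictD U.ι).obj E) ⊞ RHV.obj ((DCoh.restrictD V.ι).obj E))
      (b : RHU.obj ((DCoh.restrictD U.ι).obj E) ⊞ RHV.obj ((DCoh.restrictD V.ι).obj E) ⟶
        RHW.obj ((DCoh.restrictD (U ⊓ V).ι).obj E))
      (c : RHW.obj ((DCoh.restrictD (U ⊓ V).ι).obj E) ⟶ R₁⟦(1 : ℤ)⟧),
      Triangle.mk a b c ∈ distTriang (DerivedCategory ℬ) := by
  obtain ⟨I, hI, hinj, ⟨e⟩⟩ := exists_res E
  exact exists_triangle _ _ _ _ (cx_w U V G I) (mv_cx_shortExact U V hUV G I hinj) (e₁ I e)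
    (idIso U G HU θU RHU βU I E e) (idIso V G HV θV RHV βV I E e)
    (idIso (U ⊓ V) G HW θW RHW βW I E e)

end Main

section Apps

open Pretriangulated

/-- the unit of `Rg_*` -/
noncomputable abbrev βp {A B : Scheme.{u}} (g : A ⟶ B) [DCoh.HasRpush g] :
    DCoh.pushKh g ⟶ DerivedCategory.Qh ⋙ DCoh.Rpush g :=
  (DCoh.pushKh g).totalRightDerivedUnit DerivedCategory.Qh
    (HomotopyCategory.quasiIso A.Modules (ComplexShape.up ℤ))

instance {A B : Scheme.{u}} (g : A ⟶ B) [DCoh.HasRpush g] :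
    (DCoh.Rpush g).IsRightDerivedFunctor (βp g) (WK A.Modules) :=
  inferInstanceAs (((DCoh.pushKh g).totalRightDerived DerivedCategory.Qh
    (HomotopyCategory.quasiIso A.Modules (ComplexShape.up ℤ))).IsRightDerivedFunctor
    ((DCoh.pushKh g).totalRightDerivedUnit DerivedCategory.Qh
    (HomotopyCategory.quasiIso A.Modules (ComplexShape.up ℤ))) _)

theorem main6511 {X Y : Scheme.{u}} (f : X ⟶ Y) (U V : X.Opens) (hUV : U ⊔ V = ⊤)
    [DCoh.HasRpush f] [DCoh.HasRpush (U.ι ≫ f)] [DCoh.HasRpush (V.ι ≫ f)] [DCoh.HasRpush ((U ⊓ V).ι ≫ f)]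
    (E : DCoh.D X) :
    ∃ (a : (DCoh.Rpush f).obj E ⟶ ((DCoh.Rpush (U.ι ≫ f)).obj ((DCoh.restrictD U.ι).obj E) ⊞ (DCoh.Rpush (V.ι ≫ f)).obj ((DCoh.restrictD V.ι).obj E))) (b : ((DCoh.Rpush (U.ι ≫ f)).obj ((DCoh.restrictD U.ι).obj E) ⊞ (DCoh.Rpush (V.ι ≫ f)).obj ((DCoh.restrictD V.ι).obj E)) ⟶ (DCoh.Rpush ((U ⊓ V).ι ≫ f)).obj ((DCoh.restrictD (U ⊓ V).ι).obj E)) (c : (DCoh.Rpush ((U ⊓ V).ι ≫ f)).obj ((DCoh.restrictD (U ⊓ V).ι).obj E) ⟶ ((DCoh.Rpush f).obj E)⟦(1 : ℤ)⟧),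
      Pretriangulated.Triangle.mk a b c ∈ Pretriangulated.distinguishedTriangles := by
  refine mv_triangle U V hUV (Scheme.Modules.pushforward f)
    (Scheme.Modules.pushforward (U.ι ≫ f)) (Scheme.Modules.pushforwardComp U.ι f)
    (DCoh.Rpush (U.ι ≫ f)) (βp (U.ι ≫ f))
    (Scheme.Modules.pushforward (V.ι ≫ f)) (Scheme.Modules.pushforwardComp V.ι f)
    (DCoh.Rpush (V.ι ≫ f)) (βp (V.ι ≫ f))
    (Scheme.Modules.pushforward ((U ⊓ V).ι ≫ f)) (Scheme.Modules.pushforwardComp (U ⊓ V).ι f)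
    (DCoh.Rpush ((U ⊓ V).ι ≫ f)) (βp ((U ⊓ V).ι ≫ f)) E ((DCoh.Rpush f).obj E) ?_
  intro I _ e
  have h1 : IsIso ((βp f).app ((quo _).obj I)) := isIso_unit.{u+1} _ (DCoh.Rpush f) (βp f) I
  exact @asIso _ _ _ _ ((βp f).app ((quo _).obj I)) h1 ≪≫ (DCoh.Rpush f).mapIso e.symm

theorem main6510 {X : Scheme.{u}} (U V : X.Opens) (hUV : U ⊔ V = ⊤)
    [DCoh.HasRpush U.ι] [DCoh.HasRpush V.ι] [DCoh.HasRpush (U ⊓ V).ι] (E : DCoh.D X) :
    ∃ (a : E ⟶ ((DCoh.Rpush U.ι).obj ((DCoh.restrictD U.ι).obj E) ⊞ (DCoh.Rpush V.ι).obj ((DCoh.restrictD V.ι).obj E))) (b : ((DCoh.Rpush U.ι).obj ((DCoh.restrictD U.ι).obj E) ⊞ (DCoh.Rpush V.ι).obj ((DCoh.restrictD V.ι).obj E)) ⟶ (DCoh.Rpush (U ⊓ V).ι).obj ((DCoh.restrictD (U ⊓ V).ι).obj E)) (c : (DCoh.Rpush (U ⊓ V).ι).obj ((DCoh.restrictD (U ⊓ V).ι).obj E) ⟶ (E)⟦(1 : ℤ)⟧),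
      Pretriangulated.Triangle.mk a b c ∈ Pretriangulated.distinguishedTriangles := by
  refine mv_triangle U V hUV (𝟭 X.Modules)
    (Scheme.Modules.pushforward U.ι) (Functor.rightUnitor _)
    (DCoh.Rpush U.ι) (βp U.ι)
    (Scheme.Modules.pushforward V.ι) (Functor.rightUnitor _)
    (DCoh.Rpush V.ι) (βp V.ι)
    (Scheme.Modules.pushforward (U ⊓ V).ι) (Functor.rightUnitor _)
    (DCoh.Rpush (U ⊓ V).ι) (βp (U ⊓ V).ι) E E ?_
  intro I _ e
  exact DerivedCategory.Q.mapIso ((Functor.mapHomologicalComplexIdIso X.Modules (ComplexShape.up ℤ)).app I)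
    ≪≫ e.symm

/-- the unit of `RΓ` -/
noncomputable abbrev βΓ (A : Scheme.{u}) [DCoh.HasRΓ A] :
    DCoh.gammaKh A ⟶ DerivedCategory.Qh ⋙ DCoh.RΓ A :=
  (DCoh.gammaKh A).totalRightDerivedUnit DerivedCategory.Qh
    (HomotopyCategory.quasiIso A.Modules (ComplexShape.up ℤ))

instance (A : Scheme.{u}) [DCoh.HasRΓ A] :
    (DCoh.RΓ A).IsRightDerivedFunctor (βΓ A) (WK A.Modules) :=
  inferInstanceAs (((DCoh.gammaKh A).totalRightDerived DerivedCategory.Qh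
    (HomotopyCategory.quasiIso A.Modules (ComplexShape.up ℤ))).IsRightDerivedFunctor
    ((DCoh.gammaKh A).totalRightDerivedUnit DerivedCategory.Qh
    (HomotopyCategory.quasiIso A.Modules (ComplexShape.up ℤ))) _)

/-- global sections of a direct image from an open -/
noncomputable def gammaPushIso {X : Scheme.{u}} (O : X.Opens) :
    P O ⋙ DCoh.gammaAb X ≅ DCoh.gammaAb (O : Scheme.{u}) :=
  NatIso.ofComponents (fun M => Iso.refl _) (fun {M N} f => by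
    refine (Category.comp_id ((P O ⋙ DCoh.gammaAb X).map f)).trans ?_
    exact (Category.id_comp ((DCoh.gammaAb (O : Scheme.{u})).map f)).symm)

theorem main6512 {X : Scheme.{u}} (U V : X.Opens) (hUV : U ⊔ V = ⊤)
    [DCoh.HasRΓ X] [DCoh.HasRΓ (U : Scheme.{u})] [DCoh.HasRΓ (V : Scheme.{u})] [DCoh.HasRΓ (U ⊓ V : X.Opens)]
    (E : DCoh.D X) :
    ∃ (a : (DCoh.RΓ X).obj E ⟶ ((DCoh.RΓ (U : Scheme.{u})).obj ((DCoh.restrictD U.ι).obj E) ⊞ (DCoh.RΓ (V : Scheme.{u})).obj ((DCoh.restrictD V.ι).obj E))) (b : ((DCoh.RΓ (U : Scheme.{u})).obj ((DCoh.restrictD U.ι).obj E) ⊞ (DCoh.RΓ (V : Scheme.{u})).obj ((DCoh.restrictD V.ι).obj E)) ⟶ (DCoh.RΓ (U ⊓ V : X.Opens)).obj ((DCoh.restrictD (U ⊓ V).ι).obj E)) (c : (DCoh.RΓ (U ⊓ V : X.Opens)).obj ((DCoh.restrictD (U ⊓ V).ι).obj E) ⟶ ((DCoh.RΓ X).obj E)⟦(1 : ℤ)⟧),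
      Pretriangulated.Triangle.mk a b c ∈ Pretriangulated.distinguishedTriangles := by
  refine mv_triangle U V hUV (DCoh.gammaAb X)
    (DCoh.gammaAb (U : Scheme.{u})) (gammaPushIso U)
    (DCoh.RΓ (U : Scheme.{u})) (βΓ (U : Scheme.{u}))
    (DCoh.gammaAb (V : Scheme.{u})) (gammaPushIso V)
    (DCoh.RΓ (V : Scheme.{u})) (βΓ (V : Scheme.{u}))
    (DCoh.gammaAb ((U ⊓ V : X.Opens) : Scheme.{u})) (gammaPushIso (U ⊓ V))
    (DCoh.RΓ ((U ⊓ V : X.Opens) : Scheme.{u})) (βΓ ((U ⊓ V : X.Opens) : Scheme.{u})) E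
    ((DCoh.RΓ X).obj E) ?_
  intro I _ e
  have h1 : IsIso ((βΓ X).app ((quo _).obj I)) := isIso_unit.{u+1} _ (DCoh.RΓ X) (βΓ X) I
  exact @asIso _ _ _ _ ((βΓ X).app ((quo _).obj I)) h1 ≪≫ (DCoh.RΓ X).mapIso e.symm

end Apps

end Groth.Agent.Helper29.OpenMVC
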