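import Mathlib
import Groth.Prelude.Def_DCoh3
import Groth.Prelude.Def_CxOX
import Groth.Agent.Lib.Helper29.OpenMVC

/-!
# Derived direct image and restriction to opens
-/
set_option autoImplicit false
universe u
open CategoryTheory CategoryTheory.Limits AlgebraicGeometry TopologicalSpace Opposite

attribute [local instance] HasDerivedCategory.standard

namespace Groth.Agent.Helper29.OpenRes

open Groth.Agent.Helper29.OpenMVA Groth.Agent.Helper29.OpenMVB Groth.Agent.Helper29.OpenMVC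
open Groth.Agent.Helper11.KI Scheme.Modules

variable {X Y : Scheme.{u}} (f : X ⟶ Y) (V : Y.Opens)

lemma isIso_map_homOfLE (M : X.Modules) {A B : X.Opens} (h : A ≤ B) (e : A = B) :
    IsIso (M.presheaf.map (homOfLE h).op) := by
  subst e
  have : homOfLE h = 𝟙 A := Subsingleton.elim _ _
  rw [this]
  infer_instance

/-- `M ↦ (f_* M)|_V ⟶ (f_* j_* j^* M)|_V`, `j : f⁻¹V ⟶ X` -/
noncomputable def τ : pushforward f ⋙ restrictFunctor V.ι ⟶
    T (f ⁻¹ᵁ V) ⋙ pushforward f ⋙ restrictFunctor V.ι :=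
  (Functor.leftUnitor _).inv ≫ Functor.whiskerRight (η (f ⁻¹ᵁ V)) (pushforward f ⋙ restrictFunctor V.ι)

lemma τ_app_app (M : X.Modules) (W : (V : Scheme.{u}).Opens) :
    ((τ f V).app M).app W = ((η (f ⁻¹ᵁ V)).app M).app (f ⁻¹ᵁ (V.ι ''ᵁ W)) := by
  simp [τ]
  rfl

instance : IsIso (τ f V) := by
  rw [NatTrans.isIso_iff_isIso_app]
  intro M
  rw [Hom.isIso_iff_isIso_app]
  intro W
  rw [τ_app_app, η_app_app]
  apply isIso_map_homOfLE
  rw [Scheme.Hom.image_preimage_eq_opensRange_inf, Scheme.Opens.opensRange_ι]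
  apply inf_eq_right.mpr
  exact f.preimage_mono (V.ι.image_le_opensRange W |>.trans (le_of_eq V.opensRange_ι))

/-- `(f_* M)|_V ≅ (f|_V)_* (M|_{f⁻¹V})` -/
noncomputable def γ : pushforward f ⋙ restrictFunctor V.ι ≅
    restrictFunctor (f ⁻¹ᵁ V).ι ⋙ pushforward (f ∣_ V) :=
  asIso (τ f V) ≪≫
  Functor.associator _ _ _ ≪≫
  Functor.isoWhiskerLeft (R (f ⁻¹ᵁ V))
    ((Functor.associator _ _ _).symm ≪≫
      Functor.isoWhiskerRight
        (pushforwardComp (f ⁻¹ᵁ V).ι f ≪≫ pushforwardCongr (morphismRestrict_ι f V).symm ≪≫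
          (pushforwardComp (f ∣_ V) V.ι).symm) (restrictFunctor V.ι) ≪≫
      Functor.associator _ _ _ ≪≫
      Functor.isoWhiskerLeft (pushforward (f ∣_ V)) (restrictFunctorAdjCounitIso V.ι) ≪≫
      Functor.rightUnitor _)

section Derived

variable [DCoh.HasRpush f] [DCoh.HasRpush (f ∣_ V)]

/-- the unit for `E ↦ R(f|_V)_*(E|_{f⁻¹V})` -/
noncomputable def β₂ :
    (R (f ⁻¹ᵁ V)).mapHomotopyCategory (ComplexShape.up ℤ) ⋙ DCoh.pushKh (f ∣_ V) ⟶
      DerivedCategory.Qh ⋙ (DCoh.restrictD (f ⁻¹ᵁ V).ι ⋙ DCoh.Rpush (f ∣_ V)) :=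
  Functor.whiskerLeft ((R (f ⁻¹ᵁ V)).mapHomotopyCategory (ComplexShape.up ℤ)) (βp (f ∣_ V)) ≫
    (Functor.associator _ _ _).inv ≫
    Functor.whiskerRight ((R (f ⁻¹ᵁ V)).mapDerivedCategoryFactorsh.inv) (DCoh.Rpush (f ∣_ V)) ≫
    (Functor.associator _ _ _).hom

instance : (DCoh.restrictD (f ⁻¹ᵁ V).ι ⋙ DCoh.Rpush (f ∣_ V)).IsRightDerivedFunctor (β₂ f V)
    (WK X.Modules) := by
  apply isRightDerivedFunctor_of_isIso.{u+1}
  intro I _
  haveI := isKInjective_restrict (f ⁻¹ᵁ V) I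
  have h1 : IsIso ((βp (f ∣_ V)).app ((quo _).obj
      (((R (f ⁻¹ᵁ V)).mapHomologicalComplex (ComplexShape.up ℤ)).obj I))) :=
    isIso_unit.{u+1} _ (DCoh.Rpush (f ∣_ V)) (βp (f ∣_ V)) _
  have h2 : IsIso ((βp (f ∣_ V)).app
      (((R (f ⁻¹ᵁ V)).mapHomotopyCategory (ComplexShape.up ℤ)).obj ((quo _).obj I))) := h1
  simp only [β₂, NatTrans.comp_app, Functor.whiskerLeft_app, Functor.associator_inv_app,
    Functor.whiskerRight_app, Functor.associator_hom_app, Category.id_comp, Category.comp_id]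
  infer_instance

/-- the iso between the two underived functors on `K(O_X)` -/
noncomputable def φ : DCoh.pushKh f ⋙ DCoh.restrictD V.ι ≅
    (R (f ⁻¹ᵁ V)).mapHomotopyCategory (ComplexShape.up ℤ) ⋙ DCoh.pushKh (f ∣_ V) :=
  Functor.associator _ _ _ ≪≫
  Functor.isoWhiskerLeft _ (restrictFunctor V.ι).mapDerivedCategoryFactorsh ≪≫
  (Functor.associator _ _ _).symm ≪≫
  Functor.isoWhiskerRight
    (Functor.mapHomotopyCategoryCompIso (γ f V) (ComplexShape.up ℤ) ≪≫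
      (Functor.mapHomotopyCategoryCompIso (Iso.refl (restrictFunctor (f ⁻¹ᵁ V).ι ⋙ pushforward (f ∣_ V)))
        (ComplexShape.up ℤ)).symm) DerivedCategory.Qh ≪≫
  Functor.associator _ _ _

theorem main6508 :
    Nonempty (DCoh.Rpush f ⋙ DCoh.restrictD V.ι ≅ DCoh.restrictD (f ⁻¹ᵁ V).ι ⋙ DCoh.Rpush (f ∣_ V)) := by
  haveI := isRightDerivedFunctor_comp.{u+1} (DCoh.pushKh f) (DCoh.Rpush f) (βp f) (DCoh.restrictD V.ι)
  exact ⟨Functor.rightDerivedNatIso _ _
    (Functor.whiskerRight (βp f) (DCoh.restrictD V.ι) ≫ (Functor.associator _ _ _).hom)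
    (β₂ f V) (WK X.Modules) (φ f V)⟩

end Derived

end Groth.Agent.Helper29.OpenRes
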