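import Mathlib

/-!
# A point whose closure is a proper closed subset of large dimension
-/

set_option autoImplicit false

namespace Groth.Agent.Helper29.ChainPt

open TopologicalSpace

/-- the trace on a subspace `T` of an irreducible closed subset contained in `T` -/
def pre {Z : Type*} [TopologicalSpace Z] (T : Set Z) (S : IrreducibleCloseds Z)
    (hS : (S : Set Z) ⊆ T) : IrreducibleCloseds ↥T where
  carrier := Subtype.val ⁻¹' (S : Set Z)
  isIrreducible' := by
    obtain ⟨⟨z, hz⟩, hpre⟩ := S.isIrreducible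
    refine ⟨⟨⟨z, hS hz⟩, hz⟩, ?_⟩
    intro u v hu hv ⟨x, hxS, hxu⟩ ⟨y, hyS, hyv⟩
    obtain ⟨U, hU, rfl⟩ := isOpen_induced_iff.mp hu
    obtain ⟨V, hV, rfl⟩ := isOpen_induced_iff.mp hv
    obtain ⟨w, hwS, hwU, hwV⟩ := hpre U V hU hV ⟨x.1, hxS, hxu⟩ ⟨y.1, hyS, hyv⟩
    exact ⟨⟨w, hS hwS⟩, hwS, hwU, hwV⟩
  isClosed' := S.isClosed.preimage continuous_subtype_val

lemma pre_lt {Z : Type*} [TopologicalSpace Z] (T : Set Z) (S₁ S₂ : IrreducibleCloseds Z)
    (h₁ : (S₁ : Set Z) ⊆ T) (h₂ : (S₂ : Set Z) ⊆ T) (h : S₁ < S₂) :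
    pre T S₁ h₁ < pre T S₂ h₂ := by
  rw [lt_iff_le_and_ne] at h ⊢
  obtain ⟨hle, hne⟩ := h
  have hle' : (S₁ : Set Z) ⊆ (S₂ : Set Z) := SetLike.coe_subset_coe.mpr hle
  refine ⟨?_, fun heq => hne ?_⟩
  · intro x hx
    exact hle' hx
  · apply IrreducibleCloseds.ext
    apply Set.Subset.antisymm hle'
    intro z hz
    have hmem : (⟨z, h₂ hz⟩ : ↥T) ∈ (pre T S₂ h₂ : Set ↥T) := hz
    rw [← heq] at hmem
    exact hmem

theorem exists_point_dim_ge {Z : Type*} [TopologicalSpace Z] [QuasiSober Z] (e : ℕ)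
    (h : ((e + 1 : ℕ) : WithBot ℕ∞) ≤ topologicalKrullDim Z) :
    ∃ ξ : Z, closure ({ξ} : Set Z) ≠ Set.univ ∧
      ((e : ℕ) : WithBot ℕ∞) ≤ topologicalKrullDim ↥(closure ({ξ} : Set Z)) := by
  unfold topologicalKrullDim at h
  obtain ⟨l, hl⟩ := Order.le_krullDim_iff.mp h
  have hlen : l.length ≠ 0 := by omega
  have hTlt : l.eraseLast.last < l.last := RelSeries.eraseLast_last_rel_last l hlen
  obtain ⟨ξ, hξ⟩ := QuasiSober.sober l.eraseLast.last.isIrreducible l.eraseLast.last.isClosed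
  have hcl : closure ({ξ} : Set Z) = (l.eraseLast.last : Set Z) := hξ.def
  refine ⟨ξ, ?_, ?_⟩
  · rw [hcl]
    intro huniv
    have hle : l.last ≤ l.eraseLast.last := by
      intro x _
      have : x ∈ (l.eraseLast.last : Set Z) := by rw [huniv]; trivial
      exact this
    exact absurd hTlt (not_lt_of_ge hle)
  · rw [hcl]
    have hsub : ∀ i, ((l.eraseLast i : IrreducibleCloseds Z) : Set Z) ⊆
        (l.eraseLast.last : Set Z) := fun i =>
      SetLike.coe_subset_coe.mpr ((LTSeries.strictMono l.eraseLast).monotone (Fin.le_last i))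
    let s : LTSeries (IrreducibleCloseds ↥(l.eraseLast.last : Set Z)) :=
      LTSeries.mk l.eraseLast.length
        (fun i => pre (l.eraseLast.last : Set Z) (l.eraseLast i) (hsub i))
        (fun i j hij => pre_lt _ _ _ _ _ (LTSeries.strictMono l.eraseLast hij))
    have h1 : ((l.eraseLast.length : ℕ) : WithBot ℕ∞) ≤
        topologicalKrullDim ↥(l.eraseLast.last : Set Z) :=
      Order.le_krullDim_iff.mpr ⟨s, rfl⟩
    have hlen' : l.eraseLast.length = e := by
      rw [RelSeries.eraseLast_length, hl]; rfl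
    rwa [hlen'] at h1

end Groth.Agent.Helper29.ChainPt
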