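import Mathlib
import Groth.Prelude.Def_RDer

/-!
# Lifts into complexes of injectives are unique up to homotopy (helper29)

`I` an injective resolution of `Y`, `L` any `ℕ`-indexed cochain complex with injective terms.
Two cochain maps `I.cocomplex ⟶ L` that agree after precomposition with the augmentation are
homotopic; hence induce the same map on the cohomology of `Ψ(-)` for any additive `Ψ`.
-/

set_option autoImplicit false

open CategoryTheory CategoryTheory.Limits

namespace Groth.Agent.Helper29.EdgeA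

universe v u v' u'

variable {C : Type u} [Category.{v} C] [Abelian C]

section Homotopy

variable {Y : C} (I : InjectiveResolution Y) (L : CochainComplex C ℕ) [∀ n, Injective (L.X n)]

/-- degree zero component of the null homotopy -/
noncomputable def hZero (f : I.cocomplex ⟶ L) (comm : I.ι.f 0 ≫ f.f 0 = 0) :
    I.cocomplex.X 1 ⟶ L.X 0 :=
  I.exact₀.descToInjective (f.f 0) comm

@[reassoc (attr := simp)]
lemma comp_hZero (f : I.cocomplex ⟶ L) (comm : I.ι.f 0 ≫ f.f 0 = 0) :
    I.cocomplex.d 0 1 ≫ hZero I L f comm = f.f 0 :=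
  I.exact₀.comp_descToInjective _ _

noncomputable def hOne (f : I.cocomplex ⟶ L) (comm : I.ι.f 0 ≫ f.f 0 = 0) :
    I.cocomplex.X 2 ⟶ L.X 1 :=
  (I.exact_succ 0).descToInjective (f.f 1 - hZero I L f comm ≫ L.d 0 1)
    (by rw [Preadditive.comp_sub, comp_hZero_assoc I L f comm,
          HomologicalComplex.Hom.comm, sub_self])

@[reassoc (attr := simp)]
lemma comp_hOne (f : I.cocomplex ⟶ L) (comm : I.ι.f 0 ≫ f.f 0 = 0) :
    I.cocomplex.d 1 2 ≫ hOne I L f comm = f.f 1 - hZero I L f comm ≫ L.d 0 1 :=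
  (I.exact_succ 0).comp_descToInjective _ _

noncomputable def hSucc (f : I.cocomplex ⟶ L) (n : ℕ) (g : I.cocomplex.X (n + 1) ⟶ L.X n)
    (g' : I.cocomplex.X (n + 2) ⟶ L.X (n + 1))
    (w : f.f (n + 1) = I.cocomplex.d (n + 1) (n + 2) ≫ g' + g ≫ L.d n (n + 1)) :
    I.cocomplex.X (n + 3) ⟶ L.X (n + 2) :=
  (I.exact_succ (n + 1)).descToInjective (f.f (n + 2) - g' ≫ L.d _ _) (by
      dsimp
      rw [Preadditive.comp_sub, ← HomologicalComplex.Hom.comm, w, Preadditive.add_comp,
        Category.assoc, Category.assoc, HomologicalComplex.d_comp_d, comp_zero,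
        add_zero, sub_self])

@[reassoc (attr := simp)]
lemma comp_hSucc (f : I.cocomplex ⟶ L) (n : ℕ) (g : I.cocomplex.X (n + 1) ⟶ L.X n)
    (g' : I.cocomplex.X (n + 2) ⟶ L.X (n + 1))
    (w : f.f (n + 1) = I.cocomplex.d (n + 1) (n + 2) ≫ g' + g ≫ L.d n (n + 1)) :
    I.cocomplex.d (n + 2) (n + 3) ≫ hSucc I L f n g g' w = f.f (n + 2) - g' ≫ L.d _ _ :=
  (I.exact_succ (n + 1)).comp_descToInjective _ _

/-- A cochain map from an injective resolution to a complex of injectives which kills the
augmentation is null homotopic. -/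
noncomputable def homotopyZero (f : I.cocomplex ⟶ L) (comm : I.ι.f 0 ≫ f.f 0 = 0) :
    Homotopy f 0 :=
  Homotopy.mkCoinductive _ (hZero I L f comm) (by simp)
    (hOne I L f comm) (by simp) (fun n ⟨g, g', w⟩ =>
    ⟨hSucc I L f n g g' (by simp only [w, add_comm]), by simp⟩)

/-- Two lifts of the same map are homotopic. -/
noncomputable def homotopyOfLifts (g h : I.cocomplex ⟶ L)
    (comm : I.ι.f 0 ≫ g.f 0 = I.ι.f 0 ≫ h.f 0) : Homotopy g h :=
  Homotopy.equivSubZero.invFun (homotopyZero I L (g - h) (by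
    rw [HomologicalComplex.sub_f_apply, Preadditive.comp_sub, comm, sub_self]))

end Homotopy

section Homology

variable {D : Type u'} [Category.{v'} D] [Abelian D]
  {Y : C} (I : InjectiveResolution Y) (L : CochainComplex C ℕ) [∀ n, Injective (L.X n)]

/-- Two lifts induce the same map on the cohomology of `Ψ`. -/
lemma homologyMap_eq_of_lifts (Ψ : C ⥤ D) [Ψ.Additive] (g h : I.cocomplex ⟶ L)
    (comm : I.ι.f 0 ≫ g.f 0 = I.ι.f 0 ≫ h.f 0) (q : ℕ) :
    HomologicalComplex.homologyMap ((Ψ.mapHomologicalComplex _).map g) q =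
      HomologicalComplex.homologyMap ((Ψ.mapHomologicalComplex _).map h) q :=
  (Ψ.mapHomotopy (homotopyOfLifts I L g h comm)).homologyMap_eq q

end Homology

end Groth.Agent.Helper29.EdgeA
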