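import Mathlib
import Groth.Prelude.Def_RDer
import Groth.Agent.Lib.Helper29.EdgeA

/-!
# Naturality properties of `RDer.homologyComparison`, and maps induced on right derived functors
by cochain maps between images of the chosen injective resolutions (helper29)
-/

set_option autoImplicit false

open CategoryTheory CategoryTheory.Limits HomologicalComplex RDer

namespace Groth.Agent.Helper29.EdgeB

universe v₁ v₂ v₃ v₄ u₁ u₂ u₃ u₄

section HC

variable {B : Type u₁} [Category.{v₁} B] [Abelian B] {C : Type u₂} [Category.{v₂} C] [Abelian C]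
  (Ψ : B ⥤ C) [Ψ.Additive] [PreservesFiniteLimits Ψ]
  {ι' : Type*} {c : ComplexShape ι'}

lemma cyclesMap_cyclesComparison {K K' : HomologicalComplex B c} (γ : K ⟶ K') (i : ι') :
    cyclesMap ((Ψ.mapHomologicalComplex c).map γ) i ≫ cyclesComparison Ψ K' i =
      cyclesComparison Ψ K i ≫ Ψ.map (cyclesMap γ i) := by
  rw [← cancel_mono (Ψ.map (K'.iCycles i))]
  have h1 := cyclesMap_i ((Ψ.mapHomologicalComplex c).map γ) i
  have h2 := cyclesMap_i γ i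
  rw [Category.assoc, Category.assoc, cyclesComparison_i, ← Ψ.map_comp, h2, Ψ.map_comp,
    cyclesComparison_i_assoc]
  exact h1

lemma homologyMap_homologyComparison {K K' : HomologicalComplex B c} (γ : K ⟶ K') (i : ι') :
    homologyMap ((Ψ.mapHomologicalComplex c).map γ) i ≫ homologyComparison Ψ K' i =
      homologyComparison Ψ K i ≫ Ψ.map (homologyMap γ i) := by
  rw [← cancel_epi (((Ψ.mapHomologicalComplex c).obj K).homologyπ i)]
  rw [homologyπ_naturality_assoc, homologyπ_homologyComparison, homologyπ_homologyComparison_assoc,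
    ← Category.assoc, cyclesMap_cyclesComparison, Category.assoc, ← Ψ.map_comp, ← Ψ.map_comp,
    homologyπ_naturality]

variable {Ψ} {Ψ' : B ⥤ C} [Ψ'.Additive] [PreservesFiniteLimits Ψ']

lemma cyclesComparison_natTrans (α : Ψ ⟶ Ψ') (K : HomologicalComplex B c) (i : ι') :
    cyclesMap ((NatTrans.mapHomologicalComplex α c).app K) i ≫ cyclesComparison Ψ' K i =
      cyclesComparison Ψ K i ≫ α.app (K.cycles i) := by
  rw [← cancel_mono (Ψ'.map (K.iCycles i))]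
  have h1 := cyclesMap_i ((NatTrans.mapHomologicalComplex α c).app K) i
  rw [Category.assoc, Category.assoc, cyclesComparison_i, ← α.naturality,
    cyclesComparison_i_assoc]
  exact h1

lemma homologyComparison_natTrans (α : Ψ ⟶ Ψ') (K : HomologicalComplex B c) (i : ι') :
    homologyMap ((NatTrans.mapHomologicalComplex α c).app K) i ≫ homologyComparison Ψ' K i =
      homologyComparison Ψ K i ≫ α.app (K.homology i) := by
  rw [← cancel_epi (((Ψ.mapHomologicalComplex c).obj K).homologyπ i)]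
  rw [homologyπ_naturality_assoc, homologyπ_homologyComparison, homologyπ_homologyComparison_assoc,
    ← Category.assoc, cyclesComparison_natTrans, Category.assoc, α.naturality]

end HC

section HCComp

variable {B : Type u₁} [Category.{v₁} B] [Abelian B] {B' : Type u₂} [Category.{v₂} B'] [Abelian B']
  {C : Type u₃} [Category.{v₃} C] [Abelian C]
  (Ψ₁ : B ⥤ B') [Ψ₁.Additive] [PreservesFiniteLimits Ψ₁]
  (Ψ₂ : B' ⥤ C) [Ψ₂.Additive] [PreservesFiniteLimits Ψ₂]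
  {ι' : Type*} {c : ComplexShape ι'} (K : HomologicalComplex B c) (i : ι')

lemma cyclesComparison_comp :
    cyclesComparison (Ψ₁ ⋙ Ψ₂) K i =
      cyclesComparison Ψ₂ ((Ψ₁.mapHomologicalComplex c).obj K) i ≫
        Ψ₂.map (cyclesComparison Ψ₁ K i) := by
  rw [← cancel_mono ((Ψ₁ ⋙ Ψ₂).map (K.iCycles i))]
  have h1 := cyclesComparison_i (Ψ₁ ⋙ Ψ₂) K i
  have h2 := cyclesComparison_i Ψ₂ ((Ψ₁.mapHomologicalComplex c).obj K) i
  have h3 := cyclesComparison_i Ψ₁ K i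
  refine h1.trans ?_
  have h4 : (cyclesComparison Ψ₂ ((Ψ₁.mapHomologicalComplex c).obj K) i ≫
      Ψ₂.map (cyclesComparison Ψ₁ K i)) ≫ Ψ₂.map (Ψ₁.map (K.iCycles i)) =
      ((Ψ₂.mapHomologicalComplex c).obj ((Ψ₁.mapHomologicalComplex c).obj K)).iCycles i := by
    rw [Category.assoc, ← Ψ₂.map_comp, h3]
    exact h2
  exact h4.symm

lemma homologyComparison_comp :
    homologyComparison (Ψ₁ ⋙ Ψ₂) K i =
      homologyComparison Ψ₂ ((Ψ₁.mapHomologicalComplex c).obj K) i ≫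
        Ψ₂.map (homologyComparison Ψ₁ K i) := by
  have e1 := homologyπ_homologyComparison (Ψ₁ ⋙ Ψ₂) K i
  have e2 := homologyπ_homologyComparison Ψ₂ ((Ψ₁.mapHomologicalComplex c).obj K) i
  have e3 := homologyπ_homologyComparison Ψ₁ K i
  have e4 : ((Ψ₂.mapHomologicalComplex c).obj ((Ψ₁.mapHomologicalComplex c).obj K)).homologyπ i ≫
      (homologyComparison Ψ₂ ((Ψ₁.mapHomologicalComplex c).obj K) i ≫
        Ψ₂.map (homologyComparison Ψ₁ K i)) =
      (cyclesComparison Ψ₂ ((Ψ₁.mapHomologicalComplex c).obj K) i ≫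
        Ψ₂.map (cyclesComparison Ψ₁ K i)) ≫ Ψ₂.map (Ψ₁.map (K.homologyπ i)) := by
    rw [reassoc_of% e2, ← Ψ₂.map_comp, e3, Ψ₂.map_comp, Category.assoc]
  rw [← cancel_epi ((((Ψ₁ ⋙ Ψ₂).mapHomologicalComplex c).obj K).homologyπ i)]
  refine e1.trans ?_
  refine (congrArg (· ≫ (Ψ₁ ⋙ Ψ₂).map (K.homologyπ i)) (cyclesComparison_comp Ψ₁ Ψ₂ K i)).trans ?_
  exact e4.symm

end HCComp

section Ind

variable {𝒯 : Type u₁} [Category.{v₁} 𝒯] [Abelian 𝒯] [HasInjectiveResolutions 𝒯]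
  {𝒴 : Type u₂} [Category.{v₂} 𝒴] [Abelian 𝒴] [HasInjectiveResolutions 𝒴]
  {𝒳 : Type u₃} [Category.{v₃} 𝒳] [Abelian 𝒳]
  {𝒮 : Type u₄} [Category.{v₄} 𝒮] [Abelian 𝒮]

/-- the chosen injective resolution, as a complex -/
noncomputable abbrev IR (X : 𝒯) : CochainComplex 𝒯 ℕ := (injectiveResolution X).cocomplex

/-- The map `R^qΨ X ⟶ Ψ'(R^qΦ' Z)` induced by a cochain map `Ψ(I_X) ⟶ Ψ'Φ'(I_Z)`. -/
noncomputable def ind (Ψ : 𝒯 ⥤ 𝒮) [Ψ.Additive] (Φ' : 𝒴 ⥤ 𝒳) [Φ'.Additive] (Ψ' : 𝒳 ⥤ 𝒮)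
    [Ψ'.Additive] [PreservesFiniteLimits Ψ'] (q : ℕ) {X : 𝒯} {Z : 𝒴}
    (τ : (Ψ.mapHomologicalComplex _).obj (IR X) ⟶
      (Ψ'.mapHomologicalComplex _).obj ((Φ'.mapHomologicalComplex _).obj (IR Z))) :
    (Ψ.rightDerived q).obj X ⟶ Ψ'.obj ((Φ'.rightDerived q).obj Z) :=
  ((injectiveResolution X).isoRightDerivedObj Ψ q).hom ≫ homologyMap τ q ≫
    homologyComparison Ψ' ((Φ'.mapHomologicalComplex _).obj (IR Z)) q ≫
    Ψ'.map ((injectiveResolution Z).isoRightDerivedObj Φ' q).inv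

/-- `θ` lifts `φ : X ⟶ Φ Z` to the chosen resolutions. -/
def IsLift (Φ : 𝒴 ⥤ 𝒯) [Φ.Additive] {X : 𝒯} {Z : 𝒴} (φ : X ⟶ Φ.obj Z)
    (θ : IR X ⟶ (Φ.mapHomologicalComplex _).obj (IR Z)) : Prop :=
  (injectiveResolution X).ι.f 0 ≫ θ.f 0 = φ ≫ Φ.map ((injectiveResolution Z).ι.f 0)

end Ind

section EdgeIn

variable {𝒯 : Type u₁} [Category.{v₁} 𝒯] [Abelian 𝒯] [HasInjectiveResolutions 𝒯]
  {𝒴 : Type u₂} [Category.{v₂} 𝒴] [Abelian 𝒴] [HasInjectiveResolutions 𝒴]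
  {𝒮 : Type u₄} [Category.{v₄} 𝒮] [Abelian 𝒮]
  (Φ : 𝒴 ⥤ 𝒯) [Φ.Additive] [Φ.PreservesInjectiveObjects] (Ψ : 𝒯 ⥤ 𝒮) [Ψ.Additive]

omit [HasInjectiveResolutions 𝒯] [Φ.PreservesInjectiveObjects] in
lemma mapAug_f_zero (Z : 𝒴) :
    (mapAug Φ (injectiveResolution Z).ι).f 0 = Φ.map ((injectiveResolution Z).ι.f 0) := by
  simp [mapAug, HomologicalComplex.singleMapHomologicalComplex_inv_app_self]
  exact Category.id_comp _

/-- the canonical lift -/
noncomputable def canLift {X : 𝒯} {Z : 𝒴} (φ : X ⟶ Φ.obj Z) :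
    IR X ⟶ (Φ.mapHomologicalComplex _).obj (IR Z) :=
  InjectiveResolution.desc φ (injectiveResolution (Φ.obj Z)) (injectiveResolution X) ≫
    descToInjectives (𝟙 (Φ.obj Z)) (IR (Φ.obj Z)) (injectiveResolution (Φ.obj Z)).ι
      ((Φ.mapHomologicalComplex _).obj (IR Z)) (mapAug Φ (injectiveResolution Z).ι)

set_option backward.isDefEq.respectTransparency false in
lemma isLift_canLift {X : 𝒯} {Z : 𝒴} (φ : X ⟶ Φ.obj Z) : IsLift Φ φ (canLift Φ φ) := by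
  unfold IsLift canLift
  rw [HomologicalComplex.comp_f, ← Category.assoc, InjectiveResolution.desc_commutes_zero,
    Category.assoc, ι_descToInjectives_f_zero, Category.id_comp, mapAug_f_zero]

set_option backward.isDefEq.respectTransparency false in
lemma rightDerived_map_edgeIn (q : ℕ) {X : 𝒯} {Z : 𝒴} (φ : X ⟶ Φ.obj Z)
    (θ : IR X ⟶ (Φ.mapHomologicalComplex _).obj (IR Z)) (hθ : IsLift Φ φ θ) :
    (Ψ.rightDerived q).map φ ≫ edgeIn Φ Ψ q Z =
      ((injectiveResolution X).isoRightDerivedObj Ψ q).hom ≫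
        homologyMap ((Ψ.mapHomologicalComplex _).map θ) q ≫
        ((injectiveResolution Z).isoRightDerivedObj (Φ ⋙ Ψ) q).inv := by
  have h1 := InjectiveResolution.isoRightDerivedObj_hom_naturality φ (injectiveResolution X)
    (injectiveResolution (Φ.obj Z)) (InjectiveResolution.desc φ _ _)
    (InjectiveResolution.desc_commutes_zero _ _ _) Ψ q
  have key : homologyMap ((Ψ.mapHomologicalComplex _).map (canLift Φ φ)) q =
      homologyMap ((Ψ.mapHomologicalComplex _).map θ) q :=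
    EdgeA.homologyMap_eq_of_lifts (injectiveResolution X) _ Ψ _ _
      ((isLift_canLift Φ φ).trans hθ.symm) q
  dsimp only [edgeIn]
  rw [reassoc_of% h1]
  simp only [Functor.comp_map, homologyFunctor_map]
  rw [← key]
  unfold canLift
  rw [Functor.map_comp, homologyMap_comp, Category.assoc]

end EdgeIn

section BcA

variable {𝒯 : Type u₁} [Category.{v₁} 𝒯] [Abelian 𝒯] [HasInjectiveResolutions 𝒯]
  {𝒴 : Type u₂} [Category.{v₂} 𝒴] [Abelian 𝒴] [HasInjectiveResolutions 𝒴]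
  {𝒳 : Type u₃} [Category.{v₃} 𝒳] [Abelian 𝒳]
  {𝒮 : Type u₄} [Category.{v₄} 𝒮] [Abelian 𝒮]
  (Φ : 𝒴 ⥤ 𝒯) [Φ.Additive] [Φ.PreservesInjectiveObjects] (Ψ : 𝒯 ⥤ 𝒮) [Ψ.Additive]
  (Φ' : 𝒴 ⥤ 𝒳) [Φ'.Additive] (Ψ' : 𝒳 ⥤ 𝒮) [Ψ'.Additive] [PreservesFiniteLimits Ψ']
  (σ : Φ ⋙ Ψ ≅ Φ' ⋙ Ψ') {Λ : 𝒯 ⥤ 𝒴} (adj : Λ ⊣ Φ)

/-- the abstract form of `EtBC.bcQAdj` -/
noncomputable def bcA (q : ℕ) (F : 𝒯) :
    (Ψ.rightDerived q).obj F ⟶ Ψ'.obj ((Φ'.rightDerived q).obj (Λ.obj F)) :=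
  (Ψ.rightDerived q).map (adj.unit.app F) ≫ edgeIn Φ Ψ q (Λ.obj F) ≫
    (rightDerivedIso σ q).hom.app (Λ.obj F) ≫ edgeOut Φ' Ψ' q (Λ.obj F)

set_option backward.isDefEq.respectTransparency false in
lemma bcA_eq (q : ℕ) (F : 𝒯) (θ : IR F ⟶ (Φ.mapHomologicalComplex _).obj (IR (Λ.obj F)))
    (hθ : IsLift Φ (adj.unit.app F) θ) :
    bcA Φ Ψ Φ' Ψ' σ adj q F =
      ind Ψ Φ' Ψ' q ((Ψ.mapHomologicalComplex _).map θ ≫
        (NatTrans.mapHomologicalComplex σ.hom _).app (IR (Λ.obj F))) := by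
  have h2 : (rightDerivedIso σ q).hom.app (Λ.obj F) = _ :=
    InjectiveResolution.rightDerived_app_eq σ.hom (injectiveResolution (Λ.obj F)) q
  unfold bcA ind
  rw [← Category.assoc, rightDerived_map_edgeIn Φ Ψ q _ θ hθ, h2]
  dsimp only [edgeOut]
  simp only [Category.assoc, Iso.inv_hom_id_assoc, homologyFunctor_map]
  rw [homologyMap_comp]
  simp only [Category.assoc]

end BcA

section Paste

variable {𝒯 : Type u₁} [Category.{v₁} 𝒯] [Abelian 𝒯] [HasInjectiveResolutions 𝒯]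
  {𝒴 : Type u₂} [Category.{v₂} 𝒴] [Abelian 𝒴] [HasInjectiveResolutions 𝒴]
  {𝒵 : Type u₃} [Category.{v₃} 𝒵] [Abelian 𝒵] [HasInjectiveResolutions 𝒵]
  {𝒳 : Type u₄} [Category.{v₄} 𝒳] [Abelian 𝒳]
  {𝒲 : Type u₁} [Category.{v₁} 𝒲] [Abelian 𝒲]
  {𝒮 : Type u₂} [Category.{v₂} 𝒮] [Abelian 𝒮]
  (G : 𝒯 ⥤ 𝒮) [G.Additive] (H : 𝒴 ⥤ 𝒳) [H.Additive]
  (Fx : 𝒳 ⥤ 𝒮) [Fx.Additive] [PreservesFiniteLimits Fx]
  (Jz : 𝒵 ⥤ 𝒲) [Jz.Additive] (Iw : 𝒲 ⥤ 𝒳) [Iw.Additive] [PreservesFiniteLimits Iw]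
  (IF : 𝒲 ⥤ 𝒮) [IF.Additive] [PreservesFiniteLimits IF] (cI : Iw ⋙ Fx ≅ IF)

set_option backward.isDefEq.respectTransparency false in
theorem ind_pasting (q : ℕ) {X : 𝒯} {Z₁ : 𝒴} {Z₂ Z₃ : 𝒵} (z : Z₂ ⟶ Z₃)
    (τ₁ : (G.mapHomologicalComplex _).obj (IR X) ⟶
      (Fx.mapHomologicalComplex _).obj ((H.mapHomologicalComplex _).obj (IR Z₁)))
    (τ₂ : (H.mapHomologicalComplex _).obj (IR Z₁) ⟶
      (Iw.mapHomologicalComplex _).obj ((Jz.mapHomologicalComplex _).obj (IR Z₂)))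
    (ξ : IR Z₂ ⟶ IR Z₃)
    (hξ : (injectiveResolution Z₂).ι.f 0 ≫ ξ.f 0 = z ≫ (injectiveResolution Z₃).ι.f 0) :
    ind G H Fx q τ₁ ≫ Fx.map (ind H Jz Iw q τ₂) ≫
        cI.hom.app ((Jz.rightDerived q).obj Z₂) ≫ IF.map ((Jz.rightDerived q).map z) =
      ind G Jz IF q (τ₁ ≫ (Fx.mapHomologicalComplex _).map τ₂ ≫
        (NatTrans.mapHomologicalComplex cI.hom _).app ((Jz.mapHomologicalComplex _).obj (IR Z₂)) ≫
        (IF.mapHomologicalComplex _).map ((Jz.mapHomologicalComplex _).map ξ)) := by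
  have hD1a := homologyMap_homologyComparison Fx τ₂ q
  have hD2 := homologyComparison_comp Iw Fx ((Jz.mapHomologicalComplex _).obj (IR Z₂)) q
  have hD3 := homologyComparison_natTrans cI.hom ((Jz.mapHomologicalComplex _).obj (IR Z₂)) q
  have hD1b := homologyMap_homologyComparison IF ((Jz.mapHomologicalComplex _).map ξ) q
  have hf := InjectiveResolution.isoRightDerivedObj_inv_naturality z (injectiveResolution Z₂)
    (injectiveResolution Z₃) ξ hξ Jz q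
  have hn := cI.hom.naturality ((injectiveResolution Z₂).isoRightDerivedObj Jz q).inv
  unfold ind
  simp only [Functor.map_comp, Category.assoc, homologyMap_comp]
  rw [reassoc_of% hD1b, reassoc_of% hD3, hD2]
  simp only [Category.assoc]
  rw [reassoc_of% hD1a]
  simp only [Functor.comp_map] at hn hf
  rw [← Fx.map_comp_assoc, Iso.inv_hom_id, Fx.map_id, Category.id_comp, reassoc_of% hn,
    ← IF.map_comp, hf, IF.map_comp]
  rfl

end Paste

end Groth.Agent.Helper29.EdgeB
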