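import Mathlib
import Groth.Prelude.Def_RDer
import Groth.Agent.Lib.Helper29.EdgeB

/-!
# Pasting of the abstract degree-`q` base change maps `bcA` (helper29)
-/

set_option autoImplicit false

open CategoryTheory CategoryTheory.Limits HomologicalComplex RDer

namespace Groth.Agent.Helper29.EdgeC

open Groth.Agent.Helper29.EdgeB

universe v₁ v₂ v₃ v₄ u₁ u₂ u₃ u₄

variable {𝒯 : Type u₁} [Category.{v₁} 𝒯] [Abelian 𝒯] [HasInjectiveResolutions 𝒯]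
  {𝒴 : Type u₂} [Category.{v₂} 𝒴] [Abelian 𝒴] [HasInjectiveResolutions 𝒴]
  {𝒵 : Type u₃} [Category.{v₃} 𝒵] [Abelian 𝒵] [HasInjectiveResolutions 𝒵]
  {𝒳 : Type u₄} [Category.{v₄} 𝒳] [Abelian 𝒳]
  {𝒲 : Type u₁} [Category.{v₁} 𝒲] [Abelian 𝒲]
  {𝒮 : Type u₂} [Category.{v₂} 𝒮] [Abelian 𝒮]
  (G : 𝒯 ⥤ 𝒮) [G.Additive]
  (E : 𝒴 ⥤ 𝒯) [E.Additive] [E.PreservesInjectiveObjects]
  (H : 𝒴 ⥤ 𝒳) [H.Additive]
  (Fx : 𝒳 ⥤ 𝒮) [Fx.Additive] [PreservesFiniteLimits Fx]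
  (Kz : 𝒵 ⥤ 𝒴) [Kz.Additive] [Kz.PreservesInjectiveObjects]
  (Jz : 𝒵 ⥤ 𝒲) [Jz.Additive]
  (Iw : 𝒲 ⥤ 𝒳) [Iw.Additive] [PreservesFiniteLimits Iw]
  (KE : 𝒵 ⥤ 𝒯) [KE.Additive] [KE.PreservesInjectiveObjects]
  (IF : 𝒲 ⥤ 𝒮) [IF.Additive] [PreservesFiniteLimits IF]
  (σ₁ : E ⋙ G ≅ H ⋙ Fx) (σ₂ : Kz ⋙ H ≅ Jz ⋙ Iw) (σ₃ : KE ⋙ G ≅ Jz ⋙ IF)
  (cK : Kz ⋙ E ≅ KE) (cI : Iw ⋙ Fx ≅ IF)
  {E' : 𝒯 ⥤ 𝒴} (adj₁ : E' ⊣ E) {K' : 𝒴 ⥤ 𝒵} (adj₂ : K' ⊣ Kz) {KE' : 𝒯 ⥤ 𝒵} (adj₃ : KE' ⊣ KE)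
  (ζ : E' ⋙ K' ≅ KE')

omit [Abelian 𝒯] [HasInjectiveResolutions 𝒯] [Abelian 𝒴] [HasInjectiveResolutions 𝒴] [Abelian 𝒵]
  [HasInjectiveResolutions 𝒵] [Abelian 𝒳] [Abelian 𝒲] [Abelian 𝒮] [G.Additive] [E.Additive]
  [E.PreservesInjectiveObjects] [H.Additive] [Fx.Additive] [PreservesFiniteLimits Fx] [Kz.Additive]
  [Kz.PreservesInjectiveObjects] [Jz.Additive] [Iw.Additive] [PreservesFiniteLimits Iw]
  [KE.Additive] [KE.PreservesInjectiveObjects] [IF.Additive] [PreservesFiniteLimits IF] in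
lemma degreewise
    (hσ : ∀ M : 𝒵, σ₃.hom.app M = G.map (cK.inv.app M) ≫ σ₁.hom.app (Kz.obj M) ≫
      Fx.map (σ₂.hom.app M) ≫ cI.hom.app (Jz.obj M))
    {A0 : 𝒯} {A1 : 𝒴} {A2 A3 : 𝒵} (t1 : A0 ⟶ E.obj A1) (t2 : A1 ⟶ Kz.obj A2) (x : A2 ⟶ A3) :
    G.map (t1 ≫ E.map t2 ≫ cK.hom.app A2 ≫ KE.map x) ≫ σ₃.hom.app A3 =
      (G.map t1 ≫ σ₁.hom.app A1) ≫ Fx.map (H.map t2 ≫ σ₂.hom.app A2) ≫
        cI.hom.app (Jz.obj A2) ≫ IF.map (Jz.map x) := by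
  have n3 := σ₃.hom.naturality x
  have n1 := σ₁.hom.naturality t2
  simp only [Functor.comp_map, Functor.comp_obj] at n3 n1
  simp only [Functor.map_comp, Category.assoc]
  rw [n3, hσ A2]
  simp only [Category.assoc]
  rw [← G.map_comp_assoc (cK.hom.app A2), Iso.hom_inv_id_app]
  simp only [Functor.comp_obj, G.map_id, Category.id_comp]
  rw [reassoc_of% n1]

set_option backward.isDefEq.respectTransparency false in
omit [HasInjectiveResolutions 𝒯] [E.PreservesInjectiveObjects] [Kz.PreservesInjectiveObjects]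
  [KE.PreservesInjectiveObjects] in
lemma isLift_comp
    (hζ : ∀ F : 𝒯, adj₃.unit.app F = adj₁.unit.app F ≫ E.map (adj₂.unit.app (E'.obj F)) ≫
      cK.hom.app (K'.obj (E'.obj F)) ≫ KE.map (ζ.hom.app F))
    [HasInjectiveResolutions 𝒯] (F : 𝒯)
    (θ₁ : IR F ⟶ (E.mapHomologicalComplex _).obj (IR (E'.obj F)))
    (hθ₁ : IsLift E (adj₁.unit.app F) θ₁)
    (θ₂ : IR (E'.obj F) ⟶ (Kz.mapHomologicalComplex _).obj (IR (K'.obj (E'.obj F))))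
    (hθ₂ : IsLift Kz (adj₂.unit.app (E'.obj F)) θ₂)
    (ξ : IR (K'.obj (E'.obj F)) ⟶ IR (KE'.obj F))
    (hξ : (injectiveResolution (K'.obj (E'.obj F))).ι.f 0 ≫ ξ.f 0 =
      ζ.hom.app F ≫ (injectiveResolution (KE'.obj F)).ι.f 0) :
    IsLift KE (adj₃.unit.app F)
      (θ₁ ≫ (E.mapHomologicalComplex _).map θ₂ ≫
        (NatTrans.mapHomologicalComplex cK.hom _).app (IR (K'.obj (E'.obj F))) ≫
        (KE.mapHomologicalComplex _).map ξ) := by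
  unfold IsLift at hθ₁ hθ₂ ⊢
  have nK := cK.hom.naturality ((injectiveResolution (K'.obj (E'.obj F))).ι.f 0)
  simp only [Functor.comp_map] at nK
  simp only [HomologicalComplex.comp_f, Functor.mapHomologicalComplex_map_f,
    NatTrans.mapHomologicalComplex_app_f]
  rw [reassoc_of% hθ₁, ← E.map_comp_assoc, hθ₂, E.map_comp_assoc, reassoc_of% nK,
    ← KE.map_comp, hξ, KE.map_comp, hζ F]
  simp only [Category.assoc]
  rfl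

set_option backward.isDefEq.respectTransparency false in
/-- **Pasting of the abstract degree-`q` base change maps.** -/
theorem bcA_pasting
    (hσ : ∀ M : 𝒵, σ₃.hom.app M = G.map (cK.inv.app M) ≫ σ₁.hom.app (Kz.obj M) ≫
      Fx.map (σ₂.hom.app M) ≫ cI.hom.app (Jz.obj M))
    (hζ : ∀ F : 𝒯, adj₃.unit.app F = adj₁.unit.app F ≫ E.map (adj₂.unit.app (E'.obj F)) ≫
      cK.hom.app (K'.obj (E'.obj F)) ≫ KE.map (ζ.hom.app F))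
    (q : ℕ) (F : 𝒯) :
    bcA KE G Jz IF σ₃ adj₃ q F =
      bcA E G H Fx σ₁ adj₁ q F ≫ Fx.map (bcA Kz H Jz Iw σ₂ adj₂ q (E'.obj F)) ≫
        cI.hom.app ((Jz.rightDerived q).obj (K'.obj (E'.obj F))) ≫
        IF.map ((Jz.rightDerived q).map (ζ.hom.app F)) := by
  let θ₁ := canLift E (adj₁.unit.app F)
  have hθ₁ : IsLift E (adj₁.unit.app F) θ₁ := isLift_canLift E _
  let θ₂ := canLift Kz (adj₂.unit.app (E'.obj F))
  have hθ₂ : IsLift Kz (adj₂.unit.app (E'.obj F)) θ₂ := isLift_canLift Kz _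
  let ξ := InjectiveResolution.desc (ζ.hom.app F) (injectiveResolution (KE'.obj F))
    (injectiveResolution (K'.obj (E'.obj F)))
  have hξ : (injectiveResolution (K'.obj (E'.obj F))).ι.f 0 ≫ ξ.f 0 =
      ζ.hom.app F ≫ (injectiveResolution (KE'.obj F)).ι.f 0 :=
    InjectiveResolution.desc_commutes_zero _ _ _
  have hθ₃ := isLift_comp E Kz KE cK adj₁ adj₂ adj₃ ζ hζ F θ₁ hθ₁ θ₂ hθ₂ ξ hξ
  rw [bcA_eq KE G Jz IF σ₃ adj₃ q F _ hθ₃, bcA_eq E G H Fx σ₁ adj₁ q F θ₁ hθ₁,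
    bcA_eq Kz H Jz Iw σ₂ adj₂ q (E'.obj F) θ₂ hθ₂]
  refine Eq.trans ?_ (ind_pasting G H Fx Jz Iw IF cI q (Z₂ := K'.obj (E'.obj F))
    (ζ.hom.app F) _ _ ξ hξ).symm
  congr 1
  ext n
  simp only [HomologicalComplex.comp_f, Functor.mapHomologicalComplex_map_f,
    NatTrans.mapHomologicalComplex_app_f, Category.assoc]
  have := degreewise G E H Fx Kz Jz Iw KE IF σ₁ σ₂ σ₃ cK cI hσ (θ₁.f n) (θ₂.f n) (ξ.f n)
  simp only [Functor.map_comp, Category.assoc] at this ⊢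
  exact this

end Groth.Agent.Helper29.EdgeC
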