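import Mathlib
import Groth.Prelude.Def_EtBC2
import Groth.Agent.Lib.Helper10.BCShPaste
import Groth.Agent.Lib.Helper29.EdgeC

/-!
# Pasting of the degree-`q` base change maps `EtBC.bcQ` for a tower of squares (helper29)
-/

set_option autoImplicit false

open CategoryTheory CategoryTheory.Limits AlgebraicGeometry Opposite

namespace Groth.Agent.Helper29.EdgeD

open Groth.Agent.Helper10.BCSh Groth.Agent.Helper10.MatePaste Groth.Agent.Helper29.EdgeB
  Groth.Agent.Helper29.EdgeC

universe u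

section Basic

variable {X S X' S' : Scheme.{u}}

/-- the comparison of iterated pushforwards attached to a commutative square -/
noncomputable def σAb (f : X ⟶ S) (g : S' ⟶ S) (f' : X' ⟶ S') (g' : X' ⟶ X)
    (w : g' ≫ f = f' ≫ g) :
    EtCoh.push g' ⋙ EtCoh.push f ≅ EtCoh.push f' ⋙ EtCoh.push g :=
  EtCoh.pushComp f g' ≪≫ EtCoh.pushCongr w ≪≫ (EtCoh.pushComp g f').symm

/-- the underlying presheaf, with source category written as `Et X` -/
def pshAb (A : EtCoh.Ab X) : (Et X)ᵒᵖ ⥤ AddCommGrpCat.{u + 1} := A.obj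

lemma σAb_hom_app_hom_app (f : X ⟶ S) (g : S' ⟶ S) (f' : X' ⟶ S') (g' : X' ⟶ X)
    (w : g' ≫ f = f' ≫ g) (A : EtCoh.Ab X') (V : Et S) :
    ((σAb f g f' g' w).hom.app A).hom.app (op V) = (pshAb A).map (ι f g f' g' w V).op := by
  have : ((σAb f g f' g' w).hom.app A).hom.app (op V) =
      (pshAb A).map ((MorphismProperty.Over.pullbackComp (P := EtCoh.etaleMP) (Q := ⊤) g' f).hom.app V).op ≫
      (pshAb A).map ((MorphismProperty.Over.pullbackCongr (P := EtCoh.etaleMP) (Q := ⊤) w).inv.app V).op ≫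
      (pshAb A).map ((MorphismProperty.Over.pullbackComp (P := EtCoh.etaleMP) (Q := ⊤) f' g).inv.app V).op := rfl
  refine this.trans ?_
  unfold ι
  rw [op_comp, op_comp, Functor.map_comp, Functor.map_comp, Category.assoc]

end Basic

section Paste

variable {S T X Y W Z : Scheme.{u}} (g : T ⟶ S) (f : X ⟶ S) (h : Y ⟶ X) (e : Y ⟶ T)
  (w : e ≫ g = h ≫ f) (i : W ⟶ X) (j : Z ⟶ W) (k : Z ⟶ Y) (w' : k ≫ h = j ≫ i)
  (w'' : (k ≫ e) ≫ g = j ≫ (i ≫ f))

lemma σAb_coherence (A' : EtCoh.Ab Z) :
    (EtCoh.push g).map ((EtCoh.pushComp e k).hom.app A') ≫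
        (σAb g (i ≫ f) j (k ≫ e) w'').hom.app A' =
      (σAb g f h e w).hom.app ((EtCoh.push k).obj A') ≫
        (EtCoh.push f).map ((σAb h i j k w').hom.app A') ≫
        (EtCoh.pushComp f i).hom.app ((EtCoh.push j).obj A') := by
  apply Sheaf.hom_ext
  apply NatTrans.ext
  funext V'
  obtain ⟨V'⟩ := V'
  let V : Et S := V'
  have hL : ((EtCoh.push g).map ((EtCoh.pushComp e k).hom.app A') ≫
        (σAb g (i ≫ f) j (k ≫ e) w'').hom.app A').hom.app (op V') =
      (pshAb A').map ((MorphismProperty.Over.pullbackComp (P := EtCoh.etaleMP) (Q := ⊤) k e).hom.app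
          ((pb g).obj V)).op ≫ (pshAb A').map (ι g (i ≫ f) j (k ≫ e) w'' V).op := by
    have := σAb_hom_app_hom_app g (i ≫ f) j (k ≫ e) w'' A' V
    exact congrArg (fun t => (pshAb A').map ((MorphismProperty.Over.pullbackComp
      (P := EtCoh.etaleMP) (Q := ⊤) k e).hom.app ((pb g).obj V)).op ≫ t) this
  have hR : ((σAb g f h e w).hom.app ((EtCoh.push k).obj A') ≫
        (EtCoh.push f).map ((σAb h i j k w').hom.app A') ≫
        (EtCoh.pushComp f i).hom.app ((EtCoh.push j).obj A')).hom.app (op V') =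
      (pshAb A').map ((pb k).map (ι g f h e w V)).op ≫
        (pshAb A').map (ι h i j k w' ((pb f).obj V)).op ≫
        (pshAb A').map ((pb j).map ((MorphismProperty.Over.pullbackComp (P := EtCoh.etaleMP)
          (Q := ⊤) i f).hom.app V)).op := by
    have h1 := σAb_hom_app_hom_app g f h e w ((EtCoh.push k).obj A') V
    have h2 := σAb_hom_app_hom_app h i j k w' A' ((pb f).obj V)
    have e1 : ((σAb g f h e w).hom.app ((EtCoh.push k).obj A') ≫
        (EtCoh.push f).map ((σAb h i j k w').hom.app A') ≫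
        (EtCoh.pushComp f i).hom.app ((EtCoh.push j).obj A')).hom.app (op V') =
        ((σAb g f h e w).hom.app ((EtCoh.push k).obj A')).hom.app (op V) ≫
        ((σAb h i j k w').hom.app A').hom.app (op ((pb f).obj V)) ≫
        ((EtCoh.pushComp f i).hom.app ((EtCoh.push j).obj A')).hom.app (op V) := rfl
    rw [e1, h1, h2]
    rfl
  rw [hL, hR, ← Functor.map_comp, ← Functor.map_comp, ← Functor.map_comp, ← op_comp, ← op_comp,
    ← op_comp, Category.assoc]
  exact congrArg (fun t => (pshAb A').map t.op) (ι_paste g f h e w i j k w' w'' V)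

lemma hσ (M : EtCoh.Ab Z) :
    (σAb g (i ≫ f) j (k ≫ e) w'').hom.app M =
      (EtCoh.push g).map ((EtCoh.pushComp e k).inv.app M) ≫
        (σAb g f h e w).hom.app ((EtCoh.push k).obj M) ≫
        (EtCoh.push f).map ((σAb h i j k w').hom.app M) ≫
        (EtCoh.pushComp f i).hom.app ((EtCoh.push j).obj M) := by
  rw [← σAb_coherence g f h e w i j k w' w'' M, ← Functor.map_comp_assoc, Iso.inv_hom_id_app,
    CategoryTheory.Functor.map_id, Category.id_comp]

end Paste

end Groth.Agent.Helper29.EdgeD
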