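import Mathlib
import Groth.Prelude.Def_EtBC2
import Groth.Agent.Lib.Helper10.MatePaste
import Groth.Agent.Lib.Helper29.EdgeD

/-!
# Pasting of `EtBC.bcQ` for a tower of commutative squares (helper29)
-/

set_option autoImplicit false

open CategoryTheory CategoryTheory.Limits AlgebraicGeometry

namespace Groth.Agent.Helper29.EdgeE

open Groth.Agent.Helper10.MatePaste Groth.Agent.Helper29.EdgeB Groth.Agent.Helper29.EdgeC
  Groth.Agent.Helper29.EdgeD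

universe u

section Adj

variable {Y T Z : Scheme.{u}} (e : Y ⟶ T) (k : Z ⟶ Y)

/-- the composite adjunction `e⁻¹ k⁻¹ ⊣ (k ≫ e)_*` -/
noncomputable def adjKE : EtCoh.pull e ⋙ EtCoh.pull k ⊣ EtCoh.push (k ≫ e) :=
  ((EtCoh.pullPushAdj e).comp (EtCoh.pullPushAdj k)).ofNatIsoRight (EtCoh.pushComp e k)

/-- `k⁻¹ e⁻¹ ≅ (k ≫ e)⁻¹` -/
noncomputable def ζ : EtCoh.pull e ⋙ EtCoh.pull k ≅ EtCoh.pull (k ≫ e) :=
  Adjunction.leftAdjointUniq (adjKE e k) (EtCoh.pullPushAdj (k ≫ e))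

lemma hζ (F : EtCoh.Ab T) : (EtCoh.pullPushAdj (k ≫ e)).unit.app F =
    (EtCoh.pullPushAdj e).unit.app F ≫
      (EtCoh.push e).map ((EtCoh.pullPushAdj k).unit.app ((EtCoh.pull e).obj F)) ≫
      (EtCoh.pushComp e k).hom.app ((EtCoh.pull k).obj ((EtCoh.pull e).obj F)) ≫
      (EtCoh.push (k ≫ e)).map ((ζ e k).hom.app F) := by
  have := Adjunction.unit_leftAdjointUniq_hom_app (adjKE e k) (EtCoh.pullPushAdj (k ≫ e)) F
  rw [← this]
  simp [adjKE, ζ]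

lemma adjKE_homEquiv_symm {A : EtCoh.Ab T} {B : EtCoh.Ab Z}
    (ψ : A ⟶ (EtCoh.push e).obj ((EtCoh.push k).obj B)) :
    ((adjKE e k).homEquiv A B).symm (ψ ≫ (EtCoh.pushComp e k).hom.app B) =
      ((EtCoh.pullPushAdj k).homEquiv _ _).symm (((EtCoh.pullPushAdj e).homEquiv _ _).symm ψ) := by
  unfold adjKE
  rw [Adjunction.homEquiv_ofNatIsoRight_symm_apply, Category.assoc, Iso.hom_inv_id_app,
    Adjunction.comp_homEquiv]
  simp only [Equiv.symm_trans_apply]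
  erw [Category.comp_id]

end Adj

variable {X S Y T W Z : Scheme.{u}} (f : X ⟶ S) (g : T ⟶ S) (h : Y ⟶ X) (e : Y ⟶ T)
    (w : e ≫ g = h ≫ f) (i : W ⟶ X) (j : Z ⟶ W) (k : Z ⟶ Y) (w' : k ≫ h = j ≫ i)
    (w'' : (k ≫ e) ≫ g = j ≫ (i ≫ f))
    [PreservesFiniteLimits (EtCoh.pull e)] [PreservesFiniteLimits (EtCoh.pull k)]
    [PreservesFiniteLimits (EtCoh.pull (k ≫ e))]

lemma bcQAdj_eq_bcA (q : ℕ) (F : EtCoh.Ab T) :
    EtBC.bcQAdj g f h e w q F =
      bcA (EtCoh.push e) (EtCoh.push g) (EtCoh.push h) (EtCoh.push f) (σAb g f h e w)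
        (EtCoh.pullPushAdj e) q F := rfl

lemma bcQAdj_pasting (q : ℕ) (F : EtCoh.Ab T) :
    EtBC.bcQAdj g (i ≫ f) j (k ≫ e) w'' q F =
      EtBC.bcQAdj g f h e w q F ≫
        (EtCoh.push f).map (EtBC.bcQAdj h i j k w' q ((EtCoh.pull e).obj F)) ≫
        (EtCoh.pushComp f i).hom.app
          ((EtCoh.Rpush j q).obj ((EtCoh.pull k).obj ((EtCoh.pull e).obj F))) ≫
        (EtCoh.push (i ≫ f)).map ((EtCoh.Rpush j q).map ((ζ e k).hom.app F)) :=
  bcA_pasting (EtCoh.push g) (EtCoh.push e) (EtCoh.push h) (EtCoh.push f) (EtCoh.push k)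
    (EtCoh.push j) (EtCoh.push i) (EtCoh.push (k ≫ e)) (EtCoh.push (i ≫ f))
    (σAb g f h e w) (σAb h i j k w') (σAb g (i ≫ f) j (k ≫ e) w'')
    (EtCoh.pushComp e k) (EtCoh.pushComp f i)
    (EtCoh.pullPushAdj e) (EtCoh.pullPushAdj k) (EtCoh.pullPushAdj (k ≫ e)) (ζ e k)
    (hσ g f h e w i j k w' w'') (hζ e k) q F

theorem bcQ_pasting (q : ℕ) (F : EtCoh.Ab T) :
    EtBC.bcQ g (i ≫ f) j (k ≫ e) w'' q F =
      (Adjunction.leftAdjointUniq (EtCoh.pullPushAdj (i ≫ f)) (adjKE f i)).hom.app _ ≫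
      (EtCoh.pull i).map (EtBC.bcQ g f h e w q F) ≫
      EtBC.bcQ h i j k w' q ((EtCoh.pull e).obj F) ≫
      (EtCoh.Rpush j q).map ((ζ e k).hom.app F) := by
  unfold EtBC.bcQ
  rw [bcQAdj_pasting f g h e w i j k w' w'' q F,
    homEquiv_symm_changeLeft (adjKE f i) (EtCoh.pullPushAdj (i ≫ f))]
  congr 1
  have e0 : EtBC.bcQAdj g f h e w q F ≫
        (EtCoh.push f).map (EtBC.bcQAdj h i j k w' q ((EtCoh.pull e).obj F)) ≫
        (EtCoh.pushComp f i).hom.app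
          ((EtCoh.Rpush j q).obj ((EtCoh.pull k).obj ((EtCoh.pull e).obj F))) ≫
        (EtCoh.push (i ≫ f)).map ((EtCoh.Rpush j q).map ((ζ e k).hom.app F)) =
      ((EtBC.bcQAdj g f h e w q F ≫
        (EtCoh.push f).map (EtBC.bcQAdj h i j k w' q ((EtCoh.pull e).obj F))) ≫
        (EtCoh.pushComp f i).hom.app
          ((EtCoh.Rpush j q).obj ((EtCoh.pull k).obj ((EtCoh.pull e).obj F)))) ≫
        (EtCoh.push (i ≫ f)).map ((EtCoh.Rpush j q).map ((ζ e k).hom.app F)) := by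
    simp only [Category.assoc]
  rw [e0, Adjunction.homEquiv_naturality_right_symm, adjKE_homEquiv_symm,
    Adjunction.homEquiv_naturality_right_symm, Adjunction.homEquiv_naturality_left_symm,
    Category.assoc]

theorem isIso_bcQ_pasting (q : ℕ) (F : EtCoh.Ab T)
    (h1 : IsIso (EtBC.bcQ g f h e w q F))
    (h2 : IsIso (EtBC.bcQ h i j k w' q ((EtCoh.pull e).obj F))) :
    IsIso (EtBC.bcQ g (i ≫ f) j (k ≫ e) w'' q F) := by
  rw [bcQ_pasting f g h e w i j k w' w'' q F]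
  infer_instance

end Groth.Agent.Helper29.EdgeE
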