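import Mathlib

/-!
# Tensor products and "weak" directed systems of algebras

A directed family `G i` of `A₀`-algebras with (not necessarily functorial) transition maps
`f i j`, compatible maps `g i : G i → A` which are jointly surjective and whose kernels die
in the system.  We show that `M ⊗ -` preserves the "every element lifts" and "kernels die"
properties.
-/

namespace Groth.Agent.Helper29.ColimTensor

universe u v

set_option linter.unusedSectionVars false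

open TensorProduct

lemma lTensor_rTensor_comm {R : Type*} [CommRing R] {M₁ M₂ N₁ N₂ : Type*}
    [AddCommGroup M₁] [AddCommGroup M₂] [AddCommGroup N₁] [AddCommGroup N₂]
    [Module R M₁] [Module R M₂] [Module R N₁] [Module R N₂]
    (φ : N₁ →ₗ[R] N₂) (ψ : M₁ →ₗ[R] M₂) (ζ : M₁ ⊗[R] N₁) :
    LinearMap.lTensor M₂ φ (LinearMap.rTensor N₁ ψ ζ) =
      LinearMap.rTensor N₂ ψ (LinearMap.lTensor M₁ φ ζ) := by
  rw [← LinearMap.comp_apply, LinearMap.lTensor_comp_rTensor, ← LinearMap.rTensor_comp_lTensor,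
    LinearMap.comp_apply]

section System

variable {ι : Type u} [Preorder ι] [IsDirected ι (· ≤ ·)] [Nonempty ι]
    {A₀ : Type u} [CommRing A₀] {G : ι → Type u} [∀ i, CommRing (G i)] [∀ i, Algebra A₀ (G i)]
    (f : ∀ i j, i ≤ j → (G i →ₐ[A₀] G j)) {A : Type u} [CommRing A] [Algebra A₀ A]
    (g : ∀ i, G i →ₐ[A₀] A)

/-- Admissible transition maps: those compatible with the maps to the colimit. -/
def Adm (i j : ι) (θ : G i →ₐ[A₀] G j) : Prop := i ≤ j ∧ (g j).comp θ = g i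

variable {g}

lemma Adm.refl (i : ι) : Adm g i i (AlgHom.id A₀ (G i)) := ⟨le_rfl, AlgHom.comp_id _⟩

lemma Adm.comp {i j k : ι} {θ : G i →ₐ[A₀] G j} {θ' : G j →ₐ[A₀] G k}
    (h : Adm g i j θ) (h' : Adm g j k θ') : Adm g i k (θ'.comp θ) :=
  ⟨h.1.trans h'.1, by rw [← AlgHom.comp_assoc, h'.2, h.2]⟩

lemma Adm.apply {i j : ι} {θ : G i →ₐ[A₀] G j} (h : Adm g i j θ) (x : G i) :
    g j (θ x) = g i x := by
  rw [← h.2]; rfl

lemma Adm.toLinearMap {i j : ι} {θ : G i →ₐ[A₀] G j} (h : Adm g i j θ) :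
    (g j).toLinearMap ∘ₗ θ.toLinearMap = (g i).toLinearMap := by
  rw [← AlgHom.comp_toLinearMap, h.2]

variable (hg : ∀ i j (h : i ≤ j), (g j).comp (f i j h) = g i)
    (hsurj : ∀ a : A, ∃ i, ∃ x : G i, g i x = a)
    (hker : ∀ i (x : G i), g i x = 0 → ∃ j, ∃ h : i ≤ j, f i j h x = 0)

include hg in
lemma Adm.of_f {i j : ι} (h : i ≤ j) : Adm g i j (f i j h) := ⟨h, hg i j h⟩

include hg hker in
lemma kill_finset (i : ι) (Y : Finset (G i)) (hY : ∀ y ∈ Y, g i y = 0) :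
    ∃ (j : ι) (θ : G i →ₐ[A₀] G j), Adm g i j θ ∧ ∀ y ∈ Y, θ y = 0 := by
  classical
  induction Y using Finset.induction_on with
  | empty => exact ⟨i, AlgHom.id A₀ (G i), Adm.refl i, by simp⟩
  | insert y Y hy ih =>
    obtain ⟨j, θ, hθ, hθY⟩ := ih (fun y' hy' => hY y' (Finset.mem_insert_of_mem hy'))
    have h0 : g j (θ y) = 0 := by
      rw [hθ.apply]; exact hY y (Finset.mem_insert_self _ _)
    obtain ⟨j', hjj', hx⟩ := hker j _ h0
    refine ⟨j', (f j j' hjj').comp θ, hθ.comp (Adm.of_f f hg hjj'), ?_⟩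
    intro y' hy'
    rcases Finset.mem_insert.mp hy' with rfl | h
    · exact hx
    · change f j j' hjj' (θ y') = 0
      rw [hθY y' h, map_zero]

variable (M : Type v) [AddCommGroup M] [Module A₀ M]

include hg hsurj in
lemma lift_tensor (i₀ : ι) (ξ : M ⊗[A₀] A) :
    ∃ (j : ι), i₀ ≤ j ∧ ∃ ξ' : M ⊗[A₀] G j, LinearMap.lTensor M (g j).toLinearMap ξ' = ξ := by
  induction ξ using TensorProduct.induction_on with
  | zero => exact ⟨i₀, le_rfl, 0, map_zero _⟩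
  | tmul m a =>
    obtain ⟨i, x, hx⟩ := hsurj a
    obtain ⟨j, hij, hi₀j⟩ := exists_ge_ge i i₀
    refine ⟨j, hi₀j, m ⊗ₜ f i j hij x, ?_⟩
    rw [LinearMap.lTensor_tmul, AlgHom.toLinearMap_apply, (Adm.of_f f hg hij).apply, hx]
  | add ξ₁ ξ₂ h₁ h₂ =>
    obtain ⟨j₁, hj₁, ξ₁', h₁'⟩ := h₁
    obtain ⟨j₂, _, ξ₂', h₂'⟩ := h₂
    obtain ⟨j, hj₁j, hj₂j⟩ := exists_ge_ge j₁ j₂
    refine ⟨j, hj₁.trans hj₁j, LinearMap.lTensor M (f j₁ j hj₁j).toLinearMap ξ₁' +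
      LinearMap.lTensor M (f j₂ j hj₂j).toLinearMap ξ₂', ?_⟩
    rw [map_add, ← LinearMap.comp_apply, ← LinearMap.comp_apply, ← LinearMap.lTensor_comp,
      ← LinearMap.lTensor_comp, (Adm.of_f f hg hj₁j).toLinearMap,
      (Adm.of_f f hg hj₂j).toLinearMap, h₁', h₂']

include hg hsurj in
lemma lift_tensor_fin {κ : Type*} [Finite κ] (a : κ → M ⊗[A₀] A) :
    ∃ (j : ι) (a' : κ → M ⊗[A₀] G j),
      ∀ k, LinearMap.lTensor M (g j).toLinearMap (a' k) = a k := by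
  obtain ⟨i₀⟩ := ‹Nonempty ι›
  choose i _ x hx using fun k => lift_tensor f hg hsurj M i₀ (a k)
  obtain ⟨j, hj⟩ := Finite.exists_le i
  refine ⟨j, fun k => LinearMap.lTensor M (f (i k) j (hj k)).toLinearMap (x k), fun k => ?_⟩
  rw [← LinearMap.comp_apply, ← LinearMap.lTensor_comp, (Adm.of_f f hg (hj k)).toLinearMap, hx]

/-- Free case of the key lemma. -/
lemma kill_free_aux (X : Type v) [DecidableEq X] {N N' : Type u} [AddCommGroup N] [Module A₀ N]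
    [AddCommGroup N'] [Module A₀ N'] (φ : N →ₗ[A₀] N') (z : (X →₀ A₀) ⊗[A₀] N) :
    TensorProduct.finsuppScalarLeft A₀ N' X (LinearMap.lTensor (X →₀ A₀) φ z) =
      Finsupp.mapRange.linearMap φ (TensorProduct.finsuppScalarLeft A₀ N X z) := by
  induction z using TensorProduct.induction_on with
  | zero => simp
  | tmul p n =>
    ext x
    simp
  | add z₁ z₂ h₁ h₂ => simp only [map_add, h₁, h₂]

include hg hker in
lemma kill_free (X : Type v) (i : ι) (z : (X →₀ A₀) ⊗[A₀] G i)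
    (hz : LinearMap.lTensor (X →₀ A₀) (g i).toLinearMap z = 0) :
    ∃ (j : ι) (θ : G i →ₐ[A₀] G j), Adm g i j θ ∧
      LinearMap.lTensor (X →₀ A₀) θ.toLinearMap z = 0 := by
  classical
  set w : X →₀ G i := TensorProduct.finsuppScalarLeft A₀ (G i) X z with hw
  have hw0 : Finsupp.mapRange.linearMap (g i).toLinearMap w = 0 := by
    rw [hw, ← kill_free_aux, hz, map_zero]
  have hval : ∀ y ∈ w.support.image w, g i y = 0 := by
    intro y hy
    obtain ⟨x, _, rfl⟩ := Finset.mem_image.mp hy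
    have := DFunLike.congr_fun hw0 x
    simpa using this
  obtain ⟨j, θ, hθ, hkill⟩ := kill_finset f hg hker i _ hval
  refine ⟨j, θ, hθ, ?_⟩
  apply (TensorProduct.finsuppScalarLeft A₀ (G j) X).injective
  rw [kill_free_aux, map_zero]
  ext x
  by_cases hx : x ∈ w.support
  · simpa using hkill (w x) (Finset.mem_image_of_mem _ hx)
  · have : w x = 0 := Finsupp.notMem_support_iff.mp hx
    simp [← hw, this]

include hg hsurj hker in
/-- **Key lemma**: an element of `M ⊗ G i` dying in `M ⊗ A` dies at a later stage. -/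
theorem kill_tensor (i : ι) (z : M ⊗[A₀] G i)
    (hz : LinearMap.lTensor M (g i).toLinearMap z = 0) :
    ∃ (j : ι) (θ : G i →ₐ[A₀] G j), Adm g i j θ ∧
      LinearMap.lTensor M θ.toLinearMap z = 0 := by
  classical
  let π : (M →₀ A₀) →ₗ[A₀] M := Finsupp.linearCombination A₀ id
  have hπ : Function.Surjective π := Finsupp.linearCombination_id_surjective A₀ M
  have hex : Function.Exact (LinearMap.ker π).subtype π := LinearMap.exact_subtype_ker_map π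
  obtain ⟨ζ, rfl⟩ := LinearMap.rTensor_surjective (G i) hπ z
  have h1 : LinearMap.rTensor A π (LinearMap.lTensor (M →₀ A₀) (g i).toLinearMap ζ) = 0 := by
    rw [← LinearMap.comp_apply, LinearMap.rTensor_comp_lTensor, ← LinearMap.lTensor_comp_rTensor,
      LinearMap.comp_apply]
    exact hz
  obtain ⟨ξ, hξ⟩ := (rTensor_exact (M := ↥(LinearMap.ker π)) (N := M →₀ A₀) (P := M)
    (R := A₀) A hex hπ _).mp h1
  obtain ⟨i₁, hi₁, ξ', hξ'⟩ := lift_tensor f hg hsurj (LinearMap.ker π) i ξ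
  set θ₁ := f i i₁ hi₁ with hθ₁
  have hadm₁ : Adm g i i₁ θ₁ := Adm.of_f f hg hi₁
  set δ := LinearMap.lTensor (M →₀ A₀) θ₁.toLinearMap ζ -
    LinearMap.rTensor (G i₁) (LinearMap.ker π).subtype ξ' with hδdef
  have hδ : LinearMap.lTensor (M →₀ A₀) (g i₁).toLinearMap δ = 0 := by
    rw [hδdef, map_sub, ← LinearMap.comp_apply, ← LinearMap.lTensor_comp, hadm₁.toLinearMap,
      ← LinearMap.comp_apply, LinearMap.lTensor_comp_rTensor, ← LinearMap.rTensor_comp_lTensor,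
      LinearMap.comp_apply, hξ', hξ, sub_self]
  obtain ⟨j, θ₂, hadm₂, hkill⟩ := kill_free f hg hker M i₁ δ hδ
  refine ⟨j, θ₂.comp θ₁, hadm₁.comp hadm₂, ?_⟩
  have e1 : LinearMap.lTensor (M →₀ A₀) θ₂.toLinearMap
      (LinearMap.lTensor (M →₀ A₀) θ₁.toLinearMap ζ) =
      LinearMap.lTensor (M →₀ A₀) θ₂.toLinearMap
        (LinearMap.rTensor (G i₁) (LinearMap.ker π).subtype ξ') := by
    have := hkill
    rw [hδdef, map_sub, sub_eq_zero] at this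
    exact this
  have hπK : π ∘ₗ (LinearMap.ker π).subtype = 0 := by
    ext x
    simp
  rw [lTensor_rTensor_comm, AlgHom.comp_toLinearMap, LinearMap.lTensor_comp, LinearMap.comp_apply,
    e1, ← lTensor_rTensor_comm, ← LinearMap.comp_apply (LinearMap.rTensor (G i₁) π),
    ← LinearMap.rTensor_comp, hπK, LinearMap.rTensor_zero, LinearMap.zero_apply, map_zero]

include hg hsurj hker in
theorem kill_tensor_finset (i : ι) (Z : Finset (M ⊗[A₀] G i))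
    (hZ : ∀ z ∈ Z, LinearMap.lTensor M (g i).toLinearMap z = 0) :
    ∃ (j : ι) (θ : G i →ₐ[A₀] G j), Adm g i j θ ∧
      ∀ z ∈ Z, LinearMap.lTensor M θ.toLinearMap z = 0 := by
  classical
  induction Z using Finset.induction_on with
  | empty => exact ⟨i, AlgHom.id A₀ (G i), Adm.refl i, by simp⟩
  | insert z Z hz ih =>
    obtain ⟨j, θ, hθ, hθZ⟩ := ih (fun z' hz' => hZ z' (Finset.mem_insert_of_mem hz'))
    have h0 : LinearMap.lTensor M (g j).toLinearMap (LinearMap.lTensor M θ.toLinearMap z) = 0 := by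
      rw [← LinearMap.comp_apply, ← LinearMap.lTensor_comp, hθ.toLinearMap]
      exact hZ z (Finset.mem_insert_self _ _)
    obtain ⟨j', θ', hθ', hx⟩ := kill_tensor f hg hsurj hker M j _ h0
    refine ⟨j', θ'.comp θ, hθ.comp hθ', ?_⟩
    intro z' hz'
    rw [AlgHom.comp_toLinearMap, LinearMap.lTensor_comp, LinearMap.comp_apply]
    rcases Finset.mem_insert.mp hz' with rfl | h
    · exact hx
    · rw [hθZ z' h, map_zero]

end System

section BaseChange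

variable {A₀ : Type u} [CommRing A₀] (B₀ : Type u) [CommRing B₀] [Algebra A₀ B₀]

/-- Base change `B₀ ⊗ G₁ → B₀ ⊗ G₂` of an algebra map. -/
noncomputable abbrev Rmap {G₁ G₂ : Type u} [CommRing G₁] [Algebra A₀ G₁] [CommRing G₂]
    [Algebra A₀ G₂] (θ : G₁ →ₐ[A₀] G₂) : B₀ ⊗[A₀] G₁ →ₐ[B₀] B₀ ⊗[A₀] G₂ :=
  Algebra.TensorProduct.map (AlgHom.id B₀ B₀) θ

lemma Rmap_apply {G₁ G₂ : Type u} [CommRing G₁] [Algebra A₀ G₁] [CommRing G₂]
    [Algebra A₀ G₂] (θ : G₁ →ₐ[A₀] G₂) (x : B₀ ⊗[A₀] G₁) :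
    Rmap B₀ θ x = LinearMap.lTensor B₀ θ.toLinearMap x := by
  induction x using TensorProduct.induction_on with
  | zero => simp
  | tmul b y => simp
  | add x y hx hy => simp only [map_add, hx, hy]

variable (P : Type v) [AddCommGroup P] [Module A₀ P] [Module B₀ P] [IsScalarTower A₀ B₀ P]

/-- The map `(B₀ ⊗ G₁) ⊗[B₀] P → (B₀ ⊗ G₂) ⊗[B₀] P` induced by `θ`. -/
noncomputable def Pmap {G₁ G₂ : Type u} [CommRing G₁] [Algebra A₀ G₁] [CommRing G₂]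
    [Algebra A₀ G₂] (θ : G₁ →ₐ[A₀] G₂) :
    (B₀ ⊗[A₀] G₁) ⊗[B₀] P →ₗ[B₀] (B₀ ⊗[A₀] G₂) ⊗[B₀] P :=
  LinearMap.rTensor P (Rmap B₀ θ).toLinearMap

@[simp]
lemma Pmap_tmul {G₁ G₂ : Type u} [CommRing G₁] [Algebra A₀ G₁] [CommRing G₂]
    [Algebra A₀ G₂] (θ : G₁ →ₐ[A₀] G₂) (r : B₀ ⊗[A₀] G₁) (p : P) :
    Pmap B₀ P θ (r ⊗ₜ p) = Rmap B₀ θ r ⊗ₜ p := rfl

/-- `(B₀ ⊗[A₀] G₁) ⊗[B₀] P ≃ P ⊗[A₀] G₁`. -/
noncomputable def eps (G₁ : Type u) [CommRing G₁] [Algebra A₀ G₁] :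
    (B₀ ⊗[A₀] G₁) ⊗[B₀] P ≃ₗ[B₀] P ⊗[A₀] G₁ :=
  (TensorProduct.comm B₀ (B₀ ⊗[A₀] G₁) P).trans
    (AlgebraTensorModule.cancelBaseChange A₀ B₀ B₀ P G₁)

@[simp]
lemma eps_tmul (G₁ : Type u) [CommRing G₁] [Algebra A₀ G₁] (b : B₀) (x : G₁) (p : P) :
    eps B₀ P G₁ ((b ⊗ₜ[A₀] x) ⊗ₜ[B₀] p) = (b • p) ⊗ₜ[A₀] x := rfl

lemma eps_nat {G₁ G₂ : Type u} [CommRing G₁] [Algebra A₀ G₁] [CommRing G₂]
    [Algebra A₀ G₂] (θ : G₁ →ₐ[A₀] G₂) (z : (B₀ ⊗[A₀] G₁) ⊗[B₀] P) :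
    eps B₀ P G₂ (Pmap B₀ P θ z) = LinearMap.lTensor P θ.toLinearMap (eps B₀ P G₁ z) := by
  induction z using TensorProduct.induction_on with
  | zero => simp
  | tmul r p =>
    induction r using TensorProduct.induction_on with
    | zero => simp
    | tmul b x => simp
    | add r₁ r₂ h₁ h₂ =>
      rw [TensorProduct.add_tmul, map_add, map_add, map_add, map_add, h₁, h₂]
  | add z₁ z₂ h₁ h₂ => rw [map_add, map_add, map_add, map_add, h₁, h₂]

end BaseChange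

section KillP

variable {ι : Type u} [Preorder ι] [IsDirected ι (· ≤ ·)] [Nonempty ι]
    {A₀ : Type u} [CommRing A₀] {G : ι → Type u} [∀ i, CommRing (G i)] [∀ i, Algebra A₀ (G i)]
    (f : ∀ i j, i ≤ j → (G i →ₐ[A₀] G j)) {A : Type u} [CommRing A] [Algebra A₀ A]
    {g : ∀ i, G i →ₐ[A₀] A}
    (hg : ∀ i j (h : i ≤ j), (g j).comp (f i j h) = g i)
    (hsurj : ∀ a : A, ∃ i, ∃ x : G i, g i x = a)
    (hker : ∀ i (x : G i), g i x = 0 → ∃ j, ∃ h : i ≤ j, f i j h x = 0)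
    (B₀ : Type u) [CommRing B₀] [Algebra A₀ B₀]
    (P : Type v) [AddCommGroup P] [Module A₀ P] [Module B₀ P] [IsScalarTower A₀ B₀ P]

include hg hsurj hker in
theorem kill_P (i : ι) (Z : Finset ((B₀ ⊗[A₀] G i) ⊗[B₀] P))
    (hZ : ∀ z ∈ Z, Pmap B₀ P (g i) z = 0) :
    ∃ (j : ι) (θ : G i →ₐ[A₀] G j), Adm g i j θ ∧ ∀ z ∈ Z, Pmap B₀ P θ z = 0 := by
  classical
  obtain ⟨j, θ, hθ, hkill⟩ := kill_tensor_finset f hg hsurj hker P i (Z.image (eps B₀ P (G i)))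
    (by
      intro w hw
      obtain ⟨z, hz, rfl⟩ := Finset.mem_image.mp hw
      rw [← eps_nat, hZ z hz, map_zero])
  refine ⟨j, θ, hθ, fun z hz => ?_⟩
  apply (eps B₀ P (G j)).injective
  rw [eps_nat, hkill _ (Finset.mem_image_of_mem _ hz), map_zero]

include hg hsurj hker in
theorem kill_R (i : ι) (Z : Finset (B₀ ⊗[A₀] G i)) (hZ : ∀ z ∈ Z, Rmap B₀ (g i) z = 0) :
    ∃ (j : ι) (θ : G i →ₐ[A₀] G j), Adm g i j θ ∧ ∀ z ∈ Z, Rmap B₀ θ z = 0 := by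
  obtain ⟨j, θ, hθ, hkill⟩ := kill_tensor_finset f hg hsurj hker B₀ i Z
    (fun z hz => by rw [← Rmap_apply]; exact hZ z hz)
  exact ⟨j, θ, hθ, fun z hz => by rw [Rmap_apply]; exact hkill z hz⟩

include hg hsurj in
theorem lift_R {κ : Type*} [Finite κ] (a : κ → B₀ ⊗[A₀] A) :
    ∃ (j : ι) (a' : κ → B₀ ⊗[A₀] G j), ∀ k, Rmap B₀ (g j) (a' k) = a k := by
  obtain ⟨j, a', ha'⟩ := lift_tensor_fin f hg hsurj B₀ a
  exact ⟨j, a', fun k => by rw [Rmap_apply]; exact ha' k⟩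

end KillP


section Final

variable {B₀ : Type u} [CommRing B₀] {C₀ : Type u} [CommRing C₀] [Algebra B₀ C₀]
    (R' : Type u) [CommRing R'] [Algebra B₀ R']

/-- Induction principle for `R' ⊗[B₀] C₀` from algebra generators of `C₀`. -/
lemma gen_induction {s : Set C₀} (hs : Algebra.adjoin B₀ s = ⊤)
    (motive : R' ⊗[B₀] C₀ → Prop)
    (halg : ∀ r : R', motive (algebraMap R' (R' ⊗[B₀] C₀) r))
    (hgen : ∀ c ∈ s, motive ((1 : R') ⊗ₜ[B₀] c))
    (hadd : ∀ x y, motive x → motive y → motive (x + y))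
    (hmul : ∀ x y, motive x → motive y → motive (x * y)) : ∀ t, motive t := by
  have h1 : ∀ c : C₀, motive ((1 : R') ⊗ₜ[B₀] c) := by
    intro c
    have hc : c ∈ Algebra.adjoin B₀ s := by rw [hs]; exact Algebra.mem_top
    induction hc using Algebra.adjoin_induction with
    | mem c hc => exact hgen c hc
    | algebraMap b =>
      have : ((1 : R') ⊗ₜ[B₀] (algebraMap B₀ C₀ b)) =
          algebraMap R' (R' ⊗[B₀] C₀) (algebraMap B₀ R' b) := by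
        rw [Algebra.TensorProduct.algebraMap_apply, Algebra.algebraMap_self_apply,
          Algebra.algebraMap_eq_smul_one, Algebra.algebraMap_eq_smul_one,
          TensorProduct.tmul_smul, TensorProduct.smul_tmul']
      rw [this]
      exact halg _
    | add c c' _ _ h h' =>
      rw [TensorProduct.tmul_add]
      exact hadd _ _ h h'
    | mul c c' _ _ h h' =>
      have : ((1 : R') ⊗ₜ[B₀] (c * c')) = ((1 : R') ⊗ₜ[B₀] c) * ((1 : R') ⊗ₜ[B₀] c') := by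
        rw [Algebra.TensorProduct.tmul_mul_tmul, one_mul]
      rw [this]
      exact hmul _ _ h h'
  intro t
  induction t using TensorProduct.induction_on with
  | zero =>
    have := halg 0
    rwa [map_zero] at this
  | tmul r c =>
    have : r ⊗ₜ[B₀] c = algebraMap R' (R' ⊗[B₀] C₀) r * ((1 : R') ⊗ₜ[B₀] c) := by
      rw [Algebra.TensorProduct.algebraMap_apply, Algebra.algebraMap_self_apply,
        Algebra.TensorProduct.tmul_mul_tmul, mul_one, one_mul]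
    rw [this]
    exact hmul _ _ (halg r) (h1 c)
  | add x y hx hy => exact hadd _ _ hx hy

lemma surjective_of_gens {s : Set C₀} (hs : Algebra.adjoin B₀ s = ⊤)
    (h : ∀ c ∈ s, ∃ r : R', algebraMap R' (R' ⊗[B₀] C₀) r = (1 : R') ⊗ₜ[B₀] c) :
    Function.Surjective (algebraMap R' (R' ⊗[B₀] C₀)) := by
  intro t
  induction t using gen_induction R' hs with
  | halg r => exact ⟨r, rfl⟩
  | hgen c hc => exact h c hc
  | hadd x y hx hy =>
    obtain ⟨a, rfl⟩ := hx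
    obtain ⟨b, rfl⟩ := hy
    exact ⟨a + b, map_add _ _ _⟩
  | hmul x y hx hy =>
    obtain ⟨a, rfl⟩ := hx
    obtain ⟨b, rfl⟩ := hy
    exact ⟨a * b, map_mul _ _ _⟩

lemma finite_of_gens [Algebra.FiniteType B₀ C₀] {s : Set C₀} (hs : Algebra.adjoin B₀ s = ⊤)
    (h : ∀ c ∈ s, IsIntegral R' ((1 : R') ⊗ₜ[B₀] c)) :
    Module.Finite R' (R' ⊗[B₀] C₀) := by
  have hint : Algebra.IsIntegral R' (R' ⊗[B₀] C₀) := by
    constructor
    intro t
    induction t using gen_induction R' hs with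
    | halg r => exact isIntegral_algebraMap
    | hgen c hc => exact h c hc
    | hadd x y hx hy => exact hx.add hy
    | hmul x y hx hy => exact hx.mul hy
  exact Algebra.IsIntegral.finite

lemma formallyUnramified_of_gens {s : Set C₀} (hs : Algebra.adjoin B₀ s = ⊤)
    (h : ∀ c ∈ s, KaehlerDifferential.D R' (R' ⊗[B₀] C₀) ((1 : R') ⊗ₜ[B₀] c) = 0) :
    Algebra.FormallyUnramified R' (R' ⊗[B₀] C₀) := by
  have hD : ∀ t, KaehlerDifferential.D R' (R' ⊗[B₀] C₀) t = 0 := by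
    intro t
    induction t using gen_induction R' hs with
    | halg r => exact Derivation.map_algebraMap _ r
    | hgen c hc => exact h c hc
    | hadd x y hx hy => rw [map_add, hx, hy, add_zero]
    | hmul x y hx hy => rw [Derivation.leibniz, hx, hy, smul_zero, smul_zero, add_zero]
  constructor
  have htop := KaehlerDifferential.span_range_derivation R' (R' ⊗[B₀] C₀)
  have hbot : Submodule.span (R' ⊗[B₀] C₀)
      (Set.range (KaehlerDifferential.D R' (R' ⊗[B₀] C₀))) = ⊥ := by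
    rw [Submodule.span_eq_bot]
    rintro _ ⟨t, rfl⟩
    exact hD t
  rw [hbot] at htop
  exact (Submodule.subsingleton_iff _).mp (subsingleton_of_bot_eq_top htop)

lemma injective_of_algHom (ψ : C₀ →ₐ[B₀] R') :
    Function.Injective (algebraMap R' (R' ⊗[B₀] C₀)) := by
  let β : R' ⊗[B₀] C₀ →ₐ[R'] R' :=
    Algebra.TensorProduct.lift (AlgHom.id R' R') ψ (fun _ _ => Commute.all _ _)
  intro x y hxy
  have := congrArg β hxy
  rw [AlgHom.commutes, AlgHom.commutes] at this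
  exact this

end Final


section Main

variable {ι : Type u} [Preorder ι] [IsDirected ι (· ≤ ·)] [Nonempty ι]
    {A₀ : Type u} [CommRing A₀] {G : ι → Type u} [∀ i, CommRing (G i)] [∀ i, Algebra A₀ (G i)]
    (f : ∀ i j, i ≤ j → (G i →ₐ[A₀] G j)) {A : Type u} [CommRing A] [Algebra A₀ A]
    {g : ∀ i, G i →ₐ[A₀] A}
    (hg : ∀ i j (h : i ≤ j), (g j).comp (f i j h) = g i)
    (hsurj : ∀ a : A, ∃ i, ∃ x : G i, g i x = a)
    (hker : ∀ i (x : G i), g i x = 0 → ∃ j, ∃ h : i ≤ j, f i j h x = 0)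
    (B₀ : Type u) [CommRing B₀] [Algebra A₀ B₀] (C₀ : Type u) [CommRing C₀] [Algebra A₀ C₀]
    [Algebra B₀ C₀] [IsScalarTower A₀ B₀ C₀]

lemma Rmap_adm {i j : ι} {θ : G i →ₐ[A₀] G j} (h : Adm g i j θ) (x : B₀ ⊗[A₀] G i) :
    Rmap B₀ (g j) (Rmap B₀ θ x) = Rmap B₀ (g i) x := by
  rw [Rmap_apply, Rmap_apply, Rmap_apply, ← LinearMap.comp_apply, ← LinearMap.lTensor_comp,
    h.toLinearMap]

include hg hsurj hker in
/-- Common core: generators `c k` with `1 ⊗ c k = ρ k ⊗ 1` in the colimit descend to a stage. -/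
lemma exists_stage_gens {κ : Type*} [Finite κ] (c : κ → C₀) (i₀ : ι) (ρ' : κ → B₀ ⊗[A₀] G i₀)
    (hρ : ∀ k, algebraMap (B₀ ⊗[A₀] A) ((B₀ ⊗[A₀] A) ⊗[B₀] C₀) (Rmap B₀ (g i₀) (ρ' k)) =
      (1 : B₀ ⊗[A₀] A) ⊗ₜ[B₀] c k) :
    ∃ (j : ι) (θ : G i₀ →ₐ[A₀] G j), Adm g i₀ j θ ∧
      ∀ k, algebraMap (B₀ ⊗[A₀] G j) ((B₀ ⊗[A₀] G j) ⊗[B₀] C₀) (Rmap B₀ θ (ρ' k)) =
        (1 : B₀ ⊗[A₀] G j) ⊗ₜ[B₀] c k := by
  classical
  have := Fintype.ofFinite κ
  let z : κ → (B₀ ⊗[A₀] G i₀) ⊗[B₀] C₀ := fun k =>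
    (1 : B₀ ⊗[A₀] G i₀) ⊗ₜ[B₀] c k - ρ' k ⊗ₜ[B₀] (1 : C₀)
  obtain ⟨j, θ, hθ, hkill⟩ := kill_P f hg hsurj hker B₀ C₀ i₀ (Finset.univ.image z) (by
    intro w hw
    obtain ⟨k, _, rfl⟩ := Finset.mem_image.mp hw
    have := hρ k
    rw [Algebra.TensorProduct.algebraMap_apply, Algebra.algebraMap_self_apply] at this
    simp only [z, map_sub, Pmap_tmul, map_one]
    rw [this, sub_self])
  refine ⟨j, θ, hθ, fun k => ?_⟩
  have := hkill (z k) (Finset.mem_image_of_mem _ (Finset.mem_univ k))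
  simp only [z, map_sub, Pmap_tmul, map_one, sub_eq_zero] at this
  rw [Algebra.TensorProduct.algebraMap_apply, Algebra.algebraMap_self_apply, this]

include hg hsurj hker in
theorem surjective_descends [Algebra.FiniteType B₀ C₀]
    (h : Function.Surjective (algebraMap (B₀ ⊗[A₀] A) ((B₀ ⊗[A₀] A) ⊗[B₀] C₀))) :
    ∃ i, Function.Surjective (algebraMap (B₀ ⊗[A₀] G i) ((B₀ ⊗[A₀] G i) ⊗[B₀] C₀)) := by
  classical
  obtain ⟨s, hs⟩ := (Algebra.FiniteType.out (R := B₀) (A := C₀))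
  choose ρ hρ using fun c : s => h ((1 : B₀ ⊗[A₀] A) ⊗ₜ[B₀] (c : C₀))
  obtain ⟨i₀, ρ', hρ'⟩ := lift_R f hg hsurj B₀ ρ
  obtain ⟨j, θ, -, hj⟩ := exists_stage_gens f hg hsurj hker B₀ C₀ (fun c : s => (c : C₀)) i₀ ρ'
    (fun k => by rw [hρ' k, hρ k])
  refine ⟨j, surjective_of_gens (B₀ ⊗[A₀] G j) hs fun c hc => ?_⟩
  exact ⟨_, hj ⟨c, hc⟩⟩

include hg hsurj hker in
theorem bijective_descends [Algebra.FinitePresentation B₀ C₀]
    (h : Function.Bijective (algebraMap (B₀ ⊗[A₀] A) ((B₀ ⊗[A₀] A) ⊗[B₀] C₀))) :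
    ∃ i, Function.Bijective (algebraMap (B₀ ⊗[A₀] G i) ((B₀ ⊗[A₀] G i) ⊗[B₀] C₀)) := by
  classical
  obtain ⟨n, φ, hφ, Q, hQ⟩ := Algebra.FinitePresentation.out (R := B₀) (A := C₀)
  let c : Fin n → C₀ := fun k => φ (MvPolynomial.X k)
  have hφc : φ = MvPolynomial.aeval c := MvPolynomial.aeval_unique φ
  have hs : Algebra.adjoin B₀ (Set.range c) = ⊤ := by
    have : Set.range c = φ '' (Set.range MvPolynomial.X) := by
      rw [← Set.range_comp]; rfl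
    rw [this, ← AlgHom.map_adjoin, MvPolynomial.adjoin_range_X, Algebra.map_top]
    exact (AlgHom.range_eq_top φ).mpr hφ
  have hQ0 : ∀ q ∈ Q, φ q = 0 := by
    intro q hq
    have : q ∈ RingHom.ker φ.toRingHom := by
      rw [← hQ]; exact Ideal.subset_span hq
    exact this
  choose ρ hρ using fun k => h.2 ((1 : B₀ ⊗[A₀] A) ⊗ₜ[B₀] c k)
  have hrel : ∀ q ∈ Q, MvPolynomial.aeval ρ q = 0 := by
    intro q hq
    apply h.1
    rw [map_zero]
    have e1 : algebraMap (B₀ ⊗[A₀] A) ((B₀ ⊗[A₀] A) ⊗[B₀] C₀) (MvPolynomial.aeval ρ q) =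
        MvPolynomial.aeval (fun k => algebraMap (B₀ ⊗[A₀] A) ((B₀ ⊗[A₀] A) ⊗[B₀] C₀) (ρ k)) q :=
      MvPolynomial.comp_aeval_apply ρ
        (IsScalarTower.toAlgHom B₀ (B₀ ⊗[A₀] A) ((B₀ ⊗[A₀] A) ⊗[B₀] C₀)) q
    have e2 : MvPolynomial.aeval (fun k => (1 : B₀ ⊗[A₀] A) ⊗ₜ[B₀] c k) q =
        (Algebra.TensorProduct.includeRight : C₀ →ₐ[B₀] (B₀ ⊗[A₀] A) ⊗[B₀] C₀)
          (MvPolynomial.aeval c q) := by
      rw [MvPolynomial.comp_aeval_apply]; rfl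
    rw [e1, funext hρ, e2, ← hφc, hQ0 q hq, map_zero]
  obtain ⟨i₀, ρ', hρ'⟩ := lift_R f hg hsurj B₀ ρ
  obtain ⟨j₁, θ₁, hθ₁, hkill₁⟩ := kill_R f hg hsurj hker B₀ i₀
    (Q.image fun q => MvPolynomial.aeval ρ' q) (by
      intro w hw
      obtain ⟨q, hq, rfl⟩ := Finset.mem_image.mp hw
      rw [MvPolynomial.comp_aeval_apply, funext hρ', hrel q hq])
  obtain ⟨j₂, θ₂, -, hj⟩ := exists_stage_gens f hg hsurj hker B₀ C₀ c j₁
    (fun k => Rmap B₀ θ₁ (ρ' k)) (fun k => by rw [Rmap_adm B₀ hθ₁, hρ' k, hρ k])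
  let ρ₂ : Fin n → B₀ ⊗[A₀] G j₂ := fun k => Rmap B₀ θ₂ (Rmap B₀ θ₁ (ρ' k))
  have hker₂ : ∀ a ∈ RingHom.ker φ, MvPolynomial.aeval ρ₂ a = 0 := by
    have hle : Ideal.span (Q : Set (MvPolynomial (Fin n) B₀)) ≤
        RingHom.ker (MvPolynomial.aeval ρ₂ : MvPolynomial (Fin n) B₀ →ₐ[B₀] B₀ ⊗[A₀] G j₂) := by
      refine Ideal.span_le.mpr fun q hq => ?_
      have h1 := hkill₁ _ (Finset.mem_image_of_mem _ hq)
      have h2 : MvPolynomial.aeval ρ₂ q =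
          Rmap B₀ θ₂ (Rmap B₀ θ₁ (MvPolynomial.aeval ρ' q)) := by
        rw [MvPolynomial.comp_aeval_apply, MvPolynomial.comp_aeval_apply]
      show MvPolynomial.aeval ρ₂ q = 0
      rw [h2, h1, map_zero]
    intro a ha
    have : a ∈ Ideal.span (Q : Set (MvPolynomial (Fin n) B₀)) := by rw [hQ]; exact ha
    exact hle this
  let ψ : C₀ →ₐ[B₀] B₀ ⊗[A₀] G j₂ :=
    (Ideal.Quotient.liftₐ (RingHom.ker φ) (MvPolynomial.aeval ρ₂) hker₂).comp
      (Ideal.quotientKerAlgEquivOfSurjective hφ).symm.toAlgHom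
  refine ⟨j₂, injective_of_algHom _ ψ, surjective_of_gens _ hs ?_⟩
  rintro _ ⟨k, rfl⟩
  exact ⟨_, hj k⟩

section Tmap

variable {B₀ C₀}

/-- Ring-level version of `Pmap` for `P = C₀`. -/
noncomputable abbrev Tmap {G₁ G₂ : Type u} [CommRing G₁] [Algebra A₀ G₁] [CommRing G₂]
    [Algebra A₀ G₂] (θ : G₁ →ₐ[A₀] G₂) :
    (B₀ ⊗[A₀] G₁) ⊗[B₀] C₀ →ₐ[B₀] (B₀ ⊗[A₀] G₂) ⊗[B₀] C₀ :=
  Algebra.TensorProduct.map (Rmap B₀ θ) (AlgHom.id B₀ C₀)

lemma Tmap_apply {G₁ G₂ : Type u} [CommRing G₁] [Algebra A₀ G₁] [CommRing G₂]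
    [Algebra A₀ G₂] (θ : G₁ →ₐ[A₀] G₂) (z : (B₀ ⊗[A₀] G₁) ⊗[B₀] C₀) :
    Tmap (C₀ := C₀) θ z = Pmap B₀ C₀ θ z := by
  induction z using TensorProduct.induction_on with
  | zero => simp
  | tmul r c => simp
  | add x y hx hy => simp only [map_add, hx, hy]

lemma Tmap_aeval {G₁ G₂ : Type u} [CommRing G₁] [Algebra A₀ G₁] [CommRing G₂]
    [Algebra A₀ G₂] (θ : G₁ →ₐ[A₀] G₂) (t : (B₀ ⊗[A₀] G₁) ⊗[B₀] C₀)
    (q : Polynomial (B₀ ⊗[A₀] G₁)) :
    Tmap (B₀ := B₀) (C₀ := C₀) θ (Polynomial.aeval t q) =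
      Polynomial.aeval (Tmap (B₀ := B₀) (C₀ := C₀) θ t)
        (q.map (Rmap B₀ θ).toRingHom) := by
  have h : (algebraMap (B₀ ⊗[A₀] G₂) ((B₀ ⊗[A₀] G₂) ⊗[B₀] C₀)).comp (Rmap B₀ θ).toRingHom =
      (Tmap (B₀ := B₀) (C₀ := C₀) θ).toRingHom.comp
        (algebraMap (B₀ ⊗[A₀] G₁) ((B₀ ⊗[A₀] G₁) ⊗[B₀] C₀)) := by
    refine RingHom.ext fun r => ?_
    simp [Algebra.TensorProduct.algebraMap_apply]
  exact Polynomial.map_aeval_eq_aeval_map h q t

end Tmap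

include hg hsurj hker in
theorem finite_descends [Algebra.FiniteType B₀ C₀]
    (h : Module.Finite (B₀ ⊗[A₀] A) ((B₀ ⊗[A₀] A) ⊗[B₀] C₀)) :
    ∃ i, Module.Finite (B₀ ⊗[A₀] G i) ((B₀ ⊗[A₀] G i) ⊗[B₀] C₀) := by
  classical
  obtain ⟨s, hs⟩ := (Algebra.FiniteType.out (R := B₀) (A := C₀))
  have hint : ∀ c : s, IsIntegral (B₀ ⊗[A₀] A) ((1 : B₀ ⊗[A₀] A) ⊗ₜ[B₀] (c : C₀)) :=
    fun c => IsIntegral.of_finite _ _
  choose p hpm hp0 using hint
  obtain ⟨i₀, a', ha'⟩ := lift_R f hg hsurj B₀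
    (fun x : (Σ c : s, Fin ((p c).natDegree + 1)) => (p x.1).coeff x.2)
  have hl : ∀ c, p c ∈ Polynomial.lifts (Rmap B₀ (g i₀) : B₀ ⊗[A₀] G i₀ →+* B₀ ⊗[A₀] A) := by
    intro c
    rw [Polynomial.lifts_iff_coeff_lifts]
    intro m
    by_cases hm : m < (p c).natDegree + 1
    · exact ⟨a' ⟨c, ⟨m, hm⟩⟩, ha' ⟨c, ⟨m, hm⟩⟩⟩
    · exact ⟨0, by rw [map_zero, Polynomial.coeff_eq_zero_of_natDegree_lt (by omega)]⟩
  choose q hq _ hqm using fun c => Polynomial.lifts_and_natDegree_eq_and_monic (hl c) (hpm c)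
  obtain ⟨j, θ, hθ, hkill⟩ := kill_P f hg hsurj hker B₀ C₀ i₀
    (Finset.univ.image fun c : s =>
      Polynomial.aeval ((1 : B₀ ⊗[A₀] G i₀) ⊗ₜ[B₀] (c : C₀)) (q c)) (by
      intro w hw
      obtain ⟨c, _, rfl⟩ := Finset.mem_image.mp hw
      rw [← Tmap_apply, Tmap_aeval]
      have hq' : (q c).map (Rmap B₀ (g i₀)).toRingHom = p c := hq c
      rw [hq']
      simpa [Polynomial.aeval_def] using hp0 c)
  refine ⟨j, finite_of_gens _ hs fun c hc => ?_⟩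
  refine ⟨(q ⟨c, hc⟩).map (Rmap B₀ θ).toRingHom, (hqm _).map _, ?_⟩
  have := hkill _ (Finset.mem_image_of_mem _ (Finset.mem_univ ⟨c, hc⟩))
  rw [← Tmap_apply, Tmap_aeval] at this
  simpa [Polynomial.aeval_def] using this

attribute [local instance] Algebra.TensorProduct.rightAlgebra in
include hg hsurj hker in
/-- Formal unramifiedness descends to a stage and holds at all later admissible stages. -/
theorem unramified_stage [Algebra.FiniteType B₀ C₀]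
    (h : Algebra.FormallyUnramified (B₀ ⊗[A₀] A) ((B₀ ⊗[A₀] A) ⊗[B₀] C₀)) :
    ∃ j, ∀ (k : ι) (θ : G j →ₐ[A₀] G k), Adm g j k θ →
      Algebra.FormallyUnramified (B₀ ⊗[A₀] G k) ((B₀ ⊗[A₀] G k) ⊗[B₀] C₀) := by
  classical
  obtain ⟨s, hs⟩ := (Algebra.FiniteType.out (R := B₀) (A := C₀))
  have hsub : Subsingleton ((B₀ ⊗[A₀] A) ⊗[B₀] Ω[C₀⁄B₀]) :=
    (KaehlerDifferential.tensorKaehlerEquivBase B₀ (B₀ ⊗[A₀] A) C₀
      ((B₀ ⊗[A₀] A) ⊗[B₀] C₀)).toEquiv.subsingleton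
  obtain ⟨i₀⟩ := ‹Nonempty ι›
  obtain ⟨j, θ, hθ, hkill⟩ := kill_P f hg hsurj hker B₀ Ω[C₀⁄B₀] i₀
    (s.image fun c => (1 : B₀ ⊗[A₀] G i₀) ⊗ₜ[B₀] KaehlerDifferential.D B₀ C₀ c)
    (fun w _ => Subsingleton.elim _ _)
  refine ⟨j, fun k θ' _ => ?_⟩
  refine formallyUnramified_of_gens _ hs fun c hc => ?_
  have h1 := hkill _ (Finset.mem_image_of_mem _ hc)
  rw [Pmap_tmul, map_one] at h1
  have h1' := congrArg (Pmap B₀ Ω[C₀⁄B₀] θ') h1
  rw [Pmap_tmul, map_one, map_zero] at h1'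
  have h2 := KaehlerDifferential.tensorKaehlerEquivBase_tmul B₀ (B₀ ⊗[A₀] G k) C₀
    ((B₀ ⊗[A₀] G k) ⊗[B₀] C₀) 1 (KaehlerDifferential.D B₀ C₀ c)
  rw [h1', map_zero, one_smul, KaehlerDifferential.map_D] at h2
  exact h2.symm

include hg hsurj hker in
theorem unramified_descends [Algebra.FiniteType B₀ C₀]
    (h : Algebra.Unramified (B₀ ⊗[A₀] A) ((B₀ ⊗[A₀] A) ⊗[B₀] C₀)) :
    ∃ i, Algebra.Unramified (B₀ ⊗[A₀] G i) ((B₀ ⊗[A₀] G i) ⊗[B₀] C₀) := by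
  obtain ⟨j, hj⟩ := unramified_stage f hg hsurj hker B₀ C₀ h.formallyUnramified
  have := hj j (AlgHom.id A₀ (G j)) (Adm.refl j)
  exact ⟨j, {}⟩

end Main


end Groth.Agent.Helper29.ColimTensor
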