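import Mathlib

/-!
# Equational witnesses for formal smoothness of a finitely presented algebra
-/

namespace Groth.Agent.Helper29.SmoothWit

universe u

open MvPolynomial Pointwise

section General

variable {R' S : Type u} [CommRing R'] [CommRing S] [Algebra R' S] {n m : ℕ}

/-- first defect: `h(r_j) - ∑ u_{j,ab} r_a r_b`. -/
noncomputable def E1 (r : Fin m → MvPolynomial (Fin n) R') (h : Fin n → MvPolynomial (Fin n) R')
    (u : Fin m → Fin m × Fin m → MvPolynomial (Fin n) R') (j : Fin m) : MvPolynomial (Fin n) R' :=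
  aeval h (r j) - ∑ ab, u j ab * (r ab.1 * r ab.2)

/-- second defect: `h_i - X_i - ∑ v_{i,a} r_a`. -/
noncomputable def E2 (r : Fin m → MvPolynomial (Fin n) R') (h : Fin n → MvPolynomial (Fin n) R')
    (v : Fin n → Fin m → MvPolynomial (Fin n) R') (i : Fin n) : MvPolynomial (Fin n) R' :=
  h i - X i - ∑ a, v i a * r a

lemma mem_span_sq {P : Type u} [CommRing P] (r : Fin m → P) (x : P)
    (hx : x ∈ (Ideal.span (Set.range r)) ^ 2) :
    ∃ c : Fin m × Fin m → P, ∑ ab, c ab * (r ab.1 * r ab.2) = x := by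
  have hset : Set.range r * Set.range r = Set.range (fun ab : Fin m × Fin m => r ab.1 * r ab.2) := by
    ext y
    simp only [Set.mem_mul, Set.mem_range]
    constructor
    · rintro ⟨_, ⟨a, rfl⟩, _, ⟨b, rfl⟩, rfl⟩
      exact ⟨(a, b), rfl⟩
    · rintro ⟨⟨a, b⟩, rfl⟩
      exact ⟨_, ⟨a, rfl⟩, _, ⟨b, rfl⟩, rfl⟩
  rw [pow_two, Ideal.span_mul_span', hset] at hx
  exact Ideal.mem_span_range_iff_exists_fun.mp hx

variable (Q : Algebra.Presentation R' S (Fin n) (Fin m))

theorem exists_witness [Algebra.FormallySmooth R' S] :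
    ∃ (h : Fin n → MvPolynomial (Fin n) R')
      (u : Fin m → Fin m × Fin m → MvPolynomial (Fin n) R')
      (v : Fin n → Fin m → MvPolynomial (Fin n) R'),
      (∀ j, E1 Q.relation h u j = 0) ∧ ∀ i, E2 Q.relation h v i = 0 := by
  let f : Q.Ring →ₐ[R'] S := IsScalarTower.toAlgHom R' Q.Ring S
  have hf : Function.Surjective f := Q.algebraMap_surjective
  have hkerf : RingHom.ker f = Ideal.span (Set.range Q.relation) :=
    Q.span_range_relation_eq_ker.symm
  obtain ⟨(σ : S →ₐ[R'] MvPolynomial (Fin n) R' ⧸ RingHom.ker f ^ 2), hsig⟩ :=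
    (Algebra.FormallySmooth.iff_split_surjection f hf).mp inferInstance
  have (i : _) := Ideal.Quotient.mk_surjective (σ <| Q.val i)
  choose h hh using this
  have hdiag : (Ideal.Quotient.mkₐ _ _).comp (aeval h) = σ.comp (aeval Q.val) :=
    algHom_ext (by simp [hh])
  have h1 (j : _) : Ideal.Quotient.mk (RingHom.ker f ^ 2) (aeval h (Q.relation j)) = 0 := by
    suffices ho : σ (aeval Q.val (Q.relation j)) = 0 by
      convert! ho
      exact congr($hdiag _)
    simp
  simp_rw [Ideal.Quotient.eq_zero_iff_mem, hkerf] at h1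
  have hsig' (i : _) : f (h i) = Q.val i := by
    rw [← AlgHom.kerSquareLift_mk]
    exact hh i ▸ congr($hsig (Q.val i))
  have h2 (i : Fin n) : h i - X i ∈ Ideal.span (Set.range Q.relation) := by
    rw [← hkerf, RingHom.mem_ker, map_sub, sub_eq_zero, hsig' i]
    simp [f]
  choose u hu using fun j => mem_span_sq Q.relation _ (h1 j)
  choose v hv using fun i => Ideal.mem_span_range_iff_exists_fun.mp (h2 i)
  refine ⟨h, u, v, fun j => ?_, fun i => ?_⟩
  · rw [E1, hu j, sub_self]
  · rw [E2, hv i, sub_self]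

theorem formallySmooth_of_witness (h : Fin n → MvPolynomial (Fin n) R')
    (u : Fin m → Fin m × Fin m → MvPolynomial (Fin n) R')
    (v : Fin n → Fin m → MvPolynomial (Fin n) R')
    (h1 : ∀ j, E1 Q.relation h u j = 0) (h2 : ∀ i, E2 Q.relation h v i = 0) :
    Algebra.FormallySmooth R' S := by
  let f : Q.Ring →ₐ[R'] S := IsScalarTower.toAlgHom R' Q.Ring S
  have hf : Function.Surjective f := Q.algebraMap_surjective
  have hkerf : RingHom.ker f = Ideal.span (Set.range Q.relation) :=
    Q.span_range_relation_eq_ker.symm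
  have hrel : ∀ a, Q.relation a ∈ RingHom.ker f := fun a => by
    rw [hkerf]; exact Ideal.subset_span ⟨a, rfl⟩
  -- the map `P → P / ker²` given by `h` kills `ker f`
  have hkill : ∀ a ∈ RingHom.ker f,
      ((Ideal.Quotient.mkₐ R' (RingHom.ker f.toRingHom ^ 2)).comp (aeval h)) a = 0 := by
    have hle : Ideal.span (Set.range Q.relation) ≤
        Ideal.comap (aeval h : MvPolynomial (Fin n) R' →ₐ[R'] MvPolynomial (Fin n) R')
          (RingHom.ker f.toRingHom ^ 2) := by
      refine Ideal.span_le.mpr ?_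
      rintro _ ⟨j, rfl⟩
      show aeval h (Q.relation j) ∈ RingHom.ker f.toRingHom ^ 2
      have := h1 j
      rw [E1, sub_eq_zero] at this
      rw [this]
      refine Ideal.sum_mem _ fun ab _ => Ideal.mul_mem_left _ _ ?_
      rw [pow_two]
      exact Ideal.mul_mem_mul (hrel _) (hrel _)
    intro a ha
    rw [hkerf] at ha
    exact Ideal.Quotient.eq_zero_iff_mem.mpr (hle ha)
  let σ₀ : S →ₐ[R'] MvPolynomial (Fin n) R' ⧸ RingHom.ker f.toRingHom ^ 2 :=
    (Ideal.Quotient.liftₐ (RingHom.ker f) _ hkill).comp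
      (Ideal.quotientKerAlgEquivOfSurjective hf).symm.toAlgHom
  have hσ₀ : ∀ x, σ₀ (f x) = Ideal.Quotient.mk _ (aeval h x) := by
    intro x
    have : (Ideal.quotientKerAlgEquivOfSurjective hf).symm (f x) = Ideal.Quotient.mk _ x := by
      rw [AlgEquiv.symm_apply_eq]
      rfl
    show (Ideal.Quotient.liftₐ (RingHom.ker f) _ hkill)
      ((Ideal.quotientKerAlgEquivOfSurjective hf).symm (f x)) = _
    rw [this]
    rfl
  refine Algebra.FormallySmooth.of_split f σ₀ ?_
  rw [← AlgHom.cancel_right hf]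
  refine MvPolynomial.algHom_ext fun i => ?_
  show f.kerSquareLift (σ₀ (f (X i))) = f (X i)
  rw [hσ₀, aeval_X, AlgHom.kerSquareLift_mk]
  have := h2 i
  rw [E2, sub_eq_zero] at this
  have h3 : h i = X i + ∑ a, v i a * Q.relation a := by rw [← this]; ring
  rw [h3, map_add, map_sum]
  simp only [map_mul]
  have hz : ∀ a, f (Q.relation a) = 0 := fun a => hrel a
  simp [hz]

end General

end Groth.Agent.Helper29.SmoothWit
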