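import Mathlib
import Groth.Agent.Lib.Helper29.ColimTensor
import Groth.Agent.Lib.Helper29.SmoothWit

/-!
# Smoothness descends to a stage of a (weak) directed system
-/

namespace Groth.Agent.Helper29.SmoothStage

universe u

set_option linter.unusedSectionVars false

open TensorProduct MvPolynomial
open Groth.Agent.Helper29.ColimTensor Groth.Agent.Helper29.SmoothWit

section Map

variable {R' R'' : Type u} [CommRing R'] [CommRing R''] (φ : R' →+* R'') {n m : ℕ}

lemma map_aeval' (h : Fin n → MvPolynomial (Fin n) R') (r : MvPolynomial (Fin n) R') :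
    MvPolynomial.map φ (aeval h r) =
      aeval (fun i => MvPolynomial.map φ (h i)) (MvPolynomial.map φ r) := by
  induction r using MvPolynomial.induction_on with
  | C a => simp
  | add p q hp hq => simp only [map_add, hp, hq]
  | mul_X p i hp => simp only [map_mul, hp, aeval_X, map_X]

lemma map_E1 (r : Fin m → MvPolynomial (Fin n) R') (h : Fin n → MvPolynomial (Fin n) R')
    (u : Fin m → Fin m × Fin m → MvPolynomial (Fin n) R') (j : Fin m) :
    MvPolynomial.map φ (E1 r h u j) =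
      E1 (fun a => MvPolynomial.map φ (r a)) (fun i => MvPolynomial.map φ (h i))
        (fun j ab => MvPolynomial.map φ (u j ab)) j := by
  simp only [E1, map_sub, map_sum, map_mul, map_aeval']

lemma map_E2 (r : Fin m → MvPolynomial (Fin n) R') (h : Fin n → MvPolynomial (Fin n) R')
    (v : Fin n → Fin m → MvPolynomial (Fin n) R') (i : Fin n) :
    MvPolynomial.map φ (E2 r h v i) =
      E2 (fun a => MvPolynomial.map φ (r a)) (fun i => MvPolynomial.map φ (h i))
        (fun i a => MvPolynomial.map φ (v i a)) i := by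
  simp only [E2, map_sub, map_sum, map_mul, map_X]

end Map

section Wit

variable {B₀ C₀ : Type u} [CommRing B₀] [CommRing C₀] [Algebra B₀ C₀] {n m : ℕ}
  (P : Algebra.Presentation B₀ C₀ (Fin n) (Fin m))

/-- The relations of `P`, base changed to `R'`. -/
noncomputable def rel (R' : Type u) [CommRing R'] [Algebra B₀ R'] (j : Fin m) :
    MvPolynomial (Fin n) R' :=
  MvPolynomial.map (algebraMap B₀ R') (P.relation j)

lemma map_rel {R' R'' : Type u} [CommRing R'] [Algebra B₀ R'] [CommRing R''] [Algebra B₀ R'']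
    (φ : R' →ₐ[B₀] R'') (j : Fin m) :
    MvPolynomial.map φ.toRingHom (rel P R' j) = rel P R'' j := by
  rw [rel, rel, MvPolynomial.map_map]
  congr 2
  exact φ.comp_algebraMap

/-- Existence of an equational smoothness witness over `R'`. -/
def HasWit (R' : Type u) [CommRing R'] [Algebra B₀ R'] : Prop :=
  ∃ (h : Fin n → MvPolynomial (Fin n) R')
    (u : Fin m → Fin m × Fin m → MvPolynomial (Fin n) R')
    (v : Fin n → Fin m → MvPolynomial (Fin n) R'),
    (∀ j, E1 (rel P R') h u j = 0) ∧ ∀ i, E2 (rel P R') h v i = 0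

variable {P}

lemma HasWit.map {R' R'' : Type u} [CommRing R'] [Algebra B₀ R'] [CommRing R''] [Algebra B₀ R'']
    (φ : R' →ₐ[B₀] R'') (hw : HasWit P R') : HasWit P R'' := by
  obtain ⟨h, u, v, h1, h2⟩ := hw
  refine ⟨fun i => MvPolynomial.map φ.toRingHom (h i),
    fun j ab => MvPolynomial.map φ.toRingHom (u j ab),
    fun i a => MvPolynomial.map φ.toRingHom (v i a), fun j => ?_, fun i => ?_⟩
  · have := congrArg (MvPolynomial.map φ.toRingHom) (h1 j)
    rw [map_E1, map_zero] at this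
    rw [← this]
    congr 1
    exact funext fun a => (map_rel P φ a).symm
  · have := congrArg (MvPolynomial.map φ.toRingHom) (h2 i)
    rw [map_E2, map_zero] at this
    rw [← this]
    congr 1
    exact funext fun a => (map_rel P φ a).symm

lemma HasWit.formallySmooth {R' : Type u} [CommRing R'] [Algebra B₀ R'] (hw : HasWit P R') :
    Algebra.FormallySmooth R' (R' ⊗[B₀] C₀) := by
  obtain ⟨h, u, v, h1, h2⟩ := hw
  exact formallySmooth_of_witness (P.baseChange R') h u v h1 h2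

variable (P) in
lemma hasWit_of_formallySmooth (R' : Type u) [CommRing R'] [Algebra B₀ R']
    [Algebra.FormallySmooth R' (R' ⊗[B₀] C₀)] : HasWit P R' :=
  exists_witness (P.baseChange R')

end Wit

section Stage

variable {ι : Type u} [Preorder ι] [IsDirected ι (· ≤ ·)] [Nonempty ι]
    {A₀ : Type u} [CommRing A₀] {G : ι → Type u} [∀ i, CommRing (G i)] [∀ i, Algebra A₀ (G i)]
    (f : ∀ i j, i ≤ j → (G i →ₐ[A₀] G j)) {A : Type u} [CommRing A] [Algebra A₀ A]
    {g : ∀ i, G i →ₐ[A₀] A}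
    (hg : ∀ i j (h : i ≤ j), (g j).comp (f i j h) = g i)
    (hsurj : ∀ a : A, ∃ i, ∃ x : G i, g i x = a)
    (hker : ∀ i (x : G i), g i x = 0 → ∃ j, ∃ h : i ≤ j, f i j h x = 0)
    (B₀ : Type u) [CommRing B₀] [Algebra A₀ B₀]

include hg hsurj in
lemma lift_poly {σ : Type*} {κ : Type*} [Finite κ] (w : κ → MvPolynomial σ (B₀ ⊗[A₀] A)) :
    ∃ (j : ι) (w' : κ → MvPolynomial σ (B₀ ⊗[A₀] G j)),
      ∀ k, MvPolynomial.map (Rmap B₀ (g j)).toRingHom (w' k) = w k := by
  classical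
  obtain ⟨j, a', ha'⟩ := lift_R f hg hsurj B₀
    (fun x : (Σ k : κ, (w k).support) => (w x.1).coeff x.2)
  have hmem : ∀ k, w k ∈ Set.range (MvPolynomial.map (σ := σ) (Rmap B₀ (g j)).toRingHom) := by
    intro k
    rw [MvPolynomial.mem_range_map_iff_coeffs_subset]
    intro c hc
    obtain ⟨mm, hmm, rfl⟩ := MvPolynomial.mem_coeffs_iff.mp hc
    exact ⟨a' ⟨k, ⟨mm, hmm⟩⟩, ha' ⟨k, ⟨mm, hmm⟩⟩⟩
  choose w' hw' using hmem
  exact ⟨j, w', hw'⟩

include hg hsurj hker in
lemma kill_poly {σ : Type*} (i : ι) (Z : Finset (MvPolynomial σ (B₀ ⊗[A₀] G i)))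
    (hZ : ∀ z ∈ Z, MvPolynomial.map (Rmap B₀ (g i)).toRingHom z = 0) :
    ∃ (j : ι) (θ : G i →ₐ[A₀] G j), Adm g i j θ ∧
      ∀ z ∈ Z, MvPolynomial.map (Rmap B₀ θ).toRingHom z = 0 := by
  classical
  obtain ⟨j, θ, hθ, hkill⟩ := kill_R f hg hsurj hker B₀ i
    (Z.biUnion fun z => z.support.image fun mm => z.coeff mm) (by
      intro c hc
      obtain ⟨z, hz, hc⟩ := Finset.mem_biUnion.mp hc
      obtain ⟨mm, _, rfl⟩ := Finset.mem_image.mp hc
      have := congrArg (MvPolynomial.coeff mm) (hZ z hz)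
      rwa [MvPolynomial.coeff_map, MvPolynomial.coeff_zero] at this)
  refine ⟨j, θ, hθ, fun z hz => ?_⟩
  ext mm
  rw [MvPolynomial.coeff_map, MvPolynomial.coeff_zero]
  by_cases hmm : mm ∈ z.support
  · exact hkill _ (Finset.mem_biUnion.mpr ⟨z, hz, Finset.mem_image_of_mem _ hmm⟩)
  · rw [MvPolynomial.notMem_support_iff.mp hmm, map_zero]

variable {C₀ : Type u} [CommRing C₀] [Algebra B₀ C₀] {n m : ℕ}
  (P : Algebra.Presentation B₀ C₀ (Fin n) (Fin m))

include hg hsurj hker in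
theorem wit_descends (hw : HasWit P (B₀ ⊗[A₀] A)) : ∃ j, HasWit P (B₀ ⊗[A₀] G j) := by
  classical
  obtain ⟨h, u, v, h1, h2⟩ := hw
  obtain ⟨j₀, w', hw'⟩ := lift_poly f hg hsurj B₀
    (Sum.elim h (Sum.elim (fun x : Fin m × (Fin m × Fin m) => u x.1 x.2)
      (fun x : Fin n × Fin m => v x.1 x.2)))
  let h' : Fin n → MvPolynomial (Fin n) (B₀ ⊗[A₀] G j₀) := fun i => w' (Sum.inl i)
  let u' : Fin m → Fin m × Fin m → MvPolynomial (Fin n) (B₀ ⊗[A₀] G j₀) :=
    fun j ab => w' (Sum.inr (Sum.inl (j, ab)))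
  let v' : Fin n → Fin m → MvPolynomial (Fin n) (B₀ ⊗[A₀] G j₀) :=
    fun i a => w' (Sum.inr (Sum.inr (i, a)))
  have hh' : ∀ i, MvPolynomial.map (Rmap B₀ (g j₀)).toRingHom (h' i) = h i :=
    fun i => hw' (Sum.inl i)
  have hu' : ∀ j ab, MvPolynomial.map (Rmap B₀ (g j₀)).toRingHom (u' j ab) = u j ab :=
    fun j ab => hw' (Sum.inr (Sum.inl (j, ab)))
  have hv' : ∀ i a, MvPolynomial.map (Rmap B₀ (g j₀)).toRingHom (v' i a) = v i a :=
    fun i a => hw' (Sum.inr (Sum.inr (i, a)))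
  obtain ⟨j, θ, hθ, hkill⟩ := kill_poly f hg hsurj hker B₀ j₀
    ((Finset.univ.image fun j => E1 (rel P (B₀ ⊗[A₀] G j₀)) h' u' j) ∪
      (Finset.univ.image fun i => E2 (rel P (B₀ ⊗[A₀] G j₀)) h' v' i)) (by
      intro z hz
      rcases Finset.mem_union.mp hz with hz | hz
      · obtain ⟨j, _, rfl⟩ := Finset.mem_image.mp hz
        rw [map_E1, ← h1 j]
        congr 1
        · exact funext fun a => map_rel P (Rmap B₀ (g j₀)) a
        · exact funext hh'
        · exact funext fun j => funext fun ab => hu' j ab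
      · obtain ⟨i, _, rfl⟩ := Finset.mem_image.mp hz
        rw [map_E2, ← h2 i]
        congr 1
        · exact funext fun a => map_rel P (Rmap B₀ (g j₀)) a
        · exact funext hh'
        · exact funext fun i => funext fun a => hv' i a)
  refine ⟨j, fun i => MvPolynomial.map (Rmap B₀ θ).toRingHom (h' i),
    fun j ab => MvPolynomial.map (Rmap B₀ θ).toRingHom (u' j ab),
    fun i a => MvPolynomial.map (Rmap B₀ θ).toRingHom (v' i a), fun j' => ?_, fun i => ?_⟩
  · have := hkill _ (Finset.mem_union_left _ (Finset.mem_image_of_mem _ (Finset.mem_univ j')))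
    rw [map_E1] at this
    rw [← this]
    congr 1
    exact funext fun a => (map_rel P (Rmap B₀ θ) a).symm
  · have := hkill _ (Finset.mem_union_right _ (Finset.mem_image_of_mem _ (Finset.mem_univ i)))
    rw [map_E2] at this
    rw [← this]
    congr 1
    exact funext fun a => (map_rel P (Rmap B₀ θ) a).symm

end Stage

section Main

variable {ι : Type u} [Preorder ι] [IsDirected ι (· ≤ ·)] [Nonempty ι]
    {A₀ : Type u} [CommRing A₀] {G : ι → Type u} [∀ i, CommRing (G i)] [∀ i, Algebra A₀ (G i)]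
    (f : ∀ i j, i ≤ j → (G i →ₐ[A₀] G j)) {A : Type u} [CommRing A] [Algebra A₀ A]
    {g : ∀ i, G i →ₐ[A₀] A}
    (hg : ∀ i j (h : i ≤ j), (g j).comp (f i j h) = g i)
    (hsurj : ∀ a : A, ∃ i, ∃ x : G i, g i x = a)
    (hker : ∀ i (x : G i), g i x = 0 → ∃ j, ∃ h : i ≤ j, f i j h x = 0)
    (B₀ : Type u) [CommRing B₀] [Algebra A₀ B₀] (C₀ : Type u) [CommRing C₀] [Algebra A₀ C₀]
    [Algebra B₀ C₀] [IsScalarTower A₀ B₀ C₀]

include hg hsurj hker in
/-- Smoothness descends to a stage, and then holds at all later admissible stages. -/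
theorem smooth_stage [Algebra.FinitePresentation B₀ C₀]
    (h : Algebra.Smooth (B₀ ⊗[A₀] A) ((B₀ ⊗[A₀] A) ⊗[B₀] C₀)) :
    ∃ j, ∀ (k : ι) (θ : G j →ₐ[A₀] G k), Adm g j k θ →
      Algebra.Smooth (B₀ ⊗[A₀] G k) ((B₀ ⊗[A₀] G k) ⊗[B₀] C₀) := by
  obtain ⟨n, m, ⟨P⟩⟩ := Algebra.Presentation.exists_presentation_fin B₀ C₀
  obtain ⟨j, hj⟩ := wit_descends f hg hsurj hker B₀ P
    (hasWit_of_formallySmooth P (B₀ ⊗[A₀] A))
  refine ⟨j, fun k θ _ => ?_⟩
  have := (hj.map (Rmap B₀ θ)).formallySmooth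
  exact {}

include hg hsurj hker in
theorem smooth_descends [Algebra.FinitePresentation B₀ C₀]
    (h : Algebra.Smooth (B₀ ⊗[A₀] A) ((B₀ ⊗[A₀] A) ⊗[B₀] C₀)) :
    ∃ i, Algebra.Smooth (B₀ ⊗[A₀] G i) ((B₀ ⊗[A₀] G i) ⊗[B₀] C₀) := by
  obtain ⟨j, hj⟩ := smooth_stage f hg hsurj hker B₀ C₀ h
  exact ⟨j, hj j (AlgHom.id A₀ (G j)) (Adm.refl j)⟩

include hg hsurj hker in
theorem etale_descends [Algebra.FinitePresentation B₀ C₀]
    (h : Algebra.Etale (B₀ ⊗[A₀] A) ((B₀ ⊗[A₀] A) ⊗[B₀] C₀)) :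
    ∃ i, Algebra.Etale (B₀ ⊗[A₀] G i) ((B₀ ⊗[A₀] G i) ⊗[B₀] C₀) := by
  obtain ⟨hu, hs⟩ := Algebra.Etale.iff_formallyUnramified_and_smooth.mp h
  obtain ⟨j₁, hj₁⟩ := smooth_stage f hg hsurj hker B₀ C₀ hs
  obtain ⟨j₂, hj₂⟩ := unramified_stage f hg hsurj hker B₀ C₀ hu
  obtain ⟨k, hk₁, hk₂⟩ := exists_ge_ge j₁ j₂
  exact ⟨k, Algebra.Etale.iff_formallyUnramified_and_smooth.mpr
    ⟨hj₂ k _ (Adm.of_f f hg hk₂), hj₁ k _ (Adm.of_f f hg hk₁)⟩⟩

end Main

end Groth.Agent.Helper29.SmoothStage
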