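import Mathlib
import Groth.Agent.Lib.Helper29.DAdjA

/-!
# The derived adjunction of an adjoint pair of exact functors

`L : B ⥤ A`, `R : A ⥤ B`, `adj : L ⊣ R`, both exact.  Then `L.mapDerivedCategory ⊣ R.mapDerivedCategory`;
if the counit of `adj` is an isomorphism then `R.mapDerivedCategory` is fully faithful and its
essential image consists of the objects all of whose cohomology objects `H` have `H ⟶ R L H` iso.
-/

set_option autoImplicit false

namespace Groth.Agent.Helper29.DExAdj

open CategoryTheory Limits DerivedCategory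

universe w' w v u v' u'

variable {A : Type u} [Category.{v} A] [Abelian A] {B : Type u'} [Category.{v'} B] [Abelian B]
  [HasDerivedCategory.{w} A] [HasDerivedCategory.{w'} B]
  {L : B ⥤ A} {R : A ⥤ B} (adj : L ⊣ R) [L.Additive] [R.Additive]
  [PreservesFiniteLimits L] [PreservesFiniteColimits L]
  [PreservesFiniteLimits R] [PreservesFiniteColimits R]

noncomputable instance catCommSqL :
    CatCommSq (L.mapHomologicalComplex (ComplexShape.up ℤ)) (Q : _ ⥤ DerivedCategory B)
      (Q : _ ⥤ DerivedCategory A) L.mapDerivedCategory :=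
  ⟨L.mapDerivedCategoryFactors.symm⟩

noncomputable instance catCommSqR :
    CatCommSq (R.mapHomologicalComplex (ComplexShape.up ℤ)) (Q : _ ⥤ DerivedCategory A)
      (Q : _ ⥤ DerivedCategory B) R.mapDerivedCategory :=
  ⟨R.mapDerivedCategoryFactors.symm⟩

/-- the derived adjunction -/
noncomputable def dAdj : L.mapDerivedCategory ⊣ R.mapDerivedCategory :=
  (DAdjA.cxAdj adj (ComplexShape.up ℤ)).localization
    (Q : _ ⥤ DerivedCategory B) (HomologicalComplex.quasiIso B (ComplexShape.up ℤ))
    (Q : _ ⥤ DerivedCategory A) (HomologicalComplex.quasiIso A (ComplexShape.up ℤ))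
    L.mapDerivedCategory R.mapDerivedCategory

lemma dAdj_unit_app (M : CochainComplex B ℤ) :
    (dAdj adj).unit.app (Q.obj M) =
      Q.map (DAdjA.unitCx adj (ComplexShape.up ℤ) M) ≫
        R.mapDerivedCategoryFactors.inv.app _ ≫
        R.mapDerivedCategory.map (L.mapDerivedCategoryFactors.inv.app M) := by
  unfold dAdj
  rw [Adjunction.localization_unit_app]
  rfl

lemma dAdj_counit_app (N : CochainComplex A ℤ) :
    (dAdj adj).counit.app (Q.obj N) =
      L.mapDerivedCategory.map (R.mapDerivedCategoryFactors.hom.app N) ≫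
        L.mapDerivedCategoryFactors.hom.app _ ≫
        Q.map (DAdjA.counitCx adj (ComplexShape.up ℤ) N) := by
  unfold dAdj
  rw [Adjunction.localization_counit_app]
  rfl

lemma isIso_unit_app_iff (M : CochainComplex B ℤ) :
    IsIso ((dAdj adj).unit.app (Q.obj M)) ↔ QuasiIso (DAdjA.unitCx adj (ComplexShape.up ℤ) M) := by
  rw [dAdj_unit_app, ← isIso_Q_map_iff_quasiIso]
  constructor
  · intro h
    exact IsIso.of_isIso_comp_right _ (R.mapDerivedCategoryFactors.inv.app _ ≫
        R.mapDerivedCategory.map (L.mapDerivedCategoryFactors.inv.app M))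
  · intro h
    infer_instance

instance isIso_counit [IsIso adj.counit] : IsIso (dAdj adj).counit := by
  haveI : ∀ K : DerivedCategory A, IsIso ((dAdj adj).counit.app K) := by
    intro K
    let N := Q.objPreimage K
    let e : Q.obj N ≅ K := Q.objObjPreimageIso K
    haveI : IsIso (DAdjA.counitCx adj (ComplexShape.up ℤ) N) := by
      haveI : ∀ n, IsIso ((DAdjA.counitCx adj (ComplexShape.up ℤ) N).f n) := fun n => by
        rw [DAdjA.counitCx_f]; exact NatIso.isIso_app_of_isIso adj.counit _
      exact HomologicalComplex.Hom.isIso_of_components _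
    haveI : IsIso ((dAdj adj).counit.app (Q.obj N)) := by
      rw [dAdj_counit_app]; infer_instance
    have hnat := (dAdj adj).counit.naturality e.hom
    have : (dAdj adj).counit.app K = (R.mapDerivedCategory ⋙ L.mapDerivedCategory).map e.inv ≫
        (dAdj adj).counit.app (Q.obj N) ≫ e.hom := by
      rw [← Functor.id_map e.hom, ← hnat, ← Category.assoc, ← Functor.map_comp, e.inv_hom_id,
        CategoryTheory.Functor.map_id, Category.id_comp]
    rw [this]
    infer_instance
  exact NatIso.isIso_of_isIso_app _

theorem full [IsIso adj.counit] : R.mapDerivedCategory.Full :=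
  (dAdj adj).fullyFaithfulROfIsIsoCounit.full

theorem faithful [IsIso adj.counit] : R.mapDerivedCategory.Faithful :=
  (dAdj adj).fullyFaithfulROfIsIsoCounit.faithful

omit [HasDerivedCategory.{w} A] [HasDerivedCategory.{w'} B] [PreservesFiniteLimits L]
  [PreservesFiniteColimits L] [PreservesFiniteLimits R] [PreservesFiniteColimits R] in
/-- homology of the unit on complexes, for exact `L`, `R` -/
lemma isIso_homologyMap_unitCx_iff [PreservesFiniteLimits L] [PreservesFiniteColimits L]
    [PreservesFiniteLimits R] [PreservesFiniteColimits R] (M : CochainComplex B ℤ) (n : ℤ) :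
    IsIso (HomologicalComplex.homologyMap (DAdjA.unitCx adj (ComplexShape.up ℤ) M) n) ↔
      IsIso (adj.unit.app (M.homology n)) := by
  have h := NatTrans.app_homology adj.unit (M.sc n)
  have h2 : IsIso (HomologicalComplex.homologyMap (DAdjA.unitCx adj (ComplexShape.up ℤ) M) n) ↔
      IsIso (ShortComplex.homologyMap (S₁ := (M.sc n).map (𝟭 B)) (S₂ := (M.sc n).map (L ⋙ R))
        ((M.sc n).mapNatTrans adj.unit)) := Iff.rfl
  rw [h2]
  change _ ↔ IsIso (adj.unit.app (M.sc n).homology)
  rw [h]
  constructor
  · intro hh
    infer_instance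
  · intro hh
    haveI : IsIso (ShortComplex.homologyMap (S₁ := (M.sc n).map (𝟭 B))
        (S₂ := (M.sc n).map (L ⋙ R)) ((M.sc n).mapNatTrans adj.unit) ≫
        ((M.sc n).mapHomologyIso (L ⋙ R)).hom) :=
      IsIso.of_isIso_comp_left ((M.sc n).mapHomologyIso (𝟭 B)).inv _
    exact IsIso.of_isIso_comp_right _ ((M.sc n).mapHomologyIso (L ⋙ R)).hom

lemma isIso_unit_app_of_iso {K K' : DerivedCategory B} (e : K ≅ K') :
    IsIso ((dAdj adj).unit.app K) ↔ IsIso ((dAdj adj).unit.app K') := by
  have hnat := (dAdj adj).unit.naturality e.hom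
  simp only [Functor.id_map] at hnat
  constructor
  · intro h
    have : (dAdj adj).unit.app K' = e.inv ≫ (dAdj adj).unit.app K ≫
        (L.mapDerivedCategory ⋙ R.mapDerivedCategory).map e.hom := by
      rw [← hnat, e.inv_hom_id_assoc]
    rw [this]; infer_instance
  · intro h
    have : (dAdj adj).unit.app K = (e.hom ≫ (dAdj adj).unit.app K') ≫
        (L.mapDerivedCategory ⋙ R.mapDerivedCategory).map e.inv := by
      rw [hnat, Category.assoc, ← Functor.map_comp, e.hom_inv_id, CategoryTheory.Functor.map_id,
        Category.comp_id]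
    rw [this]; infer_instance

theorem essImage_iff [IsIso adj.counit] (K : DerivedCategory B) :
    R.mapDerivedCategory.essImage K ↔
      ∀ n : ℤ, IsIso (adj.unit.app ((DerivedCategory.homologyFunctor B n).obj K)) := by
  let M := Q.objPreimage K
  let e : Q.obj M ≅ K := Q.objObjPreimageIso K
  have hH : ∀ n : ℤ, IsIso (adj.unit.app ((DerivedCategory.homologyFunctor B n).obj K)) ↔
      IsIso (adj.unit.app (M.homology n)) := by
    intro n
    let en : (DerivedCategory.homologyFunctor B n).obj K ≅ M.homology n :=
      ((DerivedCategory.homologyFunctor B n).mapIso e).symm ≪≫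
        (DerivedCategory.homologyFunctorFactors B n).app M
    have hnat := adj.unit.naturality en.hom
    simp only [Functor.id_map] at hnat
    constructor
    · intro h
      have : adj.unit.app (M.homology n) = en.inv ≫ adj.unit.app _ ≫ (L ⋙ R).map en.hom := by
        rw [← hnat, en.inv_hom_id_assoc]
      rw [this]; infer_instance
    · intro h
      have : adj.unit.app ((DerivedCategory.homologyFunctor B n).obj K) =
          (en.hom ≫ adj.unit.app (M.homology n)) ≫ (L ⋙ R).map en.inv := by
        rw [hnat, Category.assoc, ← Functor.map_comp, en.hom_inv_id, CategoryTheory.Functor.map_id,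
          Category.comp_id]
      rw [this]; infer_instance
  have hU : IsIso ((dAdj adj).unit.app K) ↔
      ∀ n : ℤ, IsIso (adj.unit.app ((DerivedCategory.homologyFunctor B n).obj K)) := by
    rw [← isIso_unit_app_of_iso adj e, isIso_unit_app_iff, quasiIso_iff]
    refine forall_congr' fun n => ?_
    rw [quasiIsoAt_iff_isIso_homologyMap, isIso_homologyMap_unitCx_iff, hH]
  rw [← hU]
  constructor
  · rintro ⟨K', ⟨e'⟩⟩
    rw [← isIso_unit_app_of_iso adj e']
    have htri := (dAdj adj).right_triangle_components K'
    have : (dAdj adj).unit.app (R.mapDerivedCategory.obj K') =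
        inv (R.mapDerivedCategory.map ((dAdj adj).counit.app K')) := by
      rw [← cancel_mono (R.mapDerivedCategory.map ((dAdj adj).counit.app K')), htri,
        IsIso.inv_hom_id]
      rfl
    rw [this]
    infer_instance
  · intro h
    exact ⟨L.mapDerivedCategory.obj K, ⟨(asIso ((dAdj adj).unit.app K)).symm⟩⟩

end Groth.Agent.Helper29.DExAdj
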