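import Mathlib
import Groth.Agent.Lib.Helper29.DExAdj

/-!
# Ext groups and adjoint pairs of exact functors: `Ext^n(L X, Y) ≃+ Ext^n(X, R Y)`.
-/

set_option autoImplicit false

namespace Groth.Agent.Helper29.ExtAdj

open CategoryTheory Limits DerivedCategory

universe w w' v u v' u'

variable {A : Type u} [Category.{v} A] [Abelian A] {B : Type u'} [Category.{v'} B] [Abelian B]
  {L : B ⥤ A} {R : A ⥤ B} [L.Additive] [R.Additive]
  [PreservesFiniteLimits L] [PreservesFiniteColimits L]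
  [PreservesFiniteLimits R] [PreservesFiniteColimits R]

/-- additive bijection on Hom groups induced by isomorphisms of source and target. -/
def homAddCongr {C : Type*} [Category C] [Preadditive C] {X X' Y Y' : C} (e : X ≅ X') (e' : Y ≅ Y') :
    (X ⟶ Y) ≃+ (X' ⟶ Y') where
  toFun f := e.inv ≫ f ≫ e'.hom
  invFun g := e.hom ≫ g ≫ e'.inv
  left_inv f := by simp
  right_inv g := by simp
  map_add' f g := by simp

theorem nonempty_ext_addEquiv (adj : L ⊣ R) [HasExt.{w} A] [HasExt.{w'} B] (X : B) (Y : A) (n : ℕ) :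
    Nonempty (Abelian.Ext.{w} (L.obj X) Y n ≃+ Abelian.Ext.{w'} X (R.obj Y) n) := by
  letI : HasDerivedCategory A := HasDerivedCategory.standard A
  letI : HasDerivedCategory B := HasDerivedCategory.standard B
  let e1 := Abelian.Ext.homAddEquiv (X := L.obj X) (Y := Y) (n := n)
  let e4 := Abelian.Ext.homAddEquiv (X := X) (Y := R.obj Y) (n := n)
  let i1 : L.mapDerivedCategory.obj ((singleFunctor B 0).obj X) ≅
      (singleFunctor A 0).obj (L.obj X) := (L.mapDerivedCategorySingleFunctor 0).app X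
  let i2 : R.mapDerivedCategory.obj (((singleFunctor A 0).obj Y)⟦(n : ℤ)⟧) ≅
      ((singleFunctor B 0).obj (R.obj Y))⟦(n : ℤ)⟧ :=
    (R.mapDerivedCategory.commShiftIso (n : ℤ)).app _ ≪≫
      (shiftFunctor _ (n : ℤ)).mapIso ((R.mapDerivedCategorySingleFunctor 0).app Y)
  let e2 : ((singleFunctor A 0).obj (L.obj X) ⟶ ((singleFunctor A 0).obj Y)⟦(n : ℤ)⟧) ≃+
      (L.mapDerivedCategory.obj ((singleFunctor B 0).obj X) ⟶ ((singleFunctor A 0).obj Y)⟦(n : ℤ)⟧) :=
    homAddCongr i1.symm (Iso.refl _)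
  let e3 := (DExAdj.dAdj adj).homAddEquiv ((singleFunctor B 0).obj X)
    (((singleFunctor A 0).obj Y)⟦(n : ℤ)⟧)
  let e3' : ((singleFunctor B 0).obj X ⟶ R.mapDerivedCategory.obj (((singleFunctor A 0).obj Y)⟦(n : ℤ)⟧)) ≃+
      ((singleFunctor B 0).obj X ⟶ ((singleFunctor B 0).obj (R.obj Y))⟦(n : ℤ)⟧) :=
    homAddCongr (Iso.refl _) i2
  exact ⟨e1.trans (e2.trans (e3.trans (e3'.trans e4.symm)))⟩

end Groth.Agent.Helper29.ExtAdj

namespace Groth.Agent.Helper29.ExtAdj

open CategoryTheory Limits Abelian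

universe w v u

variable {A : Type u} [Category.{v} A] [Abelian A] [HasExt.{w} A]

/-- `Ext` is invariant under isomorphism in the second variable. -/
noncomputable def extAddEquivRight (X : A) {Y Y' : A} (e : Y ≅ Y') (n : ℕ) :
    Ext.{w} X Y n ≃+ Ext.{w} X Y' n where
  toFun α := α.comp (Ext.mk₀ e.hom) (add_zero n)
  invFun β := β.comp (Ext.mk₀ e.inv) (add_zero n)
  left_inv α := by
    dsimp only
    rw [Ext.comp_assoc_of_third_deg_zero, Ext.mk₀_comp_mk₀, e.hom_inv_id, Ext.comp_mk₀_id]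
  right_inv β := by
    dsimp only
    rw [Ext.comp_assoc_of_third_deg_zero, Ext.mk₀_comp_mk₀, e.inv_hom_id, Ext.comp_mk₀_id]
  map_add' α β := Ext.add_comp _ _ _ _

/-- `Ext` is invariant under isomorphism in the first variable. -/
noncomputable def extAddEquivLeft {X X' : A} (e : X ≅ X') (Y : A) (n : ℕ) :
    Ext.{w} X Y n ≃+ Ext.{w} X' Y n where
  toFun α := (Ext.mk₀ e.inv).comp α (zero_add n)
  invFun β := (Ext.mk₀ e.hom).comp β (zero_add n)
  left_inv α := by
    dsimp only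
    rw [Ext.mk₀_comp_mk₀_assoc, e.hom_inv_id, Ext.mk₀_id_comp]
  right_inv β := by
    dsimp only
    rw [Ext.mk₀_comp_mk₀_assoc, e.inv_hom_id, Ext.mk₀_id_comp]
  map_add' α β := Ext.comp_add _ _ _ _

end Groth.Agent.Helper29.ExtAdj
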