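import Mathlib
import Groth.Agent.S0016
import Groth.Agent.S0491
import Groth.Agent.Lib.Helper29.SHomC
import Groth.Agent.Lib.Helper29.ExtAdj
import Groth.Agent.Lib.Helper29.ShModGA
import Groth.Agent.Lib.Helper13.ResFinLocFree
import Groth.Agent.Lib.Helper13.TensorQCoh
import Groth.Agent.Lib.Helper13.TensorUnit

/-!
# Vanishing of `Ext^m(F, G)` for `F` finite locally free and `G` quasi-coherent on a qcqs scheme
-/

set_option autoImplicit false
universe u
open CategoryTheory CategoryTheory.Limits AlgebraicGeometry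

namespace Groth.Agent.Helper29.ExtFLF

open Groth.Agent.Helper29.SHomA Groth.Agent.Helper29.SHomC Groth.Agent.Helper13.TensorFunctor
  Groth.Agent.Helper13.DualFinLocFree

instance enoughInjectives_modules (X : Scheme.{u}) : EnoughInjectives X.Modules := by
  haveI : IsGrothendieckAbelian.{u} X.Modules := Groth.Agent.Helper29.ShModGA.main0484 _ _
  infer_instance

instance hasExt_modules (X : Scheme.{u}) : HasExt.{u} X.Modules :=
  hasExt_of_enoughInjectives _

/-- `𝓗om(F, G)` is quasi-coherent for `F` finite locally free and `G` quasi-coherent. -/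
theorem isQCoh_homSh {X : Scheme.{u}} (F G : X.Modules) (hF : FlatMod.IsFinLocFree F)
    (hG : Coh.IsQCoh G) : Coh.IsQCoh (RefHull.homSh F G) := by
  haveI : G.IsQuasicoherent := hG
  haveI : (RefHull.homSh F (Coh.structureModule X)).IsQuasicoherent :=
    Groth.Agent.Helper13.ResFinLocFree.isQuasicoherent_of_isFinLocFree _ (isFinLocFree_dual F hF)
  have h : (CohB1.tensorMod G (RefHull.homSh F (Coh.structureModule X))).IsQuasicoherent :=
    inferInstance
  exact (SheafOfModules.isQuasicoherent X.ringCatSheaf).prop_of_iso ((homFunIso F hF).app G) h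

/-- `Ext^m(F, G) ≃+ H^m(X, 𝓗om(F, G))` for `F` finite locally free. -/
theorem nonempty_ext_addEquiv_HH {X : Scheme.{u}} (F G : X.Modules) (hF : FlatMod.IsFinLocFree F)
    (m : ℕ) :
    Nonempty (Abelian.Ext.{u} F G m ≃+ Coh.HH X (RefHull.homSh F G) m) := by
  obtain ⟨h1, h2⟩ := exact_tensorRight F (flat_stalk F hF)
  obtain ⟨h3, h4⟩ := exact_homFun F hF
  obtain ⟨e⟩ := Groth.Agent.Helper29.ExtAdj.nonempty_ext_addEquiv.{u, u} (adj F)
    (Coh.structureModule X) G m
  obtain ⟨e'⟩ := Groth.Agent.S0491.result (Opens.grothendieckTopology X) X.ringCatSheaf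
    (RefHull.homSh F G) m
  have e0 : Abelian.Ext.{u} F G m ≃+
      Abelian.Ext.{u} (CohB1.tensorMod (Coh.structureModule X) F) G m :=
    Groth.Agent.Helper29.ExtAdj.extAddEquivLeft (Groth.Agent.Helper13.Tensor.lid F).symm G m
  exact ⟨e0.trans (e.trans e')⟩

theorem exists_bound (X : Scheme.{u}) [CompactSpace X] [QuasiSeparatedSpace X] :
    ∃ d : ℕ, ∀ (F G : X.Modules), FlatMod.IsFinLocFree F → Coh.IsQCoh G → ∀ m : ℕ, d ≤ m →
      Subsingleton (Abelian.Ext.{u} F G m) := by
  obtain ⟨d, hd⟩ := Groth.Agent.S0016.result X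
  refine ⟨d, fun F G hF hG m hm => ?_⟩
  obtain ⟨e⟩ := nonempty_ext_addEquiv_HH F G hF m
  haveI := hd _ (isQCoh_homSh F G hF hG) m hm
  exact e.toEquiv.subsingleton

end Groth.Agent.Helper29.ExtFLF
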