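import Mathlib
import Groth.Agent.Lib.Helper29.ExtFLF
import Groth.Agent.Lib.Helper13.InvDual
import Groth.Agent.Lib.Helper13.TensorAssoc
import Groth.Agent.Lib.Helper13.ToAbExact

/-!
# Splitting of an extension of an invertible module by a module `M` when `H^1(L^{-1} ⊗ M) = 0`
-/

set_option autoImplicit false
universe u
open CategoryTheory CategoryTheory.Limits AlgebraicGeometry

namespace Groth.Agent.Helper29.ExtSplit

open Groth.Agent.Helper29.SHomA Groth.Agent.Helper29.SHomC Groth.Agent.Helper13.Tensor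
  Groth.Agent.Helper13.InvDual Groth.Agent.Helper29.ExtFLF

section Abstract

universe w v u'

variable {A : Type u'} [Category.{v} A] [Abelian A] [HasExt.{w} A]

open Abelian in
theorem isSplitEpi_of_subsingleton_ext (S : ShortComplex A) (hS : S.ShortExact)
    (h : Subsingleton (Abelian.Ext.{w} S.X₃ S.X₁ 1)) : IsSplitEpi S.g := by
  obtain ⟨x₂, hx₂⟩ := Ext.covariant_sequence_exact₃ S.X₃ hS (Ext.mk₀ (𝟙 S.X₃)) (n₁ := 1) rfl
    (Subsingleton.elim _ _)
  obtain ⟨s, rfl⟩ := (Ext.mk₀_bijective S.X₃ S.X₂).2 x₂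
  rw [Ext.mk₀_comp_mk₀] at hx₂
  exact ⟨⟨s, (Ext.mk₀_bijective _ _).1 hx₂⟩⟩

end Abstract

variable {X : Scheme.{u}}

lemma isFinLocFree_of_isInvertible (L : X.Modules) (hL : PicF.IsInvertible L) :
    FlatMod.IsFinLocFree L := fun x => by
  obtain ⟨U, hxU, ⟨e⟩⟩ := hL x
  exact ⟨U, 1, hxU, ⟨e ≪≫
    (coproductUniqueIso (fun _ : Fin 1 => Coh.structureModule (U : Scheme.{u}))).symm⟩⟩

/-- an inverse of an invertible module is isomorphic to the dual -/
noncomputable def dualIso (L L' : X.Modules) (hL : PicF.IsInvertible L)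
    (e : CohB1.tensorMod L' L ≅ Coh.structureModule X) : L' ≅ dual L :=
  (rid L').symm ≪≫ mapIso (Iso.refl L') (evIso L hL).symm ≪≫ (assoc L' L (dual L)).symm ≪≫
    mapIso e (Iso.refl (dual L)) ≪≫ lid (dual L)

/-- functoriality of cohomology for isomorphisms -/
theorem subsingleton_HH_of_iso {M N : X.Modules} (e : M ≅ N) (n : ℕ)
    (h : Subsingleton (Coh.HH X M n)) : Subsingleton (Coh.HH X N n) := by
  refine ⟨fun a b => ?_⟩
  have key : ∀ c : Coh.HH X N n, c =
      Sheaf.H.map ((Groth.Agent.Helper13.ToAbExact.toAbF X).map e.hom) n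
        (Sheaf.H.map ((Groth.Agent.Helper13.ToAbExact.toAbF X).map e.inv) n c) := by
    intro c
    rw [← Sheaf.H.map_comp_apply, ← Functor.map_comp, e.inv_hom_id,
      (Groth.Agent.Helper13.ToAbExact.toAbF X).map_id]
    exact (Sheaf.H.map_id_apply _).symm
  rw [key a, key b]
  congr 1
  exact @Subsingleton.elim _ h _ _

theorem main12632 (S : ShortComplex X.Modules) (hS : S.ShortExact)
    (hL : PicF.IsInvertible S.X₃) (L' : X.Modules) (hL' : ClSub.IsInverseOf L' S.X₃)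
    (h1 : Subsingleton (Coh.HH X (CohB1.tensorMod L' S.X₁) 1)) : IsSplitEpi S.g := by
  obtain ⟨e⟩ := hL'
  have hflf := isFinLocFree_of_isInvertible S.X₃ hL
  let i1 : CohB1.tensorMod L' S.X₁ ≅ RefHull.homSh S.X₃ S.X₁ :=
    braid L' S.X₁ ≪≫ mapIso (Iso.refl S.X₁) (dualIso S.X₃ L' hL e) ≪≫
      (homFunIso S.X₃ hflf).app S.X₁
  have h2 : Subsingleton (Coh.HH X (RefHull.homSh S.X₃ S.X₁) 1) :=
    subsingleton_HH_of_iso i1 1 h1
  obtain ⟨eq⟩ := nonempty_ext_addEquiv_HH S.X₃ S.X₁ hflf 1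
  exact isSplitEpi_of_subsingleton_ext S hS eq.toEquiv.subsingleton

end Groth.Agent.Helper29.ExtSplit
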