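import Mathlib

/-!
# Multiplicative families of group-like elements are locally constant
-/
set_option autoImplicit false
universe u

namespace Groth.Agent.Helper29.StdAlg

open MonoidAlgebra

section

open Classical

variable {B : Type u} [CommRing B] {G : Type} [CommGroup G]

lemma map_eq_single_iff {C : Type u} [CommRing C] (θ : B →+* C) (x : MonoidAlgebra B G) (g : G) :
    mapRingHom G θ x = single g 1 ↔
      ∀ h, θ (x.coeff h) = if g = h then 1 else 0 := by
  classical
  constructor
  · intro H h
    have := congrArg (fun y => y.coeff h) H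
    simp only [coeff_mapRingHom, coeff_single, Finsupp.single_apply] at this
    exact this
  · intro H
    apply coeff_injective
    ext h
    rw [coeff_mapRingHom, H h, coeff_single, Finsupp.single_apply]

lemma map_eq_single_of_coeff_eq_one {C : Type u} [CommRing C] (θ : B →+* C)
    (x : MonoidAlgebra B G)
    (hx : ∀ g h : G, x.coeff g * x.coeff h = if g = h then x.coeff g else 0) (g : G)
    (hg : θ (x.coeff g) = 1) : mapRingHom G θ x = single g 1 := by
  rw [map_eq_single_iff]
  intro h
  split_ifs with hgh
  · subst hgh
    exact hg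
  · have := congrArg θ (hx h g)
    rw [map_mul, hg, mul_one, if_neg (Ne.symm hgh), map_zero] at this
    exact this

lemma exists_coeff_eq_one {K : Type u} [CommRing K] [IsDomain K] (θ₀ : B →+* K)
    (x : MonoidAlgebra B G)
    (hx : ∀ g h : G, x.coeff g * x.coeff h = if g = h then x.coeff g else 0)
    (hx1 : (x.coeff.sum fun _ b => b) = 1) : ∃ g, θ₀ (x.coeff g) = 1 := by
  by_contra H
  push Not at H
  have h0 : ∀ g, θ₀ (x.coeff g) = 0 := fun g => by
    have hid : IsIdempotentElem (θ₀ (x.coeff g)) := by
      unfold IsIdempotentElem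
      rw [← map_mul, hx g g, if_pos rfl]
    rcases IsIdempotentElem.iff_eq_zero_or_one.1 hid with h | h
    · exact h
    · exact absurd h (H g)
  have := congrArg θ₀ hx1
  rw [Finsupp.sum, map_sum, map_one] at this
  simp only [h0, Finset.sum_const_zero] at this
  exact zero_ne_one this

lemma single_one_inj {K : Type u} [CommRing K] [Nontrivial K] {a b : G}
    (h : (single a (1 : K) : MonoidAlgebra K G) = single b 1) : a = b := by
  classical
  have := congrArg (fun y => y.coeff a) h
  by_contra hne
  have e1 : (single a (1 : K) : MonoidAlgebra K G).coeff a = 1 := by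
    rw [coeff_single, Finsupp.single_apply, if_pos rfl]
  have e2 : (single b (1 : K) : MonoidAlgebra K G).coeff a = 0 := by
    rw [coeff_single, Finsupp.single_apply, if_neg (fun h' => hne h'.symm)]
  simp only [e1, e2] at this
  exact one_ne_zero this

end

open Classical in
theorem exists_std_alg {B : Type u} [CommRing B] {G N : Type} [CommGroup G] [CommGroup N]
    (hN : Group.FG N) (X : N →* MonoidAlgebra B G)
    (hX : ∀ (n : N) (g h : G), (X n).coeff g * (X n).coeff h = if g = h then (X n).coeff g else 0)
    (hX1 : ∀ n : N, ((X n).coeff.sum fun _ b => b) = 1)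
    {K : Type u} [CommRing K] [IsDomain K] (θ₀ : B →+* K) :
    ∃ (e : B) (φ : N →* G), IsIdempotentElem e ∧ θ₀ e = 1 ∧
      ∀ {C : Type u} [CommRing C] (θ : B →+* C), θ e = 1 →
        ∀ n : N, MonoidAlgebra.mapRingHom G θ (X n) = MonoidAlgebra.single (φ n) 1 := by
  have hex := fun n => exists_coeff_eq_one θ₀ (X n) (hX n) (hX1 n)
  choose φ₀ hφ₀ using hex
  have H₀ : ∀ n, mapRingHom G θ₀ (X n) = single (φ₀ n) 1 := fun n =>
    map_eq_single_of_coeff_eq_one θ₀ (X n) (hX n) (φ₀ n) (hφ₀ n)
  let φ : N →* G :=
    { toFun := φ₀
      map_one' := by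
        have := H₀ 1
        rw [map_one, map_one, one_def] at this
        exact (single_one_inj this).symm
      map_mul' := fun n m => by
        have := H₀ (n * m)
        rw [map_mul, map_mul, H₀ n, H₀ m, single_mul_single, mul_one] at this
        exact (single_one_inj this).symm }
  obtain ⟨s, hs⟩ := Group.fg_def.1 hN
  refine ⟨∏ n ∈ s, (X n).coeff (φ₀ n), φ, ?_, ?_, ?_⟩
  · refine Finset.prod_induction _ IsIdempotentElem (fun a b ha hb => ha.mul hb)
      IsIdempotentElem.one (fun n _ => ?_)
    unfold IsIdempotentElem
    rw [hX n, if_pos rfl]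
  · rw [map_prod]
    exact Finset.prod_eq_one (fun n _ => hφ₀ n)
  · intro C _ θ hθ
    have hs' : ∀ n ∈ s, mapRingHom G θ (X n) = single (φ n) 1 := fun n hn => by
      refine map_eq_single_of_coeff_eq_one θ (X n) (hX n) (φ₀ n) ?_
      set a := θ ((X n).coeff (φ₀ n)) with ha
      have hid : a * a = a := by
        rw [ha, ← map_mul, hX n, if_pos rfl]
      have h1 : a * θ (∏ m ∈ s.erase n, (X m).coeff (φ₀ m)) = 1 := by
        rw [ha, ← map_mul, Finset.mul_prod_erase s (fun m => (X m).coeff (φ₀ m)) hn, hθ]
      calc a = a * (a * θ (∏ m ∈ s.erase n, (X m).coeff (φ₀ m))) := by rw [h1, mul_one]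
        _ = 1 := by rw [← mul_assoc, hid, h1]
    let T : Subgroup N :=
      { carrier := {n | mapRingHom G θ (X n) = single (φ n) 1}
        one_mem' := by
          show mapRingHom G θ (X 1) = single (φ 1) 1
          rw [map_one, map_one, map_one, one_def]
        mul_mem' := fun {a b} ha hb => by
          show mapRingHom G θ (X (a * b)) = single (φ (a * b)) 1
          rw [map_mul, map_mul, ha, hb, single_mul_single, mul_one, map_mul]
        inv_mem' := fun {n} h => by
          show mapRingHom G θ (X n⁻¹) = single (φ n⁻¹) 1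
          have h1 : mapRingHom G θ (X n⁻¹) * mapRingHom G θ (X n) = 1 := by
            rw [← map_mul, ← map_mul, inv_mul_cancel, map_one, map_one]
          have h2 : (single (φ n) (1 : C) : MonoidAlgebra C G) * single (φ n)⁻¹ 1 = 1 := by
            rw [single_mul_single, mul_inv_cancel, mul_one, one_def]
          calc mapRingHom G θ (X n⁻¹)
              = mapRingHom G θ (X n⁻¹) * (single (φ n) 1 * single (φ n)⁻¹ 1) := by
                rw [h2, mul_one]
            _ = (mapRingHom G θ (X n⁻¹) * mapRingHom G θ (X n)) * single (φ n)⁻¹ 1 := by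
                rw [h, mul_assoc]
            _ = single (φ n⁻¹) 1 := by rw [h1, one_mul, map_inv] }
    have hT : Subgroup.closure (s : Set N) ≤ T := (Subgroup.closure_le T).2 hs'
    intro n
    have : n ∈ T := hT (hs ▸ Subgroup.mem_top n)
    exact this

end Groth.Agent.Helper29.StdAlg
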