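import Groth.Agent.Lib.Helper29.GLinOrbit

/-!
# Affine GIT quotient by a linearly reductive group: surjectivity and fibres (helper29)
-/

open TensorProduct

set_option linter.unusedSectionVars false

namespace Groth.Agent.Helper29.GITQuot

open Groth.Agent.Helper29.H12Copy Groth.Agent.Helper29.Reynolds Groth.Agent.Helper29.GLinOrbit

universe u

section Bialg

variable {k : Type u} [Field k] {A : Type u} [CommRing A] [Bialgebra k A]
variable {R : Type u} [CommRing R] [Algebra k R] [HopfRep.Comod k A R] [GLin.IsCoactAlg k A R]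

/-- `Spec R → Spec R^G` is surjective on rational points. -/
theorem exists_point_over [IsAlgClosed k] [Algebra.FiniteType k R]
    (hG : HopfRep.IsLinearlyReductive k A) (y : GLin.invariants k A R →ₐ[k] k) :
    ∃ x : R →ₐ[k] k, x.comp (GLin.invariants k A R).val = y := by
  obtain ⟨E, hE⟩ := exists_reynolds R hG
  let E' : R →ₗ[k] ↥(GLin.invariants k A R) :=
    LinearMap.codRestrict (Subalgebra.toSubmodule (GLin.invariants k A R)) E
      (fun r => hE.apply_mem r)
  have hE'mul : ∀ (s : R) (a : ↥(GLin.invariants k A R)), E' (s * (a : R)) = E' s * a := by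
    intro s a
    apply Subtype.ext
    exact reynolds_mul hG hE s a.1 a.2
  have hE'one : E' 1 = 1 := Subtype.ext (reynolds_one hE)
  let I : Ideal R := Ideal.map (GLin.invariants k A R).val (RingHom.ker y)
  have hkey : ∀ r ∈ I, ∀ s : R, y (E' (s * r)) = 0 := by
    intro r hr
    have hr' : r ∈ Submodule.span R
        ((GLin.invariants k A R).val '' (RingHom.ker y : Set ↥(GLin.invariants k A R))) := hr
    clear hr
    induction hr' using Submodule.span_induction with
    | mem r hr =>
      obtain ⟨a, ha, rfl⟩ := hr
      intro s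
      have ha' : y a = 0 := ha
      rw [show (GLin.invariants k A R).val a = (a : R) from rfl, hE'mul, map_mul, ha', mul_zero]
    | zero => intro s; rw [mul_zero, map_zero, map_zero]
    | add r₁ r₂ _ _ h₁ h₂ =>
      intro s
      rw [mul_add, map_add, map_add, h₁ s, h₂ s, add_zero]
    | smul t r _ h => intro s; rw [smul_eq_mul, ← mul_assoc]; exact h (s * t)
  have hI : I ≠ ⊤ := by
    intro htop
    have h1 : (1 : R) ∈ I := by rw [htop]; trivial
    have := hkey 1 h1 1
    rw [mul_one, hE'one, map_one] at this
    exact one_ne_zero this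
  obtain ⟨x, hx⟩ := exists_point_of_ne_top (k := k) I hI
  refine ⟨x, (eq_of_ker_le y (x.comp (GLin.invariants k A R).val) ?_).symm⟩
  intro a ha
  rw [RingHom.mem_ker, AlgHom.comp_apply]
  exact hx (Ideal.mem_map_of_mem _ ha)

end Bialg

section Hopf

variable {k : Type u} [Field k] {A : Type u} [CommRing A] [HopfAlgebra k A]
variable {R : Type u} [CommRing R] [Algebra k R] [HopfRep.Comod k A R] [GLin.IsCoactAlg k A R]

/-- When all orbits are closed, two points with the same invariants are in the same orbit. -/
theorem exists_actPt_of_same_invariants [IsAlgClosed k] [Algebra.FiniteType k A]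
    [Algebra.FiniteType k R] (hG : HopfRep.IsLinearlyReductive k A)
    (hcl : ∀ x : R →ₐ[k] k, GLin.IsClosedOrbit k A x) (x x' : R →ₐ[k] k)
    (h : ∀ f ∈ GLin.invariants k A R, x f = x' f) :
    ∃ g : A →ₐ[k] k, x' = GLin.actPt k g x := by
  obtain ⟨z, hz, hz'⟩ := exists_common_point hG x x' h
  obtain ⟨g, hg⟩ := exists_actPt_eq_of_isClosedOrbit x z (hcl x) hz
  obtain ⟨g', hg'⟩ := exists_actPt_eq_of_isClosedOrbit x' z (hcl x') hz'
  exact exists_actPt_eq_of_common x x' z g g' hg hg'

end Hopf

end Groth.Agent.Helper29.GITQuot
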