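import Mathlib

/-!
# Azumaya algebras: base change and endomorphism algebras (helper29)

Reusable lemmas:
* `retract_bijective` : a retract of a bijective map is bijective.
* `exists_retract_of_finite_projective` : f.g. projective modules are retracts of `Fin n → R`.
* `faithfullyFlat_of_finite_projective_faithful`.
* `tensorProduct_bijective_of_finite_projective` : `S ⊗ Hom_R(M,N) → Hom_S(S⊗M,S⊗N)` bijective
  for `M` f.g. projective.
* `isAzumaya_baseChange`, `isAzumaya_end`.
-/

set_option autoImplicit false
universe u v w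
open TensorProduct MulOpposite

namespace Groth.Agent.Helper29

theorem retract_bijective {X Y X' Y' : Type*} (f : X → Y) (f' : X' → Y')
    (a : X → X') (b : X' → X) (c : Y → Y') (d : Y' → Y)
    (hba : ∀ x, b (a x) = x) (hdc : ∀ y, d (c y) = y)
    (h1 : ∀ x, f' (a x) = c (f x)) (h2 : ∀ x', f (b x') = d (f' x'))
    (hf' : Function.Bijective f') : Function.Bijective f := by
  constructor
  · intro x y hxy
    have : a x = a y := hf'.1 (by rw [h1, h1, hxy])
    rw [← hba x, ← hba y, this]
  · intro y
    obtain ⟨x', hx'⟩ := hf'.2 (c y)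
    exact ⟨b x', by rw [h2, hx', hdc]⟩

theorem exists_retract_of_finite_projective (R : Type*) [CommRing R]
    (M : Type*) [AddCommGroup M] [Module R M] [Module.Finite R M] [Module.Projective R M] :
    ∃ (n : ℕ) (i : M →ₗ[R] (Fin n → R)) (p : (Fin n → R) →ₗ[R] M), p ∘ₗ i = LinearMap.id := by
  obtain ⟨n, p, hp⟩ := Module.Finite.exists_fin' R M
  obtain ⟨i, hi⟩ := Module.projective_lifting_property p LinearMap.id hp
  exact ⟨n, i, p, hi⟩

theorem tensorProduct_bijective_of_free (R : Type*) [CommRing R] (S : Type*) [CommRing S] [Algebra R S]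
    (ι : Type*) [Finite ι] (N : Type*) [AddCommGroup N] [Module R N] :
    Function.Bijective (LinearMap.tensorProduct R S (ι → R) N) := by
  have h := Module.isBaseChange_map_of_finite_free (R := R) N S ι
  have : (LinearMap.tensorProduct R S (ι → R) N) = h.equiv.toLinearMap := by
    ext f : 3
    simp only [AlgebraTensorModule.curry_apply, curry_apply,
      LinearMap.coe_restrictScalars, LinearEquiv.coe_coe, IsBaseChange.equiv_tmul, one_smul]
    rw [LinearMap.tensorProduct, AlgebraTensorModule.lift_tmul]
    simp
  rw [this]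
  exact h.equiv.bijective

theorem tensorProduct_lcomp (R : Type*) [CommRing R] (S : Type*)
    [CommRing S] [Algebra R S]
    (M₁ : Type*) [AddCommGroup M₁] [Module R M₁] (M₂ : Type*) [AddCommGroup M₂] [Module R M₂]
    (N : Type*) [AddCommGroup N] [Module R N]
    (g : M₁ →ₗ[R] M₂) (x : S ⊗[R] (M₂ →ₗ[R] N)) :
      LinearMap.tensorProduct R S M₁ N ((LinearMap.lcomp R N g).baseChange S x) =
        (LinearMap.tensorProduct R S M₂ N x) ∘ₗ (g.baseChange S) := by
  induction x using TensorProduct.induction_on with
  | zero => simp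
  | add x y hx hy => simp only [map_add, hx, hy, LinearMap.add_comp]
  | tmul s f =>
    ext m
    simp [LinearMap.tensorProduct]

theorem tensorProduct_bijective_of_finite_projective (R : Type*) [CommRing R] (S : Type*)
    [CommRing S] [Algebra R S]
    (M : Type*) [AddCommGroup M] [Module R M] [Module.Finite R M] [Module.Projective R M]
    (N : Type*) [AddCommGroup N] [Module R N] :
    Function.Bijective (LinearMap.tensorProduct R S M N) := by
  obtain ⟨n, i, p, hpi⟩ := exists_retract_of_finite_projective R M
  refine retract_bijective (LinearMap.tensorProduct R S M N)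
    (LinearMap.tensorProduct R S (Fin n → R) N)
    ((LinearMap.lcomp R N p).baseChange S) ((LinearMap.lcomp R N i).baseChange S)
    (fun g => g ∘ₗ p.baseChange S) (fun g => g ∘ₗ i.baseChange S) ?_ ?_ ?_ ?_
    (tensorProduct_bijective_of_free R S (Fin n) N)
  · intro x
    rw [← LinearMap.comp_apply, ← LinearMap.baseChange_comp]
    have : (LinearMap.lcomp R N i ∘ₗ LinearMap.lcomp R N p) = LinearMap.id := by
      ext f m
      simp only [LinearMap.comp_apply, LinearMap.lcomp_apply, LinearMap.id_apply]
      congr 1
      exact LinearMap.congr_fun hpi m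
    rw [this]
    simp
  · intro g
    simp only [LinearMap.comp_assoc, ← LinearMap.baseChange_comp, hpi]
    simp
  · intro x
    exact tensorProduct_lcomp R S _ _ N p x
  · intro x
    exact tensorProduct_lcomp R S _ _ N i x

theorem faithfullyFlat_of_finite_projective_faithful (R : Type*) [CommRing R]
    (M : Type*) [AddCommGroup M] [Module R M] [Module.Finite R M] [Module.Projective R M]
    [FaithfulSMul R M] : Module.FaithfullyFlat R M := by
  refine ⟨fun m hm htop => ?_⟩
  obtain ⟨r, hr, hr0⟩ := Submodule.exists_sub_one_mem_and_smul_eq_zero_of_fg_of_le_smul m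
    (⊤ : Submodule R M) Module.Finite.fg_top (le_of_eq htop.symm)
  have : r = 0 := by
    apply FaithfulSMul.eq_of_smul_eq_smul (α := M)
    intro x
    rw [zero_smul]
    exact hr0 x trivial
  rw [this, zero_sub] at hr
  exact hm.ne_top ((Ideal.eq_top_iff_one m).mpr (by simpa using m.neg_mem hr))

theorem tensorProduct_tmul (R : Type*) [CommRing R] (S : Type*)
    [CommRing S] [Algebra R S]
    (M : Type*) [AddCommGroup M] [Module R M]
    (N : Type*) [AddCommGroup N] [Module R N] (s : S) (f : M →ₗ[R] N) :
    LinearMap.tensorProduct R S M N (s ⊗ₜ f) = s • f.baseChange S := by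
  rw [LinearMap.tensorProduct, AlgebraTensorModule.lift_tmul]
  rfl

theorem isAzumaya_baseChange (R : Type u) [CommRing R]
    (S : Type v) [CommRing S] [Algebra R S]
    (A : Type w) [Ring A] [Algebra R A] [IsAzumaya R A] :
    IsAzumaya S (S ⊗[R] A) := by
  have : Module.Projective S (S ⊗[R] A) := inferInstance
  have : Module.Finite S (S ⊗[R] A) := inferInstance
  have : FaithfulSMul S (S ⊗[R] A) := by
    have hff := faithfullyFlat_of_finite_projective_faithful R A
    rw [faithfulSMul_iff_algebraMap_injective]
    rw [injective_iff_map_eq_zero]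
    intro s hs
    have : (1 : A) ⊗ₜ[R] s = 0 := by
      have := congrArg (TensorProduct.comm R S A) hs
      simpa [Algebra.TensorProduct.algebraMap_apply] using this
    exact (Module.FaithfullyFlat.one_tmul_eq_zero_iff R S s).mp this
  refine ⟨?_⟩
  let e2 : S ⊗[R] Aᵐᵒᵖ ≃ₗ[S] (S ⊗[R] A)ᵐᵒᵖ :=
    (AlgebraTensorModule.congr (LinearEquiv.refl S S) (MulOpposite.opLinearEquiv R).symm) ≪≫ₗ
      (MulOpposite.opLinearEquiv S)
  let e : S ⊗[R] (A ⊗[R] Aᵐᵒᵖ) ≃ₗ[S] (S ⊗[R] A) ⊗[S] (S ⊗[R] A)ᵐᵒᵖ :=
    (AlgebraTensorModule.distribBaseChange R S A Aᵐᵒᵖ) ≪≫ₗ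
      (AlgebraTensorModule.congr (LinearEquiv.refl S (S ⊗[R] A)) e2)
  have h : (AlgHom.mulLeftRight S (S ⊗[R] A)).toLinearMap ∘ₗ e.toLinearMap =
      (LinearMap.tensorProduct R S A A) ∘ₗ
        ((AlgHom.mulLeftRight R A).toLinearMap.baseChange S) := by
    ext a a' x
    simp [e, e2, -LinearMap.tensorProduct_apply, tensorProduct_tmul]
  have hA : Function.Bijective (AlgHom.mulLeftRight R A).toLinearMap := IsAzumaya.bij
  have hb : Function.Bijective ((LinearMap.tensorProduct R S A A) ∘ₗ
        ((AlgHom.mulLeftRight R A).toLinearMap.baseChange S)) := by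
    have h1 := tensorProduct_bijective_of_finite_projective R S A A
    have h2 : Function.Bijective ((AlgHom.mulLeftRight R A).toLinearMap.baseChange S) := by
      have := ((LinearEquiv.ofBijective _ hA).baseChange R S).bijective
      convert this using 1
      ext x
      induction x using TensorProduct.induction_on with
      | zero => simp
      | add x y hx hy => simp only [map_add, hx, hy]
      | tmul s f => simp [LinearEquiv.baseChange]
    exact h1.comp h2
  rw [← h] at hb
  have h2 := hb.comp e.symm.bijective
  convert h2 using 1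
  ext x
  simp

/-- conjugation-type map `f ↦ i ∘ f ∘ p`. -/
def sandwich {R : Type*} [CommRing R] {P F : Type*} [AddCommGroup P] [Module R P]
    [AddCommGroup F] [Module R F] (i : P →ₗ[R] F) (p : F →ₗ[R] P) :
    Module.End R P →ₗ[R] Module.End R F where
  toFun f := i ∘ₗ f ∘ₗ p
  map_add' f g := by ext; simp
  map_smul' r f := by ext; simp

@[simp] theorem sandwich_apply {R : Type*} [CommRing R] {P F : Type*} [AddCommGroup P] [Module R P]
    [AddCommGroup F] [Module R F] (i : P →ₗ[R] F) (p : F →ₗ[R] P) (f : Module.End R P) (x : F) :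
    sandwich i p f x = i (f (p x)) := rfl

/-- the same on opposite algebras -/
def sandwichOp {R : Type*} [CommRing R] {P F : Type*} [AddCommGroup P] [Module R P]
    [AddCommGroup F] [Module R F] (i : P →ₗ[R] F) (p : F →ₗ[R] P) :
    (Module.End R P)ᵐᵒᵖ →ₗ[R] (Module.End R F)ᵐᵒᵖ :=
  (opLinearEquiv R).toLinearMap ∘ₗ sandwich i p ∘ₗ (opLinearEquiv R).symm.toLinearMap

@[simp] theorem sandwichOp_apply {R : Type*} [CommRing R] {P F : Type*} [AddCommGroup P]
    [Module R P] [AddCommGroup F] [Module R F] (i : P →ₗ[R] F) (p : F →ₗ[R] P)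
    (f : (Module.End R P)ᵐᵒᵖ) :
    sandwichOp i p f = op (sandwich i p f.unop) := rfl

theorem mulLeftRight_sandwich {R : Type*} [CommRing R] {P F : Type*} [AddCommGroup P] [Module R P]
    [AddCommGroup F] [Module R F] (i : P →ₗ[R] F) (p : F →ₗ[R] P)
    (x : Module.End R P ⊗[R] (Module.End R P)ᵐᵒᵖ) :
    AlgHom.mulLeftRight R (Module.End R F) (TensorProduct.map (sandwich i p) (sandwichOp i p) x) =
      sandwich i p ∘ₗ AlgHom.mulLeftRight R (Module.End R P) x ∘ₗ sandwich p i := by
  induction x using TensorProduct.induction_on with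
  | zero => simp
  | add x y hx hy => simp only [map_add, hx, hy, LinearMap.add_comp, LinearMap.comp_add]
  | tmul a b =>
    ext y z
    simp

theorem sandwich_sandwich {R : Type*} [CommRing R] {P F : Type*} [AddCommGroup P] [Module R P]
    [AddCommGroup F] [Module R F] (i : P →ₗ[R] F) (p : F →ₗ[R] P) (hpi : p ∘ₗ i = LinearMap.id)
    (f : Module.End R P) : sandwich p i (sandwich i p f) = f := by
  ext x
  have h : ∀ y, p (i y) = y := fun y => LinearMap.congr_fun hpi y
  simp [h]

theorem isAzumaya_end (R : Type u) [CommRing R]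
    (P : Type v) [AddCommGroup P] [Module R P] [Module.Finite R P] [Module.Projective R P]
    [FaithfulSMul R P] : IsAzumaya R (Module.End R P) := by
  obtain ⟨n, i, p, hpi⟩ := exists_retract_of_finite_projective R P
  have hss := sandwich_sandwich i p hpi
  have : Module.Projective R (Module.End R P) :=
    Module.Projective.of_split (sandwich i p) (sandwich p i) (by ext f : 1; exact hss f)
  have : Module.Finite R (Module.End R P) :=
    Module.Finite.of_surjective (sandwich p i) (fun f => ⟨sandwich i p f, hss f⟩)
  have : FaithfulSMul R (Module.End R P) := ⟨fun {r s} h => by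
    apply FaithfulSMul.eq_of_smul_eq_smul (α := P)
    intro x
    exact LinearMap.congr_fun (h 1) x⟩
  refine ⟨?_⟩
  by_cases hn : n = 0
  · subst hn
    have hP : Subsingleton P := ⟨fun x y => by
      have h : ∀ y, p (i y) = y := fun y => LinearMap.congr_fun hpi y
      rw [← h x, ← h y]
      congr 1
      exact Subsingleton.elim _ _⟩
    have hR : Subsingleton R := ⟨fun r s => by
      apply FaithfulSMul.eq_of_smul_eq_smul (α := P)
      intro x
      exact Subsingleton.elim _ _⟩
    have h1 : Subsingleton (Module.End R P ⊗[R] (Module.End R P)ᵐᵒᵖ) := Module.subsingleton R _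
    have h2 : Subsingleton (Module.End R (Module.End R P)) := Module.subsingleton R _
    exact ⟨Function.injective_of_subsingleton _, fun y => ⟨0, Subsingleton.elim _ _⟩⟩
  · have : Nonempty (Fin n) := ⟨⟨0, Nat.pos_of_ne_zero hn⟩⟩
    have hM : IsAzumaya R (Matrix (Fin n) (Fin n) R) := IsAzumaya.matrix R (Fin n)
    have hF : IsAzumaya R (Module.End R (Fin n → R)) :=
      IsAzumaya.of_AlgEquiv R _ _ (LinearMap.toMatrixAlgEquiv' (R := R) (n := Fin n)).symm
    refine retract_bijective (AlgHom.mulLeftRight R (Module.End R P))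
      (AlgHom.mulLeftRight R (Module.End R (Fin n → R)))
      (TensorProduct.map (sandwich i p) (sandwichOp i p))
      (TensorProduct.map (sandwich p i) (sandwichOp p i))
      (fun φ => sandwich i p ∘ₗ φ ∘ₗ sandwich p i)
      (fun ψ => sandwich p i ∘ₗ ψ ∘ₗ sandwich i p) ?_ ?_ ?_ ?_ hF.bij
    · intro x
      rw [← LinearMap.comp_apply, ← TensorProduct.map_comp]
      have h1 : sandwich p i ∘ₗ sandwich i p = LinearMap.id := by ext f : 1; exact hss f
      have h2 : sandwichOp p i ∘ₗ sandwichOp i p = LinearMap.id := by
        ext f : 1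
        simp [hss]
      rw [h1, h2]
      simp
    · intro φ
      ext f : 1
      simp [hss]
    · intro x
      exact mulLeftRight_sandwich i p x
    · intro x
      exact mulLeftRight_sandwich p i x

end Groth.Agent.Helper29
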