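import Mathlib

/-!
# Algebras as filtered colimits of finitely presented algebras
-/

namespace Groth.Agent.Helper29.FPColim

universe u

open CategoryTheory CategoryTheory.Limits

section Criterion

variable {J : Type u} [SmallCategory J] [IsFiltered J] (D : J ⥤ CommRingCat.{u}) (c : Cocone D)

/-- recognising filtered colimits of commutative rings -/
theorem isColimit_of_surj_inj
    (hsurj : ∀ x : c.pt, ∃ j, ∃ y : D.obj j, (c.ι.app j).hom y = x)
    (hinj : ∀ j (x y : D.obj j), (c.ι.app j).hom x = (c.ι.app j).hom y →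
      ∃ k, ∃ f : j ⟶ k, (D.map f).hom x = (D.map f).hom y) :
    Nonempty (IsColimit c) := by
  have h : IsColimit ((forget CommRingCat).mapCocone c) := by
    refine Types.FilteredColimit.isColimitOf' _ _ (fun x => ?_) (fun i x y h => ?_)
    · obtain ⟨j, y, hy⟩ := hsurj x
      exact ⟨j, y, hy.symm⟩
    · obtain ⟨k, f, hf⟩ := hinj i x y h
      exact ⟨k, f, hf⟩
  have : ReflectsColimit D (forget CommRingCat) := reflectsColimit_of_reflectsIsomorphisms _ _
  exact ⟨isColimitOfReflects (forget CommRingCat) h⟩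

end Criterion

section Quot

variable {R A P : Type u} [CommRing R] [CommRing A] [Algebra R A] [CommRing P] [Algebra R P]
  (π : P →ₐ[R] A)

/-- finitely generated ideals contained in the kernel of `π` -/
def Idx : Type u := {J : Ideal P // J.FG ∧ J ≤ RingHom.ker π}

instance : PartialOrder (Idx π) := Subtype.partialOrder _

instance : IsDirected (Idx π) (· ≤ ·) :=
  ⟨fun a b => ⟨⟨a.1 ⊔ b.1, Submodule.FG.sup a.2.1 b.2.1, sup_le a.2.2 b.2.2⟩,
    show a.1 ≤ a.1 ⊔ b.1 from le_sup_left, show b.1 ≤ a.1 ⊔ b.1 from le_sup_right⟩⟩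

instance : Nonempty (Idx π) := ⟨⟨⊥, Submodule.fg_bot, bot_le⟩⟩

/-- the diagram of quotients -/
noncomputable def diag : Idx π ⥤ CommRingCat.{u} where
  obj J := CommRingCat.of (P ⧸ J.1)
  map {J J'} f := CommRingCat.ofHom (Ideal.Quotient.factor (show J.1 ≤ J'.1 from leOfHom f))
  map_id J := by
    ext x
    rfl
  map_comp f g := by
    ext x
    rfl

/-- structure maps -/
noncomputable def tStr : (Functor.const (Idx π)).obj (CommRingCat.of R) ⟶ diag π where
  app J := CommRingCat.ofHom (algebraMap R (P ⧸ J.1))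
  naturality J J' f := by
    ext x
    rfl

/-- the maps to `A` -/
noncomputable def sStr : diag π ⟶ (Functor.const (Idx π)).obj (CommRingCat.of A) where
  app J := CommRingCat.ofHom (Ideal.Quotient.lift J.1 π.toRingHom (fun x hx => J.2.2 hx))
  naturality J J' f := by
    ext x
    obtain ⟨x, rfl⟩ := Ideal.Quotient.mk_surjective x
    rfl

theorem tStr_sStr (J : Idx π) :
    (tStr π).app J ≫ (sStr π).app J = CommRingCat.ofHom (algebraMap R A) := by
  ext x
  exact π.commutes x

theorem isColimit_sStr (hπ : Function.Surjective π) :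
    Nonempty (IsColimit (Cocone.mk _ (sStr π))) := by
  apply isColimit_of_surj_inj
  · intro x
    obtain ⟨p, rfl⟩ := hπ x
    exact ⟨⟨⊥, Submodule.fg_bot, bot_le⟩, Ideal.Quotient.mk _ p, rfl⟩
  · intro J x y h
    obtain ⟨p, rfl⟩ := Ideal.Quotient.mk_surjective x
    obtain ⟨q, rfl⟩ := Ideal.Quotient.mk_surjective y
    have h' : π p = π q := h
    have hk : p - q ∈ RingHom.ker π := by
      rw [RingHom.mem_ker, map_sub, h', sub_self]
    refine ⟨⟨J.1 ⊔ Ideal.span {p - q}, Submodule.FG.sup J.2.1 ⟨{p - q}, by simp⟩,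
      sup_le J.2.2 ((Ideal.span_singleton_le_iff_mem _).2 hk)⟩, homOfLE (show J.1 ≤ J.1 ⊔ Ideal.span {p - q} from le_sup_left), ?_⟩
    change Ideal.Quotient.mk _ p = Ideal.Quotient.mk _ q
    rw [Ideal.Quotient.eq]
    exact Ideal.mem_sup_right (Ideal.subset_span rfl)

theorem finitePresentation_tStr [Algebra.FinitePresentation R P] (J : Idx π) :
    ((tStr π).app J).hom.FinitePresentation := by
  have : Algebra.FinitePresentation R (P ⧸ J.1) := Algebra.FinitePresentation.quotient J.2.1
  exact RingHom.finitePresentation_algebraMap.2 this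

end Quot

/-- S9179 -/
theorem main_ft (R A : Type u) [CommRing R] [CommRing A] [Algebra R A] [Algebra.FiniteType R A] :
    ∃ (I : Type u) (_ : SmallCategory I) (_ : IsFiltered I) (D : I ⥤ Under (CommRingCat.of R))
      (c : Cocone D) (_ : IsColimit c),
      (∀ i, (D.obj i).hom.hom.FinitePresentation) ∧
      (∀ (i j : I) (φ : i ⟶ j), Function.Surjective (D.map φ).right.hom) ∧
      Nonempty (c.pt ≅ Under.mk (CommRingCat.ofHom (algebraMap R A))) := by
  obtain ⟨n, π, hπ⟩ := Algebra.FiniteType.iff_quotient_mvPolynomial''.1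
    (inferInstance : Algebra.FiniteType R A)
  refine ⟨Idx π, inferInstance, inferInstance, Under.lift (diag π) (tStr π),
    Under.liftCocone (diag π) (tStr π) (Cocone.mk _ (sStr π))
      (CommRingCat.ofHom (algebraMap R A)) (tStr_sStr π),
    Under.isColimitLiftCocone _ _ _ _ _ (isColimit_sStr π hπ).some, ?_, ?_, ⟨Iso.refl _⟩⟩
  · intro J
    exact finitePresentation_tStr π J
  · intro J J' φ
    exact Ideal.Quotient.factor_surjective (show J.1 ≤ J'.1 from leOfHom φ)

section Sub

variable (R A : Type u) [CommRing R] [CommRing A] [Algebra R A]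

/-- finitely generated subalgebras -/
def SIdx : Type u := {S : Subalgebra R A // S.FG}

instance : PartialOrder (SIdx R A) := Subtype.partialOrder _

instance : IsDirected (SIdx R A) (· ≤ ·) :=
  ⟨fun a b => ⟨⟨a.1 ⊔ b.1, a.2.sup b.2⟩,
    show a.1 ≤ a.1 ⊔ b.1 from le_sup_left, show b.1 ≤ a.1 ⊔ b.1 from le_sup_right⟩⟩

instance : Nonempty (SIdx R A) := ⟨⟨⊥, Subalgebra.fg_bot⟩⟩

/-- the diagram of finitely generated subalgebras -/
noncomputable def diagS : SIdx R A ⥤ CommRingCat.{u} where
  obj S := CommRingCat.of S.1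
  map {S S'} f := CommRingCat.ofHom
    (Subalgebra.inclusion (show S.1 ≤ S'.1 from leOfHom f)).toRingHom
  map_id S := by
    ext x
    rfl
  map_comp f g := by
    ext x
    rfl

/-- structure maps -/
noncomputable def tS : (Functor.const (SIdx R A)).obj (CommRingCat.of R) ⟶ diagS R A where
  app S := CommRingCat.ofHom (algebraMap R S.1)
  naturality S S' f := by
    ext x
    rfl

/-- inclusions -/
noncomputable def sS : diagS R A ⟶ (Functor.const (SIdx R A)).obj (CommRingCat.of A) where
  app S := CommRingCat.ofHom S.1.val.toRingHom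
  naturality S S' f := by
    ext x
    rfl

theorem tS_sS (S : SIdx R A) :
    (tS R A).app S ≫ (sS R A).app S = CommRingCat.ofHom (algebraMap R A) := by
  ext x
  rfl

theorem isColimit_sS : Nonempty (IsColimit (Cocone.mk _ (sS R A))) := by
  apply isColimit_of_surj_inj
  · intro x
    exact ⟨⟨Algebra.adjoin R {x}, ⟨{x}, by simp⟩⟩, ⟨x, Algebra.subset_adjoin rfl⟩, rfl⟩
  · intro S x y h
    refine ⟨S, 𝟙 S, ?_⟩
    have : x = y := Subtype.ext h
    rw [this]

theorem finiteType_tS (S : SIdx R A) : ((tS R A).app S).hom.FiniteType := by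
  have : Algebra.FiniteType R S.1 := (Subalgebra.fg_iff_finiteType S.1).1 S.2
  exact RingHom.finiteType_algebraMap.2 this

end Sub

section Ind

open MorphismProperty

/-- finitely presented ring maps -/
abbrev FP : MorphismProperty CommRingCat.{u} :=
  RingHom.toMorphismProperty RingHom.FinitePresentation

/-- finite type ring maps -/
abbrev FT : MorphismProperty CommRingCat.{u} :=
  RingHom.toMorphismProperty RingHom.FiniteType

theorem FP_le : FP.{u} ≤ isFinitelyPresentable.{u} CommRingCat.{u} :=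
  fun _ _ f hf => CommRingCat.isFinitelyPresentable_hom f hf

theorem ind_FP_of_FT {X Y : CommRingCat.{u}} (f : X ⟶ Y) (hf : FT.{u} f) : ind.{u} FP.{u} f := by
  let _ : Algebra X Y := f.hom.toAlgebra
  have : Algebra.FiniteType X Y := hf
  obtain ⟨n, π, hπ⟩ := Algebra.FiniteType.iff_quotient_mvPolynomial''.1 this
  exact ⟨Idx π, inferInstance, inferInstance, diag π, tStr π, sStr π,
    (isColimit_sStr π hπ).some, fun J => ⟨finitePresentation_tStr π J, tStr_sStr π J⟩⟩

theorem ind_FT {X Y : CommRingCat.{u}} (f : X ⟶ Y) : ind.{u} FT.{u} f := by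
  let _ : Algebra X Y := f.hom.toAlgebra
  exact ⟨SIdx X Y, inferInstance, inferInstance, diagS X Y, tS X Y, sS X Y,
    (isColimit_sS X Y).some, fun S => ⟨finiteType_tS X Y S, tS_sS X Y S⟩⟩

universe w v' u'

theorem ind_mono {C : Type u'} [Category.{v'} C] {P Q : MorphismProperty C} (h : P ≤ Q) :
    ind.{w} P ≤ ind.{w} Q := by
  intro X Y f ⟨J, i1, i2, D, t, s, hs, hst⟩
  exact ⟨J, i1, i2, D, t, s, hs, fun j => ⟨h _ (hst j).1, (hst j).2⟩⟩

/-- every ring map is ind-(finitely presented) -/
theorem ind_FP {X Y : CommRingCat.{u}} (f : X ⟶ Y) : ind.{u} FP.{u} f := by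
  have h : ind.{u} (ind.{u} FP.{u}) f :=
    ind_mono (fun _ _ g hg => ind_FP_of_FT g hg) _ (ind_FT f)
  have e : ind.{u} (ind.{u} FP.{u}) = ind.{u} FP.{u} := ind_ind.{u} FP_le.{u}
  exact e ▸ h

/-- S9183 -/
theorem main_all (R A : Type u) [CommRing R] [CommRing A] [Algebra R A] :
    ∃ (I : Type u) (_ : SmallCategory I) (_ : IsFiltered I) (D : I ⥤ Under (CommRingCat.of R))
      (c : Cocone D) (_ : IsColimit c),
      (∀ i, (D.obj i).hom.hom.FinitePresentation) ∧
      Nonempty (c.pt ≅ Under.mk (CommRingCat.ofHom (algebraMap R A))) := by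
  have h := ind_FP (CommRingCat.ofHom (algebraMap R A))
  rw [ind_iff_ind_underMk] at h
  obtain ⟨J, i1, i2, pres, hpres⟩ := h
  exact ⟨J, i1, i2, pres.diag, pres.cocone, pres.isColimit, fun i => hpres i, ⟨Iso.refl _⟩⟩

end Ind

end Groth.Agent.Helper29.FPColim
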