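import Mathlib

/-!
# The symmetric algebra of `M` is smooth iff `M` is finite projective
-/

namespace Groth.Agent.Helper29.SymSmooth

universe u

open SymmetricAlgebra

section Retract

variable {A B C : Type*} [CommRing A] [CommRing B] [CommRing C] [Algebra A B] [Algebra A C]

/-- A retract of a finitely presented algebra is finitely presented. -/
theorem finitePresentation_of_retract [Algebra.FinitePresentation A B]
    (π : B →ₐ[A] C) (σ : C →ₐ[A] B) (h : ∀ c, π (σ c) = c) : Algebra.FinitePresentation A C := by
  have hsurj : Function.Surjective π := fun c => ⟨σ c, h c⟩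
  obtain ⟨s, hs⟩ := (Algebra.FiniteType.out : (⊤ : Subalgebra A B).FG)
  let J : Ideal B := Ideal.span ((fun b => b - σ (π b)) '' (s : Set B))
  have hJ : ∀ b : B, b - σ (π b) ∈ J := by
    intro b
    have hb : b ∈ Algebra.adjoin A (s : Set B) := by rw [hs]; trivial
    induction hb using Algebra.adjoin_induction with
    | mem x hx => exact Ideal.subset_span ⟨x, hx, rfl⟩
    | algebraMap r => simp
    | add x y _ _ hx hy =>
      have : x + y - σ (π (x + y)) = (x - σ (π x)) + (y - σ (π y)) := by
        simp only [map_add]; ring
      rw [this]; exact J.add_mem hx hy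
    | mul x y _ _ hx hy =>
      have : x * y - σ (π (x * y)) = x * (y - σ (π y)) + σ (π y) * (x - σ (π x)) := by
        simp only [map_mul]; ring
      rw [this]; exact J.add_mem (J.mul_mem_left _ hy) (J.mul_mem_left _ hx)
  have hker : RingHom.ker π.toRingHom = J := by
    apply le_antisymm
    · intro b hb
      have hb' : π b = 0 := hb
      have := hJ b
      rwa [hb', map_zero, sub_zero] at this
    · rw [Ideal.span_le]
      rintro _ ⟨b, _, rfl⟩
      change π (b - σ (π b)) = 0
      rw [map_sub, h, sub_self]
  apply Algebra.FinitePresentation.of_surjective hsurj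
  rw [hker]
  exact Submodule.fg_span (Set.Finite.image _ s.finite_toSet)

end Retract

variable {A M : Type u} [CommRing A] [AddCommGroup M] [Module A M]

theorem finitePresentation_of_finite_projective [Module.Finite A M] [Module.Projective A M] :
    Algebra.FinitePresentation A (SymmetricAlgebra A M) := by
  obtain ⟨n, f, g, -, -, hfg⟩ := Module.Finite.exists_comp_eq_id_of_projective A M
  have : Algebra.FinitePresentation A (SymmetricAlgebra A (Fin n → A)) :=
    Algebra.FinitePresentation.equiv (equivMvPolynomial (Pi.basisFun A (Fin n))).symm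
  let π : SymmetricAlgebra A (Fin n → A) →ₐ[A] SymmetricAlgebra A M := lift ((ι A M).comp f)
  let σ : SymmetricAlgebra A M →ₐ[A] SymmetricAlgebra A (Fin n → A) :=
    lift ((ι A (Fin n → A)).comp g)
  refine finitePresentation_of_retract π σ ?_
  have : π.comp σ = AlgHom.id A _ := by
    apply algHom_ext
    ext m
    change π (σ (ι A M m)) = ι A M m
    simp only [π, σ, lift_ι_apply, LinearMap.coe_comp, Function.comp_apply]
    exact congrArg (ι A M) (LinearMap.congr_fun hfg m)
  exact fun c => AlgHom.congr_fun this c

theorem formallySmooth_of_projective [Module.Projective A M] :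
    Algebra.FormallySmooth A (SymmetricAlgebra A M) := by
  apply Algebra.FormallySmooth.of_comp_surjective
  intro B _ _ I _ f
  obtain ⟨l, hl⟩ := Module.projective_lifting_property (Ideal.Quotient.mkₐ A I).toLinearMap
    (f.toLinearMap.comp (ι A M)) (Ideal.Quotient.mkₐ_surjective A I)
  refine ⟨lift l, ?_⟩
  apply algHom_ext
  ext m
  change Ideal.Quotient.mkₐ A I (lift l (ι A M m)) = f (ι A M m)
  rw [lift_ι_apply]
  exact LinearMap.congr_fun hl m

/-- Auxiliary right action, used only to form `TrivSqZeroExt A M` inside proofs. -/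
@[reducible] def opModule (A M : Type u) [CommRing A] [AddCommGroup M] [Module A M] :
    Module Aᵐᵒᵖ M :=
  Module.compHom M ((RingHom.id A).fromOpposite fun _ _ => mul_comm _ _)

attribute [local instance] opModule

local instance : IsCentralScalar A M := ⟨fun _ _ => rfl⟩

/-- The truncation `Sym(M) → A ⊕ M`. -/
noncomputable def trunc : SymmetricAlgebra A M →ₐ[A] TrivSqZeroExt A M :=
  lift (TrivSqZeroExt.inrHom A M)

@[simp]
theorem trunc_ι (m : M) : trunc (ι A M m) = TrivSqZeroExt.inr m :=
  lift_ι_apply _ _

theorem exists_section_of_formallySmooth [Algebra.FormallySmooth A (SymmetricAlgebra A M)]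
    {F : Type u} [AddCommGroup F] [Module A F] (π : F →ₗ[A] M) (hπ : Function.Surjective π) :
    ∃ s : M →ₗ[A] F, π.comp s = LinearMap.id := by
  let q : TrivSqZeroExt A F →ₐ[A] TrivSqZeroExt A M := TrivSqZeroExt.map π
  have hq : Function.Surjective q := by
    intro x
    obtain ⟨y, hy⟩ := hπ x.snd
    refine ⟨TrivSqZeroExt.inl x.fst + TrivSqZeroExt.inr y, ?_⟩
    ext <;> simp [q, hy]
  have hnil : IsNilpotent (RingHom.ker (q : TrivSqZeroExt A F →+* TrivSqZeroExt A M)) := by
    refine ⟨2, ?_⟩
    rw [Ideal.zero_eq_bot, eq_bot_iff, pow_two, Ideal.mul_le]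
    intro x hx y hy
    have hx' : q x = 0 := hx
    have hy' : q y = 0 := hy
    have h1 : x.fst = 0 := by simpa [q] using congrArg TrivSqZeroExt.fst hx'
    have h2 : y.fst = 0 := by simpa [q] using congrArg TrivSqZeroExt.fst hy'
    rw [Ideal.mem_bot]
    ext <;> simp [h1, h2]
  let g := Algebra.FormallySmooth.liftOfSurjective (trunc (A := A) (M := M)) q hq hnil
  have hg0 := Algebra.FormallySmooth.comp_liftOfSurjective trunc q hq hnil
  have hg : ∀ x, q (g x) = trunc x := fun x => AlgHom.congr_fun hg0 x
  let s : M →ₗ[A] F := (TrivSqZeroExt.sndHom A F).comp (g.toLinearMap.comp (ι A M))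
  refine ⟨s, ?_⟩
  ext m
  have := congrArg TrivSqZeroExt.snd (hg (ι A M m))
  simpa [q, s] using this

theorem projective_of_formallySmooth [Algebra.FormallySmooth A (SymmetricAlgebra A M)] :
    Module.Projective A M := by
  obtain ⟨s, hs⟩ := exists_section_of_formallySmooth (A := A) (M := M)
    (Finsupp.linearCombination A (id : M → M)) (Finsupp.linearCombination_id_surjective A M)
  exact Module.Projective.of_split s _ hs

theorem finite_of_finiteType [Algebra.FiniteType A (SymmetricAlgebra A M)] :
    Module.Finite A M := by
  obtain ⟨s, hs⟩ := (Algebra.FiniteType.out : (⊤ : Subalgebra A (SymmetricAlgebra A M)).FG)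
  let N : Submodule A M := Submodule.span A ((fun x => (trunc x).snd) '' (↑s : Set (SymmetricAlgebra A M)))
  -- the subalgebra `A ⊕ N` of `A ⊕ M`
  let T : Subalgebra A (SymmetricAlgebra A M) :=
    { carrier := {x | (trunc x).snd ∈ N}
      mul_mem' := by
        intro x y hx hy
        simp only [Set.mem_ofPred_eq, map_mul, TrivSqZeroExt.snd_mul] at *
        exact N.add_mem (N.smul_mem _ hy) (by
          rw [op_smul_eq_smul]; exact N.smul_mem _ hx)
      add_mem' := by
        intro x y hx hy
        simp only [Set.mem_ofPred_eq, map_add, TrivSqZeroExt.snd_add] at *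
        exact N.add_mem hx hy
      algebraMap_mem' := by
        intro r
        simp only [Set.mem_ofPred_eq, AlgHom.commutes]
        simp [TrivSqZeroExt.algebraMap_eq_inl] }
  have hT : T = ⊤ := by
    rw [eq_top_iff, ← hs, Algebra.adjoin_le_iff]
    intro x hx
    exact Submodule.subset_span ⟨x, hx, rfl⟩
  have hN : N = ⊤ := by
    rw [eq_top_iff]
    intro m _
    have : ι A M m ∈ T := by rw [hT]; trivial
    have h2 : (trunc (ι A M m)).snd ∈ N := this
    simpa using h2
  refine ⟨?_⟩
  rw [← hN]
  exact Submodule.fg_span (Set.Finite.image _ (Finset.finite_toSet s))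

theorem main :
    Algebra.Smooth A (SymmetricAlgebra A M) ↔ Module.Finite A M ∧ Module.Projective A M := by
  constructor
  · intro h
    have := h.formallySmooth
    have := h.finitePresentation
    exact ⟨finite_of_finiteType, projective_of_formallySmooth⟩
  · rintro ⟨h1, h2⟩
    exact ⟨formallySmooth_of_projective, finitePresentation_of_finite_projective⟩

end Groth.Agent.Helper29.SymSmooth
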