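import Mathlib
import Groth.Agent.Lib.Helper29.FPColim
import Groth.Agent.Lib.Helper29.SymSmooth

/-!
# `Under R` is locally finitely presentable for a commutative ring `R`
-/

namespace Groth.Agent.Helper29.UnderAcc

universe u

open CategoryTheory CategoryTheory.Limits Cardinal

attribute [local instance] fact_isRegular_aleph0

variable (R : CommRingCat.{u})

/-- algebraically finitely presented objects of `Under R` -/
def fpObj : ObjectProperty (Under R) := fun X => X.hom.hom.FinitePresentation

theorem fpObj_le : fpObj R ≤ ObjectProperty.isFinitelyPresentable.{u} (Under R) :=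
  fun X hX => CommRingCat.isFinitelyPresentable_under R X hX

/-- the standard finitely presented algebras -/
noncomputable def stdObj (p : Σ n : ℕ, Finset (MvPolynomial (Fin n) R)) : Under R :=
  Under.mk (CommRingCat.ofHom
    (algebraMap R (MvPolynomial (Fin p.1) R ⧸ Ideal.span (p.2 : Set (MvPolynomial (Fin p.1) R)))))

theorem fpObj_le_isoClosure : fpObj R ≤ (ObjectProperty.ofObj (stdObj R)).isoClosure := by
  intro X hX
  let _ : Algebra R X.right := X.hom.hom.toAlgebra
  have : Algebra.FinitePresentation R X.right := hX
  obtain ⟨n, f, hf, s, hs⟩ := Algebra.FinitePresentation.out (R := R) (A := X.right)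
  let e : (MvPolynomial (Fin n) R ⧸ Ideal.span (s : Set (MvPolynomial (Fin n) R))) ≃ₐ[R] X.right :=
    (Ideal.quotientEquivAlgOfEq R hs).trans (Ideal.quotientKerAlgEquivOfSurjective hf)
  refine ⟨stdObj R ⟨n, s⟩, ObjectProperty.ofObj_apply (stdObj R) ⟨n, s⟩,
    ⟨(Under.isoMk e.toRingEquiv.toCommRingCatIso ?_).symm⟩⟩
  ext x
  exact e.commutes x

instance : ObjectProperty.EssentiallySmall.{u} (fpObj R) :=
  ⟨⟨_, inferInstance, fpObj_le_isoClosure R⟩⟩

theorem isGen : (fpObj R).IsCardinalFilteredGenerator (ℵ₀ : Cardinal.{u}) where
  le_isCardinalPresentable := by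
    rw [← ObjectProperty.isFinitelyPresentable_eq_isCardinalPresentable]
    exact fpObj_le R
  exists_colimitsOfShape X := by
    have h := FPColim.ind_FP X.hom
    rw [MorphismProperty.ind_iff_ind_underMk] at h
    obtain ⟨J, i1, i2, pres, hpres⟩ := h
    exact ⟨J, i1, (isCardinalFiltered_aleph0_iff J).2 i2,
      ⟨{ toColimitPresentation := pres, prop_diag_obj := hpres }⟩⟩

instance : IsLocallyFinitelyPresentable.{u} (Under R) where
  toHasCardinalFilteredGenerator := (isGen R).hasCardinalFilteredGenerator

instance : IsFinitelyAccessibleCategory.{u} (Under R) := inferInstance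

/-- categorical finite presentation implies algebraic finite presentation -/
theorem finitePresentation_of_isFinitelyPresentable (X : Under R)
    (hX : IsFinitelyPresentable.{u} X) : X.hom.hom.FinitePresentation := by
  have h := FPColim.ind_FP X.hom
  rw [MorphismProperty.ind_iff_ind_underMk] at h
  obtain ⟨J, i1, i2, pres, hpres⟩ := h
  obtain ⟨j, v, hv⟩ := IsFinitelyPresentable.exists_hom_of_isColimit pres.isColimit (𝟙 X)
  let _ : Algebra R X.right := X.hom.hom.toAlgebra
  let _ : Algebra R (pres.diag.obj j).right := (pres.diag.obj j).hom.hom.toAlgebra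
  have : Algebra.FinitePresentation R (pres.diag.obj j).right := hpres j
  let π : (pres.diag.obj j).right →ₐ[R] X.right :=
    { (pres.ι.app j).right.hom with
      commutes' := fun r => congr($(Under.w (pres.ι.app j)).hom r) }
  let σ : X.right →ₐ[R] (pres.diag.obj j).right :=
    { v.right.hom with
      commutes' := fun r => congr($(Under.w v).hom r) }
  exact SymSmooth.finitePresentation_of_retract π σ fun c => congr($(hv).right.hom c)

end Groth.Agent.Helper29.UnderAcc
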