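import Mathlib
import Groth.Agent.Lib.Helper29.ColimTensor

/-!
# Homomorphisms of algebras after base change to a weak directed colimit
-/

namespace Groth.Agent.Helper29.ColimHom

universe u v

set_option linter.unusedSectionVars false

open TensorProduct
open Groth.Agent.Helper29.ColimTensor

section

variable {ι : Type u} [Preorder ι] [IsDirected ι (· ≤ ·)] [Nonempty ι]
    {A₀ : Type u} [CommRing A₀] {G : ι → Type u} [∀ i, CommRing (G i)] [∀ i, Algebra A₀ (G i)]
    (f : ∀ i j, i ≤ j → (G i →ₐ[A₀] G j)) {A : Type u} [CommRing A] [Algebra A₀ A]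
    {g : ∀ i, G i →ₐ[A₀] A}
    (hg : ∀ i j (h : i ≤ j), (g j).comp (f i j h) = g i)
    (hsurj : ∀ a : A, ∃ i, ∃ x : G i, g i x = a)
    (hker : ∀ i (x : G i), g i x = 0 → ∃ j, ∃ h : i ≤ j, f i j h x = 0)

lemma comm_rTensor {N₁ N₂ : Type*} [AddCommGroup N₁] [Module A₀ N₁] [AddCommGroup N₂]
    [Module A₀ N₂] (M : Type*) [AddCommGroup M] [Module A₀ M] (φ : N₁ →ₗ[A₀] N₂)
    (z : N₁ ⊗[A₀] M) :
    TensorProduct.comm A₀ N₂ M (LinearMap.rTensor M φ z) =
      LinearMap.lTensor M φ (TensorProduct.comm A₀ N₁ M z) := by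
  induction z using TensorProduct.induction_on with
  | zero => simp
  | tmul x y => simp
  | add x y hx hy => simp only [map_add, hx, hy]

variable (M : Type v) [AddCommGroup M] [Module A₀ M]

include hg hsurj hker in
theorem kill_left (i : ι) (Z : Finset (G i ⊗[A₀] M))
    (hZ : ∀ z ∈ Z, LinearMap.rTensor M (g i).toLinearMap z = 0) :
    ∃ (j : ι) (θ : G i →ₐ[A₀] G j), Adm g i j θ ∧
      ∀ z ∈ Z, LinearMap.rTensor M θ.toLinearMap z = 0 := by
  classical
  obtain ⟨j, θ, hθ, hkill⟩ := kill_tensor_finset f hg hsurj hker M i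
    (Z.image (TensorProduct.comm A₀ (G i) M)) (by
      intro w hw
      obtain ⟨z, hz, rfl⟩ := Finset.mem_image.mp hw
      rw [← comm_rTensor, hZ z hz, map_zero])
  refine ⟨j, θ, hθ, fun z hz => ?_⟩
  apply (TensorProduct.comm A₀ (G j) M).injective
  rw [comm_rTensor, hkill _ (Finset.mem_image_of_mem _ hz), map_zero]

include hg hsurj in
theorem lift_left {κ : Type*} [Finite κ] (a : κ → A ⊗[A₀] M) :
    ∃ (j : ι) (a' : κ → G j ⊗[A₀] M),
      ∀ k, LinearMap.rTensor M (g j).toLinearMap (a' k) = a k := by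
  obtain ⟨j, a', ha'⟩ := lift_tensor_fin f hg hsurj M
    (fun k => TensorProduct.comm A₀ A M (a k))
  refine ⟨j, fun k => (TensorProduct.comm A₀ (G j) M).symm (a' k), fun k => ?_⟩
  apply (TensorProduct.comm A₀ A M).injective
  rw [comm_rTensor, LinearEquiv.apply_symm_apply, ha' k]

variable (B C : Type u) [CommRing B] [CommRing C] [Algebra A₀ B] [Algebra A₀ C]

lemma map_id_apply {L : Type u} [CommRing L] [Algebra A₀ L] (u : B →ₐ[A₀] C) (x : L ⊗[A₀] B) :
    Algebra.TensorProduct.map (AlgHom.id A₀ L) u x = LinearMap.lTensor L u.toLinearMap x := by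
  induction x using TensorProduct.induction_on with
  | zero => simp
  | tmul x y => simp
  | add x y hx hy => simp only [map_add, hx, hy]

include hg hsurj hker in
theorem eq_descends [Algebra.FiniteType A₀ B] (u u' : B →ₐ[A₀] C)
    (h : Algebra.TensorProduct.map (AlgHom.id A₀ A) u =
      Algebra.TensorProduct.map (AlgHom.id A₀ A) u') :
    ∃ i : ι, Algebra.TensorProduct.map (AlgHom.id A₀ (G i)) u =
      Algebra.TensorProduct.map (AlgHom.id A₀ (G i)) u' := by
  classical
  obtain ⟨s, hs⟩ := (Algebra.FiniteType.out (R := A₀) (A := B))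
  obtain ⟨i₀⟩ := ‹Nonempty ι›
  obtain ⟨j, θ, -, hkill⟩ := kill_left f hg hsurj hker C i₀
    (s.image fun b => (1 : G i₀) ⊗ₜ[A₀] u b - (1 : G i₀) ⊗ₜ[A₀] u' b) (by
      intro w hw
      obtain ⟨b, _, rfl⟩ := Finset.mem_image.mp hw
      have := congrArg (fun φ => φ ((1 : A) ⊗ₜ[A₀] b)) h
      simp only [Algebra.TensorProduct.map_tmul, AlgHom.coe_id, id_eq] at this
      simp only [map_sub, LinearMap.rTensor_tmul, AlgHom.toLinearMap_apply, map_one]
      rw [this, sub_self])
  refine ⟨j, ?_⟩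
  have e : (Algebra.TensorProduct.includeRight : C →ₐ[A₀] G j ⊗[A₀] C).comp u =
      (Algebra.TensorProduct.includeRight : C →ₐ[A₀] G j ⊗[A₀] C).comp u' := by
    refine AlgHom.ext_of_adjoin_eq_top hs fun b hb => ?_
    have := hkill _ (Finset.mem_image_of_mem _ hb)
    simp only [map_sub, LinearMap.rTensor_tmul, AlgHom.toLinearMap_apply, map_one,
      sub_eq_zero] at this
    exact this
  apply Algebra.TensorProduct.ext
  · ext x
    simp
  · ext b
    have := congrArg (fun φ => φ b) e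
    simpa using this

include hg hsurj hker in
theorem surj_descends [Algebra.FiniteType A₀ C] (u : B →ₐ[A₀] C)
    (h : Function.Surjective (Algebra.TensorProduct.map (AlgHom.id A₀ A) u)) :
    ∃ i : ι, Function.Surjective (Algebra.TensorProduct.map (AlgHom.id A₀ (G i)) u) := by
  classical
  obtain ⟨s, hs⟩ := (Algebra.FiniteType.out (R := A₀) (A := C))
  choose ρ hρ using fun c : s => h ((1 : A) ⊗ₜ[A₀] (c : C))
  obtain ⟨i₀, ρ', hρ'⟩ := lift_left f hg hsurj B ρ
  have hnat : ∀ {i j : ι} (θ : G i →ₐ[A₀] G j) (x : G i ⊗[A₀] B),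
      LinearMap.rTensor C θ.toLinearMap (Algebra.TensorProduct.map (AlgHom.id A₀ (G i)) u x) =
        Algebra.TensorProduct.map (AlgHom.id A₀ (G j)) u (LinearMap.rTensor B θ.toLinearMap x) := by
    intro i j θ x
    induction x using TensorProduct.induction_on with
    | zero => simp
    | tmul x y => simp
    | add x y hx hy => simp only [map_add, hx, hy]
  have hnat' : ∀ {i : ι} (x : G i ⊗[A₀] B),
      LinearMap.rTensor C (g i).toLinearMap (Algebra.TensorProduct.map (AlgHom.id A₀ (G i)) u x) =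
        Algebra.TensorProduct.map (AlgHom.id A₀ A) u (LinearMap.rTensor B (g i).toLinearMap x) := by
    intro i x
    induction x using TensorProduct.induction_on with
    | zero => simp
    | tmul x y => simp
    | add x y hx hy => simp only [map_add, hx, hy]
  obtain ⟨j, θ, -, hkill⟩ := kill_left f hg hsurj hker C i₀
    (Finset.univ.image fun c : s => (1 : G i₀) ⊗ₜ[A₀] (c : C) -
      Algebra.TensorProduct.map (AlgHom.id A₀ (G i₀)) u (ρ' c)) (by
      intro w hw
      obtain ⟨c, _, rfl⟩ := Finset.mem_image.mp hw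
      rw [map_sub, hnat', hρ' c, hρ c]
      simp)
  refine ⟨j, ?_⟩
  -- the range is a subalgebra containing generators
  let S : Subalgebra A₀ (G j ⊗[A₀] C) := (Algebra.TensorProduct.map (AlgHom.id A₀ (G j)) u).range
  have h1 : ∀ c : C, (1 : G j) ⊗ₜ[A₀] c ∈ S := by
    have hle : Algebra.adjoin A₀ (s : Set C) ≤
        S.comap (Algebra.TensorProduct.includeRight : C →ₐ[A₀] G j ⊗[A₀] C) := by
      refine Algebra.adjoin_le fun c hc => ?_
      have := hkill _ (Finset.mem_image_of_mem _ (Finset.mem_univ ⟨c, hc⟩))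
      rw [map_sub, sub_eq_zero, hnat] at this
      simp only [LinearMap.rTensor_tmul, AlgHom.toLinearMap_apply, map_one] at this
      show (1 : G j) ⊗ₜ[A₀] c ∈ S
      rw [this]
      exact ⟨_, rfl⟩
    intro c
    have : c ∈ Algebra.adjoin A₀ (s : Set C) := by rw [hs]; exact Algebra.mem_top
    exact hle this
  intro t
  show t ∈ S
  induction t using TensorProduct.induction_on with
  | zero => exact S.zero_mem
  | tmul y c =>
    have : y ⊗ₜ[A₀] c = (y ⊗ₜ[A₀] (1 : C)) * ((1 : G j) ⊗ₜ[A₀] c) := by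
      rw [Algebra.TensorProduct.tmul_mul_tmul, mul_one, one_mul]
    rw [this]
    refine S.mul_mem ⟨y ⊗ₜ[A₀] (1 : B), by simp⟩ (h1 c)
  | add x y hx hy => exact S.add_mem hx hy

attribute [local instance] Algebra.TensorProduct.rightAlgebra in
include hg hsurj hker in
/-- Formal unramifiedness of `A ⊗ C` over `A` descends to a stage. -/
theorem unramified_stage' (C' : Type u) [CommRing C'] [Algebra A₀ C'] [Algebra.FiniteType A₀ C']
    (h : Algebra.FormallyUnramified A (A ⊗[A₀] C')) :
    ∃ j, Algebra.FormallyUnramified (G j) (G j ⊗[A₀] C') := by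
  classical
  obtain ⟨s, hs⟩ := (Algebra.FiniteType.out (R := A₀) (A := C'))
  have hsub : Subsingleton (A ⊗[A₀] Ω[C'⁄A₀]) :=
    (KaehlerDifferential.tensorKaehlerEquivBase A₀ A C' (A ⊗[A₀] C')).toEquiv.subsingleton
  obtain ⟨i₀⟩ := ‹Nonempty ι›
  obtain ⟨j, θ, -, hkill⟩ := kill_left f hg hsurj hker Ω[C'⁄A₀] i₀
    (s.image fun c => (1 : G i₀) ⊗ₜ[A₀] KaehlerDifferential.D A₀ C' c)
    (fun w _ => Subsingleton.elim _ _)
  refine ⟨j, formallyUnramified_of_gens _ hs fun c hc => ?_⟩
  have h1 := hkill _ (Finset.mem_image_of_mem _ hc)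
  rw [LinearMap.rTensor_tmul, AlgHom.toLinearMap_apply, map_one] at h1
  have h2 := KaehlerDifferential.tensorKaehlerEquivBase_tmul A₀ (G j) C'
    (G j ⊗[A₀] C') 1 (KaehlerDifferential.D A₀ C' c)
  rw [h1, map_zero, one_smul, KaehlerDifferential.map_D] at h2
  exact h2.symm

end

end Groth.Agent.Helper29.ColimHom
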