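import Mathlib
import Groth.Agent.Lib.Helper29.SmoothStage

/-!
# Finitely presented / smooth algebras over a filtered colimit of rings descend to a stage
-/

namespace Groth.Agent.Helper29.FiltColim

universe u

set_option linter.unusedSectionVars false

open TensorProduct CategoryTheory CategoryTheory.Limits
open Groth.Agent.Helper29.ColimTensor Groth.Agent.Helper29.SmoothStage

section Stage

variable {ι : Type u} [Preorder ι] [IsDirected ι (· ≤ ·)] [Nonempty ι]
    {A₀ : Type u} [CommRing A₀] {G : ι → Type u} [∀ i, CommRing (G i)] [∀ i, Algebra A₀ (G i)]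
    (f : ∀ i j, i ≤ j → (G i →ₐ[A₀] G j)) {A : Type u} [CommRing A] [Algebra A₀ A]
    {g : ∀ i, G i →ₐ[A₀] A}
    (hg : ∀ i j (h : i ≤ j), (g j).comp (f i j h) = g i)
    (hsurj : ∀ a : A, ∃ i, ∃ x : G i, g i x = a)
    (hker : ∀ i (x : G i), g i x = 0 → ∃ j, ∃ h : i ≤ j, f i j h x = 0)
    (C₀ : Type u) [CommRing C₀] [Algebra A₀ C₀]

include hg hsurj hker in
/-- Variant of `smooth_stage` with `B₀ = A₀`. -/
theorem smooth_stage' [Algebra.FinitePresentation A₀ C₀]
    [Algebra.FormallySmooth A (A ⊗[A₀] C₀)] :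
    ∃ j, Algebra.Smooth (G j) (G j ⊗[A₀] C₀) := by
  obtain ⟨n, m, ⟨P⟩⟩ := Algebra.Presentation.exists_presentation_fin A₀ C₀
  have h0 : HasWit P A := hasWit_of_formallySmooth P A
  have h1 : HasWit P (A₀ ⊗[A₀] A) :=
    h0.map (Algebra.TensorProduct.lid A₀ A).symm.toAlgHom
  obtain ⟨j, hj⟩ := wit_descends f hg hsurj hker A₀ P h1
  have h2 : HasWit P (G j) := hj.map (Algebra.TensorProduct.lid A₀ (G j)).toAlgHom
  have := h2.formallySmooth
  exact ⟨j, {}⟩

end Stage

section Poset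

variable {α : Type u} [PartialOrder α] [IsDirected α (· ≤ ·)] [Nonempty α]
  (D : α ⥤ CommRingCat.{u}) (c : Cocone D) (hc : IsColimit c)

include hc in
theorem exists_rep (x : c.pt) : ∃ a, ∃ y : D.obj a, (c.ι.app a).hom y = x :=
  Concrete.isColimit_exists_rep D hc x

include hc in
theorem exists_kill (a : α) (y : D.obj a) (h : (c.ι.app a).hom y = 0) :
    ∃ b, ∃ hab : a ≤ b, (D.map (homOfLE hab)).hom y = 0 := by
  have h' : (c.ι.app a).hom y = (c.ι.app a).hom 0 := by rw [h, map_zero]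
  obtain ⟨k, f, g, hfg⟩ := Concrete.isColimit_exists_of_rep_eq D hc y (0 : D.obj a) h'
  refine ⟨k, leOfHom f, ?_⟩
  have : f = homOfLE (leOfHom f) := Subsingleton.elim _ _
  rw [← this]
  have h0 : (D.map g).hom (0 : D.obj a) = 0 := map_zero _
  exact hfg.trans h0

theorem ι_map {a b : α} (hab : a ≤ b) (y : D.obj a) :
    (c.ι.app b).hom ((D.map (homOfLE hab)).hom y) = (c.ι.app a).hom y := by
  have := c.w (homOfLE hab)
  rw [← this]
  rfl

include hc in
theorem exists_stage_of_finite (S : Set c.pt) (hS : S.Finite) :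
    ∃ a, S ⊆ Set.range (c.ι.app a).hom := by
  induction S, hS using Set.Finite.induction_on with
  | empty => exact ⟨Classical.arbitrary α, Set.empty_subset _⟩
  | @insert x S _ _ ih =>
    obtain ⟨a₁, h₁⟩ := ih
    obtain ⟨a₂, y, hy⟩ := exists_rep D c hc x
    obtain ⟨b, hb₁, hb₂⟩ := exists_ge_ge a₁ a₂
    refine ⟨b, ?_⟩
    intro z hz
    rcases Set.mem_insert_iff.1 hz with rfl | hz
    · exact ⟨(D.map (homOfLE hb₂)).hom y, by rw [ι_map, hy]⟩
    · obtain ⟨w, hw⟩ := h₁ hz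
      exact ⟨(D.map (homOfLE hb₁)).hom w, by rw [ι_map, hw]⟩

end Poset

section Main

variable {α : Type u} [PartialOrder α] [IsDirected α (· ≤ ·)] [Nonempty α]
  (D : α ⥤ CommRingCat.{u}) (c : Cocone D) (hc : IsColimit c) (i₀ : α)

/-- The stages above `i₀`. -/
abbrev Idx (i₀ : α) : Type u := {a : α // i₀ ≤ a}

instance : IsDirected (Idx i₀) (· ≤ ·) :=
  ⟨fun a b => by
    obtain ⟨k, h1, h2⟩ := exists_ge_ge a.1 b.1
    exact ⟨⟨k, a.2.trans h1⟩, h1, h2⟩⟩

instance : Nonempty (Idx i₀) := ⟨⟨i₀, le_rfl⟩⟩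

/-- The rings of the system above `i₀`. -/
abbrev G (a : Idx i₀) : Type u := D.obj a.1

@[reducible] def algG (a : Idx i₀) : Algebra (D.obj i₀) (G D i₀ a) :=
  (D.map (homOfLE a.2)).hom.toAlgebra

@[reducible] def algA : Algebra (D.obj i₀) c.pt := (c.ι.app i₀).hom.toAlgebra

attribute [local instance] algG algA

theorem map_map {a b d : α} (hab : a ≤ b) (hbd : b ≤ d) (y : D.obj a) :
    (D.map (homOfLE hbd)).hom ((D.map (homOfLE hab)).hom y) =
      (D.map (homOfLE (hab.trans hbd))).hom y := by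
  have : D.map (homOfLE (hab.trans hbd)) = D.map (homOfLE hab) ≫ D.map (homOfLE hbd) := by
    rw [← D.map_comp]; rfl
  rw [this]; rfl

/-- transition maps -/
noncomputable def fT (a b : Idx i₀) (h : a ≤ b) : G D i₀ a →ₐ[D.obj i₀] G D i₀ b :=
  { (D.map (homOfLE (show a.1 ≤ b.1 from h))).hom with
    commutes' := fun r => map_map D a.2 h r }

/-- maps to the colimit -/
noncomputable def gT (a : Idx i₀) : G D i₀ a →ₐ[D.obj i₀] c.pt :=
  { (c.ι.app a.1).hom with
    commutes' := fun r => ι_map D c a.2 r }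

theorem hgT (a b : Idx i₀) (h : a ≤ b) : (gT D c i₀ b).comp (fT D i₀ a b h) = gT D c i₀ a := by
  apply AlgHom.ext
  intro y
  exact ι_map D c (show a.1 ≤ b.1 from h) y

include hc in
theorem hsurjT (x : c.pt) : ∃ a : Idx i₀, ∃ y : G D i₀ a, gT D c i₀ a y = x := by
  obtain ⟨a, y, hy⟩ := exists_rep D c hc x
  obtain ⟨b, hb₁, hb₂⟩ := exists_ge_ge i₀ a
  exact ⟨⟨b, hb₁⟩, (D.map (homOfLE hb₂)).hom y, (ι_map D c hb₂ y).trans hy⟩

include hc in
theorem hkerT (a : Idx i₀) (y : G D i₀ a) (h : gT D c i₀ a y = 0) :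
    ∃ b, ∃ hab : a ≤ b, fT D i₀ a b hab y = 0 := by
  obtain ⟨b, hab, hb⟩ := exists_kill D c hc a.1 y h
  exact ⟨⟨b, a.2.trans hab⟩, hab, hb⟩

include hc in
/-- finitely presented algebras descend (poset version) -/
theorem fp_poset (B : Type u) [CommRing B] [Algebra c.pt B] [Algebra.FinitePresentation c.pt B] :
    ∃ (a : α) (Bi : Type u) (_ : CommRing Bi) (_ : Algebra (D.obj a) Bi),
      Algebra.FinitePresentation (D.obj a) Bi ∧
      (letI : Algebra (D.obj a) c.pt := (c.ι.app a).hom.toAlgebra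
       Nonempty (B ≃ₐ[c.pt] (c.pt ⊗[D.obj a] Bi))) := by
  obtain ⟨n, m, ⟨P⟩⟩ := Algebra.Presentation.exists_presentation_fin c.pt B
  obtain ⟨j₀, hj₀⟩ := exists_stage_of_finite D c hc P.coeffs P.finite_coeffs
  let _ : Algebra (D.obj j₀) c.pt := (c.ι.app j₀).hom.toAlgebra
  let _ : Algebra (D.obj j₀) B := ((algebraMap c.pt B).comp (algebraMap (D.obj j₀) c.pt)).toAlgebra
  have : IsScalarTower (D.obj j₀) c.pt B := .of_algebraMap_eq fun _ => rfl
  have : P.HasCoeffs (D.obj j₀) := ⟨hj₀⟩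
  exact ⟨j₀, P.ModelOfHasCoeffs (D.obj j₀), inferInstance, inferInstance, inferInstance,
    ⟨(P.tensorModelOfHasCoeffsEquiv (D.obj j₀)).symm⟩⟩

include hc in
/-- smooth algebras descend (poset version) -/
theorem smooth_poset (B : Type u) [CommRing B] [Algebra c.pt B] [Algebra.Smooth c.pt B] :
    ∃ (a : α) (Bi : Type u) (_ : CommRing Bi) (_ : Algebra (D.obj a) Bi),
      Algebra.Smooth (D.obj a) Bi ∧
      (letI : Algebra (D.obj a) c.pt := (c.ι.app a).hom.toAlgebra
       Nonempty (B ≃ₐ[c.pt] (c.pt ⊗[D.obj a] Bi))) := by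
  have hfp : Algebra.FinitePresentation c.pt B := Algebra.Smooth.finitePresentation
  have hfs : Algebra.FormallySmooth c.pt B := Algebra.Smooth.formallySmooth
  obtain ⟨n, m, ⟨P⟩⟩ := Algebra.Presentation.exists_presentation_fin c.pt B
  obtain ⟨j₀, hj₀⟩ := exists_stage_of_finite D c hc P.coeffs P.finite_coeffs
  let _ : Algebra (D.obj j₀) c.pt := algA D c j₀
  let _ : Algebra (D.obj j₀) B := ((algebraMap c.pt B).comp (algebraMap (D.obj j₀) c.pt)).toAlgebra
  have : IsScalarTower (D.obj j₀) c.pt B := .of_algebraMap_eq fun _ => rfl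
  have : P.HasCoeffs (D.obj j₀) := ⟨hj₀⟩
  let e₀ := P.tensorModelOfHasCoeffsEquiv (D.obj j₀)
  have : Algebra.FormallySmooth c.pt (c.pt ⊗[D.obj j₀] P.ModelOfHasCoeffs (D.obj j₀)) :=
    Algebra.FormallySmooth.of_equiv e₀.symm
  obtain ⟨j, hj⟩ := smooth_stage' (fT D j₀) (hgT D c j₀) (hsurjT D c hc j₀) (hkerT D c hc j₀)
    (P.ModelOfHasCoeffs (D.obj j₀))
  refine ⟨j.1, G D j₀ j ⊗[D.obj j₀] P.ModelOfHasCoeffs (D.obj j₀), inferInstance, inferInstance,
    hj, ?_⟩
  let _ : Algebra (D.obj j.1) c.pt := (c.ι.app j.1).hom.toAlgebra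
  have : IsScalarTower (D.obj j₀) (D.obj j.1) c.pt :=
    .of_algebraMap_eq fun r => (ι_map D c j.2 r).symm
  exact ⟨e₀.symm.trans (Algebra.TensorProduct.cancelBaseChange (D.obj j₀) (D.obj j.1) c.pt c.pt
    (P.ModelOfHasCoeffs (D.obj j₀))).symm⟩

end Main

section Filtered

variable {I : Type u} [SmallCategory I] [IsFiltered I]
    (D : I ⥤ CommRingCat.{u}) (c : Cocone D) (hc : IsColimit c) (B : Type u) [CommRing B]
    [Algebra c.pt B]

include hc in
/-- S4600 -/
theorem main_fp [Algebra.FinitePresentation c.pt B] :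
    ∃ (i : I) (Bi : Type u) (_ : CommRing Bi) (_ : Algebra (D.obj i) Bi),
      Algebra.FinitePresentation (D.obj i) Bi ∧
      (letI : Algebra (D.obj i) c.pt := (c.ι.app i).hom.toAlgebra
       Nonempty (B ≃ₐ[c.pt] (c.pt ⊗[D.obj i] Bi))) := by
  obtain ⟨α, _, _, _, F, _⟩ := IsFiltered.exists_directed I
  have hc' : IsColimit (c.whisker F) := (Functor.Final.isColimitWhiskerEquiv F c).symm hc
  let _ : Algebra (c.whisker F).pt B := inferInstanceAs (Algebra c.pt B)
  have : Algebra.FinitePresentation (c.whisker F).pt B :=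
    inferInstanceAs (Algebra.FinitePresentation c.pt B)
  obtain ⟨a, Bi, i1, i2, h1, h2⟩ := fp_poset (F ⋙ D) (c.whisker F) hc' B
  exact ⟨F.obj a, Bi, i1, i2, h1, h2⟩

include hc in
/-- S9451 -/
theorem main_smooth [Algebra.Smooth c.pt B] :
    ∃ (i : I) (Bi : Type u) (_ : CommRing Bi) (_ : Algebra (D.obj i) Bi),
      Algebra.Smooth (D.obj i) Bi ∧
      (letI : Algebra (D.obj i) c.pt := (c.ι.app i).hom.toAlgebra
       Nonempty (B ≃ₐ[c.pt] (c.pt ⊗[D.obj i] Bi))) := by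
  obtain ⟨α, _, _, _, F, _⟩ := IsFiltered.exists_directed I
  have hc' : IsColimit (c.whisker F) := (Functor.Final.isColimitWhiskerEquiv F c).symm hc
  let _ : Algebra (c.whisker F).pt B := inferInstanceAs (Algebra c.pt B)
  have : Algebra.Smooth (c.whisker F).pt B := inferInstanceAs (Algebra.Smooth c.pt B)
  obtain ⟨a, Bi, i1, i2, h1, h2⟩ := smooth_poset (F ⋙ D) (c.whisker F) hc' B
  exact ⟨F.obj a, Bi, i1, i2, h1, h2⟩

end Filtered

end Groth.Agent.Helper29.FiltColim
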