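import Mathlib
import Groth.Prelude.Def_PBC

/-!
# Ind-étale algebras are stable under filtered colimits (`ind (ind P) = ind P`)
-/

namespace Groth.Agent.Helper29.IndEt

open CategoryTheory CategoryTheory.Limits

universe u

variable (A : Type u) [CommRing A]

/-- the étale property on `Under A` -/
def etP : ObjectProperty (Under (CommRingCat.of A)) :=
  fun X => letI := X.hom.hom.toAlgebra; Algebra.Etale A X.right

theorem etP_le : etP A ≤ ObjectProperty.isFinitelyPresentable.{u} _ := by
  intro X hX
  apply CommRingCat.isFinitelyPresentable_under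
  let _ := X.hom.hom.toAlgebra
  have : Algebra.Etale A X.right := hX
  exact (inferInstance : Algebra.FinitePresentation A X.right)

variable {A}

theorem ind_of_isIndEtale {B : Type u} [CommRing B] [Algebra A B] (h : EtPBC.IsIndEtale A B) :
    ObjectProperty.ind.{u} (etP A) (Under.mk (CommRingCat.ofHom (algebraMap A B))) := by
  obtain ⟨J, i1, i2, D, c, hc, hD, ⟨e⟩⟩ := h
  exact ⟨J, i1, i2, ({ diag := D, ι := c.ι, isColimit := hc } : ColimitPresentation J c.pt).ofIso e,
    fun j => hD j⟩

theorem isIndEtale_of_ind {B : Type u} [CommRing B] [Algebra A B]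
    (h : ObjectProperty.ind.{u} (etP A) (Under.mk (CommRingCat.ofHom (algebraMap A B)))) :
    EtPBC.IsIndEtale A B := by
  obtain ⟨J, i1, i2, pres, hp⟩ := h
  exact ⟨J, i1, i2, pres.diag, pres.cocone, pres.isColimit, fun j => hp j, ⟨Iso.refl _⟩⟩

/-- S7289 -/
theorem main (A B : Type u) [CommRing A] [CommRing B] [Algebra A B]
    {J : Type u} [SmallCategory J] [IsFiltered J] (D : J ⥤ Under (CommRingCat.of A))
    (hD : ∀ j, letI := (D.obj j).hom.hom.toAlgebra; EtPBC.IsIndEtale A ↥(D.obj j).right)
    (c : Cocone D) (hc : IsColimit c)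
    (e : c.pt ≅ Under.mk (CommRingCat.ofHom (algebraMap A B))) :
    EtPBC.IsIndEtale A B := by
  apply isIndEtale_of_ind
  have h1 : ∀ j, ObjectProperty.ind.{u} (etP A) (D.obj j) := by
    intro j
    let _ := (D.obj j).hom.hom.toAlgebra
    exact ind_of_isIndEtale (hD j)
  have h2 : ObjectProperty.ind.{u} (ObjectProperty.ind.{u} (etP A))
      (Under.mk (CommRingCat.ofHom (algebraMap A B))) :=
    ⟨J, inferInstance, inferInstance,
      ({ diag := D, ι := c.ι, isColimit := hc } : ColimitPresentation J c.pt).ofIso e, h1⟩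
  rwa [ObjectProperty.ind_ind (etP_le A)] at h2

end Groth.Agent.Helper29.IndEt
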