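import Mathlib
import Groth.Agent.Lib.Helper29.FiltColim
import Groth.Agent.Lib.Helper29.ColimHom
import Groth.Agent.Lib.Helper29.IndEt

/-!
# Composites of ind-étale ring maps are ind-étale
-/

namespace Groth.Agent.Helper29.IndEtComp

universe u

set_option linter.unusedSectionVars false

open TensorProduct CategoryTheory CategoryTheory.Limits
open Groth.Agent.Helper29.ColimTensor Groth.Agent.Helper29.SmoothStage
open Groth.Agent.Helper29.FiltColim

section Stage

variable {ι : Type u} [Preorder ι] [IsDirected ι (· ≤ ·)] [Nonempty ι]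
    {A₀ : Type u} [CommRing A₀] {G : ι → Type u} [∀ i, CommRing (G i)] [∀ i, Algebra A₀ (G i)]
    (f : ∀ i j, i ≤ j → (G i →ₐ[A₀] G j)) {A : Type u} [CommRing A] [Algebra A₀ A]
    {g : ∀ i, G i →ₐ[A₀] A}
    (hg : ∀ i j (h : i ≤ j), (g j).comp (f i j h) = g i)
    (hsurj : ∀ a : A, ∃ i, ∃ x : G i, g i x = a)
    (hker : ∀ i (x : G i), g i x = 0 → ∃ j, ∃ h : i ≤ j, f i j h x = 0)
    (C₀ : Type u) [CommRing C₀] [Algebra A₀ C₀]

include f in
/-- transport along the transition map -/
theorem smooth_up {i j : ι} (h : i ≤ j) (hs : Algebra.Smooth (G i) (G i ⊗[A₀] C₀)) :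
    Algebra.Smooth (G j) (G j ⊗[A₀] C₀) := by
  let _ : Algebra (G i) (G j) := (f i j h).toRingHom.toAlgebra
  have : IsScalarTower A₀ (G i) (G j) := .of_algebraMap_eq fun r => ((f i j h).commutes r).symm
  exact Algebra.Smooth.of_equiv
    (Algebra.TensorProduct.cancelBaseChange A₀ (G i) (G j) (G j) C₀)

include f in
theorem unram_up {i j : ι} (h : i ≤ j) (hs : Algebra.FormallyUnramified (G i) (G i ⊗[A₀] C₀)) :
    Algebra.FormallyUnramified (G j) (G j ⊗[A₀] C₀) := by
  let _ : Algebra (G i) (G j) := (f i j h).toRingHom.toAlgebra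
  have : IsScalarTower A₀ (G i) (G j) := .of_algebraMap_eq fun r => ((f i j h).commutes r).symm
  exact Algebra.FormallyUnramified.of_equiv
    (Algebra.TensorProduct.cancelBaseChange A₀ (G i) (G j) (G j) C₀)

include hg hsurj hker in
theorem etale_stage' [Algebra.FinitePresentation A₀ C₀]
    [Algebra.Etale A (A ⊗[A₀] C₀)] :
    ∃ j, Algebra.Etale (G j) (G j ⊗[A₀] C₀) := by
  have h1 : Algebra.FormallySmooth A (A ⊗[A₀] C₀) := inferInstance
  have h2 : Algebra.FormallyUnramified A (A ⊗[A₀] C₀) := inferInstance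
  obtain ⟨j₁, hj₁⟩ := smooth_stage' f hg hsurj hker C₀
  obtain ⟨j₂, hj₂⟩ := ColimHom.unramified_stage' f hg hsurj hker C₀ h2
  obtain ⟨k, hk₁, hk₂⟩ := exists_ge_ge j₁ j₂
  have h3 := smooth_up f C₀ hk₁ hj₁
  have h4 := unram_up f C₀ hk₂ hj₂
  exact ⟨k, Algebra.Etale.iff_formallyUnramified_and_smooth.2 ⟨h4, h3⟩⟩

end Stage

section Poset

variable {α : Type u} [PartialOrder α] [IsDirected α (· ≤ ·)] [Nonempty α]
  (D : α ⥤ CommRingCat.{u}) (c : Cocone D) (hc : IsColimit c)

attribute [local instance] algG algA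

include hc in
/-- étale algebras descend (poset version) -/
theorem etale_poset (B : Type u) [CommRing B] [Algebra c.pt B] [Algebra.Etale c.pt B] :
    ∃ (a : α) (Bi : Type u) (_ : CommRing Bi) (_ : Algebra (D.obj a) Bi),
      Algebra.Etale (D.obj a) Bi ∧
      (letI : Algebra (D.obj a) c.pt := (c.ι.app a).hom.toAlgebra
       Nonempty (B ≃ₐ[c.pt] (c.pt ⊗[D.obj a] Bi))) := by
  have hfp : Algebra.FinitePresentation c.pt B := inferInstance
  obtain ⟨n, m, ⟨P⟩⟩ := Algebra.Presentation.exists_presentation_fin c.pt B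
  obtain ⟨j₀, hj₀⟩ := exists_stage_of_finite D c hc P.coeffs P.finite_coeffs
  let _ : Algebra (D.obj j₀) c.pt := algA D c j₀
  let _ : Algebra (D.obj j₀) B := ((algebraMap c.pt B).comp (algebraMap (D.obj j₀) c.pt)).toAlgebra
  have : IsScalarTower (D.obj j₀) c.pt B := .of_algebraMap_eq fun _ => rfl
  have : P.HasCoeffs (D.obj j₀) := ⟨hj₀⟩
  let e₀ := P.tensorModelOfHasCoeffsEquiv (D.obj j₀)
  have : Algebra.Etale c.pt (c.pt ⊗[D.obj j₀] P.ModelOfHasCoeffs (D.obj j₀)) :=
    Algebra.Etale.of_equiv e₀.symm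
  obtain ⟨j, hj⟩ := etale_stage' (fT D j₀) (hgT D c j₀) (hsurjT D c hc j₀) (hkerT D c hc j₀)
    (P.ModelOfHasCoeffs (D.obj j₀))
  refine ⟨j.1, G D j₀ j ⊗[D.obj j₀] P.ModelOfHasCoeffs (D.obj j₀), inferInstance, inferInstance,
    hj, ?_⟩
  let _ : Algebra (D.obj j.1) c.pt := (c.ι.app j.1).hom.toAlgebra
  have : IsScalarTower (D.obj j₀) (D.obj j.1) c.pt :=
    .of_algebraMap_eq fun r => (ι_map D c j.2 r).symm
  exact ⟨e₀.symm.trans (Algebra.TensorProduct.cancelBaseChange (D.obj j₀) (D.obj j.1) c.pt c.pt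
    (P.ModelOfHasCoeffs (D.obj j₀))).symm⟩

end Poset

section Filtered

variable {I : Type u} [SmallCategory I] [IsFiltered I]
    (D : I ⥤ CommRingCat.{u}) (c : Cocone D) (hc : IsColimit c) (B : Type u) [CommRing B]
    [Algebra c.pt B]

include hc in
theorem main_etale [Algebra.Etale c.pt B] :
    ∃ (i : I) (Bi : Type u) (_ : CommRing Bi) (_ : Algebra (D.obj i) Bi),
      Algebra.Etale (D.obj i) Bi ∧
      (letI : Algebra (D.obj i) c.pt := (c.ι.app i).hom.toAlgebra
       Nonempty (B ≃ₐ[c.pt] (c.pt ⊗[D.obj i] Bi))) := by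
  obtain ⟨α, _, _, _, F, _⟩ := IsFiltered.exists_directed I
  have hc' : IsColimit (c.whisker F) := (Functor.Final.isColimitWhiskerEquiv F c).symm hc
  let _ : Algebra (c.whisker F).pt B := inferInstanceAs (Algebra c.pt B)
  have : Algebra.Etale (c.whisker F).pt B := inferInstanceAs (Algebra.Etale c.pt B)
  obtain ⟨a, Bi, i1, i2, h1, h2⟩ := etale_poset (F ⋙ D) (c.whisker F) hc' B
  exact ⟨F.obj a, Bi, i1, i2, h1, h2⟩

end Filtered

section Cat

open MorphismProperty

/-- the étale morphism property on `CommRingCat` -/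
abbrev Et : MorphismProperty CommRingCat.{u} := RingHom.toMorphismProperty RingHom.Etale

instance : Et.{u}.IsStableUnderCobaseChange :=
  RingHom.isStableUnderCobaseChange_toMorphismProperty_iff.2
    RingHom.Etale.isStableUnderBaseChange

instance : Et.{u}.IsStableUnderComposition :=
  ⟨fun f g hf hg => RingHom.Etale.stableUnderComposition f.hom g.hom hf hg⟩

theorem Et_le : Et.{u} ≤ MorphismProperty.isFinitelyPresentable.{u} CommRingCat.{u} := by
  intro X Y f hf
  apply CommRingCat.isFinitelyPresentable_hom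
  have hf' : f.hom.Etale := hf
  algebraize [f.hom]
  exact (inferInstance : Algebra.FinitePresentation X Y)

instance : PreIndSpreads.{u} Et.{u} where
  exists_isPushout {J} _ _ {D} {c} hc {T} f hf := by
    let _ : Algebra c.pt T := f.hom.toAlgebra
    have : Algebra.Etale c.pt T := hf
    obtain ⟨i, Bi, _, _, h1, h2⟩ := main_etale D c hc T
    let _ : Algebra (D.obj i) c.pt := (c.ι.app i).hom.toAlgebra
    obtain ⟨e⟩ := h2
    refine ⟨i, CommRingCat.of Bi, CommRingCat.ofHom (algebraMap (D.obj i) Bi),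
      CommRingCat.ofHom ((e.symm : _ →+* T).comp
        (Algebra.TensorProduct.includeRight (R := D.obj i) (A := c.pt) (B := Bi)).toRingHom),
      ?_, ?_⟩
    · refine (CommRingCat.isPushout_tensorProduct (D.obj i) c.pt Bi).of_iso (Iso.refl _)
        (Iso.refl _) (Iso.refl _) e.symm.toRingEquiv.toCommRingCatIso ?_ ?_ ?_ ?_
      · rfl
      · rfl
      · ext x
        exact e.symm.commutes x
      · rfl
    · exact (RingHom.etale_algebraMap).2 h1

end Cat

section Generic

open MorphismProperty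

universe w v' u'

variable {C : Type u'} [Category.{v'} C] {P : MorphismProperty C}

set_option backward.defeqAttrib.useBackward true in
set_option backward.isDefEq.respectTransparency false in
/-- post-composing an `ind P` map with a `P` map gives an `ind P` map, if `P` spreads out. -/
theorem ind_comp_of_mem [HasPushouts C] [P.IsStableUnderComposition]
    [P.IsStableUnderCobaseChange] [PreIndSpreads.{w} P] {X Y T : C} (f : X ⟶ Y) (t : Y ⟶ T)
    (hf : ind.{w} P f) (ht : P t) : ind.{w} P (f ≫ t) := by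
  obtain ⟨J₁, _, _, D₁, s₁, t₁, ht₁, h₁⟩ := hf
  obtain ⟨j₁, W, f', g', h, hf'⟩ := P.exists_isPushout_of_isFiltered ht₁ t ht
  let D' : Under j₁ ⥤ C :=
    (Under.post D₁ ⋙ Under.pushout f') ⋙ CategoryTheory.Under.forget _
  let c' : Cocone D' :=
    (Under.pushout f' ⋙ CategoryTheory.Under.forget _).mapCocone
      ((Cocone.mk _ t₁).underPost j₁) |>.extend h.isoPushout.inv
  let hc' : IsColimit c' :=
    IsColimit.extendIso _ <| isColimitOfPreserves _ (ht₁.underPost j₁)
  let s' : (Functor.const (Under j₁)).obj X ⟶ D' :=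
    { app k := s₁.app k.right ≫ pushout.inl _ _
      naturality k l a := by
        have h2 := s₁.naturality a.right
        simp only [Functor.const_obj_obj, Functor.const_obj_map, Category.id_comp] at h2
        simp [h2, D'] }
  refine ⟨Under j₁, inferInstance, inferInstance, D', s', c'.ι, hc', fun k => ⟨?_, ?_⟩⟩
  · exact P.comp_mem _ _ (h₁ _).left (P.pushout_inl _ _ hf')
  · simp [c', s', reassoc_of% (h₁ k.right).right]

/-- `ind P` is stable under composition, if `P` spreads out and implies finite presentation. -/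
theorem ind_comp [HasPushouts C] [P.IsStableUnderComposition]
    [P.IsStableUnderCobaseChange] [PreIndSpreads.{w} P] [LocallySmall.{w} C]
    (H : P ≤ isFinitelyPresentable.{w} C) {X Y Z : C} (f : X ⟶ Y) (g : Y ⟶ Z)
    (hf : ind.{w} P f) (hg : ind.{w} P g) : ind.{w} P (f ≫ g) := by
  obtain ⟨J₂, _, _, D₂, s₂, t₂, ht₂, h₂⟩ := hg
  have h3 : ind.{w} (ind.{w} P) (f ≫ g) :=
    ⟨J₂, inferInstance, inferInstance, D₂, (Functor.const J₂).map f ≫ s₂, t₂, ht₂, fun j =>
      ⟨ind_comp_of_mem f (s₂.app j) hf (h₂ j).1, by simp [(h₂ j).2]⟩⟩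
  rwa [ind_ind H] at h3

end Generic

section Final

open MorphismProperty Groth.Agent.Helper29.IndEt

theorem underObj_Et (A : Type u) [CommRing A] :
    (Et.{u}).underObj (X := CommRingCat.of A) = etP A := rfl

theorem isIndEtale_iff (A B : Type u) [CommRing A] [CommRing B] [Algebra A B] :
    EtPBC.IsIndEtale A B ↔ ind.{u} Et.{u} (CommRingCat.ofHom (algebraMap A B)) := by
  rw [ind_iff_ind_underMk, underObj_Et]
  exact ⟨ind_of_isIndEtale, isIndEtale_of_ind⟩

/-- S0734 -/
theorem main (A B C : Type u) [CommRing A] [CommRing B] [CommRing C] [Algebra A B]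
    [Algebra B C] [Algebra A C] [IsScalarTower A B C] (hAB : EtPBC.IsIndEtale A B)
    (hBC : EtPBC.IsIndEtale B C) : EtPBC.IsIndEtale A C := by
  rw [isIndEtale_iff] at hAB hBC ⊢
  have h := ind_comp.{u} (P := Et.{u}) Et_le.{u} _ _ hAB hBC
  have e : CommRingCat.ofHom (algebraMap A C) =
      CommRingCat.ofHom (algebraMap A B) ≫ CommRingCat.ofHom (algebraMap B C) := by
    rw [IsScalarTower.algebraMap_eq A B C]
    rfl
  rwa [e]

end Final

end Groth.Agent.Helper29.IndEtComp
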