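import Mathlib
import Groth.Agent.Lib.Helper29.IndEtComp
import Groth.Agent.Lib.Helper29.UnderAcc

/-!
# Factorisation criterion for ind-étale algebras, and cancellation
-/

namespace Groth.Agent.Helper29.IndEtFact

universe u

open CategoryTheory CategoryTheory.Limits MorphismProperty TensorProduct
open Groth.Agent.Helper29.IndEtComp

/-- every map from a finitely presented algebra factors through an étale algebra -/
def HasFact (A C : Type u) [CommRing A] [CommRing C] [Algebra A C] : Prop :=
  ∀ (Y : Type u) [CommRing Y] [Algebra A Y] [Algebra.FinitePresentation A Y] (g : Y →ₐ[A] C),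
    ∃ (W : Type u) (_ : CommRing W) (_ : Algebra A W) (_ : Algebra.Etale A W)
      (u : Y →ₐ[A] W) (v : W →ₐ[A] C), v.comp u = g

variable (A C : Type u) [CommRing A] [CommRing C] [Algebra A C]

theorem hasFact_of_isIndEtale (h : EtPBC.IsIndEtale A C) : HasFact A C := by
  rw [isIndEtale_iff, ind_iff_exists Et_le] at h
  intro Y _ _ _ g
  have hp : MorphismProperty.isFinitelyPresentable.{u} CommRingCat.{u}
      (CommRingCat.ofHom (algebraMap A Y)) :=
    CommRingCat.isFinitelyPresentable_hom _ (RingHom.finitePresentation_algebraMap.2 inferInstance)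
  have hpg : CommRingCat.ofHom (algebraMap A Y) ≫ CommRingCat.ofHom g.toRingHom =
      CommRingCat.ofHom (algebraMap A C) := by
    ext x
    exact g.commutes x
  obtain ⟨W, u, v, huv, hW⟩ := h _ _ hp hpg
  let _ : Algebra A W := (CommRingCat.ofHom (algebraMap A Y) ≫ u).hom.toAlgebra
  have hW' : Algebra.Etale A W := hW
  refine ⟨W, inferInstance, inferInstance, hW', { u.hom with commutes' := fun r => rfl },
    { v.hom with commutes' := fun r => ?_ }, ?_⟩
  · have := congr($(huv).hom (algebraMap A Y r))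
    exact this.trans (g.commutes r)
  · ext y
    exact congr($(huv).hom y)

theorem isIndEtale_of_hasFact (h : HasFact A C) : EtPBC.IsIndEtale A C := by
  rw [isIndEtale_iff, ind_iff_exists Et_le]
  intro Z p g hp hpg
  let _ : Algebra A Z := p.hom.toAlgebra
  have : Algebra.FinitePresentation A Z :=
    UnderAcc.finitePresentation_of_isFinitelyPresentable (CommRingCat.of A) (Under.mk p) hp
  let gA : Z →ₐ[A] C := { g.hom with commutes' := fun r => congr($(hpg).hom r) }
  obtain ⟨W, _, _, hW, u, v, huv⟩ := h Z gA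
  refine ⟨CommRingCat.of W, CommRingCat.ofHom u.toRingHom, CommRingCat.ofHom v.toRingHom, ?_, ?_⟩
  · ext z
    exact congr($(huv) z)
  · have e : (p ≫ CommRingCat.ofHom u.toRingHom).hom = algebraMap A W := by
      ext r
      exact u.commutes r
    change RingHom.Etale (p ≫ CommRingCat.ofHom u.toRingHom).hom
    rw [e]
    exact RingHom.etale_algebraMap.2 hW

section Cancel

variable (B : Type u) [CommRing B] [Algebra A B] [Algebra B C] [IsScalarTower A B C]

/-- the core algebraic step -/
theorem hasFact_step (hC : HasFact A C)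
    (Bi : Type u) [CommRing Bi] [Algebra A Bi] [Algebra Bi B] [IsScalarTower A Bi B]
    [Algebra.Etale A Bi]
    (Zi : Type u) [CommRing Zi] [Algebra Bi Zi] [Algebra.FinitePresentation Bi Zi]
    (Z : Type u) [CommRing Z] [Algebra B Z] (g : Z →ₐ[B] C) (e : Z ≃ₐ[B] B ⊗[Bi] Zi) :
    ∃ (W : Type u) (_ : CommRing W) (_ : Algebra B W) (_ : Algebra.Etale B W)
      (u : Z →ₐ[B] W) (v : W →ₐ[B] C), v.comp u = g := by
  let _ : Algebra A Zi := ((algebraMap Bi Zi).comp (algebraMap A Bi)).toAlgebra
  have : IsScalarTower A Bi Zi := .of_algebraMap_eq fun _ => rfl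
  have : Algebra.FinitePresentation A Zi := Algebra.FinitePresentation.trans A Bi Zi
  let _ : Algebra Bi C := ((algebraMap B C).comp (algebraMap Bi B)).toAlgebra
  have : IsScalarTower Bi B C := .of_algebraMap_eq fun _ => rfl
  have : IsScalarTower A Bi C := .of_algebraMap_eq fun r => by
    change algebraMap A C r = algebraMap B C (algebraMap Bi B (algebraMap A Bi r))
    rw [← IsScalarTower.algebraMap_apply A Bi B, ← IsScalarTower.algebraMap_apply A B C]
  let _ : Algebra Bi Z := ((algebraMap B Z).comp (algebraMap Bi B)).toAlgebra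
  have : IsScalarTower Bi B Z := .of_algebraMap_eq fun _ => rfl
  let gi : Zi →ₐ[Bi] C := (g.restrictScalars Bi).comp
    (((e.symm.restrictScalars Bi) : B ⊗[Bi] Zi →ₐ[Bi] Z).comp
      (Algebra.TensorProduct.includeRight (R := Bi) (A := B) (B := Zi)))
  obtain ⟨W₀, _, _, hW₀, u₀, v₀, huv⟩ := hC Zi (gi.restrictScalars A)
  let _ : Algebra Bi W₀ := (u₀.toRingHom.comp (algebraMap Bi Zi)).toAlgebra
  have : IsScalarTower A Bi W₀ := .of_algebraMap_eq fun r => by
    change algebraMap A W₀ r = u₀ (algebraMap Bi Zi (algebraMap A Bi r))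
    rw [← IsScalarTower.algebraMap_apply A Bi Zi, u₀.commutes]
  have : Algebra.Etale Bi W₀ := Algebra.Etale.of_restrictScalars A Bi W₀
  let u₀' : Zi →ₐ[Bi] W₀ := { u₀.toRingHom with commutes' := fun r => rfl }
  have hv : ∀ z : Zi, v₀ (u₀ z) = gi z := fun z => congr($(huv) z)
  let v₀' : W₀ →ₐ[Bi] C := { v₀.toRingHom with
    commutes' := fun r => by
      change v₀ (u₀ (algebraMap Bi Zi r)) = algebraMap Bi C r
      rw [hv, gi.commutes] }
  let u : Z →ₐ[B] B ⊗[Bi] W₀ :=
    (Algebra.TensorProduct.map (AlgHom.id B B) u₀').comp e.toAlgHom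
  let v : B ⊗[Bi] W₀ →ₐ[B] C :=
    Algebra.TensorProduct.lift (Algebra.ofId B C) v₀' (fun _ _ => Commute.all _ _)
  refine ⟨B ⊗[Bi] W₀, inferInstance, inferInstance, inferInstance, u, v, ?_⟩
  have key : ∀ w : B ⊗[Bi] Zi, v (Algebra.TensorProduct.map (AlgHom.id B B) u₀' w) =
      g (e.symm w) := by
    intro w
    induction w using TensorProduct.induction_on with
    | zero => simp
    | add x y hx hy => simp only [map_add, hx, hy]
    | tmul b z =>
      have h1 : b ⊗ₜ[Bi] z = b • ((1 : B) ⊗ₜ[Bi] z) := by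
        rw [TensorProduct.smul_tmul', smul_eq_mul, mul_one]
      rw [h1, map_smul, map_smul, map_smul, map_smul]
      congr 1
      simp only [Algebra.TensorProduct.map_tmul, map_one, v,
        Algebra.TensorProduct.lift_tmul, one_mul]
      exact hv z
  ext z
  change v (Algebra.TensorProduct.map (AlgHom.id B B) u₀' (e z)) = g z
  rw [key, e.symm_apply_apply]

theorem hasFact_cancel (hB : EtPBC.IsIndEtale A B) (hC : HasFact A C) : HasFact B C := by
  rw [isIndEtale_iff] at hB
  obtain ⟨J₁, _, _, D₁, s₁, t₁, ht₁, h₁⟩ := hB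
  intro Z _ _ _ g
  obtain ⟨i, Zi, _, _, hfp, he⟩ := FiltColim.main_fp D₁ (Cocone.mk _ t₁) ht₁ Z
  let _ : Algebra A (D₁.obj i) := (s₁.app i).hom.toAlgebra
  let _ : Algebra (D₁.obj i) B := (t₁.app i).hom.toAlgebra
  have : IsScalarTower A (D₁.obj i) B := .of_algebraMap_eq fun r =>
    (congr($((h₁ i).2).hom r)).symm
  have : Algebra.Etale A (D₁.obj i) := (h₁ i).1
  obtain ⟨e⟩ := he
  exact hasFact_step A C B hC (D₁.obj i) Zi Z g e

/-- S0735 -/
theorem main (hB : EtPBC.IsIndEtale A B) (hC : EtPBC.IsIndEtale A C) : EtPBC.IsIndEtale B C :=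
  isIndEtale_of_hasFact B C (hasFact_cancel A C B hB (hasFact_of_isIndEtale A C hC))

end Cancel

end Groth.Agent.Helper29.IndEtFact
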