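import Mathlib
import Groth.Prelude.Def_ProEtW

/-!
# Rings whose faithfully flat étale algebras have retractions have strictly henselian
localisations at maximal ideals
-/

namespace Groth.Agent.Helper29.EtRetr

universe u

open Polynomial

section Prod

variable (A B C : Type u) [CommRing A] [CommRing B] [CommRing C] [Algebra A B] [Algebra A C]

/-- the two-element family -/
abbrev Fam : Bool → Type u := fun b => Bool.rec C B b

instance instCR (b : Bool) : CommRing (Fam B C b) := by
  cases b
  · exact (inferInstance : CommRing C)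
  · exact (inferInstance : CommRing B)

instance instAlg (b : Bool) : Algebra A (Fam B C b) := by
  cases b
  · exact (inferInstance : Algebra A C)
  · exact (inferInstance : Algebra A B)

/-- the product as a pi type -/
noncomputable def piEquiv : (Π b, Fam B C b) ≃ₐ[A] B × C where
  toFun f := (f true, f false)
  invFun p := fun b => Bool.rec (motive := fun b => Fam B C b) p.2 p.1 b
  left_inv f := by
    funext b
    cases b <;> rfl
  right_inv p := rfl
  map_mul' f g := rfl
  map_add' f g := rfl
  commutes' r := rfl

theorem etale_prod [Algebra.Etale A B] [Algebra.Etale A C] : Algebra.Etale A (B × C) := by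
  have : ∀ b, Algebra.Etale A (Fam B C b) := by
    intro b
    cases b
    · exact (inferInstance : Algebra.Etale A C)
    · exact (inferInstance : Algebra.Etale A B)
  exact Algebra.Etale.of_equiv (piEquiv A B C)

end Prod

section PartA

variable {A : Type u} [CommRing A] (h : ProEtW.HasEtaleRetractions A) (m : Ideal A) [hm : m.IsMaximal]

include h in
/-- an étale algebra with a point over `m` maps to the localisation at `m` -/
theorem exists_algHom_localization (B : Type u) [CommRing B] [Algebra A B] [Algebra.Etale A B]
    (hB : (⟨m, hm.isPrime⟩ : PrimeSpectrum A) ∈ Set.range (PrimeSpectrum.comap (algebraMap A B))) :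
    Nonempty (B →ₐ[A] Localization.AtPrime m) := by
  have hopen : IsOpenMap (PrimeSpectrum.comap (algebraMap A B)) :=
    PrimeSpectrum.isOpenMap_comap_of_hasGoingDown_of_finitePresentation
  obtain ⟨J, hJ⟩ := (PrimeSpectrum.isClosed_iff_zeroLocus_ideal _).1
    hopen.isOpen_range.isClosed_compl
  have hJm : ¬ J ≤ m := by
    intro hle
    have : (⟨m, hm.isPrime⟩ : PrimeSpectrum A) ∈ PrimeSpectrum.zeroLocus (J : Set A) := hle
    rw [← hJ] at this
    exact this hB
  have hsup : m ⊔ J = ⊤ := by
    by_contra hne
    have := hm.eq_of_le hne le_sup_left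
    exact hJm (this ▸ le_sup_right)
  obtain ⟨t, ht, j, hj, htj⟩ := Submodule.mem_sup.1 (hsup ▸ (Submodule.mem_top : (1 : A) ∈ ⊤))
  have hE : Algebra.Etale A (Localization.Away t) := Algebra.Etale.of_isLocalizationAway t
  have hE' : Algebra.Etale A (B × Localization.Away t) := etale_prod A B (Localization.Away t)
  have hff : Module.FaithfullyFlat A (B × Localization.Away t) := by
    apply Module.FaithfullyFlat.of_comap_surjective
    intro p
    by_cases htp : t ∈ p.asIdeal
    · have hjp : j ∉ p.asIdeal := by
        intro hjp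
        exact p.2.ne_top ((Ideal.eq_top_iff_one _).2 (htj ▸ p.asIdeal.add_mem htp hjp))
      have hp : p ∈ Set.range (PrimeSpectrum.comap (algebraMap A B)) := by
        by_contra hp
        have : p ∈ PrimeSpectrum.zeroLocus (J : Set A) := by rw [← hJ]; exact hp
        exact hjp (this hj)
      obtain ⟨q, rfl⟩ := hp
      refine ⟨PrimeSpectrum.comap (RingHom.fst B (Localization.Away t)) q, ?_⟩
      rw [← PrimeSpectrum.comap_comp_apply]
      rfl
    · have hdisj : Disjoint (Submonoid.powers t : Set A) (p.asIdeal : Set A) := by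
        rw [Set.disjoint_left]
        rintro _ ⟨n, rfl⟩ hn
        exact htp (p.2.mem_of_pow_mem n hn)
      let q : PrimeSpectrum (Localization.Away t) :=
        ⟨Ideal.map (algebraMap A (Localization.Away t)) p.asIdeal,
          IsLocalization.isPrime_of_isPrime_disjoint (Submonoid.powers t) _ _ p.2 hdisj⟩
      have hq : PrimeSpectrum.comap (algebraMap A (Localization.Away t)) q = p := by
        ext1
        exact IsLocalization.under_map_of_isPrime_disjoint (Submonoid.powers t) _ p.2 hdisj
      refine ⟨PrimeSpectrum.comap (RingHom.snd B (Localization.Away t)) q, ?_⟩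
      rw [← hq, ← PrimeSpectrum.comap_comp_apply]
      rfl
  obtain ⟨σ⟩ := h (B × Localization.Away t) hff hE'
  let φ : (B × Localization.Away t) →ₐ[A] Localization.AtPrime m :=
    (Algebra.ofId A (Localization.AtPrime m)).comp σ
  have h10 : φ (1, 0) * φ (0, 1) = 0 := by
    rw [← map_mul, Prod.mk_mul_mk, mul_zero, zero_mul, Prod.mk_zero_zero, map_zero]
  have h11 : φ (1, 0) + φ (0, 1) = 1 := by
    rw [← map_add, Prod.mk_add_mk, add_zero, zero_add, Prod.mk_one_one, map_one]
  have hu : φ (1, 0) = 1 := by
    rcases IsLocalRing.isUnit_or_isUnit_of_add_one h11 with hu | hu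
    · have h0 : φ (0, 1) = 0 := by
        have := congrArg (fun x => (↑hu.unit⁻¹ : Localization.AtPrime m) * x) h10
        simpa [← mul_assoc] using this
      rw [h0, add_zero] at h11
      exact h11
    · exfalso
      have h0 : φ (1, 0) = 0 := by
        have := congrArg (fun x => x * (↑hu.unit⁻¹ : Localization.AtPrime m)) h10
        simpa [mul_assoc] using this
      rw [h0, zero_add] at h11
      -- `t` becomes a unit in the local ring, but `t ∈ m`
      have h2 : φ (0, algebraMap A _ t) = algebraMap A _ t := by
        have : ((0 : B), algebraMap A (Localization.Away t) t) = t • ((0 : B), (1 : Localization.Away t)) := by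
          ext <;> simp [Algebra.smul_def]
        rw [this, map_smul, h11, Algebra.smul_def, mul_one]
      have h3 : IsUnit (algebraMap A (Localization.Away t) t) :=
        IsLocalization.Away.algebraMap_isUnit t
      have h4 : IsUnit (φ (0, algebraMap A _ t)) := by
        obtain ⟨v, hv⟩ := h3
        refine IsUnit.of_mul_eq_one (φ (0, ↑v⁻¹)) ?_
        rw [← map_mul, ← hv]
        simp [h11]
      rw [h2] at h4
      have h5 : algebraMap A (Localization.AtPrime m) t ∈
          IsLocalRing.maximalIdeal (Localization.AtPrime m) := by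
        rw [← Localization.AtPrime.map_eq_maximalIdeal]
        exact Ideal.mem_map_of_mem _ ht
      exact h5 h4
  refine ⟨{ toFun := fun b => φ (b, 0)
            map_one' := hu
            map_mul' := fun x y => by rw [← map_mul]; simp
            map_zero' := by rw [Prod.mk_zero_zero, map_zero]
            map_add' := fun x y => by rw [← map_add]; simp
            commutes' := fun r => ?_ }⟩
  have : ((algebraMap A B r, 0) : B × Localization.Away t) = r • ((1 : B), (0 : Localization.Away t)) := by
    ext <;> simp [Algebra.smul_def]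
  change φ (algebraMap A B r, 0) = _
  rw [this, map_smul, hu, Algebra.smul_def, mul_one]

include h in
/-- a point of a standard étale algebra in the residue field lifts to the localisation -/
theorem exists_hasMap (P : StandardEtalePair A) (a₀ : m.ResidueField) (ha : P.HasMap a₀) :
    ∃ x : Localization.AtPrime m, P.HasMap x := by
  let φ₀ : P.Ring →ₐ[A] m.ResidueField := P.lift a₀ ha
  have hker : Ideal.comap (algebraMap A P.Ring) (RingHom.ker φ₀.toRingHom) = m := by
    refine Eq.trans ?_ (Ideal.ker_algebraMap_residueField m)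
    ext r
    simp only [Ideal.mem_comap, RingHom.mem_ker]
    change φ₀ (algebraMap A P.Ring r) = 0 ↔ _
    rw [φ₀.commutes]
  have hB : (⟨m, hm.isPrime⟩ : PrimeSpectrum A) ∈
      Set.range (PrimeSpectrum.comap (algebraMap A P.Ring)) :=
    ⟨⟨RingHom.ker φ₀.toRingHom, RingHom.ker_isPrime _⟩, PrimeSpectrum.ext hker⟩
  obtain ⟨ψ⟩ := exists_algHom_localization h m P.Ring hB
  exact ⟨ψ P.X, StandardEtalePair.hasMap_X.map ψ⟩

include h in
/-- Part B: the residue field is separably closed -/
theorem isSepClosed_residueField : IsSepClosed m.ResidueField := by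
  apply IsSepClosed.of_exists_root
  intro p hp hirr hsep
  have hlift : p ∈ Polynomial.lifts (algebraMap A m.ResidueField) := by
    rw [Polynomial.lifts_iff_coeff_lifts]
    intro n
    exact m.algebraMap_residueField_surjective _
  obtain ⟨f, hf, -, hfm⟩ := Polynomial.lifts_and_natDegree_eq_and_monic hlift hp
  let P : StandardEtalePair A :=
    { f := f, monic_f := hfm, g := derivative f, cond := ⟨1, 0, 1, by simp⟩ }
  -- a point in the field `AdjoinRoot p` would do, but we only have `m.ResidueField`;
  -- instead use the point of `P.Ring` over `m` coming from `AdjoinRoot p`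
  have : Fact (Irreducible p) := ⟨hirr⟩
  let K := AdjoinRoot p
  have : IsScalarTower A m.ResidueField K := inferInstance
  have hroot : aeval (AdjoinRoot.root p) f = 0 := by
    rw [← Polynomial.aeval_map_algebraMap m.ResidueField, hf]
    exact AdjoinRoot.aeval_eq p ▸ AdjoinRoot.mk_self
  have hder : IsUnit (aeval (AdjoinRoot.root p) (derivative f)) := by
    rw [← Polynomial.aeval_map_algebraMap m.ResidueField, ← Polynomial.derivative_map, hf,
      isUnit_iff_ne_zero]
    intro h0
    have hdvd : p ∣ derivative p := by
      rw [← AdjoinRoot.mk_eq_zero, ← AdjoinRoot.aeval_eq]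
      exact h0
    have hcop : IsCoprime p (derivative p) := hsep
    exact hirr.not_isUnit (hcop.isUnit_of_dvd' dvd_rfl hdvd)
  let φ₀ : P.Ring →ₐ[A] K := P.lift (AdjoinRoot.root p) ⟨hroot, hder⟩
  have hker : Ideal.comap (algebraMap A P.Ring) (RingHom.ker φ₀.toRingHom) = m := by
    refine Eq.trans ?_ (Ideal.ker_algebraMap_residueField m)
    ext r
    simp only [Ideal.mem_comap, RingHom.mem_ker]
    change φ₀ (algebraMap A P.Ring r) = 0 ↔ _
    rw [φ₀.commutes, IsScalarTower.algebraMap_apply A m.ResidueField K,
      map_eq_zero_iff _ (algebraMap m.ResidueField K).injective]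
  have hB : (⟨m, hm.isPrime⟩ : PrimeSpectrum A) ∈
      Set.range (PrimeSpectrum.comap (algebraMap A P.Ring)) :=
    ⟨⟨RingHom.ker φ₀.toRingHom, RingHom.ker_isPrime _⟩, PrimeSpectrum.ext hker⟩
  obtain ⟨ψ⟩ := exists_algHom_localization h m P.Ring hB
  have hx : P.HasMap (ψ P.X) := StandardEtalePair.hasMap_X.map ψ
  refine ⟨IsLocalRing.residue _ (ψ P.X), ?_⟩
  have h1 : aeval (ψ P.X) f = 0 := hx.1
  have h2 := congrArg (IsLocalRing.residue (Localization.AtPrime m)) h1
  rw [map_zero, ← hf, Polynomial.eval_map_algebraMap] at *
  rw [← h2]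
  exact (Polynomial.aeval_algHom_apply
    (IsScalarTower.toAlgHom A (Localization.AtPrime m) m.ResidueField) (ψ P.X) f)

include h in
/-- Part C2: simple roots of monic polynomials over `A` lift -/
theorem exists_root_of_monic (F₀ : A[X]) (hF : F₀.Monic) (a₀ : m.ResidueField)
    (h1 : aeval a₀ F₀ = 0) (h2 : aeval a₀ (derivative F₀) ≠ 0) :
    ∃ x : Localization.AtPrime m, aeval x F₀ = 0 ∧ IsLocalRing.residue _ x = a₀ := by
  let ρ := algebraMap A m.ResidueField
  let Fb : m.ResidueField[X] := F₀.map ρ
  have hroot : Fb.IsRoot a₀ := by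
    change eval a₀ (F₀.map ρ) = 0
    rw [Polynomial.eval_map_algebraMap]; exact h1
  let Gb : m.ResidueField[X] := Fb /ₘ (X - C a₀)
  have hfac : (X - C a₀) * Gb = Fb := Polynomial.mul_divByMonic_eq_iff_isRoot.2 hroot
  have hder : eval a₀ (derivative Fb) = eval a₀ Gb := by
    rw [← hfac]
    simp [derivative_mul]
  have hGb : eval a₀ Gb ≠ 0 := by
    rw [← hder]
    change eval a₀ (derivative (F₀.map ρ)) ≠ 0
    rw [Polynomial.derivative_map, Polynomial.eval_map_algebraMap]
    exact h2
  obtain ⟨G, hG⟩ := Polynomial.map_surjective ρ m.algebraMap_residueField_surjective Gb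
  let P : StandardEtalePair A :=
    { f := F₀, monic_f := hF, g := derivative F₀ * G, cond := ⟨G, 0, 1, by ring⟩ }
  have haG : ∀ y : m.ResidueField, aeval y G = eval y Gb := by
    intro y
    rw [← hG, Polynomial.eval_map_algebraMap]
  have hmap : P.HasMap a₀ := by
    refine ⟨h1, ?_⟩
    change IsUnit (aeval a₀ (derivative F₀ * G))
    rw [map_mul, isUnit_iff_ne_zero, haG]
    exact mul_ne_zero h2 hGb
  obtain ⟨x, hx1, hx2⟩ := exists_hasMap h m P a₀ hmap
  refine ⟨x, hx1, ?_⟩
  let res : Localization.AtPrime m →ₐ[A] m.ResidueField :=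
    IsScalarTower.toAlgHom A (Localization.AtPrime m) m.ResidueField
  have hres : ∀ q : A[X], aeval (res x) q = res (aeval x q) := fun q =>
    Polynomial.aeval_algHom_apply res x q
  have e1 : aeval (res x) F₀ = 0 := by
    rw [hres, hx1, map_zero]
  have e2 : aeval (res x) (derivative F₀ * G) ≠ 0 := by
    rw [hres]
    exact (hx2.map res).ne_zero
  rw [map_mul, haG] at e2
  have e3 : eval (res x) Fb = 0 := by
    change eval (res x) (F₀.map ρ) = 0
    rw [Polynomial.eval_map_algebraMap]; exact e1
  rw [← hfac, eval_mul, eval_sub, eval_X, eval_C] at e3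
  rcases mul_eq_zero.1 e3 with e4 | e4
  · exact sub_eq_zero.1 e4
  · exact absurd e4 (right_ne_zero_of_mul e2)

theorem scaleRoots_comp {S : Type*} [CommRing S] (p : S[X]) (s : S) :
    (p.scaleRoots s).comp (C s * X) = C (s ^ p.natDegree) * p := by
  ext i
  rw [comp_C_mul_X_coeff, coeff_scaleRoots, coeff_C_mul]
  by_cases hi : i ≤ p.natDegree
  · rw [mul_assoc, ← pow_add, Nat.sub_add_cancel hi, mul_comm]
  · rw [coeff_eq_zero_of_natDegree_lt (not_le.1 hi), zero_mul, zero_mul, mul_zero]

include h in
/-- Part C: the localisation is henselian -/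
theorem henselian : HenselianLocalRing (Localization.AtPrime m) := by
  refine { is_henselian := ?_ }
  intro F hF a₀ h1 h2
  let R := Localization.AtPrime m
  let s := IsLocalization.commonDenom m.primeCompl F.support F.coeff
  let u : R := algebraMap A R s
  have hu : IsUnit u := IsLocalization.map_units R s
  have hlift : F.scaleRoots u ∈ Polynomial.lifts (algebraMap A R) :=
    IsLocalization.scaleRoots_commonDenom_mem_lifts m.primeCompl F
      (by rw [hF.leadingCoeff]; exact one_mem _)
  have hmon : (F.scaleRoots u).Monic := (monic_scaleRoots_iff u).2 hF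
  obtain ⟨F₀, hF₀, -, hF₀m⟩ := Polynomial.lifts_and_natDegree_eq_and_monic hlift hmon
  -- the scaled root
  have hcomp := scaleRoots_comp F u
  have hev : eval (u * a₀) (F.scaleRoots u) = u ^ F.natDegree * eval a₀ F :=
    scaleRoots_eval_mul F a₀ u
  have hderiv : u * eval (u * a₀) (derivative (F.scaleRoots u)) =
      u ^ F.natDegree * eval a₀ (derivative F) := by
    have := congrArg (fun q => eval a₀ (derivative q)) hcomp
    simp only [derivative_comp, derivative_C_mul, derivative_X, mul_one, eval_mul, eval_C,
      eval_comp, eval_X] at this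
    exact this
  let res := IsLocalRing.residue R
  have hres : ∀ (q : A[X]) (y : R), aeval (res y) q = res (eval y (q.map (algebraMap A R))) := by
    intro q y
    rw [Polynomial.eval_map_algebraMap]
    exact Polynomial.aeval_algHom_apply (IsScalarTower.toAlgHom A R m.ResidueField) y q
  have k1 : aeval (res (u * a₀)) F₀ = 0 := by
    rw [hres, hF₀, hev, map_mul]
    rw [(IsLocalRing.residue_eq_zero_iff _).2 h1, mul_zero]
  have k2 : aeval (res (u * a₀)) (derivative F₀) ≠ 0 := by
    rw [hres, ← Polynomial.derivative_map, hF₀]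
    have hunit : IsUnit (eval (u * a₀) (derivative (F.scaleRoots u))) := by
      have h3 : IsUnit (u * eval (u * a₀) (derivative (F.scaleRoots u))) := by
        rw [hderiv]; exact (hu.pow _).mul h2
      exact isUnit_of_mul_isUnit_right h3
    exact (hunit.map res).ne_zero
  obtain ⟨y, hy1, hy2⟩ := exists_root_of_monic h m F₀ hF₀m _ k1 k2
  -- unscale
  obtain ⟨v, hv⟩ := hu
  refine ⟨↑v⁻¹ * y, ?_, ?_⟩
  · have e1 : eval y (F.scaleRoots u) = 0 := by
      rw [← hF₀, Polynomial.eval_map_algebraMap]; exact hy1
    have e2 : y = u * (↑v⁻¹ * y) := by rw [← hv, ← mul_assoc, Units.mul_inv, one_mul]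
    rw [e2, scaleRoots_eval_mul] at e1
    have e3 : IsUnit (u ^ F.natDegree) := by rw [← hv]; exact (v.isUnit.pow _)
    exact (e3.mul_right_eq_zero).1 e1
  · have e4 : res y = res (u * a₀) := hy2
    have e5 : y - u * a₀ ∈ IsLocalRing.maximalIdeal R := by
      rw [← IsLocalRing.residue_eq_zero_iff, map_sub, sub_eq_zero]; exact e4
    have e6 : ↑v⁻¹ * y - a₀ = ↑v⁻¹ * (y - u * a₀) := by
      rw [mul_sub, ← mul_assoc, ← hv, Units.inv_mul, one_mul]
    rw [e6]
    exact Ideal.mul_mem_left _ _ e5

include h in
/-- S0675 -/
theorem main : EtCoh.IsStrictlyHenselianLocalRing (Localization.AtPrime m) :=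
  ⟨henselian h m, isSepClosed_residueField h m⟩

end PartA

end Groth.Agent.Helper29.EtRetr
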