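import Groth.Prelude.Def_W4c6instabfans3FanCvx
import Mathlib

set_option autoImplicit false
universe u
open CategoryTheory Opposite Instab
open Instab Instab.Fan

namespace Groth.Agent.Helper29

theorem realMap_id (n : ICone) (v : Fin n.dim → ℝ) : (𝟙 n : n ⟶ n).realMap v = v := by
  funext j
  unfold ICone.Hom.realMap
  have : (𝟙 n : n ⟶ n).toLin = LinearMap.id := rfl
  rw [this]
  simp only [LinearMap.id_coe, id_eq]
  rw [Finset.sum_eq_single j]
  · simp
  · intro i _ hij
    simp [Ne.symm hij]
  · intro h; exact absurd (Finset.mem_univ j) h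

/-- rescaling by a positive constant does not change the point of `P F`. -/
theorem P_mk_smul {F : Fan.{u}} {n : ICone} (ξ : F.obj (op n)) (v w : Fan.Orth n) (c : ℝ)
    (hc : 0 < c) (h : w.1 = c • v.1) : Fan.P.mk ξ v = Fan.P.mk ξ w := by
  have hr := Fan.Rel.glue (F := F) (𝟙 n) ξ v w c hc (by rw [realMap_id]; exact h)
  have hid : (ConcreteCategory.hom (F.map (𝟙 n).op)) ξ = ξ := by
    simp
  rw [hid] at hr
  exact Quot.sound hr

end Groth.Agent.Helper29
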