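import Mathlib

/-!
# A finite module over a Noetherian local ring of characteristic `p` isomorphic to its Frobenius
pullback is free
-/

set_option linter.unusedSectionVars false

namespace Groth.Agent.Helper29.FrobFree

open TensorProduct

universe u

section General

variable {R : Type u} [CommRing R] (F : R →+* R) (M : Type u) [AddCommGroup M] [Module R M]

/-- `R` as a module over itself through `F` -/
noncomputable abbrev Q : ModuleCat R := (ModuleCat.restrictScalars F).obj (ModuleCat.of R R)

/-- the base change of `M` along `F` -/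
noncomputable abbrev T : ModuleCat R := (ModuleCat.extendScalars F).obj (ModuleCat.of R M)

noncomputable def toR : Q F →+ R := AddMonoidHom.id R
noncomputable def ofR : R →+ Q F := AddMonoidHom.id R
theorem toR_smul (q : Q F) (r : R) : toR F (r • q) = F r * toR F q := rfl
theorem toR_ofR (r : R) : toR F (ofR F r) = r := rfl
theorem ofR_toR (q : Q F) : ofR F (toR F q) = q := rfl

/-- view a tensor as an element of `T` -/
noncomputable def toT : (Q F ⊗[R] M) →+ T F M := AddMonoidHom.id _

theorem toT_injective : Function.Injective (toT F M) := fun _ _ h => h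

theorem toT_surjective : Function.Surjective (toT F M) := fun x => ⟨x, rfl⟩

set_option backward.isDefEq.respectTransparency false in
theorem smul_toT (s : R) (q : Q F) (m : M) :
    s • toT F M (q ⊗ₜ[R] m) = toT F M ((ofR F (s * toR F q)) ⊗ₜ[R] m) := rfl

/-- the coordinate maps -/
noncomputable def ev (n : ℕ) (j : Fin n) : (Q F ⊗[R] (Fin n → R)) →ₗ[R] Q F :=
  (TensorProduct.rid R (Q F)).toLinearMap ∘ₗ LinearMap.lTensor (Q F) (LinearMap.proj j)

theorem ev_tmul (n : ℕ) (j : Fin n) (q : Q F) (c : Fin n → R) :
    toR F (ev F n j (q ⊗ₜ c)) = F (c j) * toR F q := by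
  simp only [ev, LinearMap.coe_comp, LinearEquiv.coe_coe, Function.comp_apply,
    LinearMap.lTensor_tmul, LinearMap.proj_apply, TensorProduct.rid_tmul]
  exact toR_smul F q (c j)

/-- the key statement: coordinates of relations of the base change -/
theorem ker_coord (n : ℕ) (π : (Fin n → R) →ₗ[R] M) (hπ : Function.Surjective π)
    (J : Ideal R) (hJ : ∀ c ∈ LinearMap.ker π, ∀ i, c i ∈ J) (x : Fin n → R)
    (hx : ∑ j, x j • toT F M ((ofR F 1) ⊗ₜ[R] π (Pi.single j 1)) = 0) (j : Fin n) :
    x j ∈ Ideal.map F J := by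
  classical
  set t : Q F ⊗[R] (Fin n → R) := ∑ i, (ofR F (x i)) ⊗ₜ[R] (Pi.single i (1 : R)) with ht
  have h1 : LinearMap.lTensor (Q F) π t = 0 := by
    apply toT_injective F M
    rw [map_zero, ← hx, ht, map_sum, map_sum]
    apply Finset.sum_congr rfl
    intro i _
    rw [LinearMap.lTensor_tmul, smul_toT, toR_ofR, mul_one]
  have hex := lTensor_exact (Q F) (LinearMap.exact_subtype_ker_map π) hπ
  obtain ⟨t', ht'⟩ := (hex t).mp h1
  have h2 : toR F (ev F n j t) = x j := by
    rw [ht, map_sum, map_sum]
    simp_rw [ev_tmul, toR_ofR]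
    rw [Finset.sum_eq_single j]
    · simp
    · intro i _ hij
      simp [Ne.symm hij]
    · intro h; exact absurd (Finset.mem_univ j) h
  have key : ∀ t'' : Q F ⊗[R] (LinearMap.ker π),
      toR F (ev F n j (LinearMap.lTensor (Q F) (LinearMap.ker π).subtype t'')) ∈
        Ideal.map F J := by
    intro t''
    induction t'' using TensorProduct.induction_on with
    | zero => simp
    | tmul q c =>
      rw [LinearMap.lTensor_tmul, ev_tmul]
      exact Ideal.mul_mem_right _ _ (Ideal.mem_map_of_mem F (hJ c.1 c.2 j))
    | add a b ha hb =>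
      rw [map_add, map_add, map_add]
      exact Ideal.add_mem _ ha hb
  rw [← h2, ← ht']
  exact key t'

/-- `T` is generated by the `1 ⊗ π(e_j)` -/
theorem gen_surj (n : ℕ) (π : (Fin n → R) →ₗ[R] M) (hπ : Function.Surjective π) (y : T F M) :
    ∃ x : Fin n → R, ∑ j, x j • toT F M ((ofR F 1) ⊗ₜ[R] π (Pi.single j 1)) = y := by
  classical
  obtain ⟨t, rfl⟩ := toT_surjective F M y
  induction t using TensorProduct.induction_on with
  | zero => exact ⟨0, by simp⟩
  | tmul q m =>
    obtain ⟨c, rfl⟩ := hπ m
    refine ⟨fun i => F (c i) * toR F q, ?_⟩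
    have hc : c = ∑ i, c i • (Pi.single i (1 : R) : Fin n → R) := by
      ext k
      simp [Finset.sum_apply, Pi.single_apply]
    conv_rhs => rw [hc, map_sum, TensorProduct.tmul_sum, map_sum]
    apply Finset.sum_congr rfl
    intro i _
    rw [smul_toT, toR_ofR, mul_one, map_smul, TensorProduct.tmul_smul, TensorProduct.smul_tmul']
    congr 2
  | add a b ha hb =>
    obtain ⟨xa, hxa⟩ := ha
    obtain ⟨xb, hxb⟩ := hb
    refine ⟨xa + xb, ?_⟩
    rw [map_add, ← hxa, ← hxb, ← Finset.sum_add_distrib]
    apply Finset.sum_congr rfl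
    intro i _
    rw [Pi.add_apply, add_smul]

end General

section Local

variable {R : Type u} [CommRing R] [IsLocalRing R]
variable (M : Type u) [AddCommGroup M] [Module R M] [Module.Finite R M]

open IsLocalRing

/-- a minimal presentation -/
theorem exists_min_pres : ∃ (n : ℕ) (π : (Fin n → R) →ₗ[R] M), Function.Surjective π ∧
    ∀ c ∈ LinearMap.ker π, ∀ i, c i ∈ maximalIdeal R := by
  classical
  let k := ResidueField R
  let b := Module.finBasis k (k ⊗[R] M)
  have hsurj : Function.Surjective (TensorProduct.mk R k M 1) :=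
    TensorProduct.mk_surjective R M k Ideal.Quotient.mk_surjective
  choose f hf using fun i => hsurj (b i)
  refine ⟨_, Fintype.linearCombination R f, ?_, ?_⟩
  · rw [← LinearMap.range_eq_top, Fintype.range_linearCombination]
    exact span_eq_top_of_tmul_eq_basis f b hf
  · intro c hc i
    rw [LinearMap.mem_ker, Fintype.linearCombination_apply] at hc
    have h1 := congrArg (TensorProduct.mk R k M 1) hc
    rw [map_sum, map_zero] at h1
    have h2 : ∑ j, (algebraMap R k (c j)) • b j = 0 := by
      rw [← h1]
      apply Finset.sum_congr rfl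
      intro j _
      rw [map_smul, hf, algebraMap_smul]
    have h3 := Fintype.linearIndependent_iff.mp b.linearIndependent _ h2 i
    exact (residue_eq_zero_iff _).mp h3

theorem main [IsNoetherianRing R] (p : ℕ) [Fact p.Prime] [CharP R p]
    (h : Nonempty ((ModuleCat.extendScalars (frobenius R p)).obj (ModuleCat.of R M) ≅
      ModuleCat.of R M)) : Module.Free R M := by
  classical
  set F := frobenius R p with hF
  obtain ⟨n, π, hπ, hK⟩ := exists_min_pres (R := R) M
  obtain ⟨iso⟩ := h
  let φ : T F M ≃ₗ[R] M := iso.toLinearEquiv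
  -- the ideal of coordinates of relations
  set J : Ideal R := Ideal.span {r | ∃ c ∈ LinearMap.ker π, ∃ i, r = c i} with hJ
  have hJmem : ∀ c ∈ LinearMap.ker π, ∀ i, c i ∈ J := fun c hc i =>
    Ideal.subset_span ⟨c, hc, i, rfl⟩
  have hJm : J ≤ maximalIdeal R := by
    rw [hJ, Ideal.span_le]
    rintro r ⟨c, hc, i, rfl⟩
    exact hK c hc i
  -- second presentation
  set g : Fin n → M := fun j => φ (toT F M ((ofR F 1) ⊗ₜ[R] π (Pi.single j 1))) with hg
  have hπ₂ : ∀ x : Fin n → R, ∑ j, x j • g j =
      φ (∑ j, x j • toT F M ((ofR F 1) ⊗ₜ[R] π (Pi.single j 1))) := by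
    intro x
    rw [map_sum]
    apply Finset.sum_congr rfl
    intro j _
    rw [map_smul]
  have hπ₂surj : ∀ m : M, ∃ x : Fin n → R, ∑ j, x j • g j = m := by
    intro m
    obtain ⟨x, hx⟩ := gen_surj F M n π hπ (φ.symm m)
    exact ⟨x, by rw [hπ₂, hx, LinearEquiv.apply_symm_apply]⟩
  have hπ₂ker : ∀ x : Fin n → R, ∑ j, x j • g j = 0 → ∀ j, x j ∈ Ideal.map F J := by
    intro x hx j
    rw [hπ₂] at hx
    have := φ.injective (hx.trans (map_zero φ).symm)
    exact ker_coord F M n π hπ J hJmem x this j
  -- the comparison map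
  choose u hu using fun j => hπ (g j)
  set U : (Fin n → R) →ₗ[R] (Fin n → R) := Fintype.linearCombination R u with hU
  have hπU : ∀ x, π (U x) = ∑ j, x j • g j := by
    intro x
    rw [hU, Fintype.linearCombination_apply, map_sum]
    apply Finset.sum_congr rfl
    intro j _
    rw [map_smul, hu]
  have hkerle : LinearMap.ker π ≤ (maximalIdeal R) • (⊤ : Submodule R (Fin n → R)) := by
    intro c hc
    have : c = ∑ i, c i • (Pi.single i (1 : R) : Fin n → R) := by
      ext k
      simp [Finset.sum_apply, Pi.single_apply]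
    rw [this]
    exact Submodule.sum_mem _ fun i _ =>
      Submodule.smul_mem_smul (hK c hc i) Submodule.mem_top
  have hUsurj : Function.Surjective U := by
    rw [← LinearMap.range_eq_top, eq_top_iff]
    apply Submodule.le_of_le_smul_of_le_jacobson_bot (I := maximalIdeal R)
      (Module.Finite.fg_top)
    · rw [jacobson_eq_maximalIdeal]
      exact bot_ne_top
    · intro y _
      obtain ⟨x, hx⟩ := hπ₂surj (π y)
      have hmem : y - U x ∈ LinearMap.ker π := by
        rw [LinearMap.mem_ker, map_sub, hπU, hx, sub_self]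
      have : y = U x + (y - U x) := by abel
      rw [this]
      exact Submodule.add_mem_sup (LinearMap.mem_range_self U x) (hkerle hmem)
  have hJle : J ≤ Ideal.map F J := by
    rw [hJ, Ideal.span_le]
    rintro r ⟨c, hc, i, rfl⟩
    obtain ⟨x, rfl⟩ := hUsurj c
    have hx0 : ∑ j, x j • g j = 0 := by rw [← hπU]; exact hc
    have hxm := hπ₂ker x hx0
    rw [hU, Fintype.linearCombination_apply, Finset.sum_apply]
    apply Ideal.sum_mem
    intro j _
    rw [Pi.smul_apply, smul_eq_mul]
    exact Ideal.mul_mem_right _ _ (hxm j)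
  have hmaple : Ideal.map F J ≤ (maximalIdeal R) • J := by
    rw [Ideal.map_le_iff_le_comap]
    intro a ha
    rw [Ideal.mem_comap, hF, frobenius_def]
    have hp : p = (p - 1) + 1 := by
      have := (Fact.out : p.Prime).one_lt
      omega
    rw [hp, pow_succ, smul_eq_mul]
    refine Ideal.mul_mem_mul ?_ ha
    exact Ideal.pow_mem_of_mem _ (hJm ha) _ (by
      have := (Fact.out : p.Prime).one_lt
      omega)
  have hJbot : J = ⊥ := by
    apply Submodule.eq_bot_of_le_smul_of_le_jacobson_bot (maximalIdeal R) J
      (IsNoetherian.noetherian J) (hJle.trans hmaple)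
    rw [jacobson_eq_maximalIdeal]
    exact bot_ne_top
  have hker : LinearMap.ker π = ⊥ := by
    rw [eq_bot_iff]
    intro c hc
    rw [Submodule.mem_bot]
    funext i
    have := hJmem c hc i
    rw [hJbot, Ideal.mem_bot] at this
    exact this
  have hbij : Function.Bijective π := ⟨LinearMap.ker_eq_bot.mp hker, hπ⟩
  exact Module.Free.of_equiv (LinearEquiv.ofBijective π hbij)

end Local

end Groth.Agent.Helper29.FrobFree
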