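import Mathlib
import Groth.Prelude.Def_GrSeg
import Groth.Prelude.Def_GrLC

/-!
# Graded modules over graded `k`-algebras: `k`-linear components (helper29)
-/

namespace Groth.Agent.Helper29.GrK

universe u

open DirectSum

section Basic

variable {k : Type u} [Field k] {R : Type u} [CommRing R] [Algebra k R]
  (𝒜 : ℤ → Submodule k R) [GradedAlgebra 𝒜]
  {M : Type u} [AddCommGroup M] [Module R M] [Module k M] [IsScalarTower k R M]
  {τ : Type u} [SetLike τ M] [AddSubgroupClass τ M]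
  (ℳ : ℤ → τ) [DirectSum.Decomposition ℳ] [SetLike.GradedSMul 𝒜 ℳ]

include 𝒜 in
theorem ksmul_mem (c : k) {m : ℤ} {x : M} (hx : x ∈ ℳ m) : c • x ∈ ℳ m := by
  have h1 : algebraMap k R c ∈ 𝒜 0 := SetLike.algebraMap_mem_graded 𝒜 c
  have h2 := SetLike.GradedSMul.smul_mem (A := 𝒜) (B := ℳ) h1 hx
  rw [vadd_eq_add, zero_add, algebraMap_smul] at h2
  exact h2

theorem smul_mem {c m : ℤ} {r : R} (hr : r ∈ 𝒜 c) {x : M} (hx : x ∈ ℳ m) :
    r • x ∈ ℳ (c + m) := by
  have h2 := SetLike.GradedSMul.smul_mem (A := 𝒜) (B := ℳ) hr hx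
  rwa [vadd_eq_add] at h2

/-- The degree-`m` component of `x`. -/
def proj (m : ℤ) (x : M) : M := ((DirectSum.decompose ℳ x) m : M)

theorem proj_mem (m : ℤ) (x : M) : proj ℳ m x ∈ ℳ m := SetLike.coe_mem _

theorem proj_add (m : ℤ) (x y : M) : proj ℳ m (x + y) = proj ℳ m x + proj ℳ m y := by
  unfold proj
  rw [DirectSum.decompose_add, DirectSum.add_apply]
  rfl

theorem proj_zero (m : ℤ) : proj ℳ m (0 : M) = 0 := by
  unfold proj
  rw [DirectSum.decompose_zero, DirectSum.zero_apply]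
  rfl

theorem proj_of_mem_same {m : ℤ} {x : M} (hx : x ∈ ℳ m) : proj ℳ m x = x :=
  DirectSum.decompose_of_mem_same ℳ hx

theorem proj_of_mem_ne {i m : ℤ} {x : M} (hx : x ∈ ℳ i) (h : i ≠ m) : proj ℳ m x = 0 :=
  DirectSum.decompose_of_mem_ne ℳ hx h

include 𝒜 in
theorem proj_ksmul (c : k) (m : ℤ) (x : M) : proj ℳ m (c • x) = c • proj ℳ m x := by
  refine DirectSum.Decomposition.inductionOn ℳ ?_ ?_ ?_ x
  · rw [smul_zero, proj_zero, smul_zero]
  · intro i y
    by_cases h : i = m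
    · subst h
      rw [proj_of_mem_same ℳ (ksmul_mem 𝒜 ℳ c y.2), proj_of_mem_same ℳ y.2]
    · rw [proj_of_mem_ne ℳ (ksmul_mem 𝒜 ℳ c y.2) h, proj_of_mem_ne ℳ y.2 h, smul_zero]
  · intro y y' hy hy'
    rw [smul_add, proj_add, proj_add, hy, hy', smul_add]

/-- The component as a `k`-linear map. -/
def projL (m : ℤ) : M →ₗ[k] M where
  toFun := proj ℳ m
  map_add' := proj_add ℳ m
  map_smul' c x := proj_ksmul 𝒜 ℳ c m x

@[simp] theorem projL_apply (m : ℤ) (x : M) : projL 𝒜 ℳ m x = proj ℳ m x := rfl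

theorem proj_smul {c : ℤ} {r : R} (hr : r ∈ 𝒜 c) (m : ℤ) (x : M) :
    proj ℳ (c + m) (r • x) = r • proj ℳ m x := by
  refine DirectSum.Decomposition.inductionOn ℳ ?_ ?_ ?_ x
  · rw [smul_zero, proj_zero, proj_zero, smul_zero]
  · intro i y
    by_cases h : i = m
    · subst h
      rw [proj_of_mem_same ℳ (smul_mem 𝒜 ℳ hr y.2), proj_of_mem_same ℳ y.2]
    · have h' : c + i ≠ c + m := fun h'' => h (by omega)
      rw [proj_of_mem_ne ℳ (smul_mem 𝒜 ℳ hr y.2) h', proj_of_mem_ne ℳ y.2 h, smul_zero]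
  · intro y y' hy hy'
    rw [smul_add, proj_add, proj_add, hy, hy', smul_add]

theorem sum_proj (x : M) : ∃ s : Finset ℤ, x = ∑ i ∈ s, proj ℳ i x := by
  classical
  exact ⟨_, (DirectSum.sum_support_decompose ℳ x).symm⟩

theorem eq_zero_of_proj_eq_zero {x : M} (h : ∀ i, proj ℳ i x = 0) : x = 0 := by
  obtain ⟨s, hs⟩ := sum_proj ℳ x
  rw [hs]
  exact Finset.sum_eq_zero fun i _ => h i

include 𝒜 in
theorem proj_sub (m : ℤ) (x y : M) : proj ℳ m (x - y) = proj ℳ m x - proj ℳ m y :=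
  map_sub (projL 𝒜 ℳ m) x y

theorem proj_proj_same (m : ℤ) (x : M) : proj ℳ m (proj ℳ m x) = proj ℳ m x :=
  proj_of_mem_same ℳ (proj_mem ℳ m x)

theorem proj_proj_ne {i m : ℤ} (h : i ≠ m) (x : M) : proj ℳ m (proj ℳ i x) = 0 :=
  proj_of_mem_ne ℳ (proj_mem ℳ i x) h

include 𝒜 in
theorem mem_of_forall_proj_eq_zero {m : ℤ} {x : M} (h : ∀ i, i ≠ m → proj ℳ i x = 0) :
    x ∈ ℳ m := by
  have h0 : x - proj ℳ m x = 0 := by
    apply eq_zero_of_proj_eq_zero ℳ
    intro i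
    rw [proj_sub 𝒜 ℳ]
    by_cases hi : i = m
    · subst hi
      rw [proj_proj_same, sub_self]
    · rw [h i hi, proj_proj_ne ℳ (Ne.symm hi), sub_self]
  rw [sub_eq_zero.mp h0]
  exact proj_mem ℳ m x

/-- If multiplication by the homogeneous element `r` of degree `c` is injective and `r • x` is
homogeneous of degree `c + m`, then `x` is homogeneous of degree `m`. -/
theorem mem_of_smul_mem {c m : ℤ} {r : R} (hr : r ∈ 𝒜 c)
    (hinj : Function.Injective (fun x : M => r • x)) {x : M} (hx : r • x ∈ ℳ (c + m)) :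
    x ∈ ℳ m := by
  apply mem_of_forall_proj_eq_zero 𝒜 ℳ
  intro i hi
  apply hinj
  show r • proj ℳ i x = r • 0
  rw [← proj_smul 𝒜 ℳ hr, smul_zero]
  exact proj_of_mem_ne ℳ hx (fun h => hi (by omega))

theorem proj_smul_of_mem {m : ℤ} {x : M} (hx : x ∈ ℳ m) (n : ℤ) (r : R) :
    proj ℳ n (r • x) = proj 𝒜 (n - m) r • x := by
  refine DirectSum.Decomposition.inductionOn 𝒜 ?_ ?_ ?_ r
  · rw [zero_smul, proj_zero, proj_zero, zero_smul]
  · rintro c ⟨r, hr⟩
    show proj ℳ n (r • x) = proj 𝒜 (n - m) r • x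
    by_cases h : c = n - m
    · subst h
      have h1 : r • x ∈ ℳ n := by
        have := smul_mem 𝒜 ℳ hr hx
        rwa [sub_add_cancel] at this
      rw [proj_of_mem_same ℳ h1, proj_of_mem_same 𝒜 hr]
    · rw [proj_of_mem_ne ℳ (smul_mem 𝒜 ℳ hr hx) (by omega), proj_of_mem_ne 𝒜 hr h, zero_smul]
  · intro r r' h h'
    rw [add_smul, proj_add, h, h', proj_add, add_smul]

end Basic

end Groth.Agent.Helper29.GrK
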