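import Mathlib
import Groth.Agent.Lib.Helper29.GrK

/-!
# Finite-dimensionality of graded pieces (helper29)
-/

namespace Groth.Agent.Helper29.GrFin

universe u

open Groth.Agent.Helper29.GrK

section Piece

variable {k : Type u} [Field k] {R : Type u} [CommRing R] [Algebra k R]
  (𝒜 : ℤ → Submodule k R) [GradedAlgebra 𝒜]
  {M : Type u} [AddCommGroup M] [Module R M] [Module k M] [IsScalarTower k R M]
  {τ : Type u} [SetLike τ M] [AddSubgroupClass τ M]
  (ℳ : ℤ → τ) [DirectSum.Decomposition ℳ] [SetLike.GradedSMul 𝒜 ℳ]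

/-- The degree-`n` piece as a `k`-subspace. -/
def pieceK (n : ℤ) : Submodule k M where
  carrier := (ℳ n : Set M)
  add_mem' ha hb := add_mem ha hb
  zero_mem' := zero_mem _
  smul_mem' c _ hx := ksmul_mem 𝒜 ℳ c hx

@[simp] theorem mem_pieceK {n : ℤ} {x : M} : x ∈ pieceK 𝒜 ℳ n ↔ x ∈ ℳ n := Iff.rfl

end Piece

section Ring

variable {k : Type u} [Field k] {R : Type u} [CommRing R] [Algebra k R]
  (𝒜 : ℤ → Submodule k R) [GradedAlgebra 𝒜]

theorem ring_piece_finite [Algebra.FiniteType k R] (hpos : ∀ n : ℤ, n < 0 → 𝒜 n = ⊥)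
    (h0 : 𝒜 0 = Submodule.span k {(1 : R)}) (n : ℤ) : Module.Finite k (𝒜 n) := by
  classical
  have hnoeth : IsNoetherianRing R := Algebra.FiniteType.isNoetherianRing k R
  have hfg : (Ideal.span (⋃ n ∈ Set.Ioi (0 : ℤ), (𝒜 n : Set R))).FG :=
    IsNoetherian.noetherian _
  obtain ⟨s', hs'sub, hs'span⟩ := (Submodule.fg_span_iff_fg_span_finset_subset _).mp hfg
  have hdeg : ∀ a ∈ s', ∃ e : ℤ, 0 < e ∧ a ∈ 𝒜 e := by
    intro a ha
    have := hs'sub ha
    simp only [Set.mem_iUnion] at this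
    obtain ⟨e, he, hae⟩ := this
    exact ⟨e, he, hae⟩
  choose! e he using hdeg
  have key : ∀ n : ℤ, 0 < n → (𝒜 n : Submodule k R) ≤
      s'.sup (fun a => (𝒜 (n - e a)).map (LinearMap.mulLeft k a)) := by
    intro n hn x hx
    have hx1 : x ∈ Ideal.span (⋃ n ∈ Set.Ioi (0 : ℤ), (𝒜 n : Set R)) := by
      apply Ideal.subset_span
      simp only [Set.mem_iUnion]
      exact ⟨n, hn, hx⟩
    have hx2 : x ∈ Submodule.span R (s' : Set R) := by
      rw [← hs'span]
      exact hx1
    obtain ⟨f, _, hf⟩ := Submodule.mem_span_finset.mp hx2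
    have hxp : x = proj 𝒜 n x := (proj_of_mem_same 𝒜 hx).symm
    rw [hxp, ← hf]
    rw [show proj 𝒜 n (∑ a ∈ s', f a • a) = ∑ a ∈ s', proj 𝒜 n (f a • a) from
      map_sum (projL 𝒜 𝒜 n) _ _]
    refine Submodule.sum_mem _ fun a ha => ?_
    have h := proj_smul 𝒜 𝒜 (he a ha).2 (n - e a) (f a)
    rw [show e a + (n - e a) = n by ring, smul_eq_mul, mul_comm, smul_eq_mul] at h
    rw [smul_eq_mul, h]
    refine Finset.le_sup (f := fun a => (𝒜 (n - e a)).map (LinearMap.mulLeft k a)) ha ?_
    exact ⟨_, proj_mem 𝒜 (n - e a) (f a), rfl⟩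
  have main : ∀ N : ℕ, ∀ n : ℤ, n ≤ N → Module.Finite k (𝒜 n) := by
    intro N
    induction N with
    | zero =>
      intro n hn
      rcases lt_or_eq_of_le hn with h | h
      · rw [hpos n (by simpa using h)]
        infer_instance
      · have : n = 0 := by simpa using h
        rw [this, h0]
        infer_instance
    | succ N ih =>
      intro n hn
      by_cases h : n ≤ N
      · exact ih n h
      · have hn' : 0 < n := by push_cast at hn; omega
        have hfin : ∀ a ∈ s', Module.Finite k (𝒜 (n - e a)) := by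
          intro a ha
          apply ih
          have := (he a ha).1
          push_cast at hn
          omega
        have hsup : Module.Finite k
            (s'.sup (fun a => (𝒜 (n - e a)).map (LinearMap.mulLeft k a)) : Submodule k R) := by
          rw [Module.Finite.iff_fg]
          apply Submodule.fg_finset_sup
          intro a ha
          have := hfin a ha
          rw [← Module.Finite.iff_fg]
          infer_instance
        have : FiniteDimensional k
            (s'.sup (fun a => (𝒜 (n - e a)).map (LinearMap.mulLeft k a)) : Submodule k R) := hsup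
        exact Submodule.finiteDimensional_of_le (key n hn')
  exact main n.toNat n (Int.self_le_toNat n)

end Ring

section Mod

variable {k : Type u} [Field k] {R : Type u} [CommRing R] [Algebra k R]
  (𝒜 : ℤ → Submodule k R) [GradedAlgebra 𝒜]
  {M : Type u} [AddCommGroup M] [Module R M] [Module k M] [IsScalarTower k R M]
  {τ : Type u} [SetLike τ M] [AddSubgroupClass τ M]
  (ℳ : ℤ → τ) [DirectSum.Decomposition ℳ] [SetLike.GradedSMul 𝒜 ℳ]

include 𝒜 in
theorem exists_homog_gens [Module.Finite R M] :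
    ∃ (s' : Finset M) (e : M → ℤ), (∀ a ∈ s', a ∈ ℳ (e a)) ∧
      Submodule.span R (s' : Set M) = ⊤ := by
  classical
  have htop : Submodule.span R (⋃ n : ℤ, (ℳ n : Set M)) = ⊤ := by
    rw [eq_top_iff]
    rintro x -
    obtain ⟨s, hs⟩ := sum_proj ℳ x
    rw [hs]
    refine Submodule.sum_mem _ fun i _ => Submodule.subset_span ?_
    simp only [Set.mem_iUnion]
    exact ⟨i, proj_mem ℳ i x⟩
  have hfg : (Submodule.span R (⋃ n : ℤ, (ℳ n : Set M))).FG := by
    rw [htop]
    exact Module.finite_def.mp inferInstance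
  obtain ⟨s', hs'sub, hs'span⟩ := (Submodule.fg_span_iff_fg_span_finset_subset _).mp hfg
  have hdeg : ∀ a ∈ s', ∃ e : ℤ, a ∈ ℳ e := by
    intro a ha
    have := hs'sub ha
    simp only [Set.mem_iUnion] at this
    exact this
  choose! e he using hdeg
  exact ⟨s', e, he, by rw [← hs'span, htop]⟩

theorem piece_le_sup (s' : Finset M) (e : M → ℤ) (he : ∀ a ∈ s', a ∈ ℳ (e a))
    (hspan : Submodule.span R (s' : Set M) = ⊤) (n : ℤ) :
    pieceK 𝒜 ℳ n ≤ s'.sup (fun a => (𝒜 (n - e a)).map
      ((LinearMap.toSpanSingleton R M a).restrictScalars k)) := by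
  classical
  intro x hx
  have hx' : x ∈ ℳ n := hx
  have hx2 : x ∈ Submodule.span R (s' : Set M) := by rw [hspan]; trivial
  obtain ⟨f, _, hf⟩ := Submodule.mem_span_finset.mp hx2
  have hxp : x = proj ℳ n x := (proj_of_mem_same ℳ hx').symm
  rw [hxp, ← hf]
  rw [show proj ℳ n (∑ a ∈ s', f a • a) = ∑ a ∈ s', proj ℳ n (f a • a) from
    map_sum (projL 𝒜 ℳ n) _ _]
  refine Submodule.sum_mem _ fun a ha => ?_
  rw [proj_smul_of_mem 𝒜 ℳ (he a ha)]
  refine Finset.le_sup (f := fun a => (𝒜 (n - e a)).map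
      ((LinearMap.toSpanSingleton R M a).restrictScalars k)) ha ?_
  exact ⟨_, proj_mem 𝒜 (n - e a) (f a), rfl⟩

theorem module_piece_finite [Algebra.FiniteType k R] (hpos : ∀ n : ℤ, n < 0 → 𝒜 n = ⊥)
    (h0 : 𝒜 0 = Submodule.span k {(1 : R)}) [Module.Finite R M] (n : ℤ) :
    Module.Finite k (pieceK 𝒜 ℳ n) := by
  classical
  obtain ⟨s', e, he, hspan⟩ := exists_homog_gens 𝒜 ℳ
  have hsup : Module.Finite k (s'.sup (fun a => (𝒜 (n - e a)).map
      ((LinearMap.toSpanSingleton R M a).restrictScalars k)) : Submodule k M) := by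
    rw [Module.Finite.iff_fg]
    apply Submodule.fg_finset_sup
    intro a _
    have := ring_piece_finite 𝒜 hpos h0 (n - e a)
    rw [← Module.Finite.iff_fg]
    infer_instance
  have : FiniteDimensional k (s'.sup (fun a => (𝒜 (n - e a)).map
      ((LinearMap.toSpanSingleton R M a).restrictScalars k)) : Submodule k M) := hsup
  exact Submodule.finiteDimensional_of_le (piece_le_sup 𝒜 ℳ s' e he hspan n)

theorem exists_lower_bound (hpos : ∀ n : ℤ, n < 0 → 𝒜 n = ⊥) [Module.Finite R M] :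
    ∃ n0 : ℤ, ∀ n : ℤ, n < n0 → ∀ x : M, x ∈ ℳ n → x = 0 := by
  classical
  obtain ⟨s', e, he, hspan⟩ := exists_homog_gens 𝒜 ℳ
  obtain ⟨n0, hn0⟩ : ∃ n0 : ℤ, ∀ a ∈ s', n0 ≤ e a := by
    by_cases hne : s'.Nonempty
    · exact ⟨s'.inf' hne e, fun a ha => Finset.inf'_le e ha⟩
    · rw [Finset.not_nonempty_iff_eq_empty] at hne
      exact ⟨0, fun a ha => by rw [hne] at ha; simp at ha⟩
  refine ⟨n0, fun n hn x hx => ?_⟩
  have h1 := piece_le_sup 𝒜 ℳ s' e he hspan n (show x ∈ pieceK 𝒜 ℳ n from hx)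
  have h2 : s'.sup (fun a => (𝒜 (n - e a)).map
      ((LinearMap.toSpanSingleton R M a).restrictScalars k)) = ⊥ := by
    rw [eq_bot_iff]
    apply Finset.sup_le
    intro a ha
    rw [hpos (n - e a) (by have := hn0 a ha; omega), Submodule.map_bot]
  rw [h2, Submodule.mem_bot] at h1
  exact h1

end Mod

end Groth.Agent.Helper29.GrFin
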