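import Groth.Agent.Lib.Helper29.Reynolds
import Mathlib

/-!
# Orbit morphisms of rational points for a coaction (helper29)

`k` a field, `A` a commutative bialgebra, `R` a commutative `k`-algebra with a multiplicative
coaction.  For a rational point `x : R →ₐ[k] k`:
* `orbitHom_apply`: `orbitHom x f = (x ⊗ id)(coact f)` (as `evalL x A (coact f)`)
* `orbitHom_of_mem_invariants`, `counit_orbitHom`, `comul_orbitHom`, `isComodHom_orbitHom`
* `ker_orbitHom_isSubcomod`
* `exists_point_of_ne_top`: Nullstellensatz (points as algebra maps)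
* `actPt_mul`, `actPt_one`: right action of the convolution monoid of points
* `eq_of_inOrbitClosure`: invariants take the same value on a point of the orbit closure
* `exists_common_point`: two points with the same invariants have a common point in their
  orbit closures (linearly reductive case)
-/

open TensorProduct

set_option linter.unusedSectionVars false

namespace Groth.Agent.Helper29.GLinOrbit

open Groth.Agent.Helper29.H12Copy Groth.Agent.Helper29.Reynolds

universe u

section Basic

variable {k : Type u} [Field k] {A : Type u} [CommRing A] [Bialgebra k A]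
variable {R : Type u} [CommRing R] [Algebra k R] [HopfRep.Comod k A R] [GLin.IsCoactAlg k A R]

/-- `r ⊗ m ↦ x r • m`. -/
noncomputable def evalL (x : R →ₐ[k] k) (M : Type*) [AddCommGroup M] [Module k M] :
    R ⊗[k] M →ₗ[k] M :=
  (TensorProduct.lid k M).toLinearMap ∘ₗ x.toLinearMap.rTensor M

@[simp] theorem evalL_tmul (x : R →ₐ[k] k) (M : Type*) [AddCommGroup M] [Module k M]
    (r : R) (m : M) : evalL x M (r ⊗ₜ[k] m) = x r • m := by
  simp [evalL]

theorem orbitHom_apply (x : R →ₐ[k] k) (f : R) :
    GLin.orbitHom k A x f = evalL x A (HopfRep.Comod.coact (k := k) (A := A) f) := by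
  unfold GLin.orbitHom
  rw [AlgHom.comp_apply, AlgHom.comp_apply, GLin.coactAlgHom_apply]
  generalize HopfRep.Comod.coact (k := k) (A := A) f = t
  induction t using TensorProduct.induction_on with
  | zero => simp
  | tmul r a => simp
  | add t s ht hs => simp only [map_add, ht, hs]

theorem orbitHom_of_mem_invariants (x : R →ₐ[k] k) {f : R} (hf : f ∈ GLin.invariants k A R) :
    GLin.orbitHom k A x f = algebraMap k A (x f) := by
  have hf' : HopfRep.Comod.coact (k := k) (A := A) f = f ⊗ₜ[k] (1 : A) := hf
  rw [orbitHom_apply, hf', evalL_tmul, Algebra.algebraMap_eq_smul_one]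

theorem counit_evalL (x : R →ₐ[k] k) (t : R ⊗[k] A) :
    CoalgebraStruct.counit (R := k) (evalL x A t) =
      evalL x k ((CoalgebraStruct.counit (R := k) (A := A)).lTensor R t) := by
  induction t using TensorProduct.induction_on with
  | zero => simp
  | tmul r a => simp
  | add t s ht hs => simp only [map_add, ht, hs]

theorem counit_orbitHom (x : R →ₐ[k] k) (f : R) :
    CoalgebraStruct.counit (R := k) (GLin.orbitHom k A x f) = x f := by
  rw [orbitHom_apply, counit_evalL]
  have h := LinearMap.congr_fun (HopfRep.Comod.counit_comp (k := k) (A := A) (V := R)) f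
  rw [LinearMap.comp_apply] at h
  rw [h]
  simp

theorem ker_orbitHom_le_ker (x : R →ₐ[k] k) :
    RingHom.ker (GLin.orbitHom k A x) ≤ RingHom.ker x := by
  intro f hf
  rw [RingHom.mem_ker] at hf ⊢
  rw [← counit_orbitHom (A := A) x f, hf, map_zero]

theorem comul_evalL (x : R →ₐ[k] k) (t : R ⊗[k] A) :
    CoalgebraStruct.comul (R := k) (evalL x A t) =
      evalL x (A ⊗[k] A) ((CoalgebraStruct.comul (R := k) (A := A)).lTensor R t) := by
  induction t using TensorProduct.induction_on with
  | zero => simp
  | tmul r a => simp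
  | add t s ht hs => simp only [map_add, ht, hs]

theorem evalL_rTensor (x : R →ₐ[k] k) (s : (R ⊗[k] A) ⊗[k] A) :
    (evalL x A).rTensor A s = evalL x (A ⊗[k] A) (TensorProduct.assoc k R A A s) := by
  induction s using TensorProduct.induction_on with
  | zero => simp
  | tmul t b =>
    induction t using TensorProduct.induction_on with
    | zero => simp
    | tmul r a => simp [TensorProduct.smul_tmul']
    | add t s ht hs => simp only [TensorProduct.add_tmul, map_add, ht, hs]
  | add t s ht hs => simp only [map_add, ht, hs]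

theorem toLinearMap_orbitHom (x : R →ₐ[k] k) :
    (GLin.orbitHom k A x).toLinearMap =
      evalL x A ∘ₗ HopfRep.Comod.coact (k := k) (A := A) := by
  ext f
  exact orbitHom_apply x f

theorem comul_orbitHom (x : R →ₐ[k] k) (f : R) :
    CoalgebraStruct.comul (R := k) (GLin.orbitHom k A x f) =
      (GLin.orbitHom k A x).toLinearMap.rTensor A
        (HopfRep.Comod.coact (k := k) (A := A) f) := by
  rw [toLinearMap_orbitHom, LinearMap.rTensor_comp, LinearMap.comp_apply, evalL_rTensor]
  have h := LinearMap.congr_fun (HopfRep.Comod.coassoc (k := k) (A := A) (V := R)) f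
  simp only [LinearMap.comp_apply, LinearEquiv.coe_coe] at h
  rw [h, orbitHom_apply]
  exact comul_evalL x _

theorem isComodHom_orbitHom (x : R →ₐ[k] k) :
    Hoch.IsComodHom A (GLin.orbitHom k A x).toLinearMap := by
  apply isComodHom_of_apply
  intro f
  exact comul_orbitHom x f

theorem ker_orbitHom_isSubcomod (x : R →ₐ[k] k) :
    HopfRep.IsSubcomod (k := k) (A := A)
      ((RingHom.ker (GLin.orbitHom k A x)).restrictScalars k) := by
  have e : (RingHom.ker (GLin.orbitHom k A x)).restrictScalars k =
      (⊥ : Submodule k A).comap (GLin.orbitHom k A x).toLinearMap := by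
    ext f
    simp [RingHom.mem_ker]
  rw [e]
  exact comap_isSubcomod (isComodHom_orbitHom x) ⊥ isSubcomod_bot

/-- Nullstellensatz: a proper ideal of a finite type algebra over an algebraically closed
field is contained in the kernel of a rational point. -/
theorem exists_point_of_ne_top [IsAlgClosed k] [Algebra.FiniteType k R] (I : Ideal R)
    (hI : I ≠ ⊤) : ∃ z : R →ₐ[k] k, I ≤ RingHom.ker z := by
  obtain ⟨m, hm, hIm⟩ := Ideal.exists_le_maximal I hI
  let _ : Field (R ⧸ m) := Ideal.Quotient.field m
  have hft : Algebra.FiniteType k (R ⧸ m) :=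
    Algebra.FiniteType.of_surjective (Ideal.Quotient.mkₐ k m) (Ideal.Quotient.mkₐ_surjective k m)
  have hfin : Module.Finite k (R ⧸ m) := finite_of_finite_type_of_isJacobsonRing k (R ⧸ m)
  have hint : Algebra.IsIntegral k (R ⧸ m) := Algebra.IsIntegral.of_finite k (R ⧸ m)
  have hbij : Function.Bijective (algebraMap k (R ⧸ m)) :=
    IsAlgClosed.algebraMap_bijective_of_isIntegral
  let e : k ≃ₐ[k] (R ⧸ m) := AlgEquiv.ofBijective (Algebra.ofId k (R ⧸ m)) hbij
  refine ⟨(e.symm : (R ⧸ m) →ₐ[k] k).comp (Ideal.Quotient.mkₐ k m), ?_⟩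
  intro f hf
  rw [RingHom.mem_ker, AlgHom.comp_apply]
  have h0 : Ideal.Quotient.mkₐ k m f = 0 := by
    rw [Ideal.Quotient.mkₐ_eq_mk]
    exact Ideal.Quotient.eq_zero_iff_mem.2 (hIm hf)
  rw [h0, map_zero]

/-- a rational point is determined by its kernel containing that of another point. -/
theorem eq_of_ker_le {S : Type*} [CommRing S] [Algebra k S] (z w : S →ₐ[k] k)
    (h : RingHom.ker z ≤ RingHom.ker w) : z = w := by
  apply AlgHom.ext
  intro f
  have h1 : f - algebraMap k S (z f) ∈ RingHom.ker z := by
    rw [RingHom.mem_ker, map_sub, AlgHom.commutes]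
    simp
  have h2 := h h1
  rw [RingHom.mem_ker, map_sub, AlgHom.commutes] at h2
  have h3 : w f = z f := by simpa [sub_eq_zero] using h2
  exact h3.symm

theorem eq_of_inOrbitClosure (x z : R →ₐ[k] k) (h : GLin.InOrbitClosure k A x z) {f : R}
    (hf : f ∈ GLin.invariants k A R) : z f = x f := by
  have h1 : f - algebraMap k R (x f) ∈ RingHom.ker (GLin.orbitHom k A x) := by
    rw [RingHom.mem_ker, map_sub, orbitHom_of_mem_invariants x hf, AlgHom.commutes, sub_self]
  have h2 := h h1
  rw [RingHom.mem_ker, map_sub, AlgHom.commutes] at h2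
  simpa [sub_eq_zero] using h2

theorem exists_common_point [IsAlgClosed k] [Algebra.FiniteType k R]
    (hG : HopfRep.IsLinearlyReductive k A) (x₁ x₂ : R →ₐ[k] k)
    (h : ∀ f ∈ GLin.invariants k A R, x₁ f = x₂ f) :
    ∃ z : R →ₐ[k] k, GLin.InOrbitClosure k A x₁ z ∧ GLin.InOrbitClosure k A x₂ z := by
  by_cases htop : RingHom.ker (GLin.orbitHom k A x₁) ⊔ RingHom.ker (GLin.orbitHom k A x₂) = ⊤
  · exfalso
    obtain ⟨f, hf, hf1, hf2⟩ := exists_invariant_of_sup_eq_top hG _ _
      (ker_orbitHom_isSubcomod x₁) (ker_orbitHom_isSubcomod x₂) htop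
    have e1 : x₁ f = 0 := ker_orbitHom_le_ker (A := A) x₁ hf1
    have e2 : x₂ (1 - f) = 0 := ker_orbitHom_le_ker (A := A) x₂ hf2
    rw [map_sub, map_one, ← h f hf, e1, sub_zero] at e2
    exact one_ne_zero e2
  · obtain ⟨z, hz⟩ := exists_point_of_ne_top (k := k) _ htop
    exact ⟨z, le_sup_left.trans hz, le_sup_right.trans hz⟩

theorem lift_rTensor_orbitHom (x : R →ₐ[k] k) (g h : A →ₐ[k] k) (t : R ⊗[k] A) :
    Algebra.TensorProduct.lift g h (fun _ _ => Commute.all _ _)
        ((GLin.orbitHom k A x).toLinearMap.rTensor A t) =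
      h (evalL (g.comp (GLin.orbitHom k A x)) A t) := by
  induction t using TensorProduct.induction_on with
  | zero => simp
  | tmul r a => simp
  | add t s ht hs => simp only [map_add, ht, hs]

/-- The points of the group act on the right on the points of `Spec R`. -/
theorem actPt_mul (x : R →ₐ[k] k) (g h : WithConv (A →ₐ[k] k)) :
    GLin.actPt k (g * h).ofConv x = GLin.actPt k h.ofConv (GLin.actPt k g.ofConv x) := by
  apply AlgHom.ext
  intro f
  unfold GLin.actPt
  rw [AlgHom.comp_apply, AlgHom.comp_apply]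
  have e := AlgHom.convMul_apply g h (GLin.orbitHom k A x f)
  rw [comul_orbitHom, lift_rTensor_orbitHom, ← orbitHom_apply] at e
  exact e

theorem actPt_one (x : R →ₐ[k] k) :
    GLin.actPt k (1 : WithConv (A →ₐ[k] k)).ofConv x = x := by
  apply AlgHom.ext
  intro f
  unfold GLin.actPt
  rw [AlgHom.comp_apply]
  have e := AlgHom.convOne_apply (R := k) (A := k) (GLin.orbitHom k A x f)
  rw [counit_orbitHom] at e
  exact e

/-- A point `z` of the orbit closure of `x` lies in the orbit when the orbit is closed. -/
theorem exists_actPt_eq_of_isClosedOrbit [IsAlgClosed k] [Algebra.FiniteType k A]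
    (x z : R →ₐ[k] k) (hcl : GLin.IsClosedOrbit k A x) (hz : GLin.InOrbitClosure k A x z) :
    ∃ g : A →ₐ[k] k, z = GLin.actPt k g x := by
  have hzp : (RingHom.ker z).IsPrime := RingHom.ker_isPrime z
  let pz : PrimeSpectrum R := ⟨RingHom.ker z, hzp⟩
  have hmem : pz ∈ closure (Set.range (PrimeSpectrum.comap (GLin.orbitHom k A x).toRingHom)) := by
    rw [PrimeSpectrum.closure_range_comap, PrimeSpectrum.mem_zeroLocus]
    exact hz
  rw [hcl.closure_eq] at hmem
  obtain ⟨q, hq⟩ := hmem
  have hq' : q.asIdeal.comap (GLin.orbitHom k A x).toRingHom = RingHom.ker z :=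
    congrArg PrimeSpectrum.asIdeal hq
  have hI : Ideal.map (GLin.orbitHom k A x).toRingHom (RingHom.ker z) ≠ ⊤ := by
    intro htop
    have hle : Ideal.map (GLin.orbitHom k A x).toRingHom (RingHom.ker z) ≤ q.asIdeal := by
      rw [Ideal.map_le_iff_le_comap, hq']
    rw [htop] at hle
    exact q.isPrime.ne_top (top_le_iff.1 hle)
  obtain ⟨g, hg⟩ := exists_point_of_ne_top (k := k) _ hI
  refine ⟨g, eq_of_ker_le z _ ?_⟩
  intro f hf
  rw [RingHom.mem_ker]
  unfold GLin.actPt
  rw [AlgHom.comp_apply]
  exact hg (Ideal.mem_map_of_mem _ hf)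

end Basic

section Hopf

variable {k : Type u} [Field k] {A : Type u} [CommRing A] [HopfAlgebra k A]
variable {R : Type u} [CommRing R] [Algebra k R] [HopfRep.Comod k A R] [GLin.IsCoactAlg k A R]

/-- Two points with a common translate are translates of each other. -/
theorem exists_actPt_eq_of_common (x x' z : R →ₐ[k] k) (g g' : A →ₐ[k] k)
    (hz : z = GLin.actPt k g x) (hz' : z = GLin.actPt k g' x') :
    ∃ g'' : A →ₐ[k] k, x' = GLin.actPt k g'' x := by
  refine ⟨(WithConv.toConv g * (WithConv.toConv g')⁻¹).ofConv, ?_⟩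
  rw [actPt_mul, WithConv.ofConv_toConv, ← hz, hz']
  rw [show g' = (WithConv.toConv g').ofConv from rfl, ← actPt_mul, mul_inv_cancel, actPt_one]

end Hopf

end Groth.Agent.Helper29.GLinOrbit
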