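import Groth.Agent.Lib.Helper29.H12ComodSemisimple
import Groth.Prelude.Def_GLin

/-!
# Reynolds operators for comodules over a linearly reductive bialgebra

`hLR : HopfRep.IsLinearlyReductive k A` (all finite-dimensional comodules semisimple).
* `exists_reynolds`: existence of a Reynolds operator on any comodule
* `reynolds_comm`: Reynolds operators commute with comodule maps
* `reynolds_unique`, `reynolds_mem` (preserves subcomodules)
* `reynolds_mul` (`E (x * y) = E x * y` for invariant `y`), `exists_invariant_of_sup_eq_top`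
-/

open TensorProduct

namespace Groth.Agent.Helper29.Reynolds

open Groth.Agent.Helper29.H12Copy

universe u

variable {k : Type u} [Field k] {A : Type u} [CommRing A] [Bialgebra k A]
variable {V : Type u} [AddCommGroup V] [Module k V] [HopfRep.Comod k A V]
variable {W : Type u} [AddCommGroup W] [Module k W] [HopfRep.Comod k A W]

/-- A Reynolds operator on `V`. -/
def IsReynolds (E : V →ₗ[k] V) : Prop :=
  Hoch.IsComodHom A E ∧ E ∘ₗ E = E ∧ ∀ x : V, E x = x ↔ x ∈ HopfRep.fixedPts k A V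

theorem mem_fixedPts_iff (x : V) :
    x ∈ HopfRep.fixedPts k A V ↔ HopfRep.Comod.coact (k := k) (A := A) x = x ⊗ₜ[k] (1 : A) :=
  Iff.rfl

theorem fixedPts_isSubcomod :
    HopfRep.IsSubcomod (k := k) (A := A) (HopfRep.fixedPts k A V) := by
  intro x hx
  have hx' : HopfRep.Comod.coact (k := k) (A := A) x = x ⊗ₜ[k] (1 : A) := hx
  rw [hx']
  exact ⟨(⟨x, hx⟩ : HopfRep.fixedPts k A V) ⊗ₜ[k] (1 : A), by rw [LinearMap.rTensor_tmul]; rfl⟩

theorem map_mem_fixedPts {u : V →ₗ[k] W} (hu : Hoch.IsComodHom A u) {x : V}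
    (hx : x ∈ HopfRep.fixedPts k A V) : u x ∈ HopfRep.fixedPts k A W := by
  have hx' : HopfRep.Comod.coact (k := k) (A := A) x = x ⊗ₜ[k] (1 : A) := hx
  change HopfRep.Comod.coact (k := k) (A := A) (u x) = u x ⊗ₜ[k] (1 : A)
  rw [isComodHom_apply hu, hx', LinearMap.rTensor_tmul]

/-- A comodule map with invariant values kills every subcomodule without invariants. -/
theorem eq_zero_of_no_invariants (hG : HopfRep.IsLinearlyReductive k A)
    (ψ : V →ₗ[k] W) (hψ : Hoch.IsComodHom A ψ) (hψfix : ∀ x, ψ x ∈ HopfRep.fixedPts k A W)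
    (K : Submodule k V) (hK : HopfRep.IsSubcomod (k := k) (A := A) K)
    (hK0 : ∀ x ∈ K, x ∈ HopfRep.fixedPts k A V → x = 0) : ∀ x ∈ K, ψ x = 0 := by
  have hLR : ComodSS.LR.{u, u, u} k A := hG
  have hKψ' : HopfRep.IsSubcomod (k := k) (A := A) (LinearMap.ker ψ) :=
    comap_isSubcomod hψ ⊥ isSubcomod_bot
  have hK₀ : HopfRep.IsSubcomod (k := k) (A := A) (K ⊓ LinearMap.ker ψ) :=
    isSubcomod_inf hK hKψ'
  obtain ⟨V₁, hV₁, hc⟩ := ComodSS.exists_isCompl hLR _ hK₀
  have hK₁ : HopfRep.IsSubcomod (k := k) (A := A) (V₁ ⊓ K) := isSubcomod_inf hV₁ hK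
  have hinj : Function.Injective (ψ ∘ₗ (V₁ ⊓ K).subtype) := by
    rw [injective_iff_map_eq_zero]
    rintro ⟨x, hx⟩ h0
    have h0' : ψ x = 0 := h0
    have hx0 : x ∈ K ⊓ LinearMap.ker ψ := ⟨hx.2, LinearMap.mem_ker.2 h0'⟩
    have := Submodule.disjoint_def.1 hc.disjoint x hx0 hx.1
    exact Subtype.ext this
  have hK₁fix : ∀ x ∈ V₁ ⊓ K, x ∈ HopfRep.fixedPts k A V := by
    intro x hx
    obtain ⟨y, hy⟩ := hK₁ x hx
    change HopfRep.Comod.coact (k := k) (A := A) x = x ⊗ₜ[k] (1 : A)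
    have hz : (ψ ∘ₗ (V₁ ⊓ K).subtype).rTensor A
        (y - (⟨x, hx⟩ : ↥(V₁ ⊓ K)) ⊗ₜ[k] (1 : A)) = 0 := by
      rw [map_sub, LinearMap.rTensor_tmul, LinearMap.rTensor_comp, LinearMap.comp_apply, hy,
        ← isComodHom_apply hψ]
      have h1 : HopfRep.Comod.coact (k := k) (A := A) (ψ x) = ψ x ⊗ₜ[k] (1 : A) := hψfix x
      rw [h1]
      exact sub_self _
    have hz0 := (rTensor_injective_of_injective A _ hinj) (hz.trans (map_zero _).symm)
    rw [← hy, sub_eq_zero.1 hz0, LinearMap.rTensor_tmul]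
    rfl
  intro x hx
  have hx' : x ∈ (K ⊓ LinearMap.ker ψ) ⊔ V₁ := by
    rw [hc.sup_eq_top]; trivial
  obtain ⟨a, ha, b, hb, rfl⟩ := Submodule.mem_sup.1 hx'
  have hbK : b ∈ K := by
    have := K.sub_mem hx ha.1
    simpa using this
  have hb0 : b = 0 := hK0 b hbK (hK₁fix b ⟨hb, hbK⟩)
  rw [hb0, add_zero]
  exact LinearMap.mem_ker.1 ha.2

theorem IsReynolds.apply_mem {E : V →ₗ[k] V} (hE : IsReynolds (A := A) E) (x : V) :
    E x ∈ HopfRep.fixedPts k A V :=
  (hE.2.2 (E x)).1 (LinearMap.congr_fun hE.2.1 x)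

/-- Reynolds operators commute with comodule maps. -/
theorem reynolds_comm (hG : HopfRep.IsLinearlyReductive k A)
    {E : V →ₗ[k] V} (hE : IsReynolds (A := A) E) {E' : W →ₗ[k] W} (hE' : IsReynolds (A := A) E')
    (u : V →ₗ[k] W) (hu : Hoch.IsComodHom A u) : E' ∘ₗ u = u ∘ₗ E := by
  have hψ : Hoch.IsComodHom A (E' ∘ₗ u) := isComodHom_comp hu hE'.1
  have hK : HopfRep.IsSubcomod (k := k) (A := A) (LinearMap.ker E) :=
    comap_isSubcomod hE.1 ⊥ isSubcomod_bot
  have hKψ := eq_zero_of_no_invariants hG (E' ∘ₗ u) hψ (fun x => hE'.apply_mem (u x))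
    (LinearMap.ker E) hK (fun x hx hfix => by
      rw [← (hE.2.2 x).2 hfix]; exact LinearMap.mem_ker.1 hx)
  apply LinearMap.ext
  intro x
  have hEE : E (E x) = E x := LinearMap.congr_fun hE.2.1 x
  have hx1 : x - E x ∈ LinearMap.ker E := by
    rw [LinearMap.mem_ker, map_sub, hEE, sub_self]
  have h1 := hKψ _ hx1
  rw [map_sub, sub_eq_zero] at h1
  have h2 : E' (u (E x)) = u (E x) := (hE'.2.2 _).2 (map_mem_fixedPts hu (hE.apply_mem x))
  change E' (u x) = u (E x)
  rw [← h2]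
  exact h1

theorem reynolds_unique (hG : HopfRep.IsLinearlyReductive k A)
    {E E' : V →ₗ[k] V} (hE : IsReynolds (A := A) E) (hE' : IsReynolds (A := A) E') : E = E' := by
  have := reynolds_comm hG hE hE' LinearMap.id isComodHom_id
  rw [LinearMap.comp_id, LinearMap.id_comp] at this
  exact this.symm

variable (V) in
theorem exists_reynolds (hG : HopfRep.IsLinearlyReductive k A) :
    ∃ E : V →ₗ[k] V, IsReynolds (A := A) E := by
  have hLR : ComodSS.LR.{u, u, u} k A := hG
  obtain ⟨T', hT', hc⟩ := ComodSS.exists_isCompl hLR (HopfRep.fixedPts k A V) fixedPts_isSubcomod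
  refine ⟨(HopfRep.fixedPts k A V).subtype ∘ₗ (HopfRep.fixedPts k A V).projectionOnto T' hc,
    ComodSS.isComodHom_proj _ _ fixedPts_isSubcomod hT' hc, ?_, ?_⟩
  · apply LinearMap.ext
    intro x
    simp only [LinearMap.comp_apply, Submodule.subtype_apply]
    rw [Submodule.projectionOnto_apply_left hc]
  · intro x
    constructor
    · intro h
      rw [← h]
      exact ((HopfRep.fixedPts k A V).projectionOnto T' hc x).2
    · intro hx
      simp only [LinearMap.comp_apply, Submodule.subtype_apply]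
      exact congrArg Subtype.val (Submodule.projectionOnto_apply_left hc ⟨x, hx⟩)

/-- A Reynolds operator preserves every subcomodule. -/
theorem reynolds_mem (hG : HopfRep.IsLinearlyReductive k A)
    {E : V →ₗ[k] V} (hE : IsReynolds (A := A) E) (I : Submodule k V)
    (hI : HopfRep.IsSubcomod (k := k) (A := A) I) : ∀ x ∈ I, E x ∈ I := by
  have hLR : ComodSS.LR.{u, u, u} k A := hG
  have hI₀ : HopfRep.IsSubcomod (k := k) (A := A) (I ⊓ HopfRep.fixedPts k A V) :=
    isSubcomod_inf hI fixedPts_isSubcomod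
  obtain ⟨Q, hQ, hc⟩ := ComodSS.exists_isCompl hLR _ hI₀
  have hK : HopfRep.IsSubcomod (k := k) (A := A) (I ⊓ Q) := isSubcomod_inf hI hQ
  have hkill := eq_zero_of_no_invariants hG E hE.1 hE.apply_mem (I ⊓ Q) hK
    (fun x hx hfix => Submodule.disjoint_def.1 hc.disjoint x ⟨hx.1, hfix⟩ hx.2)
  intro x hx
  have hx' : x ∈ (I ⊓ HopfRep.fixedPts k A V) ⊔ Q := by rw [hc.sup_eq_top]; trivial
  obtain ⟨a, ha, b, hb, rfl⟩ := Submodule.mem_sup.1 hx'
  have hbI : b ∈ I := by
    have := I.sub_mem hx ha.1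
    simpa using this
  rw [map_add, hkill b ⟨hbI, hb⟩, add_zero, (hE.2.2 a).2 ha.2]
  exact ha.1

section Algebra

variable {R : Type u} [CommRing R] [Algebra k R] [HopfRep.Comod k A R] [GLin.IsCoactAlg k A R]

theorem mem_invariants_iff_mem_fixedPts (x : R) :
    x ∈ GLin.invariants k A R ↔ x ∈ HopfRep.fixedPts k A R := Iff.rfl

theorem isComodHom_mulRight {y : R} (hy : y ∈ GLin.invariants k A R) :
    Hoch.IsComodHom A (LinearMap.mulRight k y) := by
  apply isComodHom_of_apply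
  intro x
  have hy' : HopfRep.Comod.coact (k := k) (A := A) y = y ⊗ₜ[k] (1 : A) := hy
  rw [LinearMap.mulRight_apply, GLin.IsCoactAlg.coact_mul, hy']
  generalize HopfRep.Comod.coact (k := k) (A := A) x = t
  induction t using TensorProduct.induction_on with
  | zero => simp
  | tmul r a =>
    rw [Algebra.TensorProduct.tmul_mul_tmul, mul_one, LinearMap.rTensor_tmul,
      LinearMap.mulRight_apply]
  | add t s ht hs => rw [add_mul, map_add, ht, hs]

theorem reynolds_mul (hG : HopfRep.IsLinearlyReductive k A)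
    {E : R →ₗ[k] R} (hE : IsReynolds (A := A) E) (x y : R) (hy : y ∈ GLin.invariants k A R) :
    E (x * y) = E x * y :=
  LinearMap.congr_fun (reynolds_comm hG hE hE (LinearMap.mulRight k y) (isComodHom_mulRight hy)) x

theorem reynolds_one {E : R →ₗ[k] R} (hE : IsReynolds (A := A) E) : E 1 = 1 :=
  (hE.2.2 1).2 (GLin.invariants k A R).one_mem

/-- Separation of invariant ideals with sum `⊤` by an invariant function. -/
theorem exists_invariant_of_sup_eq_top (hG : HopfRep.IsLinearlyReductive k A)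
    (I₁ I₂ : Ideal R) (h₁ : HopfRep.IsSubcomod (k := k) (A := A) (I₁.restrictScalars k))
    (h₂ : HopfRep.IsSubcomod (k := k) (A := A) (I₂.restrictScalars k)) (h : I₁ ⊔ I₂ = ⊤) :
    ∃ f ∈ GLin.invariants k A R, f ∈ I₁ ∧ 1 - f ∈ I₂ := by
  obtain ⟨E, hE⟩ := exists_reynolds R hG
  have h1 : (1 : R) ∈ I₁ ⊔ I₂ := by rw [h]; trivial
  obtain ⟨a, ha, b, hb, hab⟩ := Submodule.mem_sup.1 h1
  have hEa : E a ∈ I₁ := reynolds_mem hG hE _ h₁ a ha
  have hEb : E b ∈ I₂ := reynolds_mem hG hE _ h₂ b hb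
  refine ⟨E a, hE.apply_mem a, hEa, ?_⟩
  have : E a + E b = 1 := by rw [← map_add, hab, reynolds_one hE]
  rw [← this, add_sub_cancel_left]
  exact hEb

end Algebra

end Groth.Agent.Helper29.Reynolds
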