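import Mathlib

set_option autoImplicit false

namespace Groth.Agent.Helper29.Verlinde

open Finset

section Abstract

variable {r : ℕ}

/-- generalized alternant `det (ζ ^ (a i * w j))` -/
noncomputable def A (ζ : ℂ) (a w : Fin r → ℤ) : ℂ :=
  Matrix.det (Matrix.of fun i j : Fin r => ζ ^ (a i * w j))

theorem prod_zpow_eq {ι : Type*} (ζ : ℂ) (hζ : ζ ≠ 0) (s : Finset ι) (f : ι → ℤ) :
    ∏ i ∈ s, ζ ^ f i = ζ ^ ∑ i ∈ s, f i := by
  classical
  induction s using Finset.induction_on with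
  | empty => simp
  | insert x s hx ih => rw [Finset.prod_insert hx, Finset.sum_insert hx, zpow_add₀ hζ, ih]

theorem A_transform (ζ : ℂ) (hζ : ζ ≠ 0) (n : ℕ) (hn : ζ ^ n = 1) (a w : Fin r → ℤ)
    (π : Equiv.Perm (Fin r)) (t : ℤ) (u : Fin r → ℤ) :
    A ζ a (fun j => w (π j) + t + n * u j) =
      ((Equiv.Perm.sign π : ℤ) : ℂ) * ζ ^ (t * ∑ i, a i) * A ζ a w := by
  unfold A
  have h1 : (Matrix.of fun i j : Fin r => ζ ^ (a i * (w (π j) + t + n * u j))) =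
      Matrix.of fun i j => ζ ^ (a i * t) *
        ((Matrix.of fun i j : Fin r => ζ ^ (a i * w j)).submatrix id π) i j := by
    ext i j
    simp only [Matrix.of_apply, Matrix.submatrix_apply, id]
    have : a i * (w (π j) + t + n * u j) = a i * t + a i * w (π j) + (n : ℤ) * (a i * u j) := by
      ring
    rw [this, zpow_add₀ hζ, zpow_add₀ hζ, zpow_mul ζ (n : ℤ) (a i * u j), zpow_natCast, hn, one_zpow,
      mul_one]
  rw [h1, Matrix.det_mul_column, Matrix.det_permute', prod_zpow_eq ζ hζ, ← Finset.sum_mul,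
    mul_comm (∑ i, a i) t]
  ring

noncomputable def F (ξ ζ : ℂ) (C : ℤ) (a a' : Fin r → ℤ) (w : Fin r → ℤ) : ℂ :=
  ξ ^ (-(C * ∑ j, w j)) * A ζ a w * A ζ a' w

theorem F_transform (ξ ζ : ℂ) (hξ : ξ ≠ 0) (hξζ : ξ ^ r = ζ) (n : ℕ) (hn : ζ ^ n = 1)
    (a a' : Fin r → ℤ) (C : ℤ) (hC : C = ∑ i, a i + ∑ i, a' i) (w : Fin r → ℤ)
    (π : Equiv.Perm (Fin r)) (t : ℤ) (u : Fin r → ℤ) :
    F ξ ζ C a a' (fun j => w (π j) + t + n * u j) =
      ξ ^ (-(C * n * ∑ j, u j)) * F ξ ζ C a a' w := by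
  have hζ : ζ ≠ 0 := by rw [← hξζ]; exact pow_ne_zero _ hξ
  unfold F
  rw [A_transform ζ hζ n hn, A_transform ζ hζ n hn]
  have hsum : ∑ j, (w (π j) + t + n * u j) = ∑ j, w j + r * t + n * ∑ j, u j := by
    rw [Finset.sum_add_distrib, Finset.sum_add_distrib, Equiv.sum_comp π w, ← Finset.mul_sum]
    simp
  have hs : ((Equiv.Perm.sign π : ℤ) : ℂ) * ((Equiv.Perm.sign π : ℤ) : ℂ) = 1 := by
    rw [← Int.cast_mul, Int.units_coe_mul_self, Int.cast_one]
  have hz : ∀ x : ℤ, ζ ^ x = ξ ^ ((r : ℤ) * x) := by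
    intro x
    rw [← hξζ, ← zpow_natCast, ← zpow_mul]
  rw [hsum, hz, hz]
  have e1 : ξ ^ (-(C * (∑ j, w j + r * t + n * ∑ j, u j))) * ξ ^ ((r : ℤ) * (t * ∑ i, a i)) *
      ξ ^ ((r : ℤ) * (t * ∑ i, a' i)) = ξ ^ (-(C * n * ∑ j, u j)) * ξ ^ (-(C * ∑ j, w j)) := by
    rw [← zpow_add₀ hξ, ← zpow_add₀ hξ, ← zpow_add₀ hξ]
    congr 1
    rw [hC]
    ring
  calc _ = (ξ ^ (-(C * (∑ j, w j + r * t + n * ∑ j, u j))) * ξ ^ ((r : ℤ) * (t * ∑ i, a i)) *
      ξ ^ ((r : ℤ) * (t * ∑ i, a' i))) *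
        (((Equiv.Perm.sign π : ℤ) : ℂ) * ((Equiv.Perm.sign π : ℤ) : ℂ)) *
        (A ζ a w * A ζ a' w) := by ring
    _ = _ := by rw [e1, hs]; ring

end Abstract

/-- the index set of the sum -/
def V (r n : ℕ) : Finset (Fin r → Fin n) :=
  Finset.univ.filter fun v => StrictAnti v ∧ ∀ i : Fin r, (i : ℕ) = r - 1 → (v i : ℕ) = 0

def vz {r n : ℕ} (v : Fin r → Fin n) : Fin r → ℤ := fun j => ((v j : ℕ) : ℤ)

theorem sum_eq_zero_of_rot {m n : ℕ} (G : (Fin (m+2) → ℤ) → ℂ) (θ : ℂ)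
    (hθ : θ ^ ((m : ℤ) + 1) ≠ 1)
    (hG : ∀ (w : Fin (m+2) → ℤ) (π : Equiv.Perm (Fin (m+2))) (t : ℤ) (u : Fin (m+2) → ℤ),
      G (fun j => w (π j) + t + n * u j) = θ ^ (∑ j, u j) * G w) :
    ∑ v ∈ V (m+2) n, G (vz v) = 0 := by
  classical
  let J : (Fin (m+2) → Fin n) → (Fin (m+2) → Fin n) := fun v i =>
    ⟨((v (i+1) : ℕ) + n - (v 0 : ℕ)) % n, Nat.mod_lt _ (v 0).pos⟩
  have hlast : ∀ v ∈ V (m+2) n, (v (Fin.last (m+1)) : ℕ) = 0 := by
    intro v hv
    exact (Finset.mem_filter.mp hv).2.2 _ (by simp)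
  have hanti : ∀ v ∈ V (m+2) n, StrictAnti v := fun v hv => (Finset.mem_filter.mp hv).2.1
  have hJval : ∀ v ∈ V (m+2) n, ∀ i, ((J v i : ℕ) : ℤ) =
      vz v (i + 1) + (-(vz v 0)) + n * (if i = Fin.last (m+1) then 0 else 1) := by
    intro v hv i
    by_cases hi : i = Fin.last (m+1)
    · subst hi
      simp only [J, vz, Fin.last_add_one, if_true]
      rw [Nat.add_sub_cancel_left, Nat.mod_self]
      simp
    · have hlt : i < Fin.last (m+1) := lt_of_le_of_ne (Fin.le_last i) hi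
      have hpos : (0 : Fin (m+2)) < i + 1 := by
        rw [Fin.lt_def, Fin.val_add_one_of_lt hlt]
        simp
      have hv1 : (v (i+1) : ℕ) < (v 0 : ℕ) := Fin.lt_def.mp (hanti v hv hpos)
      have hmod : ((v (i+1) : ℕ) + n - (v 0 : ℕ)) % n = (v (i+1) : ℕ) + n - (v 0 : ℕ) :=
        Nat.mod_eq_of_lt (by have := (v 0).isLt; omega)
      simp only [J, vz, hmod, if_neg hi]
      have : (v 0 : ℕ) ≤ (v (i+1) : ℕ) + n := by have := (v 0).isLt; omega
      rw [Nat.cast_sub this]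
      push_cast
      ring
  have hJV : ∀ v ∈ V (m+2) n, J v ∈ V (m+2) n := by
    intro v hv
    refine Finset.mem_filter.mpr ⟨Finset.mem_univ _, ?_, ?_⟩
    · intro i j hij
      rw [Fin.lt_def, ← Int.ofNat_lt, hJval v hv, hJval v hv]
      have hi : i ≠ Fin.last (m+1) := ne_of_lt (lt_of_lt_of_le hij (Fin.le_last j))
      have hilt : i < Fin.last (m+1) := lt_of_le_of_ne (Fin.le_last i) hi
      rw [if_neg hi]
      by_cases hj : j = Fin.last (m+1)
      · subst hj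
        rw [if_pos rfl, Fin.last_add_one]
        have := (v 0).isLt
        simp only [vz]
        omega
      · rw [if_neg hj]
        have hjlt : j < Fin.last (m+1) := lt_of_le_of_ne (Fin.le_last j) hj
        have h1 : i + 1 < j + 1 := by
          rw [Fin.lt_def, Fin.val_add_one_of_lt hilt, Fin.val_add_one_of_lt hjlt]
          exact Nat.succ_lt_succ hij
        have h2 : (v (j+1) : ℕ) < (v (i+1) : ℕ) := Fin.lt_def.mp (hanti v hv h1)
        simp only [vz]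
        omega
    · intro i hi
      have hi' : i = Fin.last (m+1) := Fin.ext (by simp [hi])
      subst hi'
      have := hJval v hv (Fin.last (m+1))
      rw [if_pos rfl, Fin.last_add_one] at this
      simp only [vz, add_neg_cancel, mul_zero, add_zero] at this
      exact_mod_cast this
  have hJinj : ∀ v ∈ V (m+2) n, ∀ v' ∈ V (m+2) n, J v = J v' → v = v' := by
    intro v hv v' hv' h
    have key : ∀ i, vz v (i+1) - vz v 0 = vz v' (i+1) - vz v' 0 := by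
      intro i
      have h1 := hJval v hv i
      have h2 := hJval v' hv' i
      rw [h] at h1
      linarith
    have h0 : vz v 0 = vz v' 0 := by
      have := key (Fin.last (m+1) - 1)
      rw [sub_add_cancel] at this
      have a1 : vz v (Fin.last (m+1)) = 0 := by simp [vz, hlast v hv]
      have a2 : vz v' (Fin.last (m+1)) = 0 := by simp [vz, hlast v' hv']
      rw [a1, a2] at this
      linarith
    funext j
    have := key (j - 1)
    rw [sub_add_cancel, h0] at this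
    have h3 : vz v j = vz v' j := by linarith
    exact Fin.ext (by simpa [vz] using h3)
  have himg : (V (m+2) n).image J = V (m+2) n := by
    apply Finset.eq_of_subset_of_card_le
    · intro x hx
      obtain ⟨v, hv, rfl⟩ := Finset.mem_image.mp hx
      exact hJV v hv
    · rw [Finset.card_image_of_injOn (fun x hx y hy h => hJinj x hx y hy h)]
  have hsum : ∑ v ∈ V (m+2) n, G (vz v) = ∑ v ∈ V (m+2) n, G (vz (J v)) := by
    conv_lhs => rw [← himg]
    rw [Finset.sum_image hJinj]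
  have hone : ∑ j : Fin (m+2), (if j = Fin.last (m+1) then (0:ℤ) else 1) = (m : ℤ) + 1 := by
    have : ∀ j : Fin (m+2), (if j = Fin.last (m+1) then (0:ℤ) else 1) =
        1 - (if j = Fin.last (m+1) then 1 else 0) := by
      intro j; split_ifs <;> simp
    simp only [this, Finset.sum_sub_distrib, Finset.sum_const, Finset.sum_ite_eq',
      Finset.mem_univ, if_true, Finset.card_univ, Fintype.card_fin]
    ring
  have hGJ : ∀ v ∈ V (m+2) n, G (vz (J v)) = θ ^ ((m:ℤ)+1) * G (vz v) := by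
    intro v hv
    have : vz (J v) = fun j => vz v (finRotate (m+2) j) + (-(vz v 0)) +
        n * (if j = Fin.last (m+1) then 0 else 1) := by
      funext j
      rw [finRotate_apply]
      exact hJval v hv j
    rw [this, hG, hone]
  rw [Finset.sum_congr rfl hGJ, ← Finset.mul_sum] at hsum
  have h2 : (1 - θ ^ ((m:ℤ)+1)) * ∑ v ∈ V (m+2) n, G (vz v) = 0 := by linear_combination hsum
  rcases mul_eq_zero.mp h2 with h | h
  · exact absurd (sub_eq_zero.mp h).symm hθ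
  · exact h


section Case2

variable {q n : ℕ}

/-- descending sorting permutation -/
noncomputable def sdesc (u : Fin (q+1) → Fin n) : Equiv.Perm (Fin (q+1)) :=
  Tuple.sort u * Fin.revPerm

theorem sdesc_antitone (u : Fin (q+1) → Fin n) : Antitone (u ∘ sdesc u) := by
  have h := Tuple.monotone_sort u
  intro x y hxy
  have h2 : Fin.rev y ≤ Fin.rev x := Fin.rev_le_rev.mpr hxy
  exact h h2

theorem sdesc_last {u : Fin (q+1) → Fin n} {l : Fin (q+1)} (hl : (u l : ℕ) = 0) :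
    ((u ∘ sdesc u) (Fin.last q) : ℕ) = 0 := by
  have h := sdesc_antitone u (Fin.le_last ((sdesc u)⁻¹ l))
  simp only [Function.comp_apply, Equiv.Perm.coe_inv, Equiv.apply_symm_apply] at h
  have h2 := Fin.le_def.mp h
  simp only [Function.comp_apply]
  omega

theorem sort_sum (G : (Fin (q+1) → Fin n) → ℂ) :
    ∑ v ∈ V (q+1) n, ∑ τ : Equiv.Perm (Fin (q+1)), G (v ∘ τ) =
      ∑ l : Fin (q+1), ∑ u ∈ Finset.univ.filter (fun u : Fin (q+1) → Fin n =>
        Function.Injective u ∧ (u l : ℕ) = 0), G u := by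
  classical
  rw [← Finset.sum_product' (V (q+1) n) (Finset.univ : Finset (Equiv.Perm (Fin (q+1))))
    (fun v (τ : Equiv.Perm (Fin (q+1))) => G (v ∘ τ)), Finset.sum_sigma']
  refine Finset.sum_nbij'
    (fun p => ⟨p.2⁻¹ (Fin.last q), p.1 ∘ p.2⟩)
    (fun x => (x.2 ∘ sdesc x.2, (sdesc x.2)⁻¹)) ?_ ?_ ?_ ?_ ?_
  · rintro ⟨v, τ⟩ hp
    obtain ⟨hv, -⟩ := Finset.mem_product.mp hp
    obtain ⟨-, hanti, hlast⟩ := Finset.mem_filter.mp hv
    simp only [Finset.mem_sigma, Finset.mem_univ, Finset.mem_filter, true_and]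
    refine ⟨hanti.injective.comp τ.injective, ?_⟩
    simp only [Function.comp_apply, Equiv.Perm.coe_inv, Equiv.apply_symm_apply]
    exact hlast _ (by simp)
  · rintro ⟨l, u⟩ hx
    simp only [Finset.mem_sigma, Finset.mem_univ, Finset.mem_filter, true_and] at hx
    obtain ⟨hinj, hl⟩ := hx
    refine Finset.mem_product.mpr ⟨?_, Finset.mem_univ _⟩
    refine Finset.mem_filter.mpr ⟨Finset.mem_univ _, ?_, ?_⟩
    · exact (sdesc_antitone u).strictAnti_of_injective (hinj.comp (sdesc u).injective)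
    · intro i hi
      have hi' : i = Fin.last q := Fin.ext (by simp [hi])
      subst hi'
      exact sdesc_last hl
  · rintro ⟨v, τ⟩ hp
    obtain ⟨hv, -⟩ := Finset.mem_product.mp hp
    obtain ⟨-, hanti, hlast⟩ := Finset.mem_filter.mp hv
    have hinj : Function.Injective (v ∘ τ) := hanti.injective.comp τ.injective
    have hvτ : (v ∘ τ) ∘ (τ⁻¹ : Equiv.Perm (Fin (q+1))) = v := by
      funext x; simp
    have h1 : (v ∘ τ) ∘ sdesc (v ∘ τ) = (v ∘ τ) ∘ (τ⁻¹ : Equiv.Perm (Fin (q+1))) := by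
      apply Tuple.unique_antitone (sdesc_antitone (v ∘ τ))
      rw [hvτ]
      exact hanti.antitone
    have h2 : sdesc (v ∘ τ) = τ⁻¹ := by
      apply Equiv.ext
      intro x
      exact hinj (congrFun h1 x)
    simp only [h2, inv_inv, hvτ]
  · rintro ⟨l, u⟩ hx
    simp only [Finset.mem_sigma, Finset.mem_univ, Finset.mem_filter, true_and] at hx
    obtain ⟨hinj, hl⟩ := hx
    have h1 : sdesc u (Fin.last q) = l := by
      apply hinj
      apply Fin.ext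
      have := sdesc_last hl
      simp only [Function.comp_apply] at this
      rw [this, hl]
    have h2 : (u ∘ sdesc u) ∘ ((sdesc u)⁻¹ : Equiv.Perm (Fin (q+1))) = u := by
      funext x; simp
    simp only [inv_inv, h1, h2]
  · rintro ⟨v, τ⟩ _
    rfl

theorem charsum (ζ : ℂ) (hζ : IsPrimitiveRoot ζ n) (d : ℤ) (hd : ¬ (n : ℤ) ∣ d) :
    ∑ x : Fin n, ζ ^ (d * ((x : ℕ) : ℤ)) = 0 := by
  have h1 : ∀ x : Fin n, ζ ^ (d * ((x : ℕ) : ℤ)) = (ζ ^ d) ^ (x : ℕ) := by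
    intro x
    rw [zpow_mul, zpow_natCast]
  simp only [h1]
  rw [Fin.sum_univ_eq_sum_range (fun i => (ζ ^ d) ^ i) n]
  have h2 : (ζ ^ d) ^ n = 1 := by
    rw [← zpow_natCast, ← zpow_mul, mul_comm, zpow_mul, zpow_natCast, hζ.pow_eq_one, one_zpow]
  have h3 : ζ ^ d ≠ 1 := fun h => hd ((hζ.zpow_eq_one_iff_dvd d).mp h)
  have h4 := geom_sum_mul (ζ ^ d) n
  rw [h2, sub_self] at h4
  rcases mul_eq_zero.mp h4 with h | h
  · exact h
  · exact absurd (sub_eq_zero.mp h) h3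

theorem boxsum {r : ℕ} (ζ : ℂ) (hζ : IsPrimitiveRoot ζ n) (d : Fin r → ℤ) (l : Fin r)
    (h : ∃ j, j ≠ l ∧ ¬ (n : ℤ) ∣ d j) :
    ∑ u ∈ Finset.univ.filter (fun u : Fin r → Fin n => (u l : ℕ) = 0),
      ∏ j, ζ ^ (d j * ((u j : ℕ) : ℤ)) = 0 := by
  classical
  obtain ⟨j₀, hj₀, hd⟩ := h
  let t : Fin r → Finset (Fin n) := fun j =>
    if j = l then Finset.univ.filter (fun x : Fin n => (x : ℕ) = 0) else Finset.univ
  have hset : Finset.univ.filter (fun u : Fin r → Fin n => (u l : ℕ) = 0) =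
      Fintype.piFinset t := by
    ext u
    simp only [Finset.mem_filter, Finset.mem_univ, true_and, Fintype.mem_piFinset, t]
    constructor
    · intro hu j
      split_ifs with hj
      · subst hj
        simpa using hu
      · exact Finset.mem_univ _
    · intro hu
      have := hu l
      simpa using this
  rw [hset, ← Finset.prod_univ_sum t (fun j x => ζ ^ (d j * ((x : ℕ) : ℤ)))]
  apply Finset.prod_eq_zero (Finset.mem_univ j₀)
  simp only [t, if_neg hj₀]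
  exact charsum ζ hζ (d j₀) hd

theorem A_noninj {r : ℕ} (ζ : ℂ) (a : Fin r → ℤ) (u : Fin r → Fin n)
    (hu : ¬ Function.Injective u) : A ζ a (vz u) = 0 := by
  unfold Function.Injective at hu
  push Not at hu
  obtain ⟨x, y, hxy, hne⟩ := hu
  unfold A
  exact Matrix.det_zero_of_column_eq hne (fun k => by simp [vz, hxy])

theorem A_expand_col {r : ℕ} (ζ : ℂ) (a w : Fin r → ℤ) :
    A ζ a w = ∑ σ : Equiv.Perm (Fin r),
      ((Equiv.Perm.sign σ : ℤ) : ℂ) * ∏ j, ζ ^ (a (σ j) * w j) := by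
  unfold A
  rw [Matrix.det_apply']
  rfl

theorem A_expand_row {r : ℕ} (ζ : ℂ) (a w : Fin r → ℤ) :
    A ζ a w = ∑ τ : Equiv.Perm (Fin r),
      ((Equiv.Perm.sign τ : ℤ) : ℂ) * ∏ l, ζ ^ (a l * w (τ l)) := by
  unfold A
  rw [← Matrix.det_transpose, Matrix.det_apply']
  rfl

theorem case2 (ζ : ℂ) (hζ : IsPrimitiveRoot ζ n) (hn : 0 < n) (a a' : Fin (q+1) → ℤ) (m : ℤ)
    (hcomb : ∀ (σ : Equiv.Perm (Fin (q+1))) (l : Fin (q+1)),
      ∃ j, j ≠ l ∧ ¬ (n : ℤ) ∣ (a (σ j) + (a' j - m))) :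
    ∑ v ∈ V (q+1) n, ζ ^ (-(m * ∑ j, vz v j)) * A ζ a (vz v) * A ζ a' (vz v) = 0 := by
  classical
  have hζ0 : ζ ≠ 0 := hζ.ne_zero hn.ne'
  let H : (Fin (q+1) → Fin n) → ℂ := fun u =>
    A ζ a (vz u) * ∏ l, ζ ^ ((a' l - m) * vz u l)
  have hterm : ∀ v : Fin (q+1) → Fin n,
      ζ ^ (-(m * ∑ j, vz v j)) * A ζ a (vz v) * A ζ a' (vz v) =
        ∑ τ : Equiv.Perm (Fin (q+1)), H (v ∘ τ) := by
    intro v
    rw [A_expand_row ζ a' (vz v), Finset.mul_sum]
    refine Finset.sum_congr rfl fun τ _ => ?_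
    have hA : A ζ a (vz (v ∘ τ)) = ((Equiv.Perm.sign τ : ℤ) : ℂ) * A ζ a (vz v) := by
      have h0 := A_transform ζ hζ0 n hζ.pow_eq_one a (vz v) τ 0 0
      have h1 : (fun j => vz v (τ j) + 0 + (n : ℤ) * (0 : Fin (q+1) → ℤ) j) = vz (v ∘ τ) := by
        funext j
        simp [vz]
      rw [h1] at h0
      rw [h0]
      simp
    have hsumτ : ∑ j, vz v j = ∑ l, vz v (τ l) := (Equiv.sum_comp τ (vz v)).symm
    have hprod : ∏ l, ζ ^ ((a' l - m) * vz v (τ l)) =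
        ζ ^ (-(m * ∑ j, vz v j)) * ∏ l, ζ ^ (a' l * vz v (τ l)) := by
      rw [hsumτ, Finset.mul_sum, ← Finset.sum_neg_distrib, ← prod_zpow_eq ζ hζ0,
        ← Finset.prod_mul_distrib]
      refine Finset.prod_congr rfl fun l _ => ?_
      rw [← zpow_add₀ hζ0]
      congr 1
      ring
    show _ = A ζ a (vz (v ∘ τ)) * ∏ l, ζ ^ ((a' l - m) * vz (v ∘ τ) l)
    have hvz : ∀ l, vz (v ∘ τ) l = vz v (τ l) := fun l => rfl
    simp only [hvz]
    rw [hA, hprod]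
    ring
  rw [Finset.sum_congr rfl (fun v _ => hterm v), sort_sum H]
  refine Finset.sum_eq_zero fun l _ => ?_
  have hsub : ∑ u ∈ Finset.univ.filter (fun u : Fin (q+1) → Fin n =>
        Function.Injective u ∧ (u l : ℕ) = 0), H u =
      ∑ u ∈ Finset.univ.filter (fun u : Fin (q+1) → Fin n => (u l : ℕ) = 0), H u := by
    apply Finset.sum_subset
    · intro u hu
      simp only [Finset.mem_filter, Finset.mem_univ, true_and] at hu ⊢
      exact hu.2
    · intro u hu hnu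
      simp only [Finset.mem_filter, Finset.mem_univ, true_and] at hu hnu
      have hni : ¬ Function.Injective u := fun hi => hnu ⟨hi, hu⟩
      simp only [H, A_noninj ζ a u hni, zero_mul]
  rw [hsub]
  have hH : ∀ u : Fin (q+1) → Fin n, H u = ∑ σ : Equiv.Perm (Fin (q+1)),
      ((Equiv.Perm.sign σ : ℤ) : ℂ) *
        ∏ j, ζ ^ ((a (σ j) + (a' j - m)) * ((u j : ℕ) : ℤ)) := by
    intro u
    simp only [H]
    rw [A_expand_col, Finset.sum_mul]
    refine Finset.sum_congr rfl fun σ _ => ?_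
    rw [mul_assoc, ← Finset.prod_mul_distrib]
    congr 1
    refine Finset.prod_congr rfl fun j _ => ?_
    rw [← zpow_add₀ hζ0]
    congr 1
    simp only [vz]
    ring
  simp only [hH]
  rw [Finset.sum_comm]
  refine Finset.sum_eq_zero fun σ _ => ?_
  rw [← Finset.mul_sum, boxsum ζ hζ _ l (hcomb σ l), mul_zero]

end Case2


section Comb

theorem comb {q k : ℕ} (lam lam' : Fin (q+1) → ℕ) (hlam : Antitone lam) (hlamk : ∀ i, lam i ≤ k)
    (hlam' : Antitone lam') (hlam'k : ∀ i, lam' i ≤ k)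
    (hne : ¬ ∃ c : ℤ, ∀ i, (lam i : ℤ) - ((k - lam' (Fin.rev i) : ℕ) : ℤ) = c)
    (a a' : Fin (q+1) → ℤ) (ha : ∀ i, a i = ((lam i + (q + 1 - 1 - (i:ℕ)) : ℕ) : ℤ))
    (ha' : ∀ i, a' i = ((lam' i + (q + 1 - 1 - (i:ℕ)) : ℕ) : ℤ))
    (m : ℤ) (hm : ∑ i, a i + ∑ i, a' i = ((q + 1 : ℕ) : ℤ) * m)
    (σ : Equiv.Perm (Fin (q+1))) (l : Fin (q+1)) :
    ∃ j, j ≠ l ∧ ¬ (((q + 1 + k : ℕ) : ℤ)) ∣ (a (σ j) + (a' j - m)) := by
  classical
  by_contra hcon
  push Not at hcon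
  set n : ℤ := ((q + 1 + k : ℕ) : ℤ) with hn
  have hnpos : 0 < n := by rw [hn]; positivity
  let x : Fin (q+1) → ℤ := fun j => a (σ j) + (a' j - m)
  have hxsum : ∑ j, x j = 0 := by
    simp only [x, Finset.sum_add_distrib, Finset.sum_sub_distrib, Finset.sum_const,
      Finset.card_univ, Fintype.card_fin, Equiv.sum_comp σ a, nsmul_eq_mul]
    linarith
  have hdvd : ∀ j, n ∣ x j := by
    intro j
    by_cases hj : j = l
    · subst hj
      have h1 : x j = - ∑ i ∈ Finset.univ.erase j, x i := by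
        have := Finset.add_sum_erase Finset.univ x (Finset.mem_univ j)
        linarith
      rw [h1]
      exact (Finset.dvd_sum (fun i hi => hcon i (Finset.ne_of_mem_erase hi))).neg_right
    · exact hcon j hj
  have hbound : ∀ i, 0 ≤ a i ∧ a i ≤ n - 1 := by
    intro i
    have h1 := hlamk i
    have h2 : (i : ℕ) < q + 1 := i.isLt
    rw [ha i, hn]
    constructor
    · positivity
    · have : lam i + (q + 1 - 1 - (i:ℕ)) ≤ q + 1 + k - 1 := by omega
      have h3 : ((lam i + (q + 1 - 1 - (i:ℕ)) : ℕ) : ℤ) ≤ ((q + 1 + k - 1 : ℕ) : ℤ) := by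
        exact_mod_cast this
      have h4 : ((q + 1 + k - 1 : ℕ) : ℤ) = ((q + 1 + k : ℕ) : ℤ) - 1 := by
        have : 1 ≤ q + 1 + k := by omega
        rw [Nat.cast_sub this]
        simp
      linarith
  have hbound' : ∀ i, 0 ≤ a' i ∧ a' i ≤ n - 1 := by
    intro i
    have h1 := hlam'k i
    have h2 : (i : ℕ) < q + 1 := i.isLt
    rw [ha' i, hn]
    constructor
    · positivity
    · have : lam' i + (q + 1 - 1 - (i:ℕ)) ≤ q + 1 + k - 1 := by omega
      have h3 : ((lam' i + (q + 1 - 1 - (i:ℕ)) : ℕ) : ℤ) ≤ ((q + 1 + k - 1 : ℕ) : ℤ) := by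
        exact_mod_cast this
      have h4 : ((q + 1 + k - 1 : ℕ) : ℤ) = ((q + 1 + k : ℕ) : ℤ) - 1 := by
        have : 1 ≤ q + 1 + k := by omega
        rw [Nat.cast_sub this]
        simp
      linarith
  have hnonpos : ∀ j, x j ≤ 0 := by
    intro j
    by_contra hpos
    push Not at hpos
    have h1 : n ≤ x j := Int.le_of_dvd hpos (hdvd j)
    have hm2 : m ≤ n - 2 := by
      have := hbound (σ j)
      have := hbound' j
      simp only [x] at h1
      linarith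
    have hall : ∀ i, 0 ≤ x i := by
      intro i
      obtain ⟨c, hc⟩ := hdvd i
      have h3 : -n < x i := by
        have := hbound (σ i)
        have := hbound' i
        simp only [x]
        linarith
      rw [hc] at h3 ⊢
      have h4 : -1 < c := by nlinarith
      have h5 : 0 ≤ c := by omega
      positivity
    have h6 : x j ≤ ∑ i, x i := Finset.single_le_sum (fun i _ => hall i) (Finset.mem_univ j)
    linarith
  have hzero : ∀ j, x j = 0 := by
    intro j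
    exact (Finset.sum_eq_zero_iff_of_nonpos (fun i _ => hnonpos i)).mp hxsum j (Finset.mem_univ j)
  have hsa : StrictAnti a := by
    intro i j hij
    rw [ha i, ha j]
    have h1 : lam j ≤ lam i := hlam hij.le
    have h2 : (i : ℕ) < (j : ℕ) := hij
    have h3 : (j : ℕ) < q + 1 := j.isLt
    have : lam j + (q + 1 - 1 - (j:ℕ)) < lam i + (q + 1 - 1 - (i:ℕ)) := by omega
    exact_mod_cast this
  have hsa' : StrictAnti a' := by
    intro i j hij
    rw [ha' i, ha' j]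
    have h1 : lam' j ≤ lam' i := hlam' hij.le
    have h2 : (i : ℕ) < (j : ℕ) := hij
    have h3 : (j : ℕ) < q + 1 := j.isLt
    have : lam' j + (q + 1 - 1 - (j:ℕ)) < lam' i + (q + 1 - 1 - (i:ℕ)) := by omega
    exact_mod_cast this
  have hσanti : StrictAnti σ := by
    intro j j' hjj'
    have h1 : a' j' < a' j := hsa' hjj'
    have h2 : a (σ j) < a (σ j') := by
      have e1 := hzero j
      have e2 := hzero j'
      simp only [x] at e1 e2
      linarith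
    exact (StrictAnti.lt_iff_gt hsa).mp h2
  have hσ : σ = Fin.revPerm := by
    have hmono : Monotone (σ * (Fin.revPerm : Equiv.Perm (Fin (q+1))) : Equiv.Perm (Fin (q+1))) := by
      intro y y' hyy'
      simp only [Equiv.Perm.mul_apply, Fin.revPerm_apply]
      exact hσanti.antitone (Fin.rev_le_rev.mpr hyy')
    have h1 := (Equiv.Perm.monotone_iff _).mp hmono
    rw [eq_inv_of_mul_eq_one_left h1, Equiv.Perm.inv_def, Fin.revPerm_symm]
  apply hne
  refine ⟨m - q - k, fun i => ?_⟩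
  have h := hzero (Fin.rev i)
  simp only [x, hσ, Fin.revPerm_apply, Fin.rev_rev] at h
  rw [ha, ha'] at h
  have hk' : lam' (Fin.rev i) ≤ k := hlam'k _
  have hi : (i : ℕ) < q + 1 := i.isLt
  have hrev : ((Fin.rev i : Fin (q+1)) : ℕ) = q - i := by
    rw [Fin.val_rev]
    omega
  rw [hrev] at h
  rw [Nat.cast_sub hk']
  push_cast at h ⊢
  have e1 : ((q - (i:ℕ) : ℕ) : ℤ) = (q:ℤ) - (i:ℕ) := by omega
  have e2 : ((q - (q - (i:ℕ)) : ℕ) : ℤ) = ((i:ℕ) : ℤ) := by omega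
  rw [e1, e2] at h
  linarith

end Comb


section Exp

open Complex Real

variable (r k : ℕ)

noncomputable def ζ0 : ℂ := Complex.exp (2 * π * I / ((r : ℂ) + k))
noncomputable def ξ0 : ℂ := Complex.exp (2 * π * I / ((r : ℂ) * ((r : ℂ) + k)))
def ρ (r : ℕ) : Fin r → ℤ := fun i => ((r - 1 - (i : ℕ) : ℕ) : ℤ)
def aOf {r : ℕ} (μ : Fin r → ℕ) : Fin r → ℤ := fun i => ((μ i + (r - 1 - (i : ℕ)) : ℕ) : ℤ)
noncomputable def eps (r : ℕ) : ℂ :=
  ((Equiv.Perm.sign (Fin.revPerm : Equiv.Perm (Fin r)) : ℤ) : ℂ)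

theorem eps_mul_self : eps r * eps r = 1 := by
  unfold eps
  rw [← Int.cast_mul, Int.units_coe_mul_self, Int.cast_one]

theorem eps_ne_zero : eps r ≠ 0 := by
  intro h
  have := eps_mul_self r
  rw [h, mul_zero] at this
  exact zero_ne_one this

theorem rk_ne (h : 0 < r + k) : ((r : ℂ) + k) ≠ 0 := by
  have : ((r + k : ℕ) : ℂ) ≠ 0 := Nat.cast_ne_zero.mpr h.ne'
  simpa using this

theorem zeta_prim (h : 0 < r + k) : IsPrimitiveRoot (ζ0 r k) (r + k) := by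
  have := Complex.isPrimitiveRoot_exp (r + k) h.ne'
  simpa [ζ0] using this

theorem xi_prim (hr : 0 < r) (h : 0 < r + k) : IsPrimitiveRoot (ξ0 r k) (r * (r + k)) := by
  have := Complex.isPrimitiveRoot_exp (r * (r + k)) (Nat.mul_pos hr h).ne'
  simpa [ξ0] using this

theorem xi_pow (hr : 0 < r) (h : 0 < r + k) : ξ0 r k ^ r = ζ0 r k := by
  unfold ξ0 ζ0
  rw [← Complex.exp_nat_mul]
  congr 1
  have h1 := rk_ne r k h
  have h2 : (r : ℂ) ≠ 0 := Nat.cast_ne_zero.mpr hr.ne'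
  field_simp

theorem z_eq (x : ℕ) : Complex.exp (2 * π * I * (x : ℂ) / ((r : ℂ) + k)) = ζ0 r k ^ x := by
  unfold ζ0
  rw [← Complex.exp_nat_mul]
  congr 1
  ring

theorem alt_vandermonde (y : Fin r → ℂ) :
    Matrix.det (Matrix.of fun i j : Fin r => y j ^ (r - 1 - (i : ℕ))) =
      eps r * (Matrix.vandermonde y).det := by
  have h : (Matrix.of fun i j : Fin r => y j ^ (r - 1 - (i : ℕ))) =
      ((Matrix.vandermonde y).transpose).submatrix (Fin.revPerm : Equiv.Perm (Fin r)) id := by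
    ext i j
    simp only [Matrix.of_apply, Matrix.submatrix_apply, Matrix.transpose_apply,
      Matrix.vandermonde_apply, Fin.revPerm_apply, Fin.val_rev, id]
    congr 1
    omega
  rw [h, Matrix.det_permute, Matrix.det_transpose]
  rfl

theorem A_rho_eq (ζ : ℂ) (w : Fin r → ℕ) :
    A ζ (ρ r) (fun j => (w j : ℤ)) = eps r * (Matrix.vandermonde (fun j => ζ ^ w j)).det := by
  rw [← alt_vandermonde]
  unfold A
  congr 1
  ext i j
  simp only [Matrix.of_apply, ρ]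
  rw [← Nat.cast_mul, zpow_natCast, mul_comm, pow_mul]

theorem A_negrho_eq (ζ : ℂ) (w : Fin r → ℕ) :
    A ζ (fun i => -ρ r i) (fun j => (w j : ℤ)) =
      eps r * (Matrix.vandermonde (fun j => (ζ ^ w j)⁻¹)).det := by
  rw [← alt_vandermonde]
  unfold A
  congr 1
  ext i j
  simp only [Matrix.of_apply, ρ]
  rw [neg_mul, zpow_neg, ← Nat.cast_mul, zpow_natCast, mul_comm, pow_mul, inv_pow]

theorem pair_id (h : 0 < r + k) (x y : ℕ) :
    (((2 * Real.sin (π * ((x : ℝ) - (y : ℝ)) / ((r : ℝ) + k))) ^ 2 : ℝ) : ℂ) =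
      (ζ0 r k ^ y - ζ0 r k ^ x) * ((ζ0 r k ^ y)⁻¹ - (ζ0 r k ^ x)⁻¹) := by
  have hN := rk_ne r k h
  have hζ : ζ0 r k ≠ 0 := Complex.exp_ne_zero _
  have ha : ζ0 r k ^ x ≠ 0 := pow_ne_zero _ hζ
  have hb : ζ0 r k ^ y ≠ 0 := pow_ne_zero _ hζ
  set φ : ℂ := (π : ℂ) * ((x : ℂ) - (y : ℂ)) / ((r : ℂ) + k) with hφ
  have e1 : (ζ0 r k ^ y - ζ0 r k ^ x) * ((ζ0 r k ^ y)⁻¹ - (ζ0 r k ^ x)⁻¹) =
      2 - (ζ0 r k ^ x * (ζ0 r k ^ y)⁻¹ + ζ0 r k ^ y * (ζ0 r k ^ x)⁻¹) := by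
    field_simp
    ring
  have e2 : ζ0 r k ^ x * (ζ0 r k ^ y)⁻¹ = Complex.exp ((2 * φ) * I) := by
    unfold ζ0
    rw [← Complex.exp_nat_mul, ← Complex.exp_nat_mul, ← Complex.exp_neg, ← Complex.exp_add]
    congr 1
    rw [hφ]
    field_simp
    ring
  have e3 : ζ0 r k ^ y * (ζ0 r k ^ x)⁻¹ = Complex.exp (-(2 * φ) * I) := by
    unfold ζ0
    rw [← Complex.exp_nat_mul, ← Complex.exp_nat_mul, ← Complex.exp_neg, ← Complex.exp_add]
    congr 1
    rw [hφ]
    field_simp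
    ring
  have hc : Complex.exp ((2 * φ) * I) + Complex.exp (-(2 * φ) * I) = 2 * Complex.cos (2 * φ) := by
    rw [Complex.cos]
    ring
  have hlhs : (((2 * Real.sin (π * ((x : ℝ) - (y : ℝ)) / ((r : ℝ) + k))) ^ 2 : ℝ) : ℂ) =
      (2 * Complex.sin φ) ^ 2 := by
    rw [hφ]
    push_cast
    ring
  rw [hlhs, e1, e2, e3, hc, Complex.cos_two_mul]
  have := Complex.sin_sq_add_cos_sq φ
  linear_combination 4 * this

theorem pairs_prod (g : Fin r → Fin r → ℂ) :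
    ∏ p ∈ (Finset.univ : Finset (Fin r × Fin r)).filter (fun p => p.1 < p.2), g p.1 p.2 =
      ∏ i, ∏ j ∈ Finset.Ioi i, g i j := by
  classical
  rw [Finset.prod_filter, ← Finset.univ_product_univ, Finset.prod_product]
  refine Finset.prod_congr rfl fun i _ => ?_
  rw [← Finset.prod_filter]
  congr 1
  ext j
  simp

theorem P_eq (h : 0 < r + k) (w : Fin r → ℕ) :
    ((∏ p ∈ (Finset.univ : Finset (Fin r × Fin r)).filter (fun p => p.1 < p.2),
        ((2 : ℝ) * Real.sin (π * ((w p.1 : ℝ) - (w p.2 : ℝ)) / ((r : ℝ) + k))) ^ 2 : ℝ) : ℂ) =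
      A (ζ0 r k) (ρ r) (fun j => (w j : ℤ)) *
        A (ζ0 r k) (fun i => -ρ r i) (fun j => (w j : ℤ)) := by
  rw [A_rho_eq, A_negrho_eq, Matrix.det_vandermonde, Matrix.det_vandermonde]
  have he := eps_mul_self r
  rw [Complex.ofReal_prod]
  have h1 := pairs_prod r (fun i j =>
    (((2 * Real.sin (π * ((w i : ℝ) - (w j : ℝ)) / ((r : ℝ) + k))) ^ 2 : ℝ) : ℂ))
  rw [h1]
  have h2 : ∀ i : Fin r, ∀ j : Fin r,
      (((2 * Real.sin (π * ((w i : ℝ) - (w j : ℝ)) / ((r : ℝ) + k))) ^ 2 : ℝ) : ℂ) =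
      (ζ0 r k ^ w j - ζ0 r k ^ w i) * ((ζ0 r k ^ w j)⁻¹ - (ζ0 r k ^ w i)⁻¹) :=
    fun i j => pair_id r k h (w i) (w j)
  simp only [h2, Finset.prod_mul_distrib]
  rw [mul_mul_mul_comm, he, one_mul]

theorem A_negrho_rel (ζ : ℂ) (hζ : ζ ≠ 0) (hr : 0 < r) (W : Fin r → ℤ) :
    A ζ (fun i => -ρ r i) W =
      eps r * ζ ^ (-(((r:ℤ) - 1) * ∑ j, W j)) * A ζ (ρ r) W := by
  unfold A
  have h1 : (Matrix.of fun i j : Fin r => ζ ^ (-ρ r i * W j)) =
      Matrix.of fun i j => ζ ^ (-(((r:ℤ) - 1) * W j)) *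
        ((Matrix.of fun i j : Fin r => ζ ^ (ρ r i * W j)).submatrix
          (Fin.revPerm : Equiv.Perm (Fin r)) id) i j := by
    ext i j
    simp only [Matrix.of_apply, Matrix.submatrix_apply, id, Fin.revPerm_apply]
    rw [← zpow_add₀ hζ]
    congr 1
    have hi : (i : ℕ) < r := i.isLt
    have e1 : ρ r i = (r:ℤ) - 1 - (i:ℕ) := by
      unfold ρ
      omega
    have e2 : ρ r (Fin.rev i) = (i:ℕ) := by
      unfold ρ
      rw [Fin.val_rev]
      omega
    rw [e1, e2]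
    ring
  rw [h1, Matrix.det_mul_row, Matrix.det_permute, prod_zpow_eq ζ hζ, Finset.sum_neg_distrib,
    ← Finset.mul_sum]
  unfold eps
  ring

theorem sum_rho (hr : 0 < r) : 2 * ∑ i, ρ r i = (r:ℤ) * ((r:ℤ) - 1) := by
  unfold ρ
  rw [← Nat.cast_sum, Fin.sum_univ_eq_sum_range (fun i => r - 1 - i) r,
    Finset.sum_range_reflect (fun i => i) r, mul_comm]
  have := Finset.sum_range_id_mul_two r
  have h2 : ((r * (r - 1) : ℕ) : ℤ) = (r:ℤ) * ((r:ℤ) - 1) := by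
    rw [Nat.cast_mul, Nat.cast_sub hr]
    simp
  rw [← h2, ← this]
  push_cast
  ring

end Exp


section Final

theorem S_eq (r k : ℕ) (z : (Fin r → ℕ) → Fin r → ℂ)
    (hz : ∀ v j, z v j = Complex.exp (2 * Real.pi * Complex.I * (v j : ℂ) / ((r : ℂ) + k)))
    (S : (Fin r → ℕ) → (Fin r → ℕ) → ℂ)
    (hS : ∀ μ v, S μ v = (Matrix.of fun i j : Fin r => z v j ^ (μ i + (r - 1 - (i : ℕ)))).det /
        (Matrix.of fun i j : Fin r => z v j ^ (r - 1 - (i : ℕ))).det)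
    (μ w : Fin r → ℕ) :
    S μ w = A (ζ0 r k) (aOf μ) (fun j => (w j : ℤ)) / A (ζ0 r k) (ρ r) (fun j => (w j : ℤ)) := by
  rw [hS]
  unfold A
  congr 2
  · ext i j
    simp only [Matrix.of_apply, hz, z_eq, aOf]
    rw [← pow_mul, ← zpow_natCast, Nat.cast_mul, mul_comm]
  · ext i j
    simp only [Matrix.of_apply, hz, z_eq, ρ]
    rw [← pow_mul, ← zpow_natCast, Nat.cast_mul, mul_comm]

theorem E_eq (r k : ℕ) (c W : ℕ) :
    Complex.exp (-(2 * Real.pi * Complex.I * (c : ℂ) * (W : ℂ) / ((r : ℂ) * ((r : ℂ) + k)))) =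
      ξ0 r k ^ (-((c : ℤ) * (W : ℤ))) := by
  unfold ξ0
  rw [← Complex.exp_int_mul]
  congr 1
  push_cast
  ring

theorem summand_eq' (r k : ℕ) (hr : 0 < r) (lam lam' : Fin r → ℕ)
    (z : (Fin r → ℕ) → Fin r → ℂ)
    (hz : ∀ v j, z v j = Complex.exp (2 * Real.pi * Complex.I * (v j : ℂ) / ((r : ℂ) + k)))
    (S : (Fin r → ℕ) → (Fin r → ℕ) → ℂ)
    (hS : ∀ μ v, S μ v = (Matrix.of fun i j : Fin r => z v j ^ (μ i + (r - 1 - (i : ℕ)))).det /
        (Matrix.of fun i j : Fin r => z v j ^ (r - 1 - (i : ℕ))).det)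
    (P : (Fin r → ℕ) → ℝ)
    (hP : ∀ v, P v = ∏ p ∈ (Finset.univ : Finset (Fin r × Fin r)).filter (fun p => p.1 < p.2),
        ((2 : ℝ) * Real.sin (Real.pi * ((v p.1 : ℝ) - (v p.2 : ℝ)) / ((r : ℝ) + k))) ^ 2)
    (w : Fin r → ℕ) (hinj : Function.Injective (fun j => ζ0 r k ^ w j)) :
    Complex.exp (-(2 * Real.pi * Complex.I * (((∑ i, lam i) + (∑ i, lam' i) : ℕ) : ℂ) *
          ((∑ j, w j : ℕ) : ℂ) / ((r : ℂ) * ((r : ℂ) + k)))) *
        S lam w * S lam' w * (P w : ℂ) =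
      eps r * F (ξ0 r k) (ζ0 r k) (∑ i, aOf lam i + ∑ i, aOf lam' i) (aOf lam) (aOf lam')
        (fun j => (w j : ℤ)) := by
  have hpos : 0 < r + k := by omega
  have hζ0 : ζ0 r k ≠ 0 := Complex.exp_ne_zero _
  have hξ0 : ξ0 r k ≠ 0 := Complex.exp_ne_zero _
  have hξζ := xi_pow r k hr hpos
  rw [S_eq r k z hz S hS lam w, S_eq r k z hz S hS lam' w, hP w, P_eq r k hpos w,
    A_negrho_rel r (ζ0 r k) hζ0 hr, E_eq]
  have hne0 : A (ζ0 r k) (ρ r) (fun j => (w j : ℤ)) ≠ 0 := by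
    rw [A_rho_eq]
    apply mul_ne_zero (eps_ne_zero r)
    rw [Matrix.det_vandermonde_ne_zero_iff]
    exact hinj
  unfold F
  have hC : (∑ i, aOf lam i + ∑ i, aOf lam' i) =
      (((∑ i, lam i) + (∑ i, lam' i) : ℕ) : ℤ) + (r:ℤ) * ((r:ℤ) - 1) := by
    have h1 : ∀ μ : Fin r → ℕ, ∑ i, aOf μ i = ((∑ i, μ i : ℕ) : ℤ) + ∑ i, ρ r i := by
      intro μ
      unfold aOf ρ
      rw [Nat.cast_sum, ← Finset.sum_add_distrib]
      refine Finset.sum_congr rfl fun i _ => ?_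
      push_cast
      ring
    rw [h1, h1]
    have := sum_rho r hr
    push_cast
    linarith
  have hsumW : ((∑ j, w j : ℕ) : ℤ) = ∑ j, (w j : ℤ) := Nat.cast_sum _ _
  have hexp : ξ0 r k ^ (-((∑ i, aOf lam i + ∑ i, aOf lam' i) * ∑ j, (w j : ℤ))) =
      ξ0 r k ^ (-((((∑ i, lam i) + (∑ i, lam' i) : ℕ) : ℤ) * ((∑ j, w j : ℕ) : ℤ))) *
        ζ0 r k ^ (-(((r:ℤ) - 1) * ∑ j, (w j : ℤ))) := by
    rw [← hξζ, ← zpow_natCast (ξ0 r k) r, ← zpow_mul, ← zpow_add₀ hξ0, hC, hsumW]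
    congr 1
    ring
  rw [hexp]
  field_simp

theorem summand_eq (r k : ℕ) (hr : 0 < r) (lam lam' : Fin r → ℕ)
    (z : (Fin r → ℕ) → Fin r → ℂ)
    (hz : ∀ v j, z v j = Complex.exp (2 * Real.pi * Complex.I * (v j : ℂ) / ((r : ℂ) + k)))
    (S : (Fin r → ℕ) → (Fin r → ℕ) → ℂ)
    (hS : ∀ μ v, S μ v = (Matrix.of fun i j : Fin r => z v j ^ (μ i + (r - 1 - (i : ℕ)))).det /
        (Matrix.of fun i j : Fin r => z v j ^ (r - 1 - (i : ℕ))).det)
    (P : (Fin r → ℕ) → ℝ)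
    (hP : ∀ v, P v = ∏ p ∈ (Finset.univ : Finset (Fin r × Fin r)).filter (fun p => p.1 < p.2),
        ((2 : ℝ) * Real.sin (Real.pi * ((v p.1 : ℝ) - (v p.2 : ℝ)) / ((r : ℝ) + k))) ^ 2)
    (v : Fin r → Fin (r + k)) (hv : Function.Injective v) :
    Complex.exp (-(2 * Real.pi * Complex.I * (((∑ i, lam i) + (∑ i, lam' i) : ℕ) : ℂ) *
          ((∑ j, (v j : ℕ) : ℕ) : ℂ) / ((r : ℂ) * ((r : ℂ) + k)))) *
        S lam (fun j => (v j : ℕ)) * S lam' (fun j => (v j : ℕ)) * (P (fun j => (v j : ℕ)) : ℂ) =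
      eps r * F (ξ0 r k) (ζ0 r k) (∑ i, aOf lam i + ∑ i, aOf lam' i) (aOf lam) (aOf lam')
        (vz v) := by
  have hpos : 0 < r + k := by omega
  have hζp := zeta_prim r k hpos
  refine summand_eq' r k hr lam lam' z hz S hS P hP (fun j => (v j : ℕ)) ?_
  intro i j hij
  apply hv
  apply Fin.ext
  exact hζp.pow_inj (v i).isLt (v j).isLt hij

theorem main (r k : ℕ) (hr : 2 ≤ r) (hk : 1 ≤ k) (lam lam' : Fin r → ℕ)
    (hlam : Antitone lam) (hlamk : ∀ i, lam i ≤ k)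
    (hlam' : Antitone lam') (hlam'k : ∀ i, lam' i ≤ k)
    (hne : ¬ ∃ a : ℤ, ∀ i, (lam i : ℤ) - ((k - lam' (Fin.rev i) : ℕ) : ℤ) = a)
    (z : (Fin r → ℕ) → Fin r → ℂ)
    (hz : ∀ v j, z v j = Complex.exp (2 * Real.pi * Complex.I * (v j : ℂ) / ((r : ℂ) + k)))
    (S : (Fin r → ℕ) → (Fin r → ℕ) → ℂ)
    (hS : ∀ μ v, S μ v = (Matrix.of fun i j : Fin r => z v j ^ (μ i + (r - 1 - (i : ℕ)))).det /
        (Matrix.of fun i j : Fin r => z v j ^ (r - 1 - (i : ℕ))).det)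
    (P : (Fin r → ℕ) → ℝ)
    (hP : ∀ v, P v = ∏ p ∈ (Finset.univ : Finset (Fin r × Fin r)).filter (fun p => p.1 < p.2),
        ((2 : ℝ) * Real.sin (Real.pi * ((v p.1 : ℝ) - (v p.2 : ℝ)) / ((r : ℝ) + k))) ^ 2) :
    (∑ v ∈ (Finset.univ : Finset (Fin r → Fin (r + k))).filter
        (fun v : Fin r → Fin (r + k) => StrictAnti v ∧ ∀ i : Fin r, (i : ℕ) = r - 1 → (v i : ℕ) = 0),
      Complex.exp (-(2 * Real.pi * Complex.I * (((∑ i, lam i) + (∑ i, lam' i) : ℕ) : ℂ) *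
          ((∑ j, (v j : ℕ) : ℕ) : ℂ) / ((r : ℂ) * ((r : ℂ) + k)))) *
        S lam (fun j => (v j : ℕ)) * S lam' (fun j => (v j : ℕ)) * (P (fun j => (v j : ℕ)) : ℂ)) = 0 := by
  obtain ⟨q, rfl⟩ : ∃ q, r = q + 2 := ⟨r - 2, by omega⟩
  have hpos : 0 < q + 2 + k := by omega
  have hr0 : 0 < q + 2 := by omega
  have hsum : ∀ v ∈ V (q+2) (q+2+k),
      Complex.exp (-(2 * Real.pi * Complex.I * (((∑ i, lam i) + (∑ i, lam' i) : ℕ) : ℂ) *
          ((∑ j, (v j : ℕ) : ℕ) : ℂ) / (((q + 2 : ℕ) : ℂ) * (((q + 2 : ℕ) : ℂ) + k)))) *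
        S lam (fun j => (v j : ℕ)) * S lam' (fun j => (v j : ℕ)) * (P (fun j => (v j : ℕ)) : ℂ) =
      eps (q+2) * F (ξ0 (q+2) k) (ζ0 (q+2) k) (∑ i, aOf lam i + ∑ i, aOf lam' i) (aOf lam)
        (aOf lam') (vz v) :=
    fun v hv => summand_eq (q+2) k hr0 lam lam' z hz S hS P hP v
      ((Finset.mem_filter.mp hv).2.1.injective)
  show ∑ v ∈ V (q+2) (q+2+k), _ = 0
  rw [Finset.sum_congr rfl hsum, ← Finset.mul_sum]
  set C := ∑ i, aOf lam i + ∑ i, aOf lam' i with hCdef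
  suffices h : ∑ v ∈ V (q+2) (q+2+k),
      F (ξ0 (q+2) k) (ζ0 (q+2) k) C (aOf lam) (aOf lam') (vz v) = 0 by
    rw [h, mul_zero]
  have hζp := zeta_prim (q+2) k hpos
  have hξp := xi_prim (q+2) k hr0 hpos
  have hξ0 : ξ0 (q+2) k ≠ 0 := Complex.exp_ne_zero _
  have hξζ := xi_pow (q+2) k hr0 hpos
  by_cases hdiv : ((q + 2 : ℕ) : ℤ) ∣ C
  · obtain ⟨m, hm⟩ := hdiv
    have hF : ∀ v : Fin (q+2) → Fin (q+2+k),
        F (ξ0 (q+2) k) (ζ0 (q+2) k) C (aOf lam) (aOf lam') (vz v) =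
        ζ0 (q+2) k ^ (-(m * ∑ j, vz v j)) * A (ζ0 (q+2) k) (aOf lam) (vz v) *
          A (ζ0 (q+2) k) (aOf lam') (vz v) := by
      intro v
      unfold F
      congr 2
      rw [hm, ← hξζ, ← zpow_natCast (ξ0 (q+2) k) (q+2), ← zpow_mul]
      congr 1
      ring
    simp only [hF]
    refine case2 (q := q+1) (ζ0 (q+2) k) hζp hpos (aOf lam) (aOf lam') m (fun σ l => ?_)
    exact comb (q := q+1) (k := k) lam lam' hlam hlamk hlam' hlam'k hne (aOf lam) (aOf lam')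
      (fun i => rfl) (fun i => rfl) m hm σ l
  · refine sum_eq_zero_of_rot (m := q) (n := q+2+k)
      (F (ξ0 (q+2) k) (ζ0 (q+2) k) C (aOf lam) (aOf lam'))
      (ξ0 (q+2) k ^ (-(C * ((q+2+k : ℕ):ℤ)))) ?_ ?_
    · intro h
      rw [← zpow_mul, hξp.zpow_eq_one_iff_dvd] at h
      apply hdiv
      obtain ⟨d, hd⟩ := h
      have hN : ((q + 2 + k : ℕ) : ℤ) ≠ 0 := by positivity
      have h1 : ((q+2+k : ℕ):ℤ) * (-(C * ((q:ℤ)+1))) =
          ((q+2+k:ℕ):ℤ) * (((q+2:ℕ):ℤ) * d) := by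
        push_cast at hd ⊢
        linear_combination hd
      have h2 := mul_left_cancel₀ hN h1
      refine ⟨C + d, ?_⟩
      push_cast at h2 ⊢
      linear_combination h2
    · intro w π t u
      rw [F_transform (ξ0 (q+2) k) (ζ0 (q+2) k) hξ0 hξζ (q+2+k) hζp.pow_eq_one (aOf lam)
        (aOf lam') C hCdef w π t u, ← zpow_mul]
      congr 2
      ring

end Final

end Groth.Agent.Helper29.Verlinde
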