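import Mathlib
open CategoryTheory CategoryTheory.Limits PreGaloisCategory
universe u v w

set_option linter.unusedSectionVars false
set_option autoImplicit false

namespace Groth.Agent.Helper29.FibUniq

/-- in `FintypeCat`, the two injections of a binary coproduct have disjoint images. -/
lemma inl_ne_inr {X Y : FintypeCat.{w}} (c : BinaryCofan X Y) (hc : IsColimit c)
    (x : X) (y : Y) : c.inl x ≠ c.inr y := by
  intro h
  let B : FintypeCat.{w} := FintypeCat.of (ULift Bool)
  let f : X ⟶ B := FintypeCat.homMk (fun _ => ULift.up false)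
  let g : Y ⟶ B := FintypeCat.homMk (fun _ => ULift.up true)
  let φ : c.pt ⟶ B := hc.desc (BinaryCofan.mk f g)
  have h1 : c.inl ≫ φ = f := hc.fac (BinaryCofan.mk f g) ⟨WalkingPair.left⟩
  have h2 : c.inr ≫ φ = g := hc.fac (BinaryCofan.mk f g) ⟨WalkingPair.right⟩
  have e1 : φ (c.inl x) = ULift.up false := ConcreteCategory.congr_hom h1 x
  have e2 : φ (c.inr y) = ULift.up true := ConcreteCategory.congr_hom h2 y
  rw [h, e2] at e1
  exact Bool.noConfusion (congrArg ULift.down e1)


variable {C : Type u} [Category.{v} C] [GaloisCategory C]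
  (F : C ⥤ FintypeCat.{w}) [FiberFunctor F] (F' : C ⥤ FintypeCat.{w}) [PreservesFiniteLimits F']
  [PreservesColimitsOfShape (Discrete WalkingPair) F']

omit [PreservesFiniteLimits F'] in
/-- `F'` of an initial object is empty. -/
lemma isEmpty_of_isInitial {X : C} (hX : IsInitial X) : IsEmpty (F'.obj X) := by
  constructor
  intro q
  let T : C := ⊤_ C
  let P : C := pullback (coprod.inl : T ⟶ T ⨿ T) (coprod.inr : T ⟶ T ⨿ T)
  let t : X ⟶ P := hX.to P
  let q' : F'.obj P := F'.map t q
  have hc : IsColimit (F'.mapCocone (BinaryCofan.mk (coprod.inl : T ⟶ T ⨿ T) coprod.inr)) :=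
    isColimitOfPreserves F' (coprodIsCoprod T T)
  have hc' : IsColimit (BinaryCofan.mk (F'.map (coprod.inl : T ⟶ T ⨿ T)) (F'.map coprod.inr)) :=
    (isColimitMapCoconeBinaryCofanEquiv F' _ _).1 hc
  have hne := inl_ne_inr _ hc' (F'.map (pullback.fst _ _) q') (F'.map (pullback.snd _ _) q')
  apply hne
  have e : F'.map (pullback.fst (coprod.inl : T ⟶ T ⨿ T) coprod.inr) ≫ F'.map coprod.inl =
      F'.map (pullback.snd (coprod.inl : T ⟶ T ⨿ T) coprod.inr) ≫ F'.map coprod.inr := by
    rw [← F'.map_comp, ← F'.map_comp, pullback.condition]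
  exact ConcreteCategory.congr_hom e q'


/-- evaluation at a point of `F'` is injective on maps out of a connected object. -/
lemma eval_injective (A X : C) [IsConnected A] (a' : F'.obj A) (f g : A ⟶ X)
    (h : F'.map f a' = F'.map g a') : f = g := by
  let G : C ⥤ Type w := F' ⋙ FintypeCat.incl
  have hlim := isLimitForkMapOfIsLimit G (equalizer.condition f g) (equalizerIsEqualizer f g)
  obtain ⟨y, hy, -⟩ := Types.unique_of_type_equalizer _ _ hlim a' h
  have hn : IsInitial (equalizer f g) → False := fun hi =>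
    (isEmpty_of_isInitial F' hi).false y
  have : IsIso (equalizer.ι f g) := IsConnected.noTrivialComponent _ (equalizer.ι f g) hn
  exact (cancel_epi (equalizer.ι f g)).1 (equalizer.condition f g)


omit [PreservesFiniteLimits F'] in
/-- every element of `F' Y` lies in (the image of) a connected subobject. -/
lemma exists_component_aux (n : ℕ) : ∀ (Y : C), Nat.card (F.obj Y) = n → ∀ (z : F'.obj Y),
    ∃ (W : C) (i : W ⟶ Y) (w : F'.obj W), F'.map i w = z ∧ IsConnected W ∧ Mono i := by
  induction n using Nat.strongRecOn with | _ n ih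
  intro Y hn z
  by_cases hconn : IsConnected Y
  · exact ⟨Y, 𝟙 Y, z, by simp, hconn, inferInstance⟩
  have nhi : IsInitial Y → False := fun hi => (isEmpty_of_isInitial F' hi).false z
  obtain ⟨Y₁, v, hni, hvmono, hvnoiso⟩ :=
    has_non_trivial_subobject_of_not_isConnected_of_not_initial Y hconn nhi
  obtain ⟨Z, u, ⟨c⟩⟩ := PreGaloisCategory.monoInducesIsoOnDirectSummand v
  let t : ColimitCocone (pair Y₁ Z) := { cocone := BinaryCofan.mk v u, isColimit := c }
  have hn1 : Nat.card (F.obj Y₁) < n := by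
    rw [← hn]
    exact lt_card_fiber_of_mono_of_notIso F v hvnoiso
  have i : Y ≅ Y₁ ⨿ Z := (colimit.isoColimitCocone t).symm
  have hnn : Nat.card (F.obj Y) = Nat.card (F.obj Y₁) + Nat.card (F.obj Z) := by
    rw [card_fiber_eq_of_iso F i]
    exact card_fiber_coprod_eq_sum F Y₁ Z
  have hn2 : Nat.card (F.obj Z) < n := by
    rw [← hn, hnn, lt_add_iff_pos_left]
    exact Nat.pos_of_ne_zero (non_zero_card_fiber_of_not_initial F Y₁ hni)
  have umono : Mono u := MonoCoprod.binaryCofan_inr (BinaryCofan.mk v u) c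
  have hc : IsColimit (F'.mapCocone (BinaryCofan.mk v u)) := isColimitOfPreserves F' c
  obtain ⟨⟨j⟩, z', hz'⟩ := Concrete.isColimit_exists_rep _ hc z
  cases j with
  | left =>
    obtain ⟨W, i, w, hw, hW, hi⟩ := ih _ hn1 Y₁ rfl z'
    refine ⟨W, i ≫ v, w, ?_, hW, inferInstance⟩
    rw [Functor.map_comp_apply, hw]
    exact hz'
  | right =>
    obtain ⟨W, i, w, hw, hW, hi⟩ := ih _ hn2 Z rfl z'
    refine ⟨W, i ≫ u, w, ?_, hW, inferInstance⟩
    rw [Functor.map_comp_apply, hw]
    exact hz'


omit [PreservesFiniteLimits F'] in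
include F in
lemma exists_component (Y : C) (z : F'.obj Y) :
    ∃ (W : C) (i : W ⟶ Y) (w : F'.obj W), F'.map i w = z ∧ IsConnected W ∧ Mono i :=
  exists_component_aux F F' _ Y rfl z

/-- pointed Galois objects form a cofiltered category (any universe of the fibre functor). -/
lemma isCofilteredOrEmpty_PGO : IsCofilteredOrEmpty (PointedGaloisObject F) where
  cone_objs := fun ⟨A, a, _⟩ ⟨B, b, _⟩ ↦ by
    obtain ⟨Z, f, z, hgal, hfz⟩ := exists_hom_from_galois_of_fiber F (A ⨯ B)
      <| (fiberBinaryProductEquiv F A B).symm (a, b)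
    refine ⟨⟨Z, z, hgal⟩, ⟨f ≫ prod.fst, ?_⟩, ⟨f ≫ prod.snd, ?_⟩, trivial⟩
    · simp only [F.map_comp, hfz, FintypeCat.comp_apply, fiberBinaryProductEquiv_symm_fst_apply]
    · simp only [F.map_comp, hfz, FintypeCat.comp_apply, fiberBinaryProductEquiv_symm_snd_apply]
  cone_maps := fun ⟨A, a, _⟩ ⟨B, b, _⟩ ⟨f, hf⟩ ⟨g, hg⟩ ↦ by
    obtain ⟨Z, h, z, hgal, hhz⟩ := exists_hom_from_galois_of_fiber F A a
    refine ⟨⟨Z, z, hgal⟩, ⟨h, hhz⟩, PointedGaloisObject.hom_ext ?_⟩
    apply evaluation_injective_of_isConnected F Z B z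
    simp [hhz, hf, hg]

/-- A compatible system of points of `F'` on pointed Galois objects. -/
lemma exists_section (h : ∀ X : C, IsEmpty (F'.obj X) → Nonempty (IsInitial X)) :
    ∃ s : ∀ A : PointedGaloisObject F, F'.obj A.obj,
      ∀ {A B : PointedGaloisObject F} (f : A ⟶ B), F'.map f.val (s A) = s B := by
  have := isCofilteredOrEmpty_PGO F
  let G : PointedGaloisObject F ⥤ Type w := PointedGaloisObject.incl F ⋙ F' ⋙ FintypeCat.incl
  have hfin : ∀ A, Finite (G.obj A) := fun A => inferInstanceAs (Finite (F'.obj A.obj))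
  have hne : ∀ A, Nonempty (G.obj A) := by
    intro A
    by_contra hcon
    rw [not_nonempty_iff] at hcon
    obtain ⟨hi⟩ := h A.obj hcon
    exact IsConnected.notInitial (X := A.obj) hi
  obtain ⟨s, hs⟩ := nonempty_sections_of_finite_cofiltered_system G
  exact ⟨s, fun f => hs f⟩


section eta

variable (s : ∀ A : PointedGaloisObject F, F'.obj A.obj)
  (hs : ∀ {A B : PointedGaloisObject F} (f : A ⟶ B), F'.map f.val (s A) = s B)

include hs in
omit [PreservesColimitsOfShape (Discrete WalkingPair) F'] [PreservesFiniteLimits F'] in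
lemma indep {X : C} (A B : PointedGaloisObject F) (f : A.obj ⟶ X) (g : B.obj ⟶ X)
    (h : F.map f A.pt = F.map g B.pt) : F'.map f (s A) = F'.map g (s B) := by
  have := isCofilteredOrEmpty_PGO F
  obtain ⟨D, p, q, -⟩ := IsCofilteredOrEmpty.cone_objs A B
  have e : p.val ≫ f = q.val ≫ g := by
    apply evaluation_injective_of_isConnected F D.obj X D.pt
    change F.map (p.val ≫ f) D.pt = F.map (q.val ≫ g) D.pt
    rw [Functor.map_comp_apply, Functor.map_comp_apply, p.comp, q.comp, h]
  rw [← hs p, ← hs q, ← Functor.map_comp_apply, ← Functor.map_comp_apply, e]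

/-- a chosen pointed Galois object mapping to `(X, x)`. -/
noncomputable def chosenPGO (X : C) (x : F.obj X) : PointedGaloisObject F :=
  ⟨(exists_hom_from_galois_of_fiber F X x).choose,
    (exists_hom_from_galois_of_fiber F X x).choose_spec.choose_spec.choose,
    (exists_hom_from_galois_of_fiber F X x).choose_spec.choose_spec.choose_spec.1⟩

/-- the chosen map. -/
noncomputable def chosenHom (X : C) (x : F.obj X) : (chosenPGO F X x).obj ⟶ X :=
  (exists_hom_from_galois_of_fiber F X x).choose_spec.choose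

lemma chosen_spec (X : C) (x : F.obj X) :
    F.map (chosenHom F X x) (chosenPGO F X x).pt = x :=
  (exists_hom_from_galois_of_fiber F X x).choose_spec.choose_spec.choose_spec.2

/-- the map `F X → F' X`. -/
noncomputable def etaFun (X : C) (x : F.obj X) : F'.obj X :=
  F'.map (chosenHom F X x) (s (chosenPGO F X x))

include hs in
omit [PreservesColimitsOfShape (Discrete WalkingPair) F'] [PreservesFiniteLimits F'] in
lemma etaFun_eq {X : C} (x : F.obj X) (A : PointedGaloisObject F) (f : A.obj ⟶ X)
    (h : F.map f A.pt = x) : etaFun F F' s X x = F'.map f (s A) := by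
  unfold etaFun
  apply indep F F' s hs
  rw [h]
  exact chosen_spec F X x

include hs in
omit [PreservesColimitsOfShape (Discrete WalkingPair) F'] [PreservesFiniteLimits F'] in
lemma etaFun_naturality {X Y : C} (u : X ⟶ Y) (x : F.obj X) :
    etaFun F F' s Y (F.map u x) = F'.map u (etaFun F F' s X x) := by
  rw [etaFun_eq F F' s hs (F.map u x) (chosenPGO F X x) (chosenHom F X x ≫ u)
    (by rw [Functor.map_comp_apply, chosen_spec])]
  rw [Functor.map_comp_apply]
  rfl

include hs in
lemma etaFun_injective (X : C) : Function.Injective (etaFun F F' s X) := by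
  intro x y hxy
  obtain ⟨A, a, hA, hbij⟩ := exists_galois_representative F X
  obtain ⟨f, rfl⟩ := hbij.surjective x
  obtain ⟨g, rfl⟩ := hbij.surjective y
  let PA : PointedGaloisObject F := ⟨A, a, hA⟩
  rw [etaFun_eq F F' s hs _ PA f rfl, etaFun_eq F F' s hs _ PA g rfl] at hxy
  have := eval_injective F' A X (s PA) f g hxy
  rw [this]


omit [PreservesColimitsOfShape (Discrete WalkingPair) F'] in
lemma exists_prod_elt' (X Y : C) (x : F'.obj X) (y : F'.obj Y) :
    ∃ p : F'.obj (X ⨯ Y), F'.map prod.fst p = x ∧ F'.map prod.snd p = y := by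
  let G : C ⥤ Type w := F' ⋙ FintypeCat.incl
  let φ := PreservesLimitPair.iso G X Y ≪≫ Types.binaryProductIso _ _
  have h1 : φ.inv ≫ G.map (prod.fst : X ⨯ Y ⟶ X) = ↾Prod.fst := by
    simp only [φ, Iso.trans_inv, Category.assoc]
    rw [PreservesLimitPair.iso_inv_fst, Types.binaryProductIso_inv_comp_fst]
  have h2 : φ.inv ≫ G.map (prod.snd : X ⨯ Y ⟶ Y) = ↾Prod.snd := by
    simp only [φ, Iso.trans_inv, Category.assoc]
    rw [PreservesLimitPair.iso_inv_snd, Types.binaryProductIso_inv_comp_snd]
  refine ⟨φ.inv (x, y), ?_, ?_⟩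
  · have := congrArg (fun f => f ((x, y) : G.obj X × G.obj Y)) h1
    exact this
  · have := congrArg (fun f => f ((x, y) : G.obj X × G.obj Y)) h2
    exact this

omit [PreservesColimitsOfShape (Discrete WalkingPair) F'] [PreservesFiniteLimits F'] in
lemma fiber_prod_ext {X Y : C} (p q : F.obj (X ⨯ Y)) (h1 : F.map prod.fst p = F.map prod.fst q)
    (h2 : F.map prod.snd p = F.map prod.snd q) : p = q := by
  obtain ⟨⟨a, b⟩, rfl⟩ := (fiberBinaryProductEquiv F X Y).symm.surjective p
  obtain ⟨⟨c, d⟩, rfl⟩ := (fiberBinaryProductEquiv F X Y).symm.surjective q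
  rw [fiberBinaryProductEquiv_symm_fst_apply, fiberBinaryProductEquiv_symm_fst_apply] at h1
  rw [fiberBinaryProductEquiv_symm_snd_apply, fiberBinaryProductEquiv_symm_snd_apply] at h2
  rw [h1, h2]

include hs in
lemma etaFun_surjective (X : C) : Function.Surjective (etaFun F F' s X) := by
  intro y'
  obtain ⟨A, a, hA, hbij⟩ := exists_galois_representative F X
  let PA : PointedGaloisObject F := ⟨A, a, hA⟩
  obtain ⟨z, hz1, hz2⟩ := exists_prod_elt' F' A X (s PA) y'
  obtain ⟨W, i, w, hw, hW, hi⟩ := exists_component F F' (A ⨯ X) z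
  obtain ⟨w₀⟩ := nonempty_fiber_of_isConnected F W
  obtain ⟨σ, hσ⟩ := MulAction.exists_smul_eq (Aut A) a (F.map (i ≫ prod.fst) w₀)
  have hσ' : F.map σ.hom a = F.map (i ≫ prod.fst) w₀ := hσ
  obtain ⟨g, hg⟩ := hbij.surjective (F.map (i ≫ prod.snd) w₀)
  have hg' : F.map g a = F.map (i ≫ prod.snd) w₀ := hg
  let f : A ⟶ X := σ.inv ≫ g
  let Γ : A ⟶ A ⨯ X := prod.lift (𝟙 A) f
  have hΓmono : Mono Γ := mono_of_mono_fac (prod.lift_fst (𝟙 A) f)
  let a₀ := F.map (i ≫ prod.fst) w₀
  have hfa₀ : F.map f a₀ = F.map (i ≫ prod.snd) w₀ := by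
    change F.map f (F.map (i ≫ prod.fst) w₀) = _
    rw [← hσ', ← Functor.map_comp_apply, ← hg']
    simp [f]
  have hΓ : F.map i w₀ = F.map Γ a₀ := by
    apply fiber_prod_ext F
    · rw [← Functor.map_comp_apply, ← Functor.map_comp_apply, prod.lift_fst]
      simp [a₀]
    · rw [← Functor.map_comp_apply, ← Functor.map_comp_apply, prod.lift_snd, hfa₀]
  obtain ⟨θ, hθ⟩ := connected_component_unique F w₀ a₀ i Γ hΓ
  have hθΓ : θ.hom ≫ Γ = i := by
    apply evaluation_injective_of_isConnected F W _ w₀
    change F.map (θ.hom ≫ Γ) w₀ = F.map i w₀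
    rw [Functor.map_comp_apply, hθ, hΓ]
  let a'' := F'.map θ.hom w
  have hz : z = F'.map Γ a'' := by
    rw [← hw, ← hθΓ, Functor.map_comp_apply]
  have e1 : a'' = s PA := by
    rw [← hz1, hz, ← Functor.map_comp_apply, prod.lift_fst]
    simp
  refine ⟨F.map f a, ?_⟩
  rw [etaFun_eq F F' s hs _ PA f rfl, ← hz2, hz, ← Functor.map_comp_apply, prod.lift_snd, e1]

end eta


/-- S5145. -/
theorem main_S5145 (h : ∀ X : C, IsEmpty (F'.obj X) → Nonempty (IsInitial X)) :
    Nonempty (F' ≅ F) := by
  obtain ⟨s, hs⟩ := exists_section F F' h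
  refine ⟨(NatIso.ofComponents (fun X => FintypeCat.equivEquivIso
    (Equiv.ofBijective (etaFun F F' s X)
      ⟨etaFun_injective F F' s hs X, etaFun_surjective F F' s hs X⟩)) ?_).symm⟩
  intro X Y u
  ext x
  exact etaFun_naturality F F' s hs u x


omit [PreservesColimitsOfShape (Discrete WalkingPair) F'] in
/-- S0266. -/
theorem main_S0266 [PreservesFiniteColimits F'] : Nonempty (F' ≅ F) := by
  have : PreservesColimitsOfShape (Discrete WalkingPair) F' := inferInstance
  apply main_S5145 F F'
  intro X hX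
  rw [initial_iff_fiber_empty F]
  by_contra hne
  rw [not_isEmpty_iff] at hne
  -- the terminal object is connected
  have hU : Unique (F.obj (⊤_ C)) := Types.isTerminalEquivUnique _
    (IsTerminal.isTerminalObj (F ⋙ FintypeCat.incl) _ terminalIsTerminal)
  have hU' : Unique (F'.obj (⊤_ C)) := Types.isTerminalEquivUnique _
    (IsTerminal.isTerminalObj (F' ⋙ FintypeCat.incl) _ terminalIsTerminal)
  have hT : IsConnected (⊤_ C) := by
    constructor
    · intro hi
      have : IsEmpty (F.obj (⊤_ C)) := (initial_iff_fiber_empty F _).1 ⟨hi⟩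
      exact this.false hU.default
    · intro Y i _ hY
      apply isIso_of_mono_of_eq_card_fiber F i
      have hYne : Nonempty (F.obj Y) := (not_initial_iff_fiber_nonempty F Y).1 hY
      have hinj : Function.Injective (F.map i) := by
        have : Mono (FintypeCat.incl.map (F.map i)) := inferInstance
        exact injective_of_mono (FintypeCat.incl.map (F.map i))
      have h1 : Nat.card (F.obj (⊤_ C)) = 1 := Nat.card_unique
      have h2 : Nat.card (F.obj Y) ≤ Nat.card (F.obj (⊤_ C)) :=
        Nat.card_le_card_of_injective _ hinj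
      have h3 : 0 < Nat.card (F.obj Y) := Nat.card_pos
      omega
  have hepi : Epi (terminal.from X) := epi_of_nonempty_of_isConnected F (terminal.from X)
  have hepi' : Epi (F'.map (terminal.from X)) := inferInstance
  have hsurj : Function.Surjective (F'.map (terminal.from X)) :=
    surjective_of_epi (FintypeCat.incl.map (F'.map (terminal.from X)))
  obtain ⟨x, -⟩ := hsurj hU'.default
  exact hX.false x

end Groth.Agent.Helper29.FibUniq
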