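import Mathlib
import Groth.Agent.Lib.Helper29.FibUniq
open CategoryTheory CategoryTheory.Limits PreGaloisCategory
universe u v w

set_option linter.unusedSectionVars false
set_option autoImplicit false

namespace Groth.Agent.Helper29.GalFF

section general

variable {C : Type u} [Category.{v} C] [GaloisCategory C] (F : C ⥤ FintypeCat.{w}) [FiberFunctor F]

lemma unique_fiber_terminal : Nonempty (Unique (F.obj (⊤_ C))) :=
  ⟨Types.isTerminalEquivUnique _
    (IsTerminal.isTerminalObj (F ⋙ FintypeCat.incl) _ terminalIsTerminal)⟩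

include F in
lemma isConnected_terminal : IsConnected (⊤_ C) := by
  obtain ⟨hU⟩ := unique_fiber_terminal F
  constructor
  · intro hi
    have : IsEmpty (F.obj (⊤_ C)) := (initial_iff_fiber_empty F _).1 ⟨hi⟩
    exact this.false hU.default
  · intro Y i _ hY
    apply isIso_of_mono_of_eq_card_fiber F i
    have hYne : Nonempty (F.obj Y) := (not_initial_iff_fiber_nonempty F Y).1 hY
    have hinj : Function.Injective (F.map i) := by
      have : Mono (FintypeCat.incl.map (F.map i)) := inferInstance
      exact injective_of_mono (FintypeCat.incl.map (F.map i))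
    have h1 : Nat.card (F.obj (⊤_ C)) = 1 := Nat.card_unique
    have h2 : Nat.card (F.obj Y) ≤ Nat.card (F.obj (⊤_ C)) :=
      Nat.card_le_card_of_injective _ hinj
    have h3 : 0 < Nat.card (F.obj Y) := Nat.card_pos
    omega

include F in
lemma epi_terminal_from (X : C) (hX : IsInitial X → False) : Epi (terminal.from X) := by
  have := isConnected_terminal F
  have : Nonempty (F.obj X) := (not_initial_iff_fiber_nonempty F X).1 hX
  exact epi_of_nonempty_of_isConnected F (terminal.from X)

end general

variable {C : Type u} [Category.{v} C] [GaloisCategory C] {D : Type u} [Category.{v} D]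
  [GaloisCategory D] (H : C ⥤ D) [PreservesFiniteLimits H] [PreservesFiniteColimits H]

/-- `H X` initial implies `X` initial. -/
lemma isInitial_of_isInitial_map (X : C) (hX : IsInitial (H.obj X)) : Nonempty (IsInitial X) := by
  by_contra hcon
  let FC := GaloisCategory.getFiberFunctor C
  let FD := GaloisCategory.getFiberFunctor D
  have hX' : IsInitial X → False := fun h => hcon ⟨h⟩
  have h1 : Epi (terminal.from X) := epi_terminal_from FC X hX'
  have h2 : Epi (H.map (terminal.from X)) := inferInstance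
  have h3 : Function.Surjective (FD.map (H.map (terminal.from X))) :=
    surjective_on_fiber_of_epi FD _
  have hT : IsTerminal (H.obj (⊤_ C)) := IsTerminal.isTerminalObj H _ terminalIsTerminal
  have hU : Unique (FD.obj (H.obj (⊤_ C))) := Types.isTerminalEquivUnique _
    (IsTerminal.isTerminalObj (FD ⋙ FintypeCat.incl) _ hT)
  obtain ⟨x, -⟩ := h3 hU.default
  exact ((initial_iff_fiber_empty FD _).1 ⟨hX⟩).false x

/-- the composite `H ⋙ F_D` is isomorphic to the fibre functor of `C`. -/
noncomputable def compIso :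
    H ⋙ GaloisCategory.getFiberFunctor D ≅ GaloisCategory.getFiberFunctor C :=
  (FibUniq.main_S5145 (GaloisCategory.getFiberFunctor C)
    (H ⋙ GaloisCategory.getFiberFunctor D) (by
      intro X hX
      have : IsEmpty ((GaloisCategory.getFiberFunctor D).obj (H.obj X)) := hX
      obtain ⟨hi⟩ := (initial_iff_fiber_empty (GaloisCategory.getFiberFunctor D) _).2 this
      exact isInitial_of_isInitial_map H X hi)).some

lemma map_eq {X Y : C} (k : X ⟶ Y) : (GaloisCategory.getFiberFunctor C).map k =
    (compIso H).inv.app X ≫ (GaloisCategory.getFiberFunctor D).map (H.map k) ≫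
      (compIso H).hom.app Y := by
  have := (compIso H).hom.naturality k
  change (GaloisCategory.getFiberFunctor D).map (H.map k) ≫ _ = _ at this
  rw [this, Iso.inv_hom_id_app_assoc]

lemma reflectsIso {X Y : C} (f : X ⟶ Y) [IsIso (H.map f)] : IsIso f := by
  let FC := GaloisCategory.getFiberFunctor C
  have h3 : IsIso (FC.map f) := by rw [map_eq H f]; infer_instance
  exact isIso_of_reflects_iso f FC

lemma faithful : H.Faithful := by
  constructor
  intro X Y f g hfg
  apply (GaloisCategory.getFiberFunctor C).map_injective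
  rw [map_eq H f, map_eq H g, hfg]


/-- every morphism `H X ⟶ H Y` with `X` connected is in the image of `H`, if `H` preserves
connected objects. -/
lemma exists_preimage_of_connected
    (hH : ∀ X : C, IsConnected X → IsConnected (H.obj X))
    (X Y : C) [IsConnected X] (g : H.obj X ⟶ H.obj Y) : ∃ f : X ⟶ Y, H.map f = g := by
  let FC := GaloisCategory.getFiberFunctor C
  let FD := GaloisCategory.getFiberFunctor D
  have hHX : IsConnected (H.obj X) := hH X inferInstance
  let e := PreservesLimitPair.iso H X Y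
  let Γ : H.obj X ⟶ H.obj (X ⨯ Y) := prod.lift (𝟙 _) g ≫ e.inv
  have hΓ1 : Γ ≫ H.map prod.fst = 𝟙 _ := by
    simp only [Γ, e, Category.assoc, PreservesLimitPair.iso_inv_fst, prod.lift_fst]
  have hΓ2 : Γ ≫ H.map prod.snd = g := by
    simp only [Γ, e, Category.assoc, PreservesLimitPair.iso_inv_snd, prod.lift_snd]
  have hΓmono : Mono Γ := mono_of_mono_fac hΓ1
  obtain ⟨x₀⟩ := nonempty_fiber_of_isConnected FD (H.obj X)
  -- transport the point to `FC (X ⨯ Y)`
  let p₀ : FC.obj (X ⨯ Y) := (compIso H).hom.app _ (FD.map Γ x₀)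
  obtain ⟨Z, i, z, hz, hZ, hi⟩ := fiber_in_connected_component FC (X ⨯ Y) p₀
  have hHZ : IsConnected (H.obj Z) := hH Z hZ
  let z' : FD.obj (H.obj Z) := (compIso H).inv.app _ z
  have hz' : FD.map (H.map i) z' = FD.map Γ x₀ := by
    have h1 := ConcreteCategory.congr_hom ((compIso H).inv.naturality i) z
    have h2 : (compIso H).inv.app _ p₀ = FD.map Γ x₀ := by
      simp [p₀]
    rw [← h2, ← hz]
    exact h1.symm
  have hHi : Mono (H.map i) := inferInstance
  obtain ⟨θ, hθ⟩ := connected_component_unique FD x₀ z' Γ (H.map i) hz'.symm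
  have hθΓ : θ.hom ≫ H.map i = Γ := by
    apply evaluation_injective_of_isConnected FD (H.obj X) _ x₀
    change FD.map (θ.hom ≫ H.map i) x₀ = FD.map Γ x₀
    rw [Functor.map_comp_apply, hθ, hz']
  have h5 : θ.hom ≫ H.map (i ≫ prod.fst) = 𝟙 _ := by
    rw [H.map_comp, ← Category.assoc, hθΓ, hΓ1]
  have h6 : H.map (i ≫ prod.fst) = θ.inv := by
    rw [← cancel_epi θ.hom, h5, Iso.hom_inv_id]
  have h7 : IsIso (H.map (i ≫ prod.fst)) := by rw [h6]; infer_instance
  have h8 : IsIso (i ≫ prod.fst) := reflectsIso H _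
  refine ⟨inv (i ≫ prod.fst) ≫ i ≫ prod.snd, ?_⟩
  rw [H.map_comp, Functor.map_inv]
  have h9 : inv (H.map (i ≫ prod.fst)) = θ.hom := by
    apply IsIso.inv_eq_of_inv_hom_id
    rw [h6, Iso.hom_inv_id]
  rw [h9, H.map_comp, ← Category.assoc, hθΓ, hΓ2]


lemma full_of_preservesConnected
    (hH : ∀ X : C, IsConnected X → IsConnected (H.obj X)) : H.Full := by
  constructor
  intro X Y g'
  obtain ⟨ι, f, g, hl, hc, hfin⟩ := has_decomp_connected_components X
  have := Fintype.ofFinite ι
  have hl' : IsColimit (H.mapCocone (Cofan.mk X g)) := isColimitOfPreserves H hl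
  have hex : ∀ i, ∃ fi : f i ⟶ Y, H.map fi = H.map (g i) ≫ g' := fun i => by
    have := hc i
    exact exists_preimage_of_connected H hH (f i) Y _
  choose fi hfi using hex
  refine ⟨Cofan.IsColimit.desc hl fi, ?_⟩
  apply hl'.hom_ext
  rintro ⟨i⟩
  change H.map (g i) ≫ H.map _ = H.map (g i) ≫ g'
  have hfac : g i ≫ Cofan.IsColimit.desc hl fi = fi i := Cofan.IsColimit.fac hl fi i
  rw [← H.map_comp, hfac, hfi]


section factor

variable {C : Type u} [Category.{v} C] [GaloisCategory C]

/-- a map from a connected object to `⊤ ⨿ ⊤` factors through one of the summands. -/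
lemma factor_of_connected (X : C) [IsConnected X] (c : X ⟶ (⊤_ C) ⨿ (⊤_ C)) :
    (∃ c' : X ⟶ ⊤_ C, c = c' ≫ coprod.inl) ∨ (∃ c' : X ⟶ ⊤_ C, c = c' ≫ coprod.inr) := by
  let FC := GaloisCategory.getFiberFunctor C
  let T : C := ⊤_ C
  by_cases h1 : IsIso (pullback.fst c (coprod.inl : T ⟶ T ⨿ T))
  · left
    refine ⟨inv (pullback.fst c (coprod.inl : T ⟶ T ⨿ T)) ≫ pullback.snd _ _, ?_⟩
    rw [Category.assoc, ← pullback.condition, IsIso.inv_hom_id_assoc]
  by_cases h2 : IsIso (pullback.fst c (coprod.inr : T ⟶ T ⨿ T))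
  · right
    refine ⟨inv (pullback.fst c (coprod.inr : T ⟶ T ⨿ T)) ≫ pullback.snd _ _, ?_⟩
    rw [Category.assoc, ← pullback.condition, IsIso.inv_hom_id_assoc]
  exfalso
  obtain ⟨x⟩ := nonempty_fiber_of_isConnected FC X
  have hcol : IsColimit (FC.mapCocone (BinaryCofan.mk (coprod.inl : T ⟶ T ⨿ T) coprod.inr)) :=
    isColimitOfPreserves FC (coprodIsCoprod T T)
  obtain ⟨⟨j⟩, t, ht⟩ := Concrete.isColimit_exists_rep _ hcol (FC.map c x)
  cases j with
  | left =>
    apply h1
    apply IsConnected.noTrivialComponent _ (pullback.fst c (coprod.inl : T ⟶ T ⨿ T))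
    intro hi
    have hemp : IsEmpty (FC.obj (pullback c (coprod.inl : T ⟶ T ⨿ T))) :=
      (initial_iff_fiber_empty FC _).1 ⟨hi⟩
    exact hemp.false ((fiberPullbackEquiv FC c coprod.inl).symm ⟨(x, t), ht.symm⟩)
  | right =>
    apply h2
    apply IsConnected.noTrivialComponent _ (pullback.fst c (coprod.inr : T ⟶ T ⨿ T))
    intro hi
    have hemp : IsEmpty (FC.obj (pullback c (coprod.inr : T ⟶ T ⨿ T))) :=
      (initial_iff_fiber_empty FC _).1 ⟨hi⟩
    exact hemp.false ((fiberPullbackEquiv FC c coprod.inr).symm ⟨(x, t), ht.symm⟩)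

end factor


lemma isConnected_map_of_full [H.Full] (X : C) [IsConnected X] : IsConnected (H.obj X) := by
  let FC := GaloisCategory.getFiberFunctor C
  let FD := GaloisCategory.getFiberFunctor D
  let T : C := ⊤_ C
  constructor
  · intro hi
    obtain ⟨hX⟩ := isInitial_of_isInitial_map H X hi
    exact IsConnected.notInitial hX
  · intro Y i _ hY
    obtain ⟨Z, u, ⟨hc⟩⟩ := PreGaloisCategory.monoInducesIsoOnDirectSummand i
    have hT : IsTerminal (H.obj T) := IsTerminal.isTerminalObj H _ terminalIsTerminal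
    let χ : H.obj X ⟶ H.obj (T ⨿ T) :=
      hc.desc (BinaryCofan.mk (hT.from Y ≫ H.map coprod.inl) (hT.from Z ≫ H.map coprod.inr))
    have hχ1 : i ≫ χ = hT.from Y ≫ H.map coprod.inl :=
      hc.fac (BinaryCofan.mk (hT.from Y ≫ H.map coprod.inl) (hT.from Z ≫ H.map coprod.inr))
        ⟨WalkingPair.left⟩
    have hχ2 : u ≫ χ = hT.from Z ≫ H.map coprod.inr :=
      hc.fac (BinaryCofan.mk (hT.from Y ≫ H.map coprod.inl) (hT.from Z ≫ H.map coprod.inr))
        ⟨WalkingPair.right⟩
    obtain ⟨c, hcχ⟩ := H.map_surjective χ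
    -- the colimit cofan in FintypeCat
    have hcol : IsColimit ((H ⋙ FD).mapCocone
        (BinaryCofan.mk (coprod.inl : T ⟶ T ⨿ T) coprod.inr)) :=
      isColimitOfPreserves (H ⋙ FD) (coprodIsCoprod T T)
    have hcol' : IsColimit (BinaryCofan.mk ((H ⋙ FD).map (coprod.inl : T ⟶ T ⨿ T))
        ((H ⋙ FD).map coprod.inr)) :=
      (isColimitMapCoconeBinaryCofanEquiv (H ⋙ FD) _ _).1 hcol
    have hcard : Nat.card (FD.obj (H.obj X)) = Nat.card (FD.obj Y) + Nat.card (FD.obj Z) := by
      let t : ColimitCocone (pair Y Z) := { cocone := BinaryCofan.mk i u, isColimit := hc }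
      have e : H.obj X ≅ Y ⨿ Z := (colimit.isoColimitCocone t).symm
      rw [card_fiber_eq_of_iso FD e]
      exact card_fiber_coprod_eq_sum FD Y Z
    rcases factor_of_connected X c with ⟨c', hc'⟩ | ⟨c', hc'⟩
    · -- then `Z` has empty fibre
      have hZ : IsEmpty (FD.obj Z) := by
        constructor
        intro z
        have e1 : u ≫ H.map c' ≫ H.map coprod.inl = hT.from Z ≫ H.map coprod.inr := by
          rw [← hχ2, ← hcχ, hc', H.map_comp]
        have e2 := ConcreteCategory.congr_hom (congrArg FD.map e1) z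
        rw [FD.map_comp, FD.map_comp, FD.map_comp] at e2
        exact FibUniq.inl_ne_inr _ hcol' (FD.map (H.map c') (FD.map u z)) (FD.map (hT.from Z) z) e2
      apply isIso_of_mono_of_eq_card_fiber FD i
      have h0 : Nat.card (FD.obj Z) = 0 := Nat.card_of_isEmpty
      rw [hcard, h0, add_zero]
    · -- then `Y` has empty fibre, contradiction
      exfalso
      have hYe : IsEmpty (FD.obj Y) := by
        constructor
        intro y
        have e1 : hT.from Y ≫ H.map coprod.inl = i ≫ H.map c' ≫ H.map coprod.inr := by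
          rw [← hχ1, ← hcχ, hc', H.map_comp]
        have e2 := ConcreteCategory.congr_hom (congrArg FD.map e1) y
        rw [FD.map_comp, FD.map_comp, FD.map_comp] at e2
        exact FibUniq.inl_ne_inr _ hcol' (FD.map (hT.from Y) y) (FD.map (H.map c') (FD.map i y)) e2
      obtain ⟨hi⟩ := (initial_iff_fiber_empty FD Y).2 hYe
      exact hY hi

/-- S0267. -/
theorem main_S0267 : (H.Full ∧ H.Faithful) ↔
    ∀ X : C, PreGaloisCategory.IsConnected X → PreGaloisCategory.IsConnected (H.obj X) := by
  constructor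
  · rintro ⟨hfull, -⟩ X hX
    exact isConnected_map_of_full H X
  · intro hH
    exact ⟨full_of_preservesConnected H hH, faithful H⟩

end Groth.Agent.Helper29.GalFF
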