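import Mathlib
import Groth.Agent.Lib.Helper24.HDSheaf
import Groth.Agent.Lib.Helper24.RlimTrunc
import Groth.Agent.Lib.Helper24.RlimTrunc2
import Groth.Agent.Lib.Helper24.RlimSeq

/-!
# Maps from a single object into an unbounded complex: `Hom(Z[0], E) ≅ Hom(Z, H⁰ E)`
when `E` is the derived limit of its truncations and `Ext^k(Z, Hᵃ E) = 0` for `k ≥ 1`.
-/

set_option autoImplicit false
universe w' w v u
open CategoryTheory CategoryTheory.Limits Opposite Pretriangulated DerivedCategory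

namespace Groth.Agent.Helper29.QcA

open Groth.Agent.Helper24.HDSheaf Groth.Agent.Helper24.RlimTrunc DerivedCategory.TStructure

section GE

variable {A : Type u} [Category.{v} A] [Abelian A] [HasDerivedCategory.{w} A]

/-- `κ` is bijective on single objects -/
lemma κ_bijective_single (Z Y : A) : Function.Bijective (κ Z (Q.obj (sg Y))) := by
  have hiso : IsIso (κ Y (Q.obj (sg Y)) (𝟙 _)) := by
    unfold κ
    rw [CategoryTheory.Functor.map_id, Category.comp_id]
    infer_instance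
  have key : ∀ a : Z ⟶ Y, κ Z (Q.obj (sg Y)) ((singleFunctor A 0).map a) =
      a ≫ κ Y (Q.obj (sg Y)) (𝟙 _) := by
    intro a
    have := κ_precomp a (𝟙 (Q.obj (sg Y)))
    rw [Category.comp_id] at this
    exact this
  constructor
  · intro φ ψ h
    obtain ⟨a, rfl⟩ := (singleFunctor A 0).map_surjective φ
    obtain ⟨b, rfl⟩ := (singleFunctor A 0).map_surjective ψ
    rw [key, key] at h
    rw [(cancel_mono _).1 h]
  · intro s
    refine ⟨(singleFunctor A 0).map (s ≫ inv (κ Y (Q.obj (sg Y)) (𝟙 _))), ?_⟩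
    rw [key, Category.assoc, IsIso.inv_hom_id, Category.comp_id]

lemma κ_bijective_of_iso (Z : A) {M M' : DerivedCategory A} (e : M ≅ M')
    (h : Function.Bijective (κ Z M')) : Function.Bijective (κ Z M) := by
  have key : ∀ φ, κ Z M φ = κ Z M' (φ ≫ e.hom) ≫ (homologyFunctor A 0).map e.inv := by
    intro φ
    rw [κ_postcomp, Category.assoc, ← Functor.map_comp, e.hom_inv_id,
      CategoryTheory.Functor.map_id, Category.comp_id]
  constructor
  · intro φ ψ hφψ
    rw [key, key] at hφψ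
    have h2 := (cancel_mono _).1 hφψ
    exact (cancel_mono e.hom).1 (h.1 h2)
  · intro s
    obtain ⟨ψ, hψ⟩ := h.2 (s ≫ (homologyFunctor A 0).map e.hom)
    refine ⟨ψ ≫ e.inv, ?_⟩
    rw [key, Category.assoc, e.inv_hom_id, Category.comp_id, hψ, Category.assoc,
      ← Functor.map_comp, e.hom_inv_id, CategoryTheory.Functor.map_id, Category.comp_id]

/-- `κ` is bijective on objects which are `≥ 0` -/
theorem κ_bijective_of_isGE (Z : A) (M : DerivedCategory A) [M.IsGE 0] :
    Function.Bijective (κ Z M) := by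
  let M₀ := (t.truncLE 0).obj M
  let ι : M₀ ⟶ M := (t.truncLEι 0).app M
  haveI : M₀.IsGE 0 := inferInstanceAs (t.IsGE ((t.truncLE 0).obj M) 0)
  haveI : M₀.IsLE 0 := inferInstanceAs (t.IsLE ((t.truncLE 0).obj M) 0)
  obtain ⟨Y, ⟨e⟩⟩ := exists_iso_singleFunctor_obj_of_isGE_of_isLE M₀ 0
  have h₀ : Function.Bijective (κ Z M₀) := κ_bijective_of_iso Z e (κ_bijective_single Z Y)
  have hι : IsIso ((homologyFunctor A 0).map ι) := by
    have hT := t.triangleLEGE_distinguished 0 1 (by omega) M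
    have h0 : IsZero (((homologyFunctor A 0).shift (-1)).obj
        ((t.triangleLEGE 0 1 (by omega)).obj M).obj₃) :=
      isZero_of_isGE ((t.truncGE 1).obj M) 1 (-1) (by omega)
    have h1 : IsZero (((homologyFunctor A 0).shift (0 : ℤ)).obj
        ((t.triangleLEGE 0 1 (by omega)).obj M).obj₃) :=
      isZero_of_isGE ((t.truncGE 1).obj M) 1 0 (by omega)
    exact isIso_shift_map_mor₁ (homologyFunctor A 0) _ hT (-1) 0 (by omega) h0 h1
  haveI : (Q.obj (sg Z)).IsLE 0 := inferInstanceAs (((singleFunctor A 0).obj Z).IsLE 0)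
  have key : ∀ φ : Q.obj (sg Z) ⟶ M₀, κ Z M (φ ≫ ι) = κ Z M₀ φ ≫ (homologyFunctor A 0).map ι :=
    fun φ => κ_postcomp φ ι
  constructor
  · intro φ ψ hφψ
    have e1 : φ = t.liftTruncLE φ 0 ≫ ι := (t.liftTruncLE_ι φ 0).symm
    have e2 : ψ = t.liftTruncLE ψ 0 ≫ ι := (t.liftTruncLE_ι ψ 0).symm
    rw [e1, e2, key, key] at hφψ
    have := h₀.1 ((cancel_mono _).1 hφψ)
    rw [e1, e2, this]
  · intro s
    obtain ⟨ψ, hψ⟩ := h₀.2 (s ≫ inv ((homologyFunctor A 0).map ι))
    refine ⟨ψ ≫ ι, ?_⟩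
    rw [key, hψ, Category.assoc, IsIso.inv_hom_id, Category.comp_id]

end GE


section Unshift

variable {T : Type*} [Category T] [Preadditive T] [HasZeroObject T] [HasShift T ℤ]
    [∀ n : ℤ, (shiftFunctor T n).Additive] [Pretriangulated T]

lemma bij_unshift {X Y Y' : T} (g : Y ⟶ Y')
    (h : Function.Bijective (fun f : X ⟶ Y⟦(0 : ℤ)⟧ => f ≫ g⟦(0 : ℤ)⟧')) :
    Function.Bijective (fun f : X ⟶ Y => f ≫ g) := by
  have nat : ∀ f : X ⟶ Y, (f ≫ (shiftFunctorZero T ℤ).inv.app Y) ≫ g⟦(0 : ℤ)⟧' =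
      (f ≫ g) ≫ (shiftFunctorZero T ℤ).inv.app Y' := by
    intro f
    rw [Category.assoc, Category.assoc]
    congr 1
    exact ((shiftFunctorZero T ℤ).inv.naturality g).symm
  constructor
  · intro f₁ f₂ h12
    have h12' : f₁ ≫ g = f₂ ≫ g := h12
    have := h.1 (a₁ := f₁ ≫ (shiftFunctorZero T ℤ).inv.app Y)
      (a₂ := f₂ ≫ (shiftFunctorZero T ℤ).inv.app Y) (by
        change (f₁ ≫ _) ≫ g⟦(0 : ℤ)⟧' = (f₂ ≫ _) ≫ g⟦(0 : ℤ)⟧'
        rw [nat, nat, h12'])
    exact (cancel_mono _).1 this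
  · intro f'
    obtain ⟨f, hf⟩ := h.2 (f' ≫ (shiftFunctorZero T ℤ).inv.app Y')
    refine ⟨f ≫ (shiftFunctorZero T ℤ).hom.app Y, ?_⟩
    have hf' : f ≫ g⟦(0 : ℤ)⟧' = f' ≫ (shiftFunctorZero T ℤ).inv.app Y' := hf
    change (f ≫ (shiftFunctorZero T ℤ).hom.app Y) ≫ g = f'
    have e : (shiftFunctorZero T ℤ).hom.app Y ≫ g = g⟦(0 : ℤ)⟧' ≫ (shiftFunctorZero T ℤ).hom.app Y' :=
      ((shiftFunctorZero T ℤ).hom.naturality g).symm
    rw [Category.assoc, e, ← Category.assoc, hf', Category.assoc, Iso.inv_hom_id_app]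
    exact Category.comp_id f'

open Groth.Agent.Helper24.RlimSeq in
theorem rlim_unique₀ {K : ℕ → T} {t : ∀ n, K (n + 1) ⟶ K n} [HasProduct K] {L : T}
    {a : ∀ n, L ⟶ K n} (hL : CohCx.IsRlimVia K t L a) (X : T)
    (h : CohCx.LimOneIsZero (fun n => X ⟶ (K n)⟦(0 : ℤ) - 1⟧)
      (fun n => Preadditive.rightComp _ ((t n)⟦(0 : ℤ) - 1⟧')))
    (y : X ⟶ L) (hy : ∀ n, y ≫ a n = 0) : y = 0 := by
  have h0 := rlim_unique hL X 0 h (y ≫ (shiftFunctorZero T ℤ).inv.app L) (fun n => by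
    rw [Category.assoc]
    have : (shiftFunctorZero T ℤ).inv.app L ≫ (a n)⟦(0 : ℤ)⟧' =
        a n ≫ (shiftFunctorZero T ℤ).inv.app (K n) :=
      ((shiftFunctorZero T ℤ).inv.naturality (a n)).symm
    rw [this, ← Category.assoc, hy, zero_comp])
  have := congrArg (fun m => m ≫ (shiftFunctorZero T ℤ).hom.app L) h0
  simpa using this

end Unshift

section Main

variable {A : Type (u + 1)} [Category.{u} A] [Abelian A] [HasDerivedCategory.{w} A]
  [HasExt.{w'} A]

variable (E : DerivedCategory A) [HasProduct (CohCx.truncTower E)]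
  (hR : CohCx.IsRlimVia (CohCx.truncTower E) (CohCx.truncTowerMap E) E (CohCx.toTruncTower E))
  (Z : A)
  (hv : ∀ (a : ℤ) (k : ℕ), 1 ≤ k →
    Subsingleton (Abelian.Ext.{w'} Z ((homologyFunctor A a).obj E) k))

include hv in
lemma bijective_tower_step (n : ℕ) :
    Function.Bijective (fun f : (singleFunctor A 0).obj Z ⟶ CohCx.truncTower E (n + 1) =>
      f ≫ CohCx.truncTowerMap E n) := by
  apply bij_unshift
  exact bijective_postcomp_tower E (-((n + 1 : ℕ) : ℤ)) (-(n : ℤ)) (by push_cast; omega) Z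
    (n + 1) 0 (by push_cast; omega) (hv _ _ (by omega)) (hv _ _ (by omega))

lemma toTruncTower_comp (n : ℕ) :
    CohCx.toTruncTower E (n + 1) ≫ CohCx.truncTowerMap E n = CohCx.toTruncTower E n :=
  t.π_natTransTruncGEOfLE_app _ _ _ E

include hR hv in
theorem bijective_postcomp_toTruncTower_zero :
    Function.Bijective (fun φ : (singleFunctor A 0).obj Z ⟶ E => φ ≫ CohCx.toTruncTower E 0) := by
  have hb := bijective_tower_step E Z hv
  constructor
  · intro y₁ y₂ h12
    have h12' : y₁ ≫ CohCx.toTruncTower E 0 = y₂ ≫ CohCx.toTruncTower E 0 := h12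
    have hz : ∀ n, (y₁ - y₂) ≫ CohCx.toTruncTower E n = 0 := by
      intro n
      induction n with
      | zero => rw [Preadditive.sub_comp, h12', sub_self]
      | succ n ih =>
        apply (hb n).1
        change ((y₁ - y₂) ≫ CohCx.toTruncTower E (n + 1)) ≫ CohCx.truncTowerMap E n =
          0 ≫ CohCx.truncTowerMap E n
        rw [Category.assoc, toTruncTower_comp, ih, zero_comp]
    have hlim := (tower_conditions E Z (fun _ => 0) (fun m' k hk => hv _ k (by omega)) 0 1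
      (by omega) (by omega) (by omega) (by omega)).1
    have := rlim_unique₀ hR ((singleFunctor A 0).obj Z) hlim (y₁ - y₂) hz
    exact sub_eq_zero.1 this
  · intro f₀
    let x : ∀ n : ℕ, (singleFunctor A 0).obj Z ⟶ CohCx.truncTower E n := fun n =>
      Nat.rec f₀ (fun n xn => ((hb n).2 xn).choose) n
    have hx : ∀ n, x (n + 1) ≫ CohCx.truncTowerMap E n = x n := fun n =>
      ((hb n).2 (x n)).choose_spec
    obtain ⟨y, hy⟩ := rlim_lift₀ hR ((singleFunctor A 0).obj Z) x hx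
    exact ⟨y, hy 0⟩

include hR hv in
/-- the comparison `Hom(Z[0], E) → Hom(Z, H⁰ E)` is bijective -/
theorem κ_bijective : Function.Bijective (κ Z E) := by
  have h1 := bijective_postcomp_toTruncTower_zero E hR Z hv
  haveI : (CohCx.truncTower E 0).IsGE 0 :=
    inferInstanceAs (t.IsGE ((t.truncGE (-((0 : ℕ) : ℤ))).obj E) (-((0 : ℕ) : ℤ)))
  have h2 := κ_bijective_of_isGE Z (CohCx.truncTower E 0)
  have hiso : IsIso ((homologyFunctor A 0).map (CohCx.toTruncTower E 0)) :=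
    isIso_homologyMap_truncGEπ E (-((0 : ℕ) : ℤ)) 0 (by simp)
  have key : ∀ φ : Q.obj (sg Z) ⟶ E, κ Z (CohCx.truncTower E 0) (φ ≫ CohCx.toTruncTower E 0) =
      κ Z E φ ≫ (homologyFunctor A 0).map (CohCx.toTruncTower E 0) := fun φ => κ_postcomp φ _
  constructor
  · intro φ ψ h
    apply h1.1
    apply h2.1
    change κ Z _ (φ ≫ CohCx.toTruncTower E 0) = κ Z _ (ψ ≫ CohCx.toTruncTower E 0)
    rw [key, key, h]
  · intro s
    obtain ⟨ψ, hψ⟩ := h2.2 (s ≫ (homologyFunctor A 0).map (CohCx.toTruncTower E 0))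
    obtain ⟨φ, hφ⟩ := h1.2 ψ
    refine ⟨φ, ?_⟩
    have hφ' : φ ≫ CohCx.toTruncTower E 0 = ψ := hφ
    have e1 := key φ
    have e2 : κ Z (CohCx.truncTower E 0) (φ ≫ CohCx.toTruncTower E 0) =
        κ Z (CohCx.truncTower E 0) ψ := congrArg (κ Z (CohCx.truncTower E 0)) hφ'
    have e3 : κ Z E φ ≫ (homologyFunctor A 0).map (CohCx.toTruncTower E 0) =
        s ≫ (homologyFunctor A 0).map (CohCx.toTruncTower E 0) := e1.symm.trans (e2.trans hψ)
    exact (cancel_mono _).1 e3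

end Main

end Groth.Agent.Helper29.QcA
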