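import Mathlib
import Groth.Prelude.Def_DCoh2
import Groth.Agent.Lib.Helper29.QcA
import Groth.Agent.Lib.Helper24.RlimTruncMod
import Groth.Agent.Lib.Helper24.EpsMod
import Groth.Agent.Lib.Helper13.AffineVanish
import Groth.Agent.Lib.Helper13.QCohKer
import Groth.Agent.Lib.Helper29.KProdB

/-!
# Quasi-coherent complexes on an affine scheme: the test object `Z = O_X` (free module on `⊤`)
-/

set_option autoImplicit false
universe u
open CategoryTheory CategoryTheory.Limits AlgebraicGeometry Opposite TopologicalSpace DerivedCategory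

attribute [local instance] HasDerivedCategory.standard

namespace Groth.Agent.Helper29.QcB

open Groth.Agent.Helper24.HDSheaf Groth.Agent.Helper24.HDMod Groth.Agent.Helper24.FrMod
  Groth.Agent.Helper24.RlimTrunc Groth.Agent.Helper24.ModGroth

section Generic

variable {C : Type u} [SmallCategory C] {J : GrothendieckTopology C}
variable (O : Sheaf J CommRingCat.{u})

/-- maps out of `ZM O U` are determined by sections over `U` -/
theorem postcomp_bijective_iff (U : C) {M N : ModSite.Mod O} (f : M ⟶ N) :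
    Function.Bijective (fun w : ZM O U ⟶ M => w ≫ f) ↔
      Function.Bijective (((toAbF O).map f).hom.app (op U)).hom := by
  have h1 : ∀ w : ZM O U ⟶ M, evalM O U N (w ≫ f) =
      (((toAbF O).map f).hom.app (op U)).hom (evalM O U M w) :=
    fun w => evalM_comp O U w f
  constructor
  · intro h
    constructor
    · intro s s' hs
      have := h.1 (a₁ := ofSectM O U M s) (a₂ := ofSectM O U M s') (by
        apply evalM_injective
        change evalM O U N (_ ≫ f) = evalM O U N (_ ≫ f)
        rw [h1, h1, evalM_ofSectM, evalM_ofSectM, hs])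
      have h2 := congrArg (evalM O U M) this
      rwa [evalM_ofSectM, evalM_ofSectM] at h2
    · intro s
      obtain ⟨w, hw⟩ := h.2 (ofSectM O U N s)
      refine ⟨evalM O U M w, ?_⟩
      have hw' : w ≫ f = ofSectM O U N s := hw
      rw [← h1, hw', evalM_ofSectM]
  · intro h
    constructor
    · intro w w' hww'
      have hww'' : w ≫ f = w' ≫ f := hww'
      apply evalM_injective
      apply h.1
      rw [← h1, ← h1, hww'']
    · intro b
      obtain ⟨s, hs⟩ := h.2 (evalM O U N b)
      refine ⟨ofSectM O U M s, ?_⟩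
      apply evalM_injective
      change evalM O U N (_ ≫ f) = _
      rw [h1, evalM_ofSectM, hs]

end Generic

section Scheme

variable (X : Scheme.{u})

theorem affine_cover (U : X.Opens) :
    ∃ (ι : Type u) (Y : ι → X.Opens) (f : ∀ i, Y i ⟶ U),
      Sieve.ofArrows Y f ∈ (Opens.grothendieckTopology X) U ∧
        ∀ i, Y i ∈ {V : X.Opens | IsAffineOpen V} := by
  refine ⟨{V : X.Opens // IsAffineOpen V ∧ V ≤ U}, fun V => V.1, fun V => homOfLE V.2.2, ?_,
    fun V => V.2.1⟩
  intro x hx
  obtain ⟨_, ⟨V, hV, rfl⟩, hxV, hVU⟩ := X.isBasis_affineOpens.exists_subset_of_mem_open hx U.2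
  exact ⟨V, homOfLE hVU, Sieve.ofArrows_mk (fun W : {V : X.Opens // IsAffineOpen V ∧ V ≤ U} => W.1)
    (fun W => homOfLE W.2.2) ⟨V, hV, hVU⟩, hxV⟩

instance hasProduct_truncTower (E : DerivedCategory (ModSite.Mod X.sheaf)) :
    HasProduct (CohCx.truncTower E) := by
  haveI : HasProducts.{u} (DerivedCategory (ModSite.Mod X.sheaf)) := KProdB.hasProducts
  haveI : HasProducts.{0} (DerivedCategory (ModSite.Mod X.sheaf)) :=
    has_smallest_products_of_hasProducts
  infer_instance

/-- a complex with quasi-coherent cohomology is the derived limit of its truncations -/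
theorem isRlimVia (E : DerivedCategory (ModSite.Mod X.sheaf)) (hE : DCoh.IsQCohD (X := X) E) :
    CohCx.IsRlimVia (CohCx.truncTower E) (CohCx.truncTowerMap E) E (CohCx.toTruncTower E) := by
  refine isRlimVia_truncTower_mod (O := X.sheaf) E ?_
  intro U
  obtain ⟨ι, Y, f, hcov, hY⟩ := affine_cover X U
  refine ⟨ι, Y, f, hcov, fun i => ⟨fun _ => 0, fun T hT => ?_⟩⟩
  obtain ⟨ι', Y', f', hf', hcov', hB'⟩ := exists_cover_in
    (J := Opens.grothendieckTopology X) {V : X.Opens | IsAffineOpen V} (affine_cover X) (Y i) T hT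
  refine ⟨ι', Y', f', hf', hcov', fun i' m k hk => ?_⟩
  obtain ⟨k', rfl⟩ : ∃ k', k = k' + 1 := ⟨k - 1, by
    have : (0 : ℤ) < k := hk
    omega⟩
  haveI : Coh.IsQCoh (DCoh.HD (X := X) E (m - ((k' + 1 : ℕ) : ℤ))) :=
    hE (m - ((k' + 1 : ℕ) : ℤ))
  exact Groth.Agent.Helper13.AffineVanish.HU_subsingleton_of_isAffineOpen
    (DCoh.HD (X := X) E (m - ((k' + 1 : ℕ) : ℤ))) (Y' i') (hB' i') k'

/-- Serre vanishing -/
theorem ext_vanish [IsAffine X] (M : X.Modules) [M.IsQuasicoherent] (k : ℕ) (hk : 1 ≤ k) :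
    Subsingleton (Abelian.Ext (ZM X.sheaf (⊤ : X.Opens)) (M : ModSite.Mod X.sheaf) k) := by
  obtain ⟨p, rfl⟩ : ∃ p, k = p + 1 := ⟨k - 1, by omega⟩
  apply subsingleton_ext_ZM X.sheaf (⊤ : X.Opens) M (p + 1)
  exact Groth.Agent.Helper13.AffineVanish.HU_subsingleton_of_isAffineOpen M ⊤ (isAffineOpen_top X) p

/-- `κ` is bijective on complexes with quasi-coherent cohomology over an affine scheme -/
theorem κ_bijective [IsAffine X] (E : DerivedCategory (ModSite.Mod X.sheaf))
    (hE : DCoh.IsQCohD (X := X) E) :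
    Function.Bijective (κ (ZM X.sheaf (⊤ : X.Opens)) E) := by
  refine QcA.κ_bijective E (isRlimVia X E hE) (ZM X.sheaf (⊤ : X.Opens)) (fun a k hk => ?_)
  haveI : (DCoh.HD (X := X) E a).IsQuasicoherent := hE a
  exact ext_vanish X (DCoh.HD (X := X) E a) k hk

/-- lifting along epimorphisms with quasi-coherent kernel -/
theorem exists_lift [IsAffine X] {M N : ModSite.Mod X.sheaf} (p : M ⟶ N) [Epi p]
    (hq : SheafOfModules.IsQuasicoherent (R := X.ringCatSheaf) (kernel p))
    (b : ZM X.sheaf (⊤ : X.Opens) ⟶ N) : ∃ a : ZM X.sheaf (⊤ : X.Opens) ⟶ M, a ≫ p = b := by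
  exact Groth.Agent.Helper24.EpsMod.exists_lift_of_ext_one (O := X.sheaf) p (⊤ : X.Opens)
    (@ext_vanish X _ (kernel p) hq 1 le_rfl) b

end Scheme

end Groth.Agent.Helper29.QcB
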