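import Mathlib
import Groth.Agent.Lib.Helper29.DAdjA
import Groth.Agent.Lib.Helper29.KProdB
import Groth.Agent.Lib.Helper24.HDSheaf

/-!
# The counit `F G I ⟶ I` on K-injective complexes with good cohomology, via a test object

`F ⊣ G`, `Z` a test object of `B`, `P` a property of objects of `B`.  Under hypotheses modelled on
the situation `F = ~`, `G = Γ`, `Z = O_X`, `P` = quasi-coherent on an affine scheme, the counit
`F G I ⟶ I` is a quasi-isomorphism for every K-injective `I` with cohomology in `P`.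
-/

set_option autoImplicit false

universe w' w v u v' u'

open CategoryTheory CategoryTheory.Limits DerivedCategory HomologicalComplex

namespace Groth.Agent.Helper29.QcC

open DAdjA Groth.Agent.Helper24.HDSheaf

variable {A : Type u} [Category.{v} A] [Abelian A] {B : Type u'} [Category.{v'} B] [Abelian B]
  {F : A ⥤ B} {G : B ⥤ A} (adj : F ⊣ G) [F.Additive] [G.Additive]
  [HasDerivedCategory.{w'} B]
  (Z : B) (P : ObjectProperty B) [P.IsClosedUnderIsomorphisms]
  (hR : ∀ M : B, Function.Bijective (fun w : Z ⟶ F.obj (G.obj M) => w ≫ adj.counit.app M))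
  (hQ : ∀ {M N : B} (f : M ⟶ N), P M → P N →
    Function.Bijective (fun w : Z ⟶ M => w ≫ f) → IsIso f)
  (hlift : ∀ {M N : B} (p : M ⟶ N), Epi p → P (kernel p) → ∀ b : Z ⟶ N, ∃ a : Z ⟶ M, a ≫ p = b)
  (hκ : ∀ I : CochainComplex B ℤ, (∀ n, P (I.homology n)) →
    Function.Bijective (κ Z (Q.obj I)))
  (hPker : ∀ {M N : B} (f : M ⟶ N), P M → P N → P (kernel f))
  (hPF : ∀ M : A, P (F.obj M))

/-- the complex `F G I` -/
abbrev Φ (I : CochainComplex B ℤ) : CochainComplex B ℤ :=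
  (F.mapHomologicalComplex (ComplexShape.up ℤ)).obj
    ((G.mapHomologicalComplex (ComplexShape.up ℤ)).obj I)

omit [HasDerivedCategory.{w'} B] in
lemma κ_zero' [HasDerivedCategory.{w'} B] (M : DerivedCategory B) : κ Z M 0 = 0 := by
  unfold κ
  rw [Functor.map_zero, comp_zero, comp_zero]

include hR in
omit [HasDerivedCategory.{w'} B] in
lemma cancel_c (I : CochainComplex B ℤ) (n : ℤ)
    (w w' : Z ⟶ (Φ (F := F) (G := G) I).X n)
    (h : w ≫ (counitCx adj (ComplexShape.up ℤ) I).f n =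
      w' ≫ (counitCx adj (ComplexShape.up ℤ) I).f n) : w = w' :=
  (hR (I.X n)).1 h

include hR in
omit [HasDerivedCategory.{w'} B] in
lemma exists_c (I : CochainComplex B ℤ) (n : ℤ) (z : Z ⟶ I.X n) :
    ∃ w : Z ⟶ (Φ (F := F) (G := G) I).X n,
      w ≫ (counitCx adj (ComplexShape.up ℤ) I).f n = z :=
  (hR (I.X n)).2 z

omit [HasDerivedCategory.{w'} B] in
/-- the class of a cycle of `F G I` maps to the class of its image -/
lemma class_comp (I : CochainComplex B ℤ)
    (w : Z ⟶ (Φ (F := F) (G := G) I).X 0) (hw : w ≫ (Φ (F := F) (G := G) I).d 0 1 = 0)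
    (z : Z ⟶ I.X 0) (hz : z ≫ I.d 0 1 = 0)
    (hwz : w ≫ (counitCx adj (ComplexShape.up ℤ) I).f 0 = z) :
    ((Φ (F := F) (G := G) I).liftCycles w 1 (by simp) hw ≫
        (Φ (F := F) (G := G) I).homologyπ 0) ≫
      homologyMap (counitCx adj (ComplexShape.up ℤ) I) 0 =
      I.liftCycles z 1 (by simp) hz ≫ I.homologyπ 0 := by
  rw [Category.assoc, homologyπ_naturality, ← Category.assoc]
  congr 1
  rw [← cancel_mono (I.iCycles 0), Category.assoc, cyclesMap_i, liftCycles_i, liftCycles_i_assoc,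
    hwz]

include hR hκ in
lemma surjective_aux (I : CochainComplex B ℤ) [I.IsKInjective] (hI : ∀ n, P (I.homology n))
    (s : Z ⟶ I.homology 0) :
    ∃ s' : Z ⟶ (Φ (F := F) (G := G) I).homology 0,
      s' ≫ homologyMap (counitCx adj (ComplexShape.up ℤ) I) 0 = s := by
  obtain ⟨φ, hφ⟩ := (hκ I hI).2 (s ≫ hFFinv I)
  obtain ⟨g, rfl⟩ := KProdB.Q_map_surjective (sg Z) I φ
  obtain ⟨z, hz, rfl⟩ := eq_ζ g
  rw [κ_ζ, ← Category.assoc, cancel_mono] at hφ
  obtain ⟨w, hw⟩ := exists_c adj Z hR I 0 z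
  have hw0 : w ≫ (Φ (F := F) (G := G) I).d 0 1 = 0 := by
    apply cancel_c adj Z hR I 1
    rw [Category.assoc, ← (counitCx adj (ComplexShape.up ℤ) I).comm 0 1, ← Category.assoc, hw, hz,
      zero_comp]
  exact ⟨_, (class_comp adj Z I w hw0 z hz hw).trans hφ⟩

include hR hκ hlift hPker hPF in
lemma injective_aux (I : CochainComplex B ℤ) [I.IsKInjective] (hI : ∀ n, P (I.homology n))
    (hΦ : P ((Φ (F := F) (G := G) I).homology 0))
    (s' : Z ⟶ (Φ (F := F) (G := G) I).homology 0)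
    (hs' : s' ≫ homologyMap (counitCx adj (ComplexShape.up ℤ) I) 0 = 0) : s' = 0 := by
  have hcyc : P ((Φ (F := F) (G := G) I).cycles 0) := by
    have hk : P (kernel ((Φ (F := F) (G := G) I).d 0 1)) := hPker _ (hPF _) (hPF _)
    have hl := (Φ (F := F) (G := G) I).cyclesIsKernel 0 1 (by simp)
    exact P.prop_of_iso (IsLimit.conePointUniqueUpToIso (kernelIsKernel _) hl) hk
  have hker : P (kernel ((Φ (F := F) (G := G) I).homologyπ 0)) := hPker _ hcyc hΦ
  obtain ⟨z', hz'⟩ := hlift ((Φ (F := F) (G := G) I).homologyπ 0) inferInstance hker s'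
  set w : Z ⟶ (Φ (F := F) (G := G) I).X 0 := z' ≫ (Φ (F := F) (G := G) I).iCycles 0 with hwdef
  have hw0 : w ≫ (Φ (F := F) (G := G) I).d 0 1 = 0 := by
    rw [hwdef, Category.assoc, iCycles_d, comp_zero]
  have hz'w : z' = (Φ (F := F) (G := G) I).liftCycles w 1 (by simp) hw0 := by
    rw [← cancel_mono ((Φ (F := F) (G := G) I).iCycles 0), liftCycles_i]
  set z : Z ⟶ I.X 0 := w ≫ (counitCx adj (ComplexShape.up ℤ) I).f 0 with hzdef
  have hz : z ≫ I.d 0 1 = 0 := by
    rw [hzdef, Category.assoc, (counitCx adj (ComplexShape.up ℤ) I).comm 0 1, ← Category.assoc,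
      hw0, zero_comp]
  have hcl : I.liftCycles z 1 (by simp) hz ≫ I.homologyπ 0 = 0 := by
    rw [← class_comp adj Z I w hw0 z hz rfl, ← hz'w, hz', hs']
  have hκ0 : κ Z (Q.obj I) (Q.map (ζ z hz)) = κ Z (Q.obj I) (Q.map 0) := by
    rw [κ_ζ, ← Category.assoc, hcl, zero_comp, Functor.map_zero, κ_zero']
  obtain ⟨ho⟩ := KProdB.homotopy_of_Q_map_eq (ζ z hz) 0 ((hκ I hI).1 hκ0)
  have hcomm := ho.comm 0
  rw [ζ_f, HomologicalComplex.zero_f, add_zero] at hcomm
  have hd : dNext 0 ho.hom = 0 := by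
    rw [dNext_eq ho.hom (show (ComplexShape.up ℤ).Rel 0 1 by simp)]
    have : (sg Z).d 0 1 = 0 := by
      apply (HomologicalComplex.isZero_single_obj_X (ComplexShape.up ℤ) 0 Z 1 (by simp)).eq_of_tgt
    rw [this, zero_comp]
  rw [hd, zero_add, prevD_eq ho.hom (show (ComplexShape.up ℤ).Rel (-1) 0 by simp)] at hcomm
  set y : Z ⟶ I.X (-1) :=
    (HomologicalComplex.singleObjXSelf (ComplexShape.up ℤ) 0 Z).inv ≫ ho.hom 0 (-1) with hydef
  have hzy : z = y ≫ I.d (-1) 0 := by
    rw [hydef, Category.assoc, ← hcomm, Iso.inv_hom_id_assoc]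
  obtain ⟨y', hy'⟩ := exists_c adj Z hR I (-1) y
  have hy'w : y' ≫ (Φ (F := F) (G := G) I).d (-1) 0 = w := by
    apply cancel_c adj Z hR I 0
    rw [Category.assoc, ← (counitCx adj (ComplexShape.up ℤ) I).comm (-1) 0, ← Category.assoc, hy',
      ← hzy]
  have hz'y : z' = y' ≫ (Φ (F := F) (G := G) I).toCycles (-1) 0 := by
    rw [← cancel_mono ((Φ (F := F) (G := G) I).iCycles 0), Category.assoc, toCycles_i, hy'w]
  rw [← hz', hz'y, Category.assoc, toCycles_comp_homologyπ, comp_zero]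

include hR hQ hκ hlift hPker hPF in
/-- the counit is a quasi-isomorphism in degree `0` -/
theorem quasiIsoAt_zero (I : CochainComplex B ℤ) [I.IsKInjective] (hI : ∀ n, P (I.homology n))
    (hΦ : P ((Φ (F := F) (G := G) I).homology 0)) :
    QuasiIsoAt (counitCx adj (ComplexShape.up ℤ) I) 0 := by
  rw [quasiIsoAt_iff_isIso_homologyMap]
  refine hQ _ hΦ (hI 0) ⟨?_, ?_⟩
  · intro s₁ s₂ h
    have h' : s₁ ≫ homologyMap (counitCx adj (ComplexShape.up ℤ) I) 0 =
      s₂ ≫ homologyMap (counitCx adj (ComplexShape.up ℤ) I) 0 := h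
    have := injective_aux adj Z P hR hlift hκ hPker hPF I hI hΦ (s₁ - s₂) (by
      rw [Preadditive.sub_comp, h', sub_self])
    exact sub_eq_zero.1 this
  · intro s
    exact surjective_aux adj Z P hR hκ I hI s

/-- `F G` commutes with shifts of complexes -/
noncomputable def ΦShiftIso (I : CochainComplex B ℤ) (n : ℤ) :
    Φ (F := F) (G := G) (I⟦n⟧) ≅ (Φ (F := F) (G := G) I)⟦n⟧ :=
  (F.mapHomologicalComplex (ComplexShape.up ℤ)).mapIso ((G.mapCochainComplexShiftIso n).app I) ≪≫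
    (F.mapCochainComplexShiftIso n).app _

omit [HasDerivedCategory.{w'} B] in
lemma ΦShiftIso_hom_comp (I : CochainComplex B ℤ) (n : ℤ) :
    (ΦShiftIso (F := F) (G := G) I n).hom ≫ (counitCx adj (ComplexShape.up ℤ) I)⟦n⟧' =
      counitCx adj (ComplexShape.up ℤ) (I⟦n⟧) := by
  ext m
  simp [ΦShiftIso]
  erw [F.map_id, Category.id_comp, Category.id_comp]

include hR hQ hκ hlift hPker hPF in
/-- the counit is a quasi-isomorphism -/
theorem quasiIso (hP : ∀ (M : CochainComplex A ℤ) (n : ℤ),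
      P (((F.mapHomologicalComplex (ComplexShape.up ℤ)).obj M).homology n))
    (I : CochainComplex B ℤ) [I.IsKInjective] (hI : ∀ n, P (I.homology n)) :
    QuasiIso (counitCx adj (ComplexShape.up ℤ) I) := by
  rw [quasiIso_iff]
  intro n
  have hI' : ∀ m, P ((I⟦n⟧).homology m) := fun m =>
    P.prop_of_iso (((HomologicalComplex.homologyFunctor B (ComplexShape.up ℤ) 0).shiftIso n m
      (n + m) rfl).app I).symm (hI (n + m))
  have h0 := quasiIsoAt_zero adj Z P hR hQ hlift hκ hPker hPF (I⟦n⟧) hI' (hP _ 0)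
  rw [← ΦShiftIso_hom_comp adj I n] at h0
  have h1 : QuasiIsoAt ((counitCx adj (ComplexShape.up ℤ) I)⟦n⟧') 0 :=
    (quasiIsoAt_iff_comp_left _ _ _).1 h0
  exact (CochainComplex.quasiIsoAt_shift_iff _ n 0 n (add_zero n)).1 h1

end Groth.Agent.Helper29.QcC
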