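import Mathlib
import Groth.Prelude.Def_DCoh2
import Groth.Agent.Lib.Helper29.QcB
import Groth.Agent.Lib.Helper29.QcC
import Groth.Agent.Lib.Helper29.TorsF
import Groth.Agent.Lib.Helper13.QCohKer

/-!
# `D(R) ⥤ D(O_{Spec R})` is fully faithful with essential image `D_QCoh`
-/

set_option autoImplicit false
universe u
open CategoryTheory CategoryTheory.Limits AlgebraicGeometry Opposite TopologicalSpace DerivedCategory

attribute [local instance] HasDerivedCategory.standard

namespace Groth.Agent.Helper29.QcD

open Groth.Agent.Helper24.HDSheaf Groth.Agent.Helper24.HDMod Groth.Agent.Helper24.FrMod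
  Groth.Agent.Helper24.RlimTrunc Groth.Agent.Helper24.ModGroth

variable (R : CommRingCat.{u})

/-- the affine scheme -/
noncomputable abbrev X : Scheme.{u} := Spec (CommRingCat.of R)

/-- the test object `O_X` -/
noncomputable abbrev Z : (X R).Modules := ZM (X R).sheaf (⊤ : (X R).Opens)

/-- the global sections functor -/
noncomputable abbrev G : (X R).Modules ⥤ ModuleCat.{u} R := moduleSpecΓFunctor

/-- the tilde functor -/
noncomputable abbrev F : ModuleCat.{u} R ⥤ (X R).Modules := tilde.functor R

/-- the adjunction -/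
noncomputable abbrev adj : F R ⊣ G R := tilde.adjunction

instance : (G R).Additive := (adj R).right_adjoint_additive

lemma bijective_iff {M N : (X R).Modules} (f : M ⟶ N) :
    Function.Bijective (fun w : Z R ⟶ M => w ≫ f) ↔ IsIso ((G R).map f) := by
  have h1 := QcB.postcomp_bijective_iff (X R).sheaf (⊤ : (X R).Opens)
    (M := (M : ModSite.Mod (X R).sheaf)) (N := (N : ModSite.Mod (X R).sheaf)) f
  have h2 : Function.Bijective (((toAbF (X R).sheaf).map f).hom.app (op (⊤ : (X R).Opens))).hom ↔
      Function.Bijective ((G R).map f).hom := Iff.rfl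
  rw [ConcreteCategory.isIso_iff_bijective]
  exact h1.trans h2

/-- the property of being quasi-coherent -/
abbrev P : ObjectProperty (X R).Modules := SheafOfModules.isQuasicoherent (X R).ringCatSheaf

instance : (P R).IsClosedUnderIsomorphisms :=
  inferInstanceAs
    ((SheafOfModules.isQuasicoherent (X R).ringCatSheaf).IsClosedUnderIsomorphisms)

lemma hR (M : (X R).Modules) :
    Function.Bijective (fun w : Z R ⟶ (F R).obj ((G R).obj M) => w ≫ (adj R).counit.app M) := by
  rw [bijective_iff]
  have h := (adj R).right_triangle_components M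
  haveI : IsIso ((adj R).unit.app ((G R).obj M)) := inferInstance
  exact IsIso.of_isIso_fac_left h

lemma hQ {M N : (X R).Modules} (f : M ⟶ N) (hM : P R M) (hN : P R N)
    (h : Function.Bijective (fun w : Z R ⟶ M => w ≫ f)) : IsIso f := by
  rw [bijective_iff] at h
  haveI := h
  haveI : M.IsQuasicoherent := hM
  haveI : N.IsQuasicoherent := hN
  haveI : IsIso ((adj R).counit.app M) := Scheme.Modules.isIso_fromTildeΓ_of_isQuasicoherent M
  haveI : IsIso ((adj R).counit.app N) := Scheme.Modules.isIso_fromTildeΓ_of_isQuasicoherent N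
  have hn := (adj R).counit_naturality f
  have : f = inv ((adj R).counit.app M) ≫ (F R).map ((G R).map f) ≫ (adj R).counit.app N := by
    rw [hn, IsIso.inv_hom_id_assoc]
  rw [this]
  infer_instance

lemma hlift {M N : (X R).Modules} (p : M ⟶ N) (hp : Epi p) (hk : P R (kernel p)) (b : Z R ⟶ N) :
    ∃ a : Z R ⟶ M, a ≫ p = b := by
  exact @QcB.exists_lift (X R) _ M N p hp hk b

lemma hκ (I : CochainComplex (X R).Modules ℤ) (hI : ∀ n, P R (I.homology n)) :
    Function.Bijective (κ (Z R) (Q.obj I)) := by
  refine QcB.κ_bijective (X R) (Q.obj I) (fun i => ?_)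
  exact (P R).prop_of_iso ((DerivedCategory.homologyFunctorFactors (X R).Modules i).app I).symm (hI i)

lemma hPker {M N : (X R).Modules} (f : M ⟶ N) (hM : P R M) (hN : P R N) : P R (kernel f) := by
  haveI : M.IsQuasicoherent := hM
  haveI : N.IsQuasicoherent := hN
  exact Groth.Agent.Helper13.QCohLocal.isQuasicoherent_kernel f

lemma hPF (M : ModuleCat.{u} R) : P R ((F R).obj M) :=
  (inferInstance : ((tilde.functor R).obj M).IsQuasicoherent)

section Main

variable [PreservesFiniteLimits (tilde.functor R)]

instance : IsGrothendieckAbelian.{u} (X R).Modules :=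
  inferInstanceAs (IsGrothendieckAbelian.{u} (SheafOfModules.{u} (X R).ringCatSheaf))

instance : PreservesFiniteLimits (F R) := ‹_›

instance : PreservesFiniteColimits (F R) := by
  haveI := (adj R).leftAdjoint_preservesColimits
  infer_instance

lemma hP (M : CochainComplex (ModuleCat.{u} R) ℤ) (n : ℤ) :
    P R ((((F R).mapHomologicalComplex (ComplexShape.up ℤ)).obj M).homology n) := by
  have e : (((F R).mapHomologicalComplex (ComplexShape.up ℤ)).obj M).homology n ≅
      (F R).obj (M.homology n) := (M.sc n).mapHomologyIso (F R)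
  exact (P R).prop_of_iso e.symm (hPF R _)

lemma hK (I : CochainComplex (X R).Modules ℤ) (hIK : I.IsKInjective)
    (_ : ∀ n, Injective (I.X n)) (hI : ∀ n, P R (I.homology n)) :
    QuasiIso (DAdjA.counitCx (adj R) (ComplexShape.up ℤ) I) := by
  haveI := hIK
  exact QcC.quasiIso (adj R) (Z R) (P R) (hR R) (hQ R) (hlift R) (hκ R) (hPker R) (hPF R)
    (hP R) I hI

lemma hrefl {M N : CochainComplex (ModuleCat.{u} R) ℤ} (a : M ⟶ N)
    (ha : QuasiIso (((F R).mapHomologicalComplex (ComplexShape.up ℤ)).map a)) : QuasiIso a :=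
  (HomologicalComplex.quasiIso_map_iff_of_preservesHomology a (F R)).1 ha

theorem full : ((F R).mapDerivedCategory).Full :=
  TorsF.full (adj R) (P R) (hK R) (hP R) (hrefl R)

theorem faithful : ((F R).mapDerivedCategory).Faithful :=
  TorsF.faithful (adj R) (P R) (hK R) (hP R) (hrefl R)

theorem essImage_iff (K : DerivedCategory (X R).Modules) :
    (∀ i : ℤ, P R ((DerivedCategory.homologyFunctor (X R).Modules i).obj K)) ↔
      ((F R).mapDerivedCategory).essImage K :=
  TorsF.essImage_iff (adj R) (P R) (hK R) (hP R) K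

end Main

end Groth.Agent.Helper29.QcD
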