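import Mathlib
import Groth.Prelude.Def_DCoh3
import Groth.Prelude.Def_CxOX
import Groth.Agent.Lib.Helper29.QcD
import Groth.Agent.Lib.Helper24.AffHom3
import Groth.Agent.Lib.Helper14.TildeExact
import Groth.Agent.Lib.Helper9.SuppD2

/-!
# Models with quasi-coherent terms, bounded above, for objects of `D_QCoh` of an affine scheme
-/

set_option autoImplicit false
universe u
open CategoryTheory CategoryTheory.Limits AlgebraicGeometry DerivedCategory

attribute [local instance] HasDerivedCategory.standard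

namespace Groth.Agent.Helper29.PerfVanC

section General

universe w₁ w₂ v₁ v₂ u₁ u₂

variable {A : Type u₁} [Category.{v₁} A] [Abelian A] [HasDerivedCategory.{w₁} A]
  {B : Type u₂} [Category.{v₂} B] [Abelian B] [HasDerivedCategory.{w₂} B]

/-- cohomology commutes with exact functors -/
noncomputable def homologyMapDIso (G : A ⥤ B) [G.Additive]
    [PreservesFiniteLimits G] [PreservesFiniteColimits G] (E : DerivedCategory A) (i : ℤ) :
    (homologyFunctor B i).obj (G.mapDerivedCategory.obj E) ≅ G.obj ((homologyFunctor A i).obj E) := by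
  let Z₀ := Q.objPreimage E
  let e0 : Q.obj Z₀ ≅ E := Q.objObjPreimageIso E
  let K := (G.mapHomologicalComplex (ComplexShape.up ℤ)).obj Z₀
  let e1 : G.mapDerivedCategory.obj E ≅ Q.obj K :=
    G.mapDerivedCategory.mapIso e0.symm ≪≫ G.mapDerivedCategoryFactors.app Z₀
  let e2 : Z₀.homology i ≅ (homologyFunctor A i).obj E :=
    ((homologyFunctorFactors A i).app Z₀).symm ≪≫ (homologyFunctor A i).mapIso e0
  let e3 : K.homology i ≅ G.obj (Z₀.homology i) := (Z₀.sc i).mapHomologyIso G
  exact (homologyFunctor _ i).mapIso e1 ≪≫ (homologyFunctorFactors _ i).app K ≪≫ e3 ≪≫ G.mapIso e2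

end General

section Spec

variable (R : CommRingCat.{u})

open Groth.Agent.Helper29.QcD in
theorem exists_model_spec (M : DCoh.D (QcD.X R)) (hM : DCoh.IsQCohD M) (c : ℤ) [M.IsLE c] :
    ∃ F : CochainComplex (QcD.X R).Modules ℤ, (∀ i, (F.X i).IsQuasicoherent) ∧
      (∀ i, c < i → IsZero (F.X i)) ∧ Nonempty (M ≅ Q.obj F) := by
  haveI : PreservesFiniteLimits (tilde.functor R) := Groth.Agent.Helper14.tilde_preservesFiniteLimits
  obtain ⟨N, ⟨e⟩⟩ := (QcD.essImage_iff R M).1 hM
  haveI : N.IsLE c := by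
    rw [isLE_iff]
    intro i hi
    have h1 : IsZero ((QcD.F R).obj ((homologyFunctor _ i).obj N)) :=
      IsZero.of_iso (isZero_of_isLE M c i hi)
        ((homologyMapDIso (QcD.F R) N i).symm ≪≫ (homologyFunctor _ i).mapIso e)
    rw [IsZero.iff_id_eq_zero] at h1 ⊢
    apply (QcD.F R).map_injective
    rw [(QcD.F R).map_id, (QcD.F R).map_zero]
    exact h1
  obtain ⟨P, hP, ⟨eP⟩⟩ := exists_iso_Q_obj_of_isLE N c
  refine ⟨((QcD.F R).mapHomologicalComplex (ComplexShape.up ℤ)).obj P, fun i => ?_, fun i hi => ?_,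
    ⟨e.symm ≪≫ (QcD.F R).mapDerivedCategory.mapIso eP ≪≫
      (QcD.F R).mapDerivedCategoryFactors.app P⟩⟩
  · exact QcD.hPF R (P.X i)
  · exact (QcD.F R).map_isZero (CochainComplex.isZero_of_isStrictlyLE P c i hi)

end Spec

section Affine

open Groth.Agent.Helper24.AffHom

variable (Y : Scheme.{u}) [IsAffine Y]

theorem exists_model (M : DCoh.D Y) (hM : DCoh.IsQCohD M) (c : ℤ) [M.IsLE c] :
    ∃ F : CochainComplex Y.Modules ℤ, (∀ i, (F.X i).IsQuasicoherent) ∧
      (∀ i, c < i → IsZero (F.X i)) ∧ Nonempty (M ≅ Q.obj F) := by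
  let e := eX Y
  let M₁ := (pushIso e).mapDerivedCategory.obj M
  have hM₁ : DCoh.IsQCohD M₁ := by
    intro i
    haveI : (DCoh.HD M i).IsQuasicoherent := hM i
    have h1 := Groth.Agent.Helper13.QCohPush.isQuasicoherent_pushforward e.hom (DCoh.HD M i)
    exact Groth.Agent.Helper13.QCohLocal.isQuasicoherent_of_iso
      (homologyMapDIso (pushIso e) M i).symm (hM := h1)
  haveI : M₁.IsLE c := by
    rw [isLE_iff]
    intro i hi
    exact IsZero.of_iso ((pushIso e).map_isZero (isZero_of_isLE M c i hi))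
      (homologyMapDIso (pushIso e) M i)
  obtain ⟨F₁, hq, hz, ⟨e₁⟩⟩ := exists_model_spec (RX Y) M₁ hM₁ c
  refine ⟨((pushIso e.symm).mapHomologicalComplex (ComplexShape.up ℤ)).obj F₁, fun i => ?_,
    fun i hi => (pushIso e.symm).map_isZero (hz i hi), ⟨?_⟩⟩
  · haveI := hq i
    exact Groth.Agent.Helper13.QCohPush.isQuasicoherent_pushforward e.inv (F₁.X i)
  · exact ((mapDId (C₁ := Y.Modules)).app M).symm ≪≫
      (mapDComp (pushIso e) (pushIso e.symm) (𝟭 Y.Modules) (pushIsoComp e)).app M ≪≫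
      (pushIso e.symm).mapDerivedCategory.mapIso e₁ ≪≫
      (pushIso e.symm).mapDerivedCategoryFactors.app F₁

end Affine

end Groth.Agent.Helper29.PerfVanC
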