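import Mathlib
import Groth.Prelude.Def_DCoh2
import Groth.Prelude.Def_DDual2
import Groth.Agent.Lib.Helper29.QcD
import Groth.Agent.Lib.Helper5.TBC1
import Groth.Agent.Lib.Helper5.LRes2
import Groth.Agent.Lib.Helper5.LTen1
import Groth.Agent.Lib.Helper13.PullbackLocal
import Groth.Agent.Lib.Helper14.TildeExact

/-!
# The derived pullback preserves complexes with quasi-coherent cohomology
-/

set_option autoImplicit false
universe u
open CategoryTheory CategoryTheory.Limits AlgebraicGeometry Opposite TopologicalSpace DerivedCategory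

attribute [local instance] HasDerivedCategory.standard

namespace Groth.Agent.Helper29.QcE

open Groth.Agent.Helper13.QCohLocal

section Homology

variable {X : Scheme.{u}}

/-- the cohomology of a complex with quasi-coherent terms is quasi-coherent -/
theorem isQuasicoherent_homology (E : CochainComplex X.Modules ℤ)
    (h : ∀ n, (E.X n).IsQuasicoherent) (i : ℤ) : (E.homology i).IsQuasicoherent := by
  haveI := h
  haveI hk : (kernel (E.d i (i + 1))).IsQuasicoherent := isQuasicoherent_kernel _
  have hl := E.cyclesIsKernel i (i + 1) (by simp)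
  haveI hc : (E.cycles i).IsQuasicoherent :=
    isQuasicoherent_of_iso (hM := hk) (IsLimit.conePointUniqueUpToIso (kernelIsKernel _) hl)
  haveI hq : (cokernel (E.toCycles (i - 1) i)).IsQuasicoherent := isQuasicoherent_cokernel _
  have hc2 := E.homologyIsCokernel (i - 1) i (by simp)
  exact isQuasicoherent_of_iso (hM := hq)
    (IsColimit.coconePointUniqueUpToIso (cokernelIsCokernel _) hc2)

end Homology

/-- termwise pullback of complexes -/
noncomputable abbrev pullCx {X Y : Scheme.{u}} (f : Y ⟶ X) :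
    CochainComplex X.Modules ℤ ⥤ CochainComplex Y.Modules ℤ :=
  (Scheme.Modules.pullback f).mapHomologicalComplex (ComplexShape.up ℤ)

section AffineTarget

open Groth.Agent.Helper5 Groth.Agent.Helper5.LDer

variable (R : CommRingCat.{u}) {Y : Scheme.{u}} (g : Y ⟶ Spec (CommRingCat.of R))

/-- over an affine base, a K-flat complex with quasi-coherent cohomology is, in the derived
category, the tilde of a K-flat complex of modules -/
theorem exists_tilde_model (E₁ : CochainComplex (Spec (CommRingCat.of R)).Modules ℤ)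
    (hq : ∀ i, (E₁.homology i).IsQuasicoherent) :
    ∃ P : CochainComplex (ModuleCat.{u} R) ℤ, KF.KFl P ∧
      Nonempty (Q.obj (((tilde.functor R).mapHomologicalComplex (ComplexShape.up ℤ)).obj P) ≅
        Q.obj E₁) := by
  haveI : PreservesFiniteLimits (tilde.functor R) := Groth.Agent.Helper14.tilde_preservesFiniteLimits
  have hQ : ∀ i : ℤ, QcD.P R ((DerivedCategory.homologyFunctor (QcD.X R).Modules i).obj (Q.obj E₁)) :=
    fun i => (QcD.P R).prop_of_iso
      ((DerivedCategory.homologyFunctorFactors (QcD.X R).Modules i).app E₁).symm (hq i)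
  obtain ⟨M, ⟨e⟩⟩ := (QcD.essImage_iff R (Q.obj E₁)).1 hQ
  let P₀ := Q.objPreimage M
  let P := (TBC.RP (R : Type u)).obj P₀
  haveI := TBC.Rψ_quasiIso (R : Type u) P₀
  let e₁ : Q.obj P ≅ M := asIso (Q.map ((TBC.Rψ (R : Type u)).app P₀)) ≪≫ Q.objObjPreimageIso M
  exact ⟨P, TBC.RP_KFl (R : Type u) P₀,
    ⟨((tilde.functor R).mapDerivedCategoryFactors.app P).symm ≪≫
      (tilde.functor R).mapDerivedCategory.mapIso e₁ ≪≫ e⟩⟩

/-- the affine-target case -/
theorem affine_target (E₁ : CochainComplex (Spec (CommRingCat.of R)).Modules ℤ)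
    (hE₁ : DCoh.IsKFlat E₁) (hq : ∀ i, (E₁.homology i).IsQuasicoherent) (i : ℤ) :
    (((pullCx g).obj E₁).homology i).IsQuasicoherent := by
  haveI : DCoh.HasLpull g := LDer.hasLpull g
  obtain ⟨P, hP, ⟨e⟩⟩ := exists_tilde_model R E₁ hq
  let tP := ((tilde.functor R).mapHomologicalComplex (ComplexShape.up ℤ)).obj P
  have htP : DCoh.IsKFlat tP := TildeSt.tilde_isKFlat R P hP
  have e₂ : Q.obj ((pullCx g).obj tP) ≅ Q.obj ((pullCx g).obj E₁) :=
    (LpullObjIso g tP htP).symm ≪≫ (DCoh.Lpull g).mapIso e ≪≫ LpullObjIso g E₁ hE₁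
  have e₃ : ((pullCx g).obj tP).homology i ≅ ((pullCx g).obj E₁).homology i :=
    ((DerivedCategory.homologyFunctorFactors Y.Modules i).app _).symm ≪≫
      (DerivedCategory.homologyFunctor Y.Modules i).mapIso e₂ ≪≫
      (DerivedCategory.homologyFunctorFactors Y.Modules i).app _
  haveI : (((pullCx g).obj tP).homology i).IsQuasicoherent := by
    apply isQuasicoherent_homology
    intro n
    change ((Scheme.Modules.pullback g).obj ((tilde.functor R).obj (P.X n))).IsQuasicoherent
    infer_instance
  exact isQuasicoherent_of_iso e₃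

end AffineTarget

section Main

open Groth.Agent.Helper5 Groth.Agent.Helper5.LDer

variable {Y X : Scheme.{u}} (f : Y ⟶ X)

/-- restriction to an open of the homology of a complex -/
noncomputable def restrictHomologyIso {U X : Scheme.{u}} (j : U ⟶ X) [IsOpenImmersion j]
    (E : CochainComplex X.Modules ℤ) (i : ℤ) :
    ((((Scheme.Modules.restrictFunctor j).mapHomologicalComplex (ComplexShape.up ℤ)).obj E).homology i) ≅
      (Scheme.Modules.restrictFunctor j).obj (E.homology i) :=
  (E.sc i).mapHomologyIso (Scheme.Modules.restrictFunctor j)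

/-- the complex-level statement: the termwise pullback of a K-flat complex with quasi-coherent
cohomology has quasi-coherent cohomology -/
theorem isQuasicoherent_homology_pullCx (E₀ : CochainComplex X.Modules ℤ) (hE₀ : DCoh.IsKFlat E₀)
    (hq : ∀ i, (E₀.homology i).IsQuasicoherent) (i : ℤ) :
    (((pullCx f).obj E₀).homology i).IsQuasicoherent := by
  let ι := {p : Y.affineOpens × X.affineOpens // p.1.1 ≤ f ⁻¹ᵁ p.2.1}
  refine isQuasicoherent_of_affine_family _ (ι := ι) (fun i => Γ(Y, i.1.1.1))
    (fun i => i.1.1.2.fromSpec) (fun x => ?_) (fun p => ?_)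
  · obtain ⟨_, ⟨V, hV, rfl⟩, hxV, -⟩ := X.isBasis_affineOpens.exists_subset_of_mem_open
      (Set.mem_univ (f x)) isOpen_univ
    obtain ⟨_, ⟨U, hU, rfl⟩, hxU, hUV⟩ := Y.isBasis_affineOpens.exists_subset_of_mem_open
      (show x ∈ ((f ⁻¹ᵁ V : Y.Opens) : Set Y) from hxV) (f ⁻¹ᵁ V).2
    refine ⟨⟨(⟨U, hU⟩, ⟨V, hV⟩), hUV⟩, ?_⟩
    rw [IsAffineOpen.opensRange_fromSpec]
    exact hxU
  · obtain ⟨⟨⟨W, hW⟩, ⟨U, hU⟩⟩, hWU⟩ := p
    have h : hW.fromSpec ≫ f = Spec.map (f.appLE U W hWU) ≫ hU.fromSpec :=
      (IsAffineOpen.SpecMap_appLE_fromSpec f hU hW hWU).symm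
    let E₁ := ((Scheme.Modules.restrictFunctor hU.fromSpec).mapHomologicalComplex
      (ComplexShape.up ℤ)).obj E₀
    have hE₁ : DCoh.IsKFlat E₁ := isKFlat_restrict hU.fromSpec E₀ hE₀
    have hq₁ : ∀ i, (E₁.homology i).IsQuasicoherent := fun i => by
      haveI := hq i
      exact isQuasicoherent_of_iso (restrictHomologyIso hU.fromSpec E₀ i).symm
    have h1 := affine_target Γ(X, U) (Spec.map (f.appLE U W hWU)) E₁ hE₁ hq₁ i
    have e1 : ((Scheme.Modules.restrictFunctor hW.fromSpec).mapHomologicalComplex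
        (ComplexShape.up ℤ)).obj ((pullCx f).obj E₀) ≅
        (pullCx (Spec.map (f.appLE U W hWU))).obj E₁ :=
      (NatIso.mapHomologicalComplex (Groth.Agent.Helper13.Pullback.pullbackRestrictIso f
        hW.fromSpec hU.fromSpec (Spec.map (f.appLE U W hWU)) h) (ComplexShape.up ℤ)).app E₀
    have e2 : (Scheme.Modules.restrictFunctor hW.fromSpec).obj (((pullCx f).obj E₀).homology i) ≅
        ((pullCx (Spec.map (f.appLE U W hWU))).obj E₁).homology i :=
      (restrictHomologyIso hW.fromSpec _ i).symm ≪≫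
        (HomologicalComplex.homologyFunctor _ _ i).mapIso e1
    haveI : ((Scheme.Modules.restrictFunctor hW.fromSpec).obj
        (((pullCx f).obj E₀).homology i)).IsQuasicoherent := isQuasicoherent_of_iso (hM := h1) e2.symm
    exact Scheme.Modules.isIso_fromTildeΓ_of_isQuasicoherent _

/-- the derived pullback preserves complexes with quasi-coherent cohomology -/
theorem main [DCoh.HasLpull f] (K : DCoh.D X) (hK : DCoh.IsQCohD K) :
    DCoh.IsQCohD ((DCoh.Lpull f).obj K) := by
  obtain ⟨E₀, hE₀, ⟨e₀⟩⟩ := exists_kflat_repr K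
  have hq : ∀ i, (E₀.homology i).IsQuasicoherent := fun i => by
    haveI : (DCoh.HD K i).IsQuasicoherent := hK i
    exact isQuasicoherent_of_iso
      ((DerivedCategory.homologyFunctor X.Modules i).mapIso e₀.symm ≪≫
        (DerivedCategory.homologyFunctorFactors X.Modules i).app E₀)
  intro i
  have h1 := isQuasicoherent_homology_pullCx f E₀ hE₀ hq i
  have e : ((pullCx f).obj E₀).homology i ≅ DCoh.HD ((DCoh.Lpull f).obj K) i :=
    ((DerivedCategory.homologyFunctorFactors Y.Modules i).app _).symm ≪≫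
      (DerivedCategory.homologyFunctor Y.Modules i).mapIso
        ((LpullObjIso f E₀ hE₀).symm ≪≫ (DCoh.Lpull f).mapIso e₀)
  exact isQuasicoherent_of_iso (hM := h1) e

end Main

end Groth.Agent.Helper29.QcE
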