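import Mathlib
import Groth.Prelude.Def_DCoh2
import Groth.Prelude.Def_DCoh4
import Groth.Agent.Lib.Helper29.QcE
import Groth.Agent.Lib.Helper5.CXB2
import Groth.Agent.Lib.Helper5.TRS2
import Groth.Agent.Lib.Helper5.QCS1
import Groth.Agent.Lib.Helper13.TensorTilde

/-!
# The derived tensor product preserves complexes with quasi-coherent cohomology
-/

set_option autoImplicit false
universe u
open CategoryTheory CategoryTheory.Limits AlgebraicGeometry Opposite TopologicalSpace DerivedCategory

attribute [local instance] HasDerivedCategory.standard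

namespace Groth.Agent.Helper29.QcF

open Groth.Agent.Helper13.QCohLocal Groth.Agent.Helper5 Groth.Agent.Helper5.LDer

/-- the tensor product of complexes -/
noncomputable abbrev T {X : Scheme.{u}} (L K : CochainComplex X.Modules ℤ) :
    CochainComplex X.Modules ℤ := (DCoh.tensorCx.obj L).obj K

section Terms

variable {X : Scheme.{u}}

/-- the terms of the tensor product of complexes with quasi-coherent terms are quasi-coherent -/
theorem isQuasicoherent_T_X (L K : CochainComplex X.Modules ℤ)
    (h : ∀ p q : ℤ, (((DCoh.tensorBi (X := X)).obj (L.X p)).obj (K.X q)).IsQuasicoherent) (n : ℤ) :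
    ((T L K).X n).IsQuasicoherent := by
  have hc := (KFA.BiComm.gr (T := DCoh.tensorBi (X := X)) L K).isColimitCofanMapObj
      (ComplexShape.π (ComplexShape.up ℤ) (ComplexShape.up ℤ) (ComplexShape.up ℤ)) n
  let f : ULift.{u} (KFA.BiComm.Idx n) → X.Modules :=
    fun i => (KFA.BiComm.gr (T := DCoh.tensorBi (X := X)) L K) i.down.1
  have e : ∐ f ≅ (T L K).X n :=
    Sigma.whiskerEquiv (f := f)
      (g := fun i : KFA.BiComm.Idx n => (KFA.BiComm.gr (T := DCoh.tensorBi (X := X)) L K) i.1)
      Equiv.ulift (fun _ => Iso.refl _) ≪≫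
      IsColimit.coconePointUniqueUpToIso (coproductIsCoproduct _) hc
  have hf : (∐ f).IsQuasicoherent := QCS.isQuasicoherent_sigma f (fun i => h _ _)
  exact isQuasicoherent_of_iso (hM := hf) e

end Terms

section Affine

variable (R : CommRingCat.{u})

/-- the tensor product of two tildes is quasi-coherent -/
theorem isQuasicoherent_tensorBi_tilde (M N : ModuleCat.{u} R) :
    (((DCoh.tensorBi (X := Spec (CommRingCat.of R))).obj ((tilde.functor R).obj M)).obj
      ((tilde.functor R).obj N)).IsQuasicoherent := by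
  have e := Groth.Agent.Helper13.Tensor.tildeTensorIso M N
  haveI : (tilde (ModuleCat.of R (TensorProduct R M N))).IsQuasicoherent :=
    inferInstanceAs ((tilde.functor R).obj (ModuleCat.of R (TensorProduct R M N))).IsQuasicoherent
  exact isQuasicoherent_of_iso e

/-- the affine case -/
theorem affine_case (E₁ F₁ : CochainComplex (Spec (CommRingCat.of R)).Modules ℤ)
    (hE₁ : DCoh.IsKFlat E₁) (hF₁ : DCoh.IsKFlat F₁)
    (hqE : ∀ i, (E₁.homology i).IsQuasicoherent) (hqF : ∀ i, (F₁.homology i).IsQuasicoherent)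
    (i : ℤ) : ((T E₁ F₁).homology i).IsQuasicoherent := by
  obtain ⟨P, hP, ⟨e⟩⟩ := QcE.exists_tilde_model R E₁ hqE
  obtain ⟨P', hP', ⟨e'⟩⟩ := QcE.exists_tilde_model R F₁ hqF
  let tP := ((tilde.functor R).mapHomologicalComplex (ComplexShape.up ℤ)).obj P
  let tP' := ((tilde.functor R).mapHomologicalComplex (ComplexShape.up ℤ)).obj P'
  have htP : DCoh.IsKFlat tP := TildeSt.tilde_isKFlat R P hP
  have htP' : DCoh.IsKFlat tP' := TildeSt.tilde_isKFlat R P' hP'
  have e1 : Q.obj (T tP tP') ≅ Q.obj (T E₁ tP') := TRS.tensQIsoRight tP' htP' e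
  obtain ⟨e2⟩ : Nonempty (Q.obj (T E₁ tP') ≅ Q.obj (T E₁ F₁)) :=
    TRS.nonempty_tensQIsoLeft E₁ htP' hF₁ e'
  have e3 : (T tP tP').homology i ≅ (T E₁ F₁).homology i :=
    ((DerivedCategory.homologyFunctorFactors _ i).app _).symm ≪≫
      (DerivedCategory.homologyFunctor _ i).mapIso (e1 ≪≫ e2) ≪≫
      (DerivedCategory.homologyFunctorFactors _ i).app _
  have h1 : ((T tP tP').homology i).IsQuasicoherent := by
    apply QcE.isQuasicoherent_homology
    intro n
    apply isQuasicoherent_T_X
    intro p q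
    exact isQuasicoherent_tensorBi_tilde R (P.X p) (P'.X q)
  exact isQuasicoherent_of_iso (hM := h1) e3

end Affine

section Local

variable {X : Scheme.{u}}

/-- the complex-level statement -/
theorem isQuasicoherent_homology_T (E₀ F₀ : CochainComplex X.Modules ℤ)
    (hE₀ : DCoh.IsKFlat E₀) (hF₀ : DCoh.IsKFlat F₀)
    (hqE : ∀ i, (E₀.homology i).IsQuasicoherent) (hqF : ∀ i, (F₀.homology i).IsQuasicoherent)
    (i : ℤ) : ((T E₀ F₀).homology i).IsQuasicoherent := by
  apply isQuasicoherent_of_restrict_fromSpec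
  intro U
  haveI : IsOpenImmersion U.2.fromSpec := IsAffineOpen.isOpenImmersion_fromSpec U.2
  let j := U.2.fromSpec
  let r := (Scheme.Modules.restrictFunctor j).mapHomologicalComplex (ComplexShape.up ℤ)
  have hq : ∀ (G : CochainComplex X.Modules ℤ), (∀ i, (G.homology i).IsQuasicoherent) →
      ∀ i, ((r.obj G).homology i).IsQuasicoherent := fun G hG i => by
    haveI := hG i
    exact isQuasicoherent_of_iso (QcE.restrictHomologyIso j G i).symm
  have h1 := affine_case Γ(X, U.1) (r.obj E₀) (r.obj F₀) (isKFlat_restrict j E₀ hE₀)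
    (isKFlat_restrict j F₀ hF₀) (hq E₀ hqE) (hq F₀ hqF) i
  have e : (T (r.obj E₀) (r.obj F₀)).homology i ≅
      (Scheme.Modules.restrictFunctor j).obj ((T E₀ F₀).homology i) :=
    (HomologicalComplex.homologyFunctor _ _ i).mapIso (TRS.restrictTensIso j E₀ F₀) ≪≫
      QcE.restrictHomologyIso j _ i
  exact isQuasicoherent_of_iso (hM := h1) e

/-- the derived tensor product preserves complexes with quasi-coherent cohomology -/
theorem main (F : CochainComplex X.Modules ℤ) (hF : DCoh.IsQCohD (DCoh.toD X F))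
    [DCoh.HasLTensorCx F] (E : DCoh.D X) (hE : DCoh.IsQCohD E) :
    DCoh.IsQCohD ((DCoh.LTensorCx F).obj E) := by
  obtain ⟨E₀, hE₀, ⟨e₀⟩⟩ := exists_kflat_repr E
  have hqE : ∀ i, (E₀.homology i).IsQuasicoherent := fun i => by
    haveI : (DCoh.HD E i).IsQuasicoherent := hE i
    exact isQuasicoherent_of_iso
      ((DerivedCategory.homologyFunctor X.Modules i).mapIso e₀.symm ≪≫
        (DerivedCategory.homologyFunctorFactors X.Modules i).app E₀)
  let F₀ := (KP X).obj F
  have hF₀ : DCoh.IsKFlat F₀ := KP_isKFlat F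
  haveI := Kψ_quasiIso F
  let eF : Q.obj F₀ ≅ Q.obj F := asIso (Q.map ((Kψ X).app F))
  have hqF : ∀ i, (F₀.homology i).IsQuasicoherent := fun i => by
    haveI : (DCoh.HD (DCoh.toD X F) i).IsQuasicoherent := hF i
    exact isQuasicoherent_of_iso
      ((DerivedCategory.homologyFunctor X.Modules i).mapIso eF.symm ≪≫
        (DerivedCategory.homologyFunctorFactors X.Modules i).app F₀)
  intro i
  have h1 := isQuasicoherent_homology_T E₀ F₀ hE₀ hF₀ hqE hqF i
  haveI := CXB.isIso_counit_tensorCxQ F E₀ hE₀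
  let c := asIso (((DCoh.tensorCxQ F).totalLeftDerivedCounit DerivedCategory.Q
      (HomologicalComplex.quasiIso X.Modules (ComplexShape.up ℤ))).app E₀)
  have e4 : Q.obj (T E₀ F₀) ≅ Q.obj (T E₀ F) :=
    Q.mapIso (CXB.braidCx E₀ F₀) ≪≫ TRS.tensQIsoRight E₀ hE₀ eF ≪≫
      Q.mapIso (CXB.braidCx F E₀)
  have e : (T E₀ F₀).homology i ≅ DCoh.HD ((DCoh.LTensorCx F).obj E) i :=
    ((DerivedCategory.homologyFunctorFactors X.Modules i).app _).symm ≪≫
      (DerivedCategory.homologyFunctor X.Modules i).mapIso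
        (e4 ≪≫ c.symm ≪≫ (DCoh.LTensorCx F).mapIso e₀)
  exact isQuasicoherent_of_iso (hM := h1) e

end Local

end Groth.Agent.Helper29.QcF
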