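import Mathlib
import Groth.Prelude.Def_DCoh2
import Groth.Prelude.Def_DCoh4
import Groth.Agent.Lib.Helper29.QcF
import Groth.Agent.Lib.Helper29.PerfVanC
import Groth.Agent.Lib.Helper11.Coh1
import Groth.Agent.Lib.Helper11.LDCx2
import Groth.Agent.Lib.Helper11.KPF2
import Groth.Agent.Lib.Helper28.CohOpen
import Groth.Agent.Lib.Helper5.COHP5

/-!
# Module models of complexes with coherent cohomology on a Noetherian affine scheme
-/

set_option autoImplicit false
universe u
open CategoryTheory CategoryTheory.Limits AlgebraicGeometry DerivedCategory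

attribute [local instance] HasDerivedCategory.standard

namespace Groth.Agent.Helper29.TenCohA

open Groth.Agent.Helper29.PerfVanC

variable (R : CommRingCat.{u})

/-- the tilde of a complex of modules -/
noncomputable abbrev tCx (P : CochainComplex (ModuleCat.{u} R) ℤ) :
    CochainComplex (Spec (CommRingCat.of R)).Modules ℤ :=
  ((tilde.functor R).mapHomologicalComplex (ComplexShape.up ℤ)).obj P

/-- a module whose tilde is coherent is finite -/
theorem finite_of_isCoh_tilde (N : ModuleCat.{u} R) (h : Coh.IsCoh (tilde N)) :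
    Module.Finite R N := by
  haveI := h.1
  haveI := h.2
  haveI := Groth.Agent.Helper28.CohOpen.finite_gamma (R := R) (tilde N)
  exact Module.Finite.equiv (Groth.Agent.Helper13.Tensor.topEquiv N).symm

theorem exists_module_model (E₁ : CochainComplex (Spec (CommRingCat.of R)).Modules ℤ)
    (hc : ∀ i, Coh.IsCoh (E₁.homology i)) (a : ℤ) (ha : ∀ i, a < i → IsZero (E₁.homology i)) :
    ∃ M : DerivedCategory (ModuleCat.{u} R), M.IsLE a ∧
      (∀ i, Module.Finite R ((homologyFunctor (ModuleCat.{u} R) i).obj M)) ∧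
      Nonempty ((tilde.functor R).mapDerivedCategory.obj M ≅ Q.obj E₁) := by
  haveI : PreservesFiniteLimits (tilde.functor R) := Groth.Agent.Helper14.tilde_preservesFiniteLimits
  have hQ : ∀ i : ℤ, QcD.P R ((DerivedCategory.homologyFunctor (QcD.X R).Modules i).obj (Q.obj E₁)) :=
    fun i => (QcD.P R).prop_of_iso
      ((DerivedCategory.homologyFunctorFactors (QcD.X R).Modules i).app E₁).symm (hc i).1
  obtain ⟨M, ⟨e⟩⟩ := (QcD.essImage_iff R (Q.obj E₁)).1 hQ
  have hiso : ∀ i : ℤ, (QcD.F R).obj ((homologyFunctor (ModuleCat.{u} R) i).obj M) ≅ E₁.homology i :=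
    fun i => (homologyMapDIso (QcD.F R) M i).symm ≪≫ (homologyFunctor _ i).mapIso e ≪≫
      (DerivedCategory.homologyFunctorFactors (QcD.X R).Modules i).app E₁
  refine ⟨M, ?_, fun i => ?_, ⟨e⟩⟩
  · rw [isLE_iff]
    intro i hi
    have h1 : IsZero ((QcD.F R).obj ((homologyFunctor _ i).obj M)) :=
      IsZero.of_iso (ha i hi) (hiso i)
    rw [IsZero.iff_id_eq_zero] at h1 ⊢
    apply (QcD.F R).map_injective
    rw [(QcD.F R).map_id, (QcD.F R).map_zero]
    exact h1
  · apply finite_of_isCoh_tilde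
    exact Groth.Agent.Helper5.COHP.isCoh_of_iso (hiso i).symm (hc i)

variable [IsNoetherianRing R]

/-- model by a bounded above complex of finite free modules -/
theorem exists_finfree_model (E₁ : CochainComplex (Spec (CommRingCat.of R)).Modules ℤ)
    (hc : ∀ i, Coh.IsCoh (E₁.homology i)) (a : ℤ) (ha : ∀ i, a < i → IsZero (E₁.homology i)) :
    ∃ (P : CochainComplex (ModuleCat.{u} R) ℤ) (b : ℤ), DRing.VanishesAbove P b ∧
      DRing.TermwiseFiniteFree P ∧ Nonempty (Q.obj (tCx R P) ≅ Q.obj E₁) := by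
  obtain ⟨M, hM, hfin, ⟨e⟩⟩ := exists_module_model R E₁ hc a ha
  have hpc : DRing.IsPseudoCoherent' R M := by
    refine ((Groth.Agent.Helper11.CohRing.main (R := R)
      (fun I _ => Module.finitePresentation_of_finite R I) M ⟨a, fun i hi => ?_⟩ 0).2).2
      (fun i => ?_)
    · exact ModuleCat.subsingleton_of_isZero (isZero_of_isLE M a i hi)
    · haveI := hfin i
      exact Module.finitePresentation_of_finite R _
  obtain ⟨P, b, hPb, hPf, ⟨eP⟩⟩ := hpc
  exact ⟨P, b, hPb, hPf, ⟨((tilde.functor R).mapDerivedCategoryFactors.app P).symm ≪≫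
    (tilde.functor R).mapDerivedCategory.mapIso eP ≪≫ e⟩⟩

/-- model by a complex of free modules with the same bound -/
theorem exists_free_model (E₁ : CochainComplex (Spec (CommRingCat.of R)).Modules ℤ)
    (hc : ∀ i, Coh.IsCoh (E₁.homology i)) (a : ℤ) (ha : ∀ i, a < i → IsZero (E₁.homology i)) :
    ∃ (P : CochainComplex (ModuleCat.{u} R) ℤ), DRing.VanishesAbove P a ∧
      (∀ i, Module.Free R (P.X i)) ∧ Nonempty (Q.obj (tCx R P) ≅ Q.obj E₁) := by
  obtain ⟨M, hM, hfin, ⟨e⟩⟩ := exists_module_model R E₁ hc a ha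
  obtain ⟨P, hPa, hPf, ⟨eP⟩⟩ := Groth.Agent.Helper11.LDCx.exists_free_res_le M a hM
  exact ⟨P, hPa, hPf, ⟨((tilde.functor R).mapDerivedCategoryFactors.app P).symm ≪≫
    (tilde.functor R).mapDerivedCategory.mapIso eP ≪≫ e⟩⟩

end Groth.Agent.Helper29.TenCohA
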