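import Mathlib
import Groth.Agent.Lib.Helper29.TenCohA
import Groth.Agent.Lib.Helper9.CohGraph
import Groth.Agent.Lib.Helper5.K0Coh
import Groth.Agent.Lib.Helper5.COHP1
import Groth.Agent.Lib.Helper13.TensorQCoh
import Groth.Agent.Lib.Helper13.TensorFunctor

/-!
# The tensor product of complexes with coherent, bounded above cohomology: the affine case
-/

set_option autoImplicit false
universe u
open CategoryTheory CategoryTheory.Limits AlgebraicGeometry DerivedCategory

attribute [local instance] HasDerivedCategory.standard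

namespace Groth.Agent.Helper29.TenCohB

open Groth.Agent.Helper29.QcF Groth.Agent.Helper29.TenCohA Groth.Agent.Helper13.QCohLocal
  Groth.Agent.Helper5 Groth.Agent.Helper5.LDer

section Sigma

variable {X : Scheme.{u}}

/-- a coproduct of zero objects is zero -/
lemma isZero_sigma {ι : Type u} (f : ι → X.Modules) (h : ∀ i, IsZero (f i)) : IsZero (∐ f) := by
  rw [IsZero.iff_id_eq_zero]
  apply Sigma.hom_ext
  intro i
  exact (h i).eq_of_src _ _

theorem isFiniteType_sigma_finset {ι : Type u} [DecidableEq ι] (f : ι → X.Modules)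
    (hf : ∀ i, SheafOfModules.IsFiniteType (R := X.ringCatSheaf) (f i)) (S : Finset ι) :
    SheafOfModules.IsFiniteType (R := X.ringCatSheaf) (∐ (fun s : S => f s.1)) := by
  induction S using Finset.induction_on with
  | empty =>
    apply Groth.Agent.Helper5.K0Coh.isFiniteType_of_isZero
    apply isZero_sigma
    intro s
    exact absurd s.2 (Finset.notMem_empty _)
  | insert j S hj ih =>
    let g : ↥(insert j S) → X.Modules := fun s => f s.1
    let π : (f j ⊞ ∐ (fun s : S => f s.1) : X.Modules) ⟶ ∐ g :=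
      biprod.desc (Sigma.ι g ⟨j, Finset.mem_insert_self j S⟩)
        (Sigma.desc (fun s : S => Sigma.ι g ⟨s.1, Finset.mem_insert_of_mem s.2⟩))
    have hEpi : Epi π := by
      constructor
      intro Z u v huv
      apply Sigma.hom_ext
      rintro ⟨i, hi⟩
      rcases Finset.mem_insert.1 hi with rfl | hi'
      · have h1 : biprod.inl ≫ π = Sigma.ι g ⟨i, hi⟩ := biprod.inl_desc _ _
        rw [← h1]
        simp only [Category.assoc]
        rw [huv]
      · have h1 : (Sigma.ι (fun s : S => f s.1) ⟨i, hi'⟩ ≫ biprod.inr) ≫ π = Sigma.ι g ⟨i, hi⟩ := by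
          rw [Category.assoc, biprod.inr_desc, Sigma.ι_desc]
        rw [← h1]
        simp only [Category.assoc]
        rw [huv]
    have hG : SheafOfModules.IsFiniteType (R := X.ringCatSheaf)
        (f j ⊞ ∐ (fun s : S => f s.1) : X.Modules) :=
      Groth.Agent.Helper9.CohGraph.isFiniteType_biprod (f j) (∐ (fun s : S => f s.1))
        (hA := hf j) (hB := ih)
    exact @Groth.Agent.Helper13.FinType.isFiniteType_of_epi X _ _ π hEpi hG

theorem isFiniteType_sigma_of_support {ι : Type u} (f : ι → X.Modules)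
    (hf : ∀ i, SheafOfModules.IsFiniteType (R := X.ringCatSheaf) (f i)) (S : Finset ι)
    (hS : ∀ i, i ∉ S → IsZero (f i)) :
    SheafOfModules.IsFiniteType (R := X.ringCatSheaf) (∐ f) := by
  classical
  let π : ∐ (fun s : S => f s.1) ⟶ ∐ f := Sigma.desc (fun s => Sigma.ι f s.1)
  have hEpi : Epi π := by
    constructor
    intro Z u v huv
    apply Sigma.hom_ext
    intro i
    by_cases hi : i ∈ S
    · have h1 : Sigma.ι (fun s : S => f s.1) ⟨i, hi⟩ ≫ π = Sigma.ι f i := Sigma.ι_desc _ _
      rw [← h1]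
      simp only [Category.assoc]
      rw [huv]
    · exact (hS i hi).eq_of_src _ _
  have hG := isFiniteType_sigma_finset f hf S
  exact @Groth.Agent.Helper13.FinType.isFiniteType_of_epi X _ _ π hEpi hG

lemma isZero_tensor_left (A B : X.Modules) (hA : IsZero A) : IsZero (CohB1.tensorMod A B) :=
  (Groth.Agent.Helper13.TensorFunctor.tensorRight B).map_isZero hA

lemma isZero_tensor_right (A B : X.Modules) (hB : IsZero B) : IsZero (CohB1.tensorMod A B) :=
  IsZero.of_iso (isZero_tensor_left B A hB) (Groth.Agent.Helper13.Tensor.braid A B)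

end Sigma

section Terms

variable {X : Scheme.{u}}

/-- the coproduct decomposition of the terms of the tensor product of complexes -/
noncomputable def termIso (L K : CochainComplex X.Modules ℤ) (n : ℤ) :
    (∐ (fun i : ULift.{u} (KFA.BiComm.Idx n) =>
      (KFA.BiComm.gr (T := DCoh.tensorBi (X := X)) L K) i.down.1)) ≅ (T L K).X n :=
  Sigma.whiskerEquiv
      (f := fun i : ULift.{u} (KFA.BiComm.Idx n) =>
        (KFA.BiComm.gr (T := DCoh.tensorBi (X := X)) L K) i.down.1)
      (g := fun i : KFA.BiComm.Idx n => (KFA.BiComm.gr (T := DCoh.tensorBi (X := X)) L K) i.1)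
      Equiv.ulift (fun _ => Iso.refl _) ≪≫
    IsColimit.coconePointUniqueUpToIso (coproductIsCoproduct _)
      ((KFA.BiComm.gr (T := DCoh.tensorBi (X := X)) L K).isColimitCofanMapObj
        (ComplexShape.π (ComplexShape.up ℤ) (ComplexShape.up ℤ) (ComplexShape.up ℤ)) n)

theorem isZero_T_X (L K : CochainComplex X.Modules ℤ) (b₁ b₂ : ℤ)
    (hL : ∀ p, b₁ < p → IsZero (L.X p)) (hK : ∀ q, b₂ < q → IsZero (K.X q)) (n : ℤ)
    (hn : b₁ + b₂ < n) : IsZero ((T L K).X n) := by
  refine IsZero.of_iso (isZero_sigma _ ?_) (termIso L K n).symm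
  rintro ⟨⟨⟨p, q⟩, hpq⟩⟩
  have hpq' : p + q = n := hpq
  by_cases hp : b₁ < p
  · exact isZero_tensor_left (L.X p) (K.X q) (hL p hp)
  · exact isZero_tensor_right (L.X p) (K.X q) (hK q (by omega))

theorem isCoh_T_X (L K : CochainComplex X.Modules ℤ) (b₁ b₂ : ℤ)
    (hL : ∀ p, b₁ < p → IsZero (L.X p)) (hK : ∀ q, b₂ < q → IsZero (K.X q))
    (hcL : ∀ p, Coh.IsCoh (L.X p)) (hcK : ∀ q, Coh.IsCoh (K.X q)) (n : ℤ) :
    Coh.IsCoh ((T L K).X n) := by
  refine ⟨?_, ?_⟩
  · apply isQuasicoherent_T_X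
    intro p q
    haveI := (hcL p).1
    haveI := (hcK q).1
    exact (inferInstance : (CohB1.tensorMod (L.X p) (K.X q)).IsQuasicoherent)
  · let f : ULift.{u} (KFA.BiComm.Idx n) → X.Modules := fun i =>
      (KFA.BiComm.gr (T := DCoh.tensorBi (X := X)) L K) i.down.1
    have hf : ∀ i, SheafOfModules.IsFiniteType (R := X.ringCatSheaf) (f i) := by
      rintro ⟨⟨⟨p, q⟩, hpq⟩⟩
      haveI := (hcL p).2
      haveI := (hcK q).2
      exact Groth.Agent.Helper13.Tensor.isFiniteType_tensorMod (F := L.X p) (G := K.X q)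
    let S : Finset (ULift.{u} (KFA.BiComm.Idx n)) :=
      (Finset.Icc (n - b₂) b₁).attach.image
        (fun p => ULift.up ⟨(p.1, n - p.1), by
          change p.1 + (n - p.1) = n
          ring⟩)
    have hS : ∀ i, i ∉ S → IsZero (f i) := by
      rintro ⟨⟨⟨p, q⟩, hpq⟩⟩ hi
      have hpq' : p + q = n := hpq
      by_cases hp : b₁ < p
      · exact isZero_tensor_left (L.X p) (K.X q) (hL p hp)
      · by_cases hq : b₂ < q
        · exact isZero_tensor_right (L.X p) (K.X q) (hK q hq)
        · exfalso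
          apply hi
          have hmem : p ∈ Finset.Icc (n - b₂) b₁ := Finset.mem_Icc.2 ⟨by omega, by omega⟩
          refine Finset.mem_image.2 ⟨⟨p, hmem⟩, Finset.mem_attach _ _, ?_⟩
          have hq' : n - p = q := by omega
          subst hq'
          rfl
    have hG := isFiniteType_sigma_of_support f hf S hS
    exact @Groth.Agent.Helper13.FinType.isFiniteType_of_epi X _ _ (termIso L K n).hom
      inferInstance hG

/-- on a locally Noetherian scheme, the cohomology of a complex with coherent terms is coherent -/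
theorem isCoh_homology_of_isCoh [IsLocallyNoetherian X] (P : CochainComplex X.Modules ℤ)
    (hP : ∀ i : ℤ, Coh.IsCoh (P.X i)) (i : ℤ) : Coh.IsCoh (P.homology i) := by
  haveI hq : ∀ j : ℤ, (P.X j).IsQuasicoherent := fun j => (hP j).1
  haveI hft : ∀ j : ℤ, SheafOfModules.IsFiniteType (R := X.ringCatSheaf) (P.X j) := fun j =>
    (hP j).2
  let eZ : P.cycles i ≅ kernel (P.d i (i + 1)) :=
    IsLimit.conePointUniqueUpToIso (P.cyclesIsKernel i (i + 1) (by simp)) (limit.isLimit _)
  haveI hZq : (P.cycles i).IsQuasicoherent :=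
    haveI := Groth.Agent.Helper13.QCohLocal.isQuasicoherent_kernel (P.d i (i + 1))
    Groth.Agent.Helper13.QCohLocal.isQuasicoherent_of_iso eZ.symm
  haveI hZf : SheafOfModules.IsFiniteType (R := X.ringCatSheaf) (P.cycles i) :=
    Groth.Agent.Helper5.COHP.isFiniteType_of_mono (P.iCycles i)
  let eH : P.homology i ≅ cokernel (P.toCycles (i - 1) i) :=
    IsColimit.coconePointUniqueUpToIso (P.homologyIsCokernel (i - 1) i (by simp))
      (colimit.isColimit _)
  refine ⟨?_, ?_⟩
  · haveI := Groth.Agent.Helper13.QCohLocal.isQuasicoherent_cokernel (P.toCycles (i - 1) i)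
    exact Groth.Agent.Helper13.QCohLocal.isQuasicoherent_of_iso eH.symm
  · exact Groth.Agent.Helper13.FinType.isFiniteType_of_epi (P.homologyπ i)

end Terms

section Affine

variable (R : CommRingCat.{u})

/-- comparison of the cohomology of tensor products through models -/
theorem nonempty_homologyIso (E₁ F₁ : CochainComplex (Spec (CommRingCat.of R)).Modules ℤ)
    (hE₁ : DCoh.IsKFlat E₁) (hF₁ : DCoh.IsKFlat F₁)
    (P P' : CochainComplex (ModuleCat.{u} R) ℤ) (b b' : ℤ)
    (hP : DRing.VanishesAbove P b) (hP' : DRing.VanishesAbove P' b')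
    (hPf : ∀ i, Module.Flat R (P.X i)) (hPf' : ∀ i, Module.Flat R (P'.X i))
    (e : Q.obj (tCx R P) ≅ Q.obj E₁) (e' : Q.obj (tCx R P') ≅ Q.obj F₁) (i : ℤ) :
    Nonempty ((T (tCx R P) (tCx R P')).homology i ≅ (T E₁ F₁).homology i) := by
  have htP : DCoh.IsKFlat (tCx R P) :=
    TildeSt.tilde_isKFlat R P (Groth.Agent.Helper11.KPF.kfl_of_vanishesAbove P b hP hPf)
  have htP' : DCoh.IsKFlat (tCx R P') :=
    TildeSt.tilde_isKFlat R P' (Groth.Agent.Helper11.KPF.kfl_of_vanishesAbove P' b' hP' hPf')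
  have e1 : Q.obj (T (tCx R P) (tCx R P')) ≅ Q.obj (T E₁ (tCx R P')) :=
    TRS.tensQIsoRight (tCx R P') htP' e
  obtain ⟨e2⟩ : Nonempty (Q.obj (T E₁ (tCx R P')) ≅ Q.obj (T E₁ F₁)) :=
    TRS.nonempty_tensQIsoLeft E₁ htP' hF₁ e'
  exact ⟨((DerivedCategory.homologyFunctorFactors _ i).app _).symm ≪≫
      (DerivedCategory.homologyFunctor _ i).mapIso (e1 ≪≫ e2) ≪≫
      (DerivedCategory.homologyFunctorFactors _ i).app _⟩

variable [IsNoetherianRing R]

theorem affine_case (E₁ F₁ : CochainComplex (Spec (CommRingCat.of R)).Modules ℤ)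
    (hE₁ : DCoh.IsKFlat E₁) (hF₁ : DCoh.IsKFlat F₁)
    (hcE : ∀ i, Coh.IsCoh (E₁.homology i)) (hcF : ∀ i, Coh.IsCoh (F₁.homology i))
    (a b : ℤ) (ha : ∀ i, a < i → IsZero (E₁.homology i)) (hb : ∀ i, b < i → IsZero (F₁.homology i))
    (i : ℤ) :
    Coh.IsCoh ((T E₁ F₁).homology i) ∧ (a + b < i → IsZero ((T E₁ F₁).homology i)) := by
  haveI : IsLocallyNoetherian (Spec (CommRingCat.of R)) :=
    inferInstanceAs (IsLocallyNoetherian (Spec R))
  constructor
  · obtain ⟨P, c, hPc, hPf, ⟨e⟩⟩ := exists_finfree_model R E₁ hcE a ha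
    obtain ⟨P', c', hPc', hPf', ⟨e'⟩⟩ := exists_finfree_model R F₁ hcF b hb
    obtain ⟨e3⟩ := nonempty_homologyIso R E₁ F₁ hE₁ hF₁ P P' c c' hPc hPc'
      (fun i => by haveI := (hPf i).2; infer_instance)
      (fun i => by haveI := (hPf' i).2; infer_instance) e e' i
    refine Groth.Agent.Helper5.COHP.isCoh_of_iso e3 ?_
    apply isCoh_homology_of_isCoh
    intro n
    have hterm : ∀ (P₀ : CochainComplex (ModuleCat.{u} R) ℤ), DRing.TermwiseFiniteFree P₀ →
        ∀ p, Coh.IsCoh ((tCx R P₀).X p) := by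
      intro P₀ hP₀ p
      haveI := (hP₀ p).1
      exact ⟨inferInstanceAs ((tilde.functor R).obj (P₀.X p)).IsQuasicoherent,
        Groth.Agent.Helper28.CohOpen.isFiniteType_tilde (R := R) (P₀.X p)⟩
    exact isCoh_T_X (tCx R P) (tCx R P') c c'
      (fun p hp => (tilde.functor R).map_isZero (hPc p hp))
      (fun q hq => (tilde.functor R).map_isZero (hPc' q hq))
      (hterm P hPf) (hterm P' hPf') n
  · intro hi
    obtain ⟨P, hPa, hPf, ⟨e⟩⟩ := exists_free_model R E₁ hcE a ha
    obtain ⟨P', hPb, hPf', ⟨e'⟩⟩ := exists_free_model R F₁ hcF b hb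
    obtain ⟨e3⟩ := nonempty_homologyIso R E₁ F₁ hE₁ hF₁ P P' a b hPa hPb
      (fun i => by haveI := hPf i; infer_instance)
      (fun i => by haveI := hPf' i; infer_instance) e e' i
    refine IsZero.of_iso ?_ e3.symm
    apply (HomologicalComplex.ExactAt.of_isZero ?_).isZero_homology
    exact isZero_T_X (tCx R P) (tCx R P') a b
      (fun p hp => (tilde.functor R).map_isZero (hPa p hp))
      (fun q hq => (tilde.functor R).map_isZero (hPb q hq)) i hi

end Affine

end Groth.Agent.Helper29.TenCohB
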