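import Mathlib
import Groth.Agent.Lib.Helper11.KI1

/-!
# Right derived functors of triangulated functors on `K(𝒜)` send distinguished triangles
to distinguished triangles (up to the choice of the third map)
-/
set_option autoImplicit false
universe w v u
open CategoryTheory CategoryTheory.Limits Pretriangulated

namespace Groth.Agent.Helper29.TriR

open Groth.Agent.Helper11 in
section

variable {𝒜 : Type u} [Category.{v} 𝒜] [Abelian 𝒜] [IsGrothendieckAbelian.{v} 𝒜]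
  [HasDerivedCategory.{w} 𝒜]

/-- K-injective objects of the homotopy category -/
abbrev rOrth : ObjectProperty (HomotopyCategory 𝒜 (ComplexShape.up ℤ)) :=
  (HomotopyCategory.subcategoryAcyclic 𝒜).rightOrthogonal

lemma exists_kinj_triangle (T' : Triangle (HomotopyCategory 𝒜 (ComplexShape.up ℤ)))
    (hT' : T' ∈ distTriang _) :
    ∃ (T'' : Triangle (HomotopyCategory 𝒜 (ComplexShape.up ℤ))) (_ : T'' ∈ distTriang _)
      (φ : T' ⟶ T''), rOrth T''.obj₁ ∧ rOrth T''.obj₂ ∧ rOrth T''.obj₃ ∧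
        IsIso (DerivedCategory.Qh.mapTriangle.map φ) := by
  obtain ⟨Z, g, h, hT''⟩ := distinguished_cocone_triangle (KI.imap.{w} T'.mor₁)
  have h₁ : rOrth ((KI.quo 𝒜).obj (KI.IO T'.obj₁)) :=
    CochainComplex.IsKInjective.rightOrthogonal _
  have h₂ : rOrth ((KI.quo 𝒜).obj (KI.IO T'.obj₂)) :=
    CochainComplex.IsKInjective.rightOrthogonal _
  have h₃ : rOrth Z :=
    (HomotopyCategory.subcategoryAcyclic 𝒜).rightOrthogonal.ext_of_isTriangulatedClosed₃ _ hT''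
      h₁ h₂
  obtain ⟨c, hc₁, hc₂⟩ := complete_distinguished_triangle_morphism T' _ hT' hT''
    (KI.im T'.obj₁) (KI.im T'.obj₂) (KI.imap_fac.{w} T'.mor₁).symm
  let φ : T' ⟶ Triangle.mk (KI.imap.{w} T'.mor₁) g h :=
    { hom₁ := KI.im T'.obj₁
      hom₂ := KI.im T'.obj₂
      hom₃ := c
      comm₁ := (KI.imap_fac.{w} T'.mor₁).symm
      comm₂ := hc₁
      comm₃ := hc₂ }
  refine ⟨_, hT'', φ, h₁, h₂, h₃, ?_⟩
  have hd₁ : DerivedCategory.Qh.mapTriangle.obj T' ∈ distTriang _ :=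
    DerivedCategory.Qh.map_distinguished _ hT'
  have hd₂ : DerivedCategory.Qh.mapTriangle.obj (Triangle.mk (KI.imap.{w} T'.mor₁) g h) ∈
      distTriang _ := DerivedCategory.Qh.map_distinguished _ hT''
  haveI i₁ : IsIso (DerivedCategory.Qh.mapTriangle.map φ).hom₁ :=
    Localization.inverts DerivedCategory.Qh (HomotopyCategory.quasiIso 𝒜 _) _ (KI.im_W T'.obj₁)
  haveI i₂ : IsIso (DerivedCategory.Qh.mapTriangle.map φ).hom₂ :=
    Localization.inverts DerivedCategory.Qh (HomotopyCategory.quasiIso 𝒜 _) _ (KI.im_W T'.obj₂)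
  haveI i₃ : IsIso (DerivedCategory.Qh.mapTriangle.map φ).hom₃ :=
    isIso₃_of_isIso₁₂ _ hd₁ hd₂ i₁ i₂
  exact Triangle.isIso_of_isIsos _ i₁ i₂ i₃

variable {T : Type*} [Category T] [Preadditive T] [HasZeroObject T] [HasShift T ℤ]
  [∀ n : ℤ, (shiftFunctor T n).Additive] [Pretriangulated T]
  (Φ : HomotopyCategory 𝒜 (ComplexShape.up ℤ) ⥤ T) [Φ.CommShift ℤ] [Φ.IsTriangulated]
  (R : DerivedCategory 𝒜 ⥤ T) (β : Φ ⟶ DerivedCategory.Qh ⋙ R)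
  [R.IsRightDerivedFunctor β (HomotopyCategory.quasiIso 𝒜 (ComplexShape.up ℤ))]

lemma isIso_β_app (Z : HomotopyCategory 𝒜 (ComplexShape.up ℤ)) (hZ : rOrth Z) :
    IsIso (β.app Z) := by
  haveI : CochainComplex.IsKInjective Z.as :=
    (CochainComplex.isKInjective_iff_rightOrthogonal Z.as).2 hZ
  exact KI.isIso_unit.{w} Φ R β Z.as

include Φ β in
/-- a right derived functor of a triangulated functor on `K(𝒜)` sends distinguished triangles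
to distinguished triangles, for a suitable third map -/
theorem exists_distinguished (Tr : Triangle (DerivedCategory 𝒜)) (hTr : Tr ∈ distTriang _) :
    ∃ c' : R.obj Tr.obj₃ ⟶ (R.obj Tr.obj₁)⟦(1 : ℤ)⟧,
      Triangle.mk (R.map Tr.mor₁) (R.map Tr.mor₂) c' ∈ distTriang T := by
  obtain ⟨T', e, hT'⟩ := hTr
  obtain ⟨T'', hT'', φ, h₁, h₂, h₃, hφ⟩ := exists_kinj_triangle T' hT'
  let e' : Tr ≅ DerivedCategory.Qh.mapTriangle.obj T'' :=
    e ≪≫ asIso (DerivedCategory.Qh.mapTriangle.map φ)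
  have i₁ : IsIso (β.app T''.obj₁) := isIso_β_app Φ R β _ h₁
  have i₂ : IsIso (β.app T''.obj₂) := isIso_β_app Φ R β _ h₂
  have i₃ : IsIso (β.app T''.obj₃) := isIso_β_app Φ R β _ h₃
  let B₁ : Φ.obj T''.obj₁ ≅ R.obj (DerivedCategory.Qh.obj T''.obj₁) :=
    @asIso _ _ _ _ (β.app T''.obj₁) i₁
  let B₂ : Φ.obj T''.obj₂ ≅ R.obj (DerivedCategory.Qh.obj T''.obj₂) :=
    @asIso _ _ _ _ (β.app T''.obj₂) i₂
  let B₃ : Φ.obj T''.obj₃ ≅ R.obj (DerivedCategory.Qh.obj T''.obj₃) :=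
    @asIso _ _ _ _ (β.app T''.obj₃) i₃
  have n₁ : Φ.map T''.mor₁ ≫ B₂.hom = B₁.hom ≫ R.map (DerivedCategory.Qh.map T''.mor₁) :=
    β.naturality T''.mor₁
  have n₂ : Φ.map T''.mor₂ ≫ B₃.hom = B₂.hom ≫ R.map (DerivedCategory.Qh.map T''.mor₂) :=
    β.naturality T''.mor₂
  let θ₁ : R.obj Tr.obj₁ ≅ Φ.obj T''.obj₁ := R.mapIso (Triangle.π₁.mapIso e') ≪≫ B₁.symm
  let θ₂ : R.obj Tr.obj₂ ≅ Φ.obj T''.obj₂ := R.mapIso (Triangle.π₂.mapIso e') ≪≫ B₂.symm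
  let θ₃ : R.obj Tr.obj₃ ≅ Φ.obj T''.obj₃ := R.mapIso (Triangle.π₃.mapIso e') ≪≫ B₃.symm
  let m₃ : Φ.obj T''.obj₃ ⟶ (Φ.obj T''.obj₁)⟦(1 : ℤ)⟧ := (Φ.mapTriangle.obj T'').mor₃
  refine ⟨θ₃.hom ≫ m₃ ≫ θ₁.inv⟦(1 : ℤ)⟧',
    isomorphic_distinguished _ (Φ.map_distinguished _ hT'') _
      (Triangle.isoMk _ _ θ₁ θ₂ θ₃ ?_ ?_ ?_)⟩
  · change R.map Tr.mor₁ ≫ R.map e'.hom.hom₂ ≫ B₂.inv =
      (R.map e'.hom.hom₁ ≫ B₁.inv) ≫ Φ.map T''.mor₁
    have h : R.map (DerivedCategory.Qh.map T''.mor₁) ≫ B₂.inv = B₁.inv ≫ Φ.map T''.mor₁ := by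
      rw [Iso.eq_inv_comp, ← Category.assoc, Iso.comp_inv_eq]
      exact n₁.symm
    have hc : Tr.mor₁ ≫ e'.hom.hom₂ = e'.hom.hom₁ ≫ DerivedCategory.Qh.map T''.mor₁ :=
      e'.hom.comm₁
    calc R.map Tr.mor₁ ≫ R.map e'.hom.hom₂ ≫ B₂.inv
        = R.map (Tr.mor₁ ≫ e'.hom.hom₂) ≫ B₂.inv := by rw [R.map_comp, Category.assoc]
      _ = R.map (e'.hom.hom₁ ≫ DerivedCategory.Qh.map T''.mor₁) ≫ B₂.inv :=
          congrArg (fun x => R.map x ≫ B₂.inv) hc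
      _ = R.map e'.hom.hom₁ ≫ (R.map (DerivedCategory.Qh.map T''.mor₁) ≫ B₂.inv) := by
          rw [R.map_comp, Category.assoc]
      _ = R.map e'.hom.hom₁ ≫ (B₁.inv ≫ Φ.map T''.mor₁) := congrArg (R.map e'.hom.hom₁ ≫ ·) h
      _ = (R.map e'.hom.hom₁ ≫ B₁.inv) ≫ Φ.map T''.mor₁ := (Category.assoc _ _ _).symm
  · change R.map Tr.mor₂ ≫ R.map e'.hom.hom₃ ≫ B₃.inv =
      (R.map e'.hom.hom₂ ≫ B₂.inv) ≫ Φ.map T''.mor₂
    have h : R.map (DerivedCategory.Qh.map T''.mor₂) ≫ B₃.inv = B₂.inv ≫ Φ.map T''.mor₂ := by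
      rw [Iso.eq_inv_comp, ← Category.assoc, Iso.comp_inv_eq]
      exact n₂.symm
    have hc : Tr.mor₂ ≫ e'.hom.hom₃ = e'.hom.hom₂ ≫ DerivedCategory.Qh.map T''.mor₂ :=
      e'.hom.comm₂
    calc R.map Tr.mor₂ ≫ R.map e'.hom.hom₃ ≫ B₃.inv
        = R.map (Tr.mor₂ ≫ e'.hom.hom₃) ≫ B₃.inv := by rw [R.map_comp, Category.assoc]
      _ = R.map (e'.hom.hom₂ ≫ DerivedCategory.Qh.map T''.mor₂) ≫ B₃.inv :=
          congrArg (fun x => R.map x ≫ B₃.inv) hc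
      _ = R.map e'.hom.hom₂ ≫ (R.map (DerivedCategory.Qh.map T''.mor₂) ≫ B₃.inv) := by
          rw [R.map_comp, Category.assoc]
      _ = R.map e'.hom.hom₂ ≫ (B₂.inv ≫ Φ.map T''.mor₂) := congrArg (R.map e'.hom.hom₂ ≫ ·) h
      _ = (R.map e'.hom.hom₂ ≫ B₂.inv) ≫ Φ.map T''.mor₂ := (Category.assoc _ _ _).symm
  · change (θ₃.hom ≫ m₃ ≫ θ₁.inv⟦(1 : ℤ)⟧') ≫ θ₁.hom⟦(1 : ℤ)⟧' = θ₃.hom ≫ m₃
    rw [Category.assoc, Category.assoc, ← Functor.map_comp, θ₁.inv_hom_id, CategoryTheory.Functor.map_id,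
      Category.comp_id]

end

end Groth.Agent.Helper29.TriR
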