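import Mathlib

/-!
# Stupid truncations of cochain complexes in an abelian category
-/

set_option autoImplicit false
set_option linter.unusedSectionVars false
set_option linter.unusedVariables false

universe v u

open CategoryTheory CategoryTheory.Limits HomologicalComplex

namespace Groth.Agent.Helper29.STrunc

variable {𝒜 : Type u} [Category.{v} 𝒜] [Abelian 𝒜] (K : CochainComplex 𝒜 ℤ) (a : ℤ)

/-- `σ_{≤ a} K` -/
noncomputable def qLE : CochainComplex 𝒜 ℤ := K.stupidTrunc (ComplexShape.embeddingUpIntLE a)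

lemma hasLift : (ComplexShape.embeddingUpIntLE a).HasLift
    (𝟙 (K.restriction (ComplexShape.embeddingUpIntLE a))) :=
  fun j hj => (hj.false_of_isTruncLE).elim

/-- the projection `K ⟶ σ_{≤ a} K` -/
noncomputable def πLE : K ⟶ qLE K a :=
  (ComplexShape.embeddingUpIntLE a).liftExtend (𝟙 (K.restriction (ComplexShape.embeddingUpIntLE a)))
    (hasLift K a)

lemma isIso_πLE_f (i : ℤ) (hi : i ≤ a) : IsIso ((πLE K a).f i) := by
  have hn : (ComplexShape.embeddingUpIntLE a).f (a - i).toNat = i := by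
    simp [ComplexShape.embeddingUpIntLE]; omega
  exact (ComplexShape.Embedding.isIso_liftExtend_f_iff _ _ (hasLift K a) hn).mpr inferInstance

lemma isZero_qLE_X (i : ℤ) (hi : a < i) : IsZero ((qLE K a).X i) :=
  K.isZero_stupidTrunc_X (ComplexShape.embeddingUpIntLE a) i
    (by rwa [ComplexShape.notMem_range_embeddingUpIntLE_iff])

instance epi_πLE : Epi (πLE K a) := by
  apply HomologicalComplex.epi_of_epi_f
  intro i
  by_cases hi : i ≤ a
  · haveI := isIso_πLE_f K a i hi
    infer_instance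
  · exact ⟨fun _ _ _ => (isZero_qLE_X K a i (by omega)).eq_of_src _ _⟩

/-- `σ_{> a} K` -/
noncomputable def sGT : CochainComplex 𝒜 ℤ := kernel (πLE K a)

/-- the inclusion `σ_{> a} K ⟶ K` -/
noncomputable def ιGT : sGT K a ⟶ K := kernel.ι (πLE K a)

instance mono_ιGT : Mono (ιGT K a) := equalizer.ι_mono

lemma ιGT_πLE : ιGT K a ≫ πLE K a = 0 := kernel.condition _

/-- the short exact sequence `0 ⟶ σ_{> a} K ⟶ K ⟶ σ_{≤ a} K ⟶ 0` -/
noncomputable def sc : ShortComplex (CochainComplex 𝒜 ℤ) :=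
  ShortComplex.mk (ιGT K a) (πLE K a) (ιGT_πLE K a)

lemma sc_shortExact : (sc K a).ShortExact := by
  haveI : Mono (sc K a).f := mono_ιGT K a
  haveI : Epi (sc K a).g := epi_πLE K a
  exact ShortComplex.ShortExact.mk (ShortComplex.exact_of_f_is_kernel _ (kernelIsKernel _))

lemma sc_eval_shortExact (i : ℤ) :
    ((sc K a).map (HomologicalComplex.eval 𝒜 (ComplexShape.up ℤ) i)).ShortExact :=
  (sc_shortExact K a).map_of_exact _

lemma isZero_sGT_X (i : ℤ) (hi : i ≤ a) : IsZero ((sGT K a).X i) := by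
  have h := sc_eval_shortExact K a i
  haveI : IsIso ((sc K a).map (HomologicalComplex.eval 𝒜 (ComplexShape.up ℤ) i)).g :=
    isIso_πLE_f K a i hi
  exact h.isIso_g_iff.mp inferInstance

lemma isIso_ιGT_f (i : ℤ) (hi : a < i) : IsIso ((ιGT K a).f i) := by
  have h := sc_eval_shortExact K a i
  exact h.isIso_f_iff.mpr (isZero_qLE_X K a i hi)

lemma ιGT_πLE_of_le {a a' : ℤ} (h : a' ≤ a) : ιGT K a ≫ πLE K a' = 0 := by
  apply HomologicalComplex.hom_ext
  intro i
  by_cases hi : i ≤ a
  · exact (isZero_sGT_X K a i hi).eq_of_src _ _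
  · exact (isZero_qLE_X K a' i (by omega)).eq_of_tgt _ _

/-- the inclusion `σ_{> a} K ⟶ σ_{> a'} K` for `a' ≤ a` -/
noncomputable def incl {a a' : ℤ} (h : a' ≤ a) : sGT K a ⟶ sGT K a' :=
  kernel.lift _ (ιGT K a) (ιGT_πLE_of_le K h)

@[reassoc]
lemma incl_ι {a a' : ℤ} (h : a' ≤ a) : incl K h ≫ ιGT K a' = ιGT K a := kernel.lift_ι _ _ _

/-- the tower `σ_{> b} K ⟶ σ_{> b-1} K ⟶ ...` -/
noncomputable def tower (b : ℤ) : ℕ ⥤ CochainComplex 𝒜 ℤ where
  obj n := sGT K (b - n)
  map {n m} f := incl K (by have := leOfHom f; omega)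
  map_id n := by rw [← cancel_mono (ιGT K _), incl_ι, Category.id_comp]
  map_comp f g := by rw [← cancel_mono (ιGT K _), Category.assoc, incl_ι, incl_ι, incl_ι]

/-- the cocone of the tower with point `K` -/
noncomputable def towerCocone (b : ℤ) : Cocone (tower K b) where
  pt := K
  ι := { app := fun n => ιGT K (b - n)
         naturality := fun n m f => by
           have hle : b - (m : ℤ) ≤ b - (n : ℤ) := by have := leOfHom f; omega
           change incl K hle ≫ ιGT K _ = ιGT K _ ≫ 𝟙 _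
           rw [incl_ι, Category.comp_id] }

/-- a cocone over a sequence whose legs are eventually isomorphisms is a colimit -/
noncomputable def isColimitOfEventuallyIso {ℬ : Type*} [Category ℬ] {F : ℕ ⥤ ℬ} (c : Cocone F)
    (N : ℕ) (h : ∀ n, N ≤ n → IsIso (c.ι.app n)) : IsColimit c := by
  have hconst : F.IsEventuallyConstantFrom N := fun j f => by
    haveI := h j (leOfHom f)
    haveI := h N le_rfl
    haveI : IsIso (F.map f ≫ c.ι.app j) := by
      rw [c.w f]; infer_instance
    exact IsIso.of_isIso_comp_right (F.map f) (c.ι.app j)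
  haveI := h N le_rfl
  exact hconst.isColimitOfIsIso c

/-- `K` is the colimit of its stupid truncations -/
noncomputable def isColimitTowerCocone (b : ℤ) : IsColimit (towerCocone K b) :=
  HomologicalComplex.isColimitOfEval _ _ (fun i =>
    isColimitOfEventuallyIso _ (b - i + 1).toNat (fun n hn => by
      change IsIso ((ιGT K (b - n)).f i)
      exact isIso_ιGT_f K _ i (by omega)))

/-! ### Boundedness and termwise properties -/

lemma isStrictlyGE_sGT : (sGT K a).IsStrictlyGE (a + 1) := by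
  rw [CochainComplex.isStrictlyGE_iff]
  intro i hi
  exact isZero_sGT_X K a i (by omega)

lemma isStrictlyLE_sGT (b : ℤ) [K.IsStrictlyLE b] : (sGT K a).IsStrictlyLE b := by
  rw [CochainComplex.isStrictlyLE_iff]
  intro i hi
  by_cases h : i ≤ a
  · exact isZero_sGT_X K a i h
  · haveI := isIso_ιGT_f K a i (by omega)
    exact IsZero.of_iso (K.isZero_of_isStrictlyLE b i hi) (asIso ((ιGT K a).f i))

lemma isStrictlyLE_qLE : (qLE K a).IsStrictlyLE a := by
  rw [CochainComplex.isStrictlyLE_iff]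
  intro i hi
  exact isZero_qLE_X K a i hi

lemma isStrictlyGE_qLE (c : ℤ) [K.IsStrictlyGE c] : (qLE K a).IsStrictlyGE c := by
  rw [CochainComplex.isStrictlyGE_iff]
  intro i hi
  by_cases h : i ≤ a
  · haveI := isIso_πLE_f K a i h
    exact IsZero.of_iso (K.isZero_of_isStrictlyGE c i hi) (asIso ((πLE K a).f i)).symm
  · exact isZero_qLE_X K a i (by omega)

lemma prop_sGT_X (P : 𝒜 → Prop) (hiso : ∀ {A B : 𝒜}, (A ≅ B) → P A → P B)
    (hzero : ∀ A : 𝒜, IsZero A → P A) (hK : ∀ i, P (K.X i)) (i : ℤ) : P ((sGT K a).X i) := by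
  by_cases h : i ≤ a
  · exact hzero _ (isZero_sGT_X K a i h)
  · haveI := isIso_ιGT_f K a i (by omega)
    exact hiso (asIso ((ιGT K a).f i)).symm (hK i)

lemma prop_qLE_X (P : 𝒜 → Prop) (hiso : ∀ {A B : 𝒜}, (A ≅ B) → P A → P B)
    (hzero : ∀ A : 𝒜, IsZero A → P A) (hK : ∀ i, P (K.X i)) (i : ℤ) : P ((qLE K a).X i) := by
  by_cases h : i ≤ a
  · haveI := isIso_πLE_f K a i h
    exact hiso (asIso ((πLE K a).f i)) (hK i)
  · exact hzero _ (isZero_qLE_X K a i (by omega))

end Groth.Agent.Helper29.STrunc
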