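import Mathlib
import Groth.Prelude.Def_SymTen
import Groth.Prelude.Def_PolLaw2
import Groth.Prelude.Def_W4c5normfunctorschNorm

/-!
# Symmetric tensors act on the top exterior power through the norm (helper29)
-/

open scoped TensorProduct
open PiTensorProduct

namespace Groth.Agent.Helper29.NormTop

universe u

section Law

variable {R : Type u} [CommRing R] {M N : Type u} [AddCommGroup M] [Module R M]
  [AddCommGroup N] [Module R N]

/-- Two polynomial laws agreeing on all *ring* test algebras are equal. -/
theorem law_ext_ring (F G : M →ₚₗ[R] N)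
    (h : ∀ (S : Type u) [CommRing S] [Algebra R S] (y : S ⊗[R] M), F.toFun' S y = G.toFun' S y) :
    F = G := by
  apply PolynomialLaw.ext
  funext S _ _ y
  let e : S →ₐ[R] R ⊗[R] S := (Algebra.TensorProduct.lid R S).symm.toAlgHom
  let e' : R ⊗[R] S →ₐ[R] S := (Algebra.TensorProduct.lid R S).toAlgHom
  have hinv : ∀ z : S ⊗[R] N, e'.toLinearMap.rTensor N (e.toLinearMap.rTensor N z) = z := by
    intro z
    induction z using TensorProduct.induction_on with
    | zero => simp
    | tmul s n => simp [e, e', LinearMap.rTensor_tmul]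
    | add a b ha hb => simp only [map_add, ha, hb]
  have hF := PolynomialLaw.isCompat_apply' (f := F) e y
  have hG := PolynomialLaw.isCompat_apply' (f := G) e y
  have h1 : e.toLinearMap.rTensor N (F.toFun' S y) = e.toLinearMap.rTensor N (G.toFun' S y) := by
    rw [hF, hG]
    exact h (R ⊗[R] S) _
  have h2 := congrArg (e'.toLinearMap.rTensor N) h1
  rwa [hinv, hinv] at h2

end Law

section Main

variable {R : Type u} [CommRing R] {R' : Type u} [CommRing R'] [Algebra R R'] {d : ℕ}
  (b : Module.Basis (Fin d) R R')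

/-- The determinant functional on the tensor power. -/
noncomputable def delta : (⨂[R] _ : Fin d, R') →ₗ[R] R :=
  PiTensorProduct.lift b.det.toMultilinearMap

theorem delta_tprod (p : Fin d → R') : delta b (tprod R p) = b.det p := by
  rw [delta, PiTensorProduct.lift.tprod]
  rfl

theorem delta_e0 : delta b (tprod R (fun i => b i)) = 1 := by
  rw [delta_tprod]
  exact b.det_self

/-- The quotient map composed with `tprod` is alternating. -/
noncomputable def qAlt : R' [⋀^Fin d]→ₗ[R] ((⨂[R] _ : Fin d, R') ⧸ SymTen.altSpan R R' d) :=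
  { (SymTen.altSpan R R' d).mkQ.compMultilinearMap (tprod R) with
    map_eq_zero_of_eq' := fun p i j hij hne => by
      show (SymTen.altSpan R R' d).mkQ (tprod R p) = 0
      rw [Submodule.mkQ_apply, Submodule.Quotient.mk_eq_zero]
      exact Submodule.subset_span ⟨p, i, j, hne, hij, rfl⟩ }

theorem qAlt_apply (p : Fin d → R') :
    qAlt (R := R) (R' := R') (d := d) p = (SymTen.altSpan R R' d).mkQ (tprod R p) := rfl

theorem qAlt_eq : qAlt (R := R) (R' := R') (d := d) =
    (b.det).smulRight ((SymTen.altSpan R R' d).mkQ (tprod R (fun i => b i))) := by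
  refine Module.Basis.ext_alternating b fun v hv => ?_
  let σ : Equiv.Perm (Fin d) := Equiv.ofBijective v (Finite.injective_iff_bijective.1 hv)
  change (qAlt (R := R) (R' := R') (d := d)) (b ∘ σ) =
    ((b.det).smulRight ((SymTen.altSpan R R' d).mkQ (tprod R (fun i => b i)))) (b ∘ σ)
  rw [AlternatingMap.map_perm, AlternatingMap.map_perm]
  congr 1
  rw [AlternatingMap.smulRight_apply, b.det_self, one_smul]
  rfl

theorem mkQ_eq (z : ⨂[R] _ : Fin d, R') :
    (SymTen.altSpan R R' d).mkQ z =
      delta b z • (SymTen.altSpan R R' d).mkQ (tprod R (fun i => b i)) := by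
  induction z using PiTensorProduct.induction_on with
  | smul_tprod r p =>
    have h := congrArg (fun f => f p) (qAlt_eq b)
    simp only [qAlt_apply, AlternatingMap.smulRight_apply] at h
    rw [map_smul, map_smul, delta_tprod, smul_assoc, h]
  | add x y hx hy => rw [map_add, map_add, add_smul, hx, hy]

theorem mem_altSpan_of_delta_eq_zero {z : ⨂[R] _ : Fin d, R'} (hz : delta b z = 0) :
    z ∈ SymTen.altSpan R R' d := by
  have h := mkQ_eq b z
  rw [hz, zero_smul, Submodule.mkQ_apply, Submodule.Quotient.mk_eq_zero] at h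
  exact h

/-- The diagonal coordinate multilinear map. -/
noncomputable def m0 : MultilinearMap R (fun _ : Fin d => R') R :=
  (MultilinearMap.mkPiAlgebra R (Fin d) R).compLinearMap (fun i => b.coord i)

theorem m0_apply (p : Fin d → R') : m0 b p = ∏ i, b.repr (p i) i := by
  simp [m0]

/-- The diagonal coordinate functional. -/
noncomputable def eps : (⨂[R] _ : Fin d, R') →ₗ[R] R := PiTensorProduct.lift (m0 b)

theorem eps_tprod (p : Fin d → R') : eps b (tprod R p) = m0 b p := by
  rw [eps, PiTensorProduct.lift.tprod]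

theorem det_eq_sum (p : Fin d → R') :
    b.det p = ∑ σ : Equiv.Perm (Fin d), Equiv.Perm.sign σ • m0 b (fun i => p (σ i)) := by
  rw [Module.Basis.det_apply, ← Matrix.det_transpose, Matrix.det_apply]
  refine Finset.sum_congr rfl fun σ _ => ?_
  rw [m0_apply]
  simp [Matrix.transpose_apply, Module.Basis.toMatrix_apply]

theorem delta_eq_sum (z : ⨂[R] _ : Fin d, R') :
    delta b z = ∑ σ : Equiv.Perm (Fin d),
      Equiv.Perm.sign σ • eps b (SymTen.perm R R' d σ⁻¹ z) := by
  induction z using PiTensorProduct.induction_on with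
  | smul_tprod r p =>
    simp only [map_smul, Units.smul_def]
    rw [delta_tprod, det_eq_sum, Finset.smul_sum]
    refine Finset.sum_congr rfl fun σ _ => ?_
    rw [SymTen.perm_tprod, eps_tprod, Units.smul_def, smul_comm]
    rfl
  | add x y hx hy => simp only [map_add, smul_add, Finset.sum_add_distrib, hx, hy]

theorem delta_mul_of_mem_TS {t : ⨂[R] _ : Fin d, R'} (ht : t ∈ SymTen.TS R R' d)
    (x : ⨂[R] _ : Fin d, R') :
    delta b (t * x) = delta b (t * tprod R (fun i => b i)) * delta b x := by
  let mt : MultilinearMap R (fun _ : Fin d => R') R :=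
    ((eps b) ∘ₗ (LinearMap.mulLeft R t)).compMultilinearMap (tprod R)
  have hmt : ∀ p, mt p = eps b (t * tprod R p) := fun p => rfl
  have key : ∀ p : Fin d → R',
      delta b (t * tprod R p) = MultilinearMap.alternatization mt p := by
    intro p
    rw [delta_eq_sum, MultilinearMap.alternatization_apply]
    refine Finset.sum_congr rfl fun σ _ => ?_
    rw [map_mul, SymTen.perm_apply R R' d σ⁻¹ t, (SymTen.mem_TS_iff R R' d t).1 ht σ⁻¹,
      SymTen.perm_tprod, MultilinearMap.domDomCongr_apply, hmt]
    rfl
  have h2 := AlternatingMap.eq_smul_basis_det b (MultilinearMap.alternatization mt)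
  induction x using PiTensorProduct.induction_on with
  | smul_tprod r p =>
    have h3 := congrArg (fun f => f p) h2
    simp only [AlternatingMap.smul_apply] at h3
    rw [mul_smul_comm, map_smul, map_smul, key, key, delta_tprod, h3]
    simp only [smul_eq_mul]
    ring
  | add x y hx hy => rw [mul_add, map_add, map_add, mul_add, hx, hy]

/-- The factorwise action of the tensor power on itself is multiplication. -/
theorem tpowAct_eq_mul (t x : ⨂[R] _ : Fin d, R') : SymTen.tpowAct R R' R' d t x = t * x := by
  induction t using PiTensorProduct.induction_on with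
  | smul_tprod r a =>
    induction x using PiTensorProduct.induction_on with
    | smul_tprod r' p =>
      simp [SymTen.tpowAct, PiTensorProduct.tprod_mul_tprod]
      rfl
    | add x y hx hy => simp only [map_add, mul_add, hx, hy]
  | add t t' ht ht' => simp only [map_add, LinearMap.add_apply, add_mul, ht, ht']

theorem perm_single (σ : Equiv.Perm (Fin d)) (j : Fin d) (a : R') :
    SymTen.perm R R' d σ (PiTensorProduct.singleAlgHom (R := R) (A := fun _ : Fin d => R') j a) =
      PiTensorProduct.singleAlgHom (R := R) (A := fun _ : Fin d => R') (σ j) a := by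
  rw [PiTensorProduct.singleAlgHom_apply, PiTensorProduct.singleAlgHom_apply, SymTen.perm_tprod]
  congr 1
  funext i
  simp only [MonoidHom.mulSingle_apply, Pi.mulSingle_apply]
  by_cases h : i = σ j
  · subst h
    simp
  · have h' : σ.symm i ≠ j := fun h' => h (by rw [← h', Equiv.apply_symm_apply])
    simp [h, h']

end Main

section Univ

variable {R : Type u} [CommRing R] {R' : Type u} [CommRing R'] [Algebra R R'] {d : ℕ}

theorem tpowLaw_toFun' (S : Type u) [CommSemiring S] [Algebra R S] (y : S ⊗[R] R') :
    (SymTen.tpowLaw R R' d).law.toFun' S y =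
      ∏ j : Fin d, Algebra.TensorProduct.map (AlgHom.id S S)
        (PiTensorProduct.singleAlgHom (R := R) (A := fun _ : Fin d => R') j) y := rfl

/-- `perm σ` fixes the tensor power law. -/
theorem perm_tpowLaw (σ : Equiv.Perm (Fin d)) :
    PolLaw.postcomp (SymTen.perm R R' d σ).toLinearMap (SymTen.tpowLaw R R' d).law =
      (SymTen.tpowLaw R R' d).law := by
  apply PolynomialLaw.ext
  funext S _ _ y
  show (SymTen.perm R R' d σ).toLinearMap.lTensor S ((SymTen.tpowLaw R R' d).law.toFun' S y) = _
  rw [PolLaw.lTensor_algHom_apply, tpowLaw_toFun', map_prod]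
  have h : ∀ j : Fin d, Algebra.TensorProduct.map (AlgHom.id S S) (SymTen.perm R R' d σ)
      (Algebra.TensorProduct.map (AlgHom.id S S)
        (PiTensorProduct.singleAlgHom (R := R) (A := fun _ : Fin d => R') j) y) =
      Algebra.TensorProduct.map (AlgHom.id S S)
        (PiTensorProduct.singleAlgHom (R := R) (A := fun _ : Fin d => R') (σ j)) y := by
    intro j
    induction y using TensorProduct.induction_on with
    | zero => simp
    | tmul s a => simp only [Algebra.TensorProduct.map_tmul, perm_single, AlgHom.coe_id, id_eq]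
    | add x y hx hy => simp only [map_add, hx, hy]
  simp_rw [h]
  exact Equiv.prod_comp σ (fun j => Algebra.TensorProduct.map (AlgHom.id S S)
    (PiTensorProduct.singleAlgHom (R := R) (A := fun _ : Fin d => R') j) y)

variable {C : Type u} [CommRing C] [Algebra R C] (γ : PolLaw.MulLaw R R' C d)
  (hγ : PolLaw.IsGammaD γ) (φ : C →ₐ[R] (⨂[R] _ : Fin d, R'))
  (hφ : PolLaw.MulLaw.postcomp φ γ = SymTen.tpowLaw R R' d)

include hγ hφ in
theorem phi_mem_TS (c : C) : φ c ∈ SymTen.TS R R' d := by
  rw [SymTen.mem_TS_iff]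
  intro σ
  rw [← SymTen.perm_apply]
  have h1 : PolLaw.postcomp φ.toLinearMap γ.law = (SymTen.tpowLaw R R' d).law :=
    congrArg PolLaw.MulLaw.law hφ
  have h2 : PolLaw.postcomp ((SymTen.perm R R' d σ).comp φ).toLinearMap γ.law =
      (SymTen.tpowLaw R R' d).law := by
    rw [← perm_tpowLaw σ, ← h1]
    apply PolynomialLaw.ext
    funext S _ _ y
    show ((SymTen.perm R R' d σ).comp φ).toLinearMap.lTensor S (γ.law.toFun' S y) =
      (SymTen.perm R R' d σ).toLinearMap.lTensor S (φ.toLinearMap.lTensor S (γ.law.toFun' S y))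
    rw [← LinearMap.comp_apply, ← LinearMap.lTensor_comp]
    rfl
  have h3 := (hγ _ (SymTen.tpowLaw R R' d)).unique h2 h1
  exact congrArg (fun f => f c) h3

variable (b : Module.Basis (Fin d) R R')

/-- `t ↦ δ (t * e₀)`. -/
noncomputable def deltaP : (⨂[R] _ : Fin d, R') →ₗ[R] R :=
  delta b ∘ₗ LinearMap.mulRight R (tprod R (fun i => b i))

theorem deltaP_apply (t : ⨂[R] _ : Fin d, R') :
    deltaP b t = delta b (t * tprod R (fun i => b i)) := rfl

/-- The algebra map `C → R` given by the action on the top exterior power. -/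
noncomputable def psi : C →ₐ[R] R :=
  AlgHom.ofLinearMap (deltaP b ∘ₗ φ.toLinearMap)
    (by
      show delta b (φ 1 * tprod R (fun i => b i)) = 1
      rw [map_one, one_mul, delta_e0])
    (fun c c' => by
      show delta b (φ (c * c') * tprod R (fun i => b i)) =
        delta b (φ c * tprod R (fun i => b i)) * delta b (φ c' * tprod R (fun i => b i))
      rw [map_mul φ c c', mul_assoc, delta_mul_of_mem_TS b (phi_mem_TS γ hγ φ hφ c)])

theorem psi_apply (c : C) :
    psi γ hγ φ hφ b c = delta b (φ c * tprod R (fun i => b i)) := rfl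

theorem det_baseChange (S : Type u) [CommRing S] [Algebra R S] (v : Fin d → R') :
    (Algebra.TensorProduct.basis S b).det (fun j => (1 : S) ⊗ₜ[R] v j) =
      algebraMap R S (b.det v) := by
  rw [Module.Basis.det_apply, Module.Basis.det_apply, RingHom.map_det]
  congr 1
  ext i j
  simp [Module.Basis.toMatrix_apply, Algebra.TensorProduct.basis_repr_tmul]

theorem norm_eq_det (S : Type u) [CommRing S] [Algebra R S] (y : S ⊗[R] R') :
    Algebra.norm S y = (Algebra.TensorProduct.basis S b).det
      (fun j => y * Algebra.TensorProduct.basis S b j) := by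
  classical
  rw [Algebra.norm_eq_matrix_det (Algebra.TensorProduct.basis S b), Module.Basis.det_apply]
  congr 1
  ext i j
  rw [Algebra.leftMulMatrix_eq_repr_mul, Module.Basis.toMatrix_apply]

theorem prod_single (a : Fin d → R') :
    ∏ j, PiTensorProduct.singleAlgHom (R := R) (A := fun _ : Fin d => R') j (a j) =
      tprod R a := by
  simp only [PiTensorProduct.singleAlgHom_apply, MonoidHom.mulSingle_apply]
  rw [← PiTensorProduct.tprod_prod]
  exact congrArg _ (Finset.univ_prod_mulSingle a)

theorem key_identity (S : Type u) [CommRing S] [Algebra R S] (y : S ⊗[R] R') :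
    (deltaP b).lTensor S ((SymTen.tpowLaw R R' d).law.toFun' S y) =
      (Algebra.norm S y) ⊗ₜ[R] (1 : R) := by
  classical
  let BS := Algebra.TensorProduct.basis S b
  let Φ : Fin d → (S ⊗[R] R' →ₗ[S] S ⊗[R] (⨂[R] _ : Fin d, R')) := fun j =>
    (Algebra.TensorProduct.map (AlgHom.id S S)
      (PiTensorProduct.singleAlgHom (R := R) (A := fun _ : Fin d => R') j)).toLinearMap
  let F1 : MultilinearMap S (fun _ : Fin d => S ⊗[R] R') (S ⊗[R] R) :=
    ((deltaP b).baseChange S).compMultilinearMap
      ((MultilinearMap.mkPiAlgebra S (Fin d) (S ⊗[R] (⨂[R] _ : Fin d, R'))).compLinearMap Φ)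
  let incl : S →ₗ[S] S ⊗[R] R :=
    (Algebra.TensorProduct.includeLeft (R := R) (S := S) (A := S) (B := R)).toLinearMap
  let F2 : MultilinearMap S (fun _ : Fin d => S ⊗[R] R') (S ⊗[R] R) :=
    incl.compMultilinearMap
      (BS.det.toMultilinearMap.compLinearMap (fun j => LinearMap.mulRight S (BS j)))
  have hF : F1 = F2 := by
    refine Module.Basis.ext_multilinear (fun _ => BS) fun K => ?_
    show (deltaP b).baseChange S (∏ j, Φ j (BS (K j))) =
      (BS.det (fun j => BS (K j) * BS j)) ⊗ₜ[R] (1 : R)
    have h1 : ∀ j, Φ j (BS (K j)) = (1 : S) ⊗ₜ[R]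
        PiTensorProduct.singleAlgHom (R := R) (A := fun _ : Fin d => R') j (b (K j)) := by
      intro j
      show Algebra.TensorProduct.map (AlgHom.id S S) _ (BS (K j)) = _
      rw [Algebra.TensorProduct.basis_apply, Algebra.TensorProduct.map_tmul]
      rfl
    have h2 : ∏ j, ((1 : S) ⊗ₜ[R]
        PiTensorProduct.singleAlgHom (R := R) (A := fun _ : Fin d => R') j (b (K j))) =
        (1 : S) ⊗ₜ[R] tprod R (fun j => b (K j)) := by
      rw [← prod_single (fun j => b (K j))]
      exact (map_prod (Algebra.TensorProduct.includeRight :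
        (⨂[R] _ : Fin d, R') →ₐ[R] S ⊗[R] (⨂[R] _ : Fin d, R')) _ _).symm
    have h3 : ∀ j, BS (K j) * BS j = (1 : S) ⊗ₜ[R] (b (K j) * b j) := by
      intro j
      rw [Algebra.TensorProduct.basis_apply, Algebra.TensorProduct.basis_apply,
        Algebra.TensorProduct.tmul_mul_tmul, mul_one]
    simp_rw [h1, h3]
    rw [h2, LinearMap.baseChange_tmul, deltaP_apply, PiTensorProduct.tprod_mul_tprod,
      delta_tprod, det_baseChange, Algebra.algebraMap_eq_smul_one, TensorProduct.smul_tmul,
      smul_eq_mul, mul_one]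
    rfl
  have h4 := congrArg (fun F => F (fun _ => y)) hF
  rw [norm_eq_det b S y, tpowLaw_toFun']
  exact h4

include hγ hφ in
theorem psi_law [Module.Free R R'] [Module.Finite R R'] (hd : Module.finrank R R' = d) :
    PolLaw.postcomp (psi γ hγ φ hφ b).toLinearMap γ.law = (PolLaw.normLaw R R' d hd).law := by
  apply law_ext_ring
  intro S _ _ y
  rw [PolLaw.normLaw_apply]
  show (psi γ hγ φ hφ b).toLinearMap.lTensor S (γ.law.toFun' S y) = _
  have h1 : (psi γ hγ φ hφ b).toLinearMap = deltaP b ∘ₗ φ.toLinearMap := rfl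
  rw [h1, LinearMap.lTensor_comp, LinearMap.comp_apply]
  have h2 : φ.toLinearMap.lTensor S (γ.law.toFun' S y) =
      (SymTen.tpowLaw R R' d).law.toFun' S y :=
    congrArg (fun F : PolLaw.MulLaw R R' (⨂[R] _ : Fin d, R') d => F.law.toFun' S y) hφ
  rw [h2, key_identity]

end Univ

theorem main (R : Type u) [CommRing R] (R' : Type u) [CommRing R']
    [Algebra R R'] [Module.Free R R'] [Module.Finite R R'] (d : ℕ) (hd : Module.finrank R R' = d)
    {C : Type u} [CommRing C] [Algebra R C] (γ : PolLaw.MulLaw R R' C d) (hγ : PolLaw.IsGammaD γ)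
    (φ : C →ₐ[R] (⨂[R] _ : Fin d, R')) (hφ : PolLaw.MulLaw.postcomp φ γ = SymTen.tpowLaw R R' d)
    (π : C →ₐ[R] R) (hπ : PolLaw.MulLaw.postcomp π γ = PolLaw.normLaw R R' d hd)
    (c : C) (x : ⨂[R] _ : Fin d, R') :
    SymTen.tpowAct R R' R' d (φ c) x - π c • x ∈ SymTen.altSpan R R' d := by
  rcases subsingleton_or_nontrivial R with hR | hR
  · have : Subsingleton (⨂[R] _ : Fin d, R') := Module.subsingleton R _
    rw [Subsingleton.elim (SymTen.tpowAct R R' R' d (φ c) x - π c • x) 0]
    exact zero_mem _
  let b : Module.Basis (Fin d) R R' := Module.finBasisOfFinrankEq R R' hd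
  have hψ := psi_law γ hγ φ hφ b hd
  have hπ' : PolLaw.postcomp π.toLinearMap γ.law = (PolLaw.normLaw R R' d hd).law :=
    congrArg PolLaw.MulLaw.law hπ
  have heq : psi γ hγ φ hφ b = π := (hγ R (PolLaw.normLaw R R' d hd)).unique hψ hπ'
  apply mem_altSpan_of_delta_eq_zero b
  rw [tpowAct_eq_mul, map_sub, map_smul, delta_mul_of_mem_TS b (phi_mem_TS γ hγ φ hφ c), ← heq,
    psi_apply, smul_eq_mul, sub_self]

end Groth.Agent.Helper29.NormTop
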