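import Mathlib
import Groth.Prelude.Def_PolLaw2
import Groth.Agent.Lib.Helper29.NormTop

/-!
# The determinant law of a finitely generated projective module (helper29)
-/

open scoped TensorProduct

namespace Groth.Agent.Helper29.DetProj

universe u

section ProdModule

variable {A B M Q : Type u} [CommRing A] [CommRing B] [Algebra A B]
  [AddCommGroup M] [Module A M] [Module B M] [IsScalarTower A B M]
  [AddCommGroup Q] [Module A Q]

/-- `B × A` acts on `M × Q` componentwise. -/
@[instance_reducible] def prodModule : Module (B × A) (M × Q) where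
  smul c x := (c.1 • x.1, c.2 • x.2)
  one_smul x := Prod.ext (one_smul _ _) (one_smul _ _)
  mul_smul c d x := Prod.ext (mul_smul _ _ _) (mul_smul _ _ _)
  smul_zero c := Prod.ext (smul_zero _) (smul_zero _)
  smul_add c x y := Prod.ext (smul_add _ _ _) (smul_add _ _ _)
  add_smul c d x := Prod.ext (add_smul _ _ _) (add_smul _ _ _)
  zero_smul x := Prod.ext (zero_smul _ _) (zero_smul _ _)

attribute [local instance] prodModule

theorem prod_smul_def (c : B × A) (x : M × Q) : c • x = (c.1 • x.1, c.2 • x.2) := rfl

instance prodTower : IsScalarTower A (B × A) (M × Q) where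
  smul_assoc a c x := by
    refine Prod.ext ?_ ?_
    · show (a • c.1) • x.1 = a • (c.1 • x.1)
      exact smul_assoc a c.1 x.1
    · show (a • c.2) • x.2 = a • (c.2 • x.2)
      exact smul_assoc a c.2 x.2

end ProdModule

section Law

variable {A B M Q : Type u} [CommRing A] [CommRing B] [Algebra A B]
  [AddCommGroup M] [Module A M] [Module B M] [IsScalarTower A B M]
  [AddCommGroup Q] [Module A Q]

attribute [local instance] prodModule

/-- `x ↦ (x, 1)`, from `S ⊗ B` to `S ⊗ (B × A)`. -/
noncomputable def incl (S : Type u) [CommSemiring S] [Algebra A S] (x : S ⊗[A] B) :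
    S ⊗[A] (B × A) :=
  (LinearMap.inl A B A).lTensor S x + (1 : S) ⊗ₜ[A] ((0, 1) : B × A)

theorem inl_mul (S : Type u) [CommSemiring S] [Algebra A S] (x y : S ⊗[A] B) :
    (LinearMap.inl A B A).lTensor S (x * y) =
      (LinearMap.inl A B A).lTensor S x * (LinearMap.inl A B A).lTensor S y := by
  induction x using TensorProduct.induction_on with
  | zero => simp
  | tmul s b =>
    induction y using TensorProduct.induction_on with
    | zero => simp
    | tmul t c =>
      simp [Algebra.TensorProduct.tmul_mul_tmul, LinearMap.lTensor_tmul]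
    | add y y' hy hy' => simp only [mul_add, map_add, hy, hy']
  | add x x' hx hx' => simp only [add_mul, map_add, hx, hx']

theorem inl_mul_e2 (S : Type u) [CommSemiring S] [Algebra A S] (x : S ⊗[A] B) :
    (LinearMap.inl A B A).lTensor S x * ((1 : S) ⊗ₜ[A] ((0, 1) : B × A)) = 0 := by
  induction x using TensorProduct.induction_on with
  | zero => simp
  | tmul s b =>
    simp [Algebra.TensorProduct.tmul_mul_tmul, LinearMap.lTensor_tmul]
    exact TensorProduct.tmul_zero (B × A) s
  | add x x' hx hx' => simp only [add_mul, map_add, hx, hx', add_zero]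

theorem e2_mul_e2 (S : Type u) [CommSemiring S] [Algebra A S] :
    ((1 : S) ⊗ₜ[A] ((0, 1) : B × A)) * ((1 : S) ⊗ₜ[A] ((0, 1) : B × A)) =
      (1 : S) ⊗ₜ[A] ((0, 1) : B × A) := by
  simp [Algebra.TensorProduct.tmul_mul_tmul]

theorem incl_one (S : Type u) [CommSemiring S] [Algebra A S] :
    incl (A := A) (B := B) S 1 = 1 := by
  rw [incl, Algebra.TensorProduct.one_def, LinearMap.lTensor_tmul, ← TensorProduct.tmul_add]
  simp [Algebra.TensorProduct.one_def]
  rfl

theorem incl_mul (S : Type u) [CommSemiring S] [Algebra A S] (x y : S ⊗[A] B) :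
    incl S (x * y) = incl S x * incl S y := by
  simp only [incl]
  rw [add_mul, mul_add, mul_add, ← inl_mul, inl_mul_e2, mul_comm _ ((LinearMap.inl A B A).lTensor S y),
    inl_mul_e2, e2_mul_e2, add_zero, zero_add]

theorem incl_rTensor {S S' : Type u} [CommSemiring S] [Algebra A S] [CommSemiring S']
    [Algebra A S'] (φ : S →ₐ[A] S') (x : S ⊗[A] B) :
    φ.toLinearMap.rTensor (B × A) (incl S x) = incl S' (φ.toLinearMap.rTensor B x) := by
  simp only [incl, map_add, LinearMap.rTensor_tmul, AlgHom.toLinearMap_apply, map_one]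
  congr 1
  rw [← LinearMap.comp_apply, LinearMap.rTensor_comp_lTensor, ← LinearMap.lTensor_comp_rTensor,
    LinearMap.comp_apply]

variable (A B M Q)
variable [Module.Free A (M × Q)] [Module.Finite A (M × Q)]

/-- The determinant law of `B` acting on the direct summand `M` of the finite free module
`M × Q`. -/
noncomputable def detLawProj : B →ₚₗ[A] A where
  toFun' S _ _ x :=
    (PolLaw.detLaw (A := A) (B := B × A) (M := M × Q) (Module.finrank A (M × Q)) rfl).law.toFun' S
      (incl S x)
  isCompat' {S} _ _ {S'} _ _ φ := by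
    funext x
    simp only [Function.comp_apply]
    rw [PolynomialLaw.isCompat_apply', incl_rTensor]

theorem detLawProj_toFun' (S : Type u) [CommSemiring S] [Algebra A S] (x : S ⊗[A] B) :
    (detLawProj A B M Q).toFun' S x =
      PolLaw.detFun A (B × A) (M × Q) S (incl S x) := rfl

theorem detLawProj_isMult : PolLaw.IsMult (detLawProj A B M Q) := by
  intro S _ _
  refine ⟨?_, fun x y => ?_⟩
  · rw [detLawProj_toFun', incl_one, PolLaw.detFun_one]
  · rw [detLawProj_toFun', detLawProj_toFun', detLawProj_toFun', incl_mul, PolLaw.detFun_mul]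

end Law

section Local

variable {A B M Q : Type u} [CommRing A] [CommRing B] [Algebra A B]
  [AddCommGroup M] [Module A M] [Module B M] [IsScalarTower A B M]
  [AddCommGroup Q] [Module A Q]

attribute [local instance] prodModule

variable (S : Type u) [CommRing S] [Algebra A S]

theorem E_act_inl (x : S ⊗[A] B) (z : S ⊗[A] (M × Q)) :
    TensorProduct.prodRight A S S M Q
        (PolLaw.actEnd (M × Q) S ((LinearMap.inl A B A).lTensor S x) z) =
      (PolLaw.actEnd M S x (TensorProduct.prodRight A S S M Q z).1, 0) := by
  induction x using TensorProduct.induction_on with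
  | zero =>
    simp
    rfl
  | tmul s b =>
    induction z using TensorProduct.induction_on with
    | zero =>
      simp
      rfl
    | tmul t mq =>
      rw [LinearMap.lTensor_tmul, PolLaw.actEnd_tmul_tmul, TensorProduct.prodRight_tmul,
        TensorProduct.prodRight_tmul, PolLaw.actEnd_tmul_tmul]
      refine Prod.ext ?_ ?_
      · rfl
      · show (s * t) ⊗ₜ[A] ((0 : A) • mq.2) = 0
        rw [zero_smul, TensorProduct.tmul_zero]
    | add z z' hz hz' =>
      rw [map_add, map_add, hz, hz', map_add, Prod.fst_add, map_add, Prod.mk_add_mk, add_zero]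
  | add x x' hx hx' =>
    simp only [map_add, LinearMap.add_apply, hx, hx', Prod.mk_add_mk, add_zero]

theorem E_act_e2 (z : S ⊗[A] (M × Q)) :
    TensorProduct.prodRight A S S M Q
        (PolLaw.actEnd (M × Q) S ((1 : S) ⊗ₜ[A] ((0, 1) : B × A)) z) =
      (0, (TensorProduct.prodRight A S S M Q z).2) := by
  induction z using TensorProduct.induction_on with
  | zero =>
    simp
    rfl
  | tmul t mq =>
    rw [PolLaw.actEnd_tmul_tmul, TensorProduct.prodRight_tmul, TensorProduct.prodRight_tmul]
    refine Prod.ext ?_ ?_
    · show (1 * t) ⊗ₜ[A] ((0 : B) • mq.1) = 0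
      rw [zero_smul, TensorProduct.tmul_zero]
    · show (1 * t) ⊗ₜ[A] ((1 : A) • mq.2) = t ⊗ₜ[A] mq.2
      rw [one_smul, one_mul]
  | add z z' hz hz' =>
    rw [map_add, map_add, hz, hz', map_add, Prod.snd_add, Prod.mk_add_mk, add_zero]

theorem det_eq [IsLocalRing S] [Module.Finite A M] [Module.Projective A M] [Module.Finite A Q]
    [Module.Projective A Q] (x : S ⊗[A] B) :
    PolLaw.detAct (M × Q) S (incl S x) = PolLaw.detAct M S x := by
  have : Module.Free S (S ⊗[A] M) := Module.free_of_flat_of_isLocalRing
  have : Module.Free S (S ⊗[A] Q) := Module.free_of_flat_of_isLocalRing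
  unfold PolLaw.detAct
  have hconj : (TensorProduct.prodRight A S S M Q).toLinearMap ∘ₗ
      (PolLaw.actEnd (M × Q) S (incl S x)) ∘ₗ
      (TensorProduct.prodRight A S S M Q).symm.toLinearMap =
      LinearMap.prodMap (PolLaw.actEnd M S x) LinearMap.id := by
    apply LinearMap.ext
    intro w
    obtain ⟨z, rfl⟩ := (TensorProduct.prodRight A S S M Q).surjective w
    simp only [LinearMap.comp_apply, LinearEquiv.coe_coe, LinearEquiv.symm_apply_apply]
    rw [incl, map_add, LinearMap.add_apply, map_add, E_act_inl, E_act_e2]
    simp [LinearMap.prodMap_apply]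
  rw [← LinearMap.det_conj _ (TensorProduct.prodRight A S S M Q), hconj, LinearMap.det_prodMap,
    LinearMap.det_id, mul_one]

end Local

section Main

variable {A : Type u} [CommRing A]

attribute [local instance] prodModule

theorem rid_rTensor {S S' : Type u} [CommRing S] [Algebra A S] [CommRing S'] [Algebra A S']
    (φ : S →ₐ[A] S') (w : S ⊗[A] A) :
    TensorProduct.rid A S' (φ.toLinearMap.rTensor A w) = φ (TensorProduct.rid A S w) := by
  induction w using TensorProduct.induction_on with
  | zero => simp
  | tmul s a => simp [LinearMap.rTensor_tmul]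
  | add w w' hw hw' => simp only [map_add, hw, hw']

theorem main {B M : Type u} [CommRing B] [Algebra A B]
    [AddCommGroup M] [Module A M] [Module B M] [IsScalarTower A B M] [Module.Finite A M]
    [Module.Projective A M] :
    ∃! N : B →ₚₗ[A] A, PolLaw.IsMult N ∧
      ∀ (S : Type u) [CommRing S] [IsLocalRing S] [Algebra A S] (x : S ⊗[A] B),
        N.toFun' S x = PolLaw.detAct M S x ⊗ₜ[A] (1 : A) := by
  obtain ⟨n, f, g, hf, hg, hfg⟩ := Module.Finite.exists_comp_eq_id_of_projective A M
  have hfg' : ∀ m, f (g m) = m := fun m => LinearMap.congr_fun hfg m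
  let Q := LinearMap.ker f
  have hmem : ∀ v : Fin n → A, v - g (f v) ∈ Q := by
    intro v
    show f (v - g (f v)) = 0
    rw [map_sub, hfg', sub_self]
  let e₀ : (M × Q) ≃ₗ[A] (Fin n → A) :=
    { toFun := fun x => g x.1 + x.2.1
      map_add' := fun x y => by
        simp only [Prod.fst_add, Prod.snd_add, map_add, Submodule.coe_add]
        abel
      map_smul' := fun a x => by
        simp only [Prod.smul_fst, Prod.smul_snd, map_smul, Submodule.coe_smul, RingHom.id_apply,
          smul_add]
      invFun := fun v => (f v, ⟨v - g (f v), hmem v⟩)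
      left_inv := fun x => by
        have hx : f x.2.1 = 0 := x.2.2
        refine Prod.ext ?_ (Subtype.ext ?_)
        · simp only [map_add, hfg', hx, add_zero]
        · simp only [map_add, hfg', hx, add_zero, add_sub_cancel_left]
      right_inv := fun v => by
        simp only [add_sub_cancel] }
  have hfree : Module.Free A (M × Q) := Module.Free.of_equiv e₀.symm
  have hfin : Module.Finite A (M × Q) := Module.Finite.equiv e₀.symm
  let sQ : (Fin n → A) →ₗ[A] Q :=
    { toFun := fun v => ⟨v - g (f v), hmem v⟩
      map_add' := fun v w => Subtype.ext (by simp only [map_add, Submodule.coe_add]; abel)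
      map_smul' := fun a v => Subtype.ext (by
        simp only [map_smul, Submodule.coe_smul, RingHom.id_apply, smul_sub]) }
  have hsQ : ∀ q : Q, sQ q.1 = q := by
    intro q
    apply Subtype.ext
    show q.1 - g (f q.1) = q.1
    have hq : f q.1 = 0 := q.2
    rw [hq, map_zero, sub_zero]
  have hprojQ : Module.Projective A Q :=
    Module.Projective.of_split Q.subtype sQ (LinearMap.ext hsQ)
  have hfinQ : Module.Finite A Q :=
    Module.Finite.of_surjective sQ (fun q => ⟨q.1, hsQ q⟩)
  refine ⟨detLawProj A B M Q, ⟨detLawProj_isMult A B M Q, ?_⟩, ?_⟩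
  · intro S _ _ _ x
    rw [detLawProj_toFun', PolLaw.detFun_eq_detAct, det_eq]
  · rintro N' ⟨-, hN'⟩
    apply NormTop.law_ext_ring
    intro S _ _ x
    apply (TensorProduct.rid A S).injective
    rw [← sub_eq_zero]
    apply eq_zero_of_localization
    intro J hJ
    let φ : S →ₐ[A] Localization.AtPrime J := IsScalarTower.toAlgHom A S (Localization.AtPrime J)
    have h1 := rid_rTensor φ (N'.toFun' S x)
    have h2 := rid_rTensor φ ((detLawProj A B M Q).toFun' S x)
    rw [PolynomialLaw.isCompat_apply'] at h1 h2
    rw [hN' (Localization.AtPrime J)] at h1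
    rw [detLawProj_toFun', PolLaw.detFun_eq_detAct, det_eq] at h2
    rw [map_sub]
    show φ (TensorProduct.rid A S (N'.toFun' S x)) -
      φ (TensorProduct.rid A S ((detLawProj A B M Q).toFun' S x)) = 0
    rw [← h1, ← h2, sub_self]

end Main

end Groth.Agent.Helper29.DetProj
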