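import Mathlib

set_option autoImplicit false

namespace Groth.Agent.Helper29.AbhyA

open IsLocalRing Valuation MvPolynomial

universe u

section
variable {K L Γ₀ Γ₁ : Type u} [Field K] [Field L] [Algebra K L]
  [LinearOrderedCommGroupWithZero Γ₀] [LinearOrderedCommGroupWithZero Γ₁]
  (vK : Valuation K Γ₀) (vL : Valuation L Γ₁) [vK.HasExtension vL]

theorem residue_aeval {J : Type*} (y : J → vL.valuationSubring)
    (c : MvPolynomial J vK.valuationSubring) :
    IsLocalRing.residue vL.valuationSubring (aeval y c) =
      aeval (fun j => IsLocalRing.residue vL.valuationSubring (y j))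
        (map (IsLocalRing.residue vK.valuationSubring) c) := by
  induction c using MvPolynomial.induction_on with
  | C a =>
    simp only [aeval_C, map_C]
    exact (HasExtension.algebraMap_residue_eq_residue_algebraMap vK vL a).symm
  | add p q hp hq => simp only [map_add, hp, hq]
  | mul_X p j hp => simp only [map_mul, hp, aeval_X, map_X]

theorem coe_aeval {J : Type*} (y : J → vL.valuationSubring)
    (c : MvPolynomial J vK.valuationSubring) :
    ((aeval y c : vL.valuationSubring) : L) =
      aeval (fun j => (y j : L)) (map (algebraMap vK.valuationSubring K) c) := by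
  induction c using MvPolynomial.induction_on with
  | C a =>
    simp only [aeval_C, map_C]
    rfl
  | add p q hp hq =>
    simp only [map_add, ← hp, ← hq]
    rfl
  | mul_X p j hp =>
    simp only [map_mul, ← hp, aeval_X, map_X]
    rfl

theorem gauss {J : Type*} (y : J → vL.valuationSubring)
    (hy : AlgebraicIndependent (ResidueField vK.valuationSubring)
      (fun j => IsLocalRing.residue vL.valuationSubring (y j)))
    (c : MvPolynomial J K) (hc : c ≠ 0) :
    ∃ k : K, k ≠ 0 ∧ vL (aeval (fun j => (y j : L)) c) = vL (algebraMap K L k) := by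
  classical
  obtain ⟨m₀, hm₀, hmax⟩ := Finset.exists_max_image c.support (fun m => vK (coeff m c))
    (support_nonempty.mpr hc)
  set k := coeff m₀ c with hk
  have hk0 : k ≠ 0 := mem_support_iff.mp hm₀
  have hvk0 : vK k ≠ 0 := (vK.ne_zero_iff).mpr hk0
  refine ⟨k, hk0, ?_⟩
  set c' := C k⁻¹ * c with hc'
  have hcoef : ∀ m, coeff m c' = k⁻¹ * coeff m c := fun m => coeff_C_mul m k⁻¹ c
  have hle : ∀ m, vK (coeff m c') ≤ 1 := by
    intro m
    rw [hcoef, map_mul, map_inv₀]
    by_cases hm : m ∈ c.support
    · have h1 := hmax m hm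
      calc (vK k)⁻¹ * vK (coeff m c) ≤ (vK k)⁻¹ * vK k := by gcongr
        _ = 1 := inv_mul_cancel₀ hvk0
    · rw [notMem_support_iff.mp hm]; simp
  obtain ⟨c'', hc''⟩ : c' ∈ Set.range (map (algebraMap vK.valuationSubring K)) := by
    rw [mem_range_map_iff_coeffs_subset]
    intro a ha
    obtain ⟨m, hm, rfl⟩ := mem_coeffs_iff.mp ha
    exact ⟨⟨coeff m c', hle m⟩, rfl⟩
  have h1 : coeff m₀ (map (IsLocalRing.residue vK.valuationSubring) c'') = 1 := by
    rw [coeff_map]
    have h2 : ((coeff m₀ c'' : vK.valuationSubring) : K) = 1 := by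
      have h3 := congrArg (coeff m₀) hc''
      rw [coeff_map, hcoef] at h3
      have h4 : algebraMap vK.valuationSubring K (coeff m₀ c'') = k⁻¹ * k := h3
      rw [inv_mul_cancel₀ hk0] at h4
      exact h4
    have h5 : coeff m₀ c'' = 1 := Subtype.ext h2
    rw [h5, map_one]
  have hne : map (IsLocalRing.residue vK.valuationSubring) c'' ≠ 0 := by
    intro h
    rw [h, coeff_zero] at h1
    exact zero_ne_one h1
  have hres : IsLocalRing.residue vL.valuationSubring (aeval y c'') ≠ 0 := by
    rw [residue_aeval]
    intro h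
    exact hne ((algebraicIndependent_iff.mp hy) _ h)
  have hunit : IsUnit (aeval y c'' : vL.valuationSubring) := by
    by_contra hnu
    exact hres ((IsLocalRing.residue_eq_zero_iff _).mpr ((mem_maximalIdeal _).mpr hnu))
  have hv1 : vL ((aeval y c'' : vL.valuationSubring) : L) = 1 :=
    (Valuation.valuationSubring.integers vL).one_of_isUnit hunit
  rw [coe_aeval, hc'', hc', map_mul, aeval_C, map_mul, map_inv₀, map_inv₀] at hv1
  have hvk0' : vL (algebraMap K L k) ≠ 0 :=
    (vL.ne_zero_iff).mpr (by simpa using hk0)
  calc vL (aeval (fun j => (y j : L)) c)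
      = vL (algebraMap K L k) * ((vL (algebraMap K L k))⁻¹ * vL (aeval (fun j => (y j : L)) c)) := by
        rw [← mul_assoc, mul_inv_cancel₀ hvk0', one_mul]
    _ = vL (algebraMap K L k) := by rw [hv1, mul_one]

end

end Groth.Agent.Helper29.AbhyA
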