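import Mathlib
import Groth.Agent.Lib.Helper29.AbhyA

set_option autoImplicit false

namespace Groth.Agent.Helper29.AbhyB

open IsLocalRing Valuation MvPolynomial

universe u

section
variable {K L Γ₀ Γ₁ : Type u} [Field K] [Field L] [Algebra K L]
  [LinearOrderedCommGroupWithZero Γ₀] [LinearOrderedCommGroupWithZero Γ₁]
  (vL : Valuation L Γ₁)

/-- the subgroup we quotient by -/
noncomputable abbrev HH : Subgroup Lˣ :=
  vL.valuationSubring.unitGroup ⊔ (Units.map (algebraMap K L).toMonoidHom).range

abbrev QQ : Type u := Additive Lˣ ⧸ Subgroup.toAddSubgroup (HH (K := K) vL)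

/-- monomial in units -/
noncomputable def XX {I : Type*} (x : I → Lˣ) (m : I →₀ ℕ) : Lˣ := m.prod (fun i n => x i ^ n)

theorem coe_XX {I : Type*} (x : I → Lˣ) (m : I →₀ ℕ) :
    ((XX x m : Lˣ) : L) = m.prod (fun i n => (x i : L) ^ n) := by
  unfold XX Finsupp.prod
  rw [Units.coe_prod]
  simp

theorem mk_XX {I : Type*} (x : I → Lˣ) (m : I →₀ ℕ) :
    (QuotientAddGroup.mk (Additive.ofMul (XX x m)) : QQ (K := K) vL) =
      Finsupp.linearCombination ℤ
        (fun i => (QuotientAddGroup.mk (Additive.ofMul (x i)) : QQ (K := K) vL))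
        (m.mapRange (Nat.cast : ℕ → ℤ) (by simp)) := by
  rw [Finsupp.linearCombination_apply, Finsupp.sum_mapRange_index (by simp)]
  unfold XX Finsupp.prod Finsupp.sum
  rw [ofMul_prod]
  rw [← QuotientAddGroup.mk'_apply, map_sum]
  refine Finset.sum_congr rfl ?_
  intro i _
  rw [ofMul_pow, map_nsmul]
  show _ = ((m i : ℕ) : ℤ) • _
  rw [natCast_zsmul]
  rfl

theorem XX_eq_of_val {I : Type*} (x : I → Lˣ)
    (hx : LinearIndependent ℤ
      (fun i => (QuotientAddGroup.mk (Additive.ofMul (x i)) : QQ (K := K) vL)))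
    (m m' : I →₀ ℕ) (k k' : K) (hk : k ≠ 0) (hk' : k' ≠ 0)
    (h : vL (algebraMap K L k) * vL (XX x m : Lˣ) = vL (algebraMap K L k') * vL (XX x m' : Lˣ)) :
    m = m' := by
  have hinj : Function.Injective (Nat.cast : ℕ → ℤ) := Nat.cast_injective
  apply Finsupp.mapRange_injective (Nat.cast : ℕ → ℤ) (by simp) hinj
  apply hx
  rw [← mk_XX, ← mk_XX]
  rw [QuotientAddGroup.eq]
  -- membership
  let κ : Kˣ := Units.mk0 (k / k') (div_ne_zero hk hk')
  let w : Lˣ := Units.map (algebraMap K L).toMonoidHom κ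
  let uu : Lˣ := (XX x m)⁻¹ * XX x m' * w⁻¹
  have hw : ((w : Lˣ) : L) = algebraMap K L k / algebraMap K L k' := by
    simp [w, κ]
  have huu : uu ∈ vL.valuationSubring.unitGroup := by
    rw [ValuationSubring.mem_unitGroup_iff,
      ← (isEquiv_valuation_valuationSubring vL).eq_one_iff_eq_one]
    have hkL : vL (algebraMap K L k) ≠ 0 := (vL.ne_zero_iff).mpr (by simpa using hk)
    have hkL' : vL (algebraMap K L k') ≠ 0 := (vL.ne_zero_iff).mpr (by simpa using hk')
    have hXm : vL (XX x m : Lˣ) ≠ 0 := (vL.ne_zero_iff).mpr (Units.ne_zero _)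
    have hXm' : vL (XX x m' : Lˣ) ≠ 0 := (vL.ne_zero_iff).mpr (Units.ne_zero _)
    simp only [uu, Units.val_mul, Units.val_inv_eq_inv_val, hw, map_mul, map_inv₀, map_div₀]
    field_simp
    rw [mul_comm, ← h, mul_comm]
  have hmem : (XX x m)⁻¹ * XX x m' ∈ HH (K := K) vL := by
    have : (XX x m)⁻¹ * XX x m' = uu * w := by
      simp [uu]
    rw [this]
    exact Subgroup.mul_mem_sup huu ⟨κ, rfl⟩
  exact hmem

theorem algInd_of_values {I : Type*} (A : Subalgebra K L)
    (hA : ∀ a : A, a ≠ 0 → ∃ k : K, k ≠ 0 ∧ vL (a : L) = vL (algebraMap K L k))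
    (x : I → Lˣ)
    (hx : LinearIndependent ℤ
      (fun i => (QuotientAddGroup.mk (Additive.ofMul (x i)) : QQ (K := K) vL))) :
    AlgebraicIndependent A (fun i => (x i : L)) := by
  classical
  rw [algebraicIndependent_iff]
  intro p hp
  by_contra hp0
  let t : (I →₀ ℕ) → L := fun m => ((coeff m p : A) : L) * ((XX x m : Lˣ) : L)
  have hsum : aeval (fun i => (x i : L)) p = ∑ m ∈ p.support, t m := by
    rw [aeval_def, eval₂_eq]
    refine Finset.sum_congr rfl ?_
    intro m _
    simp only [t, coe_XX]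
    rfl
  obtain ⟨m₀, hm₀, hmax⟩ := Finset.exists_max_image p.support (fun m => vL (t m))
    (support_nonempty.mpr hp0)
  have ht0 : ∀ m ∈ p.support, vL (t m) ≠ 0 := by
    intro m hm
    rw [vL.ne_zero_iff]
    refine mul_ne_zero ?_ (Units.ne_zero _)
    have : coeff m p ≠ 0 := mem_support_iff.mp hm
    exact fun h => this (Subtype.ext h)
  have key : ∀ m ∈ p.support, ∀ m' ∈ p.support, vL (t m) = vL (t m') → m = m' := by
    intro m hm m' hm' heq
    obtain ⟨k, hk, hkv⟩ := hA (coeff m p) (mem_support_iff.mp hm)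
    obtain ⟨k', hk', hkv'⟩ := hA (coeff m' p) (mem_support_iff.mp hm')
    refine XX_eq_of_val vL x hx m m' k k' hk hk' ?_
    rw [← hkv, ← hkv', ← map_mul, ← map_mul]
    exact heq
  have hlt : ∀ m ∈ p.support \ {m₀}, vL (t m) < vL (t m₀) := by
    intro m hm
    rw [Finset.mem_sdiff, Finset.mem_singleton] at hm
    refine lt_of_le_of_ne (hmax m hm.1) ?_
    intro heq
    exact hm.2 (key m hm.1 m₀ hm₀ heq)
  have hfin := vL.map_sum_eq_of_lt hm₀ hlt
  rw [← hsum, hp, map_zero] at hfin
  exact ht0 m₀ hm₀ hfin.symm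

end

section
variable {K L Γ₀ Γ₁ : Type u} [Field K] [Field L] [Algebra K L]
  [LinearOrderedCommGroupWithZero Γ₀] [LinearOrderedCommGroupWithZero Γ₁]
  (vK : Valuation K Γ₀) (vL : Valuation L Γ₁) [vK.HasExtension vL]

theorem algInd_sum {I J : Type*} (x : I → Lˣ)
    (hx : LinearIndependent ℤ
      (fun i => (QuotientAddGroup.mk (Additive.ofMul (x i)) : QQ (K := K) vL)))
    (y : J → vL.valuationSubring)
    (hy : AlgebraicIndependent (ResidueField vK.valuationSubring)
      (fun j => IsLocalRing.residue vL.valuationSubring (y j))) :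
    AlgebraicIndependent K (Sum.elim (fun i => (x i : L)) (fun j => (y j : L))) := by
  rw [AlgebraicIndependent.sumElim_iff]
  have hyK : AlgebraicIndependent K (fun j => (y j : L)) := by
    rw [algebraicIndependent_iff]
    intro c hc
    by_contra hc0
    obtain ⟨k, hk, hkv⟩ := AbhyA.gauss vK vL y hy c hc0
    rw [hc, map_zero] at hkv
    exact (vL.ne_zero_iff.mpr (by simpa using hk)) hkv.symm
  refine ⟨hyK, ?_⟩
  refine algInd_of_values vL _ ?_ x hx
  intro a ha
  obtain ⟨a, hmem⟩ := a
  rw [Algebra.adjoin_range_eq_range_aeval] at hmem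
  obtain ⟨c, rfl⟩ := hmem
  have hc0 : c ≠ 0 := by
    rintro rfl
    exact ha (Subtype.ext (by simp))
  exact AbhyA.gauss vK vL y hy c hc0

theorem main :
    Module.rank ℤ (Additive Lˣ ⧸ Subgroup.toAddSubgroup
        (vL.valuationSubring.unitGroup ⊔ (Units.map (algebraMap K L).toMonoidHom).range)) +
      Algebra.trdeg (IsLocalRing.ResidueField vK.valuationSubring)
        (IsLocalRing.ResidueField vL.valuationSubring) ≤ Algebra.trdeg K L := by
  obtain ⟨s, hs, hsli⟩ := exists_set_linearIndependent ℤ (QQ (K := K) vL)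
  obtain ⟨t, ht⟩ := exists_isTranscendenceBasis (IsLocalRing.ResidueField vK.valuationSubring)
    (IsLocalRing.ResidueField vL.valuationSubring)
  choose x hx using fun q : s => QuotientAddGroup.mk_surjective (q : QQ (K := K) vL)
  choose y hy using fun r : t => IsLocalRing.residue_surjective (r : IsLocalRing.ResidueField vL.valuationSubring)
  have hxli : LinearIndependent ℤ
      (fun q : s => (QuotientAddGroup.mk (Additive.ofMul (Additive.toMul (x q))) : QQ (K := K) vL)) := by
    have : (fun q : s => (QuotientAddGroup.mk (Additive.ofMul (Additive.toMul (x q))) : QQ (K := K) vL))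
        = Subtype.val := by
      funext q
      exact hx q
    rw [this]
    exact hsli
  have hyai : AlgebraicIndependent (ResidueField vK.valuationSubring)
      (fun r : t => IsLocalRing.residue vL.valuationSubring (y r)) := by
    have : (fun r : t => IsLocalRing.residue vL.valuationSubring (y r)) = Subtype.val := by
      funext r
      exact hy r
    rw [this]
    exact ht.1
  have hai := algInd_sum vK vL (fun q : s => Additive.toMul (x q)) hxli y hyai
  have hcard := hai.cardinalMk_le_trdeg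
  rw [Cardinal.mk_sum, Cardinal.lift_id, Cardinal.lift_id, ht.cardinalMk_eq_trdeg, hs] at hcard
  exact hcard

end

end Groth.Agent.Helper29.AbhyB
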