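import Mathlib

namespace Groth.Agent.Helper29.AcycCopA

open CategoryTheory CategoryTheory.Limits

universe w u v
variable {A : Type u} [Category.{v} A] [Abelian A]

/-- pointwise exact short complexes in a functor category are exact -/
lemma exact_of_evaluation {D : Type*} [Category D] (S : ShortComplex (D ⥤ A))
    (h : ∀ d, (S.map ((evaluation D A).obj d)).Exact) : S.Exact := by
  simp only [ShortComplex.exact_iff_isZero_homology] at h ⊢
  rw [IsZero.iff_id_eq_zero]
  ext d
  apply (IsZero.of_iso (h d) (S.mapHomologyIso ((evaluation D A).obj d)).symm).eq_of_src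

variable {J : Type w} [HasColimitsOfShape (Discrete J) A] [HasExactColimitsOfShape (Discrete J) A]

/-- the coproduct of short complexes -/
noncomputable def sigmaSC (S : J → ShortComplex A) : ShortComplex A :=
  ShortComplex.mk (Limits.Sigma.map fun j => (S j).f) (Limits.Sigma.map fun j => (S j).g) (by
    ext j
    simp)

lemma sigmaSC_exact (S : J → ShortComplex A) (h : ∀ j, (S j).Exact) : (sigmaSC S).Exact := by
  let T : ShortComplex (Discrete J ⥤ A) :=
    ShortComplex.mk (Discrete.natTrans (F := Discrete.functor fun j => (S j).X₁)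
      (G := Discrete.functor fun j => (S j).X₂) fun j => (S j.as).f)
      (Discrete.natTrans (F := Discrete.functor fun j => (S j).X₂)
      (G := Discrete.functor fun j => (S j).X₃) fun j => (S j.as).g) (by
        ext ⟨j⟩
        simp)
  have hT : T.Exact := exact_of_evaluation T (fun ⟨j⟩ => h j)
  exact hT.map (colim : (Discrete J ⥤ A) ⥤ A)


section cop

variable (K : J → CochainComplex A ℤ)

/-- the degreewise coproduct complex -/
noncomputable def cop : CochainComplex A ℤ where
  X n := ∐ fun j => (K j).X n
  d n m := Limits.Sigma.map fun j => (K j).d n m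
  shape n m h := by
    ext j
    simp [(K j).shape n m h]
  d_comp_d' n m k _ _ := by
    ext j
    simp

/-- inclusion -/
noncomputable def copι (j : J) : K j ⟶ cop K where
  f n := Sigma.ι (fun j => (K j).X n) j
  comm' n m _ := by
    simp [cop]

variable {K}

/-- descent -/
noncomputable def copDesc {M : CochainComplex A ℤ} (f : ∀ j, K j ⟶ M) : cop K ⟶ M where
  f n := Sigma.desc fun j => (f j).f n
  comm' n m _ := by
    dsimp only [cop]
    ext j
    simp

omit [HasExactColimitsOfShape (Discrete J) A] in
@[reassoc (attr := simp)]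
lemma copι_desc {M : CochainComplex A ℤ} (f : ∀ j, K j ⟶ M) (j : J) :
    copι K j ≫ copDesc f = f j := by
  ext n
  exact Sigma.ι_desc _ _

omit [HasExactColimitsOfShape (Discrete J) A] in
lemma cop_hom_ext {M : CochainComplex A ℤ} (g g' : cop K ⟶ M)
    (h : ∀ j, copι K j ≫ g = copι K j ≫ g') : g = g' := by
  ext n
  dsimp only [cop]
  ext j
  exact congrArg (fun k => k.f n) (h j)

variable (K)

lemma cop_acyclic (h : ∀ j, (K j).Acyclic) : (cop K).Acyclic := by
  intro n
  rw [HomologicalComplex.exactAt_iff' _ (n - 1) n (n + 1) (by simp) (by simp)]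
  exact sigmaSC_exact (fun j => (K j).sc' (n - 1) n (n + 1)) (fun j => by
    have := h j n
    rwa [HomologicalComplex.exactAt_iff' _ (n - 1) n (n + 1) (by simp) (by simp)] at this)

end cop

end Groth.Agent.Helper29.AcycCopA
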