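import Mathlib
import Groth.Agent.Lib.Helper29.AcycCopA

namespace Groth.Agent.Helper29.AcycCopB

open CategoryTheory CategoryTheory.Limits CochainComplex HomComplex
open Groth.Agent.Helper29.AcycCopA

universe u v
variable {A : Type u} [Category.{v} A] [Abelian A]

section qi

attribute [local instance] HasDerivedCategory.standard

/-- the inclusion into the cone of a map with acyclic source is a quasi-isomorphism -/
lemma quasiIso_inr {K L : CochainComplex A ℤ} (φ : K ⟶ L) (hK : K.Acyclic) :
    QuasiIso (mappingCone.inr φ) where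
  quasiIsoAt n := by
    have hT := DerivedCategory.mappingCone_triangle_distinguished φ
    have hz : ∀ m : ℤ, IsZero (K.homology m) := fun m =>
      (HomologicalComplex.exactAt_iff_isZero_homology _ _).1 (hK m)
    rw [quasiIsoAt_iff_isIso_homologyMap]
    have hmono : Mono (HomologicalComplex.homologyMap (mappingCone.inr φ) n) :=
      (CochainComplex.homologyMap_exact₂_of_distTriang _ hT n).mono_g ((hz n).eq_of_src _ _)
    have hepi : Epi (HomologicalComplex.homologyMap (mappingCone.inr φ) n) :=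
      (CochainComplex.homologyMap_exact₃_of_distTriang _ hT n (n + 1) rfl).epi_f
        ((hz (n + 1)).eq_of_tgt _ _)
    exact isIso_of_mono_of_epi _

end qi


section functor

variable {ι : Type v} (K : ι → CochainComplex A ℤ)
  [∀ (J : Type v), HasColimitsOfShape (Discrete J) A]

/-- the index type -/
abbrev Idx (M : CochainComplex A ℤ) : Type v := Σ i, (K i ⟶ M)

/-- the family -/
abbrev fam (M : CochainComplex A ℤ) : Idx K M → CochainComplex A ℤ := fun p => K p.1

/-- the canonical map from the coproduct -/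
noncomputable def φ (M : CochainComplex A ℤ) : cop (fam K M) ⟶ M :=
  copDesc (fun p => p.2)

@[reassoc (attr := simp)]
lemma ι_φ (M : CochainComplex A ℤ) (p : Idx K M) : copι (fam K M) p ≫ φ K M = p.2 :=
  copι_desc _ p

/-- reindexing -/
noncomputable def reidx {M M' : CochainComplex A ℤ} (f : M ⟶ M') :
    cop (fam K M) ⟶ cop (fam K M') :=
  copDesc (fun p => copι (fam K M') ⟨p.1, p.2 ≫ f⟩)

@[reassoc (attr := simp)]
lemma ι_reidx {M M' : CochainComplex A ℤ} (f : M ⟶ M') (p : Idx K M) :
    copι (fam K M) p ≫ reidx K f = copι (fam K M') ⟨p.1, p.2 ≫ f⟩ :=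
  copι_desc _ p

lemma reidx_id (M : CochainComplex A ℤ) : reidx K (𝟙 M) = 𝟙 _ := by
  refine cop_hom_ext _ _ (fun p => ?_)
  rw [ι_reidx, Category.comp_id]
  simp

lemma reidx_comp {M M' M'' : CochainComplex A ℤ} (f : M ⟶ M') (g : M' ⟶ M'') :
    reidx K (f ≫ g) = reidx K f ≫ reidx K g := by
  refine cop_hom_ext _ _ (fun p => ?_)
  rw [ι_reidx, ι_reidx_assoc, ι_reidx, Category.assoc]

lemma φ_comm {M M' : CochainComplex A ℤ} (f : M ⟶ M') :
    φ K M ≫ f = reidx K f ≫ φ K M' := by
  refine cop_hom_ext _ _ (fun p => ?_)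
  rw [ι_φ_assoc, ι_reidx_assoc, ι_φ]

/-- the functor -/
noncomputable def N : CochainComplex A ℤ ⥤ CochainComplex A ℤ where
  obj M := mappingCone (φ K M)
  map {M M'} f := mappingCone.map (φ K M) (φ K M') (reidx K f) f (φ_comm K f)
  map_id M := by
    have h := mappingCone.map_id (φ K M)
    rw [← h]
    congr 1
    exact reidx_id K M
  map_comp {M M' M''} f g := by
    have h := mappingCone.map_comp (φ K M) (φ K M') (φ K M'') (reidx K f) f (φ_comm K f)
      (reidx K g) g (φ_comm K g)
    rw [← h]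
    congr 1
    exact reidx_comp K f g

/-- the natural transformation -/
noncomputable def j : 𝟭 (CochainComplex A ℤ) ⟶ N K where
  app M := mappingCone.inr (φ K M)
  naturality M M' f := by
    change f ≫ mappingCone.inr (φ K M') =
      mappingCone.inr (φ K M) ≫ mappingCone.map (φ K M) (φ K M') (reidx K f) f (φ_comm K f)
    simp [mappingCone.map]

lemma mono_j (M : CochainComplex A ℤ) (n : ℤ) : Mono (((j K).app M).f n) := by
  change Mono ((mappingCone.inr (φ K M)).f n)
  exact mono_of_mono_fac (mappingCone.inr_f_snd_v (φ K M) n)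

/-- killing homotopy -/
noncomputable def killHomotopy (M : CochainComplex A ℤ) (i : ι) (w : K i ⟶ M) :
    Homotopy (w ≫ (j K).app M) 0 := by
  have h : Homotopy (φ K M ≫ mappingCone.inr (φ K M)) 0 :=
    HomologicalComplex.homotopyCofiber.inrCompHomotopy (φ K M) (fun j => ⟨j - 1, by simp⟩)
  refine (Homotopy.ofEq ?_).trans ((h.compLeft (copι (fam K M) ⟨i, w⟩)).trans
    (Homotopy.ofEq Limits.comp_zero))
  change w ≫ mappingCone.inr (φ K M) = _
  rw [ι_φ_assoc]

end functor


theorem main [IsGrothendieckAbelian.{v} A] {ι : Type v} (K : ι → CochainComplex A ℤ)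
    (hK : ∀ i (n : ℤ), Limits.IsZero ((K i).homology n)) :
    ∃ (N : CochainComplex A ℤ ⥤ CochainComplex A ℤ) (j : 𝟭 _ ⟶ N),
      ∀ M : CochainComplex A ℤ, (∀ n : ℤ, Mono ((j.app M).f n)) ∧ QuasiIso (j.app M) ∧
        ∀ (i : ι) (w : K i ⟶ M), Nonempty (Homotopy (w ≫ j.app M) 0) := by
  have : HasFiniteBiproducts A := Abelian.hasFiniteBiproducts
  have : AB4OfSize.{v} A := AB4.of_AB5 A
  refine ⟨N K, j K, fun M => ⟨mono_j K M, ?_, fun i w => ⟨killHomotopy K M i w⟩⟩⟩
  have hac : (cop (fam K M)).Acyclic := cop_acyclic _ (fun p n =>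
    (HomologicalComplex.exactAt_iff_isZero_homology _ _).2 (hK p.1 n))
  exact quasiIso_inr (φ K M) hac

end Groth.Agent.Helper29.AcycCopB
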