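import Mathlib
import Groth.Agent.Lib.Helper29.OpenMVC
import Groth.Agent.Lib.Helper5.SkyMod1
import Groth.Agent.Lib.Helper5.QLift1

/-!
# Isomorphisms in `D(O_Y)` are detected by `RΓ(U, -)` over affine opens
-/

set_option autoImplicit false
universe u
open CategoryTheory CategoryTheory.Limits AlgebraicGeometry Opposite TopologicalSpace

attribute [local instance] HasDerivedCategory.standard

namespace Groth.Agent.Helper29.AffIsoA

open Groth.Agent.Helper11.KI Groth.Agent.Helper5

variable {Y : Scheme.{u}}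

/-- a short complex of modules which is exact on sections over every affine open is exact -/
theorem exact_of_sections_affine (S : ShortComplex Y.Modules)
    (h : ∀ (U : Y.Opens), IsAffineOpen U → ∀ s : Γ(S.X₂, U), S.g.app U s = 0 →
      ∃ t : Γ(S.X₁, U), S.f.app U t = s) :
    S.Exact := by
  apply StalkCx.exact_of_stalks
  intro y
  rw [ShortComplex.moduleCat_exact_iff]
  intro b hb
  obtain ⟨U, hy, s, rfl⟩ := TopCat.Presheaf.exists_germ_eq S.X₂.presheaf b
  have hb' : Groth.Agent.Helper13.QCoh.stalkMap S.g y (S.X₂.presheaf.germ U y hy s) = 0 := hb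
  rw [Groth.Agent.Helper13.QCoh.stalkMap_germ] at hb'
  have hb'' : S.X₃.presheaf.germ U y hy (S.g.app U s) = S.X₃.presheaf.germ U y hy 0 := by
    rw [hb', map_zero]
  obtain ⟨W₀, hW₀, iU₀, iV₀, hres₀⟩ := TopCat.Presheaf.germ_eq S.X₃.presheaf y hy hy _ _ hb''
  obtain ⟨W, hWaff, hW, hWW₀⟩ := exists_isAffineOpen_mem_and_subset (x := y) (U := W₀) hW₀
  let iW : W ⟶ W₀ := homOfLE hWW₀
  let iU : W ⟶ U := iW ≫ iU₀
  have hres : S.X₃.presheaf.map iU.op (S.g.app U s) = 0 := by
    have : S.X₃.presheaf.map iU.op (S.g.app U s) =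
        S.X₃.presheaf.map iW.op (S.X₃.presheaf.map iU₀.op (S.g.app U s)) := by
      change (S.X₃.presheaf.map (iU₀.op ≫ iW.op)) _ = _
      rw [Functor.map_comp]; rfl
    rw [this, hres₀, map_zero, map_zero]
  have nat : S.g.app W (S.X₂.presheaf.map iU.op s) = S.X₃.presheaf.map iU.op (S.g.app U s) :=
    congr($(S.g.mapPresheaf.naturality iU.op) s)
  obtain ⟨t, ht⟩ := h W hWaff (S.X₂.presheaf.map iU.op s) (nat.trans hres)
  refine ⟨S.X₁.presheaf.germ W y hW t, ?_⟩
  change Groth.Agent.Helper13.QCoh.stalkMap S.f y (S.X₁.presheaf.germ W y hW t) = _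
  rw [Groth.Agent.Helper13.QCoh.stalkMap_germ, ht]
  exact TopCat.Presheaf.germ_res_apply S.X₂.presheaf iU y hW s


/-- sections over (the image of) an open, as a functor to abelian groups -/
noncomputable abbrev ΓU (U : Y.Opens) : Y.Modules ⥤ AddCommGrpCat.{u} :=
  OpenMVA.R U ⋙ DCoh.gammaAb (U : Scheme.{u})

/-- a complex of modules whose sections over all affine opens are acyclic is acyclic -/
theorem acyclic_of_affine (A : CochainComplex Y.Modules ℤ)
    (h : ∀ U : Y.Opens, IsAffineOpen U →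
      (((ΓU U).mapHomologicalComplex (ComplexShape.up ℤ)).obj A).Acyclic) : A.Acyclic := by
  intro n
  rw [HomologicalComplex.exactAt_iff' A (n - 1) n (n + 1) (by simp) (by simp)]
  apply exact_of_sections_affine
  intro U hU
  have hU' := (h U hU) n
  rw [HomologicalComplex.exactAt_iff' _ (n - 1) n (n + 1) (by simp) (by simp),
    ShortComplex.ab_exact_iff] at hU'
  have key : ∀ W : Y.Opens, U.ι ''ᵁ ⊤ = W → ∀ s : Γ(A.X n, W), (A.d n (n + 1)).app W s = 0 →
      ∃ t : Γ(A.X (n - 1), W), (A.d (n - 1) n).app W t = s := by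
    rintro W rfl
    exact hU'
  exact key U (Scheme.Opens.ι_image_top U)

/-- a morphism of complexes of modules which is a quasi-isomorphism on sections over all affine
opens is a quasi-isomorphism -/
theorem quasiIso_of_affine {I₁ I₂ : CochainComplex Y.Modules ℤ} (p : I₁ ⟶ I₂)
    (h : ∀ U : Y.Opens, IsAffineOpen U →
      QuasiIso (((ΓU U).mapHomologicalComplex (ComplexShape.up ℤ)).map p)) : QuasiIso p := by
  rw [QL.quasiIso_iff_acyclic_mappingCone]
  apply acyclic_of_affine
  intro U hU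
  have h1 := (QL.quasiIso_iff_acyclic_mappingCone _).1 (h U hU)
  intro n
  exact (h1 n).of_iso (CochainComplex.mappingCone.mapHomologicalComplexIso p (ΓU U)).symm


section Derived

/-- `RΓ` detects quasi-isomorphisms on global sections between K-injective complexes -/
theorem quasiIso_gamma_of_isIso (A : Scheme.{u}) [DCoh.HasRΓ A]
    {J₁ J₂ : CochainComplex A.Modules ℤ} [J₁.IsKInjective] [J₂.IsKInjective]
    (q : J₁ ⟶ J₂) (h : IsIso ((DCoh.RΓ A).map (DerivedCategory.Q.map q))) :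
    QuasiIso (((DCoh.gammaAb A).mapHomologicalComplex (ComplexShape.up ℤ)).map q) := by
  have nat := (OpenMVC.βΓ A).naturality ((quo A.Modules).map q)
  haveI h1 : IsIso ((OpenMVC.βΓ A).app ((quo A.Modules).obj J₁)) :=
    isIso_unit.{u+1} _ (DCoh.RΓ A) (OpenMVC.βΓ A) J₁
  haveI h2 : IsIso ((OpenMVC.βΓ A).app ((quo A.Modules).obj J₂)) :=
    isIso_unit.{u+1} _ (DCoh.RΓ A) (OpenMVC.βΓ A) J₂
  haveI h3 : IsIso ((DerivedCategory.Qh ⋙ DCoh.RΓ A).map ((quo A.Modules).map q)) := h
  have heq : (DCoh.gammaKh A).map ((quo A.Modules).map q) =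
      ((OpenMVC.βΓ A).app ((quo A.Modules).obj J₁) ≫
        (DerivedCategory.Qh ⋙ DCoh.RΓ A).map ((quo A.Modules).map q)) ≫
        inv ((OpenMVC.βΓ A).app ((quo A.Modules).obj J₂)) := by
    rw [← nat, Category.assoc, IsIso.hom_inv_id, Category.comp_id]
  have h4 : IsIso ((DCoh.gammaKh A).map ((quo A.Modules).map q)) := by
    rw [heq]; infer_instance
  have h5 : IsIso (DerivedCategory.Q.map
      (((DCoh.gammaAb A).mapHomologicalComplex (ComplexShape.up ℤ)).map q)) := h4
  exact (DerivedCategory.isIso_Q_map_iff_quasiIso _ _).1 h5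

theorem main11114 [hR : ∀ U : Y.Opens, DCoh.HasRΓ (U : Scheme.{u})] {G₁ G₂ : DCoh.D Y}
    (φ : G₁ ⟶ G₂)
    (h : ∀ U : Y.Opens, IsAffineOpen U →
      IsIso ((DCoh.RΓ (U : Scheme.{u})).map ((DCoh.restrictD U.ι).map φ))) : IsIso φ := by
  obtain ⟨I₁, hI₁, -, ⟨e₁⟩⟩ := OpenMVC.exists_res G₁
  obtain ⟨I₂, hI₂, -, ⟨e₂⟩⟩ := OpenMVC.exists_res G₂
  haveI := hI₁
  haveI := hI₂
  obtain ⟨p', hp'⟩ := (CochainComplex.IsKInjective.Qh_map_bijective
    ((quo Y.Modules).obj I₁) I₂).2 (e₁.inv ≫ φ ≫ e₂.hom)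
  obtain ⟨p, rfl⟩ := (quo Y.Modules).map_surjective p'
  have hp : DerivedCategory.Q.map p = e₁.inv ≫ φ ≫ e₂.hom := hp'
  suffices QuasiIso p by
    haveI : IsIso (DerivedCategory.Q.map p) := by
      rw [DerivedCategory.isIso_Q_map_iff_quasiIso]; exact this
    have hφ : φ = e₁.hom ≫ DerivedCategory.Q.map p ≫ e₂.inv := by
      rw [hp]; simp
    rw [hφ]; infer_instance
  apply quasiIso_of_affine
  intro U hU
  haveI := OpenMVC.isKInjective_restrict U I₁
  haveI := OpenMVC.isKInjective_restrict U I₂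
  refine quasiIso_gamma_of_isIso (U : Scheme.{u})
    (((OpenMVA.R U).mapHomologicalComplex (ComplexShape.up ℤ)).map p) ?_
  let fac := (OpenMVA.R U).mapDerivedCategoryFactors
  have nat := fac.hom.naturality p
  have hq : DerivedCategory.Q.map (((OpenMVA.R U).mapHomologicalComplex (ComplexShape.up ℤ)).map p) =
      fac.inv.app I₁ ≫ (DCoh.restrictD U.ι).map (DerivedCategory.Q.map p) ≫ fac.hom.app I₂ := by
    have nat' : (DCoh.restrictD U.ι).map (DerivedCategory.Q.map p) ≫ fac.hom.app I₂ =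
        fac.hom.app I₁ ≫ DerivedCategory.Q.map
          (((OpenMVA.R U).mapHomologicalComplex (ComplexShape.up ℤ)).map p) := nat
    rw [nat', Iso.inv_hom_id_app_assoc]
  haveI := h U hU
  rw [hq, hp]
  simp only [Functor.map_comp]
  infer_instance

end Derived

end Groth.Agent.Helper29.AffIsoA
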