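import Mathlib
import Groth.Prelude.Def_AnHol
import Groth.Agent.Lib.Helper7.AnPts4

/-!
# Holomorphic functions on the ℂ-points of affine space (helper29)

Uses helper7's `AnPts` library (evaluation homomorphisms, the coordinate homeomorphism).
-/

set_option autoImplicit false
open CategoryTheory AlgebraicGeometry Topology TopologicalSpace Opposite
open An

namespace Groth.Agent.Helper29.AnHolA

open Groth.Agent.Helper7.AnPts

theorem differentiable_eval {n : ℕ} (P : MvPolynomial (Fin n) ℂ) :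
    Differentiable ℂ (fun c : Fin n → ℂ => MvPolynomial.eval c P) := by
  induction P using MvPolynomial.induction_on with
  | C a =>
    simp only [MvPolynomial.eval_C]
    exact differentiable_const a
  | add p q hp hq =>
    simp only [map_add]
    exact hp.add hq
  | mul_X p i hp =>
    simp only [map_mul, MvPolynomial.eval_X]
    exact hp.mul (differentiable_apply i)

section rat

variable {X : Scheme.{0}} [X.Over An.SC]

theorem exists_rat [IsAffine X] (W : X.Opens) (f : Γ(X, W)) (y : An.Pts X) (hy : y.pt ∈ W) :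
    ∃ (g a : Γ(X, ⊤)) (k : ℕ), evHom y ⊤ (Opens.mem_top _) g ≠ 0 ∧
      ∀ z : An.Pts X, evHom z ⊤ (Opens.mem_top _) g ≠ 0 →
        ∃ hz : z.pt ∈ W, evHom z W hz f =
          evHom z ⊤ (Opens.mem_top _) a / evHom z ⊤ (Opens.mem_top _) g ^ k := by
  have hU := isAffineOpen_top X
  obtain ⟨g, hgWU, hyg⟩ := hU.exists_basicOpen_le (V := W ⊓ ⊤) ⟨y.pt, hy, Opens.mem_top _⟩
    (Opens.mem_top _)
  have hgW : X.basicOpen g ≤ W := hgWU.trans inf_le_left
  have hgU : X.basicOpen g ≤ ⊤ := le_top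
  have hloc := hU.isLocalization_basicOpen g
  obtain ⟨k, a, hka⟩ := IsLocalization.Away.surj g (X.presheaf.map (homOfLE hgW).op f)
  refine ⟨g, a, k, (pt_mem_basicOpen_iff y ⊤ (Opens.mem_top _) g).1 hyg, ?_⟩
  intro z hz
  have hzg : z.pt ∈ X.basicOpen g := (pt_mem_basicOpen_iff z ⊤ (Opens.mem_top _) g).2 hz
  refine ⟨hgW hzg, ?_⟩
  have e1 := congrArg (evHom z (X.basicOpen g) hzg) hka
  rw [map_mul, map_pow] at e1
  have e2 : evHom z (X.basicOpen g) hzg (algebraMap Γ(X, ⊤) Γ(X, X.basicOpen g) g) =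
      evHom z ⊤ (Opens.mem_top _) g := evHom_res z hgU hzg g
  have e3 : evHom z (X.basicOpen g) hzg (algebraMap Γ(X, ⊤) Γ(X, X.basicOpen g) a) =
      evHom z ⊤ (Opens.mem_top _) a := evHom_res z hgU hzg a
  rw [e2, e3, evHom_res z hgW hzg f] at e1
  rw [← e1, mul_div_assoc, div_self (pow_ne_zero k hz), mul_one]

end rat

/-- the coordinate map -/
noncomputable def kap (n : ℕ) (x : An.Pts (𝔸(Fin n; An.SC))) : Fin n → ℂ :=
  fun i => x.evTop (AffineSpace.coord An.SC i)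

theorem isHomeomorph_kap (n : ℕ) : IsHomeomorph (kap n) := isHomeomorph_affineSpace n

theorem evHom_top_eq_eval (n : ℕ) (z : An.Pts (𝔸(Fin n; An.SC))) (P : MvPolynomial (Fin n) ℂ) :
    evHom z ⊤ (Opens.mem_top _)
      (MvPolynomial.eval₂Hom (An.strHom (𝔸(Fin n; An.SC))) (AffineSpace.coord An.SC) P) =
      MvPolynomial.eval (kap n z) P := by
  have := evHom_eval₂Hom z (U := ⊤) (Opens.mem_top _) (AffineSpace.coord An.SC) P
  rw [strU_top] at this
  exact this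

theorem exists_rat_poly (n : ℕ) (W : (𝔸(Fin n; An.SC)).Opens) (f : Γ(𝔸(Fin n; An.SC), W))
    (y : An.Pts (𝔸(Fin n; An.SC))) (hy : y.pt ∈ W) :
    ∃ (Q P : MvPolynomial (Fin n) ℂ) (k : ℕ), MvPolynomial.eval (kap n y) Q ≠ 0 ∧
      ∀ z : An.Pts (𝔸(Fin n; An.SC)), MvPolynomial.eval (kap n z) Q ≠ 0 →
        ∃ hz : z.pt ∈ W, z.ev W hz f =
          MvPolynomial.eval (kap n z) P / MvPolynomial.eval (kap n z) Q ^ k := by
  obtain ⟨g, a, k, hyg, h⟩ := exists_rat W f y hy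
  obtain ⟨Q, rfl⟩ := (bijective_eval₂Hom_coord n).2 g
  obtain ⟨P, rfl⟩ := (bijective_eval₂Hom_coord n).2 a
  refine ⟨Q, P, k, ?_, ?_⟩
  · rw [← evHom_top_eq_eval]
    exact hyg
  · intro z hz
    rw [← evHom_top_eq_eval] at hz
    obtain ⟨hzW, e⟩ := h z hz
    refine ⟨hzW, ?_⟩
    rw [ev_eq_evHom, e, evHom_top_eq_eval, evHom_top_eq_eval]

theorem chartFun_local (n : ℕ) (V : Opens (An.top (𝔸(Fin n; An.SC)))) (f : V → ℂ)
    (hf : An.IsChartFun V f) (x₀ : V) :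
    ∃ (F : (Fin n → ℂ) → ℂ) (O : Set (Fin n → ℂ)), DifferentiableAt ℂ F (kap n x₀.1) ∧
      IsOpen O ∧ kap n x₀.1 ∈ O ∧ ∀ y : V, kap n y.1 ∈ O → f y = F (kap n y.1) := by
  obtain ⟨W, hW, m, s, V', G', hV', hG', h⟩ := hf
  choose Q P k hQ hPQ using fun i : Fin m => exists_rat_poly n W (s i) x₀.1 (hW x₀)
  let R : (Fin n → ℂ) → (Fin m → ℂ) := fun c i =>
    MvPolynomial.eval c (P i) / MvPolynomial.eval c (Q i) ^ k i
  have hR : DifferentiableAt ℂ R (kap n x₀.1) := by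
    rw [differentiableAt_pi]
    intro i
    have h1 : DifferentiableAt ℂ (fun c : Fin n → ℂ => MvPolynomial.eval c (P i)) (kap n x₀.1) :=
      (differentiable_eval (P i)).differentiableAt
    have h2 : DifferentiableAt ℂ (fun c : Fin n → ℂ => MvPolynomial.eval c (Q i) ^ k i)
        (kap n x₀.1) := (differentiable_eval (Q i)).differentiableAt.fun_pow (k i)
    have h3 : DifferentiableAt ℂ (fun c : Fin n → ℂ => (MvPolynomial.eval c (Q i) ^ k i)⁻¹)
        (kap n x₀.1) := h2.fun_inv (pow_ne_zero _ (hQ i))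
    have h4 : DifferentiableAt ℂ (fun c : Fin n → ℂ =>
        MvPolynomial.eval c (P i) * (MvPolynomial.eval c (Q i) ^ k i)⁻¹) (kap n x₀.1) := h1.mul h3
    simpa only [R, div_eq_mul_inv] using h4
  have hRy : ∀ y : V, (∀ i, MvPolynomial.eval (kap n y.1) (Q i) ≠ 0) →
      (fun i => Pts.ev y.1 W (hW y) (s i)) = R (kap n y.1) := by
    intro y hy
    funext i
    obtain ⟨hz, e⟩ := hPQ i y.1 (hy i)
    exact e
  have hx₀ : R (kap n x₀.1) ∈ V' := by
    rw [← hRy x₀ hQ]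
    exact (h x₀).1
  refine ⟨G' ∘ R, ⋂ i, {c | MvPolynomial.eval c (Q i) ≠ 0}, ?_, ?_, ?_, ?_⟩
  · exact DifferentiableAt.comp _ ((hG' _ hx₀).differentiableAt (hV'.mem_nhds hx₀)) hR
  · refine isOpen_iInter_of_finite fun i => ?_
    exact isOpen_ne_fun (MvPolynomial.continuous_eval (Q i)) continuous_const
  · simp only [Set.mem_iInter, Set.mem_ofPred_eq]
    exact hQ
  · intro y hy
    simp only [Set.mem_iInter, Set.mem_ofPred_eq] at hy
    rw [(h y).2, hRy y hy]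
    rfl

theorem chartAlg_local (n : ℕ) (V : Opens (An.top (𝔸(Fin n; An.SC)))) (f : V → ℂ)
    (hf : f ∈ An.chartAlg V) (x₀ : V) :
    ∃ (F : (Fin n → ℂ) → ℂ) (O : Set (Fin n → ℂ)), DifferentiableAt ℂ F (kap n x₀.1) ∧
      IsOpen O ∧ kap n x₀.1 ∈ O ∧ ∀ y : V, kap n y.1 ∈ O → f y = F (kap n y.1) := by
  unfold An.chartAlg at hf
  induction hf using Algebra.adjoin_induction with
  | mem f hf => exact chartFun_local n V f hf x₀
  | algebraMap c =>
    exact ⟨fun _ => c, Set.univ, differentiableAt_const c, isOpen_univ, Set.mem_univ _,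
      fun y _ => rfl⟩
  | add f g _ _ hf hg =>
    obtain ⟨F₁, O₁, h1, h2, h3, h4⟩ := hf
    obtain ⟨F₂, O₂, k1, k2, k3, k4⟩ := hg
    refine ⟨F₁ + F₂, O₁ ∩ O₂, h1.add k1, h2.inter k2, ⟨h3, k3⟩, fun y hy => ?_⟩
    simp only [Pi.add_apply]
    rw [h4 y hy.1, k4 y hy.2]
  | mul f g _ _ hf hg =>
    obtain ⟨F₁, O₁, h1, h2, h3, h4⟩ := hf
    obtain ⟨F₂, O₂, k1, k2, k3, k4⟩ := hg
    refine ⟨F₁ * F₂, O₁ ∩ O₂, h1.mul k1, h2.inter k2, ⟨h3, k3⟩, fun y hy => ?_⟩
    simp only [Pi.mul_apply]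
    rw [h4 y hy.1, k4 y hy.2]

theorem main (n : ℕ) (U : TopologicalSpace.Opens (An.Pts (𝔸(Fin n; An.SC))))
    (g : U → ℂ) :
    (An.holPred (𝔸(Fin n; An.SC))).pred g ↔
      ∃ G : (Fin n → ℂ) → ℂ,
        DifferentiableOn ℂ G ((fun (x : An.Pts (𝔸(Fin n; An.SC))) (i : Fin n) =>
          x.evTop (AffineSpace.coord An.SC i)) '' (U : Set (An.Pts (𝔸(Fin n; An.SC))))) ∧
        ∀ x : U, g x = G (fun i => (x : An.Pts (𝔸(Fin n; An.SC))).evTop (AffineSpace.coord An.SC i)) := by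
  have hκ := isHomeomorph_kap n
  change _ ↔ ∃ G : (Fin n → ℂ) → ℂ, DifferentiableOn ℂ G (kap n '' (U : Set _)) ∧
    ∀ x : U, g x = G (kap n x.1)
  constructor
  · intro hg
    classical
    let G : (Fin n → ℂ) → ℂ := fun z =>
      if h : ∃ x : U, kap n x.1 = z then g h.choose else 0
    have hG : ∀ x : U, G (kap n x.1) = g x := by
      intro x
      have hex : ∃ x' : U, kap n x'.1 = kap n x.1 := ⟨x, rfl⟩
      have : G (kap n x.1) = g hex.choose := dif_pos hex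
      rw [this]
      congr 1
      exact Subtype.ext (hκ.injective hex.choose_spec)
    refine ⟨G, ?_, fun x => (hG x).symm⟩
    rintro z ⟨x₀, hx₀, rfl⟩
    apply DifferentiableAt.differentiableWithinAt
    obtain ⟨V, hxV, i, hmem⟩ := hg ⟨x₀, hx₀⟩
    obtain ⟨F, O, hF, hO, hxO, hFO⟩ := chartAlg_local n V _ hmem ⟨x₀, hxV⟩
    refine hF.congr_of_eventuallyEq ?_
    have hVo : IsOpen (X := An.Pts (𝔸(Fin n; An.SC))) (V.1 : Set (An.Pts (𝔸(Fin n; An.SC)))) := V.2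
    have hopen : IsOpen (O ∩ kap n '' (V.1 : Set (An.Pts (𝔸(Fin n; An.SC))))) :=
      hO.inter (hκ.isOpenMap _ hVo)
    filter_upwards [hopen.mem_nhds ⟨hxO, x₀, hxV, rfl⟩] with z hz
    obtain ⟨hzO, y, hyV, rfl⟩ := hz
    have := hFO ⟨y, hyV⟩ hzO
    rw [← this]
    exact hG (i ⟨y, hyV⟩)
  · rintro ⟨G, hG, hgG⟩
    intro x
    refine ⟨U, x.2, 𝟙 U, ?_⟩
    refine Algebra.subset_adjoin ?_
    refine ⟨⊤, fun _ => Opens.mem_top _, n, AffineSpace.coord An.SC, kap n '' (U : Set _), G,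
      hκ.isOpenMap _ U.2, hG, fun y => ⟨⟨y.1, y.2, rfl⟩, hgG y⟩⟩

end Groth.Agent.Helper29.AnHolA
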