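import Mathlib

/-!
# Top exterior power of `Rⁿ / R a` (helper29)
-/

open exteriorPower

namespace Groth.Agent.Helper29.AnnExt

universe u v w

section Loc

variable {R : Type u} [CommRing R] (S : Submonoid R) {M : Type v} {N : Type w}
  [AddCommGroup M] [Module R M] [AddCommGroup N] [Module R N]

theorem nonempty_localizedEquiv (α : M →ₗ[R] N) (β : N →ₗ[R] M) (c : R) (hc : c ∈ S)
    (h1 : α ∘ₗ β = c • LinearMap.id) (h2 : β ∘ₗ α = c • LinearMap.id) :
    Nonempty (LocalizedModule S M ≃ₗ[Localization S] LocalizedModule S N) := by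
  let fM := LocalizedModule.mkLinearMap S M
  let fN := LocalizedModule.mkLinearMap S N
  let A := IsLocalizedModule.map S fM fN α
  let B := IsLocalizedModule.map S fN fM β
  have hAB : A ∘ₗ B = c • LinearMap.id := by
    rw [← IsLocalizedModule.map_comp' S fN fM fN β α, h1, map_smul, IsLocalizedModule.map_id]
  have hBA : B ∘ₗ A = c • LinearMap.id := by
    rw [← IsLocalizedModule.map_comp' S fM fN fM α β, h2, map_smul, IsLocalizedModule.map_id]
  have hcM : Function.Bijective (fun x : LocalizedModule S M => c • x) :=
    (Module.End.isUnit_iff _).1 (IsLocalizedModule.map_units fM ⟨c, hc⟩)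
  have hcN : Function.Bijective (fun x : LocalizedModule S N => c • x) :=
    (Module.End.isUnit_iff _).1 (IsLocalizedModule.map_units fN ⟨c, hc⟩)
  have hinj : Function.Injective A := by
    intro x y h
    apply hcM.1
    show c • x = c • y
    have hx : B (A x) = c • x := by
      rw [← LinearMap.comp_apply, hBA]; rfl
    have hy : B (A y) = c • y := by
      rw [← LinearMap.comp_apply, hBA]; rfl
    rw [← hx, ← hy, h]
  have hsurj : Function.Surjective A := by
    intro y
    obtain ⟨y', hy'⟩ := hcN.2 y
    refine ⟨B y', ?_⟩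
    rw [← LinearMap.comp_apply, hAB]
    exact hy'
  exact ⟨LinearEquiv.extendScalarsOfIsLocalization S (Localization S)
    (LinearEquiv.ofBijective A ⟨hinj, hsurj⟩)⟩

end Loc

section Alt

variable {R : Type u} {A : Type v} [CommRing R] [CommRing A] [Algebra R A]
  {M' N' : Type*} [AddCommGroup M'] [AddCommGroup N'] [Module A M'] [Module A N']
  [Module R M'] [Module R N'] [IsScalarTower R A M'] [IsScalarTower R A N'] {ι : Type*}

/-- restriction of scalars for alternating maps -/
def altRestrict (f : M' [⋀^ι]→ₗ[A] N') : M' [⋀^ι]→ₗ[R] N' :=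
  { toFun := f
    map_update_add' := by
      intro _ m i x y
      exact f.map_update_add m i x y
    map_update_smul' := by
      intro _ m i c x
      rw [← algebraMap_smul A c x, f.map_update_smul, algebraMap_smul]
    map_eq_zero_of_eq' := fun v i j h hij => f.map_eq_zero_of_eq v h hij }

theorem altRestrict_apply (f : M' [⋀^ι]→ₗ[A] N') (v : ι → M') :
    altRestrict (R := R) f v = f v := rfl

end Alt

theorem main (R : Type u) [CommRing R] (n : ℕ) (hn : 1 ≤ n) (a : Fin n → R) :
    (⋀[R]^n ((Fin n → R) ⧸ Submodule.span R {a})).annihilator = Ideal.span (Set.range a) ∧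
    ∀ p : PrimeSpectrum R, ¬ Ideal.span (Set.range a) ≤ p.asIdeal →
      p ∈ Module.freeLocus R ((Fin n → R) ⧸ Submodule.span R {a}) ∧
      Module.rankAtStalk ((Fin n → R) ⧸ Submodule.span R {a}) p = n - 1 := by
  classical
  set N : Submodule R (Fin n → R) := Submodule.span R {a} with hN
  let M := (Fin n → R) ⧸ N
  let π : (Fin n → R) →ₗ[R] M := N.mkQ
  let e : Fin n → (Fin n → R) := fun j => Pi.single j (1 : R)
  let w : Fin n → M := fun j => π (e j)
  let ω : ↥(⋀[R]^n M) := ιMulti R n w
  have ha_sum : ∑ j, a j • e j = a := by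
    funext l
    simp [e, Finset.sum_apply, Pi.single_apply]
  have hπa : π a = 0 := (Submodule.Quotient.mk_eq_zero N).2 (Submodule.subset_span rfl)
  have hw_sum : ∑ j, a j • w j = 0 := by
    have : ∑ j, a j • w j = π (∑ j, a j • e j) := by
      rw [map_sum]
      exact Finset.sum_congr rfl fun j _ => (map_smul π (a j) (e j)).symm
    rw [this, ha_sum, hπa]
  -- Lemma A
  have hA : ∀ i, a i • ω = 0 := by
    intro i
    let Lm : M →ₗ[R] ↥(⋀[R]^n M) := (ιMulti R n (M := M)).toMultilinearMap.toLinearMap w i
    have hL : ∀ x, Lm x = ιMulti R n (Function.update w i x) := fun x => rfl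
    have h0 := congrArg Lm hw_sum
    rw [map_sum, map_zero, Finset.sum_eq_single i] at h0
    · rw [map_smul, hL, Function.update_eq_self] at h0
      exact h0
    · intro j _ hj
      rw [map_smul, hL]
      rw [(ιMulti R n).map_eq_zero_of_eq (Function.update w i (w j)) (i := i) (j := j) ?_ hj.symm,
        smul_zero]
      rw [Function.update_self, Function.update_of_ne hj]
    · intro h
      exact absurd (Finset.mem_univ i) h
  -- Lemma B
  have he_eq : e = ⇑(Pi.basisFun R (Fin n)) :=
    funext fun j => (Pi.basisFun_apply R (Fin n) j).symm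
  have hspan_s : Submodule.span R (Set.range w) = ⊤ := by
    have h1 : Set.range w = π '' Set.range e := by
      rw [← Set.range_comp]
      rfl
    rw [h1, ← Submodule.map_span, he_eq, (Pi.basisFun R (Fin n)).span_eq, Submodule.map_top,
      Submodule.range_mkQ]
  have hB : ∀ x : ↥(⋀[R]^n M), ∃ r : R, x = r • ω := by
    intro x
    have hx : x ∈ Submodule.span R
        (ιMulti R n '' {m : Fin n → M | Set.range m ⊆ Set.range w}) := by
      rw [exteriorPower.ιMulti_span_of_span R n M hspan_s]
      trivial
    have hle : Submodule.span R (ιMulti R n '' {m : Fin n → M | Set.range m ⊆ Set.range w}) ≤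
        Submodule.span R {ω} := by
      rw [Submodule.span_le]
      rintro _ ⟨m, hm, rfl⟩
      have hf : ∀ l, ∃ j, w j = m l := fun l => hm ⟨l, rfl⟩
      choose f hf using hf
      have hmf : m = w ∘ f := funext fun l => (hf l).symm
      rw [hmf]
      by_cases hinj : Function.Injective f
      · let σ : Equiv.Perm (Fin n) := Equiv.ofBijective f (Finite.injective_iff_bijective.1 hinj)
        have h2 : w ∘ f = w ∘ σ := rfl
        rw [h2, SetLike.mem_coe, AlternatingMap.map_perm, Units.smul_def]
        have hω : ω ∈ Submodule.span R {ω} := Submodule.subset_span rfl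
        exact zsmul_mem hω _
      · rw [Function.Injective] at hinj
        push Not at hinj
        obtain ⟨l, l', hll, hne⟩ := hinj
        rw [SetLike.mem_coe, (ιMulti R n).map_eq_zero_of_eq (w ∘ f) (i := l) (j := l')
          (by simp [hll]) hne]
        exact zero_mem _
    obtain ⟨r, hr⟩ := Submodule.mem_span_singleton.1 (hle hx)
    exact ⟨r, hr.symm⟩
  -- Lemma C
  set I : Ideal R := Ideal.span (Set.range a) with hI
  let q : (Fin n → R) →ₗ[R] (Fin n → R ⧸ I) := (Algebra.linearMap R (R ⧸ I)).compLeft (Fin n)
  have hqa : N ≤ LinearMap.ker q := by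
    rw [hN, Submodule.span_le]
    intro x hx
    rw [Set.mem_singleton_iff.1 hx, SetLike.mem_coe, LinearMap.mem_ker]
    funext j
    show algebraMap R (R ⧸ I) (a j) = 0
    exact Ideal.Quotient.eq_zero_iff_mem.2 (Ideal.subset_span ⟨j, rfl⟩)
  let ρ : M →ₗ[R] (Fin n → R ⧸ I) := N.liftQ q hqa
  let detA : (Fin n → R ⧸ I) [⋀^Fin n]→ₗ[R] (R ⧸ I) :=
    altRestrict (R := R) (Matrix.detRowAlternating (R := R ⧸ I) (n := Fin n))
  let φ : ↥(⋀[R]^n M) →ₗ[R] (R ⧸ I) := alternatingMapLinearEquiv (detA.compLinearMap ρ)
  have hφω : φ ω = 1 := by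
    show alternatingMapLinearEquiv (detA.compLinearMap ρ) (ιMulti R n w) = 1
    rw [alternatingMapLinearEquiv_apply_ιMulti]
    show Matrix.det (Matrix.of fun l => ρ (w l)) = 1
    have h3 : (Matrix.of fun l => ρ (w l)) = (1 : Matrix (Fin n) (Fin n) (R ⧸ I)) := by
      ext l j
      show algebraMap R (R ⧸ I) ((Pi.single l (1 : R) : Fin n → R) j) = _
      rw [Matrix.one_apply, Pi.single_apply]
      split_ifs with h1 h2 h2
      · exact map_one _
      · exact absurd h1.symm h2
      · exact absurd h2.symm h1
      · exact map_zero _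
    rw [h3, Matrix.det_one]
  have hIω : ∀ r ∈ I, r • ω = 0 := by
    intro r hr
    rw [hI] at hr
    unfold Ideal.span at hr
    induction hr using Submodule.span_induction with
    | mem x hx =>
      obtain ⟨i, rfl⟩ := hx
      exact hA i
    | zero => exact zero_smul _ _
    | add x y _ _ hx hy => rw [add_smul, hx, hy, add_zero]
    | smul c x _ hx => rw [smul_eq_mul, mul_smul, hx, smul_zero]
  refine ⟨?_, ?_⟩
  · ext r
    rw [Submodule.mem_annihilator]
    constructor
    · intro h
      have h1 : r • ω = 0 := Subtype.ext (h ω.1 ω.2)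
      have h2 := congrArg φ h1
      rw [map_smul, hφω, map_zero, Algebra.smul_def, mul_one] at h2
      exact Ideal.Quotient.eq_zero_iff_mem.1 h2
    · intro hr x hx
      obtain ⟨c, hc⟩ := hB ⟨x, hx⟩
      have h1 : r • (⟨x, hx⟩ : ↥(⋀[R]^n M)) = 0 := by
        rw [hc, smul_comm r c ω, hIω r hr, smul_zero]
      exact congrArg Subtype.val h1
  · intro p hp
    obtain ⟨i, hi⟩ : ∃ i, a i ∉ p.asIdeal := by
      by_contra hcon
      push Not at hcon
      exact hp (Ideal.span_le.2 (by rintro _ ⟨i, rfl⟩; exact hcon i))
    let J := {j : Fin n // j ≠ i}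
    let α0 : (Fin n → R) →ₗ[R] (J → R) :=
      LinearMap.pi (fun j => a i • LinearMap.proj j.1 - a j.1 • LinearMap.proj i)
    have hα0v : ∀ (v : Fin n → R) (j : J), α0 v j = a i * v j.1 - a j.1 * v i := fun v j => rfl
    have hα0 : N ≤ LinearMap.ker α0 := by
      rw [hN, Submodule.span_le]
      intro x hx
      rw [Set.mem_singleton_iff.1 hx, SetLike.mem_coe, LinearMap.mem_ker]
      funext j
      rw [hα0v]
      show a i * a j.1 - a j.1 * a i = 0
      ring
    let α : M →ₗ[R] (J → R) := N.liftQ α0 hα0
    let β0 : (J → R) →ₗ[R] (Fin n → R) :=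
      { toFun := fun x l => if h : l = i then 0 else x ⟨l, h⟩
        map_add' := by
          intro x y
          funext l
          show (if h : l = i then 0 else (x + y) ⟨l, h⟩) =
            (if h : l = i then 0 else x ⟨l, h⟩) + (if h : l = i then 0 else y ⟨l, h⟩)
          by_cases h : l = i
          · rw [dif_pos h, dif_pos h, dif_pos h, add_zero]
          · rw [dif_neg h, dif_neg h, dif_neg h]
            rfl
        map_smul' := by
          intro c x
          funext l
          show (if h : l = i then 0 else (c • x) ⟨l, h⟩) =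
            c • (if h : l = i then 0 else x ⟨l, h⟩)
          by_cases h : l = i
          · rw [dif_pos h, dif_pos h, smul_zero]
          · rw [dif_neg h, dif_neg h]
            rfl }
    have hβ0v : ∀ (x : J → R) (l : Fin n), β0 x l = if h : l = i then 0 else x ⟨l, h⟩ :=
      fun x l => rfl
    let β : (J → R) →ₗ[R] M := π ∘ₗ β0
    have h1 : α ∘ₗ β = a i • LinearMap.id := by
      refine LinearMap.ext fun x => funext fun j => ?_
      show α0 (β0 x) j = a i * x j
      rw [hα0v, hβ0v, hβ0v, dif_neg j.2, dif_pos rfl, mul_zero, sub_zero]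
    have h2 : β ∘ₗ α = a i • LinearMap.id := by
      apply N.linearMap_qext
      refine LinearMap.ext fun v => ?_
      show π (β0 (α0 v)) = a i • π v
      have h3 : β0 (α0 v) = a i • v - v i • a := by
        funext l
        rw [hβ0v]
        by_cases h : l = i
        · rw [dif_pos h]
          subst h
          show 0 = a l * v l - v l * a l
          ring
        · rw [dif_neg h, hα0v]
          show a i * v l - a l * v i = a i * v l - v i * a l
          ring
      rw [h3, map_sub, map_smul, map_smul, hπa, smul_zero, sub_zero]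
    have hnt : Nontrivial R := PrimeSpectrum.nonempty_iff_nontrivial.1 ⟨p⟩
    obtain ⟨eq⟩ := nonempty_localizedEquiv p.asIdeal.primeCompl α β (a i) hi h1 h2
    have hfree : Module.Free (Localization.AtPrime p.asIdeal)
        (LocalizedModule p.asIdeal.primeCompl (J → R)) :=
      Module.free_of_isLocalizedModule p.asIdeal.primeCompl
        (LocalizedModule.mkLinearMap p.asIdeal.primeCompl (J → R))
    refine ⟨Module.Free.of_equiv eq.symm, ?_⟩
    show Module.finrank (Localization.AtPrime p.asIdeal)
      (LocalizedModule p.asIdeal.primeCompl M) = n - 1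
    rw [eq.finrank_eq, Module.finrank_of_isLocalizedModule_of_free (Localization.AtPrime p.asIdeal)
      p.asIdeal.primeCompl (LocalizedModule.mkLinearMap p.asIdeal.primeCompl (J → R)),
      Module.finrank_fintype_fun_eq_card,
      Fintype.card_subtype_compl (fun j : Fin n => j = i), Fintype.card_fin,
      Fintype.card_subtype_eq]

end Groth.Agent.Helper29.AnnExt
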