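import Mathlib

/-!
# Antisymmetric polynomials in two sets of variables (helper29)
-/

namespace Groth.Agent.Helper29.AntiSym

open MvPolynomial Equiv

universe u

variable (k : Type u) [Field k] (n : ℕ)

/-- the polynomial ring -/
abbrev P := MvPolynomial (Fin n × Fin 2) k

/-- the matrix `(x_i^{p_j} y_i^{q_j})` -/
noncomputable def Mat (p : Fin n → ℕ × ℕ) : Matrix (Fin n) (Fin n) (P k n) :=
  Matrix.of fun i j : Fin n => (X (i, 0) : P k n) ^ (p j).1 * X (i, 1) ^ (p j).2

/-- the diagonal action of a permutation -/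
noncomputable def ρ (σ : Perm (Fin n)) : P k n →ₐ[k] P k n :=
  rename (fun v : Fin n × Fin 2 => (σ v.1, v.2))

/-- the monomial `∏ x_{τ i}^{p_i} y_{τ i}^{q_i}` -/
noncomputable def term (τ : Perm (Fin n)) (p : Fin n → ℕ × ℕ) : P k n :=
  ∏ i, ((X (τ i, 0) : P k n) ^ (p i).1 * X (τ i, 1) ^ (p i).2)

theorem det_eq (p : Fin n → ℕ × ℕ) :
    (Mat k n p).det = ∑ τ : Perm (Fin n), ((Perm.sign τ : ℤˣ) : ℤ) • term k n τ p := by
  rw [Matrix.det_apply']
  refine Finset.sum_congr rfl fun τ _ => ?_
  rw [zsmul_eq_mul]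
  rfl

theorem ρ_term (σ τ : Perm (Fin n)) (p : Fin n → ℕ × ℕ) :
    ρ k n σ (term k n τ p) = term k n (σ * τ) p := by
  simp only [ρ, term, map_prod, map_mul, map_pow, rename_X, Perm.coe_mul, Function.comp_apply]

theorem ρ_det (σ : Perm (Fin n)) (p : Fin n → ℕ × ℕ) :
    ρ k n σ (Mat k n p).det = ((Perm.sign σ : ℤˣ) : ℤ) • (Mat k n p).det := by
  rw [AlgHom.map_det, zsmul_eq_mul, ← Matrix.det_permute]
  congr 1
  ext i j
  simp [Mat, ρ, rename_X]

/-- the antisymmetrizer -/
noncomputable def Asym : P k n →ₗ[k] P k n :=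
  ∑ σ : Perm (Fin n), ((Perm.sign σ : ℤˣ) : ℤ) • (ρ k n σ).toLinearMap

theorem Asym_apply (f : P k n) :
    Asym k n f = ∑ σ : Perm (Fin n), ((Perm.sign σ : ℤˣ) : ℤ) • ρ k n σ f := by
  simp [Asym, LinearMap.sum_apply]

theorem monomial_eq_term (u : Fin n × Fin 2 →₀ ℕ) :
    (monomial u (1 : k) : P k n) = term k n 1 (fun i => (u (i, 0), u (i, 1))) := by
  rw [monomial_eq, C_1, one_mul, Finsupp.prod_fintype _ _ (fun v => pow_zero _),
    Fintype.prod_prod_type]
  simp only [term, Fin.prod_univ_two, Perm.coe_one, id_eq]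

theorem Asym_monomial (u : Fin n × Fin 2 →₀ ℕ) :
    Asym k n (monomial u (1 : k)) = (Mat k n (fun i => (u (i, 0), u (i, 1)))).det := by
  rw [Asym_apply, det_eq, monomial_eq_term]
  refine Finset.sum_congr rfl fun σ _ => ?_
  rw [ρ_term, mul_one]

theorem Asym_mem (f : P k n) :
    Asym k n f ∈ Submodule.span k (Set.range fun p : Fin n → ℕ × ℕ => (Mat k n p).det) := by
  induction f using MvPolynomial.induction_on' with
  | monomial u a =>
    have h : (monomial u a : P k n) = a • monomial u (1 : k) := by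
      rw [smul_monomial, smul_eq_mul, mul_one]
    rw [h, map_smul, Asym_monomial]
    exact Submodule.smul_mem _ _ (Submodule.subset_span ⟨_, rfl⟩)
  | add p q hp hq =>
    rw [map_add]
    exact Submodule.add_mem _ hp hq

theorem part1 [CharZero k] (f : P k n) :
    (∀ σ : Perm (Fin n), rename (fun v : Fin n × Fin 2 => (σ v.1, v.2)) f =
        ((Perm.sign σ : ℤˣ) : ℤ) • f) ↔
      f ∈ Submodule.span k (Set.range fun p : Fin n → ℕ × ℕ => (Mat k n p).det) := by
  constructor
  · intro h
    have hA : Asym k n f = n.factorial • f := by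
      rw [Asym_apply]
      have : ∀ σ ∈ (Finset.univ : Finset (Perm (Fin n))),
          ((Perm.sign σ : ℤˣ) : ℤ) • ρ k n σ f = f := by
        intro σ _
        have h1 : ρ k n σ f = ((Perm.sign σ : ℤˣ) : ℤ) • f := h σ
        rw [h1, smul_smul, ← Units.val_mul, Int.units_mul_self, Units.val_one, one_smul]
      rw [Finset.sum_congr rfl this, Finset.sum_const, Finset.card_univ, Fintype.card_perm,
        Fintype.card_fin]
    have hne : (n.factorial : k) ≠ 0 := Nat.cast_ne_zero.2 (Nat.factorial_ne_zero n)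
    have hf : f = (n.factorial : k)⁻¹ • Asym k n f := by
      rw [hA, ← Nat.cast_smul_eq_nsmul k, smul_smul, inv_mul_cancel₀ hne, one_smul]
    rw [hf]
    exact Submodule.smul_mem _ _ (Asym_mem k n f)
  · intro h σ
    show ρ k n σ f = _
    induction h using Submodule.span_induction with
    | mem x hx =>
      obtain ⟨p, rfl⟩ := hx
      exact ρ_det k n σ p
    | zero => rw [map_zero, smul_zero]
    | add x y _ _ hx hy => rw [map_add, hx, hy, smul_add]
    | smul c x _ hx => rw [map_smul, hx, smul_comm]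

/-- exponent vector of the diagonal monomial -/
noncomputable def U (r : Fin n → ℕ × ℕ) : Fin n × Fin 2 →₀ ℕ :=
  Finsupp.equivFunOnFinite.symm (fun v => if v.2 = 0 then (r v.1).1 else (r v.1).2)

theorem U_apply0 (r : Fin n → ℕ × ℕ) (i : Fin n) : U n r (i, 0) = (r i).1 := by
  simp [U]

theorem U_apply1 (r : Fin n → ℕ × ℕ) (i : Fin n) : U n r (i, 1) = (r i).2 := by
  simp [U]

theorem U_injective : Function.Injective (U n) := by
  intro r q h
  funext i
  apply Prod.ext
  · rw [← U_apply0, h, U_apply0]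
  · rw [← U_apply1, h, U_apply1]

theorem term_eq_monomial (τ : Perm (Fin n)) (p : Fin n → ℕ × ℕ) :
    term k n τ p = monomial (U n (p ∘ τ.symm)) 1 := by
  rw [monomial_eq_term]
  simp only [term, U_apply0, U_apply1, Perm.coe_one, id_eq, Function.comp_apply]
  exact Fintype.prod_equiv τ _ _ (fun i => by simp)

theorem coeff_det (p q : Fin n → ℕ ×ₗ ℕ) (hp : StrictMono p) (hq : StrictMono q) :
    coeff (U n (fun j => ofLex (q j))) (Mat k n (fun j => ofLex (p j))).det =
      if p = q then 1 else 0 := by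
  classical
  have key : ∀ τ : Perm (Fin n),
      U n ((fun j => ofLex (p j)) ∘ τ.symm) = U n (fun j => ofLex (q j)) → τ = 1 ∧ p = q := by
    intro τ h
    have h1 := U_injective n h
    have h2 : ∀ j, p (τ.symm j) = q j := fun j => congrFun h1 j
    have hmono : StrictMono (τ.symm : Fin n → Fin n) := by
      intro i j hij
      rw [← hp.lt_iff_lt, h2, h2]
      exact hq hij
    have hid : (τ.symm : Fin n → Fin n) = id := by
      rw [← hmono.range_inj strictMono_id, Set.range_id]
      exact τ.symm.surjective.range_eq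
    have hτ : τ = 1 := by
      ext j
      have := congrFun hid (τ j)
      rw [Equiv.symm_apply_apply, id] at this
      rw [Perm.one_apply, ← this]
    refine ⟨hτ, funext fun j => ?_⟩
    rw [← h2 j, congrFun hid j]
    rfl
  rw [det_eq, coeff_sum]
  have hterm : ∀ τ : Perm (Fin n),
      coeff (U n (fun j => ofLex (q j))) (((Perm.sign τ : ℤˣ) : ℤ) • term k n τ (fun j => ofLex (p j))) =
        ((Perm.sign τ : ℤˣ) : ℤ) •
          (if U n ((fun j => ofLex (p j)) ∘ τ.symm) = U n (fun j => ofLex (q j)) then (1 : k) else 0) := by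
    intro τ
    rw [term_eq_monomial, zsmul_eq_mul, ← map_intCast (C : k →+* P k n), coeff_C_mul, coeff_monomial,
      zsmul_eq_mul]
  simp only [hterm]
  rw [Finset.sum_eq_single (1 : Perm (Fin n))]
  · rw [Perm.sign_one, Units.val_one, one_smul]
    by_cases hpq : p = q
    · rw [if_pos hpq, if_pos]
      rw [hpq]
      rfl
    · rw [if_neg hpq, if_neg]
      intro h
      exact hpq (key 1 h).2
  · intro τ _ hτ
    rw [if_neg, smul_zero]
    intro h
    exact hτ (key τ h).1
  · intro h
    exact absurd (Finset.mem_univ _) h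

theorem part2 :
    LinearIndependent k (fun p : {p : Fin n → ℕ ×ₗ ℕ // StrictMono p} =>
      (Mat k n (fun j => ofLex (p.1 j))).det) := by
  classical
  rw [linearIndependent_iff']
  intro s g hg q hq
  have h1 := congrArg (coeff (U n (fun j => ofLex (q.1 j)))) hg
  rw [coeff_sum, coeff_zero] at h1
  have h2 : ∀ p ∈ s, coeff (U n (fun j => ofLex (q.1 j)))
      (g p • (Mat k n (fun j => ofLex (p.1 j))).det) = if p = q then g p else 0 := by
    intro p _
    rw [coeff_smul, coeff_det k n p.1 q.1 p.2 q.2, smul_eq_mul]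
    by_cases hpq : p = q
    · rw [if_pos hpq, if_pos (congrArg Subtype.val hpq), mul_one]
    · rw [if_neg hpq, if_neg (fun h => hpq (Subtype.ext h)), mul_zero]
  rw [Finset.sum_congr rfl h2, Finset.sum_ite_eq' s q, if_pos hq] at h1
  exact h1

theorem main [CharZero k] :
    (∀ f : MvPolynomial (Fin n × Fin 2) k,
      (∀ σ : Equiv.Perm (Fin n),
          MvPolynomial.rename (fun v : Fin n × Fin 2 => (σ v.1, v.2)) f = ((Equiv.Perm.sign σ : ℤˣ) : ℤ) • f) ↔
        f ∈ Submodule.span k (Set.range fun p : Fin n → ℕ × ℕ =>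
          (Matrix.of fun i j : Fin n =>
            (MvPolynomial.X (i, 0) : MvPolynomial (Fin n × Fin 2) k) ^ (p j).1 * MvPolynomial.X (i, 1) ^ (p j).2).det)) ∧
    LinearIndependent k (fun p : {p : Fin n → ℕ ×ₗ ℕ // StrictMono p} =>
      (Matrix.of fun i j : Fin n =>
        (MvPolynomial.X (i, 0) : MvPolynomial (Fin n × Fin 2) k) ^ (ofLex (p.1 j)).1 *
          MvPolynomial.X (i, 1) ^ (ofLex (p.1 j)).2).det) :=
  ⟨fun f => part1 k n f, part2 k n⟩

end Groth.Agent.Helper29.AntiSym
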