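import Mathlib

set_option autoImplicit false
set_option linter.unusedSectionVars false
set_option linter.unusedVariables false

namespace Groth.Agent.Helper29.HorA

open Submodule Module

universe u

variable {k : Type*} [Field k]

section krylov

variable {V : Type*} [AddCommGroup V] [Module k V] [FiniteDimensional k V]

/-- span of the first `b` Krylov vectors -/
def S (τ : V →ₗ[k] V) (u : V) (b : ℕ) : Submodule k V :=
  span k {v | ∃ a, a < b ∧ v = (τ ^ a) u}

/-- the full Krylov space -/
def U (τ : V →ₗ[k] V) (u : V) : Submodule k V :=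
  span k {v | ∃ a, v = (τ ^ a) u}

variable (τ : V →ₗ[k] V) (u : V)

theorem S_le_U (b : ℕ) : S τ u b ≤ U τ u :=
  span_mono (fun v ⟨a, _, h⟩ => ⟨a, h⟩)

theorem S_mono {b c : ℕ} (h : b ≤ c) : S τ u b ≤ S τ u c :=
  span_mono (fun v ⟨a, ha, hv⟩ => ⟨a, lt_of_lt_of_le ha h, hv⟩)

theorem pow_mem_S {a b : ℕ} (h : a < b) : (τ ^ a) u ∈ S τ u b :=
  subset_span ⟨a, h, rfl⟩

theorem map_S_le (b : ℕ) : (S τ u b).map τ ≤ S τ u (b + 1) := by
  rw [S, Submodule.map_span, span_le]
  rintro _ ⟨v, ⟨a, ha, rfl⟩, rfl⟩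
  have : τ ((τ ^ a) u) = (τ ^ (a + 1)) u := by
    rw [pow_succ', Module.End.mul_apply]
  rw [this]
  exact pow_mem_S τ u (by omega)

theorem S_succ_eq (b : ℕ) : S τ u (b + 1) = S τ u b ⊔ span k {(τ ^ b) u} := by
  apply le_antisymm
  · rw [S, span_le]
    rintro _ ⟨a, ha, rfl⟩
    rcases Nat.lt_succ_iff_lt_or_eq.mp ha with h | rfl
    · exact mem_sup_left (pow_mem_S τ u h)
    · exact mem_sup_right (mem_span_singleton_self _)
  · refine sup_le (S_mono τ u (Nat.le_succ b)) ?_
    rw [span_le, Set.singleton_subset_iff]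
    exact pow_mem_S τ u (Nat.lt_succ_self b)

theorem U_le_of_stable (b : ℕ) (h : S τ u (b + 1) = S τ u b) : U τ u ≤ S τ u b := by
  have key : ∀ c, (τ ^ c) u ∈ S τ u b := by
    intro c
    induction c with
    | zero =>
      by_cases hb : 0 < b
      · exact pow_mem_S τ u hb
      · have hb0 : b = 0 := by omega
        subst hb0
        rw [← h]
        exact pow_mem_S τ u (by omega)
    | succ c ih =>
      have h1 : τ ((τ ^ c) u) ∈ (S τ u b).map τ := Submodule.mem_map_of_mem ih
      have h2 := map_S_le τ u b h1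
      rw [h] at h2
      rwa [pow_succ', Module.End.mul_apply]
  rw [U, span_le]
  rintro _ ⟨a, rfl⟩
  exact key a

theorem S_eq_or_le_finrank (b : ℕ) : S τ u b = U τ u ∨ b ≤ finrank k (S τ u b) := by
  induction b with
  | zero => right; exact Nat.zero_le _
  | succ b ih =>
    rcases ih with h | h
    · left
      exact le_antisymm (S_le_U τ u _) (h ▸ S_mono τ u (Nat.le_succ b))
    · by_cases hst : S τ u (b + 1) = S τ u b
      · left
        apply le_antisymm (S_le_U τ u _)
        exact (U_le_of_stable τ u b hst).trans (S_mono τ u (Nat.le_succ b))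
      · right
        have hlt : S τ u b < S τ u (b + 1) :=
          lt_of_le_of_ne (S_mono τ u (Nat.le_succ b)) (Ne.symm hst)
        have := Submodule.finrank_lt_finrank_of_lt hlt
        omega

theorem krylov : S τ u (finrank k (U τ u)) = U τ u := by
  rcases S_eq_or_le_finrank τ u (finrank k (U τ u)) with h | h
  · exact h
  · exact Submodule.eq_of_le_of_finrank_le (S_le_U τ u _) h

theorem U_stable : U τ u ≤ (U τ u).comap τ := by
  rw [U, span_le]
  rintro _ ⟨a, rfl⟩
  change τ ((τ ^ a) u) ∈ span k {v | ∃ a, v = (τ ^ a) u}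
  have : τ ((τ ^ a) u) = (τ ^ (a + 1)) u := by
    rw [pow_succ', Module.End.mul_apply]
  rw [this]
  exact subset_span ⟨a + 1, rfl⟩

end krylov

theorem mapQ_pow_apply {V : Type*} [AddCommGroup V] [Module k V] (p : Submodule k V)
    (τ : V →ₗ[k] V) (h : p ≤ p.comap τ) (a : ℕ) (x : V) :
    ((p.mapQ p τ h) ^ a) (p.mkQ x) = p.mkQ ((τ ^ a) x) := by
  induction a generalizing x with
  | zero => simp
  | succ a ih =>
    rw [pow_succ, Module.End.mul_apply, pow_succ, Module.End.mul_apply]
    have : (p.mapQ p τ h) (p.mkQ x) = p.mkQ (τ x) := by simp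
    rw [this, ih]

/-- Krylov-type generating family with the right cardinality. -/
theorem exists_delta : ∀ (n : ℕ) (V : Type u) [AddCommGroup V] [Module k V]
    [FiniteDimensional k V] (τ : V →ₗ[k] V) (u : Fin n → V),
    span k {v | ∃ i a, v = (τ ^ a) (u i)} = ⊤ →
    ∃ δ : Fin n → ℕ, span k {v | ∃ i a, a < δ i ∧ v = (τ ^ a) (u i)} = ⊤ ∧
      ∑ i, δ i ≤ finrank k V := by
  intro n
  induction n with
  | zero =>
    intro V _ _ _ τ u h
    refine ⟨fun _ => 0, ?_, by simp⟩
    rw [← h]
    congr 1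
    ext v
    constructor
    · rintro ⟨i, _⟩; exact i.elim0
    · rintro ⟨i, _⟩; exact i.elim0
  | succ n ih =>
    intro V _ _ _ τ u h
    set U0 := U τ (u 0) with hU0
    have hst : U0 ≤ U0.comap τ := U_stable τ (u 0)
    let τq : (V ⧸ U0) →ₗ[k] (V ⧸ U0) := U0.mapQ U0 τ hst
    let uq : Fin n → V ⧸ U0 := fun i => U0.mkQ (u i.succ)
    have hq : span k {v | ∃ i a, v = (τq ^ a) (uq i)} = ⊤ := by
      rw [eq_top_iff]
      rintro x -
      obtain ⟨y, rfl⟩ := U0.mkQ_surjective x
      have hy : y ∈ span k {v | ∃ i a, v = (τ ^ a) (u i)} := by rw [h]; trivial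
      have : U0.mkQ y ∈ (span k {v | ∃ i a, v = (τ ^ a) (u i)}).map U0.mkQ :=
        Submodule.mem_map_of_mem hy
      rw [Submodule.map_span] at this
      refine (span_le.mpr ?_) this
      rintro _ ⟨v, ⟨i, a, rfl⟩, rfl⟩
      refine Fin.cases ?_ (fun j => ?_) i
      · have : (τ ^ a) (u 0) ∈ U0 := subset_span ⟨a, rfl⟩
        have h0 : U0.mkQ ((τ ^ a) (u 0)) = 0 := by
          simpa using this
        rw [h0]
        exact zero_mem _
      · apply subset_span
        refine ⟨j, a, ?_⟩
        exact (mapQ_pow_apply U0 τ hst a (u j.succ)).symm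
    obtain ⟨δ', hδ', hsum'⟩ := ih (V ⧸ U0) τq uq hq
    refine ⟨Fin.cons (finrank k U0) δ', ?_, ?_⟩
    · set T := span k {v | ∃ i a, a < (Fin.cons (finrank k U0) δ' : Fin (n + 1) → ℕ) i ∧
        v = (τ ^ a) (u i)} with hT
      have hUT : U0 ≤ T := by
        rw [hU0, ← krylov τ (u 0), S, span_le]
        rintro _ ⟨a, ha, rfl⟩
        apply subset_span
        exact ⟨0, a, by simpa using ha, rfl⟩
      have hmap : T.map U0.mkQ = ⊤ := by
        rw [eq_top_iff, ← hδ', span_le]
        rintro _ ⟨i, a, ha, rfl⟩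
        refine ⟨(τ ^ a) (u i.succ), ?_, ?_⟩
        · apply subset_span
          exact ⟨i.succ, a, by simpa using ha, rfl⟩
        · exact (mapQ_pow_apply U0 τ hst a (u i.succ)).symm
      rw [eq_top_iff]
      rintro x -
      have hx : U0.mkQ x ∈ T.map U0.mkQ := by rw [hmap]; trivial
      obtain ⟨y, hy, hyx⟩ := hx
      have : x - y ∈ U0 := by
        have : U0.mkQ (x - y) = 0 := by rw [map_sub, hyx, sub_self]
        exact (Submodule.Quotient.mk_eq_zero U0).mp this
      have hxy : x = y + (x - y) := by abel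
      rw [hxy]
      exact T.add_mem hy (hUT this)
    · rw [Fin.sum_univ_succ]
      simp only [Fin.cons_zero, Fin.cons_succ]
      have := Submodule.finrank_quotient_add_finrank U0
      omega

end Groth.Agent.Helper29.HorA
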