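import Mathlib
import Groth.Agent.Lib.Helper29.HorA

set_option autoImplicit false
set_option linter.unusedSectionVars false
set_option linter.unusedVariables false

namespace Groth.Agent.Helper29.HorB

open Polynomial Submodule Module

universe u

variable {A : Type u} [CommRing A]

/-- An `A`-submodule of an `A[X]`-module stable under `X` is stable under all of `A[X]`. -/
theorem smul_mem_of_X_stable {L : Type*} [AddCommGroup L] [Module A L] [Module A[X] L]
    [IsScalarTower A A[X] L] (T : Submodule A L) (h : ∀ t ∈ T, (X : A[X]) • t ∈ T)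
    (q : A[X]) {t : L} (ht : t ∈ T) : q • t ∈ T := by
  have hpow : ∀ (j : ℕ), ∀ t ∈ T, (X : A[X]) ^ j • t ∈ T := by
    intro j
    induction j with
    | zero => intro t ht; simpa using ht
    | succ j ih =>
      intro t ht
      rw [pow_succ, mul_smul]
      exact ih _ (h t ht)
  induction q using Polynomial.induction_on' with
  | add p q hp hq =>
    rw [add_smul]
    exact T.add_mem hp hq
  | monomial j a =>
    rw [← C_mul_X_pow_eq_monomial, mul_smul, ← algebraMap_eq, algebraMap_smul]
    exact T.smul_mem a (hpow j t ht)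

/-- An `A`-submodule of `A[X]^n` containing the standard basis and stable under `X` is `⊤`. -/
theorem eq_top_of_X_stable (n : ℕ) (T : Submodule A (Fin n → A[X]))
    (h1 : ∀ i, (Pi.single i 1 : Fin n → A[X]) ∈ T)
    (h2 : ∀ t ∈ T, (X : A[X]) • t ∈ T) : T = ⊤ := by
  rw [eq_top_iff]
  intro x _
  have hx : x = ∑ i, x i • (Pi.single i 1 : Fin n → A[X]) := by
    ext j
    simp [Finset.sum_apply, Pi.single_apply]
  rw [hx]
  exact T.sum_mem (fun i _ => smul_mem_of_X_stable T h2 (x i) (h1 i))

/-- the quotient of `A[X]^n` by a submodule containing a monic multiple of everything is finite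
over `A` -/
theorem finite_quot [Nontrivial A] (n : ℕ) (P : Submodule A[X] (Fin n → A[X])) (f : A[X])
    (hf : f.Monic) (hfP : ∀ x : Fin n → A[X], f • x ∈ P) :
    Module.Finite A ((Fin n → A[X]) ⧸ P) := by
  set d := f.natDegree with hd
  have : Module.Finite A (degreeLT A d) := Module.Finite.equiv (degreeLTEquiv A d).symm
  let Φ : (Fin n → degreeLT A d) →ₗ[A] ((Fin n → A[X]) ⧸ P) :=
    (P.mkQ.restrictScalars A) ∘ₗ ((degreeLT A d).subtype.compLeft (Fin n))
  refine Module.Finite.of_surjective Φ ?_
  intro q
  obtain ⟨x, rfl⟩ := P.mkQ_surjective q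
  refine ⟨fun i => ⟨x i %ₘ f, ?_⟩, ?_⟩
  · rw [mem_degreeLT]
    calc (x i %ₘ f).degree < f.degree := degree_modByMonic_lt (x i) hf
      _ = (d : WithBot ℕ) := degree_eq_natDegree hf.ne_zero
  · change P.mkQ (fun i => x i %ₘ f) = P.mkQ x
    rw [eq_comm, ← sub_eq_zero, ← map_sub, mkQ_apply, Quotient.mk_eq_zero]
    have : x - (fun i => x i %ₘ f) = f • (fun i => x i /ₘ f) := by
      ext i : 1
      simp only [Pi.sub_apply, Pi.smul_apply, smul_eq_mul]
      have := modByMonic_add_div (x i) f
      rw [sub_eq_iff_eq_add, add_comm]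
      exact this.symm
    rw [this]
    exact hfP _

/-- multiplication by `X` as an `A`-linear endomorphism -/
noncomputable def mulX (L : Type*) [AddCommGroup L] [Module A L] [Module A[X] L]
    [IsScalarTower A A[X] L] : L →ₗ[A] L :=
  (Algebra.lsmul A A L (X : A[X]))

theorem mulX_apply (L : Type*) [AddCommGroup L] [Module A L] [Module A[X] L]
    [IsScalarTower A A[X] L] (l : L) : mulX (A := A) L l = (X : A[X]) • l := rfl

theorem mulX_pow_apply (L : Type*) [AddCommGroup L] [Module A L] [Module A[X] L]
    [IsScalarTower A A[X] L] (a : ℕ) (l : L) :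
    ((mulX (A := A) L) ^ a) l = (X : A[X]) ^ a • l := by
  induction a generalizing l with
  | zero => simp
  | succ a ih =>
    rw [pow_succ, Module.End.mul_apply, ih, mulX_apply, pow_succ, mul_smul]

/-- A finite `A`-module with compatible `A[X]`-structure is killed by a monic polynomial. -/
theorem exists_monic_smul_eq_zero (L : Type*) [AddCommGroup L] [Module A L] [Module A[X] L]
    [IsScalarTower A A[X] L] [Module.Finite A L] :
    ∃ χ : A[X], χ.Monic ∧ ∀ l : L, χ • l = 0 := by
  obtain ⟨χ, hχ, h0⟩ := LinearMap.exists_monic_and_aeval_eq_zero A (mulX (A := A) L)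
  refine ⟨χ, hχ, fun l => ?_⟩
  have h1 : Polynomial.aeval (mulX (A := A) L) χ = Algebra.lsmul A A L χ := by
    have := Polynomial.aeval_algHom_apply (Algebra.lsmul A A L) (X : A[X]) χ
    rw [aeval_X_left, AlgHom.id_apply] at this
    exact this
  have h2 : (Polynomial.aeval (mulX (A := A) L) χ) l = χ • l := by
    rw [h1]; rfl
  rw [← h2, h0, LinearMap.zero_apply]

end Groth.Agent.Helper29.HorB
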