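import Mathlib
import Groth.Agent.Lib.Helper29.HorB

set_option autoImplicit false
set_option linter.unusedSectionVars false
set_option linter.unusedVariables false

namespace Groth.Agent.Helper29.HorC

open Polynomial Submodule Module TensorProduct IsLocalRing HorB

universe u

variable {A : Type u} [CommRing A] [IsLocalRing A]

local notation "k" => ResidueField A

variable {n : ℕ} (P : Submodule A[X] (Fin n → A[X]))

/-- the vector `X^a e_i` -/
noncomputable def gv (n : ℕ) (i : Fin n) (a : ℕ) : Fin n → A[X] :=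
  (X : A[X]) ^ a • (Pi.single i 1 : Fin n → A[X])

/-- the `A`-linear map `F → k ⊗ (F/P)` -/
noncomputable def phi : (Fin n → A[X]) →ₗ[A] k ⊗[A] ((Fin n → A[X]) ⧸ P) :=
  (TensorProduct.mk A k ((Fin n → A[X]) ⧸ P) 1) ∘ₗ (P.mkQ.restrictScalars A)

theorem phi_apply (x : Fin n → A[X]) : phi P x = (1 : k) ⊗ₜ[A] P.mkQ x := rfl

/-- multiplication by `X` on `k ⊗ (F/P)` -/
noncomputable def tauV : (k ⊗[A] ((Fin n → A[X]) ⧸ P)) →ₗ[k] (k ⊗[A] ((Fin n → A[X]) ⧸ P)) :=
  (mulX (A := A) ((Fin n → A[X]) ⧸ P)).baseChange k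

theorem tauV_phi (x : Fin n → A[X]) : tauV P (phi P x) = phi P ((X : A[X]) • x) := by
  rw [phi_apply, phi_apply, tauV, LinearMap.baseChange_tmul, mulX_apply, map_smul]

theorem tauV_pow_phi (a : ℕ) (x : Fin n → A[X]) :
    ((tauV P) ^ a) (phi P x) = phi P ((X : A[X]) ^ a • x) := by
  induction a generalizing x with
  | zero => simp
  | succ a ih =>
    rw [pow_succ, Module.End.mul_apply, tauV_phi, ih, pow_succ, mul_smul]

theorem phi_surjective : Function.Surjective (phi P) := by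
  intro v
  obtain ⟨q, rfl⟩ := TensorProduct.mk_surjective A ((Fin n → A[X]) ⧸ P) k
    Ideal.Quotient.mk_surjective v
  obtain ⟨x, rfl⟩ := P.mkQ_surjective q
  exact ⟨x, rfl⟩

theorem span_orbit_eq_top :
    span k {v | ∃ (i : Fin n) (a : ℕ), v = ((tauV P) ^ a) (phi P (Pi.single i 1))} = ⊤ := by
  set S := span k {v | ∃ (i : Fin n) (a : ℕ), v = ((tauV P) ^ a) (phi P (Pi.single i 1))} with hS
  have hstab : ∀ v ∈ S, tauV P v ∈ S := by
    intro v hv
    have : S.map (tauV P) ≤ S := by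
      rw [hS, Submodule.map_span, span_le]
      rintro _ ⟨v, ⟨i, a, rfl⟩, rfl⟩
      apply subset_span
      refine ⟨i, a + 1, ?_⟩
      rw [pow_succ', Module.End.mul_apply]
    exact this (Submodule.mem_map_of_mem hv)
  let T : Submodule A (Fin n → A[X]) := (S.restrictScalars A).comap (phi P)
  have hT : T = ⊤ := by
    apply eq_top_of_X_stable
    · intro i
      change phi P (Pi.single i 1) ∈ S
      apply subset_span
      exact ⟨i, 0, by simp⟩
    · intro t ht
      change phi P ((X : A[X]) • t) ∈ S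
      rw [← tauV_phi]
      exact hstab _ ht
  rw [eq_top_iff]
  rintro v -
  obtain ⟨x, rfl⟩ := phi_surjective P v
  have : x ∈ T := by rw [hT]; trivial
  exact this

variable (δ : Fin n → ℕ)

/-- the `A`-span of the `X^a e_i`, `a < δ i` -/
noncomputable def Wd (δ : Fin n → ℕ) : Submodule A (Fin n → A[X]) :=
  span A {x | ∃ (i : Fin n) (a : ℕ), a < δ i ∧ x = gv n i a}

theorem ker_mkQ_restrict : LinearMap.ker (P.mkQ.restrictScalars A) = P.restrictScalars A := by
  ext x
  simp

theorem range_mkQ_restrict : LinearMap.range (P.mkQ.restrictScalars A) = ⊤ := by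
  rw [LinearMap.range_eq_top]
  exact P.mkQ_surjective

theorem Wd_sup_eq_top [Module.Finite A ((Fin n → A[X]) ⧸ P)]
    (hδ : span k {v | ∃ (i : Fin n) (a : ℕ), a < δ i ∧
      v = ((tauV P) ^ a) (phi P (Pi.single i 1))} = ⊤) :
    Wd δ ⊔ P.restrictScalars A = ⊤ := by
  have h1 : ((Wd δ).map (P.mkQ.restrictScalars A)).map
      (TensorProduct.mk A k ((Fin n → A[X]) ⧸ P) 1) = ⊤ := by
    rw [← Submodule.map_comp]
    change (Wd δ).map (phi P) = ⊤
    rw [Wd, Submodule.map_span]
    have hset : (phi P) '' {x | ∃ (i : Fin n) (a : ℕ), a < δ i ∧ x = gv n i a} =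
        {v | ∃ (i : Fin n) (a : ℕ), a < δ i ∧
          v = ((tauV P) ^ a) (phi P (Pi.single i 1))} := by
      ext v
      constructor
      · rintro ⟨x, ⟨i, a, ha, rfl⟩, rfl⟩
        exact ⟨i, a, ha, (tauV_pow_phi P a _).symm⟩
      · rintro ⟨i, a, ha, rfl⟩
        exact ⟨gv n i a, ⟨i, a, ha, rfl⟩, (tauV_pow_phi P a _).symm⟩
    rw [hset, ← Submodule.restrictScalars_span A k Ideal.Quotient.mk_surjective, hδ]
    rfl
  have h2 := (map_tensorProduct_mk_eq_top).mp h1
  rwa [LinearMap.map_eq_top_iff (range_mkQ_restrict P), ker_mkQ_restrict] at h2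


theorem gv_succ (i : Fin n) (a : ℕ) :
    (X : A[X]) • (gv n i a : Fin n → A[X]) = gv n i (a + 1) := by
  rw [gv, gv, pow_succ', mul_smul]

theorem Wd_sup_span_eq_top (p : Fin n → (Fin n → A[X]))
    (hp : ∀ j, gv n j (δ j) - p j ∈ Wd δ) :
    Wd δ ⊔ (span A[X] (Set.range p)).restrictScalars A = ⊤ := by
  have hpj : ∀ j, gv n j (δ j) ∈ Wd δ ⊔ (span A[X] (Set.range p)).restrictScalars A := by
    intro j
    have e : gv n j (δ j) = (gv n j (δ j) - p j) + p j := by abel
    rw [e]
    exact add_mem (mem_sup_left (hp j)) (mem_sup_right (subset_span ⟨j, rfl⟩))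
  apply eq_top_of_X_stable
  · intro i
    by_cases h : 0 < δ i
    · apply mem_sup_left
      apply subset_span
      exact ⟨i, 0, h, by simp [gv]⟩
    · have h0 : δ i = 0 := by omega
      have := hpj i
      rw [h0] at this
      simpa [gv] using this
  · intro t ht
    obtain ⟨w, hw, q, hq, rfl⟩ := mem_sup.mp ht
    rw [smul_add]
    clear ht
    refine add_mem ?_ (mem_sup_right ?_)
    · induction hw using span_induction with
      | mem x hx =>
        obtain ⟨i, a, ha, rfl⟩ := hx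
        rw [gv_succ]
        by_cases h : a + 1 < δ i
        · apply mem_sup_left
          apply subset_span
          exact ⟨i, a + 1, h, rfl⟩
        · have h0 : a + 1 = δ i := by omega
          rw [h0]
          exact hpj i
      | zero => rw [smul_zero]; exact zero_mem _
      | add x y _ _ hx hy => rw [smul_add]; exact add_mem hx hy
      | smul c x _ hx =>
        rw [smul_comm]
        exact Submodule.smul_mem _ c hx
    · exact (span A[X] (Set.range p)).smul_mem X hq

/-- the generating family of `Wd δ` -/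
noncomputable def Gfam (δ : Fin n → ℕ) : (Σ i : Fin n, Fin (δ i)) → (Fin n → A[X]) :=
  fun x => gv n x.1 x.2

theorem Wd_eq_span_range : Wd (A := A) δ = span A (Set.range (Gfam δ)) := by
  rw [Wd]
  congr 1
  ext x
  constructor
  · rintro ⟨i, a, ha, rfl⟩
    exact ⟨⟨i, ⟨a, ha⟩⟩, rfl⟩
  · rintro ⟨⟨i, a⟩, rfl⟩
    exact ⟨i, a, a.2, rfl⟩

theorem phi_eq_zero_of_mem {x : Fin n → A[X]} (hx : x ∈ P) : phi P x = 0 := by
  rw [phi_apply]
  have : P.mkQ x = 0 := by simpa using hx
  rw [this, tmul_zero]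

theorem span_phi_Gfam_eq_top (P' : Submodule A[X] (Fin n → A[X]))
    (h : Wd δ ⊔ P'.restrictScalars A = ⊤) :
    span k (Set.range (fun x => phi P' (Gfam δ x))) = ⊤ := by
  rw [eq_top_iff]
  rintro v -
  obtain ⟨x, rfl⟩ := phi_surjective P' v
  have hx : x ∈ Wd δ ⊔ P'.restrictScalars A := by rw [h]; trivial
  obtain ⟨w, hw, q, hq, rfl⟩ := mem_sup.mp hx
  rw [map_add, phi_eq_zero_of_mem P' hq, add_zero]
  rw [Wd_eq_span_range] at hw
  have h1 : phi P' w ∈ (span A (Set.range (Gfam δ))).map (phi P') :=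
    Submodule.mem_map_of_mem hw
  rw [Submodule.map_span, ← Set.range_comp] at h1
  exact (span_le_restrictScalars A k _) h1

theorem finrank_le_sum (P' : Submodule A[X] (Fin n → A[X]))
    (h : Wd δ ⊔ P'.restrictScalars A = ⊤) :
    Module.Finite k (k ⊗[A] ((Fin n → A[X]) ⧸ P')) ∧
      finrank k (k ⊗[A] ((Fin n → A[X]) ⧸ P')) ≤ ∑ i, δ i := by
  have hspan := span_phi_Gfam_eq_top δ P' h
  have hfin : Module.Finite k (k ⊗[A] ((Fin n → A[X]) ⧸ P')) := by
    refine ⟨?_⟩
    rw [← hspan]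
    exact Submodule.fg_span (Set.finite_range _)
  refine ⟨hfin, ?_⟩
  have h1 := finrank_range_le_card (R := k) (fun x => phi P' (Gfam δ x))
  rw [Set.finrank, hspan, finrank_top] at h1
  refine h1.trans ?_
  rw [Fintype.card_sigma]
  simp

/-- the map `k ⊗ F/P' → k ⊗ F/P` for `P' ≤ P` -/
noncomputable def piV (P' : Submodule A[X] (Fin n → A[X])) (hle : P' ≤ P) :
    (k ⊗[A] ((Fin n → A[X]) ⧸ P')) →ₗ[k] (k ⊗[A] ((Fin n → A[X]) ⧸ P)) :=
  ((P'.mapQ P LinearMap.id (by simpa using hle)).restrictScalars A).baseChange k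

theorem piV_phi (P' : Submodule A[X] (Fin n → A[X])) (hle : P' ≤ P) (x : Fin n → A[X]) :
    piV P P' hle (phi P' x) = phi P x := by
  rw [phi_apply, phi_apply, piV, LinearMap.baseChange_tmul]
  rfl

theorem mem_smul_top_of_tmul_eq_zero {Q : Type*} [AddCommGroup Q] [Module A Q] (q : Q)
    (h : (1 : k) ⊗ₜ[A] q = 0) : q ∈ (maximalIdeal A • ⊤ : Submodule A Q) := by
  have h1 := quotTensorEquivQuotSMul_mk_one_tmul (M := Q) (maximalIdeal A) q
  have h2 : (1 : A ⧸ maximalIdeal A) ⊗ₜ[A] q = 0 := h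
  rw [h2, map_zero] at h1
  exact (Submodule.Quotient.mk_eq_zero _).mp h1.symm

theorem coeff_mem_of_mem_smul_top (I : Ideal A) (y : Fin n → A[X])
    (hy : y ∈ (I • ⊤ : Submodule A (Fin n → A[X]))) (i : Fin n) (a : ℕ) :
    (y i).coeff a ∈ I := by
  refine Submodule.smul_induction_on (p := fun y => (y i).coeff a ∈ I) hy ?_ ?_
  · intro r hr z _
    simp only [Pi.smul_apply, coeff_smul, smul_eq_mul]
    exact I.mul_mem_right _ hr
  · intro x y hx hy
    simp only [Pi.add_apply, coeff_add]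
    exact I.add_mem hx hy

/-- key inclusion: `P ≤ P' + 𝔪 F` -/
theorem exists_sub_mem (P' : Submodule A[X] (Fin n → A[X])) (hle : P' ≤ P)
    [Module.Finite A ((Fin n → A[X]) ⧸ P)]
    (h : Wd δ ⊔ P'.restrictScalars A = ⊤)
    (hsum : ∑ i, δ i ≤ finrank k (k ⊗[A] ((Fin n → A[X]) ⧸ P)))
    (x : Fin n → A[X]) (hx : x ∈ P) :
    ∃ y ∈ (maximalIdeal A • ⊤ : Submodule A (Fin n → A[X])), x - y ∈ P' := by
  obtain ⟨hfin, hle'⟩ := finrank_le_sum δ P' h
  have hsurj : Function.Surjective (piV P P' hle) := by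
    intro v
    obtain ⟨z, rfl⟩ := phi_surjective P v
    exact ⟨phi P' z, piV_phi P P' hle z⟩
  have h1 := LinearMap.finrank_le_finrank_of_surjective hsurj
  have heq : finrank k (k ⊗[A] ((Fin n → A[X]) ⧸ P')) =
      finrank k (k ⊗[A] ((Fin n → A[X]) ⧸ P)) := by omega
  have hinj : Function.Injective (piV P P' hle) :=
    (LinearMap.injective_iff_surjective_of_finrank_eq_finrank heq).mpr hsurj
  have h0 : phi P' x = 0 := by
    apply hinj
    rw [piV_phi, map_zero]
    exact phi_eq_zero_of_mem P hx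
  have h2 := mem_smul_top_of_tmul_eq_zero (P'.mkQ x) h0
  have h3 : (maximalIdeal A • ⊤ : Submodule A ((Fin n → A[X]) ⧸ P')) =
      (maximalIdeal A • ⊤ : Submodule A (Fin n → A[X])).map (P'.mkQ.restrictScalars A) := by
    rw [Submodule.map_smul'', Submodule.map_top, range_mkQ_restrict]
  rw [h3] at h2
  obtain ⟨y, hy, hyx⟩ := h2
  refine ⟨y, hy, ?_⟩
  have : P'.mkQ (x - y) = 0 := by
    rw [map_sub]
    change P'.mkQ x - (P'.mkQ.restrictScalars A) y = 0
    rw [hyx, sub_self]
  exact (Submodule.Quotient.mk_eq_zero P').mp this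

end Groth.Agent.Helper29.HorC
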