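import Mathlib
import Groth.Agent.Lib.Helper29.HorC

set_option autoImplicit false
set_option linter.unusedSectionVars false
set_option linter.unusedVariables false

namespace Groth.Agent.Helper29.HorD

open Polynomial Submodule Module TensorProduct IsLocalRing HorB HorC

universe u

variable {A : Type u} [CommRing A]

/-- A finitely generated `A[X]`-submodule image in a module killed by a monic polynomial is
finitely generated over `A`. -/
theorem fg_map_of_monic_smul_eq_zero {F L : Type*} [AddCommGroup F] [Module A[X] F]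
    [Module A F] [IsScalarTower A A[X] F]
    [AddCommGroup L] [Module A[X] L] [Module A L] [IsScalarTower A A[X] L]
    (π : F →ₗ[A[X]] L) (P : Submodule A[X] F) (hfg : P.FG)
    (χ : A[X]) (hχ : χ.Monic) (h0 : ∀ l : L, χ • l = 0) :
    ((P.restrictScalars A).map (π.restrictScalars A)).FG := by
  classical
  obtain ⟨G, hG⟩ := hfg
  set d := χ.natDegree with hd
  let Sfin : Finset L := (G ×ˢ Finset.range d).image (fun ga => π ((X : A[X]) ^ ga.2 • ga.1))
  refine ⟨Sfin, ?_⟩
  apply le_antisymm
  · rw [span_le]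
    intro l hl
    obtain ⟨⟨g, a⟩, hga, rfl⟩ := Finset.mem_image.mp hl
    rw [Finset.mem_product] at hga
    refine ⟨(X : A[X]) ^ a • g, ?_, rfl⟩
    apply P.smul_mem
    rw [← hG]
    exact subset_span hga.1
  · rintro _ ⟨x, hx, rfl⟩
    change π x ∈ _
    have hx' : x ∈ span A[X] (G : Set F) := by rw [hG]; exact hx
    obtain ⟨c, -, rfl⟩ := Submodule.mem_span_finset.mp hx'
    rw [map_sum]
    refine Submodule.sum_mem _ (fun g hg => ?_)
    rw [map_smul]
    have h1 : c g • π g = (c g %ₘ χ) • π g := by
      conv_lhs => rw [← modByMonic_add_div (c g) χ, add_smul, mul_smul, h0, add_zero]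
    rw [h1]
    by_cases hd0 : d = 0
    · have h1' : χ = 1 := eq_one_of_monic_natDegree_zero hχ (by omega)
      have hz : π g = 0 := by
        have h2 := h0 (π g)
        rwa [h1', one_smul] at h2
      rw [hz, smul_zero]
      exact zero_mem _
    · have hdeg : (c g %ₘ χ).natDegree < d := by
        have hne : χ ≠ 1 := by
          intro h1
          rw [h1] at hd
          simp at hd
          exact hd0 hd
        exact natDegree_modByMonic_lt (c g) hχ hne
      rw [as_sum_range' (c g %ₘ χ) d hdeg, Finset.sum_smul]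
      refine Submodule.sum_mem _ (fun j hj => ?_)
      rw [← C_mul_X_pow_eq_monomial, mul_smul, ← algebraMap_eq, algebraMap_smul, ← map_smul]
      apply Submodule.smul_mem
      apply subset_span
      exact Finset.mem_image.mpr ⟨(g, j), Finset.mem_product.mpr ⟨hg, hj⟩, rfl⟩

theorem map_mem_smul_of_mem_mapC_smul {F L : Type*} [AddCommGroup F] [Module A[X] F]
    [Module A F] [IsScalarTower A A[X] F]
    [AddCommGroup L] [Module A[X] L] [Module A L] [IsScalarTower A A[X] L]
    (π : F →ₗ[A[X]] L) (P : Submodule A[X] F) (I : Ideal A) (y : F)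
    (hy : y ∈ (Ideal.map C I) • P) :
    π y ∈ I • ((P.restrictScalars A).map (π.restrictScalars A)) := by
  refine Submodule.smul_induction_on
    (p := fun y => π y ∈ I • ((P.restrictScalars A).map (π.restrictScalars A))) hy ?_ ?_
  · intro c hc z hz
    rw [Polynomial.as_sum_support_C_mul_X_pow c, Finset.sum_smul, map_sum]
    refine Submodule.sum_mem _ (fun j _ => ?_)
    rw [mul_smul, ← algebraMap_eq, algebraMap_smul]
    have hlin : π (c.coeff j • (X : A[X]) ^ j • z) = c.coeff j • π ((X : A[X]) ^ j • z) :=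
      (π.restrictScalars A).map_smul (c.coeff j) _
    rw [hlin]
    apply Submodule.smul_mem_smul
    · exact (Ideal.mem_map_C_iff.mp hc) j
    · exact ⟨(X : A[X]) ^ j • z, P.smul_mem _ hz, rfl⟩
  · intro x y hx hy
    rw [map_add]
    exact add_mem hx hy


/-- linear independence from a monic multiple of the identity -/
theorem linearIndependent_of_monic_mem {n : ℕ} (p : Fin n → (Fin n → A[X])) (f : A[X])
    (hf : f.Monic)
    (h : ∀ i : Fin n, f • (Pi.single i 1 : Fin n → A[X]) ∈ span A[X] (Set.range p)) :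
    LinearIndependent A[X] p := by
  classical
  -- matrix `D` with columns `p j`
  let D : Matrix (Fin n) (Fin n) A[X] := Matrix.of (fun i j => p j i)
  have hE : ∀ i : Fin n, ∃ c : Fin n → A[X], ∑ j, c j • p j = f • (Pi.single i 1 : Fin n → A[X]) :=
    fun i => (Submodule.mem_span_range_iff_exists_fun A[X]).mp (h i)
  choose c hc using hE
  let E : Matrix (Fin n) (Fin n) A[X] := Matrix.of (fun j i => c i j)
  have hDE : D * E = f • (1 : Matrix (Fin n) (Fin n) A[X]) := by
    apply Matrix.ext
    intro i l
    rw [Matrix.mul_apply]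
    have := congrFun (hc l) i
    simp only [Finset.sum_apply, Pi.smul_apply, smul_eq_mul, Pi.single_apply] at this
    simp only [D, E, Matrix.of_apply, Matrix.smul_apply, Matrix.one_apply, smul_eq_mul]
    rw [← this]
    exact Finset.sum_congr rfl (fun j _ => mul_comm (p j i) (c l j))
  have hdet : D.det * E.det = f ^ n := by
    rw [← Matrix.det_mul, hDE, Matrix.det_smul, Matrix.det_one, mul_one, Fintype.card_fin]
  rw [Fintype.linearIndependent_iff]
  intro v hv j
  have hDv : D.mulVec v = 0 := by
    funext i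
    have := congrFun hv i
    simp only [Finset.sum_apply, Pi.smul_apply, smul_eq_mul, Pi.zero_apply] at this
    simp only [Matrix.mulVec, dotProduct, D, Matrix.of_apply, Pi.zero_apply]
    rw [← this]
    exact Finset.sum_congr rfl (fun j _ => mul_comm (p j i) (v j))
  have h1 : (D.det • (1 : Matrix (Fin n) (Fin n) A[X])).mulVec v = 0 := by
    rw [← Matrix.adjugate_mul, ← Matrix.mulVec_mulVec, hDv, Matrix.mulVec_zero]
  have h2 : D.det * v j = 0 := by
    have := congrFun h1 j
    simpa [Matrix.smul_mulVec] using this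
  have h3 : f ^ n * v j = 0 := by
    rw [← hdet, mul_comm D.det, mul_assoc, h2, mul_zero]
  exact (hf.pow n).mul_right_eq_zero_iff.mp h3

variable [IsLocalRing A]

/-- **Lattice lemma** (local Horrocks): a finitely generated lattice in `A[X]^n` containing a
monic multiple of `A[X]^n`, and pure modulo the maximal ideal, is free of rank `n`. -/
theorem lattice_free (n : ℕ) (P : Submodule A[X] (Fin n → A[X])) (hfg : P.FG)
    (f : A[X]) (hf : f.Monic) (hfP : ∀ x : Fin n → A[X], f • x ∈ P)
    (hpure : ∀ x ∈ P, (∀ i a, (x i).coeff a ∈ maximalIdeal A) →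
      x ∈ (Ideal.map C (maximalIdeal A)) • P) :
    ∃ p : Fin n → (Fin n → A[X]), (∀ j, p j ∈ P) ∧ span A[X] (Set.range p) = P ∧
      LinearIndependent A[X] p := by
  have hQfin : Module.Finite A ((Fin n → A[X]) ⧸ P) := finite_quot n P f hf hfP
  obtain ⟨δ, hδspan, hδsum⟩ := HorA.exists_delta (k := ResidueField A) n _ (tauV P)
    (fun i => phi P (Pi.single i 1)) (span_orbit_eq_top P)
  have hW : Wd δ ⊔ P.restrictScalars A = ⊤ := Wd_sup_eq_top P δ hδspan
  have hex : ∀ j, ∃ pj ∈ P, gv n j (δ j) - pj ∈ Wd δ := by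
    intro j
    have : gv n j (δ j) ∈ Wd δ ⊔ P.restrictScalars A := by rw [hW]; trivial
    obtain ⟨w, hw, q, hq, hwq⟩ := mem_sup.mp this
    refine ⟨q, hq, ?_⟩
    rw [← hwq]
    simpa using hw
  choose p hpP hpW using hex
  set P' := span A[X] (Set.range p) with hP'
  have hle : P' ≤ P := span_le.mpr (by rintro _ ⟨j, rfl⟩; exact hpP j)
  have hW' : Wd δ ⊔ P'.restrictScalars A = ⊤ := Wd_sup_span_eq_top δ p hpW
  -- `F/P'` is finite over `A`
  have hQ'fin : Module.Finite A ((Fin n → A[X]) ⧸ P') := by
    refine ⟨?_⟩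
    have : (⊤ : Submodule A ((Fin n → A[X]) ⧸ P')) =
        span A (Set.range (fun x => P'.mkQ (Gfam δ x))) := by
      rw [eq_comm, eq_top_iff]
      rintro q -
      obtain ⟨x, rfl⟩ := P'.mkQ_surjective q
      have hx : x ∈ Wd δ ⊔ P'.restrictScalars A := by rw [hW']; trivial
      obtain ⟨w, hw, q', hq', rfl⟩ := mem_sup.mp hx
      have hq0 : P'.mkQ q' = 0 := by simpa using hq'
      rw [map_add, hq0, add_zero]
      rw [Wd_eq_span_range] at hw
      have h1 : (P'.mkQ.restrictScalars A) w ∈
          (span A (Set.range (Gfam δ))).map (P'.mkQ.restrictScalars A) :=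
        Submodule.mem_map_of_mem hw
      rw [Submodule.map_span, ← Set.range_comp] at h1
      exact h1
    rw [this]
    exact Submodule.fg_span (Set.finite_range _)
  obtain ⟨χ, hχ, h0⟩ := exists_monic_smul_eq_zero (A := A) ((Fin n → A[X]) ⧸ P')
  set N := (P.restrictScalars A).map (P'.mkQ.restrictScalars A) with hN
  have hNfg : N.FG := fg_map_of_monic_smul_eq_zero P'.mkQ P hfg χ hχ h0
  have hNle : N ≤ maximalIdeal A • N := by
    rintro _ ⟨x, hx, rfl⟩
    obtain ⟨y, hy, hxy⟩ := exists_sub_mem P δ P' hle hW' hδsum x hx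
    have hyP : y ∈ P := by
      have : y = x - (x - y) := by abel
      rw [this]
      exact P.sub_mem hx (hle hxy)
    have hy' : y ∈ (Ideal.map C (maximalIdeal A)) • P :=
      hpure y hyP (fun i a => coeff_mem_of_mem_smul_top _ y hy i a)
    have h1 := map_mem_smul_of_mem_mapC_smul P'.mkQ P (maximalIdeal A) y hy'
    have h2 : (P'.mkQ.restrictScalars A) x = P'.mkQ y := by
      change P'.mkQ x = P'.mkQ y
      rw [← sub_eq_zero, ← map_sub]
      exact (Submodule.Quotient.mk_eq_zero P').mpr hxy
    rw [h2]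
    exact h1
  have hNbot : N = ⊥ :=
    Submodule.eq_bot_of_le_smul_of_le_jacobson_bot (maximalIdeal A) N hNfg hNle
      (by rw [jacobson_eq_maximalIdeal ⊥ bot_ne_top])
  have hPP' : P ≤ P' := by
    intro x hx
    have : (P'.mkQ.restrictScalars A) x ∈ N := ⟨x, hx, rfl⟩
    rw [hNbot, Submodule.mem_bot] at this
    have h3 : P'.mkQ x = 0 := this
    simpa using h3
  have hPeq : P' = P := le_antisymm hle hPP'
  refine ⟨p, hpP, hPeq, ?_⟩
  apply linearIndependent_of_monic_mem p f hf
  intro i
  rw [← hP', hPeq]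
  exact hfP _

end Groth.Agent.Helper29.HorD
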