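import Mathlib
import Groth.Agent.Lib.Helper29.HorD

set_option autoImplicit false
set_option linter.unusedSectionVars false
set_option linter.unusedVariables false

namespace Groth.Agent.Helper29.HorE

open Polynomial Submodule Module IsLocalRing HorD

universe u

variable {A : Type u} [CommRing A]

/-- An idempotent matrix over a local ring splits through a free module. -/
theorem exists_split_of_idempotent [IsLocalRing A] {r : ℕ} (ε : Matrix (Fin r) (Fin r) A)
    (hε : ε * ε = ε) :
    ∃ (n : ℕ) (α : Matrix (Fin n) (Fin r) A) (β : Matrix (Fin r) (Fin n) A),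
      α * β = 1 ∧ β * α = ε := by
  classical
  let p : (Fin r → A) →ₗ[A] (Fin r → A) := Matrix.toLin' ε
  have hp : p ∘ₗ p = p := by rw [← Matrix.toLin'_mul, hε]
  let Q := LinearMap.range p
  have hpQ : ∀ x : Q, p x = x := by
    rintro ⟨x, y, rfl⟩
    exact LinearMap.congr_fun hp y
  have : Module.Projective A Q := by
    refine Module.Projective.of_split Q.subtype p.rangeRestrict ?_
    ext x : 1
    apply Subtype.ext
    simpa using hpQ x
  have : Module.Free A Q := Module.free_of_flat_of_isLocalRing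
  let b := Module.finBasis A Q
  let αL : (Fin r → A) →ₗ[A] (Fin (finrank A Q) → A) := b.equivFun.toLinearMap ∘ₗ p.rangeRestrict
  let βL : (Fin (finrank A Q) → A) →ₗ[A] (Fin r → A) := Q.subtype ∘ₗ b.equivFun.symm.toLinearMap
  refine ⟨finrank A Q, LinearMap.toMatrix' αL, LinearMap.toMatrix' βL, ?_, ?_⟩
  · rw [← LinearMap.toMatrix'_comp, ← LinearMap.toMatrix'_id]
    congr 1
    apply LinearMap.ext
    intro c
    have : p.rangeRestrict (Q.subtype (b.equivFun.symm c)) = b.equivFun.symm c := by
      apply Subtype.ext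
      exact hpQ _
    show b.equivFun (p.rangeRestrict (Q.subtype (b.equivFun.symm c))) = c
    rw [this, LinearEquiv.apply_symm_apply]
  · rw [← LinearMap.toMatrix'_comp]
    have : βL ∘ₗ αL = p := by
      apply LinearMap.ext
      intro v
      show Q.subtype (b.equivFun.symm (b.equivFun (p.rangeRestrict v))) = p v
      rw [LinearEquiv.symm_apply_apply]
      rfl
    rw [this, LinearMap.toMatrix'_toLin']


theorem mem_map_C_of_monic_mul {I : Ideal A} {F q : A[X]} (hF : F.Monic)
    (h : F * q ∈ Ideal.map (C : A →+* A[X]) I) : q ∈ Ideal.map (C : A →+* A[X]) I := by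
  have key : ∀ g : A[X], g ∈ Ideal.map (C : A →+* A[X]) I ↔
      Polynomial.map (Ideal.Quotient.mk I) g = 0 := by
    intro g
    rw [Ideal.mem_map_C_iff, Polynomial.ext_iff]
    simp only [coeff_map, coeff_zero, Ideal.Quotient.eq_zero_iff_mem]
  rw [key] at h ⊢
  rw [Polynomial.map_mul] at h
  exact (hF.map (Ideal.Quotient.mk I)).mul_right_eq_zero_iff.mp h

theorem mulVec_eq_sum_single {R : Type*} [CommRing R] {m n : ℕ} (J : Matrix (Fin m) (Fin n) R)
    (v : Fin n → R) : J.mulVec v = ∑ j, v j • J.mulVec (Pi.single j 1) := by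
  conv_lhs => rw [pi_eq_sum_univ' v]
  rw [Matrix.mulVec_sum]
  refine Finset.sum_congr rfl fun j _ => ?_
  rw [Matrix.mulVec_smul]


theorem free_of_datum [IsLocalRing A] {r n : ℕ} (E : Matrix (Fin r) (Fin r) A[X])
    (J : Matrix (Fin n) (Fin r) A[X]) (K : Matrix (Fin r) (Fin n) A[X]) (F : A[X])
    (hF : F.Monic) (hE : E * E = E) (hJE : J * E = J) (hEK : E * K = K)
    (hJK : J * K = F • (1 : Matrix (Fin n) (Fin n) A[X])) (hKJ : K * J = F • E) :
    ∃ (α : Matrix (Fin n) (Fin r) A[X]) (β : Matrix (Fin r) (Fin n) A[X]),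
      α * β = 1 ∧ β * α = E := by
  classical
  set P : Submodule A[X] (Fin n → A[X]) := LinearMap.range (Matrix.mulVecLin J) with hP
  have hfg : P.FG := by
    rw [hP, LinearMap.range_eq_map]
    exact Submodule.FG.map _ Module.Finite.fg_top
  have hfP : ∀ x : Fin n → A[X], F • x ∈ P := by
    intro x
    refine ⟨K.mulVec x, ?_⟩
    rw [Matrix.mulVecLin_apply, Matrix.mulVec_mulVec, hJK, Matrix.smul_mulVec, Matrix.one_mulVec]
  have hpure : ∀ x ∈ P, (∀ i a, (x i).coeff a ∈ maximalIdeal A) →
      x ∈ (Ideal.map C (maximalIdeal A)) • P := by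
    rintro x ⟨v, rfl⟩ hx
    rw [Matrix.mulVecLin_apply] at hx ⊢
    set v' := E.mulVec v with hv'
    have hxv' : J.mulVec v = J.mulVec v' := by
      rw [hv', Matrix.mulVec_mulVec, hJE]
    have hKx : K.mulVec (J.mulVec v) = F • v' := by
      rw [Matrix.mulVec_mulVec, hKJ, Matrix.smul_mulVec]
    have hxi : ∀ i, (J.mulVec v) i ∈ Ideal.map (C : A →+* A[X]) (maximalIdeal A) := by
      intro i
      rw [Ideal.mem_map_C_iff]
      exact hx i
    have hv'i : ∀ j, v' j ∈ Ideal.map (C : A →+* A[X]) (maximalIdeal A) := by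
      intro j
      apply mem_map_C_of_monic_mul hF
      have := congrFun hKx j
      rw [Pi.smul_apply, smul_eq_mul] at this
      rw [← this]
      simp only [Matrix.mulVec, dotProduct]
      exact Ideal.sum_mem _ fun i _ => Ideal.mul_mem_left _ _ (hxi i)
    rw [hxv', mulVec_eq_sum_single J v']
    refine Submodule.sum_mem _ fun j _ => ?_
    exact Submodule.smul_mem_smul (hv'i j) ⟨Pi.single j 1, rfl⟩
  obtain ⟨p, hpP, hspan, hli⟩ := lattice_free n P hfg F hF hfP hpure
  -- preimages
  have hw : ∀ j, ∃ w : Fin r → A[X], J.mulVec w = p j ∧ E.mulVec w = w := by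
    intro j
    obtain ⟨w₀, hw₀⟩ := hpP j
    rw [Matrix.mulVecLin_apply] at hw₀
    refine ⟨E.mulVec w₀, ?_, ?_⟩
    · rw [Matrix.mulVec_mulVec, hJE, hw₀]
    · rw [Matrix.mulVec_mulVec, hE]
  choose w hw1 hw2 using hw
  set β : Matrix (Fin r) (Fin n) A[X] := Matrix.of (fun i j => w j i) with hβ
  set Pm : Matrix (Fin n) (Fin n) A[X] := Matrix.of (fun i j => p j i) with hPm
  have hPm_mulVec : ∀ c : Fin n → A[X], Pm.mulVec c = ∑ j, c j • p j := by
    intro c
    funext i
    simp only [Matrix.mulVec, dotProduct, hPm, Matrix.of_apply, Finset.sum_apply, Pi.smul_apply,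
      smul_eq_mul]
    exact Finset.sum_congr rfl fun j _ => mul_comm _ _
  have hPm_inj : ∀ c : Fin n → A[X], Pm.mulVec c = 0 → c = 0 := by
    intro c hc
    rw [hPm_mulVec] at hc
    funext j
    exact Fintype.linearIndependent_iff.mp hli c hc j
  have hJβ : J * β = Pm := by
    apply Matrix.ext
    intro i j
    have := congrFun (hw1 j) i
    simp only [Matrix.mulVec, dotProduct] at this
    simp only [Matrix.mul_apply, hβ, hPm, Matrix.of_apply]
    exact this
  have hEβ : E * β = β := by
    apply Matrix.ext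
    intro i j
    have := congrFun (hw2 j) i
    simp only [Matrix.mulVec, dotProduct] at this
    simp only [Matrix.mul_apply, hβ, Matrix.of_apply]
    exact this
  -- columns of α
  have hc : ∀ k : Fin r, ∃ c : Fin n → A[X], Pm.mulVec c = J.mulVec (Pi.single k 1) := by
    intro k
    have hmem : J.mulVec (Pi.single k 1) ∈ span A[X] (Set.range p) := by
      rw [hspan]
      exact ⟨Pi.single k 1, rfl⟩
    obtain ⟨c, hc⟩ := (Submodule.mem_span_range_iff_exists_fun A[X]).mp hmem
    exact ⟨c, by rw [hPm_mulVec, hc]⟩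
  choose c hc using hc
  set α : Matrix (Fin n) (Fin r) A[X] := Matrix.of (fun i k => c k i) with hα
  have hPmα : Pm * α = J := by
    apply Matrix.ext
    intro i k
    have := congrFun (hc k) i
    simp only [Matrix.mulVec, dotProduct, Pi.single_apply, mul_ite, mul_one, mul_zero,
      Finset.sum_ite_eq', Finset.mem_univ, if_true] at this
    simp only [Matrix.mul_apply, hα, Matrix.of_apply]
    exact this
  have hPm_cancel : ∀ {m : ℕ} (X : Matrix (Fin n) (Fin m) A[X]), Pm * X = 0 → X = 0 := by
    intro m X hX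
    apply Matrix.ext
    intro i k
    have h1 : Pm.mulVec (fun i => X i k) = 0 := by
      funext i'
      have := congrFun (congrFun hX i') k
      simpa [Matrix.mul_apply, Matrix.mulVec, dotProduct] using this
    exact congrFun (hPm_inj _ h1) i
  refine ⟨α, β, ?_, ?_⟩
  · have : Pm * (α * β - 1) = 0 := by
      rw [Matrix.mul_sub, ← Matrix.mul_assoc, hPmα, hJβ, Matrix.mul_one, sub_self]
    exact sub_eq_zero.mp (hPm_cancel _ this)
  · have h1 : J * (β * α - E) = 0 := by
      rw [Matrix.mul_sub, ← Matrix.mul_assoc, hJβ, hPmα, hJE, sub_self]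
    have h2 : F • (β * α - E) = 0 := by
      have : K * (J * (β * α - E)) = 0 := by rw [h1, Matrix.mul_zero]
      rw [← Matrix.mul_assoc, hKJ, Matrix.smul_mul, Matrix.mul_sub, ← Matrix.mul_assoc, hEβ, hE] at this
      exact this
    have h3 : β * α - E = 0 := by
      apply Matrix.ext
      intro i j
      have := congrFun (congrFun h2 i) j
      simp only [Matrix.smul_apply, smul_eq_mul, Matrix.zero_apply] at this ⊢
      exact hF.mul_right_eq_zero_iff.mp this
    exact sub_eq_zero.mp h3


theorem map_smul_matrix {R S : Type*} [CommRing R] [CommRing S] (f : R →+* S) {m n : ℕ} (x : R)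
    (N : Matrix (Fin m) (Fin n) R) : (x • N).map f = f x • N.map f := by
  apply Matrix.ext
  intro i j
  simp [Matrix.map_apply]

/-- From a free splitting `α β` of `E` to the equivalence `E(X) ≈ E(0)`. -/
theorem equiv_const_of_split {r n : ℕ} (E : Matrix (Fin r) (Fin r) A[X])
    (α : Matrix (Fin n) (Fin r) A[X]) (β : Matrix (Fin r) (Fin n) A[X])
    (hαβ : α * β = 1) (hβα : β * α = E) :
    ∃ a b : Matrix (Fin r) (Fin r) A[X],
      a * b = (C.comp (evalRingHom (0 : A))).mapMatrix E ∧ b * a = E := by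
  set φ : A[X] →+* A[X] := C.comp (evalRingHom (0 : A)) with hφ
  have h1 : α.map φ * β.map φ = 1 := by
    rw [← Matrix.map_mul, hαβ, Matrix.map_one _ (map_zero φ) (map_one φ)]
  have h2 : β.map φ * α.map φ = φ.mapMatrix E := by
    rw [← Matrix.map_mul, hβα]; rfl
  refine ⟨β.map φ * α, β * α.map φ, ?_, ?_⟩
  · calc β.map φ * α * (β * α.map φ) = β.map φ * (α * β) * α.map φ := by
          simp only [Matrix.mul_assoc]
      _ = φ.mapMatrix E := by rw [hαβ, Matrix.mul_one, h2]
  · calc β * α.map φ * (β.map φ * α) = β * (α.map φ * β.map φ) * α := by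
          simp only [Matrix.mul_assoc]
      _ = E := by rw [h1, Matrix.mul_one, hβα]

/-- The matrix form of a "monic isomorphism" `im E ≅_F im ε[X]`. -/
structure IsDatum {r r' : ℕ} (E : Matrix (Fin r) (Fin r) A[X]) (ε : Matrix (Fin r') (Fin r') A)
    (J : Matrix (Fin r') (Fin r) A[X]) (K : Matrix (Fin r) (Fin r') A[X]) (F : A[X]) : Prop where
  hF : F.Monic
  hE : E * E = E
  hε : ε * ε = ε
  hεJ : ε.map C * J = J
  hJE : J * E = J
  hEK : E * K = K
  hKε : K * ε.map C = K
  hJK : J * K = F • ε.map C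
  hKJ : K * J = F • E

theorem IsDatum.map {B : Type*} [CommRing B] (φ : A →+* B) {r r' : ℕ}
    {E : Matrix (Fin r) (Fin r) A[X]} {ε : Matrix (Fin r') (Fin r') A}
    {J : Matrix (Fin r') (Fin r) A[X]} {K : Matrix (Fin r) (Fin r') A[X]} {F : A[X]}
    (h : IsDatum E ε J K F) :
    IsDatum (E.map (mapRingHom φ)) (ε.map φ) (J.map (mapRingHom φ)) (K.map (mapRingHom φ))
      (mapRingHom φ F) := by
  have hεC : (ε.map φ).map (C : B →+* B[X]) = (ε.map (C : A →+* A[X])).map (mapRingHom φ) := by
    apply Matrix.ext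
    intro i j
    simp [Matrix.map_apply]
  constructor
  · exact h.hF.map φ
  · rw [← Matrix.map_mul, h.hE]
  · rw [← Matrix.map_mul, h.hε]
  · rw [hεC, ← Matrix.map_mul, h.hεJ]
  · rw [← Matrix.map_mul, h.hJE]
  · rw [← Matrix.map_mul, h.hEK]
  · rw [hεC, ← Matrix.map_mul, h.hKε]
  · rw [hεC, ← Matrix.map_mul, h.hJK, map_smul_matrix]
  · rw [← Matrix.map_mul, h.hKJ, map_smul_matrix]

theorem local_equiv [IsLocalRing A] {r r' : ℕ}
    {E : Matrix (Fin r) (Fin r) A[X]} {ε : Matrix (Fin r') (Fin r') A}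
    {J : Matrix (Fin r') (Fin r) A[X]} {K : Matrix (Fin r) (Fin r') A[X]} {F : A[X]}
    (h : IsDatum E ε J K F) :
    ∃ a b : Matrix (Fin r) (Fin r) A[X],
      a * b = (C.comp (evalRingHom (0 : A))).mapMatrix E ∧ b * a = E := by
  obtain ⟨n, α, β, hαβ, hβα⟩ := exists_split_of_idempotent ε h.hε
  have hC1 : α.map (C : A →+* A[X]) * β.map (C : A →+* A[X]) = 1 := by
    rw [← Matrix.map_mul, hαβ, Matrix.map_one _ (map_zero C) (map_one C)]
  have hC2 : β.map (C : A →+* A[X]) * α.map (C : A →+* A[X]) = ε.map C := by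
    rw [← Matrix.map_mul, hβα]
  obtain ⟨α', β', h1, h2⟩ := free_of_datum E (α.map C * J) (K * β.map C) F h.hF h.hE
    (by rw [Matrix.mul_assoc, h.hJE])
    (by rw [← Matrix.mul_assoc, h.hEK])
    (by
      calc α.map C * J * (K * β.map C) = α.map C * (J * K) * β.map C := by
            simp only [Matrix.mul_assoc]
        _ = F • (α.map C * (β.map C * α.map C) * β.map C) := by
            rw [h.hJK, Matrix.mul_smul, Matrix.smul_mul, hC2]
        _ = F • 1 := by
            rw [Matrix.mul_assoc, Matrix.mul_assoc, hC1, Matrix.mul_one, hC1])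
    (by
      calc K * β.map C * (α.map C * J) = K * (β.map C * α.map C) * J := by
            simp only [Matrix.mul_assoc]
        _ = F • E := by rw [hC2, h.hKε, h.hKJ])
  exact equiv_const_of_split E α' β' h1 h2

end Groth.Agent.Helper29.HorE
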