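import Mathlib
import Groth.Agent.Lib.Helper29.HorE

set_option autoImplicit false
set_option linter.unusedSectionVars false
set_option linter.unusedVariables false
set_option linter.unusedSimpArgs false

namespace Groth.Agent.Helper29.ApproxA

open Matrix HorE

universe u v

/-- all entries lie in the subring -/
def Int0 {K : Type*} [CommRing K] (K₀ : Subring K) {m n : Type*} (M : Matrix m n K) : Prop :=
  ∀ i j, M i j ∈ K₀

section Int0
variable {K : Type*} [CommRing K] {K₀ : Subring K}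

theorem Int0.add {m n : Type*} {M N : Matrix m n K} (hM : Int0 K₀ M) (hN : Int0 K₀ N) :
    Int0 K₀ (M + N) := fun i j => K₀.add_mem (hM i j) (hN i j)

theorem Int0.sub {m n : Type*} {M N : Matrix m n K} (hM : Int0 K₀ M) (hN : Int0 K₀ N) :
    Int0 K₀ (M - N) := fun i j => K₀.sub_mem (hM i j) (hN i j)

theorem Int0.neg {m n : Type*} {M : Matrix m n K} (hM : Int0 K₀ M) :
    Int0 K₀ (-M) := fun i j => K₀.neg_mem (hM i j)

theorem Int0.smul {m n : Type*} {M : Matrix m n K} {c : K} (hc : c ∈ K₀) (hM : Int0 K₀ M) :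
    Int0 K₀ (c • M) := fun i j => K₀.mul_mem hc (hM i j)

theorem Int0.mul {l m n : Type*} [Fintype m] {M : Matrix l m K} {N : Matrix m n K}
    (hM : Int0 K₀ M) (hN : Int0 K₀ N) : Int0 K₀ (M * N) := by
  intro i j
  rw [Matrix.mul_apply]
  exact K₀.sum_mem fun k _ => K₀.mul_mem (hM i k) (hN k j)

theorem Int0.one {n : Type*} [DecidableEq n] : Int0 K₀ (1 : Matrix n n K) := by
  intro i j
  rw [Matrix.one_apply]
  split_ifs
  · exact K₀.one_mem
  · exact K₀.zero_mem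

theorem Int0.zero {m n : Type*} : Int0 K₀ (0 : Matrix m n K) := fun i j => K₀.zero_mem

/-- lift an integral matrix to the subring -/
theorem Int0.exists_lift {m n : Type*} {M : Matrix m n K} (hM : Int0 K₀ M) :
    ∃ M' : Matrix m n K₀, M'.map K₀.subtype = M :=
  ⟨Matrix.of fun i j => ⟨M i j, hM i j⟩, by ext i j; rfl⟩

theorem int0_map_subtype {m n : Type*} (M' : Matrix m n K₀) : Int0 K₀ (M'.map K₀.subtype) :=
  fun i j => (M' i j).2

/-- `det (1 + c • Y) = 1 + c * y` with `y` integral when `c`, `Y` are. -/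
theorem det_one_add_smul_int {n : ℕ} {c : K} (hc : c ∈ K₀) {Y : Matrix (Fin n) (Fin n) K}
    (hY : Int0 K₀ Y) : ∃ y ∈ K₀, det (1 + c • Y) = 1 + c * y := by
  obtain ⟨Y', rfl⟩ := hY.exists_lift
  set c' : K₀ := ⟨c, hc⟩ with hc'
  have h := Matrix.det_one_add_smul c' Y'
  set y' : K₀ := trace Y' + (det (1 + (Polynomial.X : Polynomial K₀) • Y'.map Polynomial.C)).divX.divX.eval c' * c'
    with hy'
  have h2 : det (1 + c' • Y') = 1 + c' * y' := by
    rw [h, hy']; ring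
  refine ⟨K₀.subtype y', y'.2, ?_⟩
  have h3 := congrArg K₀.subtype h2
  rw [RingHom.map_det] at h3
  have h4 : K₀.subtype.mapMatrix (1 + c' • Y') = 1 + c • Y'.map K₀.subtype := by
    rw [map_add, map_one]
    congr 1
  rw [h4] at h3
  rw [h3, map_add, map_one, map_mul]
  rfl

end Int0


theorem equiv_of_unit_datum {L : Type*} [CommRing L] {r r' : ℕ}
    (E₁ : Matrix (Fin r) (Fin r) L) (E₂ : Matrix (Fin r') (Fin r') L)
    (hE₁ : E₁ * E₁ = E₁) (hE₂ : E₂ * E₂ = E₂)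
    (Up : Matrix (Fin r') (Fin r) L) (Vp : Matrix (Fin r) (Fin r') L)
    (p1 : E₂ * Up = Up) (p2 : Up * E₁ = Up) (p3 : E₁ * Vp = Vp) (p4 : Vp * E₂ = Vp)
    (c : L) (hc : IsUnit c) (D₁ : Matrix (Fin r) (Fin r) L) (D₂ : Matrix (Fin r') (Fin r') L)
    (hD₁ : IsUnit D₁.det) (hD₂ : IsUnit D₂.det)
    (p5 : Vp * Up = c • (D₁ * E₁)) (p6 : Up * Vp = c • (E₂ * D₂)) :
    ∃ (x : Matrix (Fin r) (Fin r') L) (y : Matrix (Fin r') (Fin r) L),
      x * y = E₁ ∧ y * x = E₂ := by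
  set Lm : Matrix (Fin r) (Fin r') L := E₁ * adjugate D₁ * Vp with hLm
  set Rm : Matrix (Fin r) (Fin r') L := Vp * adjugate D₂ * E₂ with hRm
  set c₁ := c * D₁.det with hc₁
  set c₂ := c * D₂.det with hc₂
  have hc₁u : IsUnit c₁ := hc.mul hD₁
  have hc₂u : IsUnit c₂ := hc.mul hD₂
  have hLU : Lm * Up = c₁ • E₁ := by
    calc Lm * Up = E₁ * adjugate D₁ * (Vp * Up) := by simp only [hLm, Matrix.mul_assoc]
      _ = c • (E₁ * (adjugate D₁ * D₁) * E₁) := by
          rw [p5, Matrix.mul_smul]; simp only [Matrix.mul_assoc]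
      _ = c₁ • E₁ := by
          rw [adjugate_mul, Matrix.mul_smul, Matrix.mul_one, Matrix.smul_mul, hE₁, smul_smul]
  have hUR : Up * Rm = c₂ • E₂ := by
    calc Up * Rm = (Up * Vp) * adjugate D₂ * E₂ := by simp only [hRm, Matrix.mul_assoc]
      _ = c • (E₂ * (D₂ * adjugate D₂) * E₂) := by
          rw [p6, Matrix.smul_mul, Matrix.smul_mul]; simp only [Matrix.mul_assoc]
      _ = c₂ • E₂ := by
          rw [mul_adjugate, Matrix.mul_smul, Matrix.mul_one, Matrix.smul_mul, hE₂, smul_smul]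
  have hLe₂ : Lm * E₂ = Lm := by rw [hLm, Matrix.mul_assoc, p4]
  have he₁R : E₁ * Rm = Rm := by
    rw [hRm, ← Matrix.mul_assoc, ← Matrix.mul_assoc, p3]
  have hcross : c₂ • Lm = c₁ • Rm := by
    calc c₂ • Lm = Lm * (c₂ • E₂) := by rw [Matrix.mul_smul, hLe₂]
      _ = (Lm * Up) * Rm := by rw [← hUR]; exact (Matrix.mul_assoc _ _ _).symm
      _ = c₁ • Rm := by rw [hLU, Matrix.smul_mul, he₁R]
  obtain ⟨u₁, hu₁⟩ := hc₁u
  obtain ⟨u₂, hu₂⟩ := hc₂u
  have hUL : Up * Lm = c₁ • E₂ := by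
    have h1 : c₂ • (Up * Lm) = c₂ • (c₁ • E₂) := by
      rw [← Matrix.mul_smul, hcross, Matrix.mul_smul, hUR, smul_smul, smul_smul, mul_comm]
    have h2 := congrArg (fun M => (↑u₂⁻¹ : L) • M) h1
    simp only [smul_smul] at h2
    rw [← hu₂] at h2
    simpa using h2
  refine ⟨(↑u₁⁻¹ : L) • Lm, Up, ?_, ?_⟩
  · rw [Matrix.smul_mul, hLU, smul_smul, ← hu₁]
    simp
  · rw [Matrix.mul_smul, hUL, smul_smul, ← hu₁]
    simp

end Groth.Agent.Helper29.ApproxA
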