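import Mathlib
import Groth.Agent.Lib.Helper29.ApproxA

set_option autoImplicit false
set_option linter.unusedSectionVars false
set_option linter.unusedVariables false
set_option linter.unusedSimpArgs false

namespace Groth.Agent.Helper29.ApproxB

open Matrix HorE ApproxA

universe u v

/-- Abstract approximation data: `ψ : L → K` behaves like `A[1/t] → Â[1/t]`, with `K₀` the image of
`Â`. -/
structure ApproxData {L K : Type*} [CommRing L] [CommRing K] (ψ : L →+* K) (t : L)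
    (K₀ : Subring K) : Prop where
  ht : IsUnit t
  htK₀ : ψ t ∈ K₀
  H1 : ∀ x : K, ∃ n : ℕ, ψ t ^ n * x ∈ K₀
  H2 : ∀ x ∈ K₀, ∀ N : ℕ, ∃ y : L, ψ y ∈ K₀ ∧ ∃ z ∈ K₀, x = ψ y + ψ t ^ N * z
  H3 : ∀ z ∈ K₀, IsUnit (1 + ψ t * z)
  H4 : ∀ y : L, ψ y ∈ K₀ → IsUnit (1 + t * y)

variable {L K : Type*} [CommRing L] [CommRing K] {ψ : L →+* K} {t : L} {K₀ : Subring K}

theorem ApproxData.pow_mem (hA : ApproxData ψ t K₀) (n : ℕ) : ψ t ^ n ∈ K₀ :=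
  K₀.pow_mem hA.htK₀ n

theorem ApproxData.exists_pow_int (hA : ApproxData ψ t K₀) {m n : ℕ}
    (M : Matrix (Fin m) (Fin n) K) : ∃ a : ℕ, ∀ b : ℕ, a ≤ b → Int0 K₀ (ψ t ^ b • M) := by
  choose f hf using fun ij : Fin m × Fin n => hA.H1 (M ij.1 ij.2)
  refine ⟨Finset.univ.sup f, fun b hb i j => ?_⟩
  have h1 : f (i, j) ≤ b := le_trans (Finset.le_sup (Finset.mem_univ (i, j))) hb
  obtain ⟨d, rfl⟩ := Nat.exists_eq_add_of_le h1
  rw [Matrix.smul_apply, smul_eq_mul, pow_add, mul_comm (ψ t ^ f (i, j)), mul_assoc]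
  exact K₀.mul_mem (hA.pow_mem d) (hf (i, j))

theorem ApproxData.exists_approx (hA : ApproxData ψ t K₀) {m n : ℕ}
    (M₀ : Matrix (Fin m) (Fin n) K) (hM₀ : Int0 K₀ M₀) (N : ℕ) :
    ∃ (Mtr : Matrix (Fin m) (Fin n) L) (Msh : Matrix (Fin m) (Fin n) K),
      Int0 K₀ (Mtr.map ψ) ∧ Int0 K₀ Msh ∧ M₀ = Mtr.map ψ + ψ t ^ N • Msh := by
  choose y hy z hz hyz using fun ij : Fin m × Fin n => hA.H2 (M₀ ij.1 ij.2) (hM₀ ij.1 ij.2) N
  refine ⟨Matrix.of fun i j => y (i, j), Matrix.of fun i j => z (i, j), ?_, ?_, ?_⟩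
  · intro i j; exact hy (i, j)
  · intro i j; exact hz (i, j)
  · apply Matrix.ext
    intro i j
    simp only [Matrix.add_apply, Matrix.map_apply, Matrix.of_apply, Matrix.smul_apply, smul_eq_mul]
    exact hyz (i, j)


theorem map_sub_matrix {R S : Type*} [CommRing R] [CommRing S] (f : R →+* S) {m n : ℕ}
    (M N : Matrix (Fin m) (Fin n) R) : (M - N).map f = M.map f - N.map f := by
  apply Matrix.ext
  intro i j
  simp [Matrix.map_apply]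

theorem map_add_matrix {R S : Type*} [CommRing R] [CommRing S] (f : R →+* S) {m n : ℕ}
    (M N : Matrix (Fin m) (Fin n) R) : (M + N).map f = M.map f + N.map f := by
  apply Matrix.ext
  intro i j
  simp [Matrix.map_apply]

theorem approx_side (hA : ApproxData ψ t K₀) {r r' : ℕ}
    (E₁ : Matrix (Fin r) (Fin r) L) (E₂ : Matrix (Fin r') (Fin r') L)
    (hE₁ : E₁ * E₁ = E₁) (hE₂ : E₂ * E₂ = E₂)
    (U : Matrix (Fin r') (Fin r) K) (V : Matrix (Fin r) (Fin r') K)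
    (u1 : E₂.map ψ * U = U) (u2 : U * E₁.map ψ = U) (u3 : E₁.map ψ * V = V)
    (u4 : V * E₂.map ψ = V) (u5 : V * U = E₁.map ψ)
    (a k : ℕ) (IE₁ : Int0 K₀ (ψ t ^ a • E₁.map ψ)) (IE₂ : Int0 K₀ (ψ t ^ a • E₂.map ψ))
    (IU : Int0 K₀ (ψ t ^ k • U)) (IV : Int0 K₀ (ψ t ^ k • V))
    (Utr : Matrix (Fin r') (Fin r) L) (Ush : Matrix (Fin r') (Fin r) K) (hUsh : Int0 K₀ Ush)
    (hU : ψ t ^ k • U = Utr.map ψ + ψ t ^ (a + a + (k + k) + 1 + (a + a)) • Ush)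
    (Vtr : Matrix (Fin r) (Fin r') L) (Vsh : Matrix (Fin r) (Fin r') K) (hVsh : Int0 K₀ Vsh)
    (hV : ψ t ^ k • V = Vtr.map ψ + ψ t ^ (a + a + (k + k) + 1 + (a + a)) • Vsh) :
    ∃ Y₁ : Matrix (Fin r) (Fin r) L, E₁ * Y₁ = Y₁ ∧ Y₁ * E₁ = Y₁ ∧ Int0 K₀ (Y₁.map ψ) ∧
      (E₁ * Vtr * E₂) * (E₂ * Utr * E₁) = t ^ (k + k) • (E₁ + t • Y₁) := by
  obtain ⟨tu, htu⟩ := hA.ht
  set tinv : L := ↑tu⁻¹ with htinv
  have ht1 : t * tinv = 1 := by rw [← htu, htinv]; exact tu.mul_inv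
  set τ := ψ t with hτ
  have hτ1 : τ * ψ tinv = 1 := by rw [hτ, ← map_mul, ht1, map_one]
  set m := a + a + (k + k) + 1 with hm
  set e₁ := E₁.map ψ with he₁
  set e₂ := E₂.map ψ with he₂
  have hee₁ : e₁ * e₁ = e₁ := by rw [he₁, ← Matrix.map_mul, hE₁]
  have hee₂ : e₂ * e₂ = e₂ := by rw [he₂, ← Matrix.map_mul, hE₂]
  set Up := E₂ * Utr * E₁ with hUp
  set Vp := E₁ * Vtr * E₂ with hVp
  have hUtr : Utr.map ψ = τ ^ k • U - τ ^ (m + (a + a)) • Ush := by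
    rw [eq_sub_iff_add_eq]; exact hU.symm
  have hVtr : Vtr.map ψ = τ ^ k • V - τ ^ (m + (a + a)) • Vsh := by
    rw [eq_sub_iff_add_eq]; exact hV.symm
  set ZU := (τ ^ a • e₂) * Ush * (τ ^ a • e₁) with hZU
  set ZV := (τ ^ a • e₁) * Vsh * (τ ^ a • e₂) with hZV
  have IZU : Int0 K₀ ZU := (IE₂.mul hUsh).mul IE₁
  have IZV : Int0 K₀ ZV := (IE₁.mul hVsh).mul IE₂
  have hZU' : τ ^ m • ZU = τ ^ (m + (a + a)) • (e₂ * Ush * e₁) := by
    rw [hZU]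
    simp only [Matrix.smul_mul, Matrix.mul_smul, smul_smul]
    congr 1
    ring
  have hZV' : τ ^ m • ZV = τ ^ (m + (a + a)) • (e₁ * Vsh * e₂) := by
    rw [hZV]
    simp only [Matrix.smul_mul, Matrix.mul_smul, smul_smul]
    congr 1
    ring
  have hUpψ : Up.map ψ = τ ^ k • U - τ ^ m • ZU := by
    rw [hUp, Matrix.map_mul, Matrix.map_mul, hUtr, hZU', Matrix.mul_sub, Matrix.sub_mul,
      Matrix.mul_smul, Matrix.smul_mul, u1, u2, Matrix.mul_smul, Matrix.smul_mul]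
  have hVpψ : Vp.map ψ = τ ^ k • V - τ ^ m • ZV := by
    rw [hVp, Matrix.map_mul, Matrix.map_mul, hVtr, hZV', Matrix.mul_sub, Matrix.sub_mul,
      Matrix.mul_smul, Matrix.smul_mul, u3, u4, Matrix.mul_smul, Matrix.smul_mul]
  set Z₁ : Matrix (Fin r) (Fin r) K :=
    τ ^ m • (ZV * ZU) - (τ ^ k • V) * ZU - ZV * (τ ^ k • U) with hZ₁
  have IZ₁ : Int0 K₀ Z₁ :=
    (((IZV.mul IZU).smul (hA.pow_mem m)).sub (IV.mul IZU)).sub (IZV.mul IU)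
  have hprod : (Vp * Up).map ψ = τ ^ (k + k) • e₁ + τ ^ m • Z₁ := by
    rw [Matrix.map_mul, hUpψ, hVpψ, hZ₁, Matrix.sub_mul, Matrix.mul_sub, Matrix.mul_sub]
    simp only [Matrix.smul_mul, Matrix.mul_smul, smul_smul, smul_sub, u5, pow_add]
    rw [mul_comm (τ ^ k) (τ ^ m)]
    abel
  set W₁ : Matrix (Fin r) (Fin r) L := tinv ^ m • (Vp * Up - t ^ (k + k) • E₁) with hW₁
  have hW₁ψ : W₁.map ψ = Z₁ := by
    rw [hW₁, map_smul_matrix, map_sub_matrix, hprod, map_smul_matrix, map_pow, map_pow,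
      add_sub_cancel_left, smul_smul, ← mul_pow, mul_comm, hτ1, one_pow, one_smul]
  have hVpUp : Vp * Up = t ^ (k + k) • E₁ + t ^ m • W₁ := by
    rw [hW₁, smul_smul, ← mul_pow, ht1, one_pow, one_smul]
    abel
  have hE₁Vp : E₁ * Vp = Vp := by
    rw [hVp, ← Matrix.mul_assoc, ← Matrix.mul_assoc, hE₁]
  have hUpE₁ : Up * E₁ = Up := by
    rw [hUp, Matrix.mul_assoc, hE₁]
  refine ⟨t ^ (a + a) • (E₁ * W₁ * E₁), ?_, ?_, ?_, ?_⟩
  · rw [Matrix.mul_smul, ← Matrix.mul_assoc, ← Matrix.mul_assoc, hE₁]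
  · rw [Matrix.smul_mul, Matrix.mul_assoc, hE₁]
  · have : (t ^ (a + a) • (E₁ * W₁ * E₁)).map ψ = (τ ^ a • e₁) * Z₁ * (τ ^ a • e₁) := by
      rw [map_smul_matrix, Matrix.map_mul, Matrix.map_mul, hW₁ψ, map_pow]
      simp only [Matrix.smul_mul, Matrix.mul_smul, smul_smul, pow_add]
      rfl
    rw [this]
    exact (IE₁.mul IZ₁).mul IE₁
  · calc Vp * Up = E₁ * (Vp * Up) * E₁ := by
          rw [← Matrix.mul_assoc E₁ Vp Up, hE₁Vp, Matrix.mul_assoc Vp Up E₁, hUpE₁]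
      _ = t ^ (k + k) • E₁ + t ^ m • (E₁ * W₁ * E₁) := by
          rw [hVpUp, Matrix.mul_add, Matrix.add_mul, Matrix.mul_smul, Matrix.smul_mul,
            Matrix.mul_smul, Matrix.smul_mul, hE₁, hE₁]
      _ = t ^ (k + k) • (E₁ + t • t ^ (a + a) • (E₁ * W₁ * E₁)) := by
          rw [smul_add, smul_smul, smul_smul]
          congr 2
          rw [hm]
          ring


/-- the determinant of `1 + t • Y` is a unit when `Y` is integral -/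
theorem isUnit_det_one_add (hA : ApproxData ψ t K₀) {n : ℕ} (Y : Matrix (Fin n) (Fin n) L)
    (hY : Int0 K₀ (Y.map ψ)) : IsUnit (det (1 + t • Y)) := by
  have hY' : Int0 (K₀.comap ψ) Y := fun i j => hY i j
  have ht' : t ∈ K₀.comap ψ := hA.htK₀
  obtain ⟨y, hy, hdet⟩ := det_one_add_smul_int ht' hY'
  rw [hdet]
  exact hA.H4 y hy

theorem approx_iso (hA : ApproxData ψ t K₀) {r r' : ℕ}
    (E₁ : Matrix (Fin r) (Fin r) L) (E₂ : Matrix (Fin r') (Fin r') L)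
    (hE₁ : E₁ * E₁ = E₁) (hE₂ : E₂ * E₂ = E₂)
    (U : Matrix (Fin r') (Fin r) K) (V : Matrix (Fin r) (Fin r') K)
    (u1 : E₂.map ψ * U = U) (u2 : U * E₁.map ψ = U) (u3 : E₁.map ψ * V = V)
    (u4 : V * E₂.map ψ = V) (u5 : V * U = E₁.map ψ) (u6 : U * V = E₂.map ψ) :
    ∃ (x : Matrix (Fin r) (Fin r') L) (y : Matrix (Fin r') (Fin r) L),
      x * y = E₁ ∧ y * x = E₂ := by
  obtain ⟨a₁, ha₁⟩ := hA.exists_pow_int (E₁.map ψ)
  obtain ⟨a₂, ha₂⟩ := hA.exists_pow_int (E₂.map ψ)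
  obtain ⟨k₁, hk₁⟩ := hA.exists_pow_int U
  obtain ⟨k₂, hk₂⟩ := hA.exists_pow_int V
  set a := a₁ + a₂ with ha
  set k := k₁ + k₂ with hk
  have IE₁ := ha₁ a (by omega)
  have IE₂ := ha₂ a (by omega)
  have IU := hk₁ k (by omega)
  have IV := hk₂ k (by omega)
  obtain ⟨Utr, Ush, -, hUsh, hU⟩ := hA.exists_approx (ψ t ^ k • U) IU
    (a + a + (k + k) + 1 + (a + a))
  obtain ⟨Vtr, Vsh, -, hVsh, hV⟩ := hA.exists_approx (ψ t ^ k • V) IV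
    (a + a + (k + k) + 1 + (a + a))
  obtain ⟨Y₁, hY₁a, hY₁b, IY₁, h5⟩ := approx_side hA E₁ E₂ hE₁ hE₂ U V u1 u2 u3 u4 u5 a k
    IE₁ IE₂ IU IV Utr Ush hUsh hU Vtr Vsh hVsh hV
  obtain ⟨Y₂, hY₂a, hY₂b, IY₂, h6⟩ := approx_side hA E₂ E₁ hE₂ hE₁ V U u3 u4 u1 u2 u6 a k
    IE₂ IE₁ IV IU Vtr Vsh hVsh hV Utr Ush hUsh hU
  have hc : IsUnit (t ^ (k + k)) := hA.ht.pow _
  refine equiv_of_unit_datum E₁ E₂ hE₁ hE₂ (E₂ * Utr * E₁) (E₁ * Vtr * E₂) ?_ ?_ ?_ ?_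
    (t ^ (k + k)) hc (1 + t • Y₁) (1 + t • Y₂) (isUnit_det_one_add hA Y₁ IY₁)
    (isUnit_det_one_add hA Y₂ IY₂) ?_ ?_
  · rw [← Matrix.mul_assoc, ← Matrix.mul_assoc, hE₂]
  · rw [Matrix.mul_assoc, hE₁]
  · rw [← Matrix.mul_assoc, ← Matrix.mul_assoc, hE₁]
  · rw [Matrix.mul_assoc, hE₂]
  · rw [h5, Matrix.add_mul, Matrix.one_mul, Matrix.smul_mul, hY₁b]
  · rw [h6, Matrix.mul_add, Matrix.mul_one, Matrix.mul_smul, hY₂a]


theorem exists_inverse_of_isUnit_det {R : Type*} [CommRing R] {n : ℕ} (D : Matrix (Fin n) (Fin n) R)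
    (hD : IsUnit D.det) : ∃ D' : Matrix (Fin n) (Fin n) R, D * D' = 1 ∧ D' * D = 1 := by
  obtain ⟨u, hu⟩ := hD
  refine ⟨(↑u⁻¹ : R) • adjugate D, ?_, ?_⟩
  · rw [Matrix.mul_smul, mul_adjugate, smul_smul, ← hu]
    simp
  · rw [Matrix.smul_mul, adjugate_mul, smul_smul, ← hu]
    simp

theorem approx_split (hA : ApproxData ψ t K₀) {n m : ℕ} (P : Matrix (Fin n) (Fin m) K)
    (Q : Matrix (Fin m) (Fin n) K) (hPQ : P * Q = 1) :
    ∃ (P' : Matrix (Fin n) (Fin m) L) (Q' : Matrix (Fin m) (Fin n) L)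
      (g g' : Matrix (Fin m) (Fin m) K) (c : K),
      P' * Q' = 1 ∧ g * g' = 1 ∧ g' * g = 1 ∧ IsUnit c ∧ P'.map ψ = c • (P * g) := by
  obtain ⟨tu, htu⟩ := hA.ht
  set tinv : L := ↑tu⁻¹ with htinv
  have ht1 : t * tinv = 1 := by rw [← htu, htinv]; exact tu.mul_inv
  set τ := ψ t with hτ
  have hτ1 : τ * ψ tinv = 1 := by rw [hτ, ← map_mul, ht1, map_one]
  obtain ⟨k₁, hk₁⟩ := hA.exists_pow_int P
  obtain ⟨k₂, hk₂⟩ := hA.exists_pow_int Q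
  set k := k₁ + k₂ with hk
  have IP := hk₁ k (by omega)
  have IQ := hk₂ k (by omega)
  set N := k + k + 1 with hN
  obtain ⟨Ptr, Psh, -, hPsh, hP⟩ := hA.exists_approx (τ ^ k • P) IP N
  obtain ⟨Qtr, Qsh, -, hQsh, hQ⟩ := hA.exists_approx (τ ^ k • Q) IQ N
  have hPtr : Ptr.map ψ = τ ^ k • P - τ ^ N • Psh := by
    rw [eq_sub_iff_add_eq]; exact hP.symm
  have hQtr : Qtr.map ψ = τ ^ k • Q - τ ^ N • Qsh := by
    rw [eq_sub_iff_add_eq]; exact hQ.symm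
  set Z : Matrix (Fin n) (Fin n) K :=
    τ ^ N • (Psh * Qsh) - (τ ^ k • P) * Qsh - Psh * (τ ^ k • Q) with hZ
  have IZ : Int0 K₀ Z :=
    (((hPsh.mul hQsh).smul (hA.pow_mem N)).sub (IP.mul hQsh)).sub (hPsh.mul IQ)
  have hprod : (Ptr * Qtr).map ψ = τ ^ (k + k) • (1 : Matrix (Fin n) (Fin n) K) + τ ^ N • Z := by
    rw [Matrix.map_mul, hPtr, hQtr, hZ, Matrix.sub_mul, Matrix.mul_sub, Matrix.mul_sub]
    simp only [Matrix.smul_mul, Matrix.mul_smul, smul_smul, smul_sub, hPQ, pow_add]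
    rw [mul_comm (τ ^ k) (τ ^ N)]
    abel
  set Y : Matrix (Fin n) (Fin n) L :=
    tinv ^ N • (Ptr * Qtr - t ^ (k + k) • (1 : Matrix (Fin n) (Fin n) L)) with hY
  have hYψ : Y.map ψ = Z := by
    rw [hY, map_smul_matrix, map_sub_matrix, hprod, map_smul_matrix,
      Matrix.map_one _ (map_zero ψ) (map_one ψ), map_pow, map_pow,
      add_sub_cancel_left, smul_smul, ← mul_pow, mul_comm, hτ1, one_pow, one_smul]
  have hPQtr : Ptr * Qtr = t ^ (k + k) • (1 + t • Y) := by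
    rw [hY, smul_add, smul_smul, smul_smul]
    have : t ^ (k + k) * t * tinv ^ N = 1 := by
      rw [hN, ← pow_succ, ← mul_pow, ht1, one_pow]
    rw [this, one_smul]
    abel
  have hDu : IsUnit (det (1 + t • Y)) := isUnit_det_one_add hA Y (by rw [hYψ]; exact IZ)
  obtain ⟨Dinv, hD1, hD2⟩ := exists_inverse_of_isUnit_det _ hDu
  set G : Matrix (Fin m) (Fin m) K := -((τ ^ k • Q) * Psh) with hG
  have IG : Int0 K₀ G := (IQ.mul hPsh).neg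
  obtain ⟨z, hz, hdetg⟩ := det_one_add_smul_int (K₀ := K₀) hA.htK₀ IG
  have hgu : IsUnit (det (1 + τ • G)) := by rw [hdetg]; exact hA.H3 z hz
  obtain ⟨g', hg1, hg2⟩ := exists_inverse_of_isUnit_det _ hgu
  refine ⟨Ptr, tinv ^ (k + k) • (Qtr * Dinv), 1 + τ • G, g', τ ^ k, ?_, hg1, hg2, ?_, ?_⟩
  · rw [Matrix.mul_smul, ← Matrix.mul_assoc, hPQtr, Matrix.smul_mul, hD1, smul_smul, ← mul_pow,
      mul_comm, ht1, one_pow, one_smul]
  · exact (hA.ht.map ψ).pow k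
  · have h1 : P * ((τ ^ k • Q) * Psh) = τ ^ k • Psh := by
      rw [Matrix.smul_mul, Matrix.mul_smul, ← Matrix.mul_assoc, hPQ, Matrix.one_mul]
    have h2 : τ ^ N = τ ^ k * τ * τ ^ k := by rw [hN]; ring
    rw [hPtr, hG, Matrix.mul_add, Matrix.mul_one, Matrix.mul_smul, Matrix.mul_neg, h1, smul_add,
      smul_neg, smul_neg, smul_smul, smul_smul, h2, sub_eq_add_neg]

end Groth.Agent.Helper29.ApproxB
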