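import Mathlib

set_option autoImplicit false
set_option linter.unusedSectionVars false
set_option linter.unusedVariables false

namespace Groth.Agent.Helper29.HorF

open Matrix

universe u

variable {R : Type u} [CommRing R] {n : ℕ}

/-- The determinant controlling how far two idempotents are from having isomorphic images. -/
noncomputable def gdet (E ε : Matrix (Fin n) (Fin n) R) : R :=
  det (E * ε * E + 1 - E) * det (ε * E * ε + 1 - ε)

theorem map_gdet {S : Type*} [CommRing S] (φ : R →+* S) (E ε : Matrix (Fin n) (Fin n) R)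
    (hε : ε * ε = ε) (h : E.map φ = ε.map φ) : φ (gdet E ε) = 1 := by
  have hε' : ε.map φ * ε.map φ = ε.map φ := by rw [← Matrix.map_mul, hε]
  have h1 : (E * ε * E + 1 - E).map φ = 1 := by
    have : (E * ε * E + 1 - E).map φ = E.map φ * ε.map φ * E.map φ + 1 - E.map φ := by
      show φ.mapMatrix (E * ε * E + 1 - E) = φ.mapMatrix E * φ.mapMatrix ε * φ.mapMatrix E + 1
        - φ.mapMatrix E
      rw [map_sub, map_add, map_mul, map_mul, map_one]
    rw [this, h, hε', hε']
    abel
  have h2 : (ε * E * ε + 1 - ε).map φ = 1 := by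
    have : (ε * E * ε + 1 - ε).map φ = ε.map φ * E.map φ * ε.map φ + 1 - ε.map φ := by
      show φ.mapMatrix (ε * E * ε + 1 - ε) = φ.mapMatrix ε * φ.mapMatrix E * φ.mapMatrix ε + 1
        - φ.mapMatrix ε
      rw [map_sub, map_add, map_mul, map_mul, map_one]
    rw [this, h, hε', hε']
    abel
  have d1 : φ (det (E * ε * E + 1 - E)) = 1 := by
    rw [RingHom.map_det]
    show det ((E * ε * E + 1 - E).map φ) = 1
    rw [h1, det_one]
  have d2 : φ (det (ε * E * ε + 1 - ε)) = 1 := by
    rw [RingHom.map_det]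
    show det ((ε * E * ε + 1 - ε).map φ) = 1
    rw [h2, det_one]
  rw [gdet, map_mul, d1, d2, mul_one]

theorem exists_approx_inverse (E ε : Matrix (Fin n) (Fin n) R) (hE : E * E = E)
    (hε : ε * ε = ε) :
    ∃ θ : Matrix (Fin n) (Fin n) R,
      θ * (E * ε) = gdet E ε • ε ∧ (E * ε) * θ = gdet E ε • E ∧ ε * θ = θ ∧ θ * E = θ := by
  set D' := E * ε * E + 1 - E with hD'
  set D'' := ε * E * ε + 1 - ε with hD''
  set g' := det D' with hg'
  set g'' := det D'' with hg''
  have hED' : E * D' = E * ε * E := by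
    rw [hD', mul_sub, mul_add, mul_one, hE]
    simp only [← mul_assoc, hE]
    abel
  have hD''ε : D'' * ε = ε * E * ε := by
    rw [hD'', sub_mul, add_mul, one_mul, hε]
    simp only [mul_assoc, hε]
    abel
  set π₁ := ε * adjugate D'' * ε * E with hπ₁
  set π₂ := ε * E * adjugate D' * E with hπ₂
  have h1 : π₁ * (E * ε) = g'' • ε := by
    calc π₁ * (E * ε) = ε * adjugate D'' * (ε * (E * E) * ε) := by
          simp only [hπ₁, mul_assoc]
      _ = ε * (adjugate D'' * D'') * ε := by
          rw [hE, ← hD''ε]; simp only [mul_assoc]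
      _ = g'' • ε := by
          rw [adjugate_mul, mul_smul_comm, mul_one, smul_mul_assoc, hε]
  have h2 : (E * ε) * π₂ = g' • E := by
    calc (E * ε) * π₂ = (E * (ε * ε) * E) * adjugate D' * E := by
          simp only [hπ₂, mul_assoc]
      _ = E * (D' * adjugate D') * E := by
          rw [hε, ← hED']; simp only [mul_assoc]
      _ = g' • E := by
          rw [mul_adjugate, mul_smul_comm, mul_one, smul_mul_assoc, hE]
  have hεπ₂ : ε * π₂ = π₂ := by
    simp only [hπ₂, ← mul_assoc, hε]
  have hπ₁E : π₁ * E = π₁ := by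
    simp only [hπ₁, mul_assoc, hE]
  have hεπ₁ : ε * π₁ = π₁ := by
    simp only [hπ₁, ← mul_assoc, hε]
  have hπ₂E : π₂ * E = π₂ := by
    simp only [hπ₂, mul_assoc, hE]
  have h3 : g'' • π₂ = g' • π₁ := by
    have e1 : π₁ * (E * ε) * π₂ = g'' • π₂ := by
      rw [h1, smul_mul_assoc, hεπ₂]
    have e2 : π₁ * ((E * ε) * π₂) = g' • π₁ := by
      rw [h2, mul_smul_comm, hπ₁E]
    rw [← e1, ← e2, mul_assoc]
  refine ⟨g'' • π₂, ?_, ?_, ?_, ?_⟩
  · rw [h3, smul_mul_assoc, h1, smul_smul]
    rfl
  · rw [mul_smul_comm, h2, smul_smul, mul_comm]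
    rfl
  · rw [mul_smul_comm, hεπ₂]
  · rw [smul_mul_assoc, hπ₂E]

end Groth.Agent.Helper29.HorF
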