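import Mathlib
import Groth.Agent.Lib.Helper29.HorE
import Groth.Agent.Lib.Helper29.HorF

set_option autoImplicit false
set_option linter.unusedSectionVars false
set_option linter.unusedVariables false

namespace Groth.Agent.Helper29.HorG

open Polynomial LaurentPolynomial HorE HorF

universe u

variable {A : Type u} [CommRing A]

/-- `X ↦ T` -/
noncomputable def ι : A[X] →+* A[T;T⁻¹] := Polynomial.toLaurent

/-- `X ↦ T⁻¹` -/
noncomputable def ι' : A[X] →+* A[T;T⁻¹] :=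
  (invert : A[T;T⁻¹] ≃ₐ[A] A[T;T⁻¹]).toRingEquiv.toRingHom.comp Polynomial.toLaurent

theorem ι_apply (p : A[X]) : ι p = toLaurent p := rfl
theorem ι'_apply (p : A[X]) : ι' p = invert (toLaurent p) := rfl

theorem ι_C (a : A) : ι (Polynomial.C a) = LaurentPolynomial.C a := by
  rw [ι_apply, toLaurent_C]

theorem ι'_C (a : A) : ι' (Polynomial.C a) = LaurentPolynomial.C a := by
  rw [ι'_apply, toLaurent_C, invert_C]

theorem ι_injective : Function.Injective (ι : A[X] →+* A[T;T⁻¹]) := toLaurent_injective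

theorem exists_T_mul (b : A[T;T⁻¹]) : ∃ n : ℕ, ∀ N : ℕ, n ≤ N → ∃ p : A[X], ι p = T N * b := by
  obtain ⟨n, f, hf⟩ := exists_T_pow b
  refine ⟨n, fun N hN => ⟨f * X ^ (N - n), ?_⟩⟩
  rw [ι_apply, map_mul, hf, toLaurent_X_pow, mul_T_assoc, T_mul]
  congr 2
  omega

theorem exists_T_mul_family {κ : Type*} [Finite κ] (fam : κ → A[T;T⁻¹]) :
    ∃ n : ℕ, ∀ N : ℕ, n ≤ N → ∀ i, ∃ p : A[X], ι p = T N * fam i := by
  classical
  have := Fintype.ofFinite κ
  choose n hn using fun i => exists_T_mul (fam i)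
  refine ⟨Finset.univ.sup n, fun N hN i => hn i N ?_⟩
  exact le_trans (Finset.le_sup (Finset.mem_univ i)) hN

theorem exists_monic_reverse (g : A[X]) (hg : g.coeff 0 = 1) :
    ∃ (d : ℕ) (f : A[X]), f.Monic ∧ ι f = ι' g * T d := by
  refine ⟨g.natDegree, g.reverse, ?_, ?_⟩
  · nontriviality A
    have h0 : g.coeff 0 ≠ 0 := by rw [hg]; exact one_ne_zero
    rw [Monic, reverse_leadingCoeff, trailingCoeff_eq_coeff_zero h0, hg]
  · rw [ι_apply, ι'_apply, toLaurent_reverse]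


theorem exists_matrix_T_mul {m n : ℕ} (M : Matrix (Fin m) (Fin n) A[T;T⁻¹]) :
    ∃ n₀ : ℕ, ∀ N : ℕ, n₀ ≤ N → ∃ M' : Matrix (Fin m) (Fin n) A[X], M'.map ι = (T N : A[T;T⁻¹]) • M := by
  obtain ⟨n₀, h⟩ := exists_T_mul_family (fun ij : Fin m × Fin n => M ij.1 ij.2)
  refine ⟨n₀, fun N hN => ?_⟩
  choose f hf using h N hN
  refine ⟨Matrix.of fun i j => f (i, j), ?_⟩
  apply Matrix.ext
  intro i j
  simp only [Matrix.map_apply, Matrix.of_apply, Matrix.smul_apply, smul_eq_mul]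
  exact hf (i, j)

theorem map_ι_injective {m n : ℕ} {M N : Matrix (Fin m) (Fin n) A[X]}
    (h : M.map ι = N.map ι) : M = N := by
  apply Matrix.ext
  intro i j
  apply ι_injective
  have := congrFun (congrFun h i) j
  simpa [Matrix.map_apply] using this

theorem map_C_ι {n : ℕ} (ε : Matrix (Fin n) (Fin n) A) :
    (ε.map (Polynomial.C : A →+* A[X])).map ι' = (ε.map (Polynomial.C : A →+* A[X])).map ι := by
  apply Matrix.ext
  intro i j
  simp only [Matrix.map_apply, ι_C, ι'_C]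

/-- Stage B: `ℙ¹` gluing data in matrix form produce a monic datum. -/
theorem exists_datum {r r' : ℕ} (E : Matrix (Fin r) (Fin r) A[X])
    (E' : Matrix (Fin r') (Fin r') A[X])
    (H : Matrix (Fin r') (Fin r) A[T;T⁻¹]) (H' : Matrix (Fin r) (Fin r') A[T;T⁻¹])
    (hE : E * E = E) (hE' : E' * E' = E')
    (h1 : H * E.map ι = H) (h2 : E'.map ι' * H = H) (h4 : E.map ι * H' = H')
    (h5 : H' * H = E.map ι) (h6 : H * H' = E'.map ι') :
    ∃ (J : Matrix (Fin r') (Fin r) A[X]) (K : Matrix (Fin r) (Fin r') A[X]) (F : A[X]),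
      IsDatum E (E'.map (evalRingHom (0 : A))) J K F := by
  set ε : Matrix (Fin r') (Fin r') A := E'.map (evalRingHom (0 : A)) with hεdef
  have hε : ε * ε = ε := by rw [hεdef, ← Matrix.map_mul, hE']
  set ε₁ : Matrix (Fin r') (Fin r') A[X] := ε.map (Polynomial.C : A →+* A[X]) with hε₁def
  have hε₁ : ε₁ * ε₁ = ε₁ := by rw [hε₁def, ← Matrix.map_mul, hε]
  obtain ⟨θ, hθψ, hψθ, hεθ, hθE'⟩ := exists_approx_inverse E' ε₁ hE' hε₁
  set g := gdet E' ε₁ with hg
  have hg0 : g.coeff 0 = 1 := by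
    rw [coeff_zero_eq_eval_zero]
    have := map_gdet (evalRingHom (0 : A)) E' ε₁ hε₁ (by
      apply Matrix.ext
      intro i j
      simp [hε₁def, hεdef, Matrix.map_apply])
    simpa using this
  set ψ := E' * ε₁ with hψ
  have hψε : ψ * ε₁ = ψ := by rw [hψ, mul_assoc, hε₁]
  have hθE'ψ : θ * E' * ψ = g • ε₁ := by rw [hθE', hθψ]
  set J₀ := θ.map ι' * H with hJ₀
  set K₀ := H' * ψ.map ι' with hK₀
  have ra : ε₁.map ι' * J₀ = J₀ := by
    rw [hJ₀, ← Matrix.mul_assoc, ← Matrix.map_mul, hεθ]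
  have rb : J₀ * E.map ι = J₀ := by
    rw [hJ₀, Matrix.mul_assoc, h1]
  have rc : E.map ι * K₀ = K₀ := by
    rw [hK₀, ← Matrix.mul_assoc, h4]
  have rd : K₀ * ε₁.map ι' = K₀ := by
    rw [hK₀, Matrix.mul_assoc, ← Matrix.map_mul, hψε]
  have re : J₀ * K₀ = ι' g • ε₁.map ι' := by
    calc J₀ * K₀ = θ.map ι' * (H * H') * ψ.map ι' := by
          simp only [hJ₀, hK₀, Matrix.mul_assoc]
      _ = (θ * E' * ψ).map ι' := by
          rw [h6, ← Matrix.map_mul, ← Matrix.map_mul]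
      _ = ι' g • ε₁.map ι' := by rw [hθE'ψ, map_smul_matrix]
  have rf : K₀ * J₀ = ι' g • E.map ι := by
    calc K₀ * J₀ = H' * (ψ.map ι' * θ.map ι') * H := by
          simp only [hJ₀, hK₀, Matrix.mul_assoc]
      _ = H' * (ι' g • E'.map ι') * H := by
          rw [← Matrix.map_mul, hψθ, map_smul_matrix]
      _ = ι' g • (H' * (E'.map ι' * H)) := by
          rw [Matrix.mul_smul, Matrix.smul_mul, Matrix.mul_assoc]
      _ = ι' g • E.map ι := by rw [h2, h5]
  obtain ⟨nJ, hnJ⟩ := exists_matrix_T_mul J₀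
  obtain ⟨nK, hnK⟩ := exists_matrix_T_mul K₀
  obtain ⟨d, f, hf, hfd⟩ := exists_monic_reverse g hg0
  set N := nJ + nK + d with hN
  obtain ⟨J, hJ⟩ := hnJ N (by omega)
  obtain ⟨K, hK⟩ := hnK N (by omega)
  set F : A[X] := X ^ (2 * N - d) * f with hFdef
  have hF : ι F = T N * T N * ι' g := by
    rw [hFdef, map_mul, hfd, ι_apply, toLaurent_X_pow, ← T_add, mul_comm (ι' g), ← mul_assoc,
      ← T_add]
    congr 2
    omega
  have hε₁ι : ε₁.map ι' = ε₁.map ι := map_C_ι ε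
  rw [hε₁ι] at ra rd re
  refine ⟨J, K, F, ?_⟩
  constructor
  · exact (monic_X_pow _).mul hf
  · exact hE
  · exact hε
  · apply map_ι_injective
    rw [Matrix.map_mul, hJ, Matrix.mul_smul, ra]
  · apply map_ι_injective
    rw [Matrix.map_mul, hJ, Matrix.smul_mul, rb]
  · apply map_ι_injective
    rw [Matrix.map_mul, hK, Matrix.mul_smul, rc]
  · apply map_ι_injective
    rw [Matrix.map_mul, hK, Matrix.smul_mul, rd]
  · apply map_ι_injective
    rw [Matrix.map_mul, hJ, hK, Matrix.smul_mul, Matrix.mul_smul, re, smul_smul, smul_smul,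
      map_smul_matrix, hF]
  · apply map_ι_injective
    rw [Matrix.map_mul, hJ, hK, Matrix.smul_mul, Matrix.mul_smul, rf, smul_smul, smul_smul,
      map_smul_matrix, hF]

end Groth.Agent.Helper29.HorG
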