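import Mathlib

set_option autoImplicit false
set_option linter.unusedSectionVars false
set_option linter.unusedVariables false

namespace Groth.Agent.Helper29.HorH

open TensorProduct

universe u v w

variable {R : Type u} [CommRing R] (S : Type v) [CommRing S] [Algebra R S]
  {M : Type w} [AddCommGroup M] [Module R M] {r : ℕ}
  (f : (Fin r → R) →ₗ[R] M) (g : M →ₗ[R] (Fin r → R))

/-- `S^r → S ⊗ M` induced by `f`. -/
noncomputable def uMap : (Fin r → S) →ₗ[S] S ⊗[R] M :=
  Fintype.linearCombination S (fun i => (1 : S) ⊗ₜ[R] f (Pi.single i 1))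

/-- `S ⊗ M → S^r` induced by `g`. -/
noncomputable def cMap : S ⊗[R] M →ₗ[S] (Fin r → S) :=
  LinearMap.liftBaseChange S (((Algebra.linearMap R S).compLeft (Fin r)) ∘ₗ g)

theorem uMap_apply (v : Fin r → S) :
    uMap S f v = ∑ i, v i • ((1 : S) ⊗ₜ[R] f (Pi.single i 1)) := by
  rw [uMap, Fintype.linearCombination_apply]

theorem cMap_tmul (s : S) (m : M) (j : Fin r) :
    cMap S g (s ⊗ₜ m) j = s * algebraMap R S (g m j) := by
  rw [cMap, LinearMap.liftBaseChange_tmul]
  simp

theorem u_c (hfg : f ∘ₗ g = LinearMap.id) (x : S ⊗[R] M) : uMap S f (cMap S g x) = x := by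
  induction x using TensorProduct.induction_on with
  | zero => simp
  | add x y hx hy => rw [map_add, map_add, hx, hy]
  | tmul s m =>
    rw [uMap_apply]
    have h1 : ∀ i, cMap S g (s ⊗ₜ m) i • ((1 : S) ⊗ₜ[R] f (Pi.single i 1)) =
        s ⊗ₜ[R] (g m i • f (Pi.single i 1)) := by
      intro i
      rw [cMap_tmul, TensorProduct.smul_tmul', smul_eq_mul, mul_one, TensorProduct.tmul_smul,
        TensorProduct.smul_tmul', Algebra.smul_def, mul_comm]
    rw [Finset.sum_congr rfl (fun i _ => h1 i), ← TensorProduct.tmul_sum]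
    congr 1
    have h2 : ∑ i, g m i • f (Pi.single i 1) = f (g m) := by
      conv_rhs => rw [pi_eq_sum_univ' (g m)]
      rw [map_sum]
      refine Finset.sum_congr rfl fun i _ => ?_
      rw [map_smul]
    rw [h2]
    exact LinearMap.congr_fun hfg m

theorem c_u (v : Fin r → S) :
    cMap S g (uMap S f v) =
      ((LinearMap.toMatrix' (g ∘ₗ f)).map (algebraMap R S)).mulVec v := by
  funext j
  rw [uMap_apply, map_sum]
  simp only [map_smul, Finset.sum_apply, Pi.smul_apply, cMap_tmul, one_mul, smul_eq_mul,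
    Matrix.mulVec, dotProduct, Matrix.map_apply, LinearMap.toMatrix'_apply, LinearMap.comp_apply]
  refine Finset.sum_congr rfl fun i _ => ?_
  rw [mul_comm]

end Groth.Agent.Helper29.HorH
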