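import Mathlib
import Groth.Agent.Lib.Helper29.HorG
import Groth.Agent.Lib.Helper29.HorH

set_option autoImplicit false
set_option linter.unusedSectionVars false
set_option linter.unusedVariables false

namespace Groth.Agent.Helper29.HorI

open Polynomial LaurentPolynomial TensorProduct HorG HorH

universe u

variable {A : Type u} [CommRing A]
  {M : Type u} [AddCommGroup M] [Module A[X] M]
  {N : Type u} [AddCommGroup N] [Module A[X] N]
  {r r' : ℕ}

/-- coordinatewise inversion `T ↦ T⁻¹` -/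
noncomputable def sg {n : ℕ} (v : Fin n → A[T;T⁻¹]) : Fin n → A[T;T⁻¹] := fun j => invert (v j)

theorem sg_sg {n : ℕ} (v : Fin n → A[T;T⁻¹]) : sg (sg v) = v := by
  funext j
  exact involutive_invert (v j)

theorem sg_add {n : ℕ} (v w : Fin n → A[T;T⁻¹]) : sg (v + w) = sg v + sg w := by
  funext j
  simp [sg]

theorem sg_smul {n : ℕ} (b : A[T;T⁻¹]) (v : Fin n → A[T;T⁻¹]) :
    sg (b • v) = invert b • sg v := by
  funext j
  simp [sg]

theorem sg_mulVec {m n : ℕ} (Mx : Matrix (Fin m) (Fin n) A[X]) (v : Fin n → A[T;T⁻¹]) :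
    sg ((Mx.map ι).mulVec v) = (Mx.map ι').mulVec (sg v) := by
  funext j
  simp only [sg, Matrix.mulVec, dotProduct, map_sum, map_mul, Matrix.map_apply]
  rfl

theorem sg_mulVec' {m n : ℕ} (Mx : Matrix (Fin m) (Fin n) A[X]) (v : Fin n → A[T;T⁻¹]) :
    sg ((Mx.map ι').mulVec v) = (Mx.map ι).mulVec (sg v) := by
  have := sg_mulVec Mx (sg v)
  rw [sg_sg] at this
  rw [← this, sg_sg]


theorem mul_eq_of_apply {l m n : ℕ} {R : Type*} [CommRing R] (X : Matrix (Fin l) (Fin m) R)
    (Y : Matrix (Fin m) (Fin n) R) (Z : Matrix (Fin l) (Fin n) R)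
    (h : ∀ v, X.mulVec (Y.mulVec v) = Z.mulVec v) : X * Y = Z := by
  apply Matrix.toLin'.injective
  apply LinearMap.ext
  intro v
  rw [Matrix.toLin'_mul, LinearMap.comp_apply, Matrix.toLin'_apply, Matrix.toLin'_apply,
    Matrix.toLin'_apply, h]

/-- Stage C: a semilinear bijection between the two charts gives gluing matrices. -/
theorem exists_H (f : (Fin r → A[X]) →ₗ[A[X]] M) (g : M →ₗ[A[X]] (Fin r → A[X]))
    (hfg : f ∘ₗ g = LinearMap.id)
    (f' : (Fin r' → A[X]) →ₗ[A[X]] N) (g' : N →ₗ[A[X]] (Fin r' → A[X]))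
    (hfg' : f' ∘ₗ g' = LinearMap.id)
    (e : A[T;T⁻¹] ⊗[A[X]] M → A[T;T⁻¹] ⊗[A[X]] N)
    (hadd : ∀ x y, e (x + y) = e x + e y)
    (hsmul : ∀ (b : A[T;T⁻¹]) x, e (b • x) = invert b • e x)
    (hbij : Function.Bijective e) :
    ∃ (H : Matrix (Fin r') (Fin r) A[T;T⁻¹]) (H' : Matrix (Fin r) (Fin r') A[T;T⁻¹]),
      H * (LinearMap.toMatrix' (g ∘ₗ f)).map ι = H ∧
      (LinearMap.toMatrix' (g' ∘ₗ f')).map ι' * H = H ∧
      (LinearMap.toMatrix' (g ∘ₗ f)).map ι * H' = H' ∧
      H' * H = (LinearMap.toMatrix' (g ∘ₗ f)).map ι ∧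
      H * H' = (LinearMap.toMatrix' (g' ∘ₗ f')).map ι' := by
  classical
  set E := LinearMap.toMatrix' (g ∘ₗ f) with hEdef
  set E' := LinearMap.toMatrix' (g' ∘ₗ f') with hE'def
  set uM := uMap A[T;T⁻¹] f with huM
  set cM := cMap A[T;T⁻¹] g with hcM
  set uN := uMap A[T;T⁻¹] f' with huN
  set cN := cMap A[T;T⁻¹] g' with hcN
  have hucM : ∀ x, uM (cM x) = x := u_c A[T;T⁻¹] f g hfg
  have hucN : ∀ x, uN (cN x) = x := u_c A[T;T⁻¹] f' g' hfg'
  have hcuM : ∀ v, cM (uM v) = (E.map ι).mulVec v := c_u A[T;T⁻¹] f g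
  have hcuN : ∀ v, cN (uN v) = (E'.map ι).mulVec v := c_u A[T;T⁻¹] f' g'
  let eq := Equiv.ofBijective e hbij
  have heq : ∀ x, eq x = e x := fun x => rfl
  have hinv_add : ∀ x y, eq.symm (x + y) = eq.symm x + eq.symm y := by
    intro x y
    apply eq.injective
    rw [Equiv.apply_symm_apply, heq, hadd, ← heq, ← heq, Equiv.apply_symm_apply,
      Equiv.apply_symm_apply]
  have hinv_smul : ∀ (b : A[T;T⁻¹]) x, eq.symm (b • x) = invert b • eq.symm x := by
    intro b x
    apply eq.injective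
    rw [Equiv.apply_symm_apply, heq, hsmul, ← heq, Equiv.apply_symm_apply]
    congr 1
    exact (involutive_invert b).symm
  let hL : (Fin r → A[T;T⁻¹]) →ₗ[A[T;T⁻¹]] (Fin r' → A[T;T⁻¹]) :=
    { toFun := fun v => sg (cN (e (uM v)))
      map_add' := by
        intro v w
        rw [map_add, hadd, map_add, sg_add]
      map_smul' := by
        intro b v
        rw [map_smul, hsmul, map_smul, sg_smul]
        simp only [RingHom.id_apply]
        congr 1
        exact involutive_invert b }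
  let h'L : (Fin r' → A[T;T⁻¹]) →ₗ[A[T;T⁻¹]] (Fin r → A[T;T⁻¹]) :=
    { toFun := fun w => cM (eq.symm (uN (sg w)))
      map_add' := by
        intro v w
        rw [sg_add, map_add, hinv_add, map_add]
      map_smul' := by
        intro b v
        rw [sg_smul, map_smul, hinv_smul, map_smul]
        simp only [RingHom.id_apply]
        congr 1
        exact involutive_invert b }
  have hLa : ∀ v, hL v = sg (cN (e (uM v))) := fun v => rfl
  have h'La : ∀ w, h'L w = cM (eq.symm (uN (sg w))) := fun w => rfl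
  set H := LinearMap.toMatrix' hL with hH
  set H' := LinearMap.toMatrix' h'L with hH'
  have hHv : ∀ v, H.mulVec v = hL v := by
    intro v
    rw [hH, ← Matrix.toLin'_apply, Matrix.toLin'_toMatrix']
  have hH'v : ∀ v, H'.mulVec v = h'L v := by
    intro v
    rw [hH', ← Matrix.toLin'_apply, Matrix.toLin'_toMatrix']
  refine ⟨H, H', ?_, ?_, ?_, ?_, ?_⟩
  · apply mul_eq_of_apply
    intro v
    rw [hHv, hHv, hLa, hLa, ← hcuM, hucM]
  · apply mul_eq_of_apply
    intro v
    rw [hHv, hLa, ← sg_mulVec, ← hcuN, hucN]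
  · apply mul_eq_of_apply
    intro v
    rw [hH'v, h'La, ← hcuM, hucM]
  · apply mul_eq_of_apply
    intro v
    rw [hHv, hH'v, hLa, h'La, sg_sg, hucN, ← heq, Equiv.symm_apply_apply, hcuM]
  · apply mul_eq_of_apply
    intro v
    rw [hHv, hH'v, hLa, h'La, hucM, ← heq, Equiv.apply_symm_apply, hcuN, sg_mulVec, sg_sg]

end Groth.Agent.Helper29.HorI
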