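import Mathlib

set_option autoImplicit false
set_option linter.unusedSectionVars false
set_option linter.unusedVariables false

namespace Groth.Agent.Helper29.QuillenA

open Polynomial

universe u v

variable {A : Type u} [CommRing A]

/-- `X ↦ X + cY` -/
noncomputable def sig (c : A) : A[X] →+* A[X][X] :=
  eval₂RingHom (C.comp C) (C X + C (C c) * X)

/-- `Y ↦ tY` -/
noncomputable def psi (t : A) : A[X][X] →+* A[X][X] :=
  eval₂RingHom C (C (C t) * X)

/-- `X ↦ X + cY` on two-variable polynomials, `Y` fixed -/
noncomputable def theta (c : A) : A[X][X] →+* A[X][X] :=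
  eval₂RingHom (sig c) X

/-- `Y ↦ 0` -/
noncomputable def ev0 : A[X][X] →+* A[X] := evalRingHom (0 : A[X])

/-- `X ↦ 0` -/
noncomputable def rho : A[X][X] →+* A[X] := mapRingHom (evalRingHom (0 : A))

@[simp] theorem sig_C (c a : A) : sig c (C a) = C (C a) := by simp [sig]
@[simp] theorem sig_X (c : A) : sig c X = C X + C (C c) * X := by simp [sig]
@[simp] theorem psi_C (t : A) (p : A[X]) : psi t (C p) = C p := by simp [psi]
@[simp] theorem psi_X (t : A) : psi t X = C (C t) * X := by simp [psi]
@[simp] theorem theta_C (c : A) (p : A[X]) : theta c (C p) = sig c p := by simp [theta]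
@[simp] theorem theta_X (c : A) : theta c X = X := by simp [theta]
@[simp] theorem ev0_C (p : A[X]) : ev0 (C p) = p := by simp [ev0]
@[simp] theorem ev0_X : ev0 (X : A[X][X]) = 0 := by simp [ev0]
@[simp] theorem rho_C (p : A[X]) : rho (C p) = C (p.eval 0) := by simp [rho]
@[simp] theorem rho_X : rho (X : A[X][X]) = X := by simp [rho]

theorem psi_comp_C (t : A) : (psi t).comp C = C := by
  apply RingHom.ext
  intro p
  simp

theorem psi_comp_sig (t c : A) : (psi t).comp (sig c) = sig (t * c) := by
  apply Polynomial.ringHom_ext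
  · intro a; simp
  · simp only [RingHom.comp_apply, sig_X, map_add, map_mul, psi_C, psi_X]
    ring

theorem ev0_comp_psi (t : A) : (ev0 (A := A)).comp (psi t) = ev0 := by
  apply Polynomial.ringHom_ext
  · intro p; simp
  · simp

theorem theta_comp_C (c : A) : (theta c).comp C = sig c := by
  apply RingHom.ext
  intro p
  simp

theorem theta_comp_sig (c₁ c₂ : A) : (theta c₁).comp (sig c₂) = sig (c₁ + c₂) := by
  apply Polynomial.ringHom_ext
  · intro a; simp
  · simp only [RingHom.comp_apply, sig_X, map_add, map_mul, theta_C, theta_X, sig_C]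
    ring

theorem ev0_comp_sig (c : A) : (ev0 (A := A)).comp (sig c) = RingHom.id _ := by
  apply Polynomial.ringHom_ext
  · intro a; simp
  · simp

theorem ev0_comp_theta (c : A) : (ev0 (A := A)).comp (theta c) = ev0 := by
  apply Polynomial.ringHom_ext
  · intro p
    simp only [RingHom.comp_apply, theta_C, ev0_C]
    exact RingHom.congr_fun (ev0_comp_sig c) p
  · simp

theorem ev0_comp_C : (ev0 (A := A)).comp C = RingHom.id _ := by
  apply RingHom.ext
  intro p
  simp

theorem rho_comp_C : (rho (A := A)).comp C = C.comp (evalRingHom (0 : A)) := by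
  apply RingHom.ext
  intro p
  simp

theorem rho_comp_sig_one : (rho (A := A)).comp (sig 1) = RingHom.id _ := by
  apply Polynomial.ringHom_ext
  · intro a; simp
  · simp

theorem sig_zero : sig (0 : A) = C := by
  apply Polynomial.ringHom_ext
  · intro a; simp
  · simp

section nat

variable {L : Type v} [CommRing L] (ι : A →+* L)

theorem nat_sig (c : A) :
    (mapRingHom (mapRingHom ι)).comp (sig c) = (sig (ι c)).comp (mapRingHom ι) := by
  apply Polynomial.ringHom_ext
  · intro a; simp
  · simp

theorem nat_psi (t : A) :
    (mapRingHom (mapRingHom ι)).comp (psi t) = (psi (ι t)).comp (mapRingHom (mapRingHom ι)) := by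
  apply Polynomial.ringHom_ext
  · intro p; simp
  · simp

theorem nat_C :
    (mapRingHom (mapRingHom ι)).comp C = C.comp (mapRingHom ι) := by
  apply RingHom.ext
  intro p
  simp

theorem nat_ev0 :
    (mapRingHom ι).comp ev0 = ev0.comp (mapRingHom (mapRingHom ι)) := by
  apply Polynomial.ringHom_ext
  · intro p; simp
  · simp

end nat

end Groth.Agent.Helper29.QuillenA
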