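import Mathlib
import Groth.Agent.Lib.Helper29.QuillenA

set_option autoImplicit false
set_option linter.unusedSectionVars false
set_option linter.unusedVariables false

namespace Groth.Agent.Helper29.QuillenB

open Polynomial QuillenA

universe u v

variable {A : Type u} [CommRing A] (M : Submonoid A) (L : Type v) [CommRing L] [Algebra A L]
  [IsLocalization M L]

/-- common denominators for finitely many two-variable polynomials over a localization -/
theorem exists_common_denominator {κ : Type*} [Finite κ] (fam : κ → L[X][X]) :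
    ∃ s ∈ M, ∀ i, ∃ p : A[X][X],
      mapRingHom (mapRingHom (algebraMap A L)) p = C (C (algebraMap A L s)) * fam i := by
  classical
  cases nonempty_fintype κ
  let alg1 : Algebra A[X] L[X] := Polynomial.algebra A L
  have loc1 : IsLocalization (M.map C) L[X] := Polynomial.isLocalization M L
  let alg2 : Algebra A[X][X] L[X][X] := Polynomial.algebra A[X] L[X]
  have loc2 : IsLocalization ((M.map C).map C) L[X][X] := Polynomial.isLocalization (M.map C) L[X]
  obtain ⟨b, hb⟩ := IsLocalization.exist_integer_multiples ((M.map C).map C) Finset.univ fam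
  obtain ⟨b1, hb1, hb1'⟩ := Submonoid.mem_map.mp b.2
  obtain ⟨s, hs, hs'⟩ := Submonoid.mem_map.mp hb1
  refine ⟨s, hs, fun i => ?_⟩
  obtain ⟨p, hp⟩ := hb i (Finset.mem_univ i)
  refine ⟨p, ?_⟩
  have h1 : algebraMap A[X][X] L[X][X] p = mapRingHom (mapRingHom (algebraMap A L)) p := rfl
  rw [← h1, hp, Algebra.smul_def]
  congr 1
  have h2 : algebraMap A[X][X] L[X][X] (b : A[X][X]) =
      mapRingHom (mapRingHom (algebraMap A L)) (b : A[X][X]) := rfl
  rw [h2, ← hb1', ← hs']
  simp

theorem exists_smul_eq_zero {κ : Type*} [Finite κ] (fam : κ → A[X][X])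
    (h : ∀ i, mapRingHom (mapRingHom (algebraMap A L)) (fam i) = 0) :
    ∃ t ∈ M, ∀ i, C (C t) * fam i = 0 := by
  classical
  cases nonempty_fintype κ
  let alg1 : Algebra A[X] L[X] := Polynomial.algebra A L
  have loc1 : IsLocalization (M.map C) L[X] := Polynomial.isLocalization M L
  let alg2 : Algebra A[X][X] L[X][X] := Polynomial.algebra A[X] L[X]
  have loc2 : IsLocalization ((M.map C).map C) L[X][X] := Polynomial.isLocalization (M.map C) L[X]
  have h1 : ∀ i, ∃ t ∈ M, C (C t) * fam i = 0 := by
    intro i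
    have : algebraMap A[X][X] L[X][X] (fam i) = 0 := h i
    obtain ⟨b, hb⟩ := (IsLocalization.map_eq_zero_iff ((M.map C).map C) L[X][X] (fam i)).mp this
    obtain ⟨b1, hb1, hb1'⟩ := Submonoid.mem_map.mp b.2
    obtain ⟨s, hs, hs'⟩ := Submonoid.mem_map.mp hb1
    refine ⟨s, hs, ?_⟩
    rw [hs', hb1']
    exact hb
  choose t ht ht0 using h1
  refine ⟨∏ i, t i, M.prod_mem (fun i _ => ht i), fun i => ?_⟩
  rw [← Finset.mul_prod_erase Finset.univ t (Finset.mem_univ i)]
  rw [C_mul, C_mul, mul_comm (C (C (t i))), mul_assoc, ht0 i, mul_zero]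

end Groth.Agent.Helper29.QuillenB
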