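import Mathlib
import Groth.Agent.Lib.Helper29.QuillenB

set_option autoImplicit false
set_option linter.unusedSectionVars false
set_option linter.unusedVariables false

namespace Groth.Agent.Helper29.QuillenC

open Polynomial QuillenA

universe u v

variable {A : Type u} [CommRing A] {r : ℕ}

theorem mm_comp {α β γ : Type*} [Semiring α] [Semiring β] [Semiring γ] (f : β →+* γ) (g : α →+* β)
    (M : Matrix (Fin r) (Fin r) α) :
    f.mapMatrix (g.mapMatrix M) = (f.comp g).mapMatrix M := rfl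

theorem mm_id {α : Type*} [Semiring α] (M : Matrix (Fin r) (Fin r) α) :
    (RingHom.id α).mapMatrix M = M := by
  rw [RingHom.mapMatrix_id]; rfl

theorem mm_idem {α β : Type*} [Semiring α] [Semiring β] (f : α →+* β)
    {M : Matrix (Fin r) (Fin r) α} (h : M * M = M) : f.mapMatrix M * f.mapMatrix M = f.mapMatrix M := by
  rw [← map_mul, h]

variable (E : Matrix (Fin r) (Fin r) A[X])

/-- `E(X + cY) ≈ E(X)` over `A[X,Y]`, normalized at `Y = 0`. -/
def Good (c : A) : Prop :=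
  ∃ a b : Matrix (Fin r) (Fin r) A[X][X],
    a * b = C.mapMatrix E ∧ b * a = (sig c).mapMatrix E ∧ ev0.mapMatrix a = E ∧ ev0.mapMatrix b = E

variable {E}

theorem good_zero (hE : E * E = E) : Good E 0 := by
  refine ⟨C.mapMatrix E, C.mapMatrix E, mm_idem C hE, ?_, ?_, ?_⟩
  · rw [sig_zero]; exact mm_idem C hE
  · rw [mm_comp, ev0_comp_C, mm_id]
  · rw [mm_comp, ev0_comp_C, mm_id]

theorem good_mul (c' : A) {c : A} (h : Good E c) : Good E (c' * c) := by
  obtain ⟨a, b, hab, hba, ha, hb⟩ := h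
  refine ⟨(psi c').mapMatrix a, (psi c').mapMatrix b, ?_, ?_, ?_, ?_⟩
  · rw [← map_mul, hab, mm_comp, psi_comp_C]
  · rw [← map_mul, hba, mm_comp, psi_comp_sig]
  · rw [mm_comp, ev0_comp_psi, ha]
  · rw [mm_comp, ev0_comp_psi, hb]

theorem good_add (hE : E * E = E) {c₁ c₂ : A} (h₁ : Good E c₁) (h₂ : Good E c₂) :
    Good E (c₁ + c₂) := by
  obtain ⟨a₁, b₁, hab₁, hba₁, ha₁, hb₁⟩ := h₁
  obtain ⟨a₂, b₂, hab₂, hba₂, ha₂, hb₂⟩ := h₂
  have hab₂' : (theta c₁).mapMatrix a₂ * (theta c₁).mapMatrix b₂ = (sig c₁).mapMatrix E := by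
    rw [← map_mul, hab₂, mm_comp, theta_comp_C]
  have hba₂' : (theta c₁).mapMatrix b₂ * (theta c₁).mapMatrix a₂ = (sig (c₁ + c₂)).mapMatrix E := by
    rw [← map_mul, hba₂, mm_comp, theta_comp_sig]
  refine ⟨a₁ * (theta c₁).mapMatrix a₂, (theta c₁).mapMatrix b₂ * b₁, ?_, ?_, ?_, ?_⟩
  · calc a₁ * (theta c₁).mapMatrix a₂ * ((theta c₁).mapMatrix b₂ * b₁)
        = a₁ * ((theta c₁).mapMatrix a₂ * (theta c₁).mapMatrix b₂) * b₁ := by
          simp only [mul_assoc]
      _ = a₁ * (b₁ * a₁) * b₁ := by rw [hab₂', hba₁]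
      _ = (a₁ * b₁) * (a₁ * b₁) := by simp only [mul_assoc]
      _ = C.mapMatrix E := by rw [hab₁]; exact mm_idem C hE
  · calc (theta c₁).mapMatrix b₂ * b₁ * (a₁ * (theta c₁).mapMatrix a₂)
        = (theta c₁).mapMatrix b₂ * (b₁ * a₁) * (theta c₁).mapMatrix a₂ := by
          simp only [mul_assoc]
      _ = (theta c₁).mapMatrix b₂ * ((theta c₁).mapMatrix a₂ * (theta c₁).mapMatrix b₂) *
            (theta c₁).mapMatrix a₂ := by rw [hba₁, hab₂']
      _ = ((theta c₁).mapMatrix b₂ * (theta c₁).mapMatrix a₂) *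
            ((theta c₁).mapMatrix b₂ * (theta c₁).mapMatrix a₂) := by simp only [mul_assoc]
      _ = (sig (c₁ + c₂)).mapMatrix E := by rw [hba₂']; exact mm_idem _ hE
  · rw [map_mul, ha₁, mm_comp, ev0_comp_theta, ha₂, hE]
  · rw [map_mul, hb₁, mm_comp, ev0_comp_theta, hb₂, hE]

/-- the Quillen ideal -/
def goodIdeal (hE : E * E = E) : Ideal A where
  carrier := {c | Good E c}
  zero_mem' := good_zero hE
  add_mem' := fun h₁ h₂ => good_add hE h₁ h₂
  smul_mem' := fun c' _ h => good_mul c' h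

theorem mem_goodIdeal (hE : E * E = E) (c : A) : c ∈ goodIdeal hE ↔ Good E c := Iff.rfl

theorem good_one (h : Good E 1) :
    ∃ a b : Matrix (Fin r) (Fin r) A[X],
      a * b = (C.comp (evalRingHom (0 : A))).mapMatrix E ∧ b * a = E := by
  obtain ⟨a, b, hab, hba, -, -⟩ := h
  refine ⟨rho.mapMatrix a, rho.mapMatrix b, ?_, ?_⟩
  · rw [← map_mul, hab, mm_comp, rho_comp_C]
  · rw [← map_mul, hba, mm_comp, rho_comp_sig_one, mm_id]

end Groth.Agent.Helper29.QuillenC
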