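import Mathlib
import Groth.Agent.Lib.Helper29.QuillenC

set_option autoImplicit false
set_option linter.unusedSectionVars false
set_option linter.unusedVariables false

namespace Groth.Agent.Helper29.QuillenD

open Polynomial QuillenA QuillenB QuillenC

universe u v

variable {r : ℕ}

theorem mm_smul {α β : Type*} [Semiring α] [Semiring β] (f : α →+* β) (x : α)
    (N : Matrix (Fin r) (Fin r) α) : f.mapMatrix (x • N) = f x • f.mapMatrix N := by
  ext i j
  simp [RingHom.mapMatrix_apply, Matrix.map_apply]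

theorem sig_comp_C {B : Type*} [CommRing B] (c : B) : (sig c).comp C = C.comp C := by
  apply RingHom.ext
  intro a
  simp

theorem decomp {B : Type*} [CommRing B] (N : Matrix (Fin r) (Fin r) B[X][X]) :
    N = C.mapMatrix (ev0.mapMatrix N) + (X : B[X][X]) • N.map divX := by
  ext i j : 1
  simp only [RingHom.mapMatrix_apply, Matrix.map_apply, Matrix.add_apply, Matrix.smul_apply,
    smul_eq_mul]
  have h := divX_mul_X_add (N i j)
  rw [coeff_zero_eq_eval_zero] at h
  conv_lhs => rw [← h]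
  rw [add_comm, mul_comm]
  rfl

theorem eq_zero_of_X_smul_eq_zero {B : Type*} [CommRing B] (N : Matrix (Fin r) (Fin r) B[X][X])
    (h : (X : B[X][X]) • N = 0) : N = 0 := by
  ext i j : 1
  have h1 := congrFun (congrFun h i) j
  simp only [Matrix.smul_apply, smul_eq_mul, Matrix.zero_apply] at h1 ⊢
  ext n : 1
  have h2 := congrArg (fun p => p.coeff (n + 1)) h1
  simpa using h2



theorem sig_mm_const {B : Type*} [CommRing B] (c : B) (N : Matrix (Fin r) (Fin r) B[X]) :
    (sig c).mapMatrix ((C.comp (evalRingHom (0 : B))).mapMatrix N) =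
      C.mapMatrix ((C.comp (evalRingHom (0 : B))).mapMatrix N) := by
  rw [mm_comp, mm_comp, ← RingHom.comp_assoc, sig_comp_C, RingHom.comp_assoc]

variable {A : Type u} [CommRing A] {L : Type v} [CommRing L]

theorem key_lemma (ι : A →+* L) (s : A) (E : Matrix (Fin r) (Fin r) A[X])
    (x1 : Matrix (Fin r) (Fin r) L[X][X]) (x1' : Matrix (Fin r) (Fin r) A[X][X])
    (hx : (mapRingHom (mapRingHom ι)).mapMatrix x1' = (C (C (ι s)) : L[X][X]) • x1) :
    (mapRingHom (mapRingHom ι)).mapMatrix (C.mapMatrix E + (X : A[X][X]) • (psi s).mapMatrix x1') =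
      (psi (ι s)).mapMatrix (C.mapMatrix ((mapRingHom ι).mapMatrix E) + (X : L[X][X]) • x1) := by
  have e1 : (mapRingHom (mapRingHom ι)).mapMatrix (C.mapMatrix E) =
      C.mapMatrix ((mapRingHom ι).mapMatrix E) := by
    rw [mm_comp, nat_C, ← mm_comp]
  have e2 : (mapRingHom (mapRingHom ι)) (X : A[X][X]) = X := by simp
  have e3 : (mapRingHom (mapRingHom ι)).mapMatrix ((psi s).mapMatrix x1') =
      (C (C (ι s)) : L[X][X]) • (psi (ι s)).mapMatrix x1 := by
    rw [mm_comp, nat_psi, ← mm_comp, hx, mm_smul, psi_C]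
  have e4 : (psi (ι s)).mapMatrix (C.mapMatrix ((mapRingHom ι).mapMatrix E)) =
      C.mapMatrix ((mapRingHom ι).mapMatrix E) := by
    rw [mm_comp, psi_comp_C]
  rw [map_add, map_add, mm_smul, mm_smul, e1, e2, e3, e4, psi_X, smul_smul, mul_comm]

variable {E : Matrix (Fin r) (Fin r) A[X]}
  (M : Submonoid A) (L) [Algebra A L] [IsLocalization M L]

theorem exists_good (hE : E * E = E) (a b : Matrix (Fin r) (Fin r) L[X])
    (hab : a * b = (C.comp (evalRingHom (0 : L))).mapMatrix
      ((mapRingHom (algebraMap A L)).mapMatrix E))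
    (hba : b * a = (mapRingHom (algebraMap A L)).mapMatrix E) :
    ∃ c ∈ M, Good E c := by
  classical
  have hELid : (mapRingHom (algebraMap A L)).mapMatrix E * (mapRingHom (algebraMap A L)).mapMatrix E
      = (mapRingHom (algebraMap A L)).mapMatrix E := mm_idem _ hE
  generalize hEL : (mapRingHom (algebraMap A L)).mapMatrix E = EL at hab hba hELid
  have hbEa : b * (C.comp (evalRingHom (0 : L))).mapMatrix EL * a = EL := by
    rw [← hab]
    calc b * (a * b) * a = (b * a) * (b * a) := by simp only [mul_assoc]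
      _ = EL := by rw [hba, hELid]
  set at' := C.mapMatrix b * (sig (1 : L)).mapMatrix a with hat
  set bt' := (sig (1 : L)).mapMatrix b * C.mapMatrix a with hbt
  have h1 : at' * bt' = C.mapMatrix EL := by
    calc at' * bt' = C.mapMatrix b * ((sig (1 : L)).mapMatrix a * (sig (1 : L)).mapMatrix b) *
          C.mapMatrix a := by simp only [hat, hbt, mul_assoc]
      _ = C.mapMatrix b * C.mapMatrix ((C.comp (evalRingHom (0 : L))).mapMatrix EL) *
          C.mapMatrix a := by
          rw [← map_mul, hab, sig_mm_const]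
      _ = C.mapMatrix EL := by rw [← map_mul, ← map_mul, hbEa]
  have h2 : bt' * at' = (sig (1 : L)).mapMatrix EL := by
    calc bt' * at' = (sig (1 : L)).mapMatrix b * (C.mapMatrix a * C.mapMatrix b) *
          (sig (1 : L)).mapMatrix a := by simp only [hat, hbt, mul_assoc]
      _ = (sig (1 : L)).mapMatrix b *
          (sig (1 : L)).mapMatrix ((C.comp (evalRingHom (0 : L))).mapMatrix EL) *
          (sig (1 : L)).mapMatrix a := by
          rw [← map_mul, hab, sig_mm_const]
      _ = (sig (1 : L)).mapMatrix EL := by rw [← map_mul, ← map_mul, hbEa]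
  have h3 : ev0.mapMatrix at' = EL := by
    rw [hat, map_mul, mm_comp, mm_comp, ev0_comp_C, ev0_comp_sig, mm_id, mm_id, hba]
  have h4 : ev0.mapMatrix bt' = EL := by
    rw [hbt, map_mul, mm_comp, mm_comp, ev0_comp_C, ev0_comp_sig, mm_id, mm_id, hba]
  set a1 := at'.map divX with ha1
  set b1 := bt'.map divX with hb1
  have hat_dec : at' = C.mapMatrix EL + (X : L[X][X]) • a1 := by
    have := decomp at'
    rwa [h3] at this
  have hbt_dec : bt' = C.mapMatrix EL + (X : L[X][X]) • b1 := by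
    have := decomp bt'
    rwa [h4] at this
  -- denominators
  let fam : (Fin r × Fin r) ⊕ (Fin r × Fin r) → L[X][X] :=
    Sum.elim (fun ij => a1 ij.1 ij.2) (fun ij => b1 ij.1 ij.2)
  obtain ⟨s, hs, hfam⟩ := exists_common_denominator M L fam
  have hA : ∃ a1' : Matrix (Fin r) (Fin r) A[X][X],
      (mapRingHom (mapRingHom (algebraMap A L))).mapMatrix a1' =
        (C (C (algebraMap A L s)) : L[X][X]) • a1 := by
    choose f hf using fun ij : Fin r × Fin r => hfam (Sum.inl ij)
    refine ⟨Matrix.of (fun i j => f (i, j)), ?_⟩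
    ext i j : 1
    simp only [RingHom.mapMatrix_apply, Matrix.map_apply, Matrix.of_apply, Matrix.smul_apply,
      smul_eq_mul]
    exact hf (i, j)
  have hB : ∃ b1' : Matrix (Fin r) (Fin r) A[X][X],
      (mapRingHom (mapRingHom (algebraMap A L))).mapMatrix b1' =
        (C (C (algebraMap A L s)) : L[X][X]) • b1 := by
    choose f hf using fun ij : Fin r × Fin r => hfam (Sum.inr ij)
    refine ⟨Matrix.of (fun i j => f (i, j)), ?_⟩
    ext i j : 1
    simp only [RingHom.mapMatrix_apply, Matrix.map_apply, Matrix.of_apply, Matrix.smul_apply,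
      smul_eq_mul]
    exact hf (i, j)
  obtain ⟨a1', ha1'⟩ := hA
  obtain ⟨b1', hb1'⟩ := hB
  set ah := C.mapMatrix E + (X : A[X][X]) • (psi s).mapMatrix a1' with hah
  set bh := C.mapMatrix E + (X : A[X][X]) • (psi s).mapMatrix b1' with hbh
  have keyA : (mapRingHom (mapRingHom (algebraMap A L))).mapMatrix ah =
      (psi (algebraMap A L s)).mapMatrix at' := by
    rw [hah, hat_dec, ← hEL]; exact key_lemma (algebraMap A L) s E a1 a1' ha1'
  have keyB : (mapRingHom (mapRingHom (algebraMap A L))).mapMatrix bh =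
      (psi (algebraMap A L s)).mapMatrix bt' := by
    rw [hbh, hbt_dec, ← hEL]; exact key_lemma (algebraMap A L) s E b1 b1' hb1'
  have hev_ah : ev0.mapMatrix ah = E := by
    rw [hah, map_add, mm_smul, mm_comp, ev0_comp_C, mm_id, ev0_X, zero_smul, add_zero]
  have hev_bh : ev0.mapMatrix bh = E := by
    rw [hbh, map_add, mm_smul, mm_comp, ev0_comp_C, mm_id, ev0_X, zero_smul, add_zero]
  set Δ1 := ah * bh - C.mapMatrix E with hΔ1
  set Δ2 := bh * ah - (sig s).mapMatrix E with hΔ2
  have hιΔ1 : (mapRingHom (mapRingHom (algebraMap A L))).mapMatrix Δ1 = 0 := by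
    rw [hΔ1, map_sub, map_mul, keyA, keyB, ← map_mul, h1, mm_comp, psi_comp_C, mm_comp, nat_C,
      ← mm_comp, hEL, sub_self]
  have hιΔ2 : (mapRingHom (mapRingHom (algebraMap A L))).mapMatrix Δ2 = 0 := by
    rw [hΔ2, map_sub, map_mul, keyB, keyA, ← map_mul, h2, mm_comp, psi_comp_sig, mm_comp, nat_sig,
      ← mm_comp, hEL, mul_one, sub_self]
  have hevΔ1 : ev0.mapMatrix Δ1 = 0 := by
    rw [hΔ1, map_sub, map_mul, hev_ah, hev_bh, mm_comp, ev0_comp_C, mm_id, hE, sub_self]
  have hevΔ2 : ev0.mapMatrix Δ2 = 0 := by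
    rw [hΔ2, map_sub, map_mul, hev_ah, hev_bh, mm_comp, ev0_comp_sig, mm_id, hE, sub_self]
  set Δ1' := Δ1.map divX with hΔ1'
  set Δ2' := Δ2.map divX with hΔ2'
  have hΔ1dec : Δ1 = (X : A[X][X]) • Δ1' := by
    have := decomp Δ1
    rwa [hevΔ1, map_zero, zero_add] at this
  have hΔ2dec : Δ2 = (X : A[X][X]) • Δ2' := by
    have := decomp Δ2
    rwa [hevΔ2, map_zero, zero_add] at this
  have hX : (mapRingHom (mapRingHom (algebraMap A L))) (X : A[X][X]) = X := by simp
  have hιΔ1' : (mapRingHom (mapRingHom (algebraMap A L))).mapMatrix Δ1' = 0 := by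
    apply eq_zero_of_X_smul_eq_zero
    have := hιΔ1
    rwa [hΔ1dec, mm_smul, hX] at this
  have hιΔ2' : (mapRingHom (mapRingHom (algebraMap A L))).mapMatrix Δ2' = 0 := by
    apply eq_zero_of_X_smul_eq_zero
    have := hιΔ2
    rwa [hΔ2dec, mm_smul, hX] at this
  let fam2 : (Fin r × Fin r) ⊕ (Fin r × Fin r) → A[X][X] :=
    Sum.elim (fun ij => Δ1' ij.1 ij.2) (fun ij => Δ2' ij.1 ij.2)
  have hfam2 : ∀ i, (mapRingHom (mapRingHom (algebraMap A L))) (fam2 i) = 0 := by
    rintro (ij | ij)
    · exact congrFun (congrFun hιΔ1' ij.1) ij.2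
    · exact congrFun (congrFun hιΔ2' ij.1) ij.2
  obtain ⟨t, ht, hfam2'⟩ := exists_smul_eq_zero M L fam2 hfam2
  have htΔ1' : (C (C t) : A[X][X]) • Δ1' = 0 := by
    ext i j : 1
    exact hfam2' (Sum.inl (i, j))
  have htΔ2' : (C (C t) : A[X][X]) • Δ2' = 0 := by
    ext i j : 1
    exact hfam2' (Sum.inr (i, j))
  have hkill : ∀ (D D' : Matrix (Fin r) (Fin r) A[X][X]), D = (X : A[X][X]) • D' →
      (C (C t) : A[X][X]) • D' = 0 → (psi t).mapMatrix D = 0 := by
    intro D D' hD hD'
    rw [hD, mm_smul, psi_X, mul_comm, ← smul_smul]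
    have : (C (C t) : A[X][X]) • (psi t).mapMatrix D' =
        (psi t).mapMatrix ((C (C t) : A[X][X]) • D') := by
      rw [mm_smul, psi_C]
    rw [this, hD', map_zero, smul_zero]
  refine ⟨t * s, M.mul_mem ht hs, (psi t).mapMatrix ah, (psi t).mapMatrix bh, ?_, ?_, ?_, ?_⟩
  · have : ah * bh = C.mapMatrix E + Δ1 := by rw [hΔ1]; abel
    rw [← map_mul, this, map_add, hkill Δ1 Δ1' hΔ1dec htΔ1', add_zero, mm_comp, psi_comp_C]
  · have : bh * ah = (sig s).mapMatrix E + Δ2 := by rw [hΔ2]; abel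
    rw [← map_mul, this, map_add, hkill Δ2 Δ2' hΔ2dec htΔ2', add_zero, mm_comp, psi_comp_sig]
  · rw [mm_comp, ev0_comp_psi, hev_ah]
  · rw [mm_comp, ev0_comp_psi, hev_bh]

end Groth.Agent.Helper29.QuillenD
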