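import Mathlib
import Groth.Agent.Lib.Helper29.QuillenD

set_option autoImplicit false
set_option linter.unusedSectionVars false
set_option linter.unusedVariables false

namespace Groth.Agent.Helper29.QuillenE

open Polynomial QuillenA QuillenB QuillenC QuillenD

universe u v

variable {A : Type u} [CommRing A] {r : ℕ} {E : Matrix (Fin r) (Fin r) A[X]}

/-- Quillen patching, matrix form. -/
theorem patching (hE : E * E = E)
    (hloc : ∀ (m : Ideal A) [m.IsMaximal],
      ∃ a b : Matrix (Fin r) (Fin r) (Localization.AtPrime m)[X],
        a * b = (C.comp (evalRingHom (0 : Localization.AtPrime m))).mapMatrix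
          ((mapRingHom (algebraMap A (Localization.AtPrime m))).mapMatrix E) ∧
        b * a = (mapRingHom (algebraMap A (Localization.AtPrime m))).mapMatrix E) :
    ∃ a b : Matrix (Fin r) (Fin r) A[X],
      a * b = (C.comp (evalRingHom (0 : A))).mapMatrix E ∧ b * a = E := by
  apply good_one
  rw [← mem_goodIdeal hE]
  suffices h : goodIdeal hE = ⊤ by rw [h]; trivial
  by_contra hne
  obtain ⟨m, hm, hle⟩ := Ideal.exists_le_maximal _ hne
  obtain ⟨a, b, hab, hba⟩ := hloc m
  obtain ⟨c, hc, hgood⟩ := exists_good (M := m.primeCompl) (L := Localization.AtPrime m) hE a b hab hba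
  exact hc (hle ((mem_goodIdeal hE c).mpr hgood))

end Groth.Agent.Helper29.QuillenE
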