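import Mathlib
import Groth.Agent.Lib.Helper29.QuillenE
import Groth.Agent.Lib.Helper29.HorE

set_option autoImplicit false
set_option linter.unusedSectionVars false
set_option linter.unusedVariables false

namespace Groth.Agent.Helper29.QuillenF

open Polynomial QuillenE HorE

universe u

variable {A : Type u} [CommRing A]

/-- Global Horrocks–Quillen, matrix form: a monic datum forces `E(X) ≈ E(0)`. -/
theorem global_of_datum {r r' : ℕ}
    {E : Matrix (Fin r) (Fin r) A[X]} {ε : Matrix (Fin r') (Fin r') A}
    {J : Matrix (Fin r') (Fin r) A[X]} {K : Matrix (Fin r) (Fin r') A[X]} {F : A[X]}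
    (h : IsDatum E ε J K F) :
    ∃ a b : Matrix (Fin r) (Fin r) A[X],
      a * b = (C.comp (evalRingHom (0 : A))).mapMatrix E ∧ b * a = E := by
  apply patching h.hE
  intro m hm
  exact local_equiv (h.map (algebraMap A (Localization.AtPrime m)))

end Groth.Agent.Helper29.QuillenF
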