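import Mathlib
import Groth.Agent.Lib.Helper29.QuillenF

set_option autoImplicit false
set_option linter.unusedSectionVars false
set_option linter.unusedVariables false
set_option linter.unusedSimpArgs false

namespace Groth.Agent.Helper29.MonicA

open Polynomial HorE QuillenF Matrix

universe u

variable {A : Type u} [CommRing A]

theorem map_smul_matrix' {R S : Type*} [CommRing R] [CommRing S] (f : R →+* S) {m n : Type*} (x : R)
    (N : Matrix m n R) : (x • N).map f = f x • N.map f := by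
  apply Matrix.ext
  intro i j
  simp [Matrix.map_apply]

/-- `global_of_datum` for an arbitrary finite index type on the `E` side. -/
theorem global_of_datum' {ι : Type} [Fintype ι] [DecidableEq ι] {r' : ℕ}
    {E : Matrix ι ι A[X]} {ε : Matrix (Fin r') (Fin r') A}
    {J : Matrix (Fin r') ι A[X]} {K : Matrix ι (Fin r') A[X]} {F : A[X]}
    (hF : F.Monic) (hE : E * E = E) (hε : ε * ε = ε)
    (hεJ : ε.map (C : A →+* A[X]) * J = J) (hJE : J * E = J) (hEK : E * K = K)
    (hKε : K * ε.map (C : A →+* A[X]) = K)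
    (hJK : J * K = F • ε.map (C : A →+* A[X])) (hKJ : K * J = F • E) :
    ∃ a b : Matrix ι ι A[X],
      a * b = E.map (C.comp (evalRingHom (0 : A))) ∧ b * a = E := by
  set e := Fintype.equivFin ι with he
  have hdat : IsDatum (E.submatrix e.symm e.symm) ε (J.submatrix id e.symm)
      (K.submatrix e.symm id) F := by
    constructor
    · exact hF
    · rw [submatrix_mul_equiv, hE]
    · exact hε
    · have := submatrix_mul (ε.map (C : A →+* A[X])) J id id e.symm Function.bijective_id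
      rw [submatrix_id_id] at this
      rw [← this, hεJ]
    · rw [submatrix_mul_equiv, hJE]
    · rw [submatrix_mul_equiv, hEK]
    · have := submatrix_mul K (ε.map (C : A →+* A[X])) e.symm id id Function.bijective_id
      rw [submatrix_id_id] at this
      rw [← this, hKε]
    · rw [submatrix_mul_equiv, hJK, submatrix_smul, Pi.smul_apply, Pi.smul_apply, submatrix_id_id]
    · have := submatrix_mul K J e.symm id e.symm Function.bijective_id
      rw [← this, hKJ, submatrix_smul]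
      rfl
  obtain ⟨a, b, hab, hba⟩ := global_of_datum hdat
  refine ⟨a.submatrix e e, b.submatrix e e, ?_, ?_⟩
  · rw [submatrix_mul_equiv, hab]
    apply Matrix.ext
    intro i j
    simp [RingHom.mapMatrix_apply]
  · rw [submatrix_mul_equiv, hba]
    apply Matrix.ext
    intro i j
    simp


theorem exists_bezout (k : ℕ) (G : A[X]) (hG : G.coeff 0 = 1) :
    ∃ a b : A[X], a * X ^ k + b * G = 1 := by
  have h1 : IsCoprime (X : A[X]) G := by
    refine ⟨-(divX G), 1, ?_⟩
    have := divX_mul_X_add G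
    rw [hG, map_one] at this
    linear_combination (-1 : A[X]) * this
  exact h1.pow_left

theorem core_monic {r r' : ℕ} (ε₁ : Matrix (Fin r) (Fin r) A) (ε₂ : Matrix (Fin r') (Fin r') A)
    (hε₁ : ε₁ * ε₁ = ε₁) (hε₂ : ε₂ * ε₂ = ε₂)
    (U : Matrix (Fin r') (Fin r) A[X]) (V : Matrix (Fin r) (Fin r') A[X]) (k : ℕ) (G : A[X])
    (hG : G.coeff 0 = 1)
    (h1 : ε₂.map (C : A →+* A[X]) * U = U) (h2 : U * ε₁.map (C : A →+* A[X]) = U)
    (h3 : ε₁.map (C : A →+* A[X]) * V = V) (h4 : V * ε₂.map (C : A →+* A[X]) = V)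
    (h5 : V * U = (X ^ k * G) • ε₁.map (C : A →+* A[X]))
    (h6 : U * V = (X ^ k * G) • ε₂.map (C : A →+* A[X])) :
    ∃ (x : Matrix (Fin r) (Fin r') A) (y : Matrix (Fin r') (Fin r) A),
      x * y = ε₁ ∧ y * x = ε₂ := by
  obtain ⟨a, b, hab⟩ := exists_bezout k G hG
  set e₁ := ε₁.map (C : A →+* A[X]) with he₁
  set e₂ := ε₂.map (C : A →+* A[X]) with he₂
  have hee₁ : e₁ * e₁ = e₁ := by rw [he₁, ← Matrix.map_mul, hε₁]
  have hee₂ : e₂ * e₂ = e₂ := by rw [he₂, ← Matrix.map_mul, hε₂]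
  set s : A[X] := X ^ k with hs
  set E : Matrix (Fin r' ⊕ Fin r) (Fin r' ⊕ Fin r) A[X] :=
    fromBlocks ((b * G) • e₂) (b • U) (a • V) ((a * s) • e₁) with hEdef
  set J : Matrix (Fin r) (Fin r' ⊕ Fin r) A[X] := fromCols V (s • e₁) with hJdef
  set K : Matrix (Fin r' ⊕ Fin r) (Fin r) A[X] := fromRows (b • U) ((a * s) • e₁) with hKdef
  set J₂ : Matrix (Fin r') (Fin r' ⊕ Fin r) A[X] := fromCols (G • e₂) U with hJ₂def
  set K₂ : Matrix (Fin r' ⊕ Fin r) (Fin r') A[X] := fromRows ((b * G) • e₂) (a • V) with hK₂def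
  have key : ∀ {m n : Type} (M : Matrix m n A[X]) (c₁ c₂ c₃ : A[X]),
      c₁ + c₂ = c₃ * (a * s + b * G) → c₁ • M + c₂ • M = c₃ • M := by
    intro m n M c₁ c₂ c₃ h
    rw [← add_smul, h, hab, mul_one]
  have hEE : E * E = E := by
    rw [hEdef, fromBlocks_multiply]
    simp only [Matrix.smul_mul, Matrix.mul_smul, smul_smul, hee₁, hee₂, h1, h2, h3, h4, h5, h6]
    congr 1
    · exact key _ _ _ _ (by ring)
    · exact key _ _ _ _ (by ring)
    · exact key _ _ _ _ (by ring)
    · exact key _ _ _ _ (by ring)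
  have hJE : J * E = J := by
    rw [hJdef, hEdef, fromCols_mul_fromBlocks]
    simp only [Matrix.smul_mul, Matrix.mul_smul, smul_smul, hee₁, hee₂, h1, h2, h3, h4, h5, h6]
    congr 1
    · exact (key V _ _ 1 (by ring)).trans (one_smul _ _)
    · exact key _ _ _ _ (by ring)
  have hEK : E * K = K := by
    rw [hKdef, hEdef, fromBlocks_mul_fromRows]
    simp only [Matrix.smul_mul, Matrix.mul_smul, smul_smul, hee₁, hee₂, h1, h2, h3, h4, h5, h6]
    congr 1
    · exact key _ _ _ _ (by ring)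
    · exact key _ _ _ _ (by ring)
  have he₁J : e₁ * J = J := by
    rw [hJdef, mul_fromCols, Matrix.mul_smul, h3, hee₁]
  have hKe₁ : K * e₁ = K := by
    rw [hKdef, fromRows_mul, Matrix.smul_mul, Matrix.smul_mul, h2, hee₁]
  have hJK : J * K = s • e₁ := by
    rw [hJdef, hKdef, fromCols_mul_fromRows]
    simp only [Matrix.smul_mul, Matrix.mul_smul, smul_smul, hee₁, hee₂, h1, h2, h3, h4, h5, h6]
    exact key _ _ _ _ (by ring)
  have hKJ : K * J = s • E := by
    rw [hJdef, hKdef, hEdef, fromRows_mul_fromCols, fromBlocks_smul]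
    simp only [Matrix.smul_mul, Matrix.mul_smul, smul_smul, hee₁, hee₂, h1, h2, h3, h4, h5, h6]
    congr 1 <;> · congr 1; ring
  have hJ₂K₂ : J₂ * K₂ = G • e₂ := by
    rw [hJ₂def, hK₂def, fromCols_mul_fromRows]
    simp only [Matrix.smul_mul, Matrix.mul_smul, smul_smul, hee₁, hee₂, h1, h2, h3, h4, h5, h6]
    rw [add_comm]
    exact key _ _ _ _ (by ring)
  have hK₂J₂ : K₂ * J₂ = G • E := by
    rw [hJ₂def, hK₂def, hEdef, fromRows_mul_fromCols, fromBlocks_smul]
    simp only [Matrix.smul_mul, Matrix.mul_smul, smul_smul, hee₁, hee₂, h1, h2, h3, h4, h5, h6]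
    congr 1 <;> · congr 1; ring
  obtain ⟨α, β, hαβ, hβα⟩ := global_of_datum' (E := E) (ε := ε₁) (J := J) (K := K) (F := s)
    (monic_X_pow k) hEE hε₁ he₁J hJE hEK hKe₁ hJK hKJ
  -- evaluate
  set ev1 : A[X] →+* A := evalRingHom (1 : A) with hev1
  set ev0 : A[X] →+* A := evalRingHom (0 : A) with hev0
  have hev1C : ∀ M : Matrix (Fin r) (Fin r) A, (M.map (C : A →+* A[X])).map ev1 = M := by
    intro M; apply Matrix.ext; intro i j; simp [hev1]
  have hev0C : ∀ M : Matrix (Fin r') (Fin r') A, (M.map (C : A →+* A[X])).map ev0 = M := by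
    intro M; apply Matrix.ext; intro i j; simp [hev0]
  have hs1 : ev1 s = 1 := by simp [hev1, hs]
  have hG0 : ev0 G = 1 := by
    rw [hev0, coe_evalRingHom, ← coeff_zero_eq_eval_zero, hG]
  -- ε₁ ≈ E(1)
  have r1 : J.map ev1 * K.map ev1 = ε₁ := by
    rw [← Matrix.map_mul, hJK, map_smul_matrix', hs1, one_smul, hev1C]
  have r2 : K.map ev1 * J.map ev1 = E.map ev1 := by
    rw [← Matrix.map_mul, hKJ, map_smul_matrix', hs1, one_smul]
  -- E(1) ≈ E(0)
  have r3 : α.map ev1 * β.map ev1 = E.map ev0 := by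
    rw [← Matrix.map_mul, hαβ]
    apply Matrix.ext; intro i j; simp [hev1, hev0]
  have r4 : β.map ev1 * α.map ev1 = E.map ev1 := by
    rw [← Matrix.map_mul, hβα]
  -- E(0) ≈ ε₂
  have r5 : J₂.map ev0 * K₂.map ev0 = ε₂ := by
    rw [← Matrix.map_mul, hJ₂K₂, map_smul_matrix', hG0, one_smul, hev0C]
  have r6 : K₂.map ev0 * J₂.map ev0 = E.map ev0 := by
    rw [← Matrix.map_mul, hK₂J₂, map_smul_matrix', hG0, one_smul]
  have hE1 : E.map ev1 * E.map ev1 = E.map ev1 := by rw [← Matrix.map_mul, hEE]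
  have hE0 : E.map ev0 * E.map ev0 = E.map ev0 := by rw [← Matrix.map_mul, hEE]
  refine ⟨J.map ev1 * β.map ev1 * K₂.map ev0, J₂.map ev0 * α.map ev1 * K.map ev1, ?_, ?_⟩
  · calc J.map ev1 * β.map ev1 * K₂.map ev0 * (J₂.map ev0 * α.map ev1 * K.map ev1)
        = J.map ev1 * β.map ev1 * (K₂.map ev0 * J₂.map ev0) * α.map ev1 * K.map ev1 := by
          simp only [Matrix.mul_assoc]
      _ = J.map ev1 * (β.map ev1 * (α.map ev1 * β.map ev1) * α.map ev1) * K.map ev1 := by
          rw [r6, ← r3]; simp only [Matrix.mul_assoc]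
      _ = J.map ev1 * (E.map ev1 * E.map ev1) * K.map ev1 := by
          rw [← r4]; simp only [Matrix.mul_assoc]
      _ = J.map ev1 * (K.map ev1 * J.map ev1) * K.map ev1 := by rw [hE1, r2]
      _ = (J.map ev1 * K.map ev1) * (J.map ev1 * K.map ev1) := by simp only [Matrix.mul_assoc]
      _ = ε₁ := by rw [r1, hε₁]
  · calc J₂.map ev0 * α.map ev1 * K.map ev1 * (J.map ev1 * β.map ev1 * K₂.map ev0)
        = J₂.map ev0 * α.map ev1 * (K.map ev1 * J.map ev1) * β.map ev1 * K₂.map ev0 := by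
          simp only [Matrix.mul_assoc]
      _ = J₂.map ev0 * (α.map ev1 * (β.map ev1 * α.map ev1) * β.map ev1) * K₂.map ev0 := by
          rw [r2, ← r4]; simp only [Matrix.mul_assoc]
      _ = J₂.map ev0 * (E.map ev0 * E.map ev0) * K₂.map ev0 := by
          rw [← r3]; simp only [Matrix.mul_assoc]
      _ = J₂.map ev0 * (K₂.map ev0 * J₂.map ev0) * K₂.map ev0 := by rw [hE0, r6]
      _ = (J₂.map ev0 * K₂.map ev0) * (J₂.map ev0 * K₂.map ev0) := by simp only [Matrix.mul_assoc]
      _ = ε₂ := by rw [r5, hε₂]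

end Groth.Agent.Helper29.MonicA
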