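import Mathlib
import Groth.Agent.Lib.Helper29.MonicA
import Groth.Agent.Lib.Helper29.HorG
import Groth.Agent.Lib.Helper29.HorH
import Groth.Agent.Lib.Helper29.HorI

set_option autoImplicit false
set_option linter.unusedSectionVars false
set_option linter.unusedVariables false
set_option linter.unusedSimpArgs false

namespace Groth.Agent.Helper29.MonicB

open Polynomial LaurentPolynomial TensorProduct HorE HorG HorH HorI MonicA

universe u

/-- two idempotent matrices which are "equivalent" present isomorphic modules -/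
theorem equiv_of_matrix {R : Type*} [CommRing R] {P P' : Type*} [AddCommGroup P] [Module R P]
    [AddCommGroup P'] [Module R P'] {r r' : ℕ}
    (f₁ : (Fin r → R) →ₗ[R] P) (g₁ : P →ₗ[R] (Fin r → R)) (h₁ : f₁ ∘ₗ g₁ = LinearMap.id)
    (f₂ : (Fin r' → R) →ₗ[R] P') (g₂ : P' →ₗ[R] (Fin r' → R)) (h₂ : f₂ ∘ₗ g₂ = LinearMap.id)
    (x : Matrix (Fin r) (Fin r') R) (y : Matrix (Fin r') (Fin r) R)
    (hxy : x * y = LinearMap.toMatrix' (g₁ ∘ₗ f₁)) (hyx : y * x = LinearMap.toMatrix' (g₂ ∘ₗ f₂)) :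
    Nonempty (P ≃ₗ[R] P') := by
  have h₁' : ∀ p, f₁ (g₁ p) = p := fun p => LinearMap.congr_fun h₁ p
  have h₂' : ∀ p, f₂ (g₂ p) = p := fun p => LinearMap.congr_fun h₂ p
  have hxy' : ∀ v, x.mulVec (y.mulVec v) = g₁ (f₁ v) := by
    intro v
    rw [Matrix.mulVec_mulVec, hxy, ← Matrix.toLin'_apply, Matrix.toLin'_toMatrix']
    rfl
  have hyx' : ∀ v, y.mulVec (x.mulVec v) = g₂ (f₂ v) := by
    intro v
    rw [Matrix.mulVec_mulVec, hyx, ← Matrix.toLin'_apply, Matrix.toLin'_toMatrix']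
    rfl
  refine ⟨LinearEquiv.ofLinearMap (f₂ ∘ₗ Matrix.toLin' y ∘ₗ g₁) (f₁ ∘ₗ Matrix.toLin' x ∘ₗ g₂) ?_ ?_⟩
  · apply LinearMap.ext
    intro p
    simp only [LinearMap.comp_apply, LinearMap.id_apply, Matrix.toLin'_apply]
    -- f₂ (y (g₁ (f₁ (x (g₂ p)))))
    rw [← hxy', hyx', hyx', h₂', h₂', h₂']
  · apply LinearMap.ext
    intro p
    simp only [LinearMap.comp_apply, LinearMap.id_apply, Matrix.toLin'_apply]
    rw [← hyx', hxy', hxy', h₁', h₁', h₁']


/-- an isomorphism after base change, in matrix form -/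
theorem exists_UV {R : Type*} [CommRing R] (S : Type*) [CommRing S] [Algebra R S]
    {P P' : Type*} [AddCommGroup P] [Module R P]
    [AddCommGroup P'] [Module R P'] {r r' : ℕ}
    (f₁ : (Fin r → R) →ₗ[R] P) (g₁ : P →ₗ[R] (Fin r → R)) (h₁ : f₁ ∘ₗ g₁ = LinearMap.id)
    (f₂ : (Fin r' → R) →ₗ[R] P') (g₂ : P' →ₗ[R] (Fin r' → R)) (h₂ : f₂ ∘ₗ g₂ = LinearMap.id)
    (h : S ⊗[R] P ≃ₗ[S] S ⊗[R] P') :
    ∃ (U : Matrix (Fin r') (Fin r) S) (V : Matrix (Fin r) (Fin r') S),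
      (LinearMap.toMatrix' (g₂ ∘ₗ f₂)).map (algebraMap R S) * U = U ∧
      U * (LinearMap.toMatrix' (g₁ ∘ₗ f₁)).map (algebraMap R S) = U ∧
      (LinearMap.toMatrix' (g₁ ∘ₗ f₁)).map (algebraMap R S) * V = V ∧
      V * (LinearMap.toMatrix' (g₂ ∘ₗ f₂)).map (algebraMap R S) = V ∧
      V * U = (LinearMap.toMatrix' (g₁ ∘ₗ f₁)).map (algebraMap R S) ∧
      U * V = (LinearMap.toMatrix' (g₂ ∘ₗ f₂)).map (algebraMap R S) := by
  set e₁ := (LinearMap.toMatrix' (g₁ ∘ₗ f₁)).map (algebraMap R S) with he₁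
  set e₂ := (LinearMap.toMatrix' (g₂ ∘ₗ f₂)).map (algebraMap R S) with he₂
  have huc₁ : ∀ x, uMap S f₁ (cMap S g₁ x) = x := u_c S f₁ g₁ h₁
  have huc₂ : ∀ x, uMap S f₂ (cMap S g₂ x) = x := u_c S f₂ g₂ h₂
  have hcu₁ : ∀ v, cMap S g₁ (uMap S f₁ v) = e₁.mulVec v := c_u S f₁ g₁
  have hcu₂ : ∀ v, cMap S g₂ (uMap S f₂ v) = e₂.mulVec v := c_u S f₂ g₂
  set UL : (Fin r → S) →ₗ[S] (Fin r' → S) := cMap S g₂ ∘ₗ h.toLinearMap ∘ₗ uMap S f₁ with hUL
  set VL : (Fin r' → S) →ₗ[S] (Fin r → S) := cMap S g₁ ∘ₗ h.symm.toLinearMap ∘ₗ uMap S f₂ with hVL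
  have hULa : ∀ v, UL v = cMap S g₂ (h (uMap S f₁ v)) := fun v => rfl
  have hVLa : ∀ v, VL v = cMap S g₁ (h.symm (uMap S f₂ v)) := fun v => rfl
  have hUv : ∀ v, (LinearMap.toMatrix' UL).mulVec v = UL v := by
    intro v
    rw [← Matrix.toLin'_apply, Matrix.toLin'_toMatrix']
  have hVv : ∀ v, (LinearMap.toMatrix' VL).mulVec v = VL v := by
    intro v
    rw [← Matrix.toLin'_apply, Matrix.toLin'_toMatrix']
  refine ⟨LinearMap.toMatrix' UL, LinearMap.toMatrix' VL, ?_, ?_, ?_, ?_, ?_, ?_⟩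
  · apply mul_eq_of_apply
    intro v
    rw [hUv, hULa, ← hcu₂, huc₂]
  · apply mul_eq_of_apply
    intro v
    rw [hUv, hUv, hULa, hULa, ← hcu₁, huc₁]
  · apply mul_eq_of_apply
    intro v
    rw [hVv, hVLa, ← hcu₁, huc₁]
  · apply mul_eq_of_apply
    intro v
    rw [hVv, hVv, hVLa, hVLa, ← hcu₂, huc₂]
  · apply mul_eq_of_apply
    intro v
    rw [hVv, hUv, hULa, hVLa, huc₂, LinearEquiv.symm_apply_apply, hcu₁]
  · apply mul_eq_of_apply
    intro v
    rw [hVv, hUv, hULa, hVLa, huc₁, LinearEquiv.apply_symm_apply, hcu₂]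


theorem exists_clear_denoms {R : Type*} [CommRing R] (M : Submonoid R) (S : Type*) [CommRing S]
    [Algebra R S] [IsLocalization M S] {m n : ℕ} (W : Matrix (Fin m) (Fin n) S) :
    ∃ f ∈ M, ∀ f' ∈ M, ∃ W₀ : Matrix (Fin m) (Fin n) R,
      W₀.map (algebraMap R S) = (algebraMap R S (f' * f)) • W := by
  classical
  obtain ⟨b, hb⟩ := IsLocalization.exist_integer_multiples M Finset.univ
    (fun ij : Fin m × Fin n => W ij.1 ij.2)
  refine ⟨b, b.2, fun f' _ => ?_⟩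
  choose p hp using fun ij => hb ij (Finset.mem_univ ij)
  refine ⟨Matrix.of fun i j => f' * p (i, j), ?_⟩
  apply Matrix.ext
  intro i j
  simp only [Matrix.map_apply, Matrix.of_apply, Matrix.smul_apply, smul_eq_mul, map_mul]
  rw [hp (i, j), Algebra.smul_def, mul_assoc]

theorem map_injective_of_injective {R S : Type*} [CommRing R] [CommRing S] (j : R →+* S)
    (hj : Function.Injective j) {m n : ℕ} {M N : Matrix (Fin m) (Fin n) R}
    (h : M.map j = N.map j) : M = N := by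
  apply Matrix.ext
  intro i k
  apply hj
  have := congrFun (congrFun h i) k
  simpa [Matrix.map_apply] using this

theorem main19963
    (A : Type u) [CommRing A] (M : Submonoid A[X]) (hM : ∀ f : A[X], f ∈ M ↔ f.Monic)
    (At : Type u) [CommRing At] [Algebra A[X] At] [IsLocalization M At]
    [Algebra A At] [IsScalarTower A A[X] At]
    (P P' : Type u) [AddCommGroup P] [Module A P] [Module.Finite A P] [Module.Projective A P]
    [AddCommGroup P'] [Module A P'] [Module.Finite A P'] [Module.Projective A P']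
    (h : Nonempty ((At ⊗[A] P) ≃ₗ[At] (At ⊗[A] P'))) :
    Nonempty (P ≃ₗ[A] P') := by
  obtain ⟨h⟩ := h
  obtain ⟨r, f₁, g₁, -, -, h₁⟩ := Module.Finite.exists_comp_eq_id_of_projective A P
  obtain ⟨r', f₂, g₂, -, -, h₂⟩ := Module.Finite.exists_comp_eq_id_of_projective A P'
  obtain ⟨U', V', a1, a2, a3, a4, a5, a6⟩ := exists_UV At f₁ g₁ h₁ f₂ g₂ h₂ h
  set ε₁ := LinearMap.toMatrix' (g₁ ∘ₗ f₁) with hε₁def
  set ε₂ := LinearMap.toMatrix' (g₂ ∘ₗ f₂) with hε₂def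
  have hε₁ : ε₁ * ε₁ = ε₁ := by
    rw [hε₁def, ← LinearMap.toMatrix'_comp]
    congr 1
    rw [LinearMap.comp_assoc, ← LinearMap.comp_assoc f₁ g₁ f₁, h₁, LinearMap.id_comp]
  have hε₂ : ε₂ * ε₂ = ε₂ := by
    rw [hε₂def, ← LinearMap.toMatrix'_comp]
    congr 1
    rw [LinearMap.comp_assoc, ← LinearMap.comp_assoc f₂ g₂ f₂, h₂, LinearMap.id_comp]
  set j : A[X] →+* At := algebraMap A[X] At with hj
  have hjinj : Function.Injective j := by
    apply IsLocalization.injective At (M := M)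
    intro f hf
    exact ((hM f).mp hf).mem_nonZeroDivisors
  have hεj : ∀ {n : ℕ} (ε : Matrix (Fin n) (Fin n) A),
      ε.map (algebraMap A At) = (ε.map (Polynomial.C : A →+* A[X])).map j := by
    intro n ε
    apply Matrix.ext
    intro i k
    simp only [Matrix.map_apply]
    rw [IsScalarTower.algebraMap_apply A A[X] At]
    rfl
  rw [hεj ε₂] at a1 a4 a6
  rw [hεj ε₁] at a2 a3 a5
  set e₁ := ε₁.map (Polynomial.C : A →+* A[X]) with he₁
  set e₂ := ε₂.map (Polynomial.C : A →+* A[X]) with he₂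
  obtain ⟨fU, hfU, hU⟩ := exists_clear_denoms M At U'
  obtain ⟨fV, hfV, hV⟩ := exists_clear_denoms M At V'
  obtain ⟨U₀, hU₀⟩ := hU fV hfV
  obtain ⟨V₀, hV₀⟩ := hV fU hfU
  set f := fV * fU with hf
  have hfc : fU * fV = f := mul_comm _ _
  rw [hfc] at hV₀
  have hfmon : f.Monic := ((hM fV).mp hfV).mul ((hM fU).mp hfU)
  have b1 : e₂ * U₀ = U₀ := by
    apply map_injective_of_injective j hjinj
    rw [Matrix.map_mul, hU₀, Matrix.mul_smul, a1]
  have b2 : U₀ * e₁ = U₀ := by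
    apply map_injective_of_injective j hjinj
    rw [Matrix.map_mul, hU₀, Matrix.smul_mul, a2]
  have b3 : e₁ * V₀ = V₀ := by
    apply map_injective_of_injective j hjinj
    rw [Matrix.map_mul, hV₀, Matrix.mul_smul, a3]
  have b4 : V₀ * e₂ = V₀ := by
    apply map_injective_of_injective j hjinj
    rw [Matrix.map_mul, hV₀, Matrix.smul_mul, a4]
  have b5 : V₀ * U₀ = (f * f) • e₁ := by
    apply map_injective_of_injective j hjinj
    rw [Matrix.map_mul, hU₀, hV₀, Matrix.smul_mul, Matrix.mul_smul, a5, smul_smul,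
      map_smul_matrix, ← map_mul]
  have b6 : U₀ * V₀ = (f * f) • e₂ := by
    apply map_injective_of_injective j hjinj
    rw [Matrix.map_mul, hU₀, hV₀, Matrix.smul_mul, Matrix.mul_smul, a6, smul_smul,
      map_smul_matrix, ← map_mul]
  -- pass to the coordinate at infinity
  obtain ⟨nU, hnU⟩ := exists_matrix_T_mul (U₀.map ι')
  obtain ⟨nV, hnV⟩ := exists_matrix_T_mul (V₀.map ι')
  set d := f.natDegree with hd
  set g := f.reverse with hg
  have hgι : ι g = ι' f * T d := by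
    rw [ι_apply, ι'_apply, hg, toLaurent_reverse]
  have hg0 : (g * g).coeff 0 = 1 := by
    rw [mul_coeff_zero, hg, coeff_zero_reverse, hfmon.leadingCoeff, one_mul]
  set N := nU + nV + d with hN
  obtain ⟨U₁, hU₁⟩ := hnU N (by omega)
  obtain ⟨V₁, hV₁⟩ := hnV N (by omega)
  have hscal : ι (X ^ (2 * (N - d)) * (g * g)) = T N * T N * (ι' f * ι' f) := by
    rw [map_mul, map_mul, hgι, ι_apply, toLaurent_X_pow]
    have : (T (N : ℤ) : A[T;T⁻¹]) * T N = T ((2 * (N - d) : ℕ) : ℤ) * (T d * T d) := by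
      rw [← T_add, ← T_add, ← T_add]
      congr 1
      omega
    rw [this]
    ring
  have he₁ι : e₁.map ι' = e₁.map ι := map_C_ι ε₁
  have he₂ι : e₂.map ι' = e₂.map ι := map_C_ι ε₂
  have c1 : e₂ * U₁ = U₁ := by
    apply map_ι_injective
    rw [Matrix.map_mul, hU₁, Matrix.mul_smul, ← he₂ι, ← Matrix.map_mul, b1]
  have c2 : U₁ * e₁ = U₁ := by
    apply map_ι_injective
    rw [Matrix.map_mul, hU₁, Matrix.smul_mul, ← he₁ι, ← Matrix.map_mul, b2]
  have c3 : e₁ * V₁ = V₁ := by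
    apply map_ι_injective
    rw [Matrix.map_mul, hV₁, Matrix.mul_smul, ← he₁ι, ← Matrix.map_mul, b3]
  have c4 : V₁ * e₂ = V₁ := by
    apply map_ι_injective
    rw [Matrix.map_mul, hV₁, Matrix.smul_mul, ← he₂ι, ← Matrix.map_mul, b4]
  have c5 : V₁ * U₁ = (X ^ (2 * (N - d)) * (g * g)) • e₁ := by
    apply map_ι_injective
    rw [Matrix.map_mul, hU₁, hV₁, Matrix.smul_mul, Matrix.mul_smul, ← Matrix.map_mul, b5,
      map_smul_matrix, smul_smul, smul_smul, map_smul_matrix, hscal, he₁ι, map_mul]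
  have c6 : U₁ * V₁ = (X ^ (2 * (N - d)) * (g * g)) • e₂ := by
    apply map_ι_injective
    rw [Matrix.map_mul, hU₁, hV₁, Matrix.smul_mul, Matrix.mul_smul, ← Matrix.map_mul, b6,
      map_smul_matrix, smul_smul, smul_smul, map_smul_matrix, hscal, he₂ι, map_mul]
  obtain ⟨x, y, hxy, hyx⟩ := core_monic ε₁ ε₂ hε₁ hε₂ U₁ V₁ (2 * (N - d)) (g * g) hg0
    c1 c2 c3 c4 c5 c6
  exact equiv_of_matrix f₁ g₁ h₁ f₂ g₂ h₂ x y hxy hyx

end Groth.Agent.Helper29.MonicB
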