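import Mathlib
import Groth.Agent.Lib.Helper29.ApproxB
import Groth.Agent.Lib.Helper29.MonicB

set_option autoImplicit false
set_option linter.unusedSectionVars false
set_option linter.unusedVariables false
set_option linter.unusedSimpArgs false

namespace Groth.Agent.Helper29.ApproxC

open Matrix HorE HorH ApproxA ApproxB MonicB TensorProduct

universe u

variable {L : Type u} [CommRing L] {L' : Type u} [CommRing L'] [Algebra L L']
  {K : Type*} [CommRing K] (e : L' ≃+* K) {t : L} {K₀ : Subring K}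

theorem map_map_e {m n : ℕ} (E : Matrix (Fin m) (Fin n) L) :
    (E.map (algebraMap L L')).map (e : L' →+* K) =
      E.map ((e : L' →+* K).comp (algebraMap L L')) := by
  apply Matrix.ext
  intro i j
  rfl

/-- part (b): modules isomorphic after the approximable base change are isomorphic -/
theorem iso_of_iso_baseChange
    (hA : ApproxData ((e : L' →+* K).comp (algebraMap L L')) t K₀)
    (M N : Type u) [AddCommGroup M] [Module L M] [Module.Finite L M] [Module.Projective L M]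
    [AddCommGroup N] [Module L N] [Module.Finite L N] [Module.Projective L N]
    (h : Nonempty (L' ⊗[L] M ≃ₗ[L'] L' ⊗[L] N)) : Nonempty (M ≃ₗ[L] N) := by
  obtain ⟨h⟩ := h
  obtain ⟨r, f₁, g₁, -, -, h₁⟩ := Module.Finite.exists_comp_eq_id_of_projective L M
  obtain ⟨r', f₂, g₂, -, -, h₂⟩ := Module.Finite.exists_comp_eq_id_of_projective L N
  obtain ⟨U', V', a1, a2, a3, a4, a5, a6⟩ := exists_UV L' f₁ g₁ h₁ f₂ g₂ h₂ h
  set E₁ := LinearMap.toMatrix' (g₁ ∘ₗ f₁) with hE₁def
  set E₂ := LinearMap.toMatrix' (g₂ ∘ₗ f₂) with hE₂def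
  have hE₁ : E₁ * E₁ = E₁ := by
    rw [hE₁def, ← LinearMap.toMatrix'_comp]
    congr 1
    rw [LinearMap.comp_assoc, ← LinearMap.comp_assoc f₁ g₁ f₁, h₁, LinearMap.id_comp]
  have hE₂ : E₂ * E₂ = E₂ := by
    rw [hE₂def, ← LinearMap.toMatrix'_comp]
    congr 1
    rw [LinearMap.comp_assoc, ← LinearMap.comp_assoc f₂ g₂ f₂, h₂, LinearMap.id_comp]
  set ψ := (e : L' →+* K).comp (algebraMap L L') with hψ
  set φ : L' →+* K := (e : L' →+* K) with hφ
  have hE₁ψ : (E₁.map (algebraMap L L')).map φ = E₁.map ψ := map_map_e e E₁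
  have hE₂ψ : (E₂.map (algebraMap L L')).map φ = E₂.map ψ := map_map_e e E₂
  obtain ⟨x, y, hxy, hyx⟩ := approx_iso hA E₁ E₂ hE₁ hE₂ (U'.map φ) (V'.map φ)
    (by rw [← hE₂ψ, ← Matrix.map_mul, a1])
    (by rw [← hE₁ψ, ← Matrix.map_mul, a2])
    (by rw [← hE₁ψ, ← Matrix.map_mul, a3])
    (by rw [← hE₂ψ, ← Matrix.map_mul, a4])
    (by rw [← hE₁ψ, ← Matrix.map_mul, a5])
    (by rw [← hE₂ψ, ← Matrix.map_mul, a6])
  exact equiv_of_matrix f₁ g₁ h₁ f₂ g₂ h₂ x y hxy hyx


theorem toMatrix'_eq_of_apply {R : Type*} [CommRing R] {m n : ℕ}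
    (F : (Fin n → R) →ₗ[R] (Fin m → R)) (X : Matrix (Fin m) (Fin n) R)
    (h : ∀ v, F v = X.mulVec v) : LinearMap.toMatrix' F = X := by
  have : F = Matrix.toLin' X := by
    apply LinearMap.ext
    intro v
    rw [h, Matrix.toLin'_apply]
  rw [this, LinearMap.toMatrix'_toLin']

/-- part (c): stably free modules descend -/
theorem stablyFree_descends
    (hA : ApproxData ((e : L' →+* K).comp (algebraMap L L')) t K₀)
    (M' : Type u) [AddCommGroup M'] [Module L' M']
    (n m : ℕ) (φ : (M' × (Fin n → L')) ≃ₗ[L'] (Fin m → L')) :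
    ∃ (M : Type u) (_ : AddCommGroup M) (_ : Module L M), Module.Finite L M ∧
      (∃ n m : ℕ, Nonempty ((M × (Fin n → L)) ≃ₗ[L] (Fin m → L))) ∧
      Nonempty (L' ⊗[L] M ≃ₗ[L'] M') := by
  classical
  set ψ := (e : L' →+* K).comp (algebraMap L L') with hψ
  set ε : L' →+* K := (e : L' →+* K) with hε
  set εs : K →+* L' := (e.symm : K →+* L') with hεs
  have hεεs : ∀ x, ε (εs x) = x := fun x => e.apply_symm_apply x
  have hεsε : ∀ x, εs (ε x) = x := fun x => e.symm_apply_apply x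
  -- the split surjection over L'
  set PL : (Fin m → L') →ₗ[L'] (Fin n → L') := LinearMap.snd L' M' (Fin n → L') ∘ₗ φ.symm.toLinearMap
    with hPL
  set QL : (Fin n → L') →ₗ[L'] (Fin m → L') := φ.toLinearMap ∘ₗ LinearMap.inr L' M' (Fin n → L')
    with hQL
  set f₂ : (Fin m → L') →ₗ[L'] M' := LinearMap.fst L' M' (Fin n → L') ∘ₗ φ.symm.toLinearMap with hf₂
  set g₂ : M' →ₗ[L'] (Fin m → L') := φ.toLinearMap ∘ₗ LinearMap.inl L' M' (Fin n → L') with hg₂
  have hPQL : PL ∘ₗ QL = LinearMap.id := by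
    apply LinearMap.ext
    intro v
    simp [hPL, hQL]
  have h₂ : f₂ ∘ₗ g₂ = LinearMap.id := by
    apply LinearMap.ext
    intro v
    simp [hf₂, hg₂]
  have hsum : ∀ w, g₂ (f₂ w) + QL (PL w) = w := by
    intro w
    simp only [hg₂, hf₂, hQL, hPL, LinearMap.comp_apply, LinearEquiv.coe_coe, LinearMap.fst_apply,
      LinearMap.snd_apply, LinearMap.inl_apply, LinearMap.inr_apply]
    rw [← map_add, Prod.mk_add_mk, add_zero, zero_add, Prod.mk.eta, LinearEquiv.apply_symm_apply]
  set P₁ := LinearMap.toMatrix' PL with hP₁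
  set Q₁ := LinearMap.toMatrix' QL with hQ₁
  have hPQ₁ : P₁ * Q₁ = 1 := by
    rw [hP₁, hQ₁, ← LinearMap.toMatrix'_comp, hPQL, LinearMap.toMatrix'_id]
  have he₂ : LinearMap.toMatrix' (g₂ ∘ₗ f₂) = 1 - Q₁ * P₁ := by
    apply toMatrix'_eq_of_apply
    intro w
    have hP₁v : ∀ w, P₁.mulVec w = PL w := fun w => by
      rw [hP₁, ← Matrix.toLin'_apply, Matrix.toLin'_toMatrix']
    have hQ₁v : ∀ w, Q₁.mulVec w = QL w := fun w => by
      rw [hQ₁, ← Matrix.toLin'_apply, Matrix.toLin'_toMatrix']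
    rw [Matrix.sub_mulVec, Matrix.one_mulVec, ← Matrix.mulVec_mulVec, hP₁v, hQ₁v,
      LinearMap.comp_apply, eq_sub_iff_add_eq]
    exact hsum w
  -- approximate
  have hPQ : P₁.map ε * Q₁.map ε = 1 := by
    rw [← Matrix.map_mul, hPQ₁, Matrix.map_one _ (map_zero ε) (map_one ε)]
  obtain ⟨P', Q', g, g', c, hP'Q', hgg', hg'g, hc, hP'ψ⟩ := approx_split hA _ _ hPQ
  set gL := g.map εs with hgL
  set gL' := g'.map εs with hgL'
  have hgLL' : gL * gL' = 1 := by
    rw [hgL, hgL', ← Matrix.map_mul, hgg', Matrix.map_one _ (map_zero εs) (map_one εs)]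
  have hgL'L : gL' * gL = 1 := by
    rw [hgL, hgL', ← Matrix.map_mul, hg'g, Matrix.map_one _ (map_zero εs) (map_one εs)]
  obtain ⟨cu, hcu⟩ := hc
  set cL : L' := εs c with hcL
  set cLinv : L' := εs (↑cu⁻¹ : K) with hcLinv
  have hcc : cLinv * cL = 1 := by
    rw [hcLinv, hcL, ← map_mul, ← hcu, Units.inv_mul, map_one]
  set P'' := P'.map (algebraMap L L') with hP''
  set Q'' := Q'.map (algebraMap L L') with hQ''
  have hP''Q'' : P'' * Q'' = 1 := by
    rw [hP'', hQ'', ← Matrix.map_mul, hP'Q',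
      Matrix.map_one _ (map_zero (algebraMap L L')) (map_one (algebraMap L L'))]
  have hP''eq : P'' = cL • (P₁ * gL) := by
    have h1 : P''.map ε = (cL • (P₁ * gL)).map ε := by
      have h0 : (P'.map (algebraMap L L')).map ε = P'.map ψ := map_map_e e P'
      rw [hP'', h0, hP'ψ, map_smul_matrix, Matrix.map_mul, hcL, hεεs, hgL]
      congr 2
      apply Matrix.ext
      intro i j
      simp only [Matrix.map_apply, hεεs]
    apply Matrix.ext
    intro i j
    have := congrFun (congrFun h1 i) j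
    simp only [Matrix.map_apply] at this
    exact e.injective this
  -- the module M
  set EM : Matrix (Fin m) (Fin m) L := 1 - Q' * P' with hEM
  have hP'EM : P' * EM = 0 := by
    rw [hEM, Matrix.mul_sub, Matrix.mul_one, ← Matrix.mul_assoc, hP'Q', Matrix.one_mul, sub_self]
  have hEMQ' : EM * Q' = 0 := by
    rw [hEM, Matrix.sub_mul, Matrix.one_mul, Matrix.mul_assoc, hP'Q', Matrix.mul_one, sub_self]
  set Mk : Submodule L (Fin m → L) := LinearMap.ker (Matrix.toLin' P') with hMk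
  have hEMmem : ∀ v, Matrix.toLin' EM v ∈ Mk := by
    intro v
    rw [hMk, LinearMap.mem_ker, ← LinearMap.comp_apply, ← Matrix.toLin'_mul, hP'EM]
    simp
  set fM : (Fin m → L) →ₗ[L] Mk := LinearMap.codRestrict Mk (Matrix.toLin' EM) hEMmem with hfM
  set gM : Mk →ₗ[L] (Fin m → L) := Mk.subtype with hgM
  have hEMx : ∀ x : Mk, Matrix.toLin' EM (x : Fin m → L) = x := by
    intro x
    have hx : P'.mulVec (x : Fin m → L) = 0 := by
      have h0 : (x : Fin m → L) ∈ LinearMap.ker (Matrix.toLin' P') := x.2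
      have h1 := LinearMap.mem_ker.mp h0
      rwa [Matrix.toLin'_apply] at h1
    rw [Matrix.toLin'_apply, hEM, Matrix.sub_mulVec, Matrix.one_mulVec, ← Matrix.mulVec_mulVec, hx,
      Matrix.mulVec_zero, sub_zero]
  have hfgM : fM ∘ₗ gM = LinearMap.id := by
    apply LinearMap.ext
    intro x
    apply Subtype.ext
    exact hEMx x
  have hgfM : gM ∘ₗ fM = Matrix.toLin' EM := by
    apply LinearMap.ext
    intro v
    rfl
  have hfin : Module.Finite L Mk := by
    refine Module.Finite.of_surjective fM ?_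
    intro x
    exact ⟨gM x, LinearMap.congr_fun hfgM x⟩
  refine ⟨Mk, inferInstance, inferInstance, hfin, ⟨n, m, ⟨?_⟩⟩, ?_⟩
  · refine LinearEquiv.ofLinearMap (LinearMap.coprod gM (Matrix.toLin' Q'))
      (LinearMap.prod fM (Matrix.toLin' P')) ?_ ?_
    · apply LinearMap.ext
      intro w
      simp only [LinearMap.comp_apply, LinearMap.prod_apply, Function.prod, LinearMap.coprod_apply,
        LinearMap.id_apply]
      show Matrix.toLin' EM w + Matrix.toLin' Q' (Matrix.toLin' P' w) = w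
      rw [Matrix.toLin'_apply, Matrix.toLin'_apply, Matrix.toLin'_apply, Matrix.mulVec_mulVec, hEM,
        Matrix.sub_mulVec, Matrix.one_mulVec]
      abel
    · apply LinearMap.ext
      rintro ⟨x, v⟩
      simp only [LinearMap.comp_apply, LinearMap.prod_apply, Function.prod, LinearMap.coprod_apply,
        LinearMap.id_apply]
      apply Prod.ext
      · apply Subtype.ext
        show Matrix.toLin' EM (gM x + Matrix.toLin' Q' v) = x
        rw [map_add, ← LinearMap.comp_apply (Matrix.toLin' EM) (Matrix.toLin' Q'),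
          ← Matrix.toLin'_mul, hEMQ']
        rw [map_zero, LinearMap.zero_apply, add_zero]
        exact hEMx x
      · show Matrix.toLin' P' (gM x + Matrix.toLin' Q' v) = v
        have hx : Matrix.toLin' P' (gM x) = 0 := by
          have h0 : (x : Fin m → L) ∈ LinearMap.ker (Matrix.toLin' P') := x.2
          exact LinearMap.mem_ker.mp h0
        rw [map_add, hx, zero_add, ← LinearMap.comp_apply, ← Matrix.toLin'_mul, hP'Q']
        simp
  · -- the base change isomorphism
    have he₁ : LinearMap.toMatrix' (cMap L' gM ∘ₗ uMap L' fM) = 1 - Q'' * P'' := by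
      apply toMatrix'_eq_of_apply
      intro v
      rw [LinearMap.comp_apply, c_u, hgfM, LinearMap.toMatrix'_toLin', hEM]
      congr 1
      rw [hQ'', hP'', ← Matrix.map_mul, map_sub_matrix,
        Matrix.map_one _ (map_zero (algebraMap L L')) (map_one (algebraMap L L'))]
    have h₁ : uMap L' fM ∘ₗ cMap L' gM = LinearMap.id := by
      apply LinearMap.ext
      intro x
      exact u_c L' fM gM hfgM x
    set e₁ : Matrix (Fin m) (Fin m) L' := 1 - Q'' * P'' with he₁def
    set e₂ : Matrix (Fin m) (Fin m) L' := 1 - Q₁ * P₁ with he₂def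
    have hP''e₁ : P'' * e₁ = 0 := by
      rw [he₁def, Matrix.mul_sub, Matrix.mul_one, ← Matrix.mul_assoc, hP''Q'', Matrix.one_mul,
        sub_self]
    have hP₁e₂ : P₁ * e₂ = 0 := by
      rw [he₂def, Matrix.mul_sub, Matrix.mul_one, ← Matrix.mul_assoc, hPQ₁, Matrix.one_mul,
        sub_self]
    have hP₁gLe₁ : P₁ * gL * e₁ = 0 := by
      have h1 : cL • (P₁ * gL * e₁) = 0 := by
        rw [← Matrix.smul_mul, ← hP''eq, hP''e₁]
      have h2 := congrArg (fun X => cLinv • X) h1
      simp only [smul_smul, hcc, one_smul, smul_zero] at h2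
      exact h2
    have hP''gL'e₂ : P'' * gL' * e₂ = 0 := by
      rw [hP''eq, Matrix.smul_mul, Matrix.smul_mul, Matrix.mul_assoc P₁ gL gL', hgLL',
        Matrix.mul_one, hP₁e₂, smul_zero]
    have k1 : e₂ * (gL * e₁) = gL * e₁ := by
      rw [he₂def, Matrix.sub_mul, Matrix.one_mul, Matrix.mul_assoc Q₁ P₁, ← Matrix.mul_assoc P₁ gL e₁,
        hP₁gLe₁, Matrix.mul_zero, sub_zero]
    have k2 : e₁ * (gL' * e₂) = gL' * e₂ := by
      rw [he₁def, Matrix.sub_mul, Matrix.one_mul, Matrix.mul_assoc Q'' P'',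
        ← Matrix.mul_assoc P'' gL' e₂, hP''gL'e₂, Matrix.mul_zero, sub_zero]
    have hee₁ : e₁ * e₁ = e₁ := by
      rw [he₁def, Matrix.mul_sub, Matrix.mul_one, Matrix.sub_mul, Matrix.one_mul,
        Matrix.mul_assoc Q'' P'', ← Matrix.mul_assoc P'' Q'' P'', hP''Q'', Matrix.one_mul, sub_self,
        sub_zero]
    have hee₂ : e₂ * e₂ = e₂ := by
      rw [he₂def, Matrix.mul_sub, Matrix.mul_one, Matrix.sub_mul, Matrix.one_mul,
        Matrix.mul_assoc Q₁ P₁, ← Matrix.mul_assoc P₁ Q₁ P₁, hPQ₁, Matrix.one_mul, sub_self,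
        sub_zero]
    refine equiv_of_matrix (uMap L' fM) (cMap L' gM) h₁ f₂ g₂ h₂ (e₁ * gL' * e₂) (e₂ * gL * e₁)
      ?_ ?_
    · rw [he₁]
      calc e₁ * gL' * e₂ * (e₂ * gL * e₁) = e₁ * gL' * (e₂ * e₂) * (gL * e₁) := by
            simp only [Matrix.mul_assoc]
        _ = e₁ * gL' * (e₂ * (gL * e₁)) := by rw [hee₂]; simp only [Matrix.mul_assoc]
        _ = e₁ * ((gL' * gL) * e₁) := by rw [k1]; simp only [Matrix.mul_assoc]
        _ = e₁ := by rw [hgL'L, Matrix.one_mul, hee₁]
    · rw [he₂]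
      calc e₂ * gL * e₁ * (e₁ * gL' * e₂) = e₂ * gL * (e₁ * e₁) * (gL' * e₂) := by
            simp only [Matrix.mul_assoc]
        _ = e₂ * gL * (e₁ * (gL' * e₂)) := by rw [hee₁]; simp only [Matrix.mul_assoc]
        _ = e₂ * ((gL * gL') * e₂) := by rw [k2]; simp only [Matrix.mul_assoc]
        _ = e₂ := by rw [hgLL', Matrix.one_mul, hee₂]

end Groth.Agent.Helper29.ApproxC
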