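import Mathlib
import Groth.Agent.Lib.Helper29.ApproxC

set_option autoImplicit false
set_option linter.unusedSectionVars false
set_option linter.unusedVariables false
set_option linter.unusedSimpArgs false

namespace Groth.Agent.Helper29.ApproxD

open Polynomial TensorProduct ApproxB ApproxC

universe u

variable (R : Type u) [CommRing R]

/-- the multiplicative set -/
noncomputable abbrev S : Submonoid R[X] := Submonoid.closure ({f : R[X] | f.coeff 0 = 1} ∪ {X})

/-- power series to Laurent series -/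
noncomputable abbrev κ : PowerSeries R →+* LaurentSeries R := HahnSeries.ofPowerSeries ℤ R

/-- polynomial to Laurent series -/
noncomputable abbrev ι : R[X] →+* LaurentSeries R :=
  (κ R).comp Polynomial.coeToPowerSeries.ringHom

/-- power series inside Laurent series -/
noncomputable abbrev K0 : Subring (LaurentSeries R) := (κ R).range

variable {R}

theorem mem_S_shape {s : R[X]} (hs : s ∈ S R) :
    ∃ (a : ℕ) (g : R[X]), g.coeff 0 = 1 ∧ s = X ^ a * g := by
  induction hs using Submonoid.closure_induction with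
  | mem x hx =>
    rcases hx with hx | hx
    · exact ⟨0, x, hx, by simp⟩
    · refine ⟨1, 1, by simp, ?_⟩
      rw [Set.mem_singleton_iff] at hx
      rw [hx]; simp
  | one => exact ⟨0, 1, by simp, by simp⟩
  | mul x y _ _ hx hy =>
    obtain ⟨a, g, hg, rfl⟩ := hx
    obtain ⟨b, h, hh, rfl⟩ := hy
    refine ⟨a + b, g * h, ?_, by ring⟩
    rw [Polynomial.mul_coeff_zero, hg, hh, one_mul]

theorem coeff_zero_one_mem_S {g : R[X]} (hg : g.coeff 0 = 1) : g ∈ S R :=
  Submonoid.subset_closure (Or.inl hg)

theorem X_mem_S : (X : R[X]) ∈ S R :=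
  Submonoid.subset_closure (Or.inr rfl)

theorem κ_injective : Function.Injective (κ R) := HahnSeries.ofPowerSeries_injective

theorem κ_X : κ R PowerSeries.X = ι R X := by
  show _ = κ R ((X : R[X]) : PowerSeries R)
  rw [Polynomial.coe_X]

variable (L : Type u) [CommRing L] [Algebra R[X] L] [IsLocalization (S R) L]
  {K : Type*}

theorem approxData (ψ : L →+* LaurentSeries R)
    (hψ : ∀ p : R[X], ψ (algebraMap R[X] L p) = ι R p) :
    ApproxData ψ (algebraMap R[X] L X) (K0 R) := by
  have hunit : ∀ s ∈ S R, IsUnit (algebraMap R[X] L s) := fun s hs =>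
    IsLocalization.map_units L (⟨s, hs⟩ : S R)
  have htX : ψ (algebraMap R[X] L X) = κ R PowerSeries.X := by rw [hψ, κ_X]
  refine ⟨hunit _ X_mem_S, ?_, ?_, ?_, ?_, ?_⟩
  · rw [htX]; exact ⟨_, rfl⟩
  · -- H1
    intro x
    obtain ⟨⟨f, ⟨_, n, rfl⟩⟩, hx⟩ :=
      IsLocalization.surj (Submonoid.powers (PowerSeries.X : PowerSeries R)) x
    refine ⟨n, f, ?_⟩
    rw [htX, ← map_pow, mul_comm]
    exact hx.symm
  · -- H2
    rintro x ⟨f, rfl⟩ N
    refine ⟨algebraMap R[X] L (PowerSeries.trunc N f), ?_, ?_⟩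
    · rw [hψ]; exact ⟨_, rfl⟩
    · refine ⟨κ R (PowerSeries.mk fun i => PowerSeries.coeff (i + N) f), ⟨_, rfl⟩, ?_⟩
      rw [hψ, htX, ← map_pow, ← map_mul]
      show _ = κ R ((PowerSeries.trunc N f : R[X]) : PowerSeries R) + _
      rw [← map_add, add_comm]
      exact congrArg _ (PowerSeries.eq_X_pow_mul_shift_add_trunc N f)
  · -- H3
    rintro z ⟨g, rfl⟩
    rw [htX, ← map_mul, ← map_one (κ R), ← map_add]
    apply IsUnit.map
    rw [PowerSeries.isUnit_iff_constantCoeff]
    simp
  · -- H4
    intro y hy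
    obtain ⟨f, hf⟩ := hy
    obtain ⟨⟨p, ⟨s, hs⟩⟩, hys⟩ := IsLocalization.surj (S R) y
    simp only at hys
    obtain ⟨a, g, hg, rfl⟩ := mem_S_shape hs
    -- in power series
    have h1 : f * ((X ^ a * g : R[X]) : PowerSeries R) = (p : PowerSeries R) := by
      apply κ_injective
      rw [map_mul, hf]
      have := congrArg ψ hys
      rw [map_mul, hψ, hψ] at this
      exact this
    have h2 : (X : R[X]) ^ a ∣ p := by
      rw [Polynomial.X_pow_dvd_iff]
      intro d hd
      rw [← Polynomial.coeff_coe, ← h1, Polynomial.coe_mul, Polynomial.coe_pow, Polynomial.coe_X,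
        mul_left_comm, PowerSeries.coeff_X_pow_mul', if_neg (not_le.mpr hd)]
    obtain ⟨p', rfl⟩ := h2
    have hXa : IsUnit (algebraMap R[X] L (X ^ a)) :=
      hunit _ (Submonoid.pow_mem _ X_mem_S a)
    have h3 : y * algebraMap R[X] L g = algebraMap R[X] L p' := by
      apply hXa.mul_left_cancel
      rw [← map_mul (algebraMap R[X] L) (X ^ a) p', ← hys, map_mul]
      ring
    have h4 : (1 + algebraMap R[X] L X * y) * algebraMap R[X] L g =
        algebraMap R[X] L (g + X * p') := by
      rw [map_add, map_mul, ← h3]; ring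
    have h5 : IsUnit (algebraMap R[X] L (g + X * p')) := by
      apply hunit
      apply coeff_zero_one_mem_S
      simp [hg]
    have h6 : IsUnit (algebraMap R[X] L g) := hunit _ (coeff_zero_one_mem_S hg)
    rw [← h4] at h5
    exact isUnit_of_mul_isUnit_left h5

end Groth.Agent.Helper29.ApproxD

namespace Groth.Agent.Helper29.ApproxD

open Polynomial TensorProduct ApproxB ApproxC

universe u

theorem main15759 (R : Type u) [CommRing R]
    (L : Type u) [CommRing L] [Algebra R[X] L]
    [IsLocalization (Submonoid.closure ({f : R[X] | f.coeff 0 = 1} ∪ {X})) L]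
    (L' : Type u) [CommRing L'] [Algebra L L'] (e : L' ≃+* LaurentSeries R)
    (he : ∀ p : R[X], e (algebraMap L L' (algebraMap R[X] L p)) =
      HahnSeries.ofPowerSeries ℤ R (Polynomial.coeToPowerSeries.ringHom p)) :
    (∀ (M N : Type u) [AddCommGroup M] [Module L M] [Module.Finite L M] [Module.Projective L M]
        [AddCommGroup N] [Module L N] [Module.Finite L N] [Module.Projective L N],
        Nonempty (L' ⊗[L] M ≃ₗ[L'] L' ⊗[L] N) → Nonempty (M ≃ₗ[L] N)) ∧
    (∀ (M' : Type u) [AddCommGroup M'] [Module L' M'] [Module.Finite L' M'],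
        (∃ n m : ℕ, Nonempty ((M' × (Fin n → L')) ≃ₗ[L'] (Fin m → L'))) →
        ∃ (M : Type u) (_ : AddCommGroup M) (_ : Module L M), Module.Finite L M ∧
          (∃ n m : ℕ, Nonempty ((M × (Fin n → L)) ≃ₗ[L] (Fin m → L))) ∧
          Nonempty (L' ⊗[L] M ≃ₗ[L'] M')) := by
  have hA : ApproxData ((e : L' →+* LaurentSeries R).comp (algebraMap L L'))
      (algebraMap R[X] L X) (K0 R) :=
    approxData L _ (fun p => he p)
  refine ⟨?_, ?_⟩
  · intro M N _ _ _ _ _ _ _ _ h
    exact iso_of_iso_baseChange e hA M N h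
  · intro M' _ _ _ ⟨n, m, ⟨φ⟩⟩
    exact stablyFree_descends e hA M' n m φ

end Groth.Agent.Helper29.ApproxD
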