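import Mathlib
import Groth.Agent.Lib.Helper29.ApproxC

set_option autoImplicit false
set_option linter.unusedSectionVars false
set_option linter.unusedVariables false
set_option linter.unusedSimpArgs false

namespace Groth.Agent.Helper29.ApproxE

open TensorProduct ApproxB ApproxC

universe u

variable {A : Type u} [CommRing A] (t : A)

/-- the ideal `(t)` -/
abbrev II : Ideal A := Ideal.span {t}

/-- the `t`-adic completion -/
abbrev Ah : Type u := AdicCompletion (II t) A

theorem fg : (II t).FG := ⟨{t}, by simp⟩

/-- density of `A` in its `t`-adic completion -/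
theorem density (x : Ah t) (N : ℕ) :
    ∃ (a : A) (z : Ah t), x = algebraMap A (Ah t) a + (algebraMap A (Ah t) t) ^ N * z := by
  obtain ⟨a, ha⟩ := Ideal.Quotient.mk_surjective (AdicCompletion.evalₐ (II t) N x)
  have h1 : x - algebraMap A (Ah t) a ∈ LinearMap.ker (AdicCompletion.eval (II t) A N) := by
    rw [LinearMap.mem_ker]
    have h2 : AdicCompletion.evalₐ (II t) N (x - algebraMap A (Ah t) a) = 0 := by
      rw [map_sub, ← ha, AdicCompletion.algebraMap_apply, AdicCompletion.evalₐ_of]
      simp
    have hle : (II t) ^ N ≤ (II t) ^ N • (⊤ : Ideal A) := by simp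
    rw [← AdicCompletion.factor_evalₐ_eq_eval _ _ hle, h2, map_zero]
  rw [← AdicCompletion.pow_smul_top_eq_ker_eval (fg t), Ideal.span_singleton_pow,
    Submodule.ideal_span_singleton_smul, Submodule.mem_smul_pointwise_iff_exists] at h1
  obtain ⟨z, -, hz⟩ := h1
  refine ⟨a, z, ?_⟩
  rw [← map_pow, ← Algebra.smul_def, hz]
  ring

/-- `1 + t z` is a unit in the completion -/
theorem isUnit_one_add (z : Ah t) : IsUnit (1 + algebraMap A (Ah t) t * z) := by
  have h1 : IsAdicComplete (II t) (Ah t) := AdicCompletion.isAdicComplete (fg t)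
  have h2 : IsAdicComplete ((II t).map (algebraMap A (Ah t))) (Ah t) :=
    (IsAdicComplete.map_algebraMap_iff (II t) (Ah t)).mpr h1
  have h3 : algebraMap A (Ah t) t ∈ (⊥ : Ideal (Ah t)).jacobson :=
    IsAdicComplete.le_jacobson_bot ((II t).map (algebraMap A (Ah t)))
      (Ideal.mem_map_of_mem _ (Ideal.subset_span (Set.mem_singleton t)))
  rw [add_comm]
  exact Ideal.mem_jacobson_bot.mp h3 z

/-- descent of an element -/
theorem descend_elt (a : A) (k j : ℕ) (z : Ah t)
    (h : (algebraMap A (Ah t) t) ^ j * (z * (algebraMap A (Ah t) t) ^ k) =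
      (algebraMap A (Ah t) t) ^ j * algebraMap A (Ah t) a) :
    ∃ a' : A, t ^ j * (a' * t ^ k) = t ^ j * a := by
  obtain ⟨z', hz'⟩ := Ideal.Quotient.mk_surjective (AdicCompletion.evalₐ (II t) (k + j) z)
  have h1 := congrArg (AdicCompletion.evalₐ (II t) (k + j)) h
  simp only [map_mul, map_pow, AdicCompletion.algebraMap_apply, AdicCompletion.evalₐ_of,
    Algebra.algebraMap_self, RingHom.id_apply, ← hz'] at h1
  rw [← map_pow, ← map_pow, ← map_mul, ← map_mul, ← map_mul, Ideal.Quotient.eq,
    Ideal.span_singleton_pow, Ideal.mem_span_singleton'] at h1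
  obtain ⟨c, hc⟩ := h1
  refine ⟨z' - c, ?_⟩
  have : t ^ j * (z' * t ^ k) - t ^ j * a = c * (t ^ k * t ^ j) := by rw [← pow_add, hc]
  linear_combination this

variable (L : Type u) [CommRing L] [Algebra A L] [IsLocalization.Away t L]
  (L' : Type u) [CommRing L'] [Algebra (Ah t) L'] [IsLocalization.Away (algebraMap A (Ah t) t) L']

theorem approxData (ψ : L →+* L')
    (hψ : ∀ a : A, ψ (algebraMap A L a) = algebraMap (Ah t) L' (algebraMap A (Ah t) a))
    (ht : t ∈ (⊥ : Ideal A).jacobson) :
    ApproxData ψ (algebraMap A L t) (algebraMap (Ah t) L').range := by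
  have hu : IsUnit (algebraMap A L t) := IsLocalization.Away.algebraMap_isUnit t
  refine ⟨hu, ?_, ?_, ?_, ?_, ?_⟩
  · rw [hψ]; exact ⟨_, rfl⟩
  · intro x
    obtain ⟨n, a, h⟩ := IsLocalization.Away.surj (algebraMap A (Ah t) t) x
    exact ⟨n, a, by rw [hψ, mul_comm, h]⟩
  · rintro x ⟨xh, rfl⟩ N
    obtain ⟨a, z, hz⟩ := density t xh N
    refine ⟨algebraMap A L a, ?_, algebraMap (Ah t) L' z, ⟨_, rfl⟩, ?_⟩
    · rw [hψ]; exact ⟨_, rfl⟩
    · rw [hψ, hψ, hz, map_add, map_mul, map_pow]
  · rintro z ⟨zh, rfl⟩
    rw [hψ, ← map_mul, ← map_one (algebraMap (Ah t) L'), ← map_add]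
    exact (isUnit_one_add t zh).map _
  · rintro y ⟨zh, hzh⟩
    obtain ⟨k, a, hy⟩ := IsLocalization.Away.surj t y
    have h1 := congrArg ψ hy
    rw [map_mul, map_pow, hψ, hψ, ← hzh, ← map_pow, ← map_mul] at h1
    obtain ⟨j, hj⟩ := IsLocalization.Away.exists_of_eq (algebraMap A (Ah t) t) h1
    obtain ⟨a', ha'⟩ := descend_elt t a k j zh hj
    have h2 := congrArg (algebraMap A L) ha'
    simp only [map_mul, map_pow] at h2
    have h3 : algebraMap A L a' * algebraMap A L t ^ k = algebraMap A L a :=
      (hu.pow j).mul_left_cancel h2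
    have h4 : y = algebraMap A L a' := by
      apply (hu.pow k).mul_right_cancel
      rw [hy, h3]
    have h5 : (1 : L) + algebraMap A L t * y = algebraMap A L (t * a' + 1) := by
      rw [h4, map_add, map_mul, map_one, add_comm]
    rw [h5]
    exact (Ideal.mem_jacobson_bot.mp ht a').map _

end Groth.Agent.Helper29.ApproxE

namespace Groth.Agent.Helper29.ApproxE

open TensorProduct ApproxB ApproxC

universe u

theorem main15778 (A : Type u) [CommRing A]
    (t : A) (ht : t ∈ (⊥ : Ideal A).jacobson)
    [Algebra (Localization.Away t) (Localization.Away (algebraMap A (AdicCompletion (Ideal.span {t}) A) t))]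
    (halg : algebraMap (Localization.Away t) (Localization.Away (algebraMap A (AdicCompletion (Ideal.span {t}) A) t)) = Localization.awayMap (algebraMap A (AdicCompletion (Ideal.span {t}) A)) t) :
    (∀ (M N : Type u) [AddCommGroup M] [Module (Localization.Away t) M] [Module.Finite (Localization.Away t) M] [Module.Projective (Localization.Away t) M]
        [AddCommGroup N] [Module (Localization.Away t) N] [Module.Finite (Localization.Away t) N] [Module.Projective (Localization.Away t) N],
        Nonempty ((Localization.Away (algebraMap A (AdicCompletion (Ideal.span {t}) A) t)) ⊗[Localization.Away t] M ≃ₗ[Localization.Away (algebraMap A (AdicCompletion (Ideal.span {t}) A) t)] (Localization.Away (algebraMap A (AdicCompletion (Ideal.span {t}) A) t)) ⊗[Localization.Away t] N) → Nonempty (M ≃ₗ[Localization.Away t] N)) ∧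
    (∀ (M' : Type u) [AddCommGroup M'] [Module (Localization.Away (algebraMap A (AdicCompletion (Ideal.span {t}) A) t)) M'] [Module.Finite (Localization.Away (algebraMap A (AdicCompletion (Ideal.span {t}) A) t)) M'],
        (∃ n m : ℕ, Nonempty ((M' × (Fin n → Localization.Away (algebraMap A (AdicCompletion (Ideal.span {t}) A) t))) ≃ₗ[Localization.Away (algebraMap A (AdicCompletion (Ideal.span {t}) A) t)] (Fin m → Localization.Away (algebraMap A (AdicCompletion (Ideal.span {t}) A) t)))) →
        ∃ (M : Type u) (_ : AddCommGroup M) (_ : Module (Localization.Away t) M), Module.Finite (Localization.Away t) M ∧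
          (∃ n m : ℕ, Nonempty ((M × (Fin n → Localization.Away t)) ≃ₗ[Localization.Away t] (Fin m → Localization.Away t))) ∧
          Nonempty ((Localization.Away (algebraMap A (AdicCompletion (Ideal.span {t}) A) t)) ⊗[Localization.Away t] M ≃ₗ[Localization.Away (algebraMap A (AdicCompletion (Ideal.span {t}) A) t)] M')) := by
  set e : Localization.Away (algebraMap A (Ah t) t) ≃+* Localization.Away (algebraMap A (Ah t) t) :=
    RingEquiv.refl _ with he
  have hA : ApproxData ((e : _ →+* _).comp (algebraMap (Localization.Away t)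
      (Localization.Away (algebraMap A (Ah t) t))))
      (algebraMap A (Localization.Away t) t)
      (algebraMap (Ah t) (Localization.Away (algebraMap A (Ah t) t))).range := by
    apply approxData t _ _ _ _ ht
    intro a
    show algebraMap (Localization.Away t) (Localization.Away (algebraMap A (Ah t) t))
      (algebraMap A (Localization.Away t) a) = _
    rw [halg]
    exact IsLocalization.map_eq _ a
  refine ⟨?_, ?_⟩
  · intro M N _ _ _ _ _ _ _ _ h
    exact iso_of_iso_baseChange e hA M N h
  · intro M' _ _ _ ⟨n, m, ⟨φ⟩⟩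
    exact stablyFree_descends e hA M' n m φ

end Groth.Agent.Helper29.ApproxE
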