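import Mathlib

/-! Basic theory of regular local rings: quotients by minimal generators, domain property. -/

namespace Groth.Agent.Helper29.LeadCopy.RLR

open IsLocalRing Ideal

universe u
variable {R : Type u} [CommRing R]

theorem isLocalRing_quotient [IsLocalRing R] {I : Ideal R} (hI : I ≠ ⊤) : IsLocalRing (R ⧸ I) := by
  haveI : Nontrivial (R ⧸ I) := Ideal.Quotient.nontrivial_iff.mpr hI
  exact IsLocalRing.of_surjective' (Ideal.Quotient.mk I) Ideal.Quotient.mk_surjective

theorem span_singleton_ne_top [IsLocalRing R] {x : R} (hx : x ∈ maximalIdeal R) :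
    Ideal.span {x} ≠ ⊤ := by
  intro h
  have : Ideal.span {x} ≤ maximalIdeal R := (Ideal.span_singleton_le_iff_mem _).mpr hx
  rw [h] at this
  exact (maximalIdeal.isMaximal R).ne_top (top_le_iff.mp this)

theorem ncard_range_le {α : Type*} {n : ℕ} (f : Fin n → α) : (Set.range f).ncard ≤ n := by
  classical
  rw [← Set.image_univ]
  calc (f '' Set.univ).ncard ≤ (Set.univ : Set (Fin n)).ncard :=
        Set.ncard_image_le (Set.finite_univ)
    _ = n := by rw [Set.ncard_univ, Nat.card_fin]

theorem exists_nat_of_le {x : WithBot ℕ∞} {k : ℕ} (h0 : 0 ≤ x) (hk : x ≤ (k : WithBot ℕ∞)) :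
    ∃ e : ℕ, x = (e : WithBot ℕ∞) ∧ e ≤ k := by
  induction x using WithBot.recBotCoe with
  | bot => exact absurd h0 (by simp)
  | coe y =>
    induction y using ENat.recTopCoe with
    | top =>
      exfalso
      have : ((⊤ : ℕ∞) : WithBot ℕ∞) ≤ ((k : ℕ∞) : WithBot ℕ∞) := hk
      rw [WithBot.coe_le_coe] at this
      simp at this
    | coe e =>
      refine ⟨e, rfl, ?_⟩
      have : ((e : ℕ∞) : WithBot ℕ∞) ≤ ((k : ℕ∞) : WithBot ℕ∞) := hk
      rw [WithBot.coe_le_coe] at this
      exact_mod_cast this

theorem spanFinrank_maximalIdeal_quotient_le [IsLocalRing R] [IsNoetherianRing R] (x : R)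
    {n : ℕ} (y : Fin n → R) (h : Ideal.span (insert x (Set.range y)) = maximalIdeal R)
    [IsLocalRing (R ⧸ Ideal.span {x})] :
    (maximalIdeal (R ⧸ Ideal.span {x})).spanFinrank ≤ n := by
  have h1 : maximalIdeal (R ⧸ Ideal.span {x}) =
      Ideal.span (Set.range ((Ideal.Quotient.mk (Ideal.span {x})) ∘ y)) := by
    rw [← map_maximalIdeal_of_surjective (Ideal.Quotient.mk (Ideal.span {x}))
      Ideal.Quotient.mk_surjective, ← h, Ideal.map_span, Set.image_insert_eq, Set.range_comp]
    have h0 : (Ideal.Quotient.mk (Ideal.span {x})) x = 0 :=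
      Ideal.Quotient.eq_zero_iff_mem.mpr (Ideal.subset_span rfl)
    rw [h0]
    exact Submodule.span_insert_zero
  rw [h1]
  exact (Submodule.spanFinrank_span_le_ncard_of_finite (Set.finite_range _)).trans
    (ncard_range_le _)


theorem mem_maximalIdeal_of_span_insert [IsLocalRing R] {x : R} {s : Set R}
    (h : Ideal.span (insert x s) = maximalIdeal R) : x ∈ maximalIdeal R :=
  h ▸ Ideal.subset_span (Set.mem_insert _ _)

theorem spanFinrank_span_singleton_le (x : R) : (Ideal.span {x}).spanFinrank ≤ 1 := by
  have := Submodule.spanFinrank_span_le_ncard_of_finite (R := R) (Set.finite_singleton x)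
  rwa [Set.ncard_singleton] at this

theorem isRegularLocalRing_quotient_aux [IsRegularLocalRing R] (x : R) {n : ℕ} (y : Fin n → R)
    (h : Ideal.span (insert x (Set.range y)) = maximalIdeal R)
    (hn : (maximalIdeal R).spanFinrank = n + 1) [IsLocalRing (R ⧸ Ideal.span {x})] :
    IsRegularLocalRing (R ⧸ Ideal.span {x}) ∧ ringKrullDim (R ⧸ Ideal.span {x}) = n := by
  have hx := mem_maximalIdeal_of_span_insert h
  have hle := spanFinrank_maximalIdeal_quotient_le x y h
  have hdimR : ringKrullDim R = ((n + 1 : ℕ) : WithBot ℕ∞) := by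
    rw [← IsRegularLocalRing.spanFinrank_maximalIdeal, hn]
  have hK : ringKrullDim R ≤ ringKrullDim (R ⧸ Ideal.span {x}) + (Ideal.span {x}).spanFinrank :=
    ringKrullDim_le_ringKrullDim_quotient_add_spanFinrank _
      (by rw [ringJacobson_eq_maximalIdeal]; exact (Ideal.span_singleton_le_iff_mem _).mpr hx)
  obtain ⟨e, he, hek⟩ := exists_nat_of_le (ringKrullDim_nonneg_of_nontrivial)
    (ringKrullDim_le_spanFinrank_maximalIdeal (R ⧸ Ideal.span {x}))
  have h1 := spanFinrank_span_singleton_le x
  rw [hdimR, he] at hK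
  have hK' : n + 1 ≤ e + (Ideal.span {x}).spanFinrank := by exact_mod_cast hK
  have hen : e = n := by omega
  constructor
  · apply IsRegularLocalRing.of_spanFinrank_maximalIdeal_le
    rw [he]
    exact_mod_cast (by omega : (maximalIdeal (R ⧸ Ideal.span {x})).spanFinrank ≤ e)
  · rw [he, hen]


theorem exists_generators_of_notMem_sq [IsLocalRing R] [IsNoetherianRing R] {x : R}
    (hx : x ∈ maximalIdeal R) (hx2 : x ∉ maximalIdeal R ^ 2) :
    ∃ (n : ℕ) (y : Fin n → R), (maximalIdeal R).spanFinrank = n + 1 ∧
      Ideal.span (insert x (Set.range y)) = maximalIdeal R := by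
  classical
  let k := ResidueField R
  let V := CotangentSpace R
  let v : V := (maximalIdeal R).toCotangent ⟨x, hx⟩
  have hv : v ≠ 0 := by
    intro h0
    exact hx2 (((maximalIdeal R).toCotangent_eq_zero ⟨x, hx⟩).mp h0)
  let L : Submodule k V := Submodule.span k {v}
  have hL : Module.finrank k L = 1 := finrank_span_singleton hv
  have hQ : Module.finrank k (V ⧸ L) + 1 = Module.finrank k V := by
    have := Submodule.finrank_quotient_add_finrank L
    omega
  let b := Module.finBasis k (V ⧸ L)
  have hsurj : ∀ i, ∃ z : maximalIdeal R, L.mkQ ((maximalIdeal R).toCotangent z) = b i := by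
    intro i
    obtain ⟨w, hw⟩ := L.mkQ_surjective (b i)
    obtain ⟨z, hz⟩ := (maximalIdeal R).toCotangent_surjective w
    exact ⟨z, by rw [hz, hw]⟩
  choose z hz using hsurj
  refine ⟨Module.finrank k (V ⧸ L), fun i => (z i : R), ?_, ?_⟩
  · rw [spanFinrank_maximalIdeal_eq_finrank_cotangentSpace]; exact hQ.symm
  · let S : Set (maximalIdeal R) := insert ⟨x, hx⟩ (Set.range z)
    have hW : Submodule.span k ((maximalIdeal R).toCotangent '' S) = ⊤ := by
      rw [eq_top_iff]
      intro u _
      set W := Submodule.span k ((maximalIdeal R).toCotangent '' S) with hWdef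
      have hvW : v ∈ W := Submodule.subset_span ⟨⟨x, hx⟩, Set.mem_insert _ _, rfl⟩
      have hLW : L ≤ W := (Submodule.span_singleton_le_iff_mem _ _).mpr hvW
      have hmap : W.map L.mkQ = ⊤ := by
        rw [eq_top_iff, ← b.span_eq, Submodule.span_le]
        rintro _ ⟨i, rfl⟩
        exact ⟨(maximalIdeal R).toCotangent (z i),
          Submodule.subset_span ⟨z i, Set.mem_insert_of_mem _ ⟨i, rfl⟩, rfl⟩, hz i⟩
      have hu : L.mkQ u ∈ W.map L.mkQ := hmap ▸ Submodule.mem_top
      obtain ⟨w, hwW, hwu⟩ := hu
      have hsub : u - w ∈ L := by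
        rw [← Submodule.Quotient.mk_eq_zero, Submodule.Quotient.mk_sub, sub_eq_zero]
        exact hwu.symm
      have := W.add_mem (hLW hsub) hwW
      rwa [sub_add_cancel] at this
    have hS := CotangentSpace.span_image_eq_top_iff.mp hW
    have h3 := congrArg (Submodule.map (maximalIdeal R).subtype) hS
    rw [Submodule.map_span, Submodule.map_top, Submodule.range_subtype] at h3
    refine Eq.trans ?_ h3
    congr 1
    simp only [S, Set.image_insert_eq, Submodule.subtype_apply, ← Set.range_comp]
    rfl


theorem spanFinrank_maximalIdeal_eq_of_dim [IsRegularLocalRing R] {n : ℕ}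
    (h : ringKrullDim R = n) : (maximalIdeal R).spanFinrank = n := by
  have := IsRegularLocalRing.spanFinrank_maximalIdeal (R := R)
  rw [h] at this
  exact_mod_cast this

theorem isDomain_aux : ∀ (d : ℕ) (R : Type u) [CommRing R] [IsRegularLocalRing R],
    (maximalIdeal R).spanFinrank = d → IsDomain R := by
  intro d
  induction d with
  | zero =>
    intro R _ _ hd
    have hfg : (maximalIdeal R).FG := (maximalIdeal R).fg_of_isNoetherianRing
    have h0 : maximalIdeal R = ⊥ := (Submodule.spanFinrank_eq_zero_iff_eq_bot hfg).mp hd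
    have hf : IsField R := IsLocalRing.isField_iff_maximalIdeal_eq.mpr h0
    exact hf.isDomain
  | succ n ih =>
    intro R _ _ hd
    have hfg : (maximalIdeal R).FG := (maximalIdeal R).fg_of_isNoetherianRing
    have hdim : ringKrullDim R = ((n + 1 : ℕ) : WithBot ℕ∞) := by
      rw [← IsRegularLocalRing.spanFinrank_maximalIdeal, hd]
    have hfin : (minimalPrimes R).Finite := minimalPrimes.finite_of_isNoetherianRing R
    have hnot : ¬ ((maximalIdeal R : Set R) ⊆ ((maximalIdeal R ^ 2 : Ideal R) : Set R) ∪
        ((maximalIdeal R ^ 2 : Ideal R) : Set R) ∪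
        ⋃ p ∈ (hfin.toFinset : Set (Ideal R)), (p : Set R)) := by
      intro hsub
      rcases (Ideal.subset_union_prime' (s := hfin.toFinset) (f := fun p : Ideal R => p)
        (a := maximalIdeal R ^ 2) (b := maximalIdeal R ^ 2)
        (fun p hp => (hfin.mem_toFinset.mp hp).1.1)).mp hsub with h | h | ⟨p, hp, h⟩
      · have hb : maximalIdeal R = ⊥ := by
          apply Submodule.eq_bot_of_le_smul_of_le_jacobson_bot (maximalIdeal R) (maximalIdeal R) hfg
          · rw [smul_eq_mul, ← pow_two]; exact h
          · exact (IsLocalRing.jacobson_eq_maximalIdeal ⊥ bot_ne_top).ge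
        rw [hb, Submodule.spanFinrank_bot] at hd
        omega
      · have hb : maximalIdeal R = ⊥ := by
          apply Submodule.eq_bot_of_le_smul_of_le_jacobson_bot (maximalIdeal R) (maximalIdeal R) hfg
          · rw [smul_eq_mul, ← pow_two]; exact h
          · exact (IsLocalRing.jacobson_eq_maximalIdeal ⊥ bot_ne_top).ge
        rw [hb, Submodule.spanFinrank_bot] at hd
        omega
      · have hpmin : p ∈ minimalPrimes R := hfin.mem_toFinset.mp hp
        haveI : p.IsPrime := hpmin.1.1
        have hpm : p = maximalIdeal R := le_antisymm (le_maximalIdeal (Ideal.IsPrime.ne_top')) h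
        rw [hpm] at hpmin
        have h0 : (maximalIdeal R).height = 0 := Ideal.height_eq_zero_iff.mpr hpmin
        have h1 := IsLocalRing.maximalIdeal_height_eq_ringKrullDim (R := R)
        rw [h0, hdim] at h1
        have : ((0 : ℕ) : WithBot ℕ∞) = ((n + 1 : ℕ) : WithBot ℕ∞) := by exact_mod_cast h1
        have h2 : (0 : ℕ) = n + 1 := by exact_mod_cast this
        omega
    obtain ⟨x, hxm, hxnot⟩ := Set.not_subset.mp hnot
    have hx2 : x ∉ maximalIdeal R ^ 2 := fun h => hxnot (Or.inl (Or.inl h))
    have hxp : ∀ p ∈ minimalPrimes R, x ∉ p := by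
      intro p hp hxp
      apply hxnot
      right
      simp only [Set.mem_iUnion]
      exact ⟨p, by simpa using hp, hxp⟩
    obtain ⟨n', y, hn', hspan⟩ := exists_generators_of_notMem_sq hxm hx2
    have hnn : n' = n := by omega
    subst hnn
    haveI := isLocalRing_quotient (span_singleton_ne_top hxm)
    obtain ⟨hreg, hdimQ⟩ := isRegularLocalRing_quotient_aux x y hspan hn'
    haveI := hreg
    have hQdom : IsDomain (R ⧸ Ideal.span {x}) :=
      ih (R ⧸ Ideal.span {x}) (spanFinrank_maximalIdeal_eq_of_dim hdimQ)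
    have hprime : (Ideal.span {x}).IsPrime := (Ideal.Quotient.isDomain_iff_prime _).mp hQdom
    obtain ⟨p, hpmin, hple⟩ := Ideal.exists_minimalPrimes_le (I := ⊥) (J := Ideal.span {x}) bot_le
    have hpprime : p.IsPrime := hpmin.1.1
    have hxp' : x ∉ p := hxp p hpmin
    have hpbot : p = ⊥ := by
      apply Submodule.eq_bot_of_le_smul_of_le_jacobson_bot (maximalIdeal R) p
        (IsNoetherian.noetherian p)
      · intro a ha
        obtain ⟨c, rfl⟩ := Ideal.mem_span_singleton'.mp (hple ha)
        have hc : c ∈ p := (hpprime.mem_or_mem ha).resolve_right hxp'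
        rw [mul_comm]
        exact Submodule.smul_mem_smul hxm hc
      · exact (IsLocalRing.jacobson_eq_maximalIdeal ⊥ bot_ne_top).ge
    rw [hpbot] at hpprime
    haveI := hpprime
    exact IsDomain.of_bot_isPrime R

/-- A regular local ring is a domain. -/
theorem isDomain (R : Type u) [CommRing R] [IsRegularLocalRing R] : IsDomain R :=
  isDomain_aux _ R rfl

end Groth.Agent.Helper29.LeadCopy.RLR
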