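import Mathlib
import Groth.Agent.Lib.Helper29.LeadRLR1

/-!
# Finite local algebras with principal maximal ideal are `k[X]/(X^n)` (helper29)
-/

namespace Groth.Agent.Helper29.ArtinPrincipal

open IsLocalRing

universe u v

theorem algEquiv_of_principal (k : Type u) [Field k] (B : Type v) [CommRing B] [Algebra k B]
    [Module.Finite k B] (t : B) (ht : IsNilpotent t)
    (hB : ∀ b : B, ∃ c : k, b - algebraMap k B c ∈ Ideal.span {t}) :
    Nonempty (B ≃ₐ[k]
      (Polynomial k ⧸ Ideal.span {(Polynomial.X : Polynomial k) ^ Module.finrank k B})) := by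
  obtain ⟨N, hN⟩ := ht
  let φ : Polynomial k →ₐ[k] B := Polynomial.aeval t
  have hstep : ∀ j : ℕ, ∀ b : B, ∃ p : Polynomial k, b - φ p ∈ Ideal.span {t ^ j} := by
    intro j
    induction j with
    | zero =>
      intro b
      exact ⟨0, by rw [pow_zero, Ideal.span_singleton_one]; trivial⟩
    | succ j ih =>
      intro b
      obtain ⟨p, hp⟩ := ih b
      obtain ⟨b', hb'⟩ := Ideal.mem_span_singleton'.1 hp
      obtain ⟨c, hc⟩ := hB b'
      obtain ⟨b'', hb''⟩ := Ideal.mem_span_singleton'.1 hc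
      refine ⟨p + Polynomial.C c * Polynomial.X ^ j, ?_⟩
      rw [Ideal.mem_span_singleton']
      refine ⟨b'', ?_⟩
      have h3 : φ (p + Polynomial.C c * Polynomial.X ^ j) = φ p + algebraMap k B c * t ^ j := by
        simp [φ]
      rw [h3, pow_succ]
      linear_combination t ^ j * hb'' + hb'
  have hsurj : Function.Surjective φ := by
    intro b
    obtain ⟨p, hp⟩ := hstep N b
    rw [hN, Ideal.span_singleton_eq_bot.2 rfl, Ideal.mem_bot, sub_eq_zero] at hp
    exact ⟨p, hp.symm⟩
  have hXN : (Polynomial.X : Polynomial k) ^ N ∈ RingHom.ker φ := by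
    rw [RingHom.mem_ker]
    simp [φ, hN]
  obtain ⟨q, hq⟩ : ∃ q, RingHom.ker φ = Ideal.span {q} :=
    (IsPrincipalIdealRing.principal (RingHom.ker φ)).principal
  have hdvd : q ∣ Polynomial.X ^ N := by
    rw [← Ideal.mem_span_singleton, ← hq]
    exact hXN
  obtain ⟨j, _, hass⟩ := (dvd_prime_pow Polynomial.prime_X N).1 hdvd
  have hker : RingHom.ker φ = Ideal.span {(Polynomial.X : Polynomial k) ^ j} := by
    rw [hq]
    exact Ideal.span_singleton_eq_span_singleton.2 hass
  let e1 : (Polynomial k ⧸ RingHom.ker φ) ≃ₐ[k] B := Ideal.quotientKerAlgEquivOfSurjective hsurj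
  let e2 : (Polynomial k ⧸ RingHom.ker φ) ≃ₐ[k]
      (Polynomial k ⧸ Ideal.span {(Polynomial.X : Polynomial k) ^ j}) :=
    Ideal.quotientEquivAlgOfEq k hker
  have hfin : Module.finrank k B = j := by
    rw [← (e1.symm.trans e2).toLinearEquiv.finrank_eq.symm, finrank_quotient_span_eq_natDegree,
      Polynomial.natDegree_X_pow]
  rw [hfin]
  exact ⟨e1.symm.trans e2⟩

/-- S19453 -/
theorem main (k : Type u) [Field k]
    (A : Type u) [CommRing A] [Algebra k A] [IsRegularLocalRing A] (hdim : ringKrullDim A = 2)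
    (hres : Function.Surjective (algebraMap k (IsLocalRing.ResidueField A)))
    (I : Ideal A) [Module.Finite k (A ⧸ I)] (n : ℕ) (hn : Module.finrank k (A ⧸ I) = n) (h1 : 1 ≤ n)
    (g : A) (hgI : g ∈ I) (hg : g ∉ IsLocalRing.maximalIdeal A ^ 2) :
    Nonempty ((A ⧸ I) ≃ₐ[k] (Polynomial k ⧸ Ideal.span {(Polynomial.X : Polynomial k) ^ n})) := by
  have hItop : I ≠ ⊤ := by
    rintro rfl
    have : Subsingleton (A ⧸ (⊤ : Ideal A)) := Ideal.Quotient.subsingleton_iff.2 rfl
    have : Module.finrank k (A ⧸ (⊤ : Ideal A)) = 0 := Module.finrank_zero_of_subsingleton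
    omega
  have hgm : g ∈ maximalIdeal A := IsLocalRing.le_maximalIdeal hItop hgI
  obtain ⟨n', y, hspan, hgen⟩ := LeadCopy.RLR.exists_generators_of_notMem_sq hgm hg
  have h2 : (maximalIdeal A).spanFinrank = 2 :=
    LeadCopy.RLR.spanFinrank_maximalIdeal_eq_of_dim (by exact_mod_cast hdim)
  have hn' : n' = 1 := by omega
  subst hn'
  have hlocal : IsLocalRing (A ⧸ I) := LeadCopy.RLR.isLocalRing_quotient hItop
  let t : A ⧸ I := Ideal.Quotient.mk I (y 0)
  have hloc : IsLocalHom (Ideal.Quotient.mk I) :=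
    IsLocalHom.of_surjective _ Ideal.Quotient.mk_surjective
  have hy0 : y 0 ∈ maximalIdeal A := by
    rw [← hgen]
    exact Ideal.subset_span (Set.mem_insert_of_mem _ ⟨0, rfl⟩)
  have htm : t ∈ maximalIdeal (A ⧸ I) :=
    IsLocalRing.map_maximalIdeal_le (Ideal.Quotient.mk I) (Ideal.mem_map_of_mem _ hy0)
  have hart : IsArtinianRing (A ⧸ I) := IsArtinianRing.of_finite k (A ⧸ I)
  obtain ⟨N, hN⟩ := IsArtinianRing.isNilpotent_jacobson_bot (R := A ⧸ I)
  rw [IsLocalRing.jacobson_eq_maximalIdeal ⊥ bot_ne_top] at hN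
  have ht : IsNilpotent t := by
    refine ⟨N, ?_⟩
    have := Ideal.pow_mem_pow htm N
    rw [hN] at this
    exact this
  have hB : ∀ b : A ⧸ I, ∃ c : k, b - algebraMap k (A ⧸ I) c ∈ Ideal.span {t} := by
    intro b
    obtain ⟨a, rfl⟩ := Ideal.Quotient.mk_surjective b
    obtain ⟨c, hc⟩ := hres (IsLocalRing.residue A a)
    refine ⟨c, ?_⟩
    have h1 : a - algebraMap k A c ∈ maximalIdeal A := by
      rw [← IsLocalRing.residue_eq_zero_iff, map_sub, sub_eq_zero, ← hc]
      exact (IsScalarTower.algebraMap_apply k A (ResidueField A) c)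
    rw [← hgen, Ideal.mem_span_insert] at h1
    obtain ⟨α, z, hz, h1⟩ := h1
    have hz' : Ideal.Quotient.mk I z ∈ Ideal.span {t} := by
      have hle : Ideal.span (Set.range y) ≤ (Ideal.span {t}).comap (Ideal.Quotient.mk I) := by
        rw [Ideal.span_le]
        rintro _ ⟨i, rfl⟩
        have : i = 0 := Subsingleton.elim _ _
        subst this
        exact Ideal.subset_span rfl
      exact hle hz
    have h2 : Ideal.Quotient.mk I a - algebraMap k (A ⧸ I) c = Ideal.Quotient.mk I z := by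
      have h3 : algebraMap k (A ⧸ I) c = Ideal.Quotient.mk I (algebraMap k A c) := rfl
      rw [h3, ← map_sub, h1, map_add, map_mul, Ideal.Quotient.eq_zero_iff_mem.2 hgI, mul_zero,
        zero_add]
    rw [h2]
    exact hz'
  rw [← hn]
  exact algEquiv_of_principal k (A ⧸ I) t ht hB

end Groth.Agent.Helper29.ArtinPrincipal
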