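import Mathlib

set_option linter.unusedSectionVars false
set_option autoImplicit false

namespace Groth.Agent.Helper29.BasicElt

open Module Submodule

universe u

section FieldLA

variable {K V ι : Type*} [Field K] [AddCommGroup V] [Module K V] [DecidableEq ι]

/-- modified family: add multiples of `g j₁` -/
def modFam (g : ι → V) (j₁ : ι) (r : ι → K) : ι → V := fun i => g i + r i • g j₁

theorem span_modFam_le (g : ι → V) (S : Finset ι) (j₁ : ι) (hj₁ : j₁ ∈ S) (r : ι → K) :
    span K (modFam g j₁ r '' (S.erase j₁ : Set ι)) ≤ span K (g '' (S : Set ι)) := by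
  rw [span_le]
  rintro _ ⟨i, hi, rfl⟩
  have hi' : i ∈ S := Finset.mem_of_mem_erase (Finset.mem_coe.mp hi)
  exact add_mem (subset_span ⟨i, hi', rfl⟩) (smul_mem _ _ (subset_span ⟨j₁, hj₁, rfl⟩))

theorem span_le_modFam_sup (g : ι → V) (S : Finset ι) (j₁ : ι) (r : ι → K) :
    span K (g '' (S : Set ι)) ≤
      span K (modFam g j₁ r '' (S.erase j₁ : Set ι)) ⊔ span K {g j₁} := by
  rw [span_le]
  rintro _ ⟨i, hi, rfl⟩
  by_cases h : i = j₁
  · subst h
    exact mem_sup_right (subset_span rfl)
  · have hi' : i ∈ (S.erase j₁ : Set ι) :=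
      Finset.mem_coe.mpr (Finset.mem_erase.mpr ⟨h, Finset.mem_coe.mp hi⟩)
    have : g i = modFam g j₁ r i - r i • g j₁ := by simp [modFam]
    rw [this]
    exact sub_mem (mem_sup_left (subset_span ⟨i, hi', rfl⟩))
      (mem_sup_right (smul_mem _ _ (subset_span rfl)))

theorem finrank_le_modFam_succ [FiniteDimensional K V] (g : ι → V) (S : Finset ι) (j₁ : ι)
    (r : ι → K) :
    finrank K (span K (g '' (S : Set ι))) ≤
      finrank K (span K (modFam g j₁ r '' (S.erase j₁ : Set ι))) + 1 := by
  refine (Submodule.finrank_mono (span_le_modFam_sup g S j₁ r)).trans ?_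
  refine (Submodule.finrank_add_le_finrank_add_finrank _ _).trans ?_
  gcongr
  exact (finrank_span_le_card ({g j₁} : Set V)).trans (by simp)

theorem exists_fix [FiniteDimensional K V] (g : ι → V) (S : Finset ι) (j₁ : ι) (hj₁ : j₁ ∈ S)
    (r : ι → K)
    (hne : span K (modFam g j₁ r '' (S.erase j₁ : Set ι)) ≠ span K (g '' (S : Set ι)))
    (hrk : finrank K (span K (g '' (S : Set ι))) ≤ (S.erase j₁).card) :
    ∃ j ∈ S.erase j₁, ∀ s : K, s ≠ 0 →
      span K (modFam g j₁ (fun i => r i + if i = j then s else 0) '' (S.erase j₁ : Set ι)) =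
        span K (g '' (S : Set ι)) := by
  classical
  set S' := S.erase j₁ with hS'
  set g' := modFam g j₁ r with hg'
  have hlt : span K (g' '' (S' : Set ι)) < span K (g '' (S : Set ι)) :=
    lt_of_le_of_ne (span_modFam_le g S j₁ hj₁ r) hne
  have hfr : finrank K (span K (g' '' (S' : Set ι))) < S'.card :=
    (Submodule.finrank_lt_finrank_of_lt hlt).trans_le hrk
  -- the family on S' is not linearly independent
  have hnli : ¬ LinearIndependent K (fun i : S' => g' i) := by
    intro hli
    have := finrank_span_eq_card hli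
    have himg : Set.range (fun i : S' => g' i) = g' '' (S' : Set ι) := by
      ext x; constructor
      · rintro ⟨⟨i, hi⟩, rfl⟩; exact ⟨i, hi, rfl⟩
      · rintro ⟨i, hi, rfl⟩; exact ⟨⟨i, hi⟩, rfl⟩
    rw [himg] at this
    simp at this
    omega
  rw [linearIndependent_iff_notMem_span] at hnli
  push Not at hnli
  obtain ⟨⟨j, hj⟩, hjmem⟩ := hnli
  refine ⟨j, hj, fun s hs => ?_⟩
  set r'' : ι → K := fun i => r i + if i = j then s else 0 with hr''
  set g'' := modFam g j₁ r'' with hg''
  set N := span K (g'' '' (S' : Set ι)) with hN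
  have hjj₁ : j ≠ j₁ := (Finset.mem_erase.mp hj).1
  have hagree : ∀ i, i ≠ j → g'' i = g' i := by
    intro i hi
    simp [hg'', hg', modFam, hr'', hi]
  have hg''j : g'' j = g' j + s • g j₁ := by
    simp [hg'', hg', modFam, hr'', add_smul, add_assoc]
  -- g' j ∈ N
  have h1 : g' j ∈ N := by
    refine span_mono ?_ hjmem
    rintro _ ⟨⟨i, hi⟩, hmem, rfl⟩
    have hij : i ≠ j := by
      intro h; apply hmem.2; simp [h]
    exact ⟨i, hi, hagree i hij⟩
  have h2 : g j₁ ∈ N := by
    have : s • g j₁ ∈ N := by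
      have : s • g j₁ = g'' j - g' j := by rw [hg''j]; abel
      rw [this]
      exact sub_mem (subset_span ⟨j, hj, rfl⟩) h1
    simpa [hs] using N.smul_mem s⁻¹ this
  have h3 : ∀ i ∈ S', g' i ∈ N := by
    intro i hi
    by_cases hij : i = j
    · rw [hij]; exact h1
    · rw [← hagree i hij]; exact subset_span ⟨i, hi, rfl⟩
  apply le_antisymm (span_modFam_le g S j₁ hj₁ r'')
  rw [span_le]
  rintro _ ⟨i, hi, rfl⟩
  by_cases h : i = j₁
  · rw [h]; exact h2
  · have hi' : i ∈ S' := Finset.mem_erase.mpr ⟨h, hi⟩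
    have : g i = g' i - r i • g j₁ := by simp [hg', modFam]
    rw [this]
    exact sub_mem (h3 i hi') (N.smul_mem _ h2)

end FieldLA

section Ring

variable {R : Type u} [CommRing R] {n : Type} [Fintype n] [DecidableEq n]
variable {ι : Type} [DecidableEq ι]

/-- reduction of a vector modulo a prime -/
noncomputable def red (p : PrimeSpectrum R) (v : n → R) : n → p.asIdeal.ResidueField :=
  fun l => algebraMap R p.asIdeal.ResidueField (v l)

theorem red_add (p : PrimeSpectrum R) (v w : n → R) : red p (v + w) = red p v + red p w := by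
  ext l; simp [red]

theorem red_smul (p : PrimeSpectrum R) (c : R) (v : n → R) :
    red p (c • v) = algebraMap R p.asIdeal.ResidueField c • red p v := by
  ext l; simp [red]

theorem red_eq_zero_iff (p : PrimeSpectrum R) (v : n → R) :
    red p v = 0 ↔ ∀ l, v l ∈ p.asIdeal := by
  constructor
  · intro h l
    have := congrFun h l
    simpa [red] using this
  · intro h; ext l; simpa [red] using h l

/-- span of the reductions -/
noncomputable def W (p : PrimeSpectrum R) (f : ι → n → R) (S : Finset ι) :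
    Submodule p.asIdeal.ResidueField (n → p.asIdeal.ResidueField) :=
  span p.asIdeal.ResidueField ((fun j => red p (f j)) '' (S : Set ι))

/-- rank of the family at `p` -/
noncomputable def rk (p : PrimeSpectrum R) (f : ι → n → R) (S : Finset ι) : ℕ :=
  finrank p.asIdeal.ResidueField (W p f S)

theorem isOpen_le_rk (f : ι → n → R) (S : Finset ι) (s : ℕ) :
    IsOpen {p : PrimeSpectrum R | s ≤ rk p f S} := by
  classical
  rw [isOpen_iff_forall_mem_open]
  intro p hp
  set κ := p.asIdeal.ResidueField with hκ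
  let v : S → n → κ := fun j => red p (f j)
  obtain ⟨κ', a, ha, hsp, hli⟩ := exists_linearIndependent' κ v
  have hfin : Finite κ' := Finite.of_injective a ha
  let _ : Fintype κ' := Fintype.ofFinite κ'
  have hrange : Set.range v = (fun j => red p (f j)) '' (S : Set ι) := by
    ext x; constructor
    · rintro ⟨⟨j, hj⟩, rfl⟩; exact ⟨j, hj, rfl⟩
    · rintro ⟨j, hj, rfl⟩; exact ⟨⟨j, hj⟩, rfl⟩
  have hcard : Fintype.card κ' = rk p f S := by
    have h1 := finrank_span_eq_card hli
    rw [hsp, hrange] at h1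
    exact h1.symm
  -- the matrix with rows the independent vectors
  let M : Matrix κ' n κ := Matrix.of (fun i l => v (a i) l)
  have hMrow : LinearIndependent κ M.row := hli
  have hMrank : M.rank = Fintype.card κ' := hMrow.rank_matrix
  have hMt : M.transpose.rank = Fintype.card κ' := by rw [Matrix.rank_transpose, hMrank]
  have htop : span κ (Set.range M.transpose.row) = ⊤ := by
    apply Submodule.eq_top_of_finrank_eq
    rw [← Matrix.rank_eq_finrank_span_row, hMt]
    simp
  obtain ⟨ρ, b, hb, hbsp, hbli⟩ := exists_linearIndependent' κ M.transpose.row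
  have hfinρ : Finite ρ := Finite.of_injective b hb
  let _ : Fintype ρ := Fintype.ofFinite ρ
  have hcardρ : Fintype.card ρ = Fintype.card κ' := by
    have h1 := finrank_span_eq_card hbli
    rw [hbsp, htop] at h1
    simpa using h1.symm
  let e : κ' ≃ ρ := Fintype.equivOfCardEq hcardρ.symm
  -- square matrix over R
  let ZR : Matrix κ' κ' R := Matrix.of (fun i i' => f (a i') (b (e i)))
  have hZ : ∀ q : PrimeSpectrum R,
      (algebraMap R q.asIdeal.ResidueField).mapMatrix ZR =
        Matrix.of (fun i i' => red q (f (a i')) (b (e i))) := by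
    intro q; ext i i'; simp [ZR, red]
  have hZrow : LinearIndependent κ ((algebraMap R κ).mapMatrix ZR).row := by
    rw [hZ p]
    exact hbli.comp e e.injective
  have hunit : IsUnit ((algebraMap R κ).mapMatrix ZR) :=
    Matrix.linearIndependent_rows_iff_isUnit.mp hZrow
  have hdet : algebraMap R κ ZR.det ≠ 0 := by
    rw [RingHom.map_det]
    exact ((Matrix.isUnit_iff_isUnit_det _).mp hunit).ne_zero
  have hDp : ZR.det ∉ p.asIdeal := by
    intro h; exact hdet (Ideal.algebraMap_residueField_eq_zero.mpr h)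
  refine ⟨PrimeSpectrum.basicOpen ZR.det, ?_, (PrimeSpectrum.basicOpen ZR.det).2, hDp⟩
  intro q hq
  have hDq : ZR.det ∉ q.asIdeal := hq
  have hdetq : ((algebraMap R q.asIdeal.ResidueField).mapMatrix ZR).det ≠ 0 := by
    rw [← RingHom.map_det]
    intro h; exact hDq (Ideal.algebraMap_residueField_eq_zero.mp h)
  have hunitq : IsUnit ((algebraMap R q.asIdeal.ResidueField).mapMatrix ZR) :=
    (Matrix.isUnit_iff_isUnit_det _).mpr (isUnit_iff_ne_zero.mpr hdetq)
  have hcols : LinearIndependent q.asIdeal.ResidueField ((algebraMap R q.asIdeal.ResidueField).mapMatrix ZR).col :=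
    Matrix.linearIndependent_cols_iff_isUnit.mpr hunitq
  -- the projection
  let π : (n → q.asIdeal.ResidueField) →ₗ[q.asIdeal.ResidueField] (κ' → q.asIdeal.ResidueField) := LinearMap.funLeft q.asIdeal.ResidueField q.asIdeal.ResidueField (fun i => b (e i))
  have hfam : LinearIndependent q.asIdeal.ResidueField (fun i' : κ' => red q (f (a i'))) := by
    apply LinearIndependent.of_comp π
    have : (π ∘ fun i' : κ' => red q (f (a i'))) = ((algebraMap R q.asIdeal.ResidueField).mapMatrix ZR).col := by
      ext i' i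
      simp [π, LinearMap.funLeft, Matrix.col, ZR, red]
    rw [this]; exact hcols
  have h1 := finrank_span_eq_card hfam
  have hle : span q.asIdeal.ResidueField (Set.range fun i' : κ' => red q (f (a i'))) ≤ W q f S := by
    apply span_mono
    rintro _ ⟨i', rfl⟩
    exact ⟨(a i' : ι), (a i').2, rfl⟩
  have h2 := Submodule.finrank_mono hle
  show s ≤ rk q f S
  have hp' : s ≤ rk p f S := hp
  unfold rk
  omega

theorem isClosed_rk_le (f : ι → n → R) (S : Finset ι) (t : ℕ) :
    IsClosed {p : PrimeSpectrum R | rk p f S ≤ t} := by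
  have := isOpen_le_rk f S (t + 1)
  rw [← isOpen_compl_iff]
  have heq : {p : PrimeSpectrum R | rk p f S ≤ t}ᶜ = {p : PrimeSpectrum R | t + 1 ≤ rk p f S} := by
    ext p
    simp only [Set.mem_compl_iff, Set.mem_ofPred_eq, not_le]
    exact Nat.lt_iff_add_one_le
  rw [heq]; exact this


/-- ring-level modification -/
def modR (f : ι → n → R) (j₁ : ι) (r : ι → R) : ι → n → R := fun i => f i + r i • f j₁

theorem red_modR (p : PrimeSpectrum R) (f : ι → n → R) (j₁ : ι) (r : ι → R) :
    (fun i => red p (modR f j₁ r i)) =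
      modFam (fun j => red p (f j)) j₁ (fun i => algebraMap R p.asIdeal.ResidueField (r i)) := by
  funext i
  simp [modR, modFam, red_add, red_smul]

theorem W_modR (p : PrimeSpectrum R) (f : ι → n → R) (S : Finset ι) (j₁ : ι) (r : ι → R) :
    W p (modR f j₁ r) (S.erase j₁) =
      span p.asIdeal.ResidueField
        (modFam (fun j => red p (f j)) j₁ (fun i => algebraMap R p.asIdeal.ResidueField (r i)) ''
          (S.erase j₁ : Set ι)) := by
  unfold W
  rw [red_modR]

theorem rk_le_rk_modR_succ (p : PrimeSpectrum R) (f : ι → n → R) (S : Finset ι) (j₁ : ι)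
    (r : ι → R) : rk p f S ≤ rk p (modR f j₁ r) (S.erase j₁) + 1 := by
  unfold rk
  rw [W_modR]
  exact finrank_le_modFam_succ _ S j₁ _

theorem exists_r_multi (f : ι → n → R) (S : Finset ι) (j₁ : ι) (hj₁ : j₁ ∈ S)
    (Λ : Finset (PrimeSpectrum R)) :
    ∃ r : ι → R, ∀ p ∈ Λ, rk p f S ≤ (S.erase j₁).card →
      W p (modR f j₁ r) (S.erase j₁) = W p f S := by
  classical
  induction' hc : Λ.card using Nat.strong_induction_on with N ih generalizing Λ
  rcases Finset.eq_empty_or_nonempty Λ with h0 | hne
  · exact ⟨fun _ => 0, by simp [h0]⟩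
  obtain ⟨p₀, hp₀⟩ := Λ.exists_minimal hne
  have hp₀mem : p₀ ∈ Λ := hp₀.1
  obtain ⟨r, hr⟩ := ih (Λ.erase p₀).card (by
    rw [Finset.card_erase_of_mem hp₀mem]; have := Finset.card_pos.mpr hne; omega) (Λ.erase p₀) rfl
  by_cases hgood : rk p₀ f S ≤ (S.erase j₁).card →
      W p₀ (modR f j₁ r) (S.erase j₁) = W p₀ f S
  · refine ⟨r, fun p hp => ?_⟩
    by_cases hpp : p = p₀
    · subst hpp; exact hgood
    · exact hr p (Finset.mem_erase.mpr ⟨hpp, hp⟩)
  · push Not at hgood
    obtain ⟨hrk, hneW⟩ := hgood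
    -- find s
    have hnotle : ¬ (Λ.erase p₀).inf (fun q => q.asIdeal) ≤ p₀.asIdeal := by
      intro hle
      obtain ⟨q, hq, hqle⟩ := (Ideal.IsPrime.inf_le' p₀.2).mp hle
      have hqΛ : q ∈ Λ := Finset.mem_of_mem_erase hq
      have hqne : q ≠ p₀ := (Finset.mem_erase.mp hq).1
      have h1 : q ≤ p₀ := hqle
      have h2 : p₀ ≤ q := hp₀.2 hqΛ h1
      exact hqne (le_antisymm h1 h2)
    obtain ⟨s, hsmem, hsnot⟩ := SetLike.not_le_iff_exists.mp hnotle
    have hs_q : ∀ q ∈ Λ.erase p₀, s ∈ q.asIdeal := by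
      intro q hq
      exact (Finset.inf_le hq : (Λ.erase p₀).inf (fun q => q.asIdeal) ≤ q.asIdeal) hsmem
    rw [W_modR] at hneW
    unfold rk W at hrk
    obtain ⟨j, hj, hfix⟩ := exists_fix (fun j => red p₀ (f j)) S j₁ hj₁
      (fun i => algebraMap R p₀.asIdeal.ResidueField (r i)) hneW hrk
    have hsne : algebraMap R p₀.asIdeal.ResidueField s ≠ 0 := by
      intro h; exact hsnot (Ideal.algebraMap_residueField_eq_zero.mp h)
    refine ⟨fun i => r i + if i = j then s else 0, fun p hp hrkp => ?_⟩
    by_cases hpp : p = p₀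
    · subst hpp
      have hfun : (fun i => algebraMap R p.asIdeal.ResidueField (r i + if i = j then s else 0)) =
          (fun i => algebraMap R p.asIdeal.ResidueField (r i) +
            if i = j then algebraMap R p.asIdeal.ResidueField s else 0) := by
        funext i
        split_ifs <;> simp
      rw [W_modR, hfun]
      exact hfix _ hsne
    · have hpe : p ∈ Λ.erase p₀ := Finset.mem_erase.mpr ⟨hpp, hp⟩
      have : algebraMap R p.asIdeal.ResidueField s = 0 :=
        Ideal.algebraMap_residueField_eq_zero.mpr (hs_q p hpe)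
      have hfun : (fun i => algebraMap R p.asIdeal.ResidueField (r i + if i = j then s else 0)) =
          (fun i => algebraMap R p.asIdeal.ResidueField (r i)) := by
        funext i
        split_ifs <;> simp [this]
      rw [← hr p hpe hrkp, W_modR, W_modR, hfun]


section Main

variable [IsNoetherianRing R]

/-- the Eisenbud–Evans hypothesis -/
def Hyp (X : PrimeSpectrum R → Prop) (δ : PrimeSpectrum R → ℕ) (f : ι → n → R)
    (S : Finset ι) : Prop :=
  ∀ p, X p → min S.card (δ p + 1) ≤ rk p f S

theorem step (X : PrimeSpectrum R → Prop) (hX : ∀ p q, p ≤ q → X q → X p)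
    (δ : PrimeSpectrum R → ℕ) (hδ : ∀ p q, p < q → δ q < δ p)
    (f : ι → n → R) (S : Finset ι) (j₁ : ι) (hj₁ : j₁ ∈ S) (h : Hyp X δ f S) :
    ∃ r : ι → R, Hyp X δ (modR f j₁ r) (S.erase j₁) := by
  classical
  let Y : ℕ → Set (PrimeSpectrum R) := fun t => {p | rk p f S ≤ t}
  have hYcl : ∀ t, IsClosed (Y t) := fun t => isClosed_rk_le f S t
  let I : ℕ → Ideal R := fun t => PrimeSpectrum.vanishingIdeal (Y t)
  have hzl : ∀ t, PrimeSpectrum.zeroLocus (I t : Set R) = Y t := fun t => by
    rw [PrimeSpectrum.zeroLocus_vanishingIdeal_eq_closure, (hYcl t).closure_eq]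
  let Λs : Set (PrimeSpectrum R) := {p | ∃ t < S.card, p.asIdeal ∈ (I t).minimalPrimes}
  have hfin : Λs.Finite := by
    have : Λs = ⋃ t ∈ Finset.range S.card,
        (PrimeSpectrum.asIdeal) ⁻¹' (I t).minimalPrimes := by
      ext p; simp [Λs]
    rw [this]
    refine Set.Finite.biUnion (Finset.finite_toSet _) (fun t _ => ?_)
    refine Set.Finite.preimage ?_ (Ideal.finite_minimalPrimes_of_isNoetherianRing R (I t))
    intro p _ q _ hpq; exact PrimeSpectrum.ext hpq
  obtain ⟨r, hr⟩ := exists_r_multi f S j₁ hj₁ hfin.toFinset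
  refine ⟨r, fun q hXq => ?_⟩
  have hcard : (S.erase j₁).card = S.card - 1 := Finset.card_erase_of_mem hj₁
  have hSpos : 0 < S.card := Finset.card_pos.mpr ⟨j₁, hj₁⟩
  have hH := h q hXq
  have hdrop := rk_le_rk_modR_succ q f S j₁ r
  by_cases hcase : min (S.card - 1) (δ q + 1) + 1 ≤ rk q f S
  · rw [hcard]; omega
  · push Not at hcase
    have ht1 : rk q f S ≤ S.card - 1 := by omega
    have ht2 : rk q f S = δ q + 1 := by omega
    have hqY : q ∈ Y (rk q f S) := show rk q f S ≤ rk q f S from le_refl _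
    have hIq : I (rk q f S) ≤ q.asIdeal := by
      have : q ∈ PrimeSpectrum.zeroLocus (I (rk q f S) : Set R) := by rw [hzl]; exact hqY
      exact (PrimeSpectrum.mem_zeroLocus _ _).mp this
    obtain ⟨P, hPmin, hPle⟩ := Ideal.exists_minimalPrimes_le hIq
    have hPprime : P.IsPrime := hPmin.1.1
    let p : PrimeSpectrum R := ⟨P, hPprime⟩
    have hpq : p ≤ q := hPle
    have hXp : X p := hX p q hpq hXq
    have hpY : p ∈ Y (rk q f S) := by
      rw [← hzl]; exact (PrimeSpectrum.mem_zeroLocus _ _).mpr hPmin.1.2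
    have hpeq : p = q := by
      by_contra hne
      have hlt : p < q := lt_of_le_of_ne hpq hne
      have h1 := hδ p q hlt
      have hHp := h p hXp
      have h2 : rk p f S ≤ rk q f S := hpY
      omega
    have hqΛ : q ∈ hfin.toFinset := by
      rw [Set.Finite.mem_toFinset]
      have hqP : q.asIdeal = P := by rw [← hpeq]
      exact ⟨rk q f S, by omega, by rw [hqP]; exact hPmin⟩
    have hW := hr q hqΛ (by rw [hcard]; exact ht1)
    have : rk q (modR f j₁ r) (S.erase j₁) = rk q f S := by unfold rk; rw [hW]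
    rw [this, hcard]; omega

theorem exists_basic (X : PrimeSpectrum R → Prop) (hX : ∀ p q, p ≤ q → X q → X p)
    (δ : PrimeSpectrum R → ℕ) (hδ : ∀ p q, p < q → δ q < δ p) :
    ∀ (N : ℕ) (S : Finset ι) (j₀ : ι), j₀ ∈ S → S.card = N → ∀ f : ι → n → R, Hyp X δ f S →
      ∃ c : ι → R, c j₀ = 1 ∧ ∀ p, X p → red p (∑ j ∈ S, c j • f j) ≠ 0 := by
  classical
  intro N
  induction N with
  | zero =>
    intro S j₀ hj₀ hN
    exact absurd hN (Finset.card_pos.mpr ⟨j₀, hj₀⟩).ne'
  | succ N ih =>
    intro S j₀ hj₀ hN f h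
    by_cases hN0 : N = 0
    · subst hN0
      obtain ⟨a, ha⟩ := Finset.card_eq_one.mp hN
      have haj : j₀ = a := by rw [ha] at hj₀; simpa using hj₀
      subst haj
      refine ⟨fun _ => 1, rfl, fun p hp => ?_⟩
      have hrk := h p hp
      rw [ha] at hrk ⊢
      simp only [Finset.sum_singleton, one_smul]
      intro h0
      have hW : W p f {j₀} = ⊥ := by
        unfold W
        simp [h0]
      have : rk p f {j₀} = 0 := by unfold rk; rw [hW]; simp
      simp at hrk
      omega
    · have hcard : 1 < S.card := by omega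
      obtain ⟨j₁, hj₁, hne⟩ := Finset.exists_mem_ne hcard j₀
      obtain ⟨r, hr⟩ := step X hX δ hδ f S j₁ hj₁ h
      have hj₀' : j₀ ∈ S.erase j₁ := Finset.mem_erase.mpr ⟨hne.symm, hj₀⟩
      have hcard' : (S.erase j₁).card = N := by
        rw [Finset.card_erase_of_mem hj₁]; omega
      obtain ⟨c', hc'0, hc'⟩ := ih (S.erase j₁) j₀ hj₀' hcard' (modR f j₁ r) hr
      refine ⟨fun j => if j = j₁ then ∑ i ∈ S.erase j₁, c' i * r i else c' j, ?_, ?_⟩
      · simp [hne.symm, hc'0]
      · intro p hp
        have hsum : ∑ j ∈ S, (if j = j₁ then ∑ i ∈ S.erase j₁, c' i * r i else c' j) • f j =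
            ∑ j ∈ S.erase j₁, c' j • modR f j₁ r j := by
          rw [← Finset.add_sum_erase S _ hj₁]
          simp only [if_true]
          have h1 : ∑ j ∈ S.erase j₁, (if j = j₁ then ∑ i ∈ S.erase j₁, c' i * r i else c' j) • f j
              = ∑ j ∈ S.erase j₁, c' j • f j := by
            apply Finset.sum_congr rfl
            intro j hj
            rw [if_neg (Finset.mem_erase.mp hj).1]
          rw [h1]
          simp only [modR, smul_add, Finset.sum_add_distrib, Finset.sum_smul, smul_smul]
          rw [add_comm]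
        rw [hsum]
        exact hc' p hp

end Main

end Ring

end Groth.Agent.Helper29.BasicElt
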