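import Mathlib
import Groth.Agent.Lib.Helper29.BasicElt

set_option linter.unusedSectionVars false
set_option autoImplicit false

namespace Groth.Agent.Helper29.BasicRel

open Module Submodule BasicElt

universe u

section LA

variable {K V : Type*} [Field K] [AddCommGroup V] [Module K V] [FiniteDimensional K V]

theorem finrank_map_mkQ_add (A B : Submodule K V) :
    finrank K (A.map B.mkQ) + finrank K B = finrank K (A ⊔ B : Submodule K V) := by
  let φ : (A ⊔ B : Submodule K V) →ₗ[K] V ⧸ B := B.mkQ.comp (A ⊔ B).subtype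
  have h1 := LinearMap.finrank_range_add_finrank_ker φ
  have hrange : LinearMap.range φ = A.map B.mkQ := by
    rw [LinearMap.range_comp, Submodule.range_subtype, Submodule.map_sup]
    simp
  have hker : LinearMap.ker φ = (B.comap (A ⊔ B).subtype) := by
    rw [LinearMap.ker_comp, Submodule.ker_mkQ]
  have e : (B.comap (A ⊔ B).subtype) ≃ₗ[K] B :=
    Submodule.comapSubtypeEquivOfLe (le_sup_right : B ≤ A ⊔ B)
  rw [hrange, hker, e.finrank_eq] at h1
  exact h1

end LA


section Ring

variable {R : Type u} [CommRing R] {n : Type} [Fintype n] [DecidableEq n]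
variable {ι : Type} [DecidableEq ι] {τ : Type} [Fintype τ] [DecidableEq τ]
variable (g : τ → n → R)

/-- the span of the reductions of the relations -/
noncomputable def Wg (p : PrimeSpectrum R) :
    Submodule p.asIdeal.ResidueField (n → p.asIdeal.ResidueField) :=
  W p g Finset.univ

/-- reduction to the fibre of the quotient module -/
noncomputable def redQ (p : PrimeSpectrum R) (v : n → R) :
    (n → p.asIdeal.ResidueField) ⧸ Wg g p :=
  (Wg g p).mkQ (red p v)

theorem redQ_add (p : PrimeSpectrum R) (v w : n → R) :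
    redQ g p (v + w) = redQ g p v + redQ g p w := by
  simp [redQ, red_add]

theorem redQ_smul (p : PrimeSpectrum R) (c : R) (v : n → R) :
    redQ g p (c • v) = algebraMap R p.asIdeal.ResidueField c • redQ g p v := by
  simp [redQ, red_smul]

theorem redQ_sum (p : PrimeSpectrum R) (S : Finset ι) (v : ι → n → R) :
    redQ g p (∑ j ∈ S, v j) = ∑ j ∈ S, redQ g p (v j) := by
  classical
  induction S using Finset.induction_on with
  | empty =>
    have h0 : red p (0 : n → R) = 0 := by ext l; simp [red]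
    simp [redQ, h0]
  | insert a S ha ih => rw [Finset.sum_insert ha, Finset.sum_insert ha, redQ_add, ih]

/-- span of the reductions in the quotient -/
noncomputable def WQ (p : PrimeSpectrum R) (f : ι → n → R) (S : Finset ι) :
    Submodule p.asIdeal.ResidueField ((n → p.asIdeal.ResidueField) ⧸ Wg g p) :=
  span p.asIdeal.ResidueField ((fun j => redQ g p (f j)) '' (S : Set ι))

/-- relative rank -/
noncomputable def rkQ (p : PrimeSpectrum R) (f : ι → n → R) (S : Finset ι) : ℕ :=
  finrank p.asIdeal.ResidueField (WQ g p f S)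

theorem WQ_eq_map (p : PrimeSpectrum R) (f : ι → n → R) (S : Finset ι) :
    WQ g p f S = (W p f S).map (Wg g p).mkQ := by
  unfold WQ W
  rw [Submodule.map_span, ← Set.image_comp]
  rfl

theorem W_sumElim (p : PrimeSpectrum R) (f : ι → n → R) (S : Finset ι) :
    W p (Sum.elim f g) (S.disjSum Finset.univ) = W p f S ⊔ Wg g p := by
  unfold Wg W
  rw [← Submodule.span_union]
  congr 1
  ext x
  simp only [Set.mem_image, Finset.mem_coe, Finset.mem_disjSum, Set.mem_union, Finset.mem_univ,
    true_and]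
  constructor
  · rintro ⟨j, hj, rfl⟩
    rcases hj with ⟨a, ha, rfl⟩ | ⟨b, rfl⟩
    · left; exact ⟨a, ha, rfl⟩
    · right; exact ⟨b, rfl⟩
  · rintro (⟨a, ha, rfl⟩ | ⟨b, rfl⟩)
    · exact ⟨Sum.inl a, Or.inl ⟨a, ha, rfl⟩, rfl⟩
    · exact ⟨Sum.inr b, Or.inr ⟨b, rfl⟩, rfl⟩

theorem rkQ_add (p : PrimeSpectrum R) (f : ι → n → R) (S : Finset ι) :
    rkQ g p f S + rk p g Finset.univ = rk p (Sum.elim f g) (S.disjSum Finset.univ) := by
  unfold rkQ rk
  rw [WQ_eq_map, W_sumElim]
  exact finrank_map_mkQ_add (W p f S) (Wg g p)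

theorem redQ_modR (p : PrimeSpectrum R) (f : ι → n → R) (j₁ : ι) (r : ι → R) :
    (fun i => redQ g p (modR f j₁ r i)) =
      modFam (fun j => redQ g p (f j)) j₁
        (fun i => algebraMap R p.asIdeal.ResidueField (r i)) := by
  funext i
  simp [modR, modFam, redQ_add, redQ_smul]

theorem WQ_modR (p : PrimeSpectrum R) (f : ι → n → R) (S : Finset ι) (j₁ : ι) (r : ι → R) :
    WQ g p (modR f j₁ r) (S.erase j₁) =
      span p.asIdeal.ResidueField
        (modFam (fun j => redQ g p (f j)) j₁
          (fun i => algebraMap R p.asIdeal.ResidueField (r i)) '' (S.erase j₁ : Set ι)) := by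
  unfold WQ
  rw [redQ_modR]

theorem rkQ_le_rkQ_modR_succ (p : PrimeSpectrum R) (f : ι → n → R) (S : Finset ι) (j₁ : ι)
    (r : ι → R) : rkQ g p f S ≤ rkQ g p (modR f j₁ r) (S.erase j₁) + 1 := by
  unfold rkQ
  rw [WQ_modR]
  exact finrank_le_modFam_succ _ S j₁ _


theorem exists_r_multi (f : ι → n → R) (S : Finset ι) (j₁ : ι) (hj₁ : j₁ ∈ S)
    (Λ : Finset (PrimeSpectrum R)) :
    ∃ r : ι → R, ∀ p ∈ Λ, rkQ g p f S ≤ (S.erase j₁).card →
      WQ g p (modR f j₁ r) (S.erase j₁) = WQ g p f S := by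
  classical
  induction' hc : Λ.card using Nat.strong_induction_on with N ih generalizing Λ
  rcases Finset.eq_empty_or_nonempty Λ with h0 | hne
  · exact ⟨fun _ => 0, by simp [h0]⟩
  obtain ⟨p₀, hp₀⟩ := Λ.exists_minimal hne
  have hp₀mem : p₀ ∈ Λ := hp₀.1
  obtain ⟨r, hr⟩ := ih (Λ.erase p₀).card (by
    rw [Finset.card_erase_of_mem hp₀mem]; have := Finset.card_pos.mpr hne; omega) (Λ.erase p₀) rfl
  by_cases hgood : rkQ g p₀ f S ≤ (S.erase j₁).card →
      WQ g p₀ (modR f j₁ r) (S.erase j₁) = WQ g p₀ f S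
  · refine ⟨r, fun p hp => ?_⟩
    by_cases hpp : p = p₀
    · subst hpp; exact hgood
    · exact hr p (Finset.mem_erase.mpr ⟨hpp, hp⟩)
  · push Not at hgood
    obtain ⟨hrk, hneW⟩ := hgood
    have hnotle : ¬ (Λ.erase p₀).inf (fun q => q.asIdeal) ≤ p₀.asIdeal := by
      intro hle
      obtain ⟨q, hq, hqle⟩ := (Ideal.IsPrime.inf_le' p₀.2).mp hle
      have hqΛ : q ∈ Λ := Finset.mem_of_mem_erase hq
      have hqne : q ≠ p₀ := (Finset.mem_erase.mp hq).1
      have h1 : q ≤ p₀ := hqle
      have h2 : p₀ ≤ q := hp₀.2 hqΛ h1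
      exact hqne (le_antisymm h1 h2)
    obtain ⟨s, hsmem, hsnot⟩ := SetLike.not_le_iff_exists.mp hnotle
    have hs_q : ∀ q ∈ Λ.erase p₀, s ∈ q.asIdeal := by
      intro q hq
      exact (Finset.inf_le hq : (Λ.erase p₀).inf (fun q => q.asIdeal) ≤ q.asIdeal) hsmem
    rw [WQ_modR] at hneW
    unfold rkQ WQ at hrk
    obtain ⟨j, hj, hfix⟩ := exists_fix (fun j => redQ g p₀ (f j)) S j₁ hj₁
      (fun i => algebraMap R p₀.asIdeal.ResidueField (r i)) hneW hrk
    have hsne : algebraMap R p₀.asIdeal.ResidueField s ≠ 0 := by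
      intro h; exact hsnot (Ideal.algebraMap_residueField_eq_zero.mp h)
    refine ⟨fun i => r i + if i = j then s else 0, fun p hp hrkp => ?_⟩
    by_cases hpp : p = p₀
    · subst hpp
      have hfun : (fun i => algebraMap R p.asIdeal.ResidueField (r i + if i = j then s else 0)) =
          (fun i => algebraMap R p.asIdeal.ResidueField (r i) +
            if i = j then algebraMap R p.asIdeal.ResidueField s else 0) := by
        funext i
        split_ifs <;> simp
      rw [WQ_modR, hfun]
      exact hfix _ hsne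
    · have hpe : p ∈ Λ.erase p₀ := Finset.mem_erase.mpr ⟨hpp, hp⟩
      have : algebraMap R p.asIdeal.ResidueField s = 0 :=
        Ideal.algebraMap_residueField_eq_zero.mpr (hs_q p hpe)
      have hfun : (fun i => algebraMap R p.asIdeal.ResidueField (r i + if i = j then s else 0)) =
          (fun i => algebraMap R p.asIdeal.ResidueField (r i)) := by
        funext i
        split_ifs <;> simp [this]
      rw [← hr p hpe hrkp, WQ_modR, WQ_modR, hfun]

section Main

variable [IsNoetherianRing R]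

/-- the relative Eisenbud–Evans hypothesis -/
def Hyp (X : PrimeSpectrum R → Prop) (δ : PrimeSpectrum R → ℕ) (f : ι → n → R)
    (S : Finset ι) : Prop :=
  ∀ p, X p → min S.card (δ p + 1) ≤ rkQ g p f S

theorem step (X : PrimeSpectrum R → Prop) (hX : ∀ p q, p ≤ q → X q → X p)
    (δ : PrimeSpectrum R → ℕ) (hδ : ∀ p q, X q → p < q → δ q < δ p)
    (ρ : ℕ) (hρ : ∀ p, X p → rk p g Finset.univ = ρ)
    (f : ι → n → R) (S : Finset ι) (j₁ : ι) (hj₁ : j₁ ∈ S) (h : Hyp g X δ f S) :
    ∃ r : ι → R, Hyp g X δ (modR f j₁ r) (S.erase j₁) := by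
  classical
  let Y : ℕ → Set (PrimeSpectrum R) :=
    fun t => {p | rk p (Sum.elim f g) (S.disjSum Finset.univ) ≤ t + ρ}
  have hYcl : ∀ t, IsClosed (Y t) := fun t => isClosed_rk_le _ _ (t + ρ)
  have hrel : ∀ p, X p → rkQ g p f S + ρ = rk p (Sum.elim f g) (S.disjSum Finset.univ) := by
    intro p hp
    rw [← hρ p hp]
    exact rkQ_add g p f S
  let I : ℕ → Ideal R := fun t => PrimeSpectrum.vanishingIdeal (Y t)
  have hzl : ∀ t, PrimeSpectrum.zeroLocus (I t : Set R) = Y t := fun t => by
    rw [PrimeSpectrum.zeroLocus_vanishingIdeal_eq_closure, (hYcl t).closure_eq]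
  let Λs : Set (PrimeSpectrum R) := {p | ∃ t < S.card, p.asIdeal ∈ (I t).minimalPrimes}
  have hfin : Λs.Finite := by
    have : Λs = ⋃ t ∈ Finset.range S.card,
        (PrimeSpectrum.asIdeal) ⁻¹' (I t).minimalPrimes := by
      ext p; simp [Λs]
    rw [this]
    refine Set.Finite.biUnion (Finset.finite_toSet _) (fun t _ => ?_)
    refine Set.Finite.preimage ?_ (Ideal.finite_minimalPrimes_of_isNoetherianRing R (I t))
    intro p _ q _ hpq; exact PrimeSpectrum.ext hpq
  obtain ⟨r, hr⟩ := exists_r_multi g f S j₁ hj₁ hfin.toFinset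
  refine ⟨r, fun q hXq => ?_⟩
  have hcard : (S.erase j₁).card = S.card - 1 := Finset.card_erase_of_mem hj₁
  have hSpos : 0 < S.card := Finset.card_pos.mpr ⟨j₁, hj₁⟩
  have hH := h q hXq
  have hdrop := rkQ_le_rkQ_modR_succ g q f S j₁ r
  by_cases hcase : min (S.card - 1) (δ q + 1) + 1 ≤ rkQ g q f S
  · rw [hcard]; omega
  · push Not at hcase
    have ht1 : rkQ g q f S ≤ S.card - 1 := by omega
    have ht2 : rkQ g q f S = δ q + 1 := by omega
    have hqY : q ∈ Y (rkQ g q f S) := by
      show rk q (Sum.elim f g) (S.disjSum Finset.univ) ≤ rkQ g q f S + ρ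
      rw [hrel q hXq]
    have hIq : I (rkQ g q f S) ≤ q.asIdeal := by
      have : q ∈ PrimeSpectrum.zeroLocus (I (rkQ g q f S) : Set R) := by rw [hzl]; exact hqY
      exact (PrimeSpectrum.mem_zeroLocus _ _).mp this
    obtain ⟨P, hPmin, hPle⟩ := Ideal.exists_minimalPrimes_le hIq
    have hPprime : P.IsPrime := hPmin.1.1
    let p : PrimeSpectrum R := ⟨P, hPprime⟩
    have hpq : p ≤ q := hPle
    have hXp : X p := hX p q hpq hXq
    have hpY : p ∈ Y (rkQ g q f S) := by
      rw [← hzl]; exact (PrimeSpectrum.mem_zeroLocus _ _).mpr hPmin.1.2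
    have hpeq : p = q := by
      by_contra hne
      have hlt : p < q := lt_of_le_of_ne hpq hne
      have h1 := hδ p q hXq hlt
      have hHp := h p hXp
      have h2 : rk p (Sum.elim f g) (S.disjSum Finset.univ) ≤ rkQ g q f S + ρ := hpY
      rw [← hrel p hXp] at h2
      omega
    have hqΛ : q ∈ hfin.toFinset := by
      rw [Set.Finite.mem_toFinset]
      have hqP : q.asIdeal = P := by rw [← hpeq]
      exact ⟨rkQ g q f S, by omega, by rw [hqP]; exact hPmin⟩
    have hW := hr q hqΛ (by rw [hcard]; exact ht1)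
    have : rkQ g q (modR f j₁ r) (S.erase j₁) = rkQ g q f S := by unfold rkQ; rw [hW]
    rw [this, hcard]; omega

theorem exists_basic (X : PrimeSpectrum R → Prop) (hX : ∀ p q, p ≤ q → X q → X p)
    (δ : PrimeSpectrum R → ℕ) (hδ : ∀ p q, X q → p < q → δ q < δ p)
    (ρ : ℕ) (hρ : ∀ p, X p → rk p g Finset.univ = ρ) :
    ∀ (N : ℕ) (S : Finset ι) (j₀ : ι), j₀ ∈ S → S.card = N → ∀ f : ι → n → R, Hyp g X δ f S →
      ∃ c : ι → R, c j₀ = 1 ∧ ∀ p, X p → redQ g p (∑ j ∈ S, c j • f j) ≠ 0 := by
  classical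
  intro N
  induction N with
  | zero =>
    intro S j₀ hj₀ hN
    exact absurd hN (Finset.card_pos.mpr ⟨j₀, hj₀⟩).ne'
  | succ N ih =>
    intro S j₀ hj₀ hN f h
    by_cases hN0 : N = 0
    · subst hN0
      obtain ⟨a, ha⟩ := Finset.card_eq_one.mp hN
      have haj : j₀ = a := by rw [ha] at hj₀; simpa using hj₀
      subst haj
      refine ⟨fun _ => 1, rfl, fun p hp => ?_⟩
      have hrk := h p hp
      rw [ha] at hrk ⊢
      simp only [Finset.sum_singleton, one_smul]
      intro h0
      have hW : WQ g p f {j₀} = ⊥ := by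
        unfold WQ
        simp [h0]
      have : rkQ g p f {j₀} = 0 := by unfold rkQ; rw [hW]; simp
      simp at hrk
      omega
    · have hcard : 1 < S.card := by omega
      obtain ⟨j₁, hj₁, hne⟩ := Finset.exists_mem_ne hcard j₀
      obtain ⟨r, hr⟩ := step g X hX δ hδ ρ hρ f S j₁ hj₁ h
      have hj₀' : j₀ ∈ S.erase j₁ := Finset.mem_erase.mpr ⟨hne.symm, hj₀⟩
      have hcard' : (S.erase j₁).card = N := by
        rw [Finset.card_erase_of_mem hj₁]; omega
      obtain ⟨c', hc'0, hc'⟩ := ih (S.erase j₁) j₀ hj₀' hcard' (modR f j₁ r) hr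
      refine ⟨fun j => if j = j₁ then ∑ i ∈ S.erase j₁, c' i * r i else c' j, ?_, ?_⟩
      · simp [hne.symm, hc'0]
      · intro p hp
        have hsum : ∑ j ∈ S, (if j = j₁ then ∑ i ∈ S.erase j₁, c' i * r i else c' j) • f j =
            ∑ j ∈ S.erase j₁, c' j • modR f j₁ r j := by
          rw [← Finset.add_sum_erase S _ hj₁]
          simp only [if_true]
          have h1 : ∑ j ∈ S.erase j₁, (if j = j₁ then ∑ i ∈ S.erase j₁, c' i * r i else c' j) • f j
              = ∑ j ∈ S.erase j₁, c' j • f j := by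
            apply Finset.sum_congr rfl
            intro j hj
            rw [if_neg (Finset.mem_erase.mp hj).1]
          rw [h1]
          simp only [modR, smul_add, Finset.sum_add_distrib, Finset.sum_smul, smul_smul]
          rw [add_comm]
        rw [hsum]
        exact hc' p hp

end Main

end Ring

end Groth.Agent.Helper29.BasicRel
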