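import Mathlib

set_option autoImplicit false

namespace Groth.Agent.Helper29.BassA

open IsLocalRing

universe u v

section local_lemma
variable {A : Type u} [CommRing A] [IsLocalRing A] {F : Type v} [AddCommGroup F] [Module A F]
variable {I : Type*}

/-- A direct summand of a free module over a local ring contained in `𝔫 F` is zero. -/
theorem range_eq_bot_of_coords (b : Module.Basis I A F) (π : F →ₗ[A] F)
    (hπ : ∀ v, π (π v) = π v)
    (h : ∀ v, ∀ i, b.repr (π v) i ∈ maximalIdeal A) : LinearMap.range π = ⊥ := by
  classical
  rw [eq_bot_iff]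
  rintro _ ⟨f, rfl⟩
  set v := π f with hv
  have hvv : π v = v := hπ f
  -- content ideal
  set c : Ideal A := Ideal.span ((fun i => b.repr v i) '' ((b.repr v).support : Set I)) with hc
  have hcfg : c.FG := by
    refine ⟨((b.repr v).support).image (fun i => b.repr v i), ?_⟩
    rw [Finset.coe_image]
  have hmem : ∀ i, b.repr v i ∈ c := by
    intro i
    by_cases hi : i ∈ (b.repr v).support
    · exact Ideal.subset_span ⟨i, hi, rfl⟩
    · rw [Finsupp.notMem_support_iff.mp hi]; exact c.zero_mem
  have hle : c ≤ maximalIdeal A • c := by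
    rw [hc, Ideal.span_le]
    rintro _ ⟨l, _, rfl⟩
    show b.repr v l ∈ maximalIdeal A • c
    have h1 : v = ∑ i ∈ (b.repr v).support, b.repr v i • b i := by
      conv_lhs => rw [← b.linearCombination_repr v]
      rw [Finsupp.linearCombination_apply, Finsupp.sum]
    have h2 : b.repr v l = ∑ i ∈ (b.repr v).support, b.repr v i * b.repr (π (b i)) l := by
      conv_lhs => rw [← hvv, h1]
      rw [map_sum, map_sum, Finsupp.finsetSum_apply]
      refine Finset.sum_congr rfl ?_
      intro i _
      rw [map_smul, map_smul, Finsupp.smul_apply, smul_eq_mul]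
    rw [h2]
    refine Submodule.sum_mem _ ?_
    intro i _
    rw [mul_comm]
    exact Submodule.smul_mem_smul (h (b i) l) (hmem i)
  have hc0 : c = ⊥ := Submodule.eq_bot_of_le_smul_of_le_jacobson_bot (maximalIdeal A) c hcfg hle
    (IsLocalRing.maximalIdeal_le_jacobson ⊥)
  rw [Submodule.mem_bot]
  apply b.repr.injective
  ext i
  have := hmem i
  rw [hc0, Submodule.mem_bot] at this
  rw [this]; simp

omit [IsLocalRing A] in
/-- expansion of coordinates of `π v` -/
theorem repr_pi (b : Module.Basis I A F) (π : F →ₗ[A] F) (v : F) (l : I) :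
    b.repr (π v) l = ∑ i ∈ (b.repr v).support, b.repr v i * b.repr (π (b i)) l := by
  classical
  have h1 : v = ∑ i ∈ (b.repr v).support, b.repr v i • b i := by
    conv_lhs => rw [← b.linearCombination_repr v]
    rw [Finsupp.linearCombination_apply, Finsupp.sum]
  conv_lhs => rw [h1]
  rw [map_sum, map_sum, Finsupp.finsetSum_apply]
  refine Finset.sum_congr rfl ?_
  intro i _
  rw [map_smul, map_smul, Finsupp.smul_apply, smul_eq_mul]

theorem good_basis_case (b : Module.Basis I A F) (π : F →ₗ[A] F) (hπ : ∀ v, π (π v) = π v)
    (x : F) (hx : π x = x) (hnfg : ¬ (LinearMap.range π).FG)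
    (hgood : ∀ i0 ∈ (b.repr x).support,
      b.repr x i0 ∉ Ideal.span ((fun i => b.repr x i) '' (((b.repr x).support : Set I) \ {i0}))) :
    ∃ Ψ : F →ₗ[A] A, Ψ x = 0 ∧ ∃ p ∈ LinearMap.range π, IsUnit (Ψ p) := by
  classical
  set S := (b.repr x).support with hS
  set a : I → A := fun i => b.repr x i with ha
  let B : Matrix S S A := fun i l => b.repr (π (b i)) l
  -- Step 1
  have h1 : ∀ l : I, a l = ∑ i ∈ S, a i * b.repr (π (b i)) l := by
    intro l
    have := repr_pi b π x l
    rw [hx] at this
    exact this
  -- Step 2
  have h2 : ∀ i l : S, B i l - (1 : Matrix S S A) i l ∈ maximalIdeal A := by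
    intro i0 l
    by_contra hnot
    have hunit : IsUnit (B i0 l - (1 : Matrix S S A) i0 l) := by
      by_contra hnu
      exact hnot ((IsLocalRing.mem_maximalIdeal _).mpr hnu)
    obtain ⟨c, hc⟩ := hunit
    -- sum identity
    have hsum : ∑ i ∈ S, a i * (b.repr (π (b i)) l - if i = (l : I) then 1 else 0) = 0 := by
      simp only [mul_sub, Finset.sum_sub_distrib]
      rw [← h1 (l : I)]
      rw [Finset.sum_eq_single_of_mem (l : I) l.2]
      · simp
      · intro j _ hj
        simp [hj]
    rw [← Finset.add_sum_erase S _ i0.2] at hsum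
    have hterm : b.repr (π (b (i0 : I))) l - (if (i0 : I) = (l : I) then 1 else 0) = (c : A) := by
      rw [hc]
      simp only [B, Matrix.one_apply]
      congr 1
      by_cases h : i0 = l
      · simp [h]
      · have : (i0 : I) ≠ (l : I) := fun h' => h (Subtype.ext h')
        simp [h, this]
    rw [hterm] at hsum
    have hmem : a i0 ∈ Ideal.span ((fun i => b.repr x i) '' ((S : Set I) \ {(i0 : I)})) := by
      have h3 : a i0 = - (↑c⁻¹ : A) * ∑ i ∈ S.erase (i0 : I),
          a i * (b.repr (π (b i)) l - if i = (l : I) then 1 else 0) := by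
        have h4 : a i0 * c = - ∑ i ∈ S.erase (i0 : I),
            a i * (b.repr (π (b i)) l - if i = (l : I) then 1 else 0) :=
          eq_neg_of_add_eq_zero_left hsum
        calc a i0 = a i0 * c * (↑c⁻¹ : A) := by rw [mul_assoc, Units.mul_inv, mul_one]
          _ = _ := by rw [h4]; ring
      rw [h3]
      refine Ideal.mul_mem_left _ _ (Ideal.sum_mem _ ?_)
      intro i hi
      rw [Finset.mem_erase] at hi
      exact Ideal.mul_mem_right _ _ (Ideal.subset_span ⟨i, ⟨hi.2, hi.1⟩, rfl⟩)
    exact hgood i0 i0.2 hmem
  -- Step 3: det B is a unit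
  have hdet : IsUnit B.det := by
    have hmap : (IsLocalRing.residue A).mapMatrix B = 1 := by
      ext i l
      simp only [RingHom.mapMatrix_apply, Matrix.map_apply]
      have := h2 i l
      rw [← IsLocalRing.residue_eq_zero_iff, map_sub, sub_eq_zero] at this
      rw [this]
      simp [Matrix.one_apply]
    have h3 : IsLocalRing.residue A B.det = 1 := by
      rw [RingHom.map_det, hmap, Matrix.det_one]
    by_contra hnu
    have h4 : B.det ∈ maximalIdeal A := (IsLocalRing.mem_maximalIdeal _).mpr hnu
    rw [← IsLocalRing.residue_eq_zero_iff, h3] at h4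
    exact one_ne_zero h4
  have hBB : B * B⁻¹ = 1 := Matrix.mul_nonsing_inv B hdet
  have hBB' : B⁻¹ * B = 1 := Matrix.nonsing_inv_mul B hdet
  -- Step 5: the maps
  let coef : S → F →ₗ[A] A := fun i => ∑ l : S, (B⁻¹ l i) • b.coord (l : I)
  let uu : F →ₗ[A] F := ∑ i : S, (coef i).smulRight (b (i : I))
  let Φ : F →ₗ[A] F := LinearMap.id - π ∘ₗ uu
  have hcoef : ∀ (i : S) (v : F), coef i v = ∑ l : S, b.repr v (l : I) * B⁻¹ l i := by
    intro i v
    simp only [coef, LinearMap.sum_apply, LinearMap.smul_apply, Module.Basis.coord_apply,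
      smul_eq_mul]
    refine Finset.sum_congr rfl ?_
    intro l _
    ring
  have huu : ∀ v, uu v = ∑ i : S, coef i v • b (i : I) := by
    intro v
    simp only [uu, LinearMap.sum_apply, LinearMap.smulRight_apply]
  -- Step 6: uu x = x
  have hux : uu x = x := by
    rw [huu]
    have h5 : ∀ i : S, coef i x = a i := by
      intro i
      rw [hcoef]
      -- a = a B as row vectors over S
      have haB : ∀ l : S, a l = ∑ j : S, a j * B j l := by
        intro l
        rw [h1 (l : I)]
        rw [← Finset.sum_coe_sort S]
      calc ∑ l : S, b.repr x (l : I) * B⁻¹ l i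
          = ∑ l : S, (∑ j : S, a j * B j l) * B⁻¹ l i := by
            refine Finset.sum_congr rfl ?_
            intro l _
            rw [← haB l]
        _ = ∑ j : S, a j * (∑ l : S, B j l * B⁻¹ l i) := by
            simp only [Finset.sum_mul, Finset.mul_sum]
            rw [Finset.sum_comm]
            refine Finset.sum_congr rfl ?_
            intro j _
            refine Finset.sum_congr rfl ?_
            intro l _
            ring
        _ = ∑ j : S, a j * (B * B⁻¹) j i := by
            simp only [Matrix.mul_apply]
        _ = a i := by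
            rw [hBB]
            simp [Matrix.one_apply]
    simp only [h5]
    conv_rhs => rw [← b.linearCombination_repr x]
    rw [Finsupp.linearCombination_apply, Finsupp.sum, ← Finset.sum_coe_sort S]
  -- Step 7
  have h7 : ∀ (v : F) (l : S), b.repr (π (uu v)) (l : I) = b.repr v (l : I) := by
    intro v l
    rw [huu, map_sum, map_sum, Finsupp.finsetSum_apply]
    calc ∑ i : S, b.repr (π (coef i v • b (i : I))) (l : I)
        = ∑ i : S, (∑ m : S, b.repr v (m : I) * B⁻¹ m i) * B i l := by
          refine Finset.sum_congr rfl ?_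
          intro i _
          rw [map_smul, map_smul, Finsupp.smul_apply, smul_eq_mul, hcoef]
      _ = ∑ m : S, b.repr v (m : I) * (∑ i : S, B⁻¹ m i * B i l) := by
          simp only [Finset.sum_mul, Finset.mul_sum]
          rw [Finset.sum_comm]
          refine Finset.sum_congr rfl ?_
          intro m _
          refine Finset.sum_congr rfl ?_
          intro i _
          ring
      _ = ∑ m : S, b.repr v (m : I) * (B⁻¹ * B) m l := by
          simp only [Matrix.mul_apply]
      _ = b.repr v (l : I) := by
          rw [hBB']
          simp [Matrix.one_apply]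
  have hΦS : ∀ (v : F) (l : S), b.repr (Φ v) (l : I) = 0 := by
    intro v l
    simp only [Φ, LinearMap.sub_apply, LinearMap.id_apply, LinearMap.comp_apply, map_sub,
      Finsupp.sub_apply]
    rw [h7, sub_self]
  have h7b : ∀ w : F, (∀ l : S, b.repr w (l : I) = 0) → Φ w = w := by
    intro w hw
    have : uu w = 0 := by
      rw [huu]
      refine Finset.sum_eq_zero ?_
      intro i _
      rw [hcoef]
      simp [hw]
    simp only [Φ, LinearMap.sub_apply, LinearMap.id_apply, LinearMap.comp_apply, this, map_zero,
      sub_zero]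
  have hΦΦ : ∀ v, Φ (Φ v) = Φ v := fun v => h7b (Φ v) (hΦS v)
  have hπΦ : ∀ p, π p = p → π (Φ p) = Φ p := by
    intro p hp
    simp only [Φ, LinearMap.sub_apply, LinearMap.id_apply, LinearMap.comp_apply, map_sub, hπ, hp]
  let π' : F →ₗ[A] F := Φ ∘ₗ π
  have hπ' : ∀ v, π' (π' v) = π' v := by
    intro v
    simp only [π', LinearMap.comp_apply]
    rw [hπΦ (π v) (hπ v), hΦΦ]
  have hex : ∃ f j, b.repr (π' f) j ∉ maximalIdeal A := by
    by_contra hno
    push Not at hno
    have hbot := range_eq_bot_of_coords b π' hπ' hno
    apply hnfg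
    have hle : LinearMap.range π ≤ Submodule.map π (Submodule.span A (b '' (S : Set I))) := by
      rintro _ ⟨f, rfl⟩
      have h0 : π' f = 0 := by
        have : π' f ∈ LinearMap.range π' := ⟨f, rfl⟩
        rw [hbot] at this
        exact this
      have h8 : π f = π (uu (π f)) := by
        have : Φ (π f) = 0 := h0
        simp only [Φ, LinearMap.sub_apply, LinearMap.id_apply, LinearMap.comp_apply] at this
        exact sub_eq_zero.mp this
      rw [h8]
      refine ⟨uu (π f), ?_, rfl⟩
      rw [huu]
      refine Submodule.sum_mem _ ?_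
      intro i _
      exact Submodule.smul_mem _ _ (Submodule.subset_span ⟨i, i.2, rfl⟩)
    have heq : LinearMap.range π = Submodule.map π (Submodule.span A (b '' (S : Set I))) :=
      le_antisymm hle (LinearMap.map_le_range)
    rw [heq]
    refine Submodule.FG.map _ ?_
    exact Submodule.fg_span ((S.finite_toSet).image _)
  obtain ⟨f, j, hj⟩ := hex
  refine ⟨b.coord j ∘ₗ Φ, ?_, π' f, ?_, ?_⟩
  · simp only [LinearMap.comp_apply, Φ, LinearMap.sub_apply, LinearMap.id_apply, hux, hx, sub_self,
      map_zero]
  · exact ⟨Φ (π f), by rw [hπΦ (π f) (hπ f)]; rfl⟩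
  · simp only [LinearMap.comp_apply, π']
    rw [hΦΦ]
    by_contra hnu
    exact hj ((IsLocalRing.mem_maximalIdeal _).mpr hnu)

theorem kap_local (b : Module.Basis I A F) (π : F →ₗ[A] F) (hπ : ∀ v, π (π v) = π v)
    (x : F) (hx : π x = x) (hnfg : ¬ (LinearMap.range π).FG) :
    ∃ Ψ : F →ₗ[A] A, Ψ x = 0 ∧ ∃ p ∈ LinearMap.range π, IsUnit (Ψ p) := by
  classical
  induction' hn : (b.repr x).support.card using Nat.strong_induction_on with n ih generalizing b
  by_cases hgood : ∀ i0 ∈ (b.repr x).support, b.repr x i0 ∉
      Ideal.span ((fun i => b.repr x i) '' (((b.repr x).support : Set I) \ {i0}))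
  · exact good_basis_case b π hπ x hx hnfg hgood
  · push Not at hgood
    obtain ⟨i0, hi0, hmem⟩ := hgood
    set S := (b.repr x).support with hS
    obtain ⟨l, hl, hlsum⟩ := (Finsupp.mem_span_image_iff_linearCombination A).mp hmem
    have hlsupp : l.support ⊆ S.erase i0 := by
      intro i hi
      have := hl hi
      rw [Finset.mem_erase]
      exact ⟨this.2, this.1⟩
    have hc : b.repr x i0 = ∑ i ∈ S.erase i0, l i * b.repr x i := by
      rw [← hlsum, Finsupp.linearCombination_apply, Finsupp.sum]
      refine Finset.sum_subset hlsupp ?_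
      intro i _ hi
      rw [Finsupp.notMem_support_iff.mp hi]; simp
    let g : F →ₗ[A] A := ∑ i ∈ S.erase i0, l i • b.coord i
    let ν : F →ₗ[A] F := g.smulRight (b i0)
    have hgb : ∀ j, g (b j) = if j ∈ S.erase i0 then l j else 0 := by
      intro j
      simp only [g, LinearMap.sum_apply, LinearMap.smul_apply, Module.Basis.coord_apply,
        Module.Basis.repr_self, smul_eq_mul]
      split_ifs with hj
      · rw [Finset.sum_eq_single_of_mem j hj]
        · simp
        · intro i _ hij
          simp [Finsupp.single_apply, hij.symm]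
      · refine Finset.sum_eq_zero ?_
        intro i hi
        have : j ≠ i := fun h => hj (h ▸ hi)
        simp [Finsupp.single_apply, this]
    have hg0 : g (b i0) = 0 := by
      rw [hgb]; simp
    have hνν : ∀ v, ν (ν v) = 0 := by
      intro v
      simp only [ν, LinearMap.smulRight_apply, map_smul, hg0, smul_zero, zero_smul]
    let τ : F ≃ₗ[A] F := LinearEquiv.ofLinear (LinearMap.id + ν) (LinearMap.id - ν)
      (by
        ext v
        simp only [LinearMap.comp_apply, LinearMap.add_apply, LinearMap.sub_apply,
          LinearMap.id_apply, map_sub, hνν]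
        abel)
      (by
        ext v
        simp only [LinearMap.comp_apply, LinearMap.add_apply, LinearMap.sub_apply,
          LinearMap.id_apply, map_add, hνν]
        abel)
    let b' : Module.Basis I A F := b.map τ
    have hb' : ∀ i ∈ S.erase i0, b' i = b i + l i • b i0 := by
      intro i hi
      simp only [b', Module.Basis.map_apply, τ, LinearEquiv.ofLinear_apply, LinearMap.add_apply,
        LinearMap.id_apply, ν, LinearMap.smulRight_apply, hgb, if_pos hi]
    have hx' : x = ∑ i ∈ S.erase i0, b.repr x i • b' i := by
      have h1 : x = ∑ i ∈ S, b.repr x i • b i := by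
        conv_lhs => rw [← b.linearCombination_repr x]
        rw [Finsupp.linearCombination_apply, Finsupp.sum]
      conv_lhs => rw [h1]
      rw [← Finset.add_sum_erase S _ hi0, hc, Finset.sum_smul, ← Finset.sum_add_distrib]
      refine Finset.sum_congr rfl ?_
      intro i hi
      rw [hb' i hi, smul_add, smul_smul, add_comm, mul_comm]
    have hsupp : (b'.repr x).support ⊆ S.erase i0 := by
      conv_lhs => rw [hx']
      rw [map_sum]
      refine (Finsupp.support_finset_sum).trans ?_
      intro j hj
      rw [Finset.mem_biUnion] at hj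
      obtain ⟨i, hi, hji⟩ := hj
      rw [map_smul, Module.Basis.repr_self] at hji
      have := Finsupp.support_smul hji
      rw [Finsupp.support_single_ne_zero _ one_ne_zero, Finset.mem_singleton] at this
      rw [this]; exact hi
    have hcard : (b'.repr x).support.card < n := by
      calc (b'.repr x).support.card ≤ (S.erase i0).card := Finset.card_le_card hsupp
        _ < S.card := Finset.card_erase_lt_of_mem hi0
        _ = n := hn
    exact ih _ hcard b' rfl

end local_lemma

end Groth.Agent.Helper29.BassA
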