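import Mathlib
import Groth.Agent.Lib.Helper29.BassA

set_option autoImplicit false

namespace Groth.Agent.Helper29.BassB

universe u v

/-- Kaplansky-type lemma for an abstract projective module over a local ring. -/
theorem kap_proj {A : Type u} [CommRing A] [IsLocalRing A] {P : Type v} [AddCommGroup P]
    [Module A P] [Module.Projective A P] (hP : ¬ Module.Finite A P) (x : P) :
    ∃ Ψ : P →ₗ[A] A, Ψ x = 0 ∧ ∃ p : P, IsUnit (Ψ p) := by
  classical
  obtain ⟨s, hs⟩ := Module.projective_def'.mp ‹Module.Projective A P›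
  let lc := Finsupp.linearCombination A (id : P → P)
  have hls : ∀ p, lc (s p) = p := fun p => LinearMap.congr_fun hs p
  let π : (P →₀ A) →ₗ[A] (P →₀ A) := s ∘ₗ lc
  have hπ : ∀ v, π (π v) = π v := by
    intro v
    simp only [π, LinearMap.comp_apply, hls]
  have hnfg : ¬ (LinearMap.range π).FG := by
    intro hfg
    apply hP
    have h1 : (⊤ : Submodule A P) = Submodule.map lc (LinearMap.range π) := by
      ext p
      simp only [Submodule.mem_top, Submodule.mem_map, LinearMap.mem_range, true_iff]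
      exact ⟨s p, ⟨s p, by simp only [π, LinearMap.comp_apply, hls]⟩, hls p⟩
    rw [Module.finite_def, h1]
    exact hfg.map lc
  have hx : π (s x) = s x := by simp only [π, LinearMap.comp_apply, hls]
  obtain ⟨Ψ, hΨx, p, ⟨f, rfl⟩, hu⟩ :=
    BassA.kap_local (Finsupp.basisSingleOne) π hπ (s x) hx hnfg
  exact ⟨Ψ ∘ₗ s, hΨx, lc f, hu⟩

/-- Global form: a functional killing `x` but not vanishing modulo `m`. -/
theorem global_KL {R : Type u} [CommRing R] {P : Type v} [AddCommGroup P] [Module R P]
    [Module.Projective R P] (m : Ideal R) [m.IsPrime]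
    (hm : ¬ Module.Finite (Localization.AtPrime m) (LocalizedModule m.primeCompl P)) (x : P) :
    ∃ ψ : P →ₗ[R] R, ψ x = 0 ∧ ∃ p : P, ψ p ∉ m := by
  classical
  let A := Localization.AtPrime m
  let PA := LocalizedModule m.primeCompl P
  let ℓ : P →ₗ[R] PA := LocalizedModule.mkLinearMap m.primeCompl P
  obtain ⟨Ψ, hΨx, p', hu'⟩ := kap_proj (A := A) (P := PA) hm (ℓ x)
  obtain ⟨⟨p0, t0⟩, ht0⟩ := IsLocalizedModule.surj m.primeCompl ℓ p'
  let θ : P →ₗ[R] A := (Ψ.restrictScalars R) ∘ₗ ℓ
  have hθx : θ x = 0 := hΨx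
  have hθp : IsUnit (θ p0) := by
    have h1 : θ p0 = algebraMap R A (t0 : R) * Ψ p' := by
      show Ψ (ℓ p0) = _
      rw [← ht0]
      show Ψ ((t0 : R) • p') = _
      rw [← algebraMap_smul A (t0 : R) p', map_smul, smul_eq_mul]
    rw [h1]
    exact (IsLocalization.map_units A t0).mul hu'
  obtain ⟨s, hs⟩ := Module.projective_def'.mp ‹Module.Projective R P›
  have hls : ∀ p, Finsupp.linearCombination R (id : P → P) (s p) = p :=
    fun p => LinearMap.congr_fun hs p
  have hθv : ∀ v : P, θ v = ∑ l ∈ (s v).support, (s v) l • θ l := by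
    intro v
    conv_lhs => rw [← hls v]
    rw [Finsupp.linearCombination_apply, Finsupp.sum, map_sum]
    refine Finset.sum_congr rfl ?_
    intro l _
    rw [map_smul]; rfl
  let T : Finset P := (s x).support ∪ (s p0).support
  obtain ⟨t, ht⟩ := IsLocalization.exist_integer_multiples m.primeCompl T (fun l => θ l)
  choose! r hr using ht
  let ψ0 : P →ₗ[R] R := ∑ l ∈ T, r l • (Finsupp.lapply l ∘ₗ s)
  have hψ0 : ∀ v : P, (s v).support ⊆ T → algebraMap R A (ψ0 v) = (t : R) • θ v := by
    intro v hv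
    simp only [ψ0, LinearMap.sum_apply, LinearMap.smul_apply, LinearMap.comp_apply,
      Finsupp.lapply_apply, smul_eq_mul, map_sum, map_mul]
    rw [hθv v, Finset.smul_sum]
    have hsub : ∑ l ∈ (s v).support, (t : R) • ((s v) l • θ l) =
        ∑ l ∈ T, (t : R) • ((s v) l • θ l) := by
      refine Finset.sum_subset hv ?_
      intro l _ hl
      rw [Finsupp.notMem_support_iff.mp hl, zero_smul, smul_zero]
    rw [hsub]
    refine Finset.sum_congr rfl ?_
    intro l hl
    rw [hr l hl, Algebra.smul_def ((s v) l), Algebra.smul_def, Algebra.smul_def]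
    ring
  have h0 : algebraMap R A (ψ0 x) = 0 := by
    rw [hψ0 x Finset.subset_union_left, hθx, smul_zero]
  obtain ⟨t', ht'⟩ := (IsLocalization.map_eq_zero_iff m.primeCompl A (ψ0 x)).mp h0
  refine ⟨(t' : R) • ψ0, ?_, p0, ?_⟩
  · rw [LinearMap.smul_apply, smul_eq_mul]; exact ht'
  · rw [LinearMap.smul_apply, smul_eq_mul]
    have h1 : IsUnit (algebraMap R A ((t' : R) * ψ0 p0)) := by
      rw [map_mul, hψ0 p0 Finset.subset_union_right, Algebra.smul_def]
      exact (IsLocalization.map_units A t').mul ((IsLocalization.map_units A t).mul hθp)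
    exact (IsLocalization.AtPrime.isUnit_to_map_iff A m _).mp h1

end Groth.Agent.Helper29.BassB
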