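import Mathlib
import Groth.Agent.Lib.Helper29.BassB

set_option autoImplicit false

namespace Groth.Agent.Helper29.BassC

universe u v

section
variable {R : Type u} [CommRing R] {P : Type v} [AddCommGroup P] [Module R P]

variable (R) in
/-- the order ideal of `x` -/
def ord (x : P) : Ideal R := LinearMap.range (LinearMap.applyₗ (R := R) (M₂ := R) x)

theorem mem_ord {x : P} {r : R} : r ∈ ord R x ↔ ∃ φ : P →ₗ[R] R, φ x = r := by
  simp only [ord, LinearMap.mem_range, LinearMap.applyₗ_apply_apply]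

theorem apply_mem_ord (x : P) (φ : P →ₗ[R] R) : φ x ∈ ord R x := mem_ord.mpr ⟨φ, rfl⟩

variable [Module.Projective R P]

theorem step (hP : ∀ (m : Ideal R) [m.IsMaximal],
      ¬ Module.Finite (Localization.AtPrime m) (LocalizedModule m.primeCompl P))
    (x : P) (M : Submodule R P) (hM : Submodule.span R {x} ⊔ M = ⊤)
    (hx : ord R x ≠ ⊤) :
    ∃ y ∈ M, ∃ b : R, (ord R x).jacobson < (ord R (x + b • y)).jacobson := by
  obtain ⟨m, hmax, hle⟩ := Ideal.exists_le_maximal _ hx
  obtain ⟨ψ, hψx, p, hp⟩ := BassB.global_KL m (hP m) x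
  have hpm : p ∈ Submodule.span R {x} ⊔ M := by rw [hM]; trivial
  obtain ⟨z, hz, y, hy, rfl⟩ := Submodule.mem_sup.mp hpm
  obtain ⟨c, rfl⟩ := Submodule.mem_span_singleton.mp hz
  have hb : ψ y ∉ m := by
    have : ψ (c • x + y) = ψ y := by rw [map_add, map_smul, hψx, smul_zero, zero_add]
    rwa [this] at hp
  refine ⟨y, hy, ψ y, ?_⟩
  set b := ψ y with hbdef
  set x' := x + b • y with hx'
  have hψx' : ψ x' = b * b := by
    rw [hx', map_add, map_smul, hψx, zero_add, smul_eq_mul]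
  have hbb : b * b ∈ ord R x' := by rw [← hψx']; exact apply_mem_ord x' ψ
  refine lt_of_le_of_ne ?_ ?_
  · -- monotone
    rw [Ideal.jacobson, Ideal.jacobson]
    refine sInf_le_sInf ?_
    rintro m' ⟨hm'le, hm'max⟩
    refine ⟨?_, hm'max⟩
    intro r hr
    obtain ⟨φ, rfl⟩ := mem_ord.mp hr
    have hbm' : b ∈ m' := by
      have := hm'le hbb
      rcases hm'max.isPrime.mem_or_mem this with h | h <;> exact h
    have h1 : φ x = φ x' - b * φ y := by
      rw [hx', map_add, map_smul, smul_eq_mul]; ring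
    rw [h1]
    exact m'.sub_mem (hm'le (apply_mem_ord x' φ)) (m'.mul_mem_right _ hbm')
  · intro heq
    have h1 : (ord R x).jacobson ≤ m := by
      rw [Ideal.jacobson]
      exact sInf_le ⟨hle, hmax⟩
    have h2 : b * b ∈ m := h1 (heq ▸ Ideal.le_jacobson hbb)
    rcases hmax.isPrime.mem_or_mem h2 with h | h <;> exact hb h

theorem main110 [IsNoetherianRing (R ⧸ (⊥ : Ideal R).jacobson)]
    (hP : ∀ (m : Ideal R) [m.IsMaximal],
      ¬ Module.Finite (Localization.AtPrime m) (LocalizedModule m.primeCompl P))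
    (s : P) (M : Submodule R P) (hM : Submodule.span R {s} ⊔ M = ⊤) :
    ∃ m ∈ M, ∃ φ : P →ₗ[R] R, φ (s + m) = 1 := by
  set J := (⊥ : Ideal R).jacobson with hJ
  let mk := Ideal.Quotient.mk J
  let 𝒮 : Set (Ideal (R ⧸ J)) :=
    {K | ∃ m ∈ M, K = ((ord R (s + m)).jacobson).map mk}
  have hne : 𝒮.Nonempty := ⟨_, 0, M.zero_mem, rfl⟩
  obtain ⟨K0, ⟨m0, hm0, rfl⟩, hmax⟩ :=
    (set_has_maximal_iff_noetherian (R := R ⧸ J) (M := R ⧸ J)).mpr inferInstance 𝒮 hne
  set x0 := s + m0 with hx0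
  by_cases htop : ord R x0 = ⊤
  · have : (1 : R) ∈ ord R x0 := by rw [htop]; trivial
    obtain ⟨φ, hφ⟩ := mem_ord.mp this
    exact ⟨m0, hm0, φ, hφ⟩
  · exfalso
    have hM0 : Submodule.span R {x0} ⊔ M = ⊤ := by
      rw [eq_top_iff, ← hM]
      refine sup_le ?_ le_sup_right
      rw [Submodule.span_singleton_le_iff_mem]
      have : s = x0 - m0 := by rw [hx0]; abel
      rw [this]
      exact Submodule.sub_mem _ (Submodule.mem_sup_left (Submodule.mem_span_singleton_self x0))
        (Submodule.mem_sup_right hm0)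
    obtain ⟨y, hy, b, hlt⟩ := step hP x0 M hM0 htop
    have hmem : ((ord R (s + (m0 + b • y))).jacobson).map mk ∈ 𝒮 :=
      ⟨m0 + b • y, M.add_mem hm0 (M.smul_mem b hy), rfl⟩
    apply hmax _ hmem
    have hxx : s + (m0 + b • y) = x0 + b • y := by rw [hx0]; abel
    rw [hxx]
    refine lt_of_le_of_ne (Ideal.map_mono hlt.le) ?_
    intro heq
    have h1 := congrArg (Ideal.comap mk) heq
    rw [Ideal.comap_map_of_surjective mk Ideal.Quotient.mk_surjective,
      Ideal.comap_map_of_surjective mk Ideal.Quotient.mk_surjective] at h1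
    have hker : Ideal.comap mk ⊥ = J := by
      rw [← RingHom.ker_eq_comap_bot, Ideal.mk_ker]
    rw [hker] at h1
    have hJ1 : J ≤ (ord R x0).jacobson := Ideal.jacobson_mono bot_le
    have hJ2 : J ≤ (ord R (x0 + b • y)).jacobson := Ideal.jacobson_mono bot_le
    rw [sup_eq_left.mpr hJ1, sup_eq_left.mpr hJ2] at h1
    exact hlt.ne h1

end

end Groth.Agent.Helper29.BassC
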