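import Mathlib

set_option autoImplicit false

namespace Groth.Agent.Helper29.BassD

universe u v w

variable {R : Type u} [CommRing R]

/-- locally finitely generated at a prime (elementary form) -/
def LocFG (m : Ideal R) (X : Type v) [AddCommGroup X] [Module R X] : Prop :=
  ∃ N : Submodule R X, N.FG ∧ ∀ x : X, ∃ t : R, t ∉ m ∧ t • x ∈ N

theorem locFG_of_finite (m : Ideal R) [m.IsPrime] (X : Type v) [AddCommGroup X] [Module R X]
    (h : Module.Finite (Localization.AtPrime m) (LocalizedModule m.primeCompl X)) :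
    LocFG m X := by
  classical
  let A := Localization.AtPrime m
  let S := m.primeCompl
  let ℓ : X →ₗ[R] LocalizedModule S X := LocalizedModule.mkLinearMap S X
  obtain ⟨G, hG⟩ := h.fg_top
  have hsurj : ∀ g : LocalizedModule S X, ∃ xt : X × S, xt.2 • g = ℓ xt.1 :=
    fun g => IsLocalizedModule.surj S ℓ g
  choose xt hxt using hsurj
  let X0 : Finset X := G.image (fun g => (xt g).1)
  have hspan : Submodule.span A (ℓ '' (X0 : Set X)) = ⊤ := by
    rw [eq_top_iff, ← hG, Submodule.span_le]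
    intro g hg
    have h1 : ℓ (xt g).1 ∈ Submodule.span A (ℓ '' (X0 : Set X)) :=
      Submodule.subset_span ⟨(xt g).1, Finset.mem_coe.mpr (Finset.mem_image_of_mem _ hg), rfl⟩
    rw [← hxt g, Submonoid.smul_def, ← algebraMap_smul A ((xt g).2 : R) g] at h1
    have hu : IsUnit (algebraMap R A ((xt g).2 : R)) := IsLocalization.map_units A (xt g).2
    obtain ⟨c, hc⟩ := hu
    rw [← hc] at h1
    have h2 := Submodule.smul_mem _ (↑c⁻¹ : A) h1
    rwa [smul_smul, Units.inv_mul, one_smul] at h2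
  refine ⟨Submodule.span R (X0 : Set X), Submodule.fg_span X0.finite_toSet, ?_⟩
  intro x
  have hx : ℓ x ∈ Submodule.span A (ℓ '' (X0 : Set X)) := by rw [hspan]; trivial
  obtain ⟨t, ht⟩ := multiple_mem_span_of_mem_localization_span S A (ℓ '' (X0 : Set X)) (ℓ x) hx
  rw [← Submodule.map_span] at ht
  obtain ⟨n, hn, hnt⟩ := ht
  have h3 : ℓ ((t : R) • x - n) = 0 := by
    rw [map_sub, map_smul, hnt]
    exact sub_self _
  obtain ⟨t', ht'⟩ := (IsLocalizedModule.eq_zero_iff S ℓ).mp h3
  refine ⟨(t' : R) * (t : R), ?_, ?_⟩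
  · exact (S.mul_mem t'.2 t.2)
  · rw [Submonoid.smul_def, smul_sub, sub_eq_zero] at ht'
    rw [mul_smul, ht']
    exact Submodule.smul_mem _ _ hn

theorem finite_of_locFG (m : Ideal R) [m.IsPrime] (X : Type v) [AddCommGroup X] [Module R X]
    (h : LocFG m X) :
    Module.Finite (Localization.AtPrime m) (LocalizedModule m.primeCompl X) := by
  classical
  let A := Localization.AtPrime m
  let S := m.primeCompl
  let ℓ : X →ₗ[R] LocalizedModule S X := LocalizedModule.mkLinearMap S X
  obtain ⟨N, ⟨T, rfl⟩, hN⟩ := h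
  refine ⟨⟨T.image ℓ, ?_⟩⟩
  rw [eq_top_iff]
  intro y _
  obtain ⟨⟨x, u⟩, hxu⟩ := IsLocalizedModule.surj S ℓ y
  obtain ⟨t, htm, ht⟩ := hN x
  have h1 : ℓ (t • x) ∈ Submodule.span A ((T.image ℓ : Finset _) : Set (LocalizedModule S X)) := by
    rw [Finset.coe_image]
    have : ℓ (t • x) ∈ Submodule.map ℓ (Submodule.span R (T : Set X)) := ⟨_, ht, rfl⟩
    rw [Submodule.map_span] at this
    exact Submodule.span_subset_span R A _ this
  rw [map_smul, ← hxu, Submonoid.smul_def, smul_smul, ← algebraMap_smul A (t * (u : R)) y] at h1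
  have hu : IsUnit (algebraMap R A (t * (u : R))) :=
    IsLocalization.map_units A (⟨t * (u : R), S.mul_mem htm u.2⟩ : S)
  obtain ⟨c, hc⟩ := hu
  rw [← hc] at h1
  have h2 := Submodule.smul_mem _ (↑c⁻¹ : A) h1
  rwa [smul_smul, Units.inv_mul, one_smul] at h2

theorem LocFG.of_surjective {m : Ideal R} {X : Type v} {Y : Type w} [AddCommGroup X] [Module R X]
    [AddCommGroup Y] [Module R Y] (f : X →ₗ[R] Y) (hf : Function.Surjective f)
    (h : LocFG m X) : LocFG m Y := by
  obtain ⟨N, hN, hx⟩ := h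
  refine ⟨N.map f, hN.map f, ?_⟩
  intro y
  obtain ⟨x, rfl⟩ := hf y
  obtain ⟨t, htm, ht⟩ := hx x
  exact ⟨t, htm, by rw [← map_smul]; exact ⟨_, ht, rfl⟩⟩

theorem LocFG.of_quotient {m : Ideal R} {X : Type v} [AddCommGroup X] [Module R X]
    (K : Submodule R X) (hK : K.FG) (h : LocFG m (X ⧸ K)) : LocFG m X := by
  obtain ⟨N, hN, hx⟩ := h
  refine ⟨N.comap K.mkQ, ?_, ?_⟩
  · -- comap of fg along surjection with fg kernel
    exact Submodule.fg_of_fg_map_of_fg_inf_ker K.mkQ
      (by rw [Submodule.map_comap_eq_of_surjective (Submodule.mkQ_surjective K)]; exact hN)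
      (by
        rw [Submodule.ker_mkQ]
        have : N.comap K.mkQ ⊓ K = K := by
          rw [inf_eq_right]
          intro k hk
          rw [Submodule.mem_comap, Submodule.mkQ_apply, (Submodule.Quotient.mk_eq_zero K).mpr hk]
          exact N.zero_mem
        rw [this]; exact hK)
  · intro x
    obtain ⟨t, htm, ht⟩ := hx (K.mkQ x)
    exact ⟨t, htm, by rw [Submodule.mem_comap, map_smul]; exact ht⟩

end Groth.Agent.Helper29.BassD
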