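import Mathlib
import Groth.Agent.Lib.Helper29.BassC
import Groth.Agent.Lib.Helper29.BassD

set_option autoImplicit false

namespace Groth.Agent.Helper29.BassE

open BassD

universe u v w

variable (R : Type u) [CommRing R]

/-- infinite rank at every maximal ideal -/
def Big (W : Type v) [AddCommGroup W] [Module R W] : Prop :=
  ∀ (m : Ideal R) [m.IsMaximal],
    ¬ Module.Finite (Localization.AtPrime m) (LocalizedModule m.primeCompl W)

variable {R}

theorem Big.of_surjective {X : Type v} {Y : Type w} [AddCommGroup X] [Module R X]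
    [AddCommGroup Y] [Module R Y] (f : X →ₗ[R] Y) (hf : Function.Surjective f)
    (h : Big R Y) : Big R X := by
  intro m hm hfin
  exact h m (finite_of_locFG m Y ((locFG_of_finite m X hfin).of_surjective f hf))

theorem Big.quotient {X : Type v} [AddCommGroup X] [Module R X] (K : Submodule R X) (hK : K.FG)
    (h : Big R X) : Big R (X ⧸ K) := by
  intro m hm hfin
  exact h m (finite_of_locFG m X (LocFG.of_quotient K hK (locFG_of_finite m _ hfin)))

theorem Big.of_isCompl {W : Type v} [AddCommGroup W] [Module R W] {L L' : Submodule R W}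
    (h : IsCompl L L') (hL : L.FG) (hW : Big R W) : Big R L' := by
  have h1 : Big R (W ⧸ L) := hW.quotient L hL
  exact h1.of_surjective (Submodule.quotientEquivOfIsCompl L L' h).symm.toLinearMap
    (Submodule.quotientEquivOfIsCompl L L' h).symm.surjective

theorem projective_of_isCompl {W : Type v} [AddCommGroup W] [Module R W] [Module.Projective R W]
    {L L' : Submodule R W} (h : IsCompl L L') : Module.Projective R L' :=
  Module.Projective.of_split L'.subtype (L'.projectionOnto L h.symm)
    (by ext x; simp)

theorem lemmaH [IsNoetherianRing (R ⧸ (⊥ : Ideal R).jacobson)] :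
    ∀ (n : ℕ) (W : Type v) [AddCommGroup W] [Module R W] [Module.Projective R W]
      (_ : Big R W) (M : Submodule R W) (w : Fin n → W)
      (_ : Submodule.span R (Set.range w) ⊔ M = ⊤),
      ∃ L L' : Submodule R W, IsCompl L L' ∧ Nonempty (L ≃ₗ[R] (Fin n → R)) ∧ L ⊔ M = ⊤ := by
  intro n
  induction n with
  | zero =>
    intro W _ _ _ _ M w hw
    refine ⟨⊥, ⊤, isCompl_bot_top, ⟨LinearEquiv.ofSubsingleton _ _⟩, ?_⟩
    have : Set.range w = ∅ := Set.range_eq_empty w
    rw [this, Submodule.span_empty] at hw
    exact hw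
  | succ n ih =>
    intro W _ _ _ hW M w hw
    set s := w 0 with hs
    set M1 := Submodule.span R (Set.range (Fin.tail w)) ⊔ M with hM1
    have hw' : Submodule.span R {s} ⊔ M1 = ⊤ := by
      rw [eq_top_iff, ← hw]
      refine sup_le ?_ (le_sup_of_le_right le_sup_right)
      rw [Submodule.span_le]
      rintro _ ⟨i, rfl⟩
      refine Fin.cases ?_ ?_ i
      · exact Submodule.mem_sup_left (Submodule.mem_span_singleton_self _)
      · intro j
        exact Submodule.mem_sup_right (Submodule.mem_sup_left
          (Submodule.subset_span ⟨j, rfl⟩))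
    obtain ⟨m1, hm1, φ, hφ⟩ := BassC.main110 (fun m _ => hW m) s M1 hw'
    set u := s + m1 with hu
    -- projection onto ker φ
    let ρ : W →ₗ[R] LinearMap.ker φ :=
      LinearMap.codRestrict (LinearMap.ker φ) (LinearMap.id - φ.smulRight u) (by
        intro v
        simp only [LinearMap.mem_ker, LinearMap.sub_apply, LinearMap.id_apply,
          LinearMap.smulRight_apply, map_sub, map_smul, hφ, smul_eq_mul, mul_one, sub_self])
    have hρ : ∀ v, (ρ v : W) = v - φ v • u := fun v => rfl
    have hρι : ∀ x : LinearMap.ker φ, ρ (x : W) = x := by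
      intro x
      apply Subtype.ext
      rw [hρ, (LinearMap.mem_ker.mp x.2), zero_smul, sub_zero]
    have hρu : ρ u = 0 := by
      apply Subtype.ext
      rw [hρ, hφ, one_smul, sub_self]; rfl
    have hcompl : IsCompl (Submodule.span R {u}) (LinearMap.ker φ) := by
      constructor
      · rw [disjoint_iff_inf_le]
        rintro x ⟨hx1, hx2⟩
        obtain ⟨c, rfl⟩ := Submodule.mem_span_singleton.mp hx1
        have : φ (c • u) = 0 := hx2
        rw [map_smul, hφ, smul_eq_mul, mul_one] at this
        rw [this, zero_smul]; exact Submodule.zero_mem _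
      · rw [codisjoint_iff_le_sup]
        intro v _
        have : v = φ v • u + (ρ v : W) := by rw [hρ]; abel
        rw [this]
        exact Submodule.add_mem _ (Submodule.mem_sup_left
          (Submodule.smul_mem _ _ (Submodule.mem_span_singleton_self u)))
          (Submodule.mem_sup_right (ρ v).2)
    have : Module.Projective R (LinearMap.ker φ) := projective_of_isCompl hcompl
    have hBig1 : Big R (LinearMap.ker φ) :=
      Big.of_isCompl hcompl (Submodule.fg_span_singleton u) hW
    -- apply IH
    have hw1 : Submodule.span R (Set.range (fun j => ρ (Fin.tail w j))) ⊔ M.map ρ = ⊤ := by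
      rw [eq_top_iff]
      intro v1 _
      have hv : (v1 : W) ∈ Submodule.span R {s} ⊔ M1 := by rw [hw']; trivial
      obtain ⟨a, ha, b, hb, hab⟩ := Submodule.mem_sup.mp hv
      obtain ⟨c, rfl⟩ := Submodule.mem_span_singleton.mp ha
      have h1 : v1 = ρ (b - c • m1) := by
        have h2 : (v1 : W) = c • u + (b - c • m1) := by rw [← hab, hu]; simp only [smul_add]; abel
        rw [← hρι v1, h2, map_add, map_smul, hρu, smul_zero, zero_add]
      rw [h1]
      have h3 : b - c • m1 ∈ M1 := M1.sub_mem hb (M1.smul_mem c hm1)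
      have h4 : Submodule.map ρ M1 ≤
          Submodule.span R (Set.range (fun j => ρ (Fin.tail w j))) ⊔ M.map ρ := by
        rw [hM1, Submodule.map_sup, Submodule.map_span]
        refine sup_le_sup_right ?_ _
        refine Submodule.span_mono ?_
        rintro _ ⟨_, ⟨j, rfl⟩, rfl⟩
        exact ⟨j, rfl⟩
      exact h4 ⟨_, h3, rfl⟩
    obtain ⟨L1, L1', hc1, ⟨e1⟩, hL1⟩ :=
      ih (LinearMap.ker φ) hBig1 (M.map ρ) (fun j => ρ (Fin.tail w j)) hw1
    let ι := (LinearMap.ker φ).subtype
    refine ⟨Submodule.span R {u} ⊔ L1.map ι, L1'.map ι, ?_, ?_, ?_⟩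
    · constructor
      · rw [disjoint_iff_inf_le]
        rintro x ⟨hx1, hx2⟩
        obtain ⟨a, ha, b, hb, rfl⟩ := Submodule.mem_sup.mp hx1
        obtain ⟨c, rfl⟩ := Submodule.mem_span_singleton.mp ha
        obtain ⟨l1, hl1, rfl⟩ := hb
        obtain ⟨l1', hl1', hx2'⟩ := hx2
        have hc0 : c = 0 := by
          have h5 := congrArg φ hx2'
          rw [map_add, map_smul, hφ] at h5
          have h6 : φ (ι l1') = 0 := LinearMap.mem_ker.mp l1'.2
          have h7 : φ (ι l1) = 0 := LinearMap.mem_ker.mp l1.2
          rw [h6, h7, add_zero, smul_eq_mul, mul_one] at h5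
          exact h5.symm
        rw [hc0, zero_smul, zero_add] at hx2' ⊢
        have h8 : l1' = l1 := Subtype.ext hx2'
        have h9 : l1 ∈ L1 ⊓ L1' := ⟨hl1, h8 ▸ hl1'⟩
        rw [hc1.inf_eq_bot, Submodule.mem_bot] at h9
        rw [h9, map_zero]
        exact Submodule.zero_mem _
      · rw [codisjoint_iff_le_sup]
        intro v _
        have hρv : ρ v ∈ L1 ⊔ L1' := by rw [hc1.sup_eq_top]; trivial
        obtain ⟨a, ha, b, hb, hab⟩ := Submodule.mem_sup.mp hρv
        have : v = φ v • u + ι a + ι b := by
          have h1 : (ρ v : W) = ι a + ι b := by rw [← hab]; rfl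
          have h2 : v = φ v • u + (ρ v : W) := by rw [hρ]; abel
          calc v = φ v • u + (ρ v : W) := h2
            _ = φ v • u + (ι a + ι b) := by rw [h1]
            _ = φ v • u + ι a + ι b := by abel
        rw [this]
        exact Submodule.add_mem _ (Submodule.mem_sup_left (Submodule.add_mem _
          (Submodule.mem_sup_left (Submodule.smul_mem _ _ (Submodule.mem_span_singleton_self u)))
          (Submodule.mem_sup_right ⟨a, ha, rfl⟩))) (Submodule.mem_sup_right ⟨b, hb, rfl⟩)
    · -- the equivalence
      let Θ : (R × L1) →ₗ[R] ↥(Submodule.span R {u} ⊔ L1.map ι) :=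
        LinearMap.codRestrict _ ((LinearMap.id.smulRight u).coprod (ι ∘ₗ L1.subtype)) (by
          rintro ⟨c, l⟩
          simp only [LinearMap.coprod_apply, LinearMap.smulRight_apply, LinearMap.id_apply,
            LinearMap.comp_apply]
          exact Submodule.add_mem _
            (Submodule.mem_sup_left (Submodule.smul_mem _ _ (Submodule.mem_span_singleton_self u)))
            (Submodule.mem_sup_right ⟨l, l.2, rfl⟩))
      have hΘ : ∀ c (l : L1), ((Θ (c, l) : _) : W) = c • u + ((l : LinearMap.ker φ) : W) := by
        intro c l; rfl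
      have hbij : Function.Bijective Θ := by
        constructor
        · rw [← LinearMap.ker_eq_bot, LinearMap.ker_eq_bot']
          rintro ⟨c, l⟩ h
          have h1 : c • u + ((l : LinearMap.ker φ) : W) = 0 := by
            rw [← hΘ, h]; rfl
          have hc0 : c = 0 := by
            have h5 := congrArg φ h1
            rw [map_add, map_smul, hφ, LinearMap.mem_ker.mp (l : LinearMap.ker φ).2, add_zero,
              map_zero, smul_eq_mul, mul_one] at h5
            exact h5
          rw [hc0, zero_smul, zero_add] at h1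
          have : l = 0 := Subtype.ext (Subtype.ext h1)
          rw [hc0, this]; rfl
        · rintro ⟨x, hx⟩
          obtain ⟨a, ha, b, hb, rfl⟩ := Submodule.mem_sup.mp hx
          obtain ⟨c, rfl⟩ := Submodule.mem_span_singleton.mp ha
          obtain ⟨l, hl, rfl⟩ := hb
          exact ⟨(c, ⟨l, hl⟩), Subtype.ext (hΘ c ⟨l, hl⟩)⟩
      exact ⟨(LinearEquiv.ofBijective Θ hbij).symm.trans
        (((LinearEquiv.refl R R).prodCongr e1).trans
          (Fin.consLinearEquiv R (fun _ : Fin (n + 1) => R)))⟩
    · rw [eq_top_iff]
      intro v _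
      have hρv : ρ v ∈ L1 ⊔ M.map ρ := by rw [hL1]; trivial
      obtain ⟨a, ha, b, ⟨m, hm, rfl⟩, hab⟩ := Submodule.mem_sup.mp hρv
      have h1 : (ρ v : W) = ι a + (m - φ m • u) := by rw [← hab]; rfl
      have h2 : v = (φ v • u - φ m • u) + ι a + m := by
        have h3 : v = φ v • u + (ρ v : W) := by rw [hρ]; abel
        calc v = φ v • u + (ρ v : W) := h3
          _ = φ v • u + (ι a + (m - φ m • u)) := by rw [h1]
          _ = (φ v • u - φ m • u) + ι a + m := by abel
      rw [h2]
      refine Submodule.add_mem _ (Submodule.mem_sup_left (Submodule.add_mem _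
        (Submodule.mem_sup_left ?_) (Submodule.mem_sup_right ⟨a, ha, rfl⟩)))
        (Submodule.mem_sup_right hm)
      exact Submodule.sub_mem _ (Submodule.smul_mem _ _ (Submodule.mem_span_singleton_self u))
        (Submodule.smul_mem _ _ (Submodule.mem_span_singleton_self u))

end Groth.Agent.Helper29.BassE
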