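import Mathlib
import Groth.Agent.Lib.Helper29.BassE
import Groth.Agent.Lib.Helper11.Swindle

set_option autoImplicit false

namespace Groth.Agent.Helper29.BassF

open BassE

universe u v w

variable {R : Type u} [CommRing R]

/-- A short exact sequence with projective cokernel splits. -/
theorem nonempty_equiv_prod_of_exact {A : Type v} {B : Type v} {C : Type w}
    [AddCommGroup A] [Module R A] [AddCommGroup B] [Module R B] [AddCommGroup C] [Module R C]
    [Module.Projective R C]
    (f : A →ₗ[R] B) (g : B →ₗ[R] C) (hf : Function.Injective f) (hg : Function.Surjective g)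
    (hfg : Function.Exact f g) : Nonempty (B ≃ₗ[R] A × C) := by
  obtain ⟨l, hl⟩ := Module.projective_lifting_property g LinearMap.id hg
  exact ⟨(hfg.splitSurjectiveEquiv hf ⟨l, hl⟩).1⟩

/-- kernel of a surjection onto a projective module is a direct summand -/
theorem exists_isCompl_ker {B : Type v} {C : Type w}
    [AddCommGroup B] [Module R B] [AddCommGroup C] [Module R C]
    [Module.Projective R C] (g : B →ₗ[R] C) (hg : Function.Surjective g) :
    ∃ K' : Submodule R B, IsCompl (LinearMap.ker g) K' := by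
  obtain ⟨l, hl⟩ := Module.projective_lifting_property g LinearMap.id hg
  have hl' : ∀ c, g (l c) = c := fun c => LinearMap.congr_fun hl c
  refine ⟨LinearMap.range l, ?_⟩
  constructor
  · rw [disjoint_iff_inf_le]
    rintro x ⟨hx1, ⟨c, rfl⟩⟩
    have : g (l c) = 0 := hx1
    rw [hl'] at this
    rw [this, map_zero]; exact Submodule.zero_mem _
  · rw [codisjoint_iff_le_sup]
    intro x _
    have : x = (x - l (g x)) + l (g x) := by abel
    rw [this]
    refine Submodule.add_mem _ (Submodule.mem_sup_left ?_) (Submodule.mem_sup_right ⟨_, rfl⟩)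
    rw [LinearMap.mem_ker, map_sub, hl', sub_self]

theorem main111 (R : Type u) [CommRing R] [IsNoetherianRing (R ⧸ (⊥ : Ideal R).jacobson)]
    (P : Type u) [AddCommGroup P] [Module R P] [Module.Projective R P]
    (hP : Big R P) (s : P) :
    ∃ (K K' : Submodule R P), IsCompl K K' ∧ Module.Finite R K ∧ Module.IsStablyFree R K ∧
      s ∈ K := by
  obtain ⟨n, K0, K0', hc0, hfree0, hfin0, hs0⟩ :=
    Groth.Agent.Helper11.exists_finite_free_summand_containing (R := R) P s
  -- the quotient W
  have hprojK0' : Module.Projective R K0' := projective_of_isCompl hc0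
  have hprojW : Module.Projective R (((Fin n → R) × P) ⧸ K0) :=
    Module.Projective.of_equiv (Submodule.quotientEquivOfIsCompl K0 K0' hc0).symm
  have hBigW : Big R (((Fin n → R) × P) ⧸ K0) := by
    refine Big.quotient K0 (Module.Finite.iff_fg.mp hfin0) ?_
    exact Big.of_surjective (LinearMap.snd R (Fin n → R) P) LinearMap.snd_surjective hP
  set π := K0.mkQ with hπ
  set j : P →ₗ[R] (Fin n → R) × P := LinearMap.inr R (Fin n → R) P with hj
  have hw : Submodule.span R (Set.range (fun i : Fin n => π (Pi.single i (1 : R), (0 : P)))) ⊔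
      LinearMap.range (π ∘ₗ j) = ⊤ := by
    rw [eq_top_iff]
    intro y _
    obtain ⟨⟨f, p⟩, rfl⟩ := K0.mkQ_surjective y
    have h1 : ((f, p) : (Fin n → R) × P) =
        (∑ i, f i • ((Pi.single i (1 : R), (0 : P)) : (Fin n → R) × P)) + j p := by
      refine Prod.ext ?_ ?_
      · simp only [hj, Prod.fst_add, Prod.fst_sum, Prod.smul_fst, LinearMap.inr_apply, add_zero]
        funext k
        simp [Finset.sum_apply, Pi.single_apply]
      · simp [hj, Prod.snd_sum]
    rw [h1, map_add, map_sum]
    refine Submodule.add_mem _ (Submodule.mem_sup_left ?_) (Submodule.mem_sup_right ⟨p, rfl⟩)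
    refine Submodule.sum_mem _ (fun i _ => ?_)
    rw [map_smul]
    exact Submodule.smul_mem _ _ (Submodule.subset_span ⟨i, rfl⟩)
  obtain ⟨L, L', hcL, ⟨eL⟩, hLM⟩ := lemmaH n _ hBigW _ _ hw
  have hprojL' : Module.Projective R L' := projective_of_isCompl hcL
  have hfreeL : Module.Free R L := Module.Free.of_equiv eL.symm
  have hfinL : Module.Finite R L := Module.Finite.equiv eL.symm
  -- K♯
  set Ks : Submodule R ((Fin n → R) × P) := L.comap π with hKs
  have hK0le : K0 ≤ Ks := by
    intro x hx
    change π x ∈ L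
    have : π x = 0 := by rw [hπ]; exact (Submodule.Quotient.mk_eq_zero K0).mpr hx
    rw [this]; exact Submodule.zero_mem _
  have hsum : ∀ x : (Fin n → R) × P, ∃ k ∈ Ks, ∃ p : P, x = k + j p := by
    intro x
    have : π x ∈ L ⊔ LinearMap.range (π ∘ₗ j) := by rw [hLM]; trivial
    obtain ⟨a, ha, b, ⟨p, rfl⟩, hab⟩ := Submodule.mem_sup.mp this
    refine ⟨x - j p, ?_, p, by abel⟩
    change π (x - j p) ∈ L
    rw [map_sub, ← hab]
    simpa using ha
  -- K
  set K : Submodule R P := Ks.comap j with hK
  have hsK : s ∈ K := hK0le hs0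
  -- complement of K
  let q : P →ₗ[R] L' := (L'.projectionOnto L hcL.symm) ∘ₗ π ∘ₗ j
  have hq_surj : Function.Surjective q := by
    intro y
    obtain ⟨x, hx⟩ := K0.mkQ_surjective (y : _ ⧸ K0)
    obtain ⟨k, hk, p, rfl⟩ := hsum x
    refine ⟨p, ?_⟩
    have h1 : L'.projectionOnto L hcL.symm (π k) = 0 :=
      (Submodule.projectionOnto_apply_eq_zero_iff hcL.symm).mpr hk
    have h2 : L'.projectionOnto L hcL.symm (y : _ ⧸ K0) = y :=
      Submodule.projectionOnto_apply_left hcL.symm y
    rw [← h2, ← hx]
    change _ = L'.projectionOnto L hcL.symm (π (k + j p))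
    rw [map_add, map_add, h1, zero_add]
    rfl
  have hq_ker : LinearMap.ker q = K := by
    ext p
    rw [LinearMap.mem_ker]
    change L'.projectionOnto L hcL.symm (π (j p)) = 0 ↔ _
    rw [Submodule.projectionOnto_apply_eq_zero_iff hcL.symm]
    rfl
  obtain ⟨K', hK'⟩ := exists_isCompl_ker q hq_surj
  rw [hq_ker] at hK'
  -- Ks ≃ K0 × L
  let f1 : K0 →ₗ[R] Ks := Submodule.inclusion hK0le
  let g1 : Ks →ₗ[R] L := π.restrict (fun x hx => hx)
  have hg1 : ∀ x : Ks, ((g1 x : L) : _ ⧸ K0) = π (x : (Fin n → R) × P) := fun x => rfl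
  have hf1 : Function.Injective f1 := Submodule.inclusion_injective hK0le
  have hg1s : Function.Surjective g1 := by
    rintro ⟨y, hy⟩
    obtain ⟨x, rfl⟩ := K0.mkQ_surjective y
    exact ⟨⟨x, hy⟩, Subtype.ext rfl⟩
  have hex1 : Function.Exact f1 g1 := by
    intro x
    constructor
    · intro hx
      have h1 : π (x : (Fin n → R) × P) = 0 := by rw [← hg1, hx]; rfl
      have h2 : (x : (Fin n → R) × P) ∈ K0 := (Submodule.Quotient.mk_eq_zero K0).mp h1
      exact ⟨⟨x, h2⟩, Subtype.ext rfl⟩
    · rintro ⟨k, rfl⟩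
      apply Subtype.ext
      rw [hg1]
      exact (Submodule.Quotient.mk_eq_zero K0).mpr k.2
  obtain ⟨e1⟩ := nonempty_equiv_prod_of_exact f1 g1 hf1 hg1s hex1
  have hfreeKs : Module.Free R Ks := Module.Free.of_equiv e1.symm
  have hfinKs : Module.Finite R Ks := Module.Finite.equiv e1.symm
  -- Ks ≃ K × (Fin n → R)
  let f2 : K →ₗ[R] Ks := j.restrict (fun x hx => hx)
  let g2 : Ks →ₗ[R] (Fin n → R) := (LinearMap.fst R (Fin n → R) P) ∘ₗ Ks.subtype
  have hf2 : Function.Injective f2 := by
    intro a b hab
    have : j (a : P) = j (b : P) := congrArg Subtype.val hab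
    exact Subtype.ext (LinearMap.inr_injective this)
  have hg2s : Function.Surjective g2 := by
    intro f
    obtain ⟨k, hk, p, hkp⟩ := hsum (f, 0)
    refine ⟨⟨k, hk⟩, ?_⟩
    change k.1 = f
    have := congrArg Prod.fst hkp
    simpa [hj] using this.symm
  have hex2 : Function.Exact f2 g2 := by
    intro x
    constructor
    · intro hx
      have hx' : (x : (Fin n → R) × P).1 = 0 := hx
      have h3 : j (x : (Fin n → R) × P).2 = x := by
        refine Prod.ext ?_ ?_
        · simp [hj, hx']
        · simp [hj]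
      have h2 : (x : (Fin n → R) × P).2 ∈ K := by
        change j _ ∈ Ks
        rw [h3]; exact x.2
      exact ⟨⟨_, h2⟩, Subtype.ext h3⟩
    · rintro ⟨k, rfl⟩
      change (j (k : P)).1 = 0
      simp [hj]
  obtain ⟨e2⟩ := nonempty_equiv_prod_of_exact f2 g2 hf2 hg2s hex2
  have hfreeprod : Module.Free R (K × (Fin n → R)) := Module.Free.of_equiv e2
  have hfinprod : Module.Finite R (K × (Fin n → R)) := Module.Finite.equiv e2
  refine ⟨K, K', hK', ?_, ?_, hsK⟩
  · exact Module.Finite.of_surjective (LinearMap.fst R K (Fin n → R)) LinearMap.fst_surjective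
  · exact Module.IsStablyFree.of_free_prod (R := R) (M := K) (N := Fin n → R)

end Groth.Agent.Helper29.BassF
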