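import Mathlib
import Groth.Agent.Lib.Helper29.BassF

set_option autoImplicit false

namespace Groth.Agent.Helper29.BassG

open BassE BassF

universe u v w

variable {R : Type u} [CommRing R]

/-- nested complements -/
theorem isCompl_nested {P : Type v} [AddCommGroup P] [Module R P] {A Q : Submodule R P}
    (h : IsCompl A Q) {F F' : Submodule R Q} (h' : IsCompl F F') :
    IsCompl (A ⊔ F.map Q.subtype) (F'.map Q.subtype) := by
  constructor
  · rw [disjoint_iff_inf_le]
    rintro x ⟨hx1, ⟨f', hf', rfl⟩⟩
    obtain ⟨a, ha, b, ⟨f, hf, rfl⟩, hab⟩ := Submodule.mem_sup.mp hx1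
    have ha0 : a = 0 := by
      have h1 : a = Q.subtype (f' - f) := by
        rw [map_sub, ← hab]; abel
      have h2 : a ∈ A ⊓ Q := ⟨ha, by rw [h1]; exact (f' - f).2⟩
      rwa [h.inf_eq_bot, Submodule.mem_bot] at h2
    rw [ha0, zero_add] at hab
    have h3 : f = f' := Subtype.ext hab
    have h4 : f' ∈ F ⊓ F' := ⟨h3 ▸ hf, hf'⟩
    rw [h'.inf_eq_bot, Submodule.mem_bot] at h4
    rw [h4, map_zero]; exact Submodule.zero_mem _
  · rw [codisjoint_iff_le_sup]
    intro x _
    have hx : x ∈ A ⊔ Q := by rw [h.sup_eq_top]; trivial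
    obtain ⟨a, ha, q, hq, rfl⟩ := Submodule.mem_sup.mp hx
    have hq' : (⟨q, hq⟩ : Q) ∈ F ⊔ F' := by rw [h'.sup_eq_top]; trivial
    obtain ⟨f, hf, f', hf', hff⟩ := Submodule.mem_sup.mp hq'
    have : a + q = (a + Q.subtype f) + Q.subtype f' := by
      have : q = Q.subtype f + Q.subtype f' := by
        rw [← map_add, hff]; rfl
      rw [this]; abel
    rw [this]
    exact Submodule.add_mem _ (Submodule.mem_sup_left (Submodule.add_mem _
      (Submodule.mem_sup_left ha) (Submodule.mem_sup_right ⟨f, hf, rfl⟩)))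
      (Submodule.mem_sup_right ⟨f', hf', rfl⟩)

theorem disjoint_nested {P : Type v} [AddCommGroup P] [Module R P] {A Q : Submodule R P}
    (h : IsCompl A Q) (F : Submodule R Q) : Disjoint A (F.map Q.subtype) := by
  refine h.disjoint.mono_right ?_
  rintro _ ⟨f, _, rfl⟩
  exact f.2

/-- a finite free submodule is spanned by a finite linearly independent set -/
theorem exists_finite_basis_set {P : Type v} [AddCommGroup P] [Module R P] (F : Submodule R P)
    [Module.Free R F] [Module.Finite R F] :
    ∃ T : Set P, T.Finite ∧ LinearIndepOn R id T ∧ Submodule.span R T = F := by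
  let b := Module.Free.chooseBasis R F
  refine ⟨Set.range (fun i => ((b i : F) : P)), Set.finite_range _, ?_, ?_⟩
  · have h1 : LinearIndependent R (fun i => ((b i : F) : P)) :=
      b.linearIndependent.map' F.subtype (Submodule.ker_subtype F)
    exact h1.linearIndepOn_id
  · have : (fun i => ((b i : F) : P)) = F.subtype ∘ b := rfl
    rw [this, Set.range_comp, ← Submodule.map_span, b.span_eq, Submodule.map_top,
      Submodule.range_subtype]

variable [IsNoetherianRing (R ⧸ (⊥ : Ideal R).jacobson)]

/-- every element lies in a finite free direct summand -/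
theorem free_summand [Nontrivial R] (P : Type u) [AddCommGroup P] [Module R P]
    [Module.Projective R P] (hP : Big R P) (s : P) :
    ∃ (T : Set P) (Q : Submodule R P), T.Finite ∧ LinearIndepOn R id T ∧
      IsCompl (Submodule.span R T) Q ∧ s ∈ Submodule.span R T := by
  obtain ⟨K, K', hc, hfin, hsf, hs⟩ := main111 R P hP s
  obtain ⟨N, _, _, hNfin, hNfree, hKNfree⟩ := Module.IsStablyFree.exist_free_prod R K
  -- N ≃ Fin a → R
  let bN := Module.Free.chooseBasis R N
  let a := Fintype.card (Module.Free.ChooseBasisIndex R N)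
  let eN : N ≃ₗ[R] (Fin a → R) :=
    (bN.reindex (Fintype.equivFin (Module.Free.ChooseBasisIndex R N))).equivFun
  have hprojK' : Module.Projective R K' := projective_of_isCompl hc
  have hBigK' : Big R K' := Big.of_isCompl hc (Module.Finite.iff_fg.mp hfin) hP
  obtain ⟨L, L', hcL, ⟨eL⟩, -⟩ := lemmaH a K' hBigK' ⊤ (fun _ => 0) (by simp)
  -- θ : K × L → P
  let θ : (K × L) →ₗ[R] P := K.subtype.coprod (K'.subtype ∘ₗ L.subtype)
  have hθ : ∀ (k : K) (l : L), θ (k, l) = (k : P) + ((l : K') : P) := fun k l => rfl
  have hθinj : Function.Injective θ := by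
    rw [← LinearMap.ker_eq_bot, LinearMap.ker_eq_bot']
    rintro ⟨k, l⟩ hkl
    rw [hθ] at hkl
    have h1 : (k : P) ∈ K ⊓ K' := by
      refine ⟨k.2, ?_⟩
      have : (k : P) = -((l : K') : P) := eq_neg_of_add_eq_zero_left hkl
      rw [this]; exact K'.neg_mem (l : K').2
    rw [hc.inf_eq_bot, Submodule.mem_bot] at h1
    rw [h1, zero_add] at hkl
    have hk0 : k = 0 := Subtype.ext h1
    have hl0 : l = 0 := Subtype.ext (Subtype.ext hkl)
    rw [hk0, hl0]; rfl
  have hrange : LinearMap.range θ = K ⊔ L.map K'.subtype := by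
    rw [LinearMap.range_coprod, Submodule.range_subtype, LinearMap.range_comp,
      Submodule.range_subtype]
  let eF : (K × L) ≃ₗ[R] LinearMap.range θ := LinearEquiv.ofInjective θ hθinj
  have hfreeKL : Module.Free R (K × L) :=
    Module.Free.of_equiv (LinearEquiv.prodCongr (LinearEquiv.refl R K) (eN.trans eL.symm))
  have hfinL : Module.Finite R L := Module.Finite.equiv eL.symm
  have hfreeF : Module.Free R (LinearMap.range θ) := Module.Free.of_equiv eF
  have hfinF : Module.Finite R (LinearMap.range θ) := Module.Finite.equiv eF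
  obtain ⟨T, hTfin, hTli, hTspan⟩ := exists_finite_basis_set (LinearMap.range θ)
  refine ⟨T, L'.map K'.subtype, hTfin, hTli, ?_, ?_⟩
  · rw [hTspan, hrange]
    exact isCompl_nested hc hcL
  · rw [hTspan, hrange]
    exact Submodule.mem_sup_left hs

/-- states of the construction -/
structure St (R : Type u) [CommRing R] (P : Type u) [AddCommGroup P] [Module R P] where
  /-- partial basis -/
  T : Set P
  /-- complement -/
  Q : Submodule R P
  fin : T.Finite
  li : LinearIndepOn R id T
  compl : IsCompl (Submodule.span R T) Q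

theorem step [Nontrivial R] (P : Type u) [AddCommGroup P] [Module R P]
    [Module.Projective R P] (hP : Big R P) (σ : St R P) (g : P) :
    ∃ σ' : St R P, σ.T ⊆ σ'.T ∧ g ∈ Submodule.span R σ'.T := by
  obtain ⟨T, Q, hfin, hli, hc⟩ := σ
  have hg : g ∈ Submodule.span R T ⊔ Q := by rw [hc.sup_eq_top]; trivial
  obtain ⟨a, ha, b, hb, rfl⟩ := Submodule.mem_sup.mp hg
  have hprojQ : Module.Projective R Q := projective_of_isCompl hc
  have hBigQ : Big R Q := Big.of_isCompl hc (Submodule.fg_span hfin) hP
  obtain ⟨T1, Q1, hT1fin, hT1li, hc1, hb1⟩ := free_summand Q hBigQ ⟨b, hb⟩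
  have hspan_img : Submodule.span R (Q.subtype '' T1) = (Submodule.span R T1).map Q.subtype :=
    Submodule.span_image _
  have hspan : Submodule.span R (T ∪ Q.subtype '' T1) =
      Submodule.span R T ⊔ (Submodule.span R T1).map Q.subtype := by
    rw [Submodule.span_union, hspan_img]
  refine ⟨⟨T ∪ Q.subtype '' T1, Q1.map Q.subtype, hfin.union (hT1fin.image _), ?_, ?_⟩,
    Set.subset_union_left, ?_⟩
  · refine hli.id_union (hT1li.id_imageₛ (Q.injective_subtype.injOn)) ?_
    rw [hspan_img]
    exact disjoint_nested hc _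
  · rw [hspan]
    exact isCompl_nested hc hc1
  · change a + b ∈ Submodule.span R (T ∪ Q.subtype '' T1)
    rw [hspan]
    exact Submodule.add_mem _ (Submodule.mem_sup_left ha)
      (Submodule.mem_sup_right ⟨⟨b, hb⟩, hb1, rfl⟩)

theorem main112 (R : Type u) [CommRing R] [IsNoetherianRing (R ⧸ (⊥ : Ideal R).jacobson)]
    (P : Type u) [AddCommGroup P] [Module R P] [Module.Projective R P]
    (hP : Big R P) (hc : ∃ s : Set P, s.Countable ∧ Submodule.span R s = ⊤) :
    Module.Free R P := by
  rcases subsingleton_or_nontrivial R with hR | hR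
  · have : Subsingleton P := Module.subsingleton R P
    exact Module.Free.of_subsingleton R P
  obtain ⟨s, hs, hspan⟩ := hc
  obtain ⟨g, hg⟩ := (hs.insert 0).exists_eq_range (Set.insert_nonempty 0 s)
  have hspan' : Submodule.span R (Set.range g) = ⊤ := by
    rw [eq_top_iff, ← hspan, ← hg]
    exact Submodule.span_mono (Set.subset_insert 0 s)
  let σ0 : St R P := ⟨∅, ⊤, Set.finite_empty, by
    change LinearIndependent R (fun x : (∅ : Set P) => id (x : P))
    exact linearIndependent_empty_type, by
    rw [Submodule.span_empty]; exact isCompl_bot_top⟩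
  let seq : ℕ → St R P := fun k =>
    Nat.rec σ0 (fun k σ => Classical.choose (step P hP σ (g k))) k
  have hseq : ∀ k, seq (k + 1) = Classical.choose (step P hP (seq k) (g k)) := fun k => rfl
  have h1 : ∀ k, (seq k).T ⊆ (seq (k + 1)).T := fun k => by
    rw [hseq]; exact (Classical.choose_spec (step P hP (seq k) (g k))).1
  have h2 : ∀ k, g k ∈ Submodule.span R (seq (k + 1)).T := fun k => by
    rw [hseq]; exact (Classical.choose_spec (step P hP (seq k) (g k))).2
  have hmono : Monotone (fun k => (seq k).T) := monotone_nat_of_le_succ h1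
  have hli : LinearIndepOn R id (⋃ k, (seq k).T) :=
    linearIndepOn_iUnion_of_directed hmono.directed_le (fun k => (seq k).li)
  have hsp : ⊤ ≤ Submodule.span R (Set.range (fun x : (⋃ k, (seq k).T) => id (x : P))) := by
    have : Set.range (fun x : (⋃ k, (seq k).T) => id (x : P)) = ⋃ k, (seq k).T :=
      Subtype.range_coe
    rw [this, ← hspan', Submodule.span_le]
    rintro _ ⟨k, rfl⟩
    exact Submodule.span_mono (Set.subset_iUnion (fun k => (seq k).T) (k + 1)) (h2 k)
  exact Module.Free.of_basis (Module.Basis.mk hli hsp)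

end Groth.Agent.Helper29.BassG
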