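import Mathlib
import Groth.Prelude.Def_EtBCD
import Groth.Prelude.Def_SixF1
import Groth.Agent.Lib.Helper29.EdgeE

/-!
# Pasting of the derived base change maps `EtBC.bcMap`: sheaf level and homotopy-category level
(helper29)
-/

set_option autoImplicit false

open CategoryTheory CategoryTheory.Limits AlgebraicGeometry

namespace Groth.Agent.Helper29.BcD1

open Groth.Agent.Helper29.EdgeC Groth.Agent.Helper29.EdgeD Groth.Agent.Helper29.EdgeE

universe u

section Sheaf

variable {X S Y T W Z : Scheme.{u}} (f : X ⟶ S) (g : T ⟶ S) (h : Y ⟶ X) (e : Y ⟶ T)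
    (w : e ≫ g = h ≫ f) (i : W ⟶ X) (j : Z ⟶ W) (k : Z ⟶ Y) (w' : k ≫ h = j ≫ i)
    (w'' : (k ≫ e) ≫ g = j ≫ (i ≫ f))

lemma pTPP_app (F : EtCoh.Ab T) :
    (EtBC.pushToPushPull g f h e w).app F =
      (EtCoh.push g).map ((EtCoh.pullPushAdj e).unit.app F) ≫
        (σAb g f h e w).hom.app ((EtCoh.pull e).obj F) := by
  simp [EtBC.pushToPushPull, σAb]

lemma pTPP_pasting (F : EtCoh.Ab T) :
    (EtBC.pushToPushPull g (i ≫ f) j (k ≫ e) w'').app F ≫
        (EtCoh.pushComp f i).inv.app ((EtCoh.push j).obj ((EtCoh.pull (k ≫ e)).obj F)) =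
      (EtBC.pushToPushPull g f h e w).app F ≫
        (EtCoh.push f).map ((EtBC.pushToPushPull h i j k w').app ((EtCoh.pull e).obj F)) ≫
        (EtCoh.push f).map ((EtCoh.push i).map ((EtCoh.push j).map ((ζ e k).hom.app F))) := by
  rw [pTPP_app, pTPP_app, pTPP_app, hζ e k F]
  have key := degreewise (EtCoh.push g) (EtCoh.push e) (EtCoh.push h) (EtCoh.push f) (EtCoh.push k)
    (EtCoh.push j) (EtCoh.push i) (EtCoh.push (k ≫ e)) (EtCoh.push (i ≫ f))
    (σAb g f h e w) (σAb h i j k w') (σAb g (i ≫ f) j (k ≫ e) w'')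
    (EtCoh.pushComp e k) (EtCoh.pushComp f i) (hσ g f h e w i j k w' w'')
    ((EtCoh.pullPushAdj e).unit.app F) ((EtCoh.pullPushAdj k).unit.app ((EtCoh.pull e).obj F))
    ((ζ e k).hom.app F)
  rw [key]
  have nat := (EtCoh.pushComp f i).inv.naturality ((EtCoh.push j).map ((ζ e k).hom.app F))
  simp only [Functor.comp_map, Functor.comp_obj] at nat
  simp only [Category.assoc, Functor.map_comp]
  rw [nat, Iso.hom_inv_id_app_assoc]

end Sheaf

end Groth.Agent.Helper29.BcD1
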