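import Mathlib
import Groth.Prelude.Def_EtBCD
import Groth.Prelude.Def_SixF1
import Groth.Agent.Lib.Helper29.BcD1

/-!
# Pasting of `EtBC.pushToPushPullH` on homotopy categories (helper29)
-/

set_option autoImplicit false

open CategoryTheory CategoryTheory.Limits AlgebraicGeometry

namespace Groth.Agent.Helper29.BcD2

open Groth.Agent.Helper29.EdgeC Groth.Agent.Helper29.EdgeD Groth.Agent.Helper29.EdgeE
  Groth.Agent.Helper29.BcD1

universe u

variable {X S Y T W Z : Scheme.{u}} (f : X ⟶ S) (g : T ⟶ S) (h : Y ⟶ X) (e : Y ⟶ T)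
    (w : e ≫ g = h ≫ f) (i : W ⟶ X) (j : Z ⟶ W) (k : Z ⟶ Y) (w' : k ≫ h = j ≫ i)
    (w'' : (k ≫ e) ≫ g = j ≫ (i ≫ f))

/-- chain-level version of `EtBC.pushToPushPullH` -/
noncomputable def θ (C : CochainComplex (EtCoh.Ab T) ℤ) :
    ((EtCoh.push g).mapHomologicalComplex (ComplexShape.up ℤ)).obj C ⟶
      ((EtCoh.push f).mapHomologicalComplex (ComplexShape.up ℤ)).obj
        (((EtCoh.push h).mapHomologicalComplex (ComplexShape.up ℤ)).obj
          (((EtCoh.pull e).mapHomologicalComplex (ComplexShape.up ℤ)).obj C)) :=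
  (NatTrans.mapHomologicalComplex (EtBC.pushToPushPull g f h e w) (ComplexShape.up ℤ)).app C ≫
    (Functor.mapHomologicalComplexCompIso
      (Iso.refl (EtCoh.pull e ⋙ EtCoh.push h ⋙ EtCoh.push f)) (ComplexShape.up ℤ)).inv.app C ≫
    (Functor.mapHomologicalComplexCompIso
      (Iso.refl (EtCoh.push h ⋙ EtCoh.push f)) (ComplexShape.up ℤ)).inv.app
        (((EtCoh.pull e).mapHomologicalComplex (ComplexShape.up ℤ)).obj C)

lemma θ_f (C : CochainComplex (EtCoh.Ab T) ℤ) (n : ℤ) :
    (θ f g h e w C).f n = (EtBC.pushToPushPull g f h e w).app (C.X n) := by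
  simp [θ]
  erw [Category.comp_id]

set_option backward.isDefEq.respectTransparency false in
lemma pTPPH_app (C : CochainComplex (EtCoh.Ab T) ℤ) :
    (EtBC.pushToPushPullH g f h e w).app ((HomotopyCategory.quotient _ _).obj C) =
      (HomotopyCategory.quotient _ _).map (θ f g h e w C) := by
  unfold θ
  simp only [Functor.map_comp]
  rfl

/-- the comparison `(i ≫ f)_* ⟶ i_* ⋙ f_*` on homotopy categories, as in `EtSix.compUnit` -/
noncomputable def κ : (EtCoh.push (i ≫ f)).mapHomotopyCategory (ComplexShape.up ℤ) ⟶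
    (EtCoh.push i).mapHomotopyCategory (ComplexShape.up ℤ) ⋙
      (EtCoh.push f).mapHomotopyCategory (ComplexShape.up ℤ) :=
  NatTrans.mapHomotopyCategory (EtCoh.pushComp f i).inv (ComplexShape.up ℤ) ≫
    (Functor.mapHomotopyCategoryCompIso (Iso.refl (EtCoh.push i ⋙ EtCoh.push f))
      (ComplexShape.up ℤ)).inv

/-- chain-level `κ` -/
noncomputable def κc (C : CochainComplex (EtCoh.Ab W) ℤ) :
    ((EtCoh.push (i ≫ f)).mapHomologicalComplex (ComplexShape.up ℤ)).obj C ⟶
      ((EtCoh.push f).mapHomologicalComplex (ComplexShape.up ℤ)).obj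
        (((EtCoh.push i).mapHomologicalComplex (ComplexShape.up ℤ)).obj C) :=
  (NatTrans.mapHomologicalComplex (EtCoh.pushComp f i).inv (ComplexShape.up ℤ)).app C ≫
    (Functor.mapHomologicalComplexCompIso (Iso.refl (EtCoh.push i ⋙ EtCoh.push f))
      (ComplexShape.up ℤ)).inv.app C

lemma κc_f (C : CochainComplex (EtCoh.Ab W) ℤ) (n : ℤ) :
    (κc f i C).f n = (EtCoh.pushComp f i).inv.app (C.X n) := by
  simp [κc]
  erw [Category.comp_id]

set_option backward.isDefEq.respectTransparency false in
lemma κ_app (C : CochainComplex (EtCoh.Ab W) ℤ) :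
    (κ f i).app ((HomotopyCategory.quotient _ _).obj C) =
      (HomotopyCategory.quotient _ _).map (κc f i C) := by
  unfold κc κ
  simp only [Functor.map_comp]
  rfl

/-- `ζ` on homotopy categories -/
noncomputable def ζH : (EtCoh.pull e).mapHomotopyCategory (ComplexShape.up ℤ) ⋙
    (EtCoh.pull k).mapHomotopyCategory (ComplexShape.up ℤ) ≅
      (EtCoh.pull (k ≫ e)).mapHomotopyCategory (ComplexShape.up ℤ) :=
  Functor.mapHomotopyCategoryCompIso (ζ e k) (ComplexShape.up ℤ)

set_option backward.isDefEq.respectTransparency false in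
lemma ζH_app (C : CochainComplex (EtCoh.Ab T) ℤ) :
    (ζH e k).hom.app ((HomotopyCategory.quotient _ _).obj C) =
      (HomotopyCategory.quotient _ _).map
        ((Functor.mapHomologicalComplexCompIso (ζ e k) (ComplexShape.up ℤ)).hom.app C) := by
  rfl

set_option backward.isDefEq.respectTransparency false in
theorem pTPPH_pasting (K : HomotopyCategory (EtCoh.Ab T) (ComplexShape.up ℤ)) :
    (EtBC.pushToPushPullH g (i ≫ f) j (k ≫ e) w'').app K ≫
        (κ f i).app (((EtCoh.push j).mapHomotopyCategory (ComplexShape.up ℤ)).obj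
          (((EtCoh.pull (k ≫ e)).mapHomotopyCategory (ComplexShape.up ℤ)).obj K)) =
      (EtBC.pushToPushPullH g f h e w).app K ≫
        ((EtCoh.push f).mapHomotopyCategory (ComplexShape.up ℤ)).map
          ((EtBC.pushToPushPullH h i j k w').app
            (((EtCoh.pull e).mapHomotopyCategory (ComplexShape.up ℤ)).obj K)) ≫
        ((EtCoh.push f).mapHomotopyCategory (ComplexShape.up ℤ)).map
          (((EtCoh.push i).mapHomotopyCategory (ComplexShape.up ℤ)).map
            (((EtCoh.push j).mapHomotopyCategory (ComplexShape.up ℤ)).map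
              ((ζH e k).hom.app K))) := by
  obtain ⟨C⟩ := K
  change (EtBC.pushToPushPullH g (i ≫ f) j (k ≫ e) w'').app ((HomotopyCategory.quotient _ _).obj C) ≫
        (κ f i).app ((HomotopyCategory.quotient _ _).obj
          (((EtCoh.push j).mapHomologicalComplex (ComplexShape.up ℤ)).obj
          (((EtCoh.pull (k ≫ e)).mapHomologicalComplex (ComplexShape.up ℤ)).obj C))) =
      (EtBC.pushToPushPullH g f h e w).app ((HomotopyCategory.quotient _ _).obj C) ≫
        ((EtCoh.push f).mapHomotopyCategory (ComplexShape.up ℤ)).map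
          ((EtBC.pushToPushPullH h i j k w').app ((HomotopyCategory.quotient _ _).obj
            (((EtCoh.pull e).mapHomologicalComplex (ComplexShape.up ℤ)).obj C))) ≫
        ((EtCoh.push f).mapHomotopyCategory (ComplexShape.up ℤ)).map
          (((EtCoh.push i).mapHomotopyCategory (ComplexShape.up ℤ)).map
            (((EtCoh.push j).mapHomotopyCategory (ComplexShape.up ℤ)).map
              ((ζH e k).hom.app ((HomotopyCategory.quotient _ _).obj C))))
  rw [pTPPH_app, pTPPH_app, pTPPH_app, κ_app, ζH_app]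
  simp only [Functor.mapHomotopyCategory_map, ← Functor.map_comp]
  congr 1
  refine HomologicalComplex.hom_ext _ _ (fun n => ?_)
  simp only [HomologicalComplex.comp_f, θ_f, κc_f, Functor.mapHomologicalComplex_map_f,
    Functor.mapHomologicalComplexCompIso_hom_app_f, Functor.map_comp]
  exact pTPP_pasting f g h e w i j k w' w'' (C.X n)

end Groth.Agent.Helper29.BcD2
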