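import Mathlib
import Groth.Prelude.Def_EtBCD
import Groth.Prelude.Def_SixF1
import Groth.Agent.Lib.Helper29.BcD2

/-!
# Pasting of the derived base change maps `EtBC.bcAdj` (helper29)
-/

set_option autoImplicit false

open CategoryTheory CategoryTheory.Limits AlgebraicGeometry

attribute [local instance] HasDerivedCategory.standard

namespace Groth.Agent.Helper29.BcD3

open Groth.Agent.Helper29.EdgeE Groth.Agent.Helper29.BcD2

universe u

/-- `f_*` on homotopy categories -/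
noncomputable abbrev pushH {X Y : Scheme.{u}} (f : X ⟶ Y) :=
  (EtCoh.push f).mapHomotopyCategory (ComplexShape.up ℤ)

/-- `f⁻¹` on homotopy categories -/
noncomputable abbrev pullH {X Y : Scheme.{u}} (f : X ⟶ Y) :=
  (EtCoh.pull f).mapHomotopyCategory (ComplexShape.up ℤ)

/-- the unit of `Rf_*` -/
noncomputable abbrev α {X Y : Scheme.{u}} (f : X ⟶ Y) [DCoh.HasRpushEt X f] :
    DCoh.pushEtKh X f ⟶ DerivedCategory.Qh ⋙ DCoh.RpushEt X f :=
  (DCoh.pushEtKh X f).totalRightDerivedUnit DerivedCategory.Qh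
    (HomotopyCategory.quasiIso (EtCoh.Ab X) (ComplexShape.up ℤ))

/-- `Qh ⋙ pullD e ≅ pullH e ⋙ Qh` -/
noncomputable abbrev fac {X Y : Scheme.{u}} (e : X ⟶ Y) [PreservesFiniteLimits (EtCoh.pull e)] :
    DerivedCategory.Qh ⋙ EtBC.pullD e ≅ pullH e ⋙ DerivedCategory.Qh :=
  (EtCoh.pull e).mapDerivedCategoryFactorsh

section Zeta

variable {Y T Z : Scheme.{u}} (e : Y ⟶ T) (k : Z ⟶ Y)
  [PreservesFiniteLimits (EtCoh.pull e)] [PreservesFiniteLimits (EtCoh.pull k)]
  [PreservesFiniteLimits (EtCoh.pull (k ≫ e))]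

/-- lifting iso for the composite `pullD e ⋙ pullD k` -/
noncomputable def facComp :
    DerivedCategory.Qh ⋙ (EtBC.pullD e ⋙ EtBC.pullD k) ≅
      (pullH e ⋙ pullH k) ⋙ DerivedCategory.Qh :=
  (Functor.associator _ _ _).symm ≪≫ Functor.isoWhiskerRight (fac e) (EtBC.pullD k) ≪≫
    Functor.associator _ _ _ ≪≫ Functor.isoWhiskerLeft (pullH e) (fac k) ≪≫
    (Functor.associator _ _ _).symm

lemma facComp_hom_app (K : HomotopyCategory (EtCoh.Ab T) (ComplexShape.up ℤ)) :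
    (facComp e k).hom.app K =
      (EtBC.pullD k).map ((fac e).hom.app K) ≫ (fac k).hom.app ((pullH e).obj K) := by
  simp [facComp]

/-- `k⁻¹ e⁻¹ ≅ (k ≫ e)⁻¹` on derived categories -/
noncomputable def ζD : EtBC.pullD e ⋙ EtBC.pullD k ≅ EtBC.pullD (k ≫ e) :=
  letI : Localization.Lifting DerivedCategory.Qh
      (HomotopyCategory.quasiIso (EtCoh.Ab T) (ComplexShape.up ℤ))
      ((pullH e ⋙ pullH k) ⋙ DerivedCategory.Qh) (EtBC.pullD e ⋙ EtBC.pullD k) := ⟨facComp e k⟩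
  Localization.liftNatIso DerivedCategory.Qh
    (HomotopyCategory.quasiIso (EtCoh.Ab T) (ComplexShape.up ℤ))
    ((pullH e ⋙ pullH k) ⋙ DerivedCategory.Qh) (pullH (k ≫ e) ⋙ DerivedCategory.Qh)
    (EtBC.pullD e ⋙ EtBC.pullD k) (EtBC.pullD (k ≫ e)) (Functor.isoWhiskerRight (ζH e k) DerivedCategory.Qh)

lemma ζD_hom_app (K : HomotopyCategory (EtCoh.Ab T) (ComplexShape.up ℤ)) :
    (ζD e k).hom.app (DerivedCategory.Qh.obj K) =
      (facComp e k).hom.app K ≫ DerivedCategory.Qh.map ((ζH e k).hom.app K) ≫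
        (fac (k ≫ e)).inv.app K := by
  letI : Localization.Lifting DerivedCategory.Qh
      (HomotopyCategory.quasiIso (EtCoh.Ab T) (ComplexShape.up ℤ))
      ((pullH e ⋙ pullH k) ⋙ DerivedCategory.Qh) (EtBC.pullD e ⋙ EtBC.pullD k) := ⟨facComp e k⟩
  exact Localization.liftNatTrans_app DerivedCategory.Qh
    (HomotopyCategory.quasiIso (EtCoh.Ab T) (ComplexShape.up ℤ))
    ((pullH e ⋙ pullH k) ⋙ DerivedCategory.Qh) (pullH (k ≫ e) ⋙ DerivedCategory.Qh)
    (EtBC.pullD e ⋙ EtBC.pullD k) (EtBC.pullD (k ≫ e))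
    (Functor.isoWhiskerRight (ζH e k) DerivedCategory.Qh).hom K

/-- property (C) -/
lemma ζD_compat (K : HomotopyCategory (EtCoh.Ab T) (ComplexShape.up ℤ)) :
    (fac k).inv.app ((pullH e).obj K) ≫ (EtBC.pullD k).map ((fac e).inv.app K) ≫
        (ζD e k).hom.app (DerivedCategory.Qh.obj K) =
      DerivedCategory.Qh.map ((ζH e k).hom.app K) ≫ (fac (k ≫ e)).inv.app K := by
  rw [ζD_hom_app, facComp_hom_app]
  simp only [Category.assoc]
  rw [← (EtBC.pullD k).map_comp_assoc, Iso.inv_hom_id_app]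
  simp

end Zeta

section Formulas

variable {X S X' S' : Scheme.{u}} (f : X ⟶ S) (g : S' ⟶ S) (f' : X' ⟶ S') (g' : X' ⟶ X)
  (w : g' ≫ f = f' ≫ g)
  [PreservesFiniteLimits (EtCoh.pull g')] [DCoh.HasRpushEt X f] [DCoh.HasRpushEt X' f']
  [DCoh.HasRpushEt S' g]

lemma bcUnit_app (K : HomotopyCategory (EtCoh.Ab X) (ComplexShape.up ℤ)) :
    (EtBC.bcUnit f g f' g' w).app K =
      DerivedCategory.Qh.map ((EtBC.pushToPushPullH f g f' g' w).app K) ≫
        (α g).app ((pushH f').obj ((pullH g').obj K)) ≫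
        (DCoh.RpushEt S' g).map ((α f').app ((pullH g').obj K)) ≫
        (DCoh.RpushEt S' g).map ((DCoh.RpushEt X' f').map ((fac g').inv.app K)) := by
  simp [EtBC.bcUnit]

@[reassoc]
lemma α_bcAdj (K : HomotopyCategory (EtCoh.Ab X) (ComplexShape.up ℤ)) :
    (α f).app K ≫ (EtBC.bcAdj f g f' g' w).app (DerivedCategory.Qh.obj K) =
      (EtBC.bcUnit f g f' g' w).app K := by
  unfold EtBC.bcAdj
  exact Functor.rightDerived_fac_app _ _ _ _ _ K

end Formulas

section Comp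

variable {X Y Z : Scheme.{u}} (f : X ⟶ Y) (g : Y ⟶ Z)
  [DCoh.HasRpushEt X f] [DCoh.HasRpushEt Y g] [DCoh.HasRpushEt X (f ≫ g)]

lemma compUnit_app (K : HomotopyCategory (EtCoh.Ab X) (ComplexShape.up ℤ)) :
    (EtSix.compUnit f g).app K =
      DerivedCategory.Qh.map ((κ g f).app K) ≫ (α g).app ((pushH f).obj K) ≫
        (DCoh.RpushEt Y g).map ((α f).app K) := by
  simp [EtSix.compUnit, κ]

@[reassoc]
lemma α_compMap (K : HomotopyCategory (EtCoh.Ab X) (ComplexShape.up ℤ)) :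
    (α (f ≫ g)).app K ≫ (EtSix.compMap f g).app (DerivedCategory.Qh.obj K) =
      (EtSix.compUnit f g).app K := by
  unfold EtSix.compMap
  exact Functor.rightDerived_fac_app _ _ _ _ _ K

end Comp

end Groth.Agent.Helper29.BcD3
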