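import Mathlib
import Groth.Prelude.Def_EtBCD
import Groth.Prelude.Def_SixF1
import Groth.Agent.Lib.Helper29.BcD3

/-!
# Pasting of the derived base change maps `EtBC.bcAdj`: the main identity (helper29)
-/

set_option autoImplicit false

open CategoryTheory CategoryTheory.Limits AlgebraicGeometry

attribute [local instance] HasDerivedCategory.standard

namespace Groth.Agent.Helper29.BcD4

open Groth.Agent.Helper29.EdgeE Groth.Agent.Helper29.BcD2 Groth.Agent.Helper29.BcD3

universe u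

variable {X S Y T W Z : Scheme.{u}} (f : X ⟶ S) (g : T ⟶ S) (h : Y ⟶ X) (e : Y ⟶ T)
    (w : e ≫ g = h ≫ f) (i : W ⟶ X) (j : Z ⟶ W) (k : Z ⟶ Y) (w' : k ≫ h = j ≫ i)
    (w'' : (k ≫ e) ≫ g = j ≫ (i ≫ f))
    [PreservesFiniteLimits (EtCoh.pull e)] [PreservesFiniteLimits (EtCoh.pull k)]
    [PreservesFiniteLimits (EtCoh.pull (k ≫ e))]
    [DCoh.HasRpushEt T g] [DCoh.HasRpushEt Y h] [DCoh.HasRpushEt Z j] [DCoh.HasRpushEt X f]
    [DCoh.HasRpushEt W i] [DCoh.HasRpushEt W (i ≫ f)]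

/-- the identification of the two targets -/
noncomputable def ω :
    EtBC.pullD e ⋙ ((EtBC.pullD k ⋙ DCoh.RpushEt Z j ⋙ DCoh.RpushEt W i) ⋙ DCoh.RpushEt X f) ⟶
      EtBC.pullD (k ≫ e) ⋙ DCoh.RpushEt Z j ⋙ DCoh.RpushEt W i ⋙ DCoh.RpushEt X f :=
  Functor.whiskerRight (ζD e k).hom (DCoh.RpushEt Z j ⋙ DCoh.RpushEt W i ⋙ DCoh.RpushEt X f)

lemma ω_app (K : DCoh.DEt T) :
    (ω (f := f) (e := e) (i := i) (j := j) (k := k)).app K =
      (DCoh.RpushEt X f).map ((DCoh.RpushEt W i).map ((DCoh.RpushEt Z j).map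
        ((ζD e k).hom.app K))) := rfl

/-- first composite -/
noncomputable def γ₁ : DCoh.RpushEt T g ⟶
    EtBC.pullD (k ≫ e) ⋙ DCoh.RpushEt Z j ⋙ DCoh.RpushEt W i ⋙ DCoh.RpushEt X f :=
  EtBC.bcAdj g (i ≫ f) j (k ≫ e) w'' ≫
    Functor.whiskerLeft (EtBC.pullD (k ≫ e)) (Functor.whiskerLeft (DCoh.RpushEt Z j)
      (EtSix.compMap i f))

/-- second composite -/
noncomputable def γ₂ : DCoh.RpushEt T g ⟶
    EtBC.pullD (k ≫ e) ⋙ DCoh.RpushEt Z j ⋙ DCoh.RpushEt W i ⋙ DCoh.RpushEt X f :=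
  EtBC.bcAdj g f h e w ≫
    Functor.whiskerLeft (EtBC.pullD e) (Functor.whiskerRight (EtBC.bcAdj h i j k w')
      (DCoh.RpushEt X f)) ≫ ω (f := f) (e := e) (i := i) (j := j) (k := k)

lemma γ₁_app (K : DCoh.DEt T) :
    (γ₁ (f := f) (g := g) (e := e) (i := i) (j := j) (k := k) w'').app K =
      (EtBC.bcAdj g (i ≫ f) j (k ≫ e) w'').app K ≫
        (EtSix.compMap i f).app ((DCoh.RpushEt Z j).obj ((EtBC.pullD (k ≫ e)).obj K)) := rfl

lemma γ₂_app (K : DCoh.DEt T) :
    (γ₂ (f := f) (g := g) (h := h) (e := e) w (i := i) (j := j) (k := k) w').app K =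
      (EtBC.bcAdj g f h e w).app K ≫
        (DCoh.RpushEt X f).map ((EtBC.bcAdj h i j k w').app ((EtBC.pullD e).obj K)) ≫
        (DCoh.RpushEt X f).map ((DCoh.RpushEt W i).map ((DCoh.RpushEt Z j).map
          ((ζD e k).hom.app K))) := rfl

/-- the common tail -/
noncomputable def Zt (K : HomotopyCategory (EtCoh.Ab T) (ComplexShape.up ℤ)) :
    DerivedCategory.Qh.obj ((pushH i).obj ((pushH j).obj ((pullH (k ≫ e)).obj K))) ⟶
      (DCoh.RpushEt W i).obj ((DCoh.RpushEt Z j).obj ((EtBC.pullD (k ≫ e)).obj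
        (DerivedCategory.Qh.obj K))) :=
  (α i).app ((pushH j).obj ((pullH (k ≫ e)).obj K)) ≫
    (DCoh.RpushEt W i).map ((α j).app ((pullH (k ≫ e)).obj K)) ≫
    (DCoh.RpushEt W i).map ((DCoh.RpushEt Z j).map ((fac (k ≫ e)).inv.app K))

lemma hX (K : HomotopyCategory (EtCoh.Ab T) (ComplexShape.up ℤ)) :
    (α h).app ((pullH e).obj K) ≫ (DCoh.RpushEt Y h).map ((fac e).inv.app K) ≫
        (EtBC.bcAdj h i j k w').app ((EtBC.pullD e).obj (DerivedCategory.Qh.obj K)) ≫
        (DCoh.RpushEt W i).map ((DCoh.RpushEt Z j).map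
          ((ζD e k).hom.app (DerivedCategory.Qh.obj K))) =
      DerivedCategory.Qh.map ((EtBC.pushToPushPullH h i j k w').app ((pullH e).obj K) ≫
        (pushH i).map ((pushH j).map ((ζH e k).hom.app K))) ≫ Zt (e := e) (i := i) (j := j) (k := k) K := by
  have n1 := (EtBC.bcAdj h i j k w').naturality ((fac e).inv.app K)
  simp only [Functor.comp_map, Functor.comp_obj] at n1
  rw [reassoc_of% n1, α_bcAdj_assoc, bcUnit_app]
  simp only [Category.assoc, ← Functor.map_comp]
  rw [ζD_compat]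
  have n2 := (α j).naturality ((ζH e k).hom.app K)
  have n3 := (α i).naturality ((pushH j).map ((ζH e k).hom.app K))
  simp only [Functor.comp_map, Functor.comp_obj] at n2 n3
  simp only [Functor.map_comp, Category.assoc]
  have e1 : (DCoh.RpushEt W i).map ((α j).app ((pullH k).obj ((pullH e).obj K))) ≫
      (DCoh.RpushEt W i).map ((DCoh.RpushEt Z j).map
        (DerivedCategory.Qh.map ((ζH e k).hom.app K))) =
      (DCoh.RpushEt W i).map (DerivedCategory.Qh.map ((pushH j).map ((ζH e k).hom.app K))) ≫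
        (DCoh.RpushEt W i).map ((α j).app ((pullH (k ≫ e)).obj K)) := by
    rw [← Functor.map_comp, ← Functor.map_comp]
    exact congrArg _ n2.symm
  rw [reassoc_of% e1, ← reassoc_of% n3]
  rfl

lemma hL (K : HomotopyCategory (EtCoh.Ab T) (ComplexShape.up ℤ)) :
    (α g).app K ≫ (γ₁ (f := f) (g := g) (e := e) (i := i) (j := j) (k := k) w'').app
        (DerivedCategory.Qh.obj K) =
      DerivedCategory.Qh.map ((EtBC.pushToPushPullH g (i ≫ f) j (k ≫ e) w'').app K ≫
          (κ f i).app ((pushH j).obj ((pullH (k ≫ e)).obj K))) ≫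
        (α f).app ((pushH i).obj ((pushH j).obj ((pullH (k ≫ e)).obj K))) ≫
        (DCoh.RpushEt X f).map (Zt (e := e) (i := i) (j := j) (k := k) K) := by
  rw [γ₁_app, α_bcAdj_assoc, bcUnit_app]
  have n1 := (EtSix.compMap i f).naturality
    ((DCoh.RpushEt Z j).map ((fac (k ≫ e)).inv.app K))
  have n2 := (EtSix.compMap i f).naturality ((α j).app ((pullH (k ≫ e)).obj K))
  simp only [Functor.comp_map, Functor.comp_obj] at n1 n2
  simp only [Category.assoc]
  rw [n1, reassoc_of% n2, α_compMap_assoc, compUnit_app]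
  simp only [Zt, Functor.map_comp, Category.assoc]

lemma hR (K : HomotopyCategory (EtCoh.Ab T) (ComplexShape.up ℤ)) :
    (α g).app K ≫ (γ₂ (f := f) (g := g) (h := h) (e := e) w (i := i) (j := j) (k := k) w').app
        (DerivedCategory.Qh.obj K) =
      DerivedCategory.Qh.map ((EtBC.pushToPushPullH g f h e w).app K ≫
          (pushH f).map ((EtBC.pushToPushPullH h i j k w').app ((pullH e).obj K)) ≫
          (pushH f).map ((pushH i).map ((pushH j).map ((ζH e k).hom.app K)))) ≫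
        (α f).app ((pushH i).obj ((pushH j).obj ((pullH (k ≫ e)).obj K))) ≫
        (DCoh.RpushEt X f).map (Zt (e := e) (i := i) (j := j) (k := k) K) := by
  rw [γ₂_app, α_bcAdj_assoc, bcUnit_app]
  simp only [Category.assoc, ← Functor.map_comp]
  rw [hX]
  have n := (α f).naturality ((EtBC.pushToPushPullH h i j k w').app ((pullH e).obj K) ≫
        (pushH i).map ((pushH j).map ((ζH e k).hom.app K)))
  simp only [Functor.comp_map, Functor.comp_obj] at n
  rw [Functor.map_comp, ← reassoc_of% n]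
  simp only [Functor.map_comp, Category.assoc]

theorem γ_eq :
    γ₁ (f := f) (g := g) (e := e) (i := i) (j := j) (k := k) w'' =
      γ₂ (f := f) (g := g) (h := h) (e := e) w (i := i) (j := j) (k := k) w' := by
  apply Functor.rightDerived_ext (DCoh.RpushEt T g) (α g)
    (HomotopyCategory.quasiIso (EtCoh.Ab T) (ComplexShape.up ℤ))
  ext K
  simp only [NatTrans.comp_app, Functor.whiskerLeft_app]
  rw [hL, hR (w := w) (w' := w'), pTPPH_pasting f g h e w i j k w' w'']

/-- **Pasting of `EtBC.bcAdj`.** -/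
theorem bcAdj_pasting (K : DCoh.DEt T) :
    (EtBC.bcAdj g (i ≫ f) j (k ≫ e) w'').app K ≫
        (EtSix.compMap i f).app ((DCoh.RpushEt Z j).obj ((EtBC.pullD (k ≫ e)).obj K)) =
      (EtBC.bcAdj g f h e w).app K ≫
        (DCoh.RpushEt X f).map ((EtBC.bcAdj h i j k w').app ((EtBC.pullD e).obj K)) ≫
        (DCoh.RpushEt X f).map ((DCoh.RpushEt W i).map ((DCoh.RpushEt Z j).map
          ((ζD e k).hom.app K))) := by
  have := congrArg (fun t => t.app K) (γ_eq f g h e w i j k w' w'')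
  exact this

end Groth.Agent.Helper29.BcD4
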