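import Mathlib
import Groth.Prelude.Def_SixF1
import Groth.Agent.Lib.Helper11.KI1
import Groth.Agent.Lib.Helper29.DAdjA
import Groth.Agent.S0101

/-!
# Composition of unbounded derived direct images on small étale sites
-/

set_option autoImplicit false

universe u

open CategoryTheory CategoryTheory.Limits AlgebraicGeometry Opposite

attribute [local instance] HasDerivedCategory.standard

namespace Groth.Agent.Helper29.EtComp

open Groth.Agent.Helper11.KI

variable {X Y Z : Scheme.{u}} (f : X ⟶ Y) (g : Y ⟶ Z)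

instance : PreservesFiniteLimits (EtCoh.pull f) := Groth.Agent.S0101.result f

instance : PreservesFiniteColimits (EtCoh.pull f) :=
  haveI : PreservesColimitsOfSize.{0, 0} (EtCoh.pull f) :=
    (EtCoh.pullPushAdj f).leftAdjoint_preservesColimits
  PreservesColimitsOfSize.preservesFiniteColimits _

instance : (EtCoh.pull f).Additive := (EtCoh.pullPushAdj f).left_adjoint_additive

lemma isKInjective_push (I : CochainComplex (EtCoh.Ab X) ℤ) [I.IsKInjective] :
    CochainComplex.IsKInjective
      (((EtCoh.push f).mapHomologicalComplex (ComplexShape.up ℤ)).obj I) :=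
  Groth.Agent.Helper29.DAdjA.isKInjective_map (EtCoh.pullPushAdj f) I

theorem isIso_compUnit_app [DCoh.HasRpushEt X f] [DCoh.HasRpushEt Y g]
    (I : CochainComplex (EtCoh.Ab X) ℤ) [I.IsKInjective] :
    IsIso ((EtSix.compUnit f g).app ((quo (EtCoh.Ab X)).obj I)) := by
  haveI h1 : IsIso (((DCoh.pushEtKh X f).totalRightDerivedUnit DerivedCategory.Qh
      (HomotopyCategory.quasiIso (EtCoh.Ab X) (ComplexShape.up ℤ))).app
        ((quo (EtCoh.Ab X)).obj I)) :=
    isIso_unit _ (DCoh.RpushEt X f) _ I
  haveI := isKInjective_push f I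
  haveI h2 : IsIso (((DCoh.pushEtKh Y g).totalRightDerivedUnit DerivedCategory.Qh
      (HomotopyCategory.quasiIso (EtCoh.Ab Y) (ComplexShape.up ℤ))).app
        ((quo (EtCoh.Ab Y)).obj
          (((EtCoh.push f).mapHomologicalComplex (ComplexShape.up ℤ)).obj I))) :=
    isIso_unit _ (DCoh.RpushEt Y g) _ _
  haveI h3 : IsIso (NatTrans.mapHomotopyCategory (EtCoh.pushComp g f).inv (ComplexShape.up ℤ)) := by
    refine ⟨NatTrans.mapHomotopyCategory (EtCoh.pushComp g f).hom (ComplexShape.up ℤ), ?_, ?_⟩
    · rw [← NatTrans.mapHomotopyCategory_comp, Iso.inv_hom_id, NatTrans.mapHomotopyCategory_id]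
    · rw [← NatTrans.mapHomotopyCategory_comp, Iso.hom_inv_id, NatTrans.mapHomotopyCategory_id]
  unfold EtSix.compUnit
  simp only [NatTrans.comp_app, Functor.whiskerRight_app, Functor.whiskerLeft_app,
    Functor.associator_hom_app, Functor.associator_inv_app, Category.id_comp, Category.comp_id]
  haveI h2' : IsIso (((DCoh.pushEtKh Y g).totalRightDerivedUnit DerivedCategory.Qh
      (HomotopyCategory.quasiIso (EtCoh.Ab Y) (ComplexShape.up ℤ))).app
        (((EtCoh.push f).mapHomotopyCategory (ComplexShape.up ℤ)).obj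
          ((quo (EtCoh.Ab X)).obj I))) := h2
  infer_instance

theorem main [DCoh.HasRpushEt X f] [DCoh.HasRpushEt Y g] [DCoh.HasRpushEt X (f ≫ g)] :
    IsIso (EtSix.compMap f g) := by
  unfold EtSix.compMap
  rw [← Functor.isRightDerivedFunctor_iff_isIso_rightDerivedDesc]
  exact isRightDerivedFunctor_of_isIso _ _ _ (fun I _ => isIso_compUnit_app f g I)

end Groth.Agent.Helper29.EtComp
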