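import Mathlib
import Groth.Prelude.Def_EtBCD
import Groth.Prelude.Def_SixF1
import Groth.Agent.Lib.Helper10.MatePaste
import Groth.Agent.Lib.Helper29.EtComp
import Groth.Agent.Lib.Helper29.BcD4

/-!
# Pasting of the derived base change maps `EtBC.bcMap` (helper29)
-/

set_option autoImplicit false

open CategoryTheory CategoryTheory.Limits AlgebraicGeometry

attribute [local instance] HasDerivedCategory.standard

namespace Groth.Agent.Helper29.BcD5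

open Groth.Agent.Helper10.MatePaste Groth.Agent.Helper29.BcD3 Groth.Agent.Helper29.BcD4

section Abstract

universe v₁ v₂ v₃ u₁ u₂ u₃

variable {𝒜 : Type u₁} [Category.{v₁} 𝒜] {ℬ : Type u₂} [Category.{v₂} ℬ]
  {𝒞 : Type u₃} [Category.{v₃} 𝒞]
  {L₁ : 𝒜 ⥤ ℬ} {R₁ : ℬ ⥤ 𝒜} {L₂ : ℬ ⥤ 𝒞} {R₂ : 𝒞 ⥤ ℬ} {L₃ : 𝒜 ⥤ 𝒞} {R₃ : 𝒞 ⥤ 𝒜}
  (adj₁ : L₁ ⊣ R₁) (adj₂ : L₂ ⊣ R₂) (adj₃ : L₃ ⊣ R₃) (c : R₃ ≅ R₂ ⋙ R₁)

lemma transpose_pasting {A : 𝒜} {B : ℬ} {C C' : 𝒞} (a : A ⟶ R₁.obj B) (b : B ⟶ R₂.obj C)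
    (m : C ⟶ C') (ψ : A ⟶ R₃.obj C')
    (hψ : ψ ≫ c.hom.app C' = a ≫ R₁.map b ≫ R₁.map (R₂.map m)) :
    (adj₃.homEquiv A C').symm ψ =
      (Adjunction.leftAdjointUniq adj₃ ((adj₁.comp adj₂).ofNatIsoRight c.symm)).hom.app A ≫
        L₂.map ((adj₁.homEquiv A B).symm a) ≫ (adj₂.homEquiv B C).symm b ≫ m := by
  rw [homEquiv_symm_changeLeft ((adj₁.comp adj₂).ofNatIsoRight c.symm) adj₃]
  congr 1
  rw [Adjunction.homEquiv_ofNatIsoRight_symm_apply]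
  have : ψ ≫ c.symm.inv.app C' = a ≫ R₁.map (b ≫ R₂.map m) := by
    rw [Functor.map_comp]
    exact hψ
  rw [this, Adjunction.comp_homEquiv]
  simp only [Equiv.symm_trans_apply]
  rw [Adjunction.homEquiv_naturality_right_symm, Adjunction.homEquiv_naturality_left_symm,
    Adjunction.homEquiv_naturality_right_symm]

lemma isIso_transpose_pasting {A : 𝒜} {B : ℬ} {C C' : 𝒞} (a : A ⟶ R₁.obj B) (b : B ⟶ R₂.obj C)
    (m : C ⟶ C') [IsIso m] (ψ : A ⟶ R₃.obj C')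
    (hψ : ψ ≫ c.hom.app C' = a ≫ R₁.map b ≫ R₁.map (R₂.map m))
    (h1 : IsIso ((adj₁.homEquiv A B).symm a)) (h2 : IsIso ((adj₂.homEquiv B C).symm b)) :
    IsIso ((adj₃.homEquiv A C').symm ψ) := by
  rw [transpose_pasting adj₁ adj₂ adj₃ c a b m ψ hψ]
  infer_instance

end Abstract

universe u

variable {X S Y T W Z : Scheme.{u}} (f : X ⟶ S) (g : T ⟶ S) (h : Y ⟶ X) (e : Y ⟶ T)
    (w : e ≫ g = h ≫ f) (i : W ⟶ X) (j : Z ⟶ W) (k : Z ⟶ Y) (w' : k ≫ h = j ≫ i)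
    (w'' : (k ≫ e) ≫ g = j ≫ (i ≫ f))
    [PreservesFiniteLimits (EtCoh.pull f)] [PreservesFiniteLimits (EtCoh.pull i)]
    [PreservesFiniteLimits (EtCoh.pull (i ≫ f))] [PreservesFiniteLimits (EtCoh.pull e)]
    [PreservesFiniteLimits (EtCoh.pull k)] [PreservesFiniteLimits (EtCoh.pull (k ≫ e))]
    [DCoh.HasRpushEt T g] [DCoh.HasRpushEt Y h] [DCoh.HasRpushEt Z j] [DCoh.HasRpushEt X f]
    [DCoh.HasRpushEt W i] [DCoh.HasRpushEt W (i ≫ f)]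
    (adj₁ : EtBC.pullD f ⊣ DCoh.RpushEt X f) (adj₂ : EtBC.pullD i ⊣ DCoh.RpushEt W i)
    (adj₃ : EtBC.pullD (i ≫ f) ⊣ DCoh.RpushEt W (i ≫ f)) (K : DCoh.DEt T)

theorem isIso_bcMap_pasting
    (h1 : IsIso (EtBC.bcMap g f h e w adj₁ K))
    (h2 : IsIso (EtBC.bcMap h i j k w' adj₂ ((EtBC.pullD e).obj K))) :
    IsIso (EtBC.bcMap g (i ≫ f) j (k ≫ e) w'' adj₃ K) := by
  haveI : IsIso (EtSix.compMap i f) := Groth.Agent.Helper29.EtComp.main i f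
  unfold EtBC.bcMap at h1 h2 ⊢
  exact isIso_transpose_pasting adj₁ adj₂ adj₃ (asIso (EtSix.compMap i f))
    ((EtBC.bcAdj g f h e w).app K) ((EtBC.bcAdj h i j k w').app ((EtBC.pullD e).obj K))
    ((DCoh.RpushEt Z j).map ((ζD e k).hom.app K)) ((EtBC.bcAdj g (i ≫ f) j (k ≫ e) w'').app K)
    (bcAdj_pasting f g h e w i j k w' w'' K) h1 h2

end Groth.Agent.Helper29.BcD5
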