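import Mathlib

set_option autoImplicit false
universe u v

namespace Groth.Agent.Helper29

open Polynomial

theorem aeval_reflect_unit {k : Type*} [Field k] {A : Type*} [Ring A] [Algebra k A] (u : Aˣ) (N : ℕ)
    (f : k[X]) (hf : f.natDegree ≤ N) :
    aeval (u : A) (reflect N f) = (u : A) ^ N * aeval ((u⁻¹ : Aˣ) : A) f := by
  refine induction_with_natDegree_le
    (fun f => aeval (u : A) (reflect N f) = (u : A) ^ N * aeval ((u⁻¹ : Aˣ) : A) f) N ?_ ?_ ?_ f hf
  · simp
  · intro n r _ hnN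
    simp only [reflect_C_mul_X_pow, revAt_le hnN, map_mul, aeval_C, map_pow, aeval_X]
    rw [Algebra.algebraMap_eq_smul_one, smul_mul_assoc, one_mul, smul_mul_assoc, one_mul, mul_smul_comm]
    congr 1
    have : (u : A) ^ N = (u : A) ^ (N - n) * (u : A) ^ n := by rw [← pow_add, Nat.sub_add_cancel hnN]
    rw [this, mul_assoc]
    have h2 : (u : A) ^ n * ((u⁻¹ : Aˣ) : A) ^ n = 1 := by
      rw [← Units.val_pow_eq_pow_val, ← Units.val_pow_eq_pow_val, ← Units.val_mul]
      simp
    rw [h2, mul_one]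
  · intro f g _ _ hf hg
    rw [reflect_add, map_add, map_add, mul_add, hf, hg]

variable {k : Type u} [Field k] {V : Type v} [AddCommGroup V] [Module k V]

/-- similitude version: `B (M x) (M y) = q * B x y` with `q ≠ 0`. For an isometry take `q = 1`. -/
theorem bilin_pow_adjoint (B : LinearMap.BilinForm k V) (M : V ≃ₗ[k] V)
    (hM : ∀ x y : V, B (M x) (M y) = B x y) (n : ℕ) (x y : V) :
    B (((M : V →ₗ[k] V) ^ n) x) y = B x (((M.symm : V →ₗ[k] V) ^ n) y) := by
  induction n generalizing x y with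
  | zero => simp
  | succ n ih =>
    rw [pow_succ', pow_succ]
    simp only [Module.End.mul_apply, LinearEquiv.coe_coe]
    have := hM (((M : V →ₗ[k] V) ^ n) x) (M.symm y)
    rw [M.apply_symm_apply] at this
    rw [this, ih]

theorem bilin_aeval_adjoint (B : LinearMap.BilinForm k V) (M : V ≃ₗ[k] V)
    (hM : ∀ x y : V, B (M x) (M y) = B x y) (P : k[X]) (x y : V) :
    B (aeval (M : V →ₗ[k] V) P x) y = B x (aeval (M.symm : V →ₗ[k] V) P y) := by
  induction P using Polynomial.induction_on' with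
  | add p q hp hq =>
    simp only [map_add, LinearMap.add_apply, hp, hq]
  | monomial n a =>
    simp only [aeval_monomial, Module.algebraMap_end_eq_smul_id, LinearMap.smul_apply,
      Module.End.mul_apply, LinearMap.id_coe, id_eq, map_smul]
    rw [bilin_pow_adjoint B M hM]

theorem symm_isometry (B : LinearMap.BilinForm k V) (M : V ≃ₗ[k] V)
    (hM : ∀ x y : V, B (M x) (M y) = B x y) (x y : V) : B (M.symm x) (M.symm y) = B x y := by
  have := hM (M.symm x) (M.symm y)
  simpa using this.symm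

theorem bilin_aeval_adjoint' (B : LinearMap.BilinForm k V) (M : V ≃ₗ[k] V)
    (hM : ∀ x y : V, B (M x) (M y) = B x y) (P : k[X]) (x y : V) :
    B (aeval (M.symm : V →ₗ[k] V) P x) y = B x (aeval (M : V →ₗ[k] V) P y) := by
  have := bilin_aeval_adjoint B M.symm (symm_isometry B M hM) P x y
  simpa using this

/-- `aeval M (reverse Q) = M ^ d * aeval M⁻¹ Q`. -/
theorem aeval_reverse_equiv (M : V ≃ₗ[k] V) (Q : k[X]) :
    aeval (M : V →ₗ[k] V) Q.reverse =
      (M : V →ₗ[k] V) ^ Q.natDegree * aeval (M.symm : V →ₗ[k] V) Q :=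
  aeval_reflect_unit (LinearMap.GeneralLinearGroup.ofLinearEquiv M) Q.natDegree Q le_rfl

theorem commute_equiv_aeval_symm (M : V ≃ₗ[k] V) (Q : k[X]) :
    Commute (M : V →ₗ[k] V) (aeval (M.symm : V →ₗ[k] V) Q) := by
  have h1 : Commute (M.symm : V →ₗ[k] V) (aeval (M.symm : V →ₗ[k] V) Q) := by
    have := (Polynomial.commute_X Q).map (aeval (M.symm : V →ₗ[k] V))
    simpa using this
  have h2 : Commute (((LinearMap.GeneralLinearGroup.ofLinearEquiv M)⁻¹ : (Module.End k V)ˣ) : Module.End k V)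
      (aeval (M.symm : V →ₗ[k] V) Q) := h1
  have h3 := (Commute.units_inv_left_iff (u := LinearMap.GeneralLinearGroup.ofLinearEquiv M)).mp h2
  exact h3

end Groth.Agent.Helper29

namespace Groth.Agent.Helper29

open Polynomial

variable {k : Type u} [Field k] {V : Type v} [AddCommGroup V] [Module k V]

/-- if `Q` is associated to its reverse, then `Q(M)^N x = 0` implies `Q(M⁻¹)^N x = 0`. -/
theorem aeval_symm_pow_eq_zero_of_selfReciprocal (M : V ≃ₗ[k] V) (Q : k[X])
    (hQ : Associated Q Q.reverse) (N : ℕ) (x : V)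
    (hx : (aeval (M : V →ₗ[k] V) Q ^ N) x = 0) :
    (aeval (M.symm : V →ₗ[k] V) Q ^ N) x = 0 := by
  obtain ⟨u, hu⟩ := hQ
  have h1 : aeval (M : V →ₗ[k] V) Q * aeval (M : V →ₗ[k] V) (u : k[X]) =
      (M : V →ₗ[k] V) ^ Q.natDegree * aeval (M.symm : V →ₗ[k] V) Q := by
    rw [← map_mul, hu, aeval_reverse_equiv]
  have hc1 : Commute (aeval (M : V →ₗ[k] V) Q) (aeval (M : V →ₗ[k] V) (u : k[X])) :=
    (Commute.all Q (u : k[X])).map (aeval (M : V →ₗ[k] V))
  have hc2 : Commute ((M : V →ₗ[k] V) ^ Q.natDegree) (aeval (M.symm : V →ₗ[k] V) Q) :=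
    (commute_equiv_aeval_symm M Q).pow_left _
  have h2 : (aeval (M : V →ₗ[k] V) Q * aeval (M : V →ₗ[k] V) (u : k[X])) ^ N =
      ((M : V →ₗ[k] V) ^ Q.natDegree * aeval (M.symm : V →ₗ[k] V) Q) ^ N := by rw [h1]
  rw [hc1.mul_pow, hc2.mul_pow] at h2
  have h3 := congrArg (fun T : Module.End k V => T x) h2
  simp only [Module.End.mul_apply] at h3
  have h4 : (aeval (M : V →ₗ[k] V) Q ^ N) ((aeval (M : V →ₗ[k] V) (u : k[X]) ^ N) x) = 0 := by
    have := (hc1.pow_pow N N).eq
    have h5 := congrArg (fun T : Module.End k V => T x) this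
    simp only [Module.End.mul_apply] at h5
    rw [h5, hx, map_zero]
  rw [h4] at h3
  -- M ^ (d N) is injective
  have hinj : Function.Injective (((M : V →ₗ[k] V) ^ Q.natDegree) ^ N) := by
    rw [← pow_mul]
    have : ((M : V →ₗ[k] V) ^ (Q.natDegree * N)) = ((M ^ (Q.natDegree * N) : V ≃ₗ[k] V) : V →ₗ[k] V) := by
      induction (Q.natDegree * N) with
      | zero => rfl
      | succ n ih => rw [pow_succ, ih, pow_succ]; rfl
    rw [this]
    exact LinearEquiv.injective _
  apply hinj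
  rw [← h3, map_zero]

end Groth.Agent.Helper29
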