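import Mathlib
import Groth.Prelude.Def_W4c1nerontoraddGraph

/-!
# Circuit-coprime labelled multigraphs and the cycle lattice
-/

set_option linter.unusedSectionVars false

namespace Groth.Agent.Helper29.CircuitCoprime

open LabGraph

universe u

variable {V E : Type u} [Fintype V] [Fintype E] [DecidableEq V] [DecidableEq E]
variable (ends : E → V × V)

theorem sum_endCount (C : Finset E) : ∑ v : V, endCount ends C v = 2 * C.card := by
  unfold endCount
  rw [Finset.sum_comm]
  have : ∀ e ∈ C, ∑ v : V, ((if (ends e).1 = v then 1 else 0) +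
      (if (ends e).2 = v then 1 else 0)) = 2 := by
    intro e _
    rw [Finset.sum_add_distrib]
    simp
  rw [Finset.sum_congr rfl this]
  simp [mul_comm]

/-- the touched vertices -/
def VT (C : Finset E) : Finset V := Finset.univ.filter (fun v => endCount ends C v ≠ 0)

theorem card_VT_le (C : Finset E) (h : ∀ v, endCount ends C v ≠ 1) :
    (VT ends C).card ≤ C.card := by
  have h1 : ∑ v ∈ VT ends C, endCount ends C v = ∑ v : V, endCount ends C v := by
    apply Finset.sum_subset (Finset.subset_univ _)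
    intro v _ hv
    simpa [VT] using hv
  have h2 : ∑ v ∈ VT ends C, 2 ≤ ∑ v ∈ VT ends C, endCount ends C v := by
    apply Finset.sum_le_sum
    intro v hv
    have h0 : endCount ends C v ≠ 0 := by simpa [VT] using hv
    have := h v
    omega
  rw [h1, sum_endCount] at h2
  simp at h2
  omega

theorem endCount_pos_of_mem {C : Finset E} {e : E} (he : e ∈ C) {v : V}
    (hv : v = (ends e).1 ∨ v = (ends e).2) : endCount ends C v ≠ 0 := by
  unfold endCount
  intro h0
  rw [Finset.sum_eq_zero_iff] at h0
  have := h0 e he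
  rcases hv with rfl | rfl <;> simp at this

/-- the general kernel lemma: a nonempty edge set without vertices of degree one carries a
nonzero "cycle" for any system of incidence coefficients. -/
theorem exists_kernel {K : Type*} [CommRing K] [Nontrivial K] (T : Finset E) (hT : T.Nonempty)
    (h1 : ∀ v, endCount ends T v ≠ 1) (a : E → V → K)
    (ha1 : ∀ e v, v ≠ (ends e).1 → v ≠ (ends e).2 → a e v = 0)
    (ha2 : ∀ e, ∑ v : V, a e v = 0) :
    ∃ c : E → K, c ≠ 0 ∧ (∀ e, e ∉ T → c e = 0) ∧ ∀ v, ∑ e : E, c e * a e v = 0 := by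
  classical
  obtain ⟨e₀, he₀⟩ := hT
  have hv₀ : (ends e₀).1 ∈ VT ends T := by
    simp only [VT, Finset.mem_filter, Finset.mem_univ, true_and]
    exact endCount_pos_of_mem ends he₀ (Or.inl rfl)
  set v₀ := (ends e₀).1 with hv₀def
  set W := (VT ends T).erase v₀ with hW
  have hcardW : W.card < T.card := by
    have := card_VT_le ends T h1
    have h2 : W.card = (VT ends T).card - 1 := Finset.card_erase_of_mem hv₀
    have h3 : 0 < (VT ends T).card := Finset.card_pos.mpr ⟨_, hv₀⟩
    omega
  let Φ : (T → K) →ₗ[K] (W → K) :=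
    { toFun := fun c w => ∑ e : T, c e * a e.1 w.1
      map_add' := by
        intro c c'
        ext w
        simp [add_mul, Finset.sum_add_distrib]
      map_smul' := by
        intro r c
        ext w
        simp [Finset.mul_sum, mul_assoc] }
  have hninj : ¬ Function.Injective Φ := by
    intro hinj
    have := card_le_of_injective K Φ hinj
    simp only [Fintype.card_coe] at this
    omega
  rw [← LinearMap.ker_eq_bot, Submodule.eq_bot_iff] at hninj
  push Not at hninj
  obtain ⟨c, hc, hc0⟩ := hninj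
  have hΦ : ∀ w : W, ∑ e : T, c e * a e.1 w.1 = 0 := fun w => congrFun hc w
  refine ⟨fun e => if h : e ∈ T then c ⟨e, h⟩ else 0, ?_, ?_, ?_⟩
  · intro h0
    apply hc0
    ext ⟨e, he⟩
    have := congrFun h0 e
    simpa [he] using this
  · intro e he
    simp [he]
  · have hsum : ∀ v, ∑ e : E, (if h : e ∈ T then c ⟨e, h⟩ else 0) * a e v =
        ∑ e : T, c e * a e.1 v := by
      intro v
      rw [← Finset.sum_subset (Finset.subset_univ T)]
      · rw [← Finset.sum_coe_sort T]
        apply Finset.sum_congr rfl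
        intro e _
        simp [e.2]
      · intro e _ he
        simp [he]
    have hout : ∀ v, v ∉ VT ends T → ∑ e : T, c e * a e.1 v = 0 := by
      intro v hv
      apply Finset.sum_eq_zero
      intro e _
      have : a e.1 v = 0 := by
        apply ha1
        · intro h
          exact hv (by
            simp only [VT, Finset.mem_filter, Finset.mem_univ, true_and]
            exact endCount_pos_of_mem ends e.2 (Or.inl h))
        · intro h
          exact hv (by
            simp only [VT, Finset.mem_filter, Finset.mem_univ, true_and]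
            exact endCount_pos_of_mem ends e.2 (Or.inr h))
      rw [this, mul_zero]
    have hne : ∀ v, v ≠ v₀ → ∑ e : T, c e * a e.1 v = 0 := by
      intro v hv
      by_cases hvT : v ∈ VT ends T
      · exact hΦ ⟨v, Finset.mem_erase.mpr ⟨hv, hvT⟩⟩
      · exact hout v hvT
    have htot : ∑ v : V, ∑ e : T, c e * a e.1 v = 0 := by
      rw [Finset.sum_comm]
      apply Finset.sum_eq_zero
      intro e _
      rw [← Finset.mul_sum, ha2, mul_zero]
    intro v
    rw [hsum]
    by_cases hv : v = v₀
    · rw [← Finset.add_sum_erase _ _ (Finset.mem_univ v₀)] at htot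
      rw [Finset.sum_eq_zero (fun v hv' => hne v (Finset.ne_of_mem_erase hv')), add_zero] at htot
      rw [hv]; exact htot
    · exact hne v hv

theorem boundary_eq (γ : E → ℤ) (v : V) :
    boundary ends γ v = ∑ e : E, γ e *
      ((if (ends e).2 = v then 1 else 0) - (if (ends e).1 = v then 1 else 0)) := by
  unfold boundary
  apply Finset.sum_congr rfl
  intro e _
  split_ifs <;> ring

/-- Lemma A: a nonempty even edge set carries a nonzero integral cycle. -/
theorem exists_cycle (C : Finset E) (hC : C.Nonempty) (hev : ∀ v, Even (endCount ends C v)) :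
    ∃ γ : E → ℤ, γ ≠ 0 ∧ (∀ e, e ∉ C → γ e = 0) ∧ ∀ v, boundary ends γ v = 0 := by
  have h1 : ∀ v, endCount ends C v ≠ 1 := by
    intro v h
    have := hev v
    rw [h] at this
    exact absurd this (by decide)
  obtain ⟨c, hc0, hcC, hc⟩ := exists_kernel (K := ℤ) ends C hC h1
    (fun e v => (if (ends e).2 = v then 1 else 0) - (if (ends e).1 = v then 1 else 0))
    (by
      intro e v h1 h2
      simp [Ne.symm h1, Ne.symm h2])
    (by
      intro e
      rw [Finset.sum_sub_distrib]
      simp)
  refine ⟨c, hc0, hcC, fun v => ?_⟩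
  rw [boundary_eq]
  exact hc v

/-- Lemma B: a nonempty edge set without vertices of degree one contains a nonempty even set. -/
theorem exists_even_subset (S : Finset E) (hS : S.Nonempty) (h1 : ∀ v, endCount ends S v ≠ 1) :
    ∃ C : Finset E, C ⊆ S ∧ C.Nonempty ∧ ∀ v, Even (endCount ends C v) := by
  obtain ⟨c, hc0, hcS, hc⟩ := exists_kernel (K := ZMod 2) ends S hS h1
    (fun e v => (if (ends e).1 = v then 1 else 0) + (if (ends e).2 = v then 1 else 0))
    (by
      intro e v h1 h2
      simp [Ne.symm h1, Ne.symm h2])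
    (by
      intro e
      rw [Finset.sum_add_distrib]
      simp
      decide)
  refine ⟨Finset.univ.filter (fun e => c e ≠ 0), ?_, ?_, ?_⟩
  · intro e he
    by_contra h
    have := hcS e h
    simp at he
    exact he this
  · by_contra hne
    rw [Finset.not_nonempty_iff_eq_empty] at hne
    apply hc0
    funext e
    show c e = 0
    by_contra h
    have : e ∈ Finset.univ.filter (fun e => c e ≠ 0) := by simp [h]
    rw [hne] at this
    simp at this
  · intro v
    rw [← ZMod.natCast_eq_zero_iff_even]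
    refine Eq.trans ?_ (hc v)
    unfold endCount
    push_cast
    rw [Finset.sum_filter]
    apply Finset.sum_congr rfl
    intro e _
    have h01 : c e = 0 ∨ c e = 1 := by
      generalize c e = x
      revert x
      decide
    rcases h01 with h | h
    · simp [h]
    · simp [h]

/-- every nonempty even edge set contains a circuit -/
theorem exists_circuit_subset (C' : Finset E) (hC' : C'.Nonempty)
    (hev : ∀ v, Even (endCount ends C' v)) :
    ∃ C : Finset E, C ⊆ C' ∧ IsCircuit ends C := by
  obtain ⟨C, hle, hP, hmin⟩ := exists_minimal_le_of_wellFoundedLT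
    (fun C : Finset E => C.Nonempty ∧ ∀ v, Even (endCount ends C v)) C' ⟨hC', hev⟩
  refine ⟨C, hle, hP.1, hP.2, ?_⟩
  intro C'' hlt hne
  by_contra hcon
  push Not at hcon
  have h2 := hmin ⟨hne, hcon⟩ hlt.1
  exact hlt.2 h2

theorem boundary_mul (d : ℤ) (γ : E → ℤ) (v : V) :
    boundary ends (fun e => d * γ e) v = d * boundary ends γ v := by
  rw [boundary_eq, boundary_eq, Finset.mul_sum]
  apply Finset.sum_congr rfl
  intro e _
  ring

/-- direction (⟸) -/
theorem coprime_of_surj (l : E → ℕ)
    (h : ∀ x : E → ℤ, ∃ y : E → ℤ, ∀ γ : E → ℤ, (∀ v, boundary ends γ v = 0) →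
        ∑ e, γ e * (x e - (l e : ℤ) * y e) = 0) : IsCircuitCoprime ends l := by
  intro C hC
  by_contra hg
  obtain ⟨p, hp, hpg⟩ := Nat.exists_prime_and_dvd hg
  have hpl : ∀ e ∈ C, p ∣ l e := fun e he => hpg.trans (Finset.gcd_dvd he)
  obtain ⟨γ, hγ0, hγC, hγ⟩ := exists_cycle ends C hC.1 hC.2.1
  have hEne : (Finset.univ : Finset E).Nonempty := by
    obtain ⟨e, _⟩ := hC.1
    exact ⟨e, Finset.mem_univ e⟩
  obtain ⟨g, hg1, hg2⟩ := Finset.extract_gcd γ hEne
  set d := (Finset.univ : Finset E).gcd γ with hd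
  have hd0 : d ≠ 0 := by
    intro h0
    apply hγ0
    funext e
    have := hg1 e (Finset.mem_univ e)
    rw [h0, zero_mul] at this
    exact this
  have hγg : γ = fun e => d * g e := funext fun e => hg1 e (Finset.mem_univ e)
  have hgC : ∀ e, e ∉ C → g e = 0 := by
    intro e he
    have := hγC e he
    rw [hg1 e (Finset.mem_univ e)] at this
    exact (mul_eq_zero.mp this).resolve_left hd0
  have hgb : ∀ v, boundary ends g v = 0 := by
    intro v
    have := hγ v
    rw [hγg, boundary_mul] at this
    exact (mul_eq_zero.mp this).resolve_left hd0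
  have hex : ∃ e₀, ¬ (p : ℤ) ∣ g e₀ := by
    by_contra hall
    push Not at hall
    have : (p : ℤ) ∣ (Finset.univ : Finset E).gcd g := Finset.dvd_gcd (fun e _ => hall e)
    rw [hg2] at this
    have h1 := Int.natAbs_dvd_natAbs.mpr this
    simp at h1
    exact hp.one_lt.ne' h1
  obtain ⟨e₀, he₀⟩ := hex
  obtain ⟨y, hy⟩ := h (fun e => if e = e₀ then 1 else 0)
  have key := hy g hgb
  apply he₀
  have hsplit : ∑ e, g e * ((if e = e₀ then (1 : ℤ) else 0) - (l e : ℤ) * y e) =
      g e₀ - ∑ e, g e * ((l e : ℤ) * y e) := by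
    simp [mul_sub, Finset.sum_sub_distrib]
  rw [hsplit, sub_eq_zero] at key
  rw [key]
  apply Finset.dvd_sum
  intro e _
  by_cases heC : e ∈ C
  · have : (p : ℤ) ∣ (l e : ℤ) := by exact_mod_cast hpl e heC
    exact Dvd.dvd.mul_left (Dvd.dvd.mul_right this _) _
  · rw [hgC e heC, zero_mul]
    exact dvd_zero _

/-- a cycle with coefficients in a field, all of whose values are nonzero on its support,
has no vertex of degree one in its support -/
theorem no_leaf {K : Type*} [Field K] [DecidableEq K] (μ : E → K)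
    (hμb : ∀ v, ∑ e, μ e * ((if (ends e).2 = v then 1 else 0) -
      (if (ends e).1 = v then 1 else 0)) = 0) (v : V) :
    endCount ends (Finset.univ.filter (fun e => μ e ≠ 0)) v ≠ 1 := by
  set S' := Finset.univ.filter (fun e => μ e ≠ 0) with hS'
  intro h1
  unfold endCount at h1
  have hex : ∃ e₁ ∈ S', ((if (ends e₁).1 = v then 1 else 0) +
      (if (ends e₁).2 = v then 1 else 0) : ℕ) ≠ 0 := by
    by_contra hcon
    push Not at hcon
    rw [Finset.sum_eq_zero hcon] at h1
    exact absurd h1 (by decide)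
  obtain ⟨e₁, he₁, hne₁⟩ := hex
  rw [← Finset.add_sum_erase _ _ he₁] at h1
  have hrest : ∑ e ∈ S'.erase e₁, ((if (ends e).1 = v then 1 else 0) +
      (if (ends e).2 = v then 1 else 0) : ℕ) = 0 := by omega
  have ht₁ : ((if (ends e₁).1 = v then 1 else 0) +
      (if (ends e₁).2 = v then 1 else 0) : ℕ) = 1 := by omega
  rw [Finset.sum_eq_zero_iff] at hrest
  have hsum := hμb v
  rw [Finset.sum_eq_single e₁] at hsum
  · have hμ₁ : μ e₁ ≠ 0 := (Finset.mem_filter.mp he₁).2
    rcases mul_eq_zero.mp hsum with h | h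
    · exact hμ₁ h
    · by_cases ha : (ends e₁).1 = v <;> by_cases hb : (ends e₁).2 = v <;>
        simp [ha, hb] at ht₁ h
  · intro e _ hne
    by_cases heS : e ∈ S'
    · have := hrest e (Finset.mem_erase.mpr ⟨hne, heS⟩)
      have h1' : ¬ (ends e).1 = v := by
        intro h; simp [h] at this
      have h2' : ¬ (ends e).2 = v := by
        intro h; simp [h] at this
      simp [h1', h2']
    · have : μ e = 0 := by
        by_contra h
        exact heS (Finset.mem_filter.mpr ⟨Finset.mem_univ _, h⟩)
      rw [this, zero_mul]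
  · intro h
    exact absurd (Finset.mem_univ e₁) h

/-- Step 1: the decomposition modulo a prime -/
theorem modp_decomp (l : E → ℕ) (hco : IsCircuitCoprime ends l) (p : ℕ) [Fact p.Prime]
    (u : E → ZMod p) :
    ∃ (a : E → ZMod p) (f : V → ZMod p), (∀ e, p ∣ l e → a e = 0) ∧
      ∀ e, u e = a e + (f (ends e).2 - f (ends e).1) := by
  classical
  let A : Submodule (ZMod p) (E → ZMod p) :=
    { carrier := {a | ∀ e, p ∣ l e → a e = 0}
      add_mem' := by
        intro a b ha hb e he
        simp [ha e he, hb e he]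
      zero_mem' := by intro e _; rfl
      smul_mem' := by
        intro c a ha e he
        simp [ha e he] }
  let δ : (V → ZMod p) →ₗ[ZMod p] (E → ZMod p) :=
    { toFun := fun f e => f (ends e).2 - f (ends e).1
      map_add' := by intro f g; ext e; simp; ring
      map_smul' := by intro c f; ext e; simp; ring }
  by_contra hcon
  have hu : u ∉ A ⊔ LinearMap.range δ := by
    intro hmem
    obtain ⟨a, ha, w, ⟨f, rfl⟩, rfl⟩ := Submodule.mem_sup.mp hmem
    exact hcon ⟨a, f, ha, fun e => rfl⟩
  obtain ⟨φ, hφu, hφ⟩ := Submodule.exists_le_ker_of_notMem hu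
  set μ : E → ZMod p := fun e => φ (fun j => if e = j then 1 else 0) with hμ
  have hφμ : ∀ w : E → ZMod p, φ w = ∑ e, w e * μ e := by
    intro w
    rw [LinearMap.pi_apply_eq_sum_univ φ w]
    rfl
  have hμS : ∀ e, ¬ p ∣ l e → μ e = 0 := by
    intro e he
    have hmem : (fun j => if e = j then (1 : ZMod p) else 0) ∈ A := by
      intro e' he'
      have : e ≠ e' := by
        rintro rfl
        exact he he'
      simp [this]
    exact hφ (Submodule.mem_sup_left hmem)
  have hμb : ∀ v, ∑ e, μ e * ((if (ends e).2 = v then 1 else 0) -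
      (if (ends e).1 = v then 1 else 0)) = 0 := by
    intro v
    have hmem : δ (fun j => if v = j then (1 : ZMod p) else 0) ∈ A ⊔ LinearMap.range δ :=
      Submodule.mem_sup_right ⟨_, rfl⟩
    have h0 : φ (δ (fun j => if v = j then (1 : ZMod p) else 0)) = 0 := hφ hmem
    rw [hφμ] at h0
    refine Eq.trans ?_ h0
    apply Finset.sum_congr rfl
    intro e _
    show μ e * _ = ((if v = (ends e).2 then (1 : ZMod p) else 0) -
      (if v = (ends e).1 then 1 else 0)) * μ e
    simp only [eq_comm (a := v)]
    ring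
  set S' := Finset.univ.filter (fun e => μ e ≠ 0) with hS'
  have hS'ne : S'.Nonempty := by
    by_contra hne
    rw [Finset.not_nonempty_iff_eq_empty] at hne
    apply hφu
    rw [hφμ]
    apply Finset.sum_eq_zero
    intro e _
    have : μ e = 0 := by
      by_contra h
      have : e ∈ S' := Finset.mem_filter.mpr ⟨Finset.mem_univ _, h⟩
      rw [hne] at this
      simp at this
    rw [this, mul_zero]
  have h1 : ∀ v, endCount ends S' v ≠ 1 := no_leaf ends μ hμb
  obtain ⟨C', hC'S, hC'ne, hC'ev⟩ := exists_even_subset ends S' hS'ne h1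
  obtain ⟨C, hCC', hC⟩ := exists_circuit_subset ends C' hC'ne hC'ev
  have hpC : ∀ e ∈ C, p ∣ l e := by
    intro e he
    by_contra h
    exact (Finset.mem_filter.mp (hC'S (hCC' he))).2 (hμS e h)
  have hdvd : p ∣ C.gcd l := Finset.dvd_gcd hpC
  rw [hco C hC] at hdvd
  exact (Fact.out : p.Prime).one_lt.ne' (Nat.dvd_one.mp hdvd)

/-- the decomposition property modulo `n` -/
def Q (l : E → ℕ) (n : ℕ) : Prop :=
  ∀ x : E → ℤ, ∃ (y : E → ℤ) (f : V → ℤ) (z : E → ℤ),
    ∀ e, x e = (l e : ℤ) * y e + (f (ends e).2 - f (ends e).1) + (n : ℤ) * z e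

/-- Step 2: lifting the decomposition modulo a prime -/
theorem Q_prime (l : E → ℕ) (hco : IsCircuitCoprime ends l) (p : ℕ) (hp : p.Prime) :
    Q ends l p := by
  have : Fact p.Prime := ⟨hp⟩
  intro x
  obtain ⟨a, f, ha, hf⟩ := modp_decomp ends l hco p (fun e => (x e : ZMod p))
  choose f' hf' using fun v => ZMod.intCast_surjective (f v)
  choose y' hy' using fun e => ZMod.intCast_surjective (a e * ((l e : ℕ) : ZMod p)⁻¹)
  have hdiv : ∀ e, (p : ℤ) ∣ x e - ((l e : ℤ) * y' e + (f' (ends e).2 - f' (ends e).1)) := by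
    intro e
    rw [← ZMod.intCast_zmod_eq_zero_iff_dvd]
    push_cast
    rw [hf', hf', hy', hf e]
    by_cases hl : p ∣ l e
    · rw [ha e hl]
      simp
    · have hne : ((l e : ℕ) : ZMod p) ≠ 0 := by
        rwa [Ne, ZMod.natCast_eq_zero_iff]
      have : ((l e : ℕ) : ZMod p) * (a e * ((l e : ℕ) : ZMod p)⁻¹) = a e := by
        rw [mul_comm, mul_assoc, inv_mul_cancel₀ hne, mul_one]
      rw [this]
      ring
  choose z hz using hdiv
  refine ⟨y', f', z, fun e => ?_⟩
  have := hz e
  linarith

theorem Q_one (l : E → ℕ) : Q ends l 1 := by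
  intro x
  exact ⟨0, 0, x, fun e => by simp⟩

theorem Q_mul (l : E → ℕ) (a b : ℕ) (ha : Q ends l a) (hb : Q ends l b) : Q ends l (a * b) := by
  intro x
  obtain ⟨y, f, z, h1⟩ := ha x
  obtain ⟨y', f', z', h2⟩ := hb z
  refine ⟨fun e => y e + a * y' e, fun v => f v + a * f' v, z', fun e => ?_⟩
  rw [h1 e, h2 e]
  push_cast
  ring

theorem Q_all (l : E → ℕ) (hco : IsCircuitCoprime ends l) (n : ℕ) (hn : n ≠ 0) : Q ends l n := by
  induction n using Nat.recOnMul with
  | zero => exact absurd rfl hn
  | one => exact Q_one ends l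
  | prime p hp => exact Q_prime ends l hco p hp
  | mul a b iha ihb =>
    have ha : a ≠ 0 := fun h => hn (by rw [h, zero_mul])
    have hb : b ≠ 0 := fun h => hn (by rw [h, mul_zero])
    exact Q_mul ends l a b (iha ha) (ihb hb)

theorem sum_coboundary (γ : E → ℤ) (f : V → ℤ) :
    ∑ e, γ e * (f (ends e).2 - f (ends e).1) = ∑ v, f v * boundary ends γ v := by
  simp_rw [boundary_eq, Finset.mul_sum]
  rw [Finset.sum_comm]
  apply Finset.sum_congr rfl
  intro e _
  have : ∀ v, f v * (γ e * ((if (ends e).2 = v then 1 else 0) -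
      (if (ends e).1 = v then 1 else 0))) =
      γ e * ((if (ends e).2 = v then f v else 0) - (if (ends e).1 = v then f v else 0)) := by
    intro v
    split_ifs <;> ring
  simp_rw [this]
  rw [← Finset.mul_sum, Finset.sum_sub_distrib]
  simp

/-- direction (⟹) -/
theorem surj_of_coprime (l : E → ℕ) (hl : ∀ e, 0 < l e) (hco : IsCircuitCoprime ends l)
    (x : E → ℤ) : ∃ y : E → ℤ, ∀ γ : E → ℤ, (∀ v, boundary ends γ v = 0) →
        ∑ e, γ e * (x e - (l e : ℤ) * y e) = 0 := by
  have hL : (∏ e, l e) ≠ 0 := Finset.prod_ne_zero_iff.mpr (fun e _ => (hl e).ne')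
  obtain ⟨y, f, z, h⟩ := Q_all ends l hco _ hL x
  refine ⟨fun e => y e + ((∏ e' ∈ Finset.univ.erase e, l e' : ℕ) : ℤ) * z e, fun γ hγ => ?_⟩
  have hrw : ∀ e, x e - (l e : ℤ) * (y e + ((∏ e' ∈ Finset.univ.erase e, l e' : ℕ) : ℤ) * z e) =
      f (ends e).2 - f (ends e).1 := by
    intro e
    have hprod : ((∏ e', l e' : ℕ) : ℤ) =
        (l e : ℤ) * ((∏ e' ∈ Finset.univ.erase e, l e' : ℕ) : ℤ) := by
      rw [← Finset.mul_prod_erase _ _ (Finset.mem_univ e)]
      push_cast
      ring
    rw [h e, hprod]
    ring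
  simp_rw [hrw]
  rw [sum_coboundary]
  apply Finset.sum_eq_zero
  intro v _
  rw [hγ v, mul_zero]

theorem main (ends : E → V × V) (l : E → ℕ) (hl : ∀ e, 0 < l e) :
    LabGraph.IsCircuitCoprime ends l ↔
      ∀ x : E → ℤ, ∃ y : E → ℤ, ∀ γ : E → ℤ, (∀ v : V, LabGraph.boundary ends γ v = 0) →
        ∑ e : E, γ e * (x e - (l e : ℤ) * y e) = 0 :=
  ⟨fun hco x => surj_of_coprime ends l hl hco x, fun h => coprime_of_surj ends l h⟩

end Groth.Agent.Helper29.CircuitCoprime
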