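import Mathlib
import Groth.Prelude.Def_W4c1nerontoraddGraph
import Groth.Agent.Lib.Helper29.CircuitCoprime

/-!
# The total blow-up graph of a labelled multigraph
-/

set_option linter.unusedSectionVars false

namespace Groth.Agent.Helper29.BlowGraph

open LabGraph

universe u

variable {V E : Type u} [Fintype V] [Fintype E] [DecidableEq V] [DecidableEq E]
variable (ends : E → V × V) (l : E → ℕ)

theorem pathVert_zero (e : E) : pathVert ends l e 0 = Sum.inl (ends e).1 := by
  simp [pathVert]

theorem pathVert_mid (e : E) (j : ℕ) (h0 : j ≠ 0) (h : j < l e) :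
    pathVert ends l e j = Sum.inr ⟨e, ⟨j - 1, by omega⟩⟩ := by
  simp [pathVert, h0, h]

theorem pathVert_end (e : E) (j : ℕ) (h0 : j ≠ 0) (h : l e ≤ j) :
    pathVert ends l e j = Sum.inl (ends e).2 := by
  simp [pathVert, h0, not_lt.mpr h]

/-- the general formula for the multidegree on the blow-up graph -/
theorem mdeg_bl (ψ : BlVert V E l → ℤ) (w : BlVert V E l) :
    mdeg (blEnds ends l) (fun _ => 1) ψ w =
      ∑ e : E, ∑ k ∈ Finset.range (l e),
        ((if pathVert ends l e k = w then
            ψ (pathVert ends l e (k + 1)) - ψ (pathVert ends l e k) else 0) +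
         (if pathVert ends l e (k + 1) = w then
            ψ (pathVert ends l e k) - ψ (pathVert ends l e (k + 1)) else 0)) := by
  unfold mdeg
  rw [Fintype.sum_sigma]
  apply Finset.sum_congr rfl
  intro e _
  rw [← Fin.sum_univ_eq_sum_range (fun k =>
    ((if pathVert ends l e k = w then
            ψ (pathVert ends l e (k + 1)) - ψ (pathVert ends l e k) else 0) +
         (if pathVert ends l e (k + 1) = w then
            ψ (pathVert ends l e k) - ψ (pathVert ends l e (k + 1)) else 0))) (l e)]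
  apply Finset.sum_congr rfl
  intro k _
  simp [blEnds]

theorem pathVert_eq_inl (e : E) (k : ℕ) (v : V) (_hl : 0 < l e) :
    pathVert ends l e k = Sum.inl v ↔
      (k = 0 ∧ (ends e).1 = v) ∨ (k ≠ 0 ∧ l e ≤ k ∧ (ends e).2 = v) := by
  by_cases h0 : k = 0
  · subst h0
    rw [pathVert_zero]
    simp
  · by_cases h : k < l e
    · rw [pathVert_mid ends l e k h0 h]
      simp [h0, not_le.mpr h]
    · rw [pathVert_end ends l e k h0 (not_lt.mp h)]
      simp [h0, not_lt.mp h]

theorem pathVert_eq_inr (e : E) (i : ℕ) (e₀ : E) (j : Fin (l e₀ - 1)) :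
    pathVert ends l e i = Sum.inr ⟨e₀, j⟩ ↔ e = e₀ ∧ i = j.val + 1 := by
  by_cases h0 : i = 0
  · subst h0
    rw [pathVert_zero]
    simp
  · by_cases h : i < l e
    · rw [pathVert_mid ends l e i h0 h]
      constructor
      · intro heq
        have h1 := Sum.inr_injective heq
        have h2 : e = e₀ := congrArg Sigma.fst h1
        subst h2
        have h3 := eq_of_heq (Sigma.mk.inj h1).2
        have h4 : i - 1 = j.val := congrArg Fin.val h3
        exact ⟨rfl, by omega⟩
      · rintro ⟨rfl, hi⟩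
        congr 2
        ext
        simp [hi]
    · rw [pathVert_end ends l e i h0 (not_lt.mp h)]
      constructor
      · intro heq
        exact absurd heq (by simp)
      · rintro ⟨rfl, hi⟩
        have := j.2
        omega

/-- (F2) the multidegree at an old vertex -/
theorem mdeg_bl_inl (hl : ∀ e, 0 < l e) (ψ : BlVert V E l → ℤ) (v : V) :
    mdeg (blEnds ends l) (fun _ => 1) ψ (Sum.inl v) =
      ∑ e : E, ((if (ends e).1 = v then
          ψ (pathVert ends l e 1) - ψ (pathVert ends l e 0) else 0) +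
        (if (ends e).2 = v then
          ψ (pathVert ends l e (l e - 1)) - ψ (pathVert ends l e (l e)) else 0)) := by
  rw [mdeg_bl]
  apply Finset.sum_congr rfl
  intro e _
  have hle := hl e
  rw [Finset.sum_add_distrib]
  congr 1
  · rw [Finset.sum_eq_single 0]
    · rw [if_congr (pathVert_eq_inl ends l e 0 v hle) rfl rfl]
      simp
    · intro k hk hk0
      rw [if_neg]
      rw [pathVert_eq_inl ends l e k v hle]
      have := Finset.mem_range.mp hk
      omega
    · intro h
      exact absurd (Finset.mem_range.mpr hle) h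
  · rw [Finset.sum_eq_single (l e - 1)]
    · have e1 : l e - 1 + 1 = l e := by omega
      rw [e1, if_congr (pathVert_eq_inl ends l e (l e) v hle) rfl rfl]
      have : l e ≠ 0 := hle.ne'
      simp [this]
    · intro k hk hk0
      rw [if_neg]
      rw [pathVert_eq_inl ends l e (k + 1) v hle]
      have := Finset.mem_range.mp hk
      omega
    · intro h
      exact absurd (Finset.mem_range.mpr (by omega)) h

/-- (F1) the multidegree at a new vertex: the second difference along the path -/
theorem mdeg_bl_inr (ψ : BlVert V E l → ℤ) (e₀ : E) (j : Fin (l e₀ - 1)) :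
    mdeg (blEnds ends l) (fun _ => 1) ψ (Sum.inr ⟨e₀, j⟩) =
      (ψ (pathVert ends l e₀ (j.val + 2)) - ψ (pathVert ends l e₀ (j.val + 1))) -
      (ψ (pathVert ends l e₀ (j.val + 1)) - ψ (pathVert ends l e₀ j.val)) := by
  rw [mdeg_bl]
  have hj := j.2
  rw [Finset.sum_eq_single e₀]
  · rw [Finset.sum_add_distrib]
    rw [Finset.sum_eq_single (j.val + 1), Finset.sum_eq_single j.val]
    · rw [if_pos ((pathVert_eq_inr ends l e₀ _ e₀ j).mpr ⟨rfl, rfl⟩),
        if_pos ((pathVert_eq_inr ends l e₀ _ e₀ j).mpr ⟨rfl, rfl⟩)]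
      ring
    · intro k _ hk
      rw [if_neg]
      rw [pathVert_eq_inr]
      omega
    · intro h
      exact absurd (Finset.mem_range.mpr (by omega)) h
    · intro k _ hk
      rw [if_neg]
      rw [pathVert_eq_inr]
      omega
    · intro h
      exact absurd (Finset.mem_range.mpr (by omega)) h
  · intro e _ he
    apply Finset.sum_eq_zero
    intro k _
    rw [if_neg, if_neg, add_zero]
    · rw [pathVert_eq_inr]; tauto
    · rw [pathVert_eq_inr]; tauto
  · intro h
    exact absurd (Finset.mem_univ e₀) h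

/-- first differences of a sequence with prescribed second differences -/
theorem seq_diff (P b : ℕ → ℤ) (n : ℕ)
    (h : ∀ j, j + 1 < n → (P (j + 2) - P (j + 1)) - (P (j + 1) - P j) = b (j + 1)) :
    ∀ k, k < n → P (k + 1) - P k = (P 1 - P 0) + ∑ i ∈ Finset.Ico 1 (k + 1), b i := by
  intro k
  induction k with
  | zero => intro _; simp
  | succ k ih =>
    intro hk
    have h1 := ih (by omega)
    have h2 := h k hk
    rw [Finset.sum_Ico_succ_top (by omega)]
    linarith

theorem seq_val (P b : ℕ → ℤ) (n : ℕ)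
    (h : ∀ j, j + 1 < n → (P (j + 2) - P (j + 1)) - (P (j + 1) - P j) = b (j + 1)) :
    ∀ m, m ≤ n → P m = P 0 + m * (P 1 - P 0) +
      ∑ k ∈ Finset.range m, ∑ i ∈ Finset.Ico 1 (k + 1), b i := by
  intro m
  induction m with
  | zero => intro _; simp
  | succ m ih =>
    intro hm
    have h1 := ih (by omega)
    have h2 := seq_diff P b n h m (by omega)
    rw [Finset.sum_range_succ]
    push_cast
    linarith

/-- S13759 -/
theorem inj_main (hl : ∀ e, 0 < l e) (α : V → ℤ) (ψ : BlVert V E l → ℤ)
    (hψ : ∀ w : BlVert V E l,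
      mdeg (blEnds ends l) (fun _ => 1) ψ w = Sum.elim α (fun _ => (0 : ℤ)) w) :
    ∃ φ : V → ℤ, IsCartier ends l φ ∧ ∀ v : V, mdeg ends l φ v = α v := by
  set P : E → ℕ → ℤ := fun e i => ψ (pathVert ends l e i) with hP
  have h2 : ∀ e j, j + 1 < l e → (P e (j + 2) - P e (j + 1)) - (P e (j + 1) - P e j) =
      (fun _ => (0 : ℤ)) (j + 1) := by
    intro e j hj
    have := hψ (Sum.inr ⟨e, ⟨j, by omega⟩⟩)
    rw [mdeg_bl_inr] at this
    simpa using this
  have hdiff : ∀ e k, k < l e → P e (k + 1) - P e k = P e 1 - P e 0 := by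
    intro e k hk
    have := seq_diff (P e) (fun _ => 0) (l e) (h2 e) k hk
    simpa using this
  have hval : ∀ e, P e (l e) = P e 0 + (l e : ℤ) * (P e 1 - P e 0) := by
    intro e
    have := seq_val (P e) (fun _ => 0) (l e) (h2 e) (l e) le_rfl
    simpa using this
  have hP0 : ∀ e, P e 0 = ψ (Sum.inl (ends e).1) := fun e => by
    simp only [hP, pathVert_zero]
  have hPl : ∀ e, P e (l e) = ψ (Sum.inl (ends e).2) := fun e => by
    simp only [hP]
    rw [pathVert_end ends l e (l e) (hl e).ne' le_rfl]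
  refine ⟨fun v => ψ (Sum.inl v), ?_, ?_⟩
  · intro e
    show (l e : ℤ) ∣ ψ (Sum.inl (ends e).1) - ψ (Sum.inl (ends e).2)
    rw [← hP0, ← hPl, hval]
    exact ⟨-(P e 1 - P e 0), by ring⟩
  · intro v
    rw [← show Sum.elim α (fun _ => (0 : ℤ)) (Sum.inl v) = α v from rfl, ← hψ (Sum.inl v),
      mdeg_bl_inl ends l hl]
    unfold mdeg
    apply Finset.sum_congr rfl
    intro e _
    have hle : (l e : ℤ) ≠ 0 := by exact_mod_cast (hl e).ne'
    have e1 : ψ (Sum.inl (ends e).2) - ψ (Sum.inl (ends e).1) = (l e : ℤ) * (P e 1 - P e 0) := by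
      rw [← hP0, ← hPl, hval]; ring
    have e2 : ψ (Sum.inl (ends e).1) - ψ (Sum.inl (ends e).2) =
        (l e : ℤ) * (-(P e 1 - P e 0)) := by
      rw [← hP0, ← hPl, hval]; ring
    have e3 : ψ (pathVert ends l e (l e - 1)) - ψ (pathVert ends l e (l e)) =
        -(P e 1 - P e 0) := by
      have := hdiff e (l e - 1) (by have := hl e; omega)
      have e4 : l e - 1 + 1 = l e := by have := hl e; omega
      rw [e4] at this
      simp only [hP] at this ⊢
      linarith
    rw [e1, e2, e3, Int.mul_ediv_cancel_left _ hle, Int.mul_ediv_cancel_left _ hle]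

open Groth.Agent.Helper29.CircuitCoprime in
/-- circuit-coprime graphs: every edge vector is a coboundary modulo the labels -/
theorem decomp (hl : ∀ e, 0 < l e) (hco : IsCircuitCoprime ends l) (x : E → ℤ) :
    ∃ (y : E → ℤ) (f : V → ℤ), ∀ e, x e = (l e : ℤ) * y e + (f (ends e).2 - f (ends e).1) := by
  have hL : (∏ e, l e) ≠ 0 := Finset.prod_ne_zero_iff.mpr (fun e _ => (hl e).ne')
  obtain ⟨y, f, z, h⟩ := Q_all ends l hco _ hL x
  refine ⟨fun e => y e + ((∏ e' ∈ Finset.univ.erase e, l e' : ℕ) : ℤ) * z e, f, fun e => ?_⟩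
  have hprod : ((∏ e', l e' : ℕ) : ℤ) =
      (l e : ℤ) * ((∏ e' ∈ Finset.univ.erase e, l e' : ℕ) : ℤ) := by
    rw [← Finset.mul_prod_erase _ _ (Finset.mem_univ e)]
    push_cast
    ring
  rw [h e, hprod]
  ring

/-- the values along the path of `e` -/
def pathVal (f : V → ℤ) (s : E → ℤ) (b : E → ℕ → ℤ) (e : E) (m : ℕ) : ℤ :=
  f (ends e).1 + m * s e + ∑ k ∈ Finset.range m, ∑ i ∈ Finset.Ico 1 (k + 1), b e i

theorem pathVal_second_diff (f : V → ℤ) (s : E → ℤ) (b : E → ℕ → ℤ) (e : E) (j : ℕ) :
    (pathVal ends f s b e (j + 2) - pathVal ends f s b e (j + 1)) -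
      (pathVal ends f s b e (j + 1) - pathVal ends f s b e j) = b e (j + 1) := by
  unfold pathVal
  have e1 : ∑ i ∈ Finset.Ico 1 (j + 1 + 1), b e i =
      ∑ i ∈ Finset.Ico 1 (j + 1), b e i + b e (j + 1) := Finset.sum_Ico_succ_top (by omega) _
  rw [show j + 2 = j + 1 + 1 from rfl, Finset.sum_range_succ, Finset.sum_range_succ, e1]
  push_cast
  ring

/-- direction (⟸) of S13760 -/
theorem surj_of_coprime (hl : ∀ e, 0 < l e) (hco : IsCircuitCoprime ends l)
    (β : BlVert V E l → ℤ) :
    ∃ (ψ : BlVert V E l → ℤ) (α : V → ℤ), ∀ w : BlVert V E l,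
      mdeg (blEnds ends l) (fun _ => 1) ψ w + β w = Sum.elim α (fun _ => (0 : ℤ)) w := by
  set b : E → ℕ → ℤ := fun e i =>
    if h : 0 < i ∧ i - 1 < l e - 1 then -β (Sum.inr ⟨e, ⟨i - 1, h.2⟩⟩) else 0 with hb
  set B : E → ℤ := fun e =>
    ∑ k ∈ Finset.range (l e), ∑ i ∈ Finset.Ico 1 (k + 1), b e i with hB
  obtain ⟨y, f, hyf⟩ := decomp ends l hl hco B
  set s : E → ℤ := fun e => -y e with hs
  set ψ : BlVert V E l → ℤ := fun w =>
    Sum.elim f (fun q : (Σ e : E, Fin (l e - 1)) => pathVal ends f s b q.1 (q.2.val + 1)) w with hψ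
  have hpath : ∀ e m, m ≤ l e → ψ (pathVert ends l e m) = pathVal ends f s b e m := by
    intro e m hm
    by_cases h0 : m = 0
    · subst h0
      rw [pathVert_zero]
      simp [hψ, pathVal]
    · by_cases h : m < l e
      · rw [pathVert_mid ends l e m h0 h]
        simp only [hψ, Sum.elim_inr]
        have : m - 1 + 1 = m := by omega
        rw [this]
      · have hm' : m = l e := by omega
        subst hm'
        rw [pathVert_end ends l e (l e) h0 le_rfl]
        simp only [hψ, Sum.elim_inl, pathVal]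
        have := hyf e
        simp only [hB] at this
        simp only [hs]
        linarith
  refine ⟨ψ, fun v => mdeg (blEnds ends l) (fun _ => 1) ψ (Sum.inl v) + β (Sum.inl v), ?_⟩
  rintro (v | ⟨e, j⟩)
  · rfl
  · have hj := j.2
    rw [mdeg_bl_inr, hpath e _ (by omega), hpath e _ (by omega), hpath e _ (by omega),
      pathVal_second_diff]
    simp only [hb, Sum.elim_inr]
    rw [dif_pos ⟨by omega, by simp⟩]
    simp

theorem sum_indicator (n : ℕ) (x : ℤ) :
    ∑ k ∈ Finset.range n, ∑ i ∈ Finset.Ico 1 (k + 1), (if i = 1 then x else 0) =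
      ((n : ℤ) - 1) * x + (if n = 0 then x else 0) := by
  induction n with
  | zero => simp
  | succ n ih =>
    rw [Finset.sum_range_succ, ih, Finset.sum_ite_eq']
    by_cases hn : n = 0
    · subst hn; simp
    · have : 1 ∈ Finset.Ico 1 (n + 1) := by
        rw [Finset.mem_Ico]; omega
      simp [hn, this]
      ring

open Groth.Agent.Helper29.CircuitCoprime in
/-- direction (⟹) of S13760 -/
theorem coprime_of_surj' (hl : ∀ e, 0 < l e)
    (h : ∀ β : BlVert V E l → ℤ, ∃ (ψ : BlVert V E l → ℤ) (α : V → ℤ),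
        ∀ w : BlVert V E l,
          mdeg (blEnds ends l) (fun _ => 1) ψ w + β w = Sum.elim α (fun _ => (0 : ℤ)) w) :
    IsCircuitCoprime ends l := by
  apply coprime_of_surj ends l
  intro x
  obtain ⟨ψ, α, hψ⟩ := h (Sum.elim (fun _ => 0)
    (fun q : (Σ e : E, Fin (l e - 1)) => -(if q.2.val = 0 then x q.1 else 0)))
  set P : E → ℕ → ℤ := fun e i => ψ (pathVert ends l e i) with hP
  have h2 : ∀ e j, j + 1 < l e → (P e (j + 2) - P e (j + 1)) - (P e (j + 1) - P e j) =
      (fun i => if i = 1 then x e else 0) (j + 1) := by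
    intro e j hj
    have := hψ (Sum.inr ⟨e, ⟨j, by omega⟩⟩)
    rw [mdeg_bl_inr] at this
    simp only [Sum.elim_inr] at this
    simp only [hP]
    have e1 : (j + 1 = 1) ↔ (j = 0) := by omega
    simp only [e1]
    linarith
  have hval : ∀ e, P e (l e) = P e 0 + (l e : ℤ) * (P e 1 - P e 0) + ((l e : ℤ) - 1) * x e := by
    intro e
    have := seq_val (P e) (fun i => if i = 1 then x e else 0) (l e) (h2 e) (l e) le_rfl
    rw [sum_indicator, if_neg (hl e).ne', add_zero] at this
    exact this
  have hP0 : ∀ e, P e 0 = ψ (Sum.inl (ends e).1) := fun e => by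
    simp only [hP, pathVert_zero]
  have hPl : ∀ e, P e (l e) = ψ (Sum.inl (ends e).2) := fun e => by
    simp only [hP]
    rw [pathVert_end ends l e (l e) (hl e).ne' le_rfl]
  refine ⟨fun e => (P e 1 - P e 0) + x e, fun γ hγ => ?_⟩
  have hrw : ∀ e, x e - (l e : ℤ) * ((P e 1 - P e 0) + x e) =
      (fun v => -ψ (Sum.inl v)) (ends e).2 - (fun v => -ψ (Sum.inl v)) (ends e).1 := by
    intro e
    have := hval e
    rw [hP0, hPl] at this
    simp only
    rw [this, hP0]
    ring
  simp_rw [hrw]
  rw [sum_coboundary ends γ (fun v => -ψ (Sum.inl v))]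
  apply Finset.sum_eq_zero
  intro v _
  rw [hγ v, mul_zero]

theorem surj_main (hl : ∀ e, 0 < l e) :
    (∀ β : LabGraph.BlVert V E l → ℤ, ∃ (ψ : LabGraph.BlVert V E l → ℤ) (α : V → ℤ),
        ∀ w : LabGraph.BlVert V E l,
          LabGraph.mdeg (LabGraph.blEnds ends l) (fun _ => 1) ψ w + β w =
            Sum.elim α (fun _ => (0 : ℤ)) w) ↔
      LabGraph.IsCircuitCoprime ends l :=
  ⟨coprime_of_surj' ends l hl, fun hco β => surj_of_coprime ends l hl hco β⟩

end Groth.Agent.Helper29.BlowGraph
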