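import Mathlib

/-!
# Cartan–Eilenberg resolutions, part 1: the Cartan–Eilenberg embedding of a complex
-/

universe v u

open CategoryTheory CategoryTheory.Limits ZeroObject

namespace Groth.Agent.Helper29.CE1

variable {A : Type u} [Category.{v} A] [Abelian A]

section Under

variable [EnoughInjectives A]

open Classical in
/-- an injective object containing `X`, which is zero when `X` is zero -/
noncomputable def under' (X : A) : A := if IsZero X then 0 else Injective.under X

lemma isZero_under' (X : A) (h : IsZero X) : IsZero (under' X) := by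
  unfold under'
  rw [if_pos h]
  exact isZero_zero A

instance injective_under' (X : A) : Injective (under' X) := by
  unfold under'
  split_ifs
  · infer_instance
  · infer_instance

open Classical in
/-- the embedding -/
noncomputable def ι' (X : A) : X ⟶ under' X :=
  if h : IsZero X then 0 else Injective.ι X ≫ eqToHom (by unfold under'; rw [if_neg h])

instance mono_ι' (X : A) : Mono (ι' X) := by
  unfold ι'
  split_ifs with h
  · exact ⟨fun g g' _ => h.eq_of_tgt _ _⟩
  · infer_instance

end Under

lemma isZero_biprod {X Y : A} (hX : IsZero X) (hY : IsZero Y) : IsZero (X ⊞ Y) := by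
  rw [IsZero.iff_id_eq_zero]
  apply biprod.hom_ext
  · exact hX.eq_of_tgt _ _
  · exact hY.eq_of_tgt _ _

section Retract

variable (E : CochainComplex A ℤ) (p : ℤ)

/-- the cycles are a retract of the term if the differential out of it is regular -/
noncomputable def retractCycles (s : E.X (p + 1) ⟶ E.X p)
    (hs : E.d p (p + 1) ≫ s ≫ E.d p (p + 1) = E.d p (p + 1)) :
    Retract (E.cycles p) (E.X p) where
  i := E.iCycles p
  r := E.liftCycles (𝟙 _ - E.d p (p + 1) ≫ s) (p + 1) (by simp) (by
    rw [Preadditive.sub_comp, Category.id_comp, Category.assoc, hs, sub_self])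
  retract := by
    rw [← cancel_mono (E.iCycles p), Category.assoc, HomologicalComplex.liftCycles_i,
      Preadditive.comp_sub, Category.comp_id, HomologicalComplex.iCycles_d_assoc, zero_comp,
      sub_zero, Category.id_comp]

lemma retractHomology_aux (i j : ℤ) (s : E.X j ⟶ E.X i)
    (hs : E.d i j ≫ s ≫ E.d i j = E.d i j) :
    E.toCycles i j ≫ (𝟙 (E.cycles j) - E.iCycles j ≫ s ≫ E.toCycles i j) = 0 := by
  rw [← cancel_mono (E.iCycles j), zero_comp, Category.assoc, Preadditive.sub_comp,
    Category.id_comp, Preadditive.comp_sub, Category.assoc, Category.assoc,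
    HomologicalComplex.toCycles_i, HomologicalComplex.toCycles_i_assoc, hs, sub_self]

/-- the homology is a retract of the cycles if the differential into the term is regular -/
noncomputable def retractHomology (i j : ℤ) (hij : i + 1 = j) (s : E.X j ⟶ E.X i)
    (hs : E.d i j ≫ s ≫ E.d i j = E.d i j) :
    Retract (E.homology j) (E.cycles j) where
  i := (E.homologyIsCokernel i j (by simp [← hij])).desc (CokernelCofork.ofπ
    (𝟙 (E.cycles j) - E.iCycles j ≫ s ≫ E.toCycles i j) (retractHomology_aux E i j s hs))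
  r := E.homologyπ j
  retract := by
    rw [← cancel_epi (E.homologyπ j)]
    have := (E.homologyIsCokernel i j (by simp [← hij])).fac (CokernelCofork.ofπ
      (𝟙 (E.cycles j) - E.iCycles j ≫ s ≫ E.toCycles i j) (retractHomology_aux E i j s hs))
      WalkingParallelPair.one
    simp only [Cofork.ofπ_pt, Cofork.ofπ_ι_app] at this
    rw [reassoc_of% this]
    simp only [Preadditive.sub_comp, Category.comp_id, Category.assoc,
      HomologicalComplex.toCycles_comp_homologyπ, comp_zero, sub_zero]
    exact Category.id_comp _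

end Retract

section Emb

variable [EnoughInjectives A] (K : CochainComplex A ℤ)

/-- boundaries -/
noncomputable abbrev Bd (p : ℤ) : A := kernel (K.pOpcycles p)

/-- injective hull of the opcycles -/
noncomputable abbrev L (p : ℤ) : A := under' (K.opcycles p)

/-- injective hull of the boundaries -/
noncomputable abbrev JB (p : ℤ) : A := under' (Bd K p)

/-- the terms of the Cartan–Eilenberg envelope -/
noncomputable abbrev EX (p : ℤ) : A := L K p ⊞ (JB K p ⊞ JB K (p + 1))

/-- the differential -/
noncomputable def Ed (p : ℤ) : EX K p ⟶ EX K (p + 1) :=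
  biprod.snd ≫ biprod.snd ≫ biprod.inl ≫ biprod.inr

lemma Ed_comp (p : ℤ) : Ed K p ≫ Ed K (p + 1) = 0 := by
  simp [Ed]

/-- the Cartan–Eilenberg envelope -/
noncomputable def EC : CochainComplex A ℤ := CochainComplex.of (EX K) (Ed K) (Ed_comp K)

lemma EC_d (p : ℤ) : (EC K).d p (p + 1) = Ed K p := CochainComplex.of_d _ _ p

noncomputable def gL (p : ℤ) : K.X p ⟶ L K p := K.pOpcycles p ≫ ι' _

noncomputable def β (p : ℤ) : K.X p ⟶ JB K p :=
  Injective.factorThru (ι' (Bd K p)) (kernel.ι (K.pOpcycles p))

noncomputable def δB (p : ℤ) : K.X p ⟶ Bd K (p + 1) :=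
  kernel.lift _ (K.d p (p + 1)) (K.d_pOpcycles p (p + 1))

@[reassoc (attr := simp)]
lemma δB_ι (p : ℤ) : δB K p ≫ kernel.ι (K.pOpcycles (p + 1)) = K.d p (p + 1) :=
  kernel.lift_ι _ _ _

@[reassoc (attr := simp)]
lemma ι_β (p : ℤ) : kernel.ι (K.pOpcycles p) ≫ β K p = ι' (Bd K p) :=
  Injective.comp_factorThru _ _

@[reassoc (attr := simp)]
lemma d_gL (p : ℤ) : K.d p (p + 1) ≫ gL K (p + 1) = 0 := by
  unfold gL
  rw [HomologicalComplex.d_pOpcycles_assoc, zero_comp]

@[reassoc (attr := simp)]
lemma d_δB (p : ℤ) : K.d p (p + 1) ≫ δB K (p + 1) = 0 := by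
  rw [← cancel_mono (kernel.ι (K.pOpcycles (p + 1 + 1))), Category.assoc, δB_ι, zero_comp,
    HomologicalComplex.d_comp_d]

@[reassoc]
lemma d_β (p : ℤ) : K.d p (p + 1) ≫ β K (p + 1) = δB K p ≫ ι' _ := by
  rw [← δB_ι, Category.assoc, ι_β]

/-- components of the embedding -/
noncomputable def embf (p : ℤ) : K.X p ⟶ EX K p :=
  biprod.lift (gL K p) (biprod.lift (β K p) (δB K p ≫ ι' _))

lemma embf_comm (p : ℤ) : embf K p ≫ Ed K p = K.d p (p + 1) ≫ embf K (p + 1) := by
  unfold embf Ed
  apply biprod.hom_ext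
  · simp
  · apply biprod.hom_ext
    · simp [d_β]
    · simp

/-- the Cartan–Eilenberg embedding -/
noncomputable def emb : K ⟶ EC K where
  f := embf K
  comm' := by
    intro i j hij
    obtain rfl : i + 1 = j := hij
    rw [EC_d]
    exact embf_comm K i

end Emb

section Props

variable [EnoughInjectives A] (K : CochainComplex A ℤ)

/-- the regularity map -/
noncomputable def sE (p : ℤ) : EX K (p + 1) ⟶ EX K p :=
  biprod.snd ≫ biprod.fst ≫ biprod.inr ≫ biprod.inr

lemma Ed_sE_Ed (p : ℤ) : Ed K p ≫ sE K p ≫ Ed K p = Ed K p := by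
  simp [Ed, sE]

lemma Ed_fst (p : ℤ) : Ed K p ≫ (biprod.fst : EX K (p + 1) ⟶ L K (p + 1)) = 0 := by
  simp [Ed]

lemma EC_d_s_d (p : ℤ) :
    (EC K).d p (p + 1) ≫ (sE K p : (EC K).X (p + 1) ⟶ (EC K).X p) ≫ (EC K).d p (p + 1) =
      (EC K).d p (p + 1) := by
  rw [EC_d]
  exact Ed_sE_Ed K p

instance injective_EC_X (p : ℤ) : Injective ((EC K).X p) :=
  inferInstanceAs (Injective (L K p ⊞ (JB K p ⊞ JB K (p + 1))))

instance injective_EC_cycles (p : ℤ) : Injective ((EC K).cycles p) :=
  (retractCycles (EC K) p (sE K p) (EC_d_s_d K p)).injective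

instance injective_EC_homology (p : ℤ) : Injective ((EC K).homology p) := by
  obtain ⟨i, rfl⟩ : ∃ i, i + 1 = p := ⟨p - 1, by omega⟩
  exact (retractHomology (EC K) i (i + 1) rfl (sE K i) (EC_d_s_d K i)).injective

instance mono_embf (p : ℤ) : Mono (embf K p) := by
  apply Preadditive.mono_of_cancel_zero
  intro T t ht
  have h1 : t ≫ gL K p = 0 := by
    have := congrArg (fun m => m ≫ biprod.fst) ht
    simpa [embf] using this
  have h2 : t ≫ β K p = 0 := by
    have := congrArg (fun m => m ≫ biprod.snd ≫ biprod.fst) ht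
    simpa [embf] using this
  have h3 : t ≫ K.pOpcycles p = 0 := by
    rw [← cancel_mono (ι' (K.opcycles p)), zero_comp, Category.assoc]
    exact h1
  have h4 : t = kernel.lift _ t h3 ≫ kernel.ι _ := (kernel.lift_ι _ _ _).symm
  rw [h4, Category.assoc, ι_β] at h2
  have h5 : kernel.lift _ t h3 = 0 := by
    rw [← cancel_mono (ι' (Bd K p)), zero_comp]
    exact h2
  rw [h4, h5, zero_comp]

instance mono_emb_f (p : ℤ) : Mono ((emb K).f p) := mono_embf K p

instance mono_emb : Mono (emb K) := HomologicalComplex.mono_of_mono_f _ (fun p => mono_emb_f K p)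

instance mono_opcyclesMap_emb (p : ℤ) : Mono (HomologicalComplex.opcyclesMap (emb K) p) := by
  obtain ⟨i, rfl⟩ : ∃ i, i + 1 = p := ⟨p - 1, by omega⟩
  have h0 : (EC K).d i (i + 1) ≫ (biprod.fst : EX K (i + 1) ⟶ L K (i + 1)) = 0 := by
    rw [EC_d]
    exact Ed_fst K i
  have key : HomologicalComplex.opcyclesMap (emb K) (i + 1) ≫
      (EC K).descOpcycles (biprod.fst : EX K (i + 1) ⟶ L K (i + 1)) i (by simp) h0 =
      ι' (K.opcycles (i + 1)) := by
    rw [← cancel_epi (K.pOpcycles (i + 1)), HomologicalComplex.p_opcyclesMap_assoc,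
      HomologicalComplex.p_descOpcycles]
    show embf K (i + 1) ≫ biprod.fst = _
    simp [embf, gL]
  exact mono_of_mono_fac key

end Props

section Bound

variable [EnoughInjectives A] (K : CochainComplex A ℤ) (n : ℤ) [K.IsStrictlyGE n]

lemma isZero_L (p : ℤ) (hp : p < n) : IsZero (L K p) :=
  isZero_under' _ (IsZero.of_epi (K.pOpcycles p) (K.isZero_of_isStrictlyGE n p hp))

lemma isZero_JB (p : ℤ) (hp : p ≤ n) : IsZero (JB K p) := by
  apply isZero_under'
  have h0 : K.d (p - 1) p = 0 := (K.isZero_of_isStrictlyGE n (p - 1) (by omega)).eq_of_src _ _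
  haveI : IsIso (K.pOpcycles p) := K.isIso_pOpcycles (p - 1) p (by simp) h0
  exact isZero_kernel_of_mono _

instance isStrictlyGE_EC : (EC K).IsStrictlyGE n := by
  rw [CochainComplex.isStrictlyGE_iff]
  intro p hp
  exact isZero_biprod (isZero_L K n p hp)
    (isZero_biprod (isZero_JB K n p hp.le) (isZero_JB K n (p + 1) (by omega)))

end Bound

end Groth.Agent.Helper29.CE1
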