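import Mathlib

/-!
# Cartan–Eilenberg resolutions, part 2: short exact sequences of complexes which stay exact on
cycles and homology
-/

universe v u

open CategoryTheory CategoryTheory.Limits

namespace Groth.Agent.Helper29.CE2

variable {A : Type u} [Category.{v} A] [Abelian A]
  {S : ShortComplex (CochainComplex A ℤ)} (hS : S.ShortExact)
  (hop : ∀ p : ℤ, Mono (HomologicalComplex.opcyclesMap S.f p))

include hop in
lemma mono_homologyMap (p : ℤ) : Mono (HomologicalComplex.homologyMap S.f p) := by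
  haveI := hop p
  have h := HomologicalComplex.homologyι_naturality S.f p
  haveI : Mono (HomologicalComplex.homologyMap S.f p ≫ S.X₂.homologyι p) := by
    rw [h]
    infer_instance
  exact mono_of_mono (HomologicalComplex.homologyMap S.f p) (S.X₂.homologyι p)

include hS hop in
theorem homology_shortExact (p : ℤ) :
    (S.map (HomologicalComplex.homologyFunctor A (ComplexShape.up ℤ) p)).ShortExact := by
  haveI := mono_homologyMap hop p
  haveI := mono_homologyMap hop (p + 1)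
  have hδ : hS.δ p (p + 1) rfl = 0 := by
    rw [← cancel_mono (HomologicalComplex.homologyMap S.f (p + 1)), zero_comp]
    exact hS.δ_comp p (p + 1) rfl
  haveI : Epi (HomologicalComplex.homologyMap S.g p) :=
    (hS.homology_exact₃ p (p + 1) rfl).epi_f hδ
  exact ShortComplex.ShortExact.mk' (hS.homology_exact₂ p)
    (inferInstanceAs (Mono (HomologicalComplex.homologyMap S.f p)))
    (inferInstanceAs (Epi (HomologicalComplex.homologyMap S.g p)))

include hS hop in
lemma epi_cyclesMap (p : ℤ) : Epi (HomologicalComplex.cyclesMap S.g p) := by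
  haveI := hS.mono_f
  haveI := hS.epi_g
  haveI := hop (p + 1)
  rw [epi_iff_surjective_up_to_refinements]
  intro T z₃
  -- lift the underlying element of X₃ᵖ
  obtain ⟨T₁, π₁, hπ₁, x₂, hx₂⟩ := surjective_up_to_refinements_of_epi (S.g.f p)
    (z₃ ≫ S.X₃.iCycles p)
  -- its differential comes from X₁
  have hSp1 : (S.map (HomologicalComplex.eval A (ComplexShape.up ℤ) (p + 1))).Exact :=
    (hS.map_of_exact (HomologicalComplex.eval A (ComplexShape.up ℤ) (p + 1))).exact
  have h1 : (x₂ ≫ S.X₂.d p (p + 1)) ≫ S.g.f (p + 1) = 0 := by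
    rw [Category.assoc, ← S.g.comm, ← Category.assoc, ← hx₂, Category.assoc, Category.assoc,
      HomologicalComplex.iCycles_d, comp_zero, comp_zero]
  obtain ⟨T₂, π₂, hπ₂, y₁, hy₁⟩ : ∃ (T₂ : A) (π₂ : T₂ ⟶ T₁) (_ : Epi π₂)
      (y₁ : T₂ ⟶ S.X₁.X (p + 1)), π₂ ≫ x₂ ≫ S.X₂.d p (p + 1) = y₁ ≫ S.f.f (p + 1) :=
    hSp1.exact_up_to_refinements (x₂ ≫ S.X₂.d p (p + 1)) h1
  -- y₁ is a boundary
  have h2 : y₁ ≫ S.X₁.pOpcycles (p + 1) = 0 := by
    rw [← cancel_mono (HomologicalComplex.opcyclesMap S.f (p + 1)), zero_comp, Category.assoc,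
      HomologicalComplex.p_opcyclesMap]
    have : y₁ ≫ S.f.f (p + 1) = π₂ ≫ x₂ ≫ S.X₂.d p (p + 1) := hy₁.symm
    rw [reassoc_of% this, HomologicalComplex.d_pOpcycles, comp_zero, comp_zero]
  have hex : (ShortComplex.mk (S.X₁.d p (p + 1)) (S.X₁.pOpcycles (p + 1))
      (S.X₁.d_pOpcycles p (p + 1))).Exact :=
    ShortComplex.exact_of_g_is_cokernel _ (S.X₁.opcyclesIsCokernel p (p + 1) (by simp))
  obtain ⟨T₃, π₃, hπ₃, w₁, hw₁⟩ : ∃ (T₃ : A) (π₃ : T₃ ⟶ T₂) (_ : Epi π₃)
      (w₁ : T₃ ⟶ S.X₁.X p), π₃ ≫ y₁ = w₁ ≫ S.X₁.d p (p + 1) :=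
    hex.exact_up_to_refinements y₁ h2
  -- the corrected lift
  let x₂' : T₃ ⟶ S.X₂.X p := π₃ ≫ π₂ ≫ x₂ - w₁ ≫ S.f.f p
  have hx₂' : x₂' ≫ S.X₂.d p (p + 1) = 0 := by
    have e1 : w₁ ≫ S.X₁.d p (p + 1) = π₃ ≫ y₁ := hw₁.symm
    have e2 : y₁ ≫ S.f.f (p + 1) = π₂ ≫ x₂ ≫ S.X₂.d p (p + 1) := hy₁.symm
    simp only [x₂', Preadditive.sub_comp, Category.assoc]
    rw [S.f.comm, reassoc_of% e1, e2, sub_self]
  refine ⟨T₃, π₃ ≫ π₂ ≫ π₁, inferInstance, S.X₂.liftCycles x₂' (p + 1) (by simp) hx₂', ?_⟩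
  rw [← cancel_mono (S.X₃.iCycles p)]
  simp only [Category.assoc, HomologicalComplex.cyclesMap_i, HomologicalComplex.liftCycles_i_assoc]
  simp only [x₂', Preadditive.sub_comp, Category.assoc]
  have e3 : S.f.f p ≫ S.g.f p = 0 := by
    rw [← HomologicalComplex.comp_f, S.zero, HomologicalComplex.zero_f]
  rw [e3, comp_zero, sub_zero, hx₂]

include hS hop in
theorem cycles_shortExact (p : ℤ) :
    (S.map (HomologicalComplex.cyclesFunctor A (ComplexShape.up ℤ) p)).ShortExact := by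
  haveI := hS.mono_f
  haveI := epi_cyclesMap hS hop p
  exact ShortComplex.ShortExact.mk' (HomologicalComplex.cycles_left_exact S hS.exact p)
    (inferInstanceAs (Mono (HomologicalComplex.cyclesMap S.f p)))
    (inferInstanceAs (Epi (HomologicalComplex.cyclesMap S.g p)))

end Groth.Agent.Helper29.CE2
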