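import Mathlib
import Groth.Prelude.Def_CE
import Groth.Agent.Lib.Helper29.CE1
import Groth.Agent.Lib.Helper29.CE2

/-!
# Cartan–Eilenberg resolutions, part 3: splicing
-/

universe v u v' u'

open CategoryTheory CategoryTheory.Limits ZeroObject

namespace Groth.Agent.Helper29.CE3

open Groth.Agent.Helper29.CE1 Groth.Agent.Helper29.CE2

section Splice

variable {B : Type u'} [Category.{v'} B] [Abelian B]

lemma exact_splice_zero {X Y Z W V : B} (p : X ⟶ Y) (i : Y ⟶ Z) (q : Z ⟶ W) (k : W ⟶ V)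
    (w : i ≫ q = 0) : (p ≫ i) ≫ q ≫ k = 0 := by
  calc (p ≫ i) ≫ q ≫ k = p ≫ (i ≫ q) ≫ k := by simp only [Category.assoc]
    _ = 0 := by rw [w, zero_comp, comp_zero]

lemma exact_splice {X Y Z W V : B} (p : X ⟶ Y) [Epi p] (i : Y ⟶ Z) (q : Z ⟶ W) (k : W ⟶ V)
    [Mono k] (w : i ≫ q = 0) (h : (ShortComplex.mk i q w).Exact) :
    (ShortComplex.mk (p ≫ i) (q ≫ k) (exact_splice_zero p i q k w)).Exact := by
  rw [ShortComplex.exact_iff_exact_up_to_refinements]
  intro T (x₂ : T ⟶ Z) (hx₂ : x₂ ≫ q ≫ k = 0)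
  have h1 : x₂ ≫ q = 0 := by
    have : (x₂ ≫ q) ≫ k = 0 ≫ k := by rw [Category.assoc, hx₂, zero_comp]
    exact (cancel_mono k).1 this
  obtain ⟨T', π, hπ, y, hy⟩ : ∃ (T' : B) (π : T' ⟶ T) (_ : Epi π) (y : T' ⟶ Y),
    π ≫ x₂ = y ≫ i := h.exact_up_to_refinements x₂ h1
  obtain ⟨T'', π', hπ', x, hx⟩ := surjective_up_to_refinements_of_epi p y
  refine ⟨T'', π' ≫ π, inferInstance, x, ?_⟩
  show (π' ≫ π) ≫ x₂ = x ≫ p ≫ i
  calc (π' ≫ π) ≫ x₂ = π' ≫ (π ≫ x₂) := Category.assoc _ _ _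
    _ = π' ≫ y ≫ i := by rw [hy]
    _ = (π' ≫ y) ≫ i := (Category.assoc _ _ _).symm
    _ = (x ≫ p) ≫ i := by rw [hx]
    _ = x ≫ p ≫ i := Category.assoc _ _ _

theorem splice (C : CochainComplex B ℤ) (M : ℤ → B)
    (j : ∀ q, M q ⟶ C.X q) (π : ∀ q, C.X q ⟶ M (q + 1))
    (hd : ∀ q, C.d q (q + 1) = π q ≫ j (q + 1))
    (w : ∀ q, 0 ≤ q → j q ≫ π q = 0)
    (hses : ∀ q (hq : 0 ≤ q), (ShortComplex.mk (j q) (π q) (w q hq)).ShortExact)
    (hinj : ∀ q, 0 ≤ q → Injective (C.X q)) (hneg : ∀ q, q < 0 → IsZero (C.X q)) :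
    CE.IsInjResolutionVia C (M 0) (j 0) := by
  have hd0 : C.d 0 1 = π 0 ≫ j (0 + 1) := hd 0
  have h : j 0 ≫ C.d 0 1 = 0 := by
    rw [hd0, reassoc_of% (w 0 le_rfl), zero_comp]
  refine ⟨h, ?_, ?_, ?_, ?_, ?_⟩
  · rw [CochainComplex.isStrictlyGE_iff]
    exact hneg
  · intro q
    by_cases hq : 0 ≤ q
    · exact hinj q hq
    · exact (hneg q (by omega)).injective
  · intro q hq0
    by_cases hq : q < 0
    · rw [HomologicalComplex.exactAt_iff]
      exact ShortComplex.exact_of_isZero_X₂ _ (hneg q hq)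
    · obtain ⟨r, rfl⟩ : ∃ r, r + 1 = q := ⟨q - 1, by omega⟩
      have hr : 0 ≤ r := by omega
      rw [C.exactAt_iff' r (r + 1) (r + 1 + 1) (by simp) (by simp)]
      haveI : Epi (π r) := (hses r hr).epi_g
      haveI : Mono (j (r + 1 + 1)) := (hses (r + 1 + 1) (by omega)).mono_f
      have := exact_splice (π r) (j (r + 1)) (π (r + 1)) (j (r + 1 + 1)) (w (r + 1) (by omega))
        (hses (r + 1) (by omega)).exact
      refine ShortComplex.exact_of_iso ?_ this
      exact ShortComplex.isoMk (Iso.refl _) (Iso.refl _) (Iso.refl _)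
        (by
          show 𝟙 (C.X r) ≫ C.d r (r + 1) = (π r ≫ j (r + 1)) ≫ 𝟙 (C.X (r + 1))
          rw [hd r, Category.id_comp, Category.comp_id])
        (by
          show 𝟙 (C.X (r + 1)) ≫ C.d (r + 1) (r + 1 + 1) =
            (π (r + 1) ≫ j (r + 1 + 1)) ≫ 𝟙 (C.X (r + 1 + 1))
          rw [hd (r + 1), Category.id_comp, Category.comp_id])
  · exact (hses 0 le_rfl).mono_f
  · haveI : Mono (j (0 + 1)) := (hses (0 + 1) (by omega)).mono_f
    have := exact_splice (𝟙 (M 0)) (j 0) (π 0) (j (0 + 1)) (w 0 le_rfl) (hses 0 le_rfl).exact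
    refine ShortComplex.exact_of_iso ?_ this
    exact ShortComplex.isoMk (Iso.refl _) (Iso.refl _) (Iso.refl _)
      (by
        show 𝟙 (M 0) ≫ j 0 = (𝟙 (M 0) ≫ j 0) ≫ 𝟙 (C.X 0)
        rw [Category.comp_id])
      (by
        show 𝟙 (C.X 0) ≫ C.d 0 1 = (π 0 ≫ j (0 + 1)) ≫ 𝟙 (C.X 1)
        rw [hd0, Category.id_comp]
        exact (Category.comp_id _).symm)

end Splice

section Iter

variable {A : Type u} [Category.{v} A] [Abelian A] [EnoughInjectives A] (n : ℤ)

/-- complexes strictly `≥ n` -/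
structure BCx where
  /-- the complex -/
  K : CochainComplex A ℤ
  ge : K.IsStrictlyGE n

attribute [instance] BCx.ge

variable {n}

/-- the short exact sequence `K → E(K) → E(K)/K` -/
noncomputable def ses (K : CochainComplex A ℤ) : ShortComplex (CochainComplex A ℤ) :=
  ShortComplex.mk (emb K) (cokernel.π (emb K)) (cokernel.condition _)

lemma ses_shortExact (K : CochainComplex A ℤ) : (ses K).ShortExact :=
  { exact := ShortComplex.exact_of_g_is_cokernel _ (cokernelIsCokernel _)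
    mono_f := inferInstanceAs (Mono (emb K))
    epi_g := inferInstanceAs (Epi (cokernel.π (emb K))) }

lemma isStrictlyGE_cokernel (K : CochainComplex A ℤ) [K.IsStrictlyGE n] :
    (cokernel (emb K)).IsStrictlyGE n := by
  rw [CochainComplex.isStrictlyGE_iff]
  intro p hp
  haveI : Epi ((cokernel.π (emb K)).f p) :=
    inferInstanceAs (Epi ((HomologicalComplex.eval A (ComplexShape.up ℤ) p).map (cokernel.π (emb K))))
  exact IsZero.of_epi ((cokernel.π (emb K)).f p) ((EC K).isZero_of_isStrictlyGE n p hp)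

/-- the next complex -/
noncomputable def next (X : BCx (A := A) n) : BCx (A := A) n where
  K := cokernel (emb X.K)
  ge := isStrictlyGE_cokernel X.K

variable (n)

/-- the sequence of successive quotients -/
noncomputable def Qs (K : CochainComplex A ℤ) [K.IsStrictlyGE n] : ℕ → BCx (A := A) n
  | 0 => ⟨K, inferInstance⟩
  | m + 1 => next (Qs K m)

variable (K : CochainComplex A ℤ) [K.IsStrictlyGE n]

/-- quotients, indexed by `ℤ` -/
noncomputable def Qz : ℤ → CochainComplex A ℤ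
  | Int.ofNat m => (Qs n K m).K
  | Int.negSucc _ => 0

/-- the rows, indexed by `ℤ` -/
noncomputable def Iz : ℤ → CochainComplex A ℤ
  | Int.ofNat m => EC (Qs n K m).K
  | Int.negSucc _ => 0

noncomputable def jz : ∀ q : ℤ, Qz n K q ⟶ Iz n K q
  | Int.ofNat m => emb (Qs n K m).K
  | Int.negSucc _ => 0

noncomputable def πz : ∀ q : ℤ, Iz n K q ⟶ Qz n K (q + 1)
  | Int.ofNat m => (cokernel.π (emb (Qs n K m).K) : EC (Qs n K m).K ⟶ (Qs n K (m + 1)).K)
  | Int.negSucc _ => 0

lemma jz_πz : ∀ q : ℤ, jz n K q ≫ πz n K q = 0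
  | Int.ofNat m => cokernel.condition (emb (Qs n K m).K)
  | Int.negSucc _ => zero_comp

/-- the vertical differential -/
noncomputable def dIz (q : ℤ) : Iz n K q ⟶ Iz n K (q + 1) := πz n K q ≫ jz n K (q + 1)

lemma dIz_comp (q : ℤ) : dIz n K q ≫ dIz n K (q + 1) = 0 := by
  unfold dIz
  rw [Category.assoc, reassoc_of% (jz_πz n K (q + 1)), zero_comp, comp_zero]

/-- the Cartan–Eilenberg double complex -/
noncomputable def I : CochainComplex (CochainComplex A ℤ) ℤ :=
  CochainComplex.of (Iz n K) (dIz n K) (dIz_comp n K)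

lemma I_d (q : ℤ) : (I n K).d q (q + 1) = dIz n K q := CochainComplex.of_d _ _ q

end Iter

section Main

variable {A : Type u} [Category.{v} A] [Abelian A] [EnoughInjectives A] (n : ℤ)
  (K : CochainComplex A ℤ) [K.IsStrictlyGE n]

lemma isZero_I_X (p q : ℤ) (hp : p < n) : IsZero (((I n K).X q).X p) := by
  show IsZero ((Iz n K q).X p)
  cases q with
  | ofNat m => exact (EC (Qs n K m).K).isZero_of_isStrictlyGE n p hp
  | negSucc m =>
    exact (HomologicalComplex.eval A (ComplexShape.up ℤ) p).map_isZero (isZero_zero _)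

/-- the general resolution statement for a functor `Φ` which keeps the sequences `ses` short exact -/
theorem resolution_via {B : Type u'} [Category.{v'} B] [Abelian B]
    (Φ : CochainComplex A ℤ ⥤ B) [Φ.PreservesZeroMorphisms]
    (h1 : ∀ m : ℕ, ((ses (Qs n K m).K).map Φ).ShortExact)
    (h2 : ∀ m : ℕ, Injective (Φ.obj (EC (Qs n K m).K))) :
    CE.IsInjResolutionVia ((Φ.mapHomologicalComplex (ComplexShape.up ℤ)).obj (I n K))
      (Φ.obj K) (Φ.map (jz n K 0)) := by
  refine splice ((Φ.mapHomologicalComplex (ComplexShape.up ℤ)).obj (I n K))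
    (fun q => Φ.obj (Qz n K q)) (fun q => Φ.map (jz n K q)) (fun q => Φ.map (πz n K q))
    ?_ ?_ ?_ ?_ ?_
  · intro q
    show Φ.map ((I n K).d q (q + 1)) = _
    rw [I_d, dIz]
    exact Φ.map_comp _ _
  · intro q _
    exact (Φ.map_comp _ _).symm.trans ((congrArg Φ.map (jz_πz n K q)).trans (Φ.map_zero _ _))
  · intro q hq
    obtain ⟨m, rfl⟩ := Int.eq_ofNat_of_zero_le hq
    exact h1 m
  · intro q hq
    obtain ⟨m, rfl⟩ := Int.eq_ofNat_of_zero_le hq
    exact h2 m
  · intro q hq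
    cases q with
    | ofNat m => exact absurd hq (by simp)
    | negSucc m => exact Φ.map_isZero (isZero_zero _)

include n in
theorem main : ∃ (I : CochainComplex (CochainComplex A ℤ) ℤ) (ε : K ⟶ I.X 0)
    (hε : ε ≫ I.d 0 1 = 0),
      (∃ i : ℤ, ∀ p q : ℤ, p < i → IsZero ((I.X q).X p)) ∧
      (∀ p : ℤ, CE.IsInjResolutionVia (((HomologicalComplex.eval A (ComplexShape.up ℤ) p).mapHomologicalComplex (ComplexShape.up ℤ)).obj I) (K.X p) (ε.f p)) ∧
      (∀ p : ℤ, CE.IsInjResolutionVia (((HomologicalComplex.cyclesFunctor A (ComplexShape.up ℤ) p).mapHomologicalComplex (ComplexShape.up ℤ)).obj I) (K.cycles p) (HomologicalComplex.cyclesMap ε p)) ∧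
      (∀ p : ℤ, CE.IsInjResolutionVia (((HomologicalComplex.homologyFunctor A (ComplexShape.up ℤ) p).mapHomologicalComplex (ComplexShape.up ℤ)).obj I) (K.homology p) (HomologicalComplex.homologyMap ε p)) := by
  have hε : (jz n K 0 : K ⟶ (I n K).X 0) ≫ (I n K).d 0 1 = 0 := by
    have h01 : (I n K).d 0 1 = dIz n K 0 := I_d n K 0
    rw [h01]
    unfold dIz
    exact (Category.assoc _ _ _).symm.trans (by rw [jz_πz, zero_comp])
  refine ⟨I n K, jz n K 0, hε, ⟨n, fun p q hp => isZero_I_X n K p q hp⟩, ?_, ?_, ?_⟩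
  · intro p
    exact resolution_via n K (HomologicalComplex.eval A (ComplexShape.up ℤ) p)
      (fun m => (ses_shortExact _).map_of_exact _)
      (fun m => injective_EC_X _ p)
  · intro p
    exact resolution_via n K (HomologicalComplex.cyclesFunctor A (ComplexShape.up ℤ) p)
      (fun m => cycles_shortExact (ses_shortExact _) (fun p => mono_opcyclesMap_emb _ p) p)
      (fun m => injective_EC_cycles _ p)
  · intro p
    exact resolution_via n K (HomologicalComplex.homologyFunctor A (ComplexShape.up ℤ) p)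
      (fun m => homology_shortExact (ses_shortExact _) (fun p => mono_opcyclesMap_emb _ p) p)
      (fun m => injective_EC_homology _ p)

end Main

end Groth.Agent.Helper29.CE3
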