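import Mathlib
import Groth.Prelude.Def_SGA4a

universe u

open CategoryTheory CategoryTheory.Limits

namespace Groth.Agent.Helper29.CoprodVK

/-- coproducts of types are van Kampen (cofan version) -/
theorem cofan_vanKampen {ι : Type u} {X : ι → Type u} (c : Cofan X) (hc : IsColimit c) :
    IsVanKampenColimit c := by
  intro F' c' α f e hα
  let Y : ι → Type u := F'.obj ∘ Discrete.mk
  have hF : F' = Discrete.functor Y :=
    Functor.hext (fun i ↦ rfl) (by rintro ⟨i⟩ ⟨j⟩ ⟨⟨rfl : i = j⟩⟩; simp [Y])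
  clear_value Y
  subst hF
  have he : ∀ (i : ι) (y : Y i), f (Cofan.inj c' i y) = Cofan.inj c i (α.app ⟨i⟩ y) := by
    intro i y
    have := ConcreteCategory.congr_hom (NatTrans.congr_app e ⟨i⟩) y
    exact this.symm
  constructor
  · rintro ⟨hc'⟩ ⟨i⟩
    rw [Types.isPullback_iff]
    refine ⟨(NatTrans.congr_app e ⟨i⟩).symm, ?_, ?_⟩
    · rintro y₁ y₂ ⟨h1, -⟩
      exact Cofan.inj_injective_of_isColimit hc' i h1
    · intro x z hxz
      obtain ⟨k, y, rfl⟩ := Cofan.inj_jointly_surjective_of_isColimit hc' x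
      have h1 : Cofan.inj c k (α.app ⟨k⟩ y) = Cofan.inj c i z := (he k y).symm.trans hxz
      obtain rfl := Cofan.eq_of_inj_apply_eq_of_isColimit hc _ _ h1
      exact ⟨y, rfl, Cofan.inj_injective_of_isColimit hc k h1⟩
  · intro H
    rw [Cofan.nonempty_isColimit_iff_bijective_fromSigma]
    constructor
    · rintro ⟨i, y⟩ ⟨k, y'⟩ h
      have h' : Cofan.inj c' i y = Cofan.inj c' k y' := h
      have h1 : Cofan.inj c i (α.app ⟨i⟩ y) = Cofan.inj c k (α.app ⟨k⟩ y') := by
        rw [← he, ← he, h']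
      obtain rfl := Cofan.eq_of_inj_apply_eq_of_isColimit hc _ _ h1
      have h2 := Cofan.inj_injective_of_isColimit hc i h1
      have := Types.ext_of_isPullback (H ⟨i⟩) h' h2
      rw [this]
    · intro x
      obtain ⟨i, z, hz⟩ := Cofan.inj_jointly_surjective_of_isColimit hc (f x)
      obtain ⟨y, hy, -⟩ := Types.exists_of_isPullback (H ⟨i⟩) x z hz.symm
      exact ⟨⟨i, y⟩, hy⟩

/-- coproducts of types are van Kampen (cocone version) -/
theorem cocone_vanKampen {ι : Type u} {F : Discrete ι ⥤ Type u} (c : Cocone F) (hc : IsColimit c) :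
    IsVanKampenColimit c := by
  let X : ι → Type u := F.obj ∘ Discrete.mk
  have hF : F = Discrete.functor X :=
    Functor.hext (fun i ↦ rfl) (by rintro ⟨i⟩ ⟨j⟩ ⟨⟨rfl : i = j⟩⟩; simp [X])
  clear_value X
  subst hF
  exact cofan_vanKampen c hc

end Groth.Agent.Helper29.CoprodVK
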