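import Mathlib
import Groth.Prelude.Def_SGA4a
import Groth.Agent.Lib.Helper29.CoprodVK

universe u

open CategoryTheory CategoryTheory.Limits

namespace Groth.Agent.Helper29.CoprodVKB

open Groth.Agent.Helper29.CoprodVK

variable {C : Type u} [SmallCategory C] (J : GrothendieckTopology C)

/-- small coproducts of presheaves of sets are van Kampen -/
theorem presheaf_vanKampen {ι : Type u} {F : Discrete ι ⥤ (Cᵒᵖ ⥤ Type u)} (c : Cocone F)
    (hc : IsColimit c) : IsVanKampenColimit c := by
  apply isVanKampenColimit_of_evaluation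
  intro x
  exact cocone_vanKampen _ (isColimitOfPreserves ((evaluation Cᵒᵖ (Type u)).obj x) hc)

/-- small coproducts of sheaves of sets are van Kampen -/
theorem sheaf_vanKampen {ι : Type u} (X : ι → Sheaf J (Type u)) :
    ∃ (c : Cofan X) (_ : IsColimit c), IsVanKampenColimit c := by
  let F : Discrete ι ⥤ Sheaf J (Type u) := Discrete.functor X
  let Gl := presheafToSheaf J (Type u)
  let Gr := sheafToPresheaf J (Type u)
  let adj : Gl ⊣ Gr := sheafificationAdjunction J (Type u)
  let cP : Cocone (F ⋙ Gr) := colimit.cocone (F ⋙ Gr)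
  have hcP : IsColimit cP := colimit.isColimit _
  have vkP : IsVanKampenColimit cP := presheaf_vanKampen cP hcP
  have vk1 : IsVanKampenColimit (Gl.mapCocone cP) := vkP.map_reflective adj
  let iso : (F ⋙ Gr) ⋙ Gl ≅ F :=
    Functor.associator _ _ _ ≪≫ Functor.isoWhiskerLeft F (asIso adj.counit) ≪≫ F.rightUnitor
  have : PreservesColimitsOfSize.{u, u} Gl := adj.leftAdjoint_preservesColimits
  refine ⟨(Cocone.precompose iso.inv).obj (Gl.mapCocone cP), ?_, ?_⟩
  · exact (IsColimit.precomposeInvEquiv iso _).symm (isColimitOfPreserves Gl hcP)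
  · exact IsVanKampenColimit.precompose_isIso iso.inv vk1

instance sheafHasInitial : HasInitial (Sheaf J (Type u)) := by
  haveI : HasFiniteColimits (Sheaf J (Type u)) := inferInstance
  exact HasFiniteColimits.out _

set_option synthInstance.maxHeartbeats 40000 in
theorem disjointUniversal :
    SGA4.HasDisjointUniversalCoproducts.{u + 1, u} (Sheaf J (Type u)) := by
  intro ι X
  obtain ⟨c, hc, vk⟩ := sheaf_vanKampen J X
  refine ⟨c, hc, ?_, vk.isUniversal⟩
  haveI : ∀ i, Mono (c.inj i) := fun i => mono_of_cofan_isVanKampen vk ⟨i⟩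
  refine CoproductDisjoint.of_cofan hc
    (fun {i j} hij => (isPullback_initial_to_of_cofan_isVanKampen vk ⟨i⟩ ⟨j⟩
      (fun h => hij (congrArg Discrete.as h))).cone)
    (fun {i j} hij => (isPullback_initial_to_of_cofan_isVanKampen vk ⟨i⟩ ⟨j⟩
      (fun h => hij (congrArg Discrete.as h))).isLimit)
    (fun {i j} hij => initialIsInitial)

end Groth.Agent.Helper29.CoprodVKB
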