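import Mathlib
import Groth.Prelude.Def_SGA4a
import Groth.Agent.Lib.Helper29.CoprodVKB
import Groth.Agent.Lib.Helper29.ShQBase

universe v u

open CategoryTheory CategoryTheory.Limits

namespace Groth.Agent.Helper29.CoprodVKC

open Groth.Agent.Helper29.ShQBase

/-- an equivalence relation on generalized points gives a Mathlib `EquivalenceRelation` -/
noncomputable def equivRelOf {E : Type v} [Category.{u} E] [HasPullbacks E] {R A : E}
    {p₁ p₂ : R ⟶ A} (h : SGA4.IsEquivRel p₁ p₂) : EquivalenceRelation p₁ p₂ where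
  right_cancellation T f g h1 h2 := (h T).1 (Prod.ext h1 h2)
  r := ((h A).2.refl (𝟙 A)).choose
  reflexivity₁ := ((h A).2.refl (𝟙 A)).choose_spec.1
  reflexivity₂ := ((h A).2.refl (𝟙 A)).choose_spec.2
  s := ((h R).2.symm ⟨𝟙 R, Category.id_comp _, Category.id_comp _⟩).choose
  symmetry₁ := ((h R).2.symm ⟨𝟙 R, Category.id_comp _, Category.id_comp _⟩).choose_spec.1
  symmetry₂ := ((h R).2.symm ⟨𝟙 R, Category.id_comp _, Category.id_comp _⟩).choose_spec.2
  c := pullback.cone p₂ p₁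
  isLimit := pullback.isLimit p₂ p₁
  t := ((h (pullback p₂ p₁)).2.trans ⟨pullback.fst p₂ p₁, rfl, rfl⟩
    ⟨pullback.snd p₂ p₁, pullback.condition.symm, rfl⟩).choose
  transitivity₁ := ((h (pullback p₂ p₁)).2.trans ⟨pullback.fst p₂ p₁, rfl, rfl⟩
    ⟨pullback.snd p₂ p₁, pullback.condition.symm, rfl⟩).choose_spec.1
  transitivity₂ := ((h (pullback p₂ p₁)).2.trans ⟨pullback.fst p₂ p₁, rfl, rfl⟩
    ⟨pullback.snd p₂ p₁, pullback.condition.symm, rfl⟩).choose_spec.2

variable {C : Type u} [SmallCategory C] (J : GrothendieckTopology C)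

theorem effectiveUniversal (R A : Sheaf J (Type u)) (p₁ p₂ : R ⟶ A)
    (h : SGA4.IsEquivRel p₁ p₂) : SGA4.IsEffectiveUniversalEquivRel p₁ p₂ := by
  let e := sheafUniversallyEffective (equivRelOf h)
  refine ⟨e.B, e.π, e.isKernelPair, e.isPushout, ?_⟩
  intro B' g
  exact e.universally_effectiveEpi_π (pullback.fst e.π g) g (pullback.snd e.π g)
    (IsPullback.of_hasPullback e.π g).flip

theorem main3081 :
    SGA4.HasDisjointUniversalCoproducts.{u + 1, u} (Sheaf J (Type u)) ∧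
    ∀ (R A : Sheaf J (Type u)) (p₁ p₂ : R ⟶ A), SGA4.IsEquivRel p₁ p₂ →
      SGA4.IsEffectiveUniversalEquivRel p₁ p₂ :=
  ⟨Groth.Agent.Helper29.CoprodVKB.disjointUniversal J, effectiveUniversal J⟩

end Groth.Agent.Helper29.CoprodVKC
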