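import Mathlib
import Groth.Prelude.Def_SGA4a
import Groth.Agent.Lib.Helper29.CoprodVKC

universe u
open CategoryTheory CategoryTheory.Limits Opposite

namespace Groth.Agent.Helper29.CanEqA

variable {C : Type u} [SmallCategory C]

/-- comparison between `yoneda ⋙ sheafification` and the sheaf-valued yoneda for a subcanonical
topology -/
noncomputable def epsIso (J : GrothendieckTopology C) [J.Subcanonical] :
    yoneda ⋙ presheafToSheaf J (Type u) ≅ J.yoneda :=
  Functor.isoWhiskerRight J.yonedaCompSheafToPresheaf.symm (presheafToSheaf J (Type u)) ≪≫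
    Functor.associator _ _ _ ≪≫
    Functor.isoWhiskerLeft J.yoneda (sheafificationNatIso J (Type u)).symm ≪≫
    Functor.rightUnitor _

/-- a fully faithful functor preserving pullbacks reflects effective epimorphisms -/
lemma effectiveEpi_of_map_of_fullyFaithful {D : Type*} [Category D] (F : C ⥤ D) [F.Full]
    [F.Faithful] [HasPullbacks C] [PreservesLimitsOfShape WalkingCospan F] {Y B : C} (f : Y ⟶ B)
    [EffectiveEpi (F.map f)] : EffectiveEpi f := by
  have hpb : IsPullback (F.map (pullback.fst f f)) (F.map (pullback.snd f f)) (F.map f) (F.map f) :=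
    (IsPullback.of_hasPullback f f).map F
  have key : ∀ {W : C} (e : Y ⟶ W),
      (∀ {Z : C} (g₁ g₂ : Z ⟶ Y), g₁ ≫ f = g₂ ≫ f → g₁ ≫ e = g₂ ≫ e) →
      ∀ {Z : D} (g₁ g₂ : Z ⟶ F.obj Y), g₁ ≫ F.map f = g₂ ≫ F.map f →
        g₁ ≫ F.map e = g₂ ≫ F.map e := by
    intro W e h Z g₁ g₂ hg
    have h1 : pullback.fst f f ≫ e = pullback.snd f f ≫ e := h _ _ pullback.condition
    have e1 : g₁ = hpb.lift g₁ g₂ hg ≫ F.map (pullback.fst f f) := (hpb.lift_fst _ _ _).symm
    have e2 : g₂ = hpb.lift g₁ g₂ hg ≫ F.map (pullback.snd f f) := (hpb.lift_snd _ _ _).symm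
    rw [e1, Category.assoc, ← F.map_comp, h1, F.map_comp, ← Category.assoc, ← e2]
  refine ⟨⟨{ desc := fun e h => F.preimage (EffectiveEpi.desc (F.map f) (F.map e) (key e h))
             fac := ?_
             uniq := ?_ }⟩⟩
  · intro W e h
    apply F.map_injective
    rw [F.map_comp, F.map_preimage, EffectiveEpi.fac]
  · intro W e h m hm
    apply F.map_injective
    rw [F.map_preimage]
    apply EffectiveEpi.uniq
    rw [← F.map_comp, hm]

instance jointlyMono_yoneda (J : GrothendieckTopology C) [J.Subcanonical] {R X : C}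
    (p₁ p₂ : R ⟶ X) [JointlyMono₂ p₁ p₂] :
    JointlyMono₂ (J.yoneda.map p₁) (J.yoneda.map p₂) where
  right_cancellation T f g h1 h2 := by
    apply J.hom_ext_yoneda
    intro U p
    apply J.yonedaEquiv.injective
    have e1 := congrArg J.yonedaEquiv (congrArg (fun k => p ≫ k) h1)
    have e2 := congrArg J.yonedaEquiv (congrArg (fun k => p ≫ k) h2)
    simp only [← Category.assoc] at e1 e2
    rw [J.yonedaEquiv_comp, J.yonedaEquiv_comp] at e1 e2
    -- elements of `yoneda R (U)` are morphisms `U ⟶ R`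
    exact JointlyMono₂.right_cancellation (p₁ := p₁) (p₂ := p₂)
      (J.yonedaEquiv (p ≫ f)) (J.yonedaEquiv (p ≫ g)) e1 e2

end Groth.Agent.Helper29.CanEqA
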