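import Mathlib
import Groth.Prelude.Def_SGA4a
import Groth.Agent.Lib.Helper29.CanEqA

universe u
open CategoryTheory CategoryTheory.Limits Opposite

namespace Groth.Agent.Helper29.CanCopA

variable {C : Type u} [SmallCategory C] {X : C} {ι : Type u} {Y : ι → C} {s : ∀ i, Y i ⟶ X}

/-- pulled-back cofan of a universal colimit cofan is a colimit -/
lemma pullback_cofan_isColimit (huniv : IsUniversalColimit (Cofan.mk X s)) {Z : C} (g : Z ⟶ X)
    (P : ι → C) (p₁ : ∀ i, P i ⟶ Y i) (p₂ : ∀ i, P i ⟶ Z)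
    (hP : ∀ i, IsPullback (p₁ i) (p₂ i) (s i) g) :
    Nonempty (IsColimit (Cofan.mk Z p₂)) := by
  refine huniv (Cofan.mk Z p₂) (Discrete.natTrans fun i => p₁ i.as) g ?_ (.of_discrete _) ?_
  · ext ⟨i⟩
    simpa using (hP i).w
  · rintro ⟨i⟩
    exact (hP i).flip

/-- an object mapping to two different summands of a universal coproduct has at most one map to
any object -/
lemma hom_unique_of_two (huniv : IsUniversalColimit (Cofan.mk X s))
    [∀ (i : ι) (Z : C) (g : Z ⟶ X), HasPullback (s i) g] {Z : C} {i j : ι} (hij : i ≠ j)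
    (a : Z ⟶ Y i) (b : Z ⟶ Y j) (hab : a ≫ s i = b ≫ s j) {W : C} (f g : Z ⟶ W) : f = g := by
  classical
  let h : Z ⟶ X := a ≫ s i
  obtain ⟨hc⟩ := pullback_cofan_isColimit huniv h (fun k => pullback (s k) h)
    (fun k => pullback.fst _ _) (fun k => pullback.snd _ _)
    (fun k => IsPullback.of_hasPullback _ _)
  let σi : Z ⟶ pullback (s i) h := pullback.lift a (𝟙 Z) (by simp [h])
  let σj : Z ⟶ pullback (s j) h := pullback.lift b (𝟙 Z) (by simp [h, hab])
  have hi : σi ≫ pullback.snd (s i) h = 𝟙 Z := pullback.lift_snd _ _ _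
  have hj : σj ≫ pullback.snd (s j) h = 𝟙 Z := pullback.lift_snd _ _ _
  let F : ∀ k, pullback (s k) h ⟶ W := fun k =>
    if k = j then pullback.snd (s k) h ≫ g else pullback.snd (s k) h ≫ f
  let d : Z ⟶ W := Cofan.IsColimit.desc hc F
  have hd : ∀ k, pullback.snd (s k) h ≫ d = F k := fun k => Cofan.IsColimit.fac hc F k
  have e1 : d = f := by
    have h1 := hd i
    simp only [F, if_neg hij] at h1
    calc d = σi ≫ pullback.snd (s i) h ≫ d := by rw [← Category.assoc, hi, Category.id_comp]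
    _ = σi ≫ pullback.snd (s i) h ≫ f := by rw [h1]
    _ = f := by rw [← Category.assoc, hi, Category.id_comp]
  have e2 : d = g := by
    have h1 := hd j
    simp only [F, if_true] at h1
    calc d = σj ≫ pullback.snd (s j) h ≫ d := by rw [← Category.assoc, hj, Category.id_comp]
    _ = σj ≫ pullback.snd (s j) h ≫ g := by rw [h1]
    _ = g := by rw [← Category.assoc, hj, Category.id_comp]
  exact e1.symm.trans e2

/-- if every object over `Z` is "initial", the empty sieve covers `Z` canonically -/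
lemma bot_mem_canonical {Z : C}
    (H : ∀ ⦃Z' : C⦄ (_ : Z' ⟶ Z) (W : C), Nonempty (Unique (Z' ⟶ W))) :
    (⊥ : Sieve Z) ∈ Sheaf.canonicalTopology C Z := by
  refine Sheaf.mem_finestTopology_of_forall_isSheafFor ?_
  rintro _ ⟨W, rfl⟩ Z' g
  obtain ⟨hu⟩ := H g W
  intro x _
  refine ⟨(default : Z' ⟶ W), ?_, fun y _ => Subsingleton.elim _ _⟩
  intro V f hf
  exact hf.elim

end Groth.Agent.Helper29.CanCopA
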