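import Mathlib
import Groth.Prelude.Def_SGA4a
import Groth.Agent.Lib.Helper29.CanEqA
import Groth.Agent.Lib.Helper29.CoprodVKB
import Groth.Agent.Lib.Helper29.CanCopA

universe v u
open CategoryTheory CategoryTheory.Limits Opposite

namespace Groth.Agent.Helper29.CanCopB

open Groth.Agent.Helper29.CanCopA Groth.Agent.Helper29.CanEqA Groth.Agent.Helper29.CoprodVKB

section Gen

variable {C : Type u} [Category.{v} C] (J : GrothendieckTopology C) [J.Subcanonical]

set_option backward.defeqAttrib.useBackward true in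
set_option backward.isDefEq.respectTransparency false in
/-- variant of Mathlib's `isColimitCofanMkYoneda` where the disjointness hypothesis directly
provides covering by the empty sieve -/
noncomputable def isColimitCofanMkYoneda' {ι : Type*} (X : ι → C) {c : Cofan X}
    (H : (Sieve.ofArrows _ c.inj) ∈ J c.pt) [∀ (i : ι), Mono (c.inj i)]
    (hdisj : ∀ {i j : ι} (_ : i ≠ j) {Y : C} (a : Y ⟶ X i)
      (b : Y ⟶ X j), a ≫ c.inj i = b ≫ c.inj j → ⊥ ∈ J Y) :
    IsColimit (Cofan.mk _ fun i ↦ J.yoneda.map (c.inj i)) := by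
  have heq (s : Cofan fun i ↦ J.yoneda.obj (X i))
      {Y : C} {i j : ι} (a : Y ⟶ X i) (b : Y ⟶ X j) (hab : a ≫ c.inj i = b ≫ c.inj j) :
      (s.inj i).hom.app (op Y) a = (s.inj j).hom.app (op Y) b := by
    by_cases h : i = j
    · subst h
      rw [(cancel_mono _).mp hab]
    · have h' := hdisj h a b hab
      have := Types.isTerminalEquivUnique _ (Sheaf.isTerminalOfBotCover s.pt _ h')
      exact Subsingleton.elim _ _
  refine Cofan.IsColimit.mk _ (fun s ↦ ⟨?_⟩) (fun s j ↦ ?_) fun s m hm ↦ ?_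
  · refine (s.pt.2.isSheafFor _ H).extend ?_
    refine ⟨fun Y ↦ ↾fun g ↦ ((s.inj (Sieve.ofArrows.i g.2)).hom.app Y)
      (Sieve.ofArrows.h g.2), ?_⟩
    intro ⟨Y⟩ ⟨Z⟩ ⟨(g : Z ⟶ Y)⟩
    ext u
    simp only [Sieve.functor_obj, Sieve.generate_apply, Sieve.functor_map, Quiver.Hom.unop_op',
      TypeCat.Fun.toFun_apply, comp_apply, ConcreteCategory.hom_ofHom, TypeCat.Fun.coe_mk,
      ← heq s (g ≫ Sieve.ofArrows.h u.2)
      (Sieve.ofArrows.h <| Sieve.downward_closed _ u.2 g) (by simp)]
    exact ConcreteCategory.congr_hom ((s.inj _).hom.naturality g.op) _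
  · ext : 1
    let u (j : ι) : CategoryTheory.yoneda.obj (X j) ⟶ (Sieve.ofArrows _ c.inj).functor :=
      (Sieve.ofArrows _ c.inj).toFunctor (c.inj j) (Sieve.ofArrows_mk _ _ j)
    have (j : ι) : u j ≫ (Sieve.ofArrows _ c.inj).functorInclusion =
      CategoryTheory.yoneda.map (c.inj j) := rfl
    dsimp
    simp only [← this, Category.assoc, Presieve.IsSheafFor.functorInclusion_comp_extend]
    ext Z (g : Z.unop ⟶ X j)
    have h : Sieve.ofArrows X c.inj (g ≫ c.inj j) :=
      Sieve.downward_closed _ (Sieve.ofArrows_mk _ _ j) _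
    exact heq s (Sieve.ofArrows.h h) g (by simp)
  · ext : 1
    dsimp
    apply Presieve.IsSheafFor.unique_extend
    ext Y ⟨g, hg⟩
    simp [← hm (Sieve.ofArrows.i hg)]

end Gen

variable {C : Type u} [SmallCategory C] {X : C} {ι : Type u} {Y : ι → C} {s : ∀ i, Y i ⟶ X}

/-- a universal colimit cofan generates a canonical covering sieve -/
lemma ofArrows_mem_canonical (huniv : IsUniversalColimit (Cofan.mk X s))
    [∀ (i : ι) (Z : C) (g : Z ⟶ X), HasPullback (s i) g] :
    Sieve.ofArrows Y s ∈ Sheaf.canonicalTopology C X := by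
  refine Sheaf.mem_finestTopology_of_forall_isSheafFor ?_
  rintro _ ⟨W, rfl⟩ Z g
  have e : ((Sieve.ofArrows Y s).pullback g) = Sieve.generate (Presieve.ofArrows
      (fun i => pullback (s i) g) (fun i => pullback.snd (s i) g)) := by
    rw [Presieve.ofArrows_pullback, Sieve.pullbackArrows_comm]
  rw [e, ← Presieve.isSheafFor_iff_generate, Presieve.isSheafFor_arrows_iff]
  intro x _
  obtain ⟨hc⟩ := pullback_cofan_isColimit huniv g _ (fun k => pullback.fst (s k) g)
    (fun k => pullback.snd (s k) g) (fun k => IsPullback.of_hasPullback _ _)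
  refine ⟨Cofan.IsColimit.desc hc x, fun i => ?_, fun t ht => ?_⟩
  · exact Cofan.IsColimit.fac hc x i
  · refine Cofan.IsColimit.hom_ext hc _ _ (fun i => ?_)
    rw [Cofan.IsColimit.fac]
    exact ht i

/-- `⇐` direction -/
theorem backward (hcol : IsColimit (Cofan.mk X s)) [CoproductDisjoint Y]
    (huniv : IsUniversalColimit (Cofan.mk X s))
    [∀ (i : ι) (Z : C) (g : Z ⟶ X), HasPullback (s i) g] :
    Nonempty (IsColimit (Cofan.mk ((Sheaf.canonicalTopology C).yoneda.obj X)
      (fun i => (Sheaf.canonicalTopology C).yoneda.map (s i)))) := by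
  haveI : ∀ i, Mono ((Cofan.mk X s).inj i) := fun i => CoproductDisjoint.mono_inj hcol i
  refine ⟨isColimitCofanMkYoneda' (Sheaf.canonicalTopology C) Y (c := Cofan.mk X s)
    (ofArrows_mem_canonical (s := s) huniv) ?_⟩
  intro i j hij Z a b hab
  have hab' : a ≫ s i = b ≫ s j := hab
  have I : IsInitial (pullback (s i) (s j)) := IsInitial.ofCoproductDisjointOfIsColimit hij hcol
  refine bot_mem_canonical ?_
  intro Z' g W
  exact ⟨{ default := (g ≫ pullback.lift a b hab') ≫ I.to W
           uniq := fun f => hom_unique_of_two huniv hij (g ≫ a) (g ≫ b)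
              (by simp [hab']) _ _ }⟩

end Groth.Agent.Helper29.CanCopB
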