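import Mathlib
import Groth.Prelude.Def_SGA4a
import Groth.Agent.Lib.Helper29.CanEqA
import Groth.Agent.Lib.Helper29.CoprodVKB
import Groth.Agent.Lib.Helper29.CanCopB

universe u
open CategoryTheory CategoryTheory.Limits Opposite

namespace Groth.Agent.Helper29.CanCopC

open Groth.Agent.Helper29.CanCopA Groth.Agent.Helper29.CanCopB Groth.Agent.Helper29.CanEqA
  Groth.Agent.Helper29.CoprodVKB

variable {C : Type u} [SmallCategory C]

/-- every small coproduct cocone in a category of sheaves of sets is van Kampen -/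
theorem vk_of_isColimit (J : GrothendieckTopology C) {ι : Type u}
    {F : Discrete ι ⥤ Sheaf J (Type u)} (c : Cocone F) (hc : IsColimit c) :
    IsVanKampenColimit c := by
  let Gl := presheafToSheaf J (Type u)
  let Gr := sheafToPresheaf J (Type u)
  let adj : Gl ⊣ Gr := sheafificationAdjunction J (Type u)
  let cP : Cocone (F ⋙ Gr) := colimit.cocone (F ⋙ Gr)
  have hcP : IsColimit cP := colimit.isColimit _
  have vkP : IsVanKampenColimit cP := presheaf_vanKampen cP hcP
  have vk1 : IsVanKampenColimit (Gl.mapCocone cP) := vkP.map_reflective adj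
  let iso : (F ⋙ Gr) ⋙ Gl ≅ F :=
    Functor.associator _ _ _ ≪≫ Functor.isoWhiskerLeft F (asIso adj.counit) ≪≫ F.rightUnitor
  have : PreservesColimitsOfSize.{u, u} Gl := adj.leftAdjoint_preservesColimits
  have h1 : IsColimit ((Cocone.precompose iso.inv).obj (Gl.mapCocone cP)) :=
    (IsColimit.precomposeInvEquiv iso _).symm (isColimitOfPreserves Gl hcP)
  have vk2 : IsVanKampenColimit ((Cocone.precompose iso.inv).obj (Gl.mapCocone cP)) :=
    IsVanKampenColimit.precompose_isIso iso.inv vk1
  exact vk2.of_iso (h1.uniqueUpToIso hc)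

variable {X : C} {ι : Type u} {Y : ι → C} {s : ∀ i, Y i ⟶ X}

/-- `⇒` direction -/
theorem forward [∀ (i : ι) (Z : C) (g : Z ⟶ X), HasPullback (s i) g]
    (h : IsColimit (Cofan.mk ((Sheaf.canonicalTopology C).yoneda.obj X)
      (fun i => (Sheaf.canonicalTopology C).yoneda.map (s i)))) :
    Nonempty (IsColimit (Cofan.mk X s)) ∧ CoproductDisjoint Y ∧
      IsUniversalColimit (Cofan.mk X s) := by
  let G := (Sheaf.canonicalTopology C).yoneda
  have hG : IsColimit (G.mapCocone (Cofan.mk X s)) :=
    (isColimitMapCoconeCofanMkEquiv G Y s).symm h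
  have vk : IsVanKampenColimit (G.mapCocone (Cofan.mk X s)) := vk_of_isColimit _ _ hG
  have hcol : IsColimit (Cofan.mk X s) := isColimitOfReflects G hG
  refine ⟨⟨hcol⟩, ?_, IsUniversalColimit.of_mapCocone G vk.isUniversal⟩
  haveI hmono : ∀ i, Mono ((Cofan.mk X s).inj i) := by
    intro i
    have : Mono (G.map (s i)) := mono_of_cofan_isVanKampen vk ⟨i⟩
    exact Functor.mono_of_mono_map G this
  refine CoproductDisjoint.of_cofan hcol
    (fun {i j} _ => (IsPullback.of_hasPullback (s i) (s j)).cone)
    (fun {i j} _ => (IsPullback.of_hasPullback (s i) (s j)).isLimit)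
    (fun {i j} hij => ?_)
  have hp1 : IsPullback (initial.to _) (initial.to _) (G.map (s i)) (G.map (s j)) :=
    isPullback_initial_to_of_cofan_isVanKampen vk ⟨i⟩ ⟨j⟩
      (fun h => hij (congrArg Discrete.as h))
  have hp2 : IsPullback (G.map (pullback.fst (s i) (s j))) (G.map (pullback.snd (s i) (s j)))
      (G.map (s i)) (G.map (s j)) := (IsPullback.of_hasPullback (s i) (s j)).map G
  have e : G.obj (pullback (s i) (s j)) ≅ ⊥_ _ := hp2.isoIsPullback _ _ hp1
  have I : IsInitial (G.obj (pullback (s i) (s j))) := initialIsInitial.ofIso e.symm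
  exact I.isInitialOfObj G

theorem main6143 (Y : ι → C) (s : ∀ i, Y i ⟶ X)
    [∀ (i : ι) (Z : C) (g : Z ⟶ X), HasPullback (s i) g] :
    Nonempty (IsColimit (Cofan.mk
        ((presheafToSheaf (Sheaf.canonicalTopology C) (Type u)).obj (yoneda.obj X))
        (fun i => (presheafToSheaf (Sheaf.canonicalTopology C) (Type u)).map (yoneda.map (s i))))) ↔
      (Nonempty (IsColimit (Cofan.mk X s)) ∧ CoproductDisjoint Y ∧
        IsUniversalColimit (Cofan.mk X s)) := by
  let F := yoneda ⋙ presheafToSheaf (Sheaf.canonicalTopology C) (Type u)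
  let G := (Sheaf.canonicalTopology C).yoneda
  let e : F ≅ G := epsIso (Sheaf.canonicalTopology C)
  have key : Nonempty (IsColimit (Cofan.mk (F.obj X) (fun i => F.map (s i)))) ↔
      Nonempty (IsColimit (Cofan.mk (G.obj X) (fun i => G.map (s i)))) := by
    constructor
    · rintro ⟨h⟩
      exact ⟨isColimitMapCoconeCofanMkEquiv G Y s
        (IsColimit.mapCoconeEquiv e ((isColimitMapCoconeCofanMkEquiv F Y s).symm h))⟩
    · rintro ⟨h⟩
      exact ⟨isColimitMapCoconeCofanMkEquiv F Y s
        (IsColimit.mapCoconeEquiv e.symm ((isColimitMapCoconeCofanMkEquiv G Y s).symm h))⟩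
  refine Iff.trans key ?_
  constructor
  · rintro ⟨h⟩
    exact forward h
  · rintro ⟨⟨hcol⟩, hdis, huniv⟩
    exact backward hcol huniv

end Groth.Agent.Helper29.CanCopC
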