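import Mathlib
import Groth.Prelude.Def_SGA4a
import Groth.Agent.Lib.Helper29.CanEqA

universe u
open CategoryTheory CategoryTheory.Limits Opposite

namespace Groth.Agent.Helper29.CanEqB
open Groth.Agent.Helper29.CanEqA

variable {C : Type u} [SmallCategory C] [HasPullbacks C]

/-- a universal effective epimorphism generates a covering sieve for the canonical topology -/
lemma cover_of_universal {X B : C} (π : X ⟶ B)
    (hue : ∀ (B' : C) (g : B' ⟶ B), EffectiveEpi (pullback.snd π g)) :
    Sieve.generate (Presieve.singleton π) ∈ Sheaf.canonicalTopology C B := by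
  apply Sheaf.mem_finestTopology_of_forall_isSheafFor
  rintro _ ⟨W, rfl⟩ Y f
  rw [← Sieve.pullbackArrows_comm, ← Presieve.isSheafFor_iff_generate, Presieve.pullback_singleton]
  haveI := hue Y f
  exact Presieve.IsSheafFor.singleton_of_isRepresentable_of_effectiveEpi _ _

local notation "Jc" => Sheaf.canonicalTopology C

/-- the image of a universally effective quotient under the sheaf-valued yoneda embedding is a
coequalizer -/
noncomputable def isColimitYoneda {R X B : C} (p₁ p₂ : R ⟶ X) (π : X ⟶ B)
    (hpb : IsPullback p₁ p₂ π π)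
    (hue : ∀ (B' : C) (g : B' ⟶ B), EffectiveEpi (pullback.snd π g)) :
    IsColimit (Cofork.ofπ ((Jc).yoneda.map π)
      (by rw [← Functor.map_comp, ← Functor.map_comp, hpb.w]) :
        Cofork ((Jc).yoneda.map p₁) ((Jc).yoneda.map p₂)) := by
  have hcover := cover_of_universal π hue
  have hsh : ∀ T : Sheaf Jc (Type u), Presieve.IsSheafFor T.obj (Presieve.singleton π) := by
    intro T
    rw [Presieve.isSheafFor_iff_generate]
    exact ((isSheaf_iff_isSheaf_of_type _ _).mp T.property) _ hcover
  have key : ∀ (T : Sheaf Jc (Type u)) (k : (Jc).yoneda.obj X ⟶ T),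
      (Jc).yoneda.map p₁ ≫ k = (Jc).yoneda.map p₂ ≫ k →
      ∃! σ : T.obj.obj (op B), T.obj.map π.op σ = (Jc).yonedaEquiv k := by
    intro T k hk
    have hcomp : ((Presieve.FamilyOfElements.singletonEquiv T.obj π).symm
        ((Jc).yonedaEquiv k)).Compatible := by
      rw [Presieve.FamilyOfElements.compatible_singleton_iff]
      intro Z q₁ q₂ hq
      rw [Presieve.FamilyOfElements.singletonEquiv_symm_apply_self]
      have e1 : q₁ = hpb.lift q₁ q₂ hq ≫ p₁ := (hpb.lift_fst _ _ _).symm
      have e2 : q₂ = hpb.lift q₁ q₂ hq ≫ p₂ := (hpb.lift_snd _ _ _).symm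
      rw [(Jc).yonedaEquiv_naturality, (Jc).yonedaEquiv_naturality]
      congr 1
      rw [e1, Functor.map_comp, Category.assoc, hk, ← Category.assoc, ← Functor.map_comp, ← e2]
    obtain ⟨σ, hσ, huniq⟩ := hsh T _ hcomp
    rw [Presieve.FamilyOfElements.isAmalgamation_singleton_iff,
      Presieve.FamilyOfElements.singletonEquiv_symm_apply_self] at hσ
    refine ⟨σ, hσ, fun σ' hσ' => huniq σ' ?_⟩
    beta_reduce at hσ' ⊢
    rw [Presieve.FamilyOfElements.isAmalgamation_singleton_iff,
      Presieve.FamilyOfElements.singletonEquiv_symm_apply_self]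
    exact hσ'
  refine Cofork.IsColimit.mk' _ (fun s => ?_)
  have h := key s.pt s.π s.condition
  refine ⟨(Jc).yonedaEquiv.symm h.choose, ?_, ?_⟩
  · show (Jc).yoneda.map π ≫ _ = _
    rw [(Jc).yonedaEquiv_symm_naturality_left, h.choose_spec.1, Equiv.symm_apply_apply]
  · intro m hm
    apply (Jc).yonedaEquiv.injective
    rw [Equiv.apply_symm_apply]
    apply h.choose_spec.2
    rw [(Jc).yonedaEquiv_naturality]
    congr 1

end Groth.Agent.Helper29.CanEqB
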