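import Mathlib
import Groth.Prelude.Def_SGA4a
import Groth.Agent.Lib.Helper29.CanEqB

universe u
open CategoryTheory CategoryTheory.Limits Opposite

namespace Groth.Agent.Helper29.CanEqC
open Groth.Agent.Helper29.CanEqA Groth.Agent.Helper29.CanEqB Groth.Agent.Helper29.CoprodVKC
  Groth.Agent.Helper29.ShQBase

variable {C : Type u} [SmallCategory C] [HasPullbacks C]

local notation "Jc" => Sheaf.canonicalTopology C

theorem forward {R X : C} (p₁ p₂ : R ⟶ X) (c : Cofork p₁ p₂) (hc : IsColimit c)
    (h : SGA4.IsEffectiveUniversalEquivRel p₁ p₂) :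
    Nonempty (IsColimit ((yoneda ⋙ presheafToSheaf Jc (Type u)).mapCocone c)) := by
  obtain ⟨B, π, hpb, hpo, hue⟩ := h
  have hπc : IsColimit (Cofork.ofπ π hpo.w) := hpo.isLimitFork
  have h1 := isColimitYoneda p₁ p₂ π hpb hue
  have h2 : IsColimit ((Jc).yoneda.mapCocone (Cofork.ofπ π hpo.w)) :=
    (isColimitMapCoconeCoforkEquiv (Jc).yoneda hpo.w).symm h1
  have iso : c ≅ Cofork.ofπ π hpo.w := hc.uniqueUpToIso hπc
  have h3 : IsColimit ((Jc).yoneda.mapCocone c) :=
    IsColimit.ofIsoColimit h2 ((Cocone.functoriality _ (Jc).yoneda).mapIso iso.symm)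
  exact ⟨IsColimit.mapCoconeEquiv (epsIso Jc).symm h3⟩

/-- the image of an equivalence relation under the sheaf-valued yoneda embedding -/
noncomputable def erMap {R X : C} {p₁ p₂ : R ⟶ X} (er : EquivalenceRelation p₁ p₂) :
    EquivalenceRelation ((Jc).yoneda.map p₁) ((Jc).yoneda.map p₂) :=
  haveI : JointlyMono₂ p₁ p₂ := er.toJointlyMono₂
  { __ := er.toReflexiveRelation.map (Jc).yoneda
    __ := er.toSymmetricRelation.map (Jc).yoneda
    __ := er.toTransitiveRelation.map (Jc).yoneda }

theorem backward {R X : C} (p₁ p₂ : R ⟶ X) (hR : SGA4.IsEquivRel p₁ p₂) (c : Cofork p₁ p₂)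
    (hc : IsColimit c)
    (hcol : IsColimit ((yoneda ⋙ presheafToSheaf Jc (Type u)).mapCocone c)) :
    SGA4.IsEffectiveUniversalEquivRel p₁ p₂ := by
  let er := equivRelOf hR
  let e' := sheafUniversallyEffective (erMap er)
  have h1 : IsColimit ((Jc).yoneda.mapCocone c) := IsColimit.mapCoconeEquiv (epsIso Jc) hcol
  have h2 : IsColimit ((Jc).yoneda.mapCocone (Cofork.ofπ c.π c.condition)) :=
    IsColimit.ofIsoColimit h1 ((Cocone.functoriality _ (Jc).yoneda).mapIso c.isoCoforkOfπ)
  have h3 := isColimitMapCoconeCoforkEquiv (Jc).yoneda c.condition h2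
  let φ := h3.coconePointUniqueUpToIso e'.isCoequalizer
  have hφ : (Jc).yoneda.map c.π ≫ φ.hom = e'.π :=
    h3.comp_coconePointUniqueUpToIso_hom e'.isCoequalizer WalkingParallelPair.one
  have hφ' : e'.π ≫ φ.inv = (Jc).yoneda.map c.π := (Iso.comp_inv_eq φ).mpr hφ.symm
  -- kernel pair
  have hkp : IsKernelPair ((Jc).yoneda.map c.π) ((Jc).yoneda.map p₁) ((Jc).yoneda.map p₂) := by
    rw [← hφ']
    exact e'.isKernelPair.comp_of_mono
  have hpb : IsPullback p₁ p₂ c.π c.π := IsPullback.of_map (Jc).yoneda c.condition hkp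
  refine ⟨c.pt, c.π, hpb, ?_, ?_⟩
  · -- pushout
    refine ⟨⟨c.condition⟩, ⟨PushoutCocone.IsColimit.mk _
      (fun s => Cofork.IsColimit.desc hc s.inl ?_) ?_ ?_ ?_⟩⟩
    · have : s.inl = s.inr := by
        rw [← Category.id_comp s.inl, ← er.reflexivity₁, Category.assoc, s.condition,
          ← Category.assoc, er.reflexivity₂, Category.id_comp]
      nth_rw 2 [this]
      exact s.condition
    · intro s
      exact Cofork.IsColimit.π_desc' hc _ _
    · intro s
      have : s.inl = s.inr := by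
        rw [← Category.id_comp s.inl, ← er.reflexivity₁, Category.assoc, s.condition,
          ← Category.assoc, er.reflexivity₂, Category.id_comp]
      exact (Cofork.IsColimit.π_desc' hc _ _).trans this
    · intro s m hm1 hm2
      apply Cofork.IsColimit.hom_ext hc
      exact hm1.trans (Cofork.IsColimit.π_desc' hc _ _).symm
  · intro B' g
    have huniv : MorphismProperty.universally (fun _ _ f => EffectiveEpi f)
        ((Jc).yoneda.map c.π) := by
      rw [← hφ']
      exact (MorphismProperty.cancel_right_of_respectsIso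
        (MorphismProperty.universally (fun _ _ f => EffectiveEpi f)) e'.π φ.inv).mpr
        e'.universally_effectiveEpi_π
    have hsq : IsPullback ((Jc).yoneda.map (pullback.snd c.π g))
        ((Jc).yoneda.map (pullback.fst c.π g)) ((Jc).yoneda.map g) ((Jc).yoneda.map c.π) :=
      ((IsPullback.of_hasPullback c.π g).map (Jc).yoneda).flip
    haveI : EffectiveEpi ((Jc).yoneda.map (pullback.snd c.π g)) := huniv _ _ _ hsq
    exact effectiveEpi_of_map_of_fullyFaithful (Jc).yoneda _

theorem main6140 {R X : C} (p₁ p₂ : R ⟶ X)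
    (hR : SGA4.IsEquivRel p₁ p₂) (c : Cofork p₁ p₂) (hc : IsColimit c) :
    SGA4.IsEffectiveUniversalEquivRel p₁ p₂ ↔
      Nonempty (IsColimit ((yoneda ⋙ presheafToSheaf (Sheaf.canonicalTopology C) (Type u)).mapCocone c)) :=
  ⟨forward p₁ p₂ c hc, fun ⟨h⟩ => backward p₁ p₂ hR c hc h⟩

end Groth.Agent.Helper29.CanEqC
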