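import Mathlib

universe w v₁ u₁ u v₂ u₂
open CategoryTheory CategoryTheory.Limits Opposite

namespace Groth.Agent.Helper29.CanShA

variable {E : Type u₁} [Category.{v₁} E]

/-- a functor preserving limits of shape `Kᵒᵖ` sends colimit cocones of shape `K` to limit cones
(elementwise formulation). -/
theorem existsUnique_of_preservesLimitsOfShape (G : Eᵒᵖ ⥤ Type w) {K : Type u₂} [Category.{v₂} K]
    [PreservesLimitsOfShape Kᵒᵖ G] (D : K ⥤ E) (c : Cocone D) (hc : IsColimit c)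
    (x : ∀ k, G.obj (op (D.obj k)))
    (hx : ∀ (k k' : K) (φ : k ⟶ k'), G.map (D.map φ).op (x k') = x k) :
    ∃! y : G.obj (op c.pt), ∀ k, G.map (c.ι.app k).op y = x k := by
  have hl : IsLimit (G.mapCone c.op) := isLimitOfPreserves G hc.op
  have := (Types.isLimit_iff (G.mapCone c.op)).1 ⟨hl⟩ (fun j => x j.unop) (by
    intro j j' f
    exact hx _ _ f.unop)
  obtain ⟨y, hy, hu⟩ := this
  refine ⟨y, fun k => hy (op k), fun y' hy' => hu y' (fun j => hy' j.unop)⟩

/-- `G` sends `u`-small colimit cocones in `E` to limit cones (elementwise formulation). -/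
def SCL (G : Eᵒᵖ ⥤ Type w) : Prop :=
  ∀ (K : Type u) [SmallCategory K] (D : K ⥤ E) (c : Cocone D), IsColimit c →
    ∀ (x : ∀ k, G.obj (op (D.obj k))),
      (∀ (k k' : K) (φ : k ⟶ k'), G.map (D.map φ).op (x k') = x k) →
      ∃! y : G.obj (op c.pt), ∀ k, G.map (c.ι.app k).op y = x k

theorem scl_of_preserves (G : Eᵒᵖ ⥤ Type w) [PreservesLimitsOfSize.{u, u} G] :
    SCL.{w, v₁, u₁, u} G := by
  intro K _ D c hc x hx
  exact existsUnique_of_preservesLimitsOfShape G D c hc x hx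

theorem preserves_of_scl (G : Eᵒᵖ ⥤ Type w) (h : SCL.{w, v₁, u₁, u} G) :
    PreservesLimitsOfSize.{u, u} G := by
  refine ⟨fun {J} _ => ⟨fun {F} => ⟨fun {c} hc => ?_⟩⟩⟩
  rw [Types.isLimit_iff]
  intro s hs
  have hcol : IsColimit (coconeLeftOpOfCone c) := isColimitCoconeLeftOpOfCone F hc
  obtain ⟨y, hy, hu⟩ := h Jᵒᵖ F.leftOp (coconeLeftOpOfCone c) hcol (fun k => s k.unop) (by
    intro k k' φ
    exact hs φ.unop)
  exact ⟨y, fun j => hy (op j), fun y' hy' => hu y' (fun k => hy' k.unop)⟩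

end Groth.Agent.Helper29.CanShA
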