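import Mathlib
import Groth.Agent.Lib.Helper29.CanShA
import Groth.Agent.Lib.Helper29.ShQBase

universe w u
open CategoryTheory CategoryTheory.Limits Opposite

namespace Groth.Agent.Helper29.CanShB

variable {C : Type u} [SmallCategory C] (J : GrothendieckTopology C)

/-- the canonical functor from the site to its topos -/
noncomputable abbrev ε : C ⥤ Sheaf J (Type u) := yoneda ⋙ presheafToSheaf J (Type u)

variable {J}

/-- morphisms `ε U ⟶ X` are sections of `X` over `U` -/
noncomputable def secEquiv (U : C) (X : Sheaf J (Type u)) :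
    ((ε J).obj U ⟶ X) ≃ X.obj.obj (op U) :=
  ((sheafificationAdjunction J (Type u)).homEquiv (yoneda.obj U) X).trans yonedaEquiv

lemma secEquiv_comp {U : C} {X X' : Sheaf J (Type u)} (φ : (ε J).obj U ⟶ X) (f : X ⟶ X') :
    secEquiv U X' (φ ≫ f) = f.hom.app (op U) (secEquiv U X φ) := by
  unfold secEquiv
  simp only [Equiv.trans_apply]
  rw [Adjunction.homEquiv_naturality_right]
  exact yonedaEquiv_comp _ _

lemma secEquiv_map_comp {U V : C} {X : Sheaf J (Type u)} (g : V ⟶ U) (φ : (ε J).obj U ⟶ X) :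
    secEquiv V X ((ε J).map g ≫ φ) = X.obj.map g.op (secEquiv U X φ) := by
  unfold secEquiv
  simp only [Equiv.trans_apply]
  have := (sheafificationAdjunction J (Type u)).homEquiv_naturality_left (yoneda.map g) φ
  erw [this]
  rw [yonedaEquiv_naturality]

/-- the morphism `ε U ⟶ X` classified by a section -/
noncomputable def hat {U : C} {X : Sheaf J (Type u)} (x : X.obj.obj (op U)) : (ε J).obj U ⟶ X :=
  (secEquiv U X).symm x

@[simp] lemma secEquiv_hat {U : C} {X : Sheaf J (Type u)} (x : X.obj.obj (op U)) :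
    secEquiv U X (hat x) = x := (secEquiv U X).apply_symm_apply x

@[simp] lemma hat_secEquiv {U : C} {X : Sheaf J (Type u)} (φ : (ε J).obj U ⟶ X) :
    hat (secEquiv U X φ) = φ := (secEquiv U X).symm_apply_apply φ

/-- the universal section of `ε U` over `U` -/
noncomputable def univ (U : C) : ((ε J).obj U).obj.obj (op U) := secEquiv U _ (𝟙 _)

lemma hat_app_univ {U : C} {X : Sheaf J (Type u)} (x : X.obj.obj (op U)) :
    (hat x).hom.app (op U) (univ U) = x := by
  have := secEquiv_comp (𝟙 ((ε J).obj U)) (hat x)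
  rw [Category.id_comp, secEquiv_hat] at this
  exact this.symm

lemma hat_comp {U : C} {X X' : Sheaf J (Type u)} (x : X.obj.obj (op U)) (f : X ⟶ X') :
    hat x ≫ f = hat (f.hom.app (op U) x) := by
  apply (secEquiv U X').injective
  rw [secEquiv_comp, secEquiv_hat, secEquiv_hat]

lemma map_comp_hat {U V : C} {X : Sheaf J (Type u)} (g : V ⟶ U) (x : X.obj.obj (op U)) :
    (ε J).map g ≫ hat x = hat (X.obj.map g.op x) := by
  apply (secEquiv V X).injective
  rw [secEquiv_map_comp, secEquiv_hat, secEquiv_hat]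

lemma app_eq_secEquiv {U : C} {X X' : Sheaf J (Type u)} (f : X ⟶ X') (x : X.obj.obj (op U)) :
    f.hom.app (op U) x = secEquiv U X' (hat x ≫ f) := by
  rw [secEquiv_comp, secEquiv_hat]

/-- two morphisms of sheaves agreeing on all `ε U ⟶ X` are equal -/
lemma hom_ext_hat {X X' : Sheaf J (Type u)} (f g : X ⟶ X')
    (h : ∀ (U : C) (φ : (ε J).obj U ⟶ X), φ ≫ f = φ ≫ g) : f = g := by
  apply Sheaf.hom_ext
  ext ⟨U⟩ x
  exact (app_eq_secEquiv f x).trans ((congrArg _ (h U (hat x))).trans (app_eq_secEquiv g x).symm)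

/-- a family of morphisms of sheaves is jointly locally surjective -/
def JLS {ι : Type w} {X : Sheaf J (Type u)} {Y : ι → Sheaf J (Type u)} (p : ∀ i, Y i ⟶ X) : Prop :=
  ∀ (U : C) (x : X.obj.obj (op U)), ∃ R ∈ J U, ∀ ⦃V : C⦄ (g : V ⟶ U), R g →
    ∃ (i : ι) (y : (Y i).obj.obj (op V)), (p i).hom.app (op V) y = X.obj.map g.op x

lemma comp_app_apply {X Y Z : Sheaf J (Type u)} (f : X ⟶ Y) (g : Y ⟶ Z) (U : Cᵒᵖ)
    (x : X.obj.obj U) : (f ≫ g).hom.app U x = g.hom.app U (f.hom.app U x) := rfl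

lemma JLS.epi_desc {ι : Type w} {X : Sheaf J (Type u)} {Y : ι → Sheaf J (Type u)}
    {p : ∀ i, Y i ⟶ X} (hp : JLS p) {c : Cofan Y} (hc : IsColimit c) :
    Epi (Cofan.IsColimit.desc hc p) := by
  rw [← Sheaf.isLocallySurjective_iff_epi]
  refine ⟨?_⟩
  intro U x
  obtain ⟨R, hR, h⟩ := hp U x
  refine J.superset_covering ?_ hR
  intro V g hg
  obtain ⟨i, y, hy⟩ := h g hg
  refine ⟨(c.inj i).hom.app (op V) y, ?_⟩
  rw [← comp_app_apply, Cofan.IsColimit.fac]
  exact hy

lemma JLS.pullback {ι : Type w} {X X' : Sheaf J (Type u)} {Y : ι → Sheaf J (Type u)}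
    {p : ∀ i, Y i ⟶ X} (hp : JLS p) (f : X' ⟶ X) :
    JLS (fun i => pullback.snd (p i) f) := by
  intro U x'
  obtain ⟨R, hR, h⟩ := hp U (f.hom.app (op U) x')
  refine ⟨R, hR, ?_⟩
  intro V g hg
  obtain ⟨i, y, hy⟩ := h g hg
  have hpb : IsPullback ((pullback.fst (p i) f).hom.app (op V))
      ((pullback.snd (p i) f).hom.app (op V)) ((p i).hom.app (op V)) (f.hom.app (op V)) :=
    ((IsPullback.of_hasPullback (p i) f).map (sheafToPresheaf J (Type u))).map
      ((evaluation Cᵒᵖ (Type u)).obj (op V))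
  have hnat := ConcreteCategory.congr_hom (f.hom.naturality g.op) x'
  dsimp at hnat
  obtain ⟨z, hz1, hz2⟩ := Limits.Types.exists_of_isPullback hpb y (X'.obj.map g.op x')
    (hy.trans hnat.symm)
  exact ⟨i, z, hz2⟩

/-- all sections jointly cover -/
lemma jls_hat (X : Sheaf J (Type u)) :
    JLS (fun (i : Σ U : C, X.obj.obj (op U)) => hat i.2) := by
  intro U x
  refine ⟨⊤, J.top_mem U, ?_⟩
  intro V g _
  refine ⟨⟨V, X.obj.map g.op x⟩, univ V, ?_⟩
  exact hat_app_univ _

end Groth.Agent.Helper29.CanShB
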