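import Mathlib
import Groth.Agent.Lib.Helper29.CanShB
import Groth.Agent.Lib.Helper29.CanCopC

universe w u
open CategoryTheory CategoryTheory.Limits Opposite

namespace Groth.Agent.Helper29.CanShC

open Groth.Agent.Helper29.CanShA Groth.Agent.Helper29.CanShB

variable {C : Type u} [SmallCategory C] {J : GrothendieckTopology C}

/-- fast path for instance resolution -/
noncomputable local instance (priority := 10000) shColim :
    HasColimitsOfSize.{u, u} (Sheaf J (Type u)) := Sheaf.instHasColimitsOfSize

/-- a limit-preserving presheaf on the topos is a sheaf for every epimorphism -/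
lemma isSheafFor_singleton_of_epi (G : (Sheaf J (Type u))ᵒᵖ ⥤ Type w)
    [PreservesLimitsOfSize.{u, u} G] {A X : Sheaf J (Type u)} (π : A ⟶ X) [Epi π] :
    Presieve.IsSheafFor G (Presieve.singleton π) := by
  rw [Presieve.isSheafFor_singleton]
  intro x hx
  let r : RegularEpi π := regularEpiOfEpi π
  have hcomp : G.map r.left.op x = G.map r.right.op x := hx _ _ r.w
  haveI : PreservesFiniteLimits G := PreservesLimitsOfSize.preservesFiniteLimits G
  obtain ⟨y, hy, hu⟩ := existsUnique_of_preservesLimitsOfShape G (parallelPair r.left r.right)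
    (Cofork.ofπ π r.w) r.isColimit
    (fun k => match k with
      | WalkingParallelPair.zero => G.map r.left.op x
      | WalkingParallelPair.one => x)
    (by
      rintro k k' (_ | _ | _)
      · rfl
      · exact hcomp.symm
      · simp)
  refine ⟨y, hy WalkingParallelPair.one, fun y' hy' => hu y' ?_⟩
  rintro (_ | _)
  · change G.map (r.left ≫ π).op y' = G.map r.left.op x
    rw [op_comp, G.map_comp]
    exact congrArg _ hy'
  · exact hy'

/-- a limit-preserving presheaf on the topos is a sheaf for every small jointly locally surjective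
family -/
lemma isSheafFor_of_jls (G : (Sheaf J (Type u))ᵒᵖ ⥤ Type w)
    [PreservesLimitsOfSize.{u, u} G] {ι : Type u} {X : Sheaf J (Type u)}
    {Y : ι → Sheaf J (Type u)} (p : ∀ i, Y i ⟶ X) (hp : JLS p) :
    Presieve.IsSheafFor G (Presieve.ofArrows Y p) := by
  let c : Cofan Y := Cofan.mk (∐ Y) (Sigma.ι Y)
  have hc : IsColimit c := coproductIsCoproduct Y
  have huniv : IsUniversalColimit c := (CanCopC.vk_of_isColimit J c hc).isUniversal
  haveI : Epi (Cofan.IsColimit.desc hc p) := hp.epi_desc hc
  rw [← Presieve.isSheafFor_sigmaDesc_iff p hc huniv G]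
  exact isSheafFor_singleton_of_epi G _

/-- the pullback of the sieve generated by a family is generated by the pulled-back family -/
lemma pullback_ofArrows_eq {ι : Type*} {X X' : Sheaf J (Type u)}
    {Y : ι → Sheaf J (Type u)} (p : ∀ i, Y i ⟶ X) (f : X' ⟶ X) :
    (Sieve.ofArrows Y p).pullback f = Sieve.ofArrows (fun i => pullback (p i) f)
      (fun i => pullback.snd (p i) f) := by
  unfold Sieve.ofArrows
  rw [Presieve.ofArrows_pullback, Sieve.pullbackArrows_comm]

/-- small jointly locally surjective families are covering for the canonical topology of the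
topos -/
lemma ofArrows_mem_canonical_of_jls {ι : Type u} {X : Sheaf J (Type u)}
    {Y : ι → Sheaf J (Type u)} (p : ∀ i, Y i ⟶ X) (hp : JLS p) :
    Sieve.ofArrows Y p ∈ Sheaf.canonicalTopology (Sheaf J (Type u)) X := by
  refine Sheaf.mem_finestTopology_of_forall_isSheafFor ?_
  rintro _ ⟨Z, rfl⟩ X' f
  rw [pullback_ofArrows_eq]
  unfold Sieve.ofArrows
  rw [← Presieve.isSheafFor_iff_generate]
  exact isSheafFor_of_jls (yoneda.obj Z) _ (hp.pullback f)

end Groth.Agent.Helper29.CanShC
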