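import Mathlib
import Groth.Agent.Lib.Helper29.CanShC

universe w u
open CategoryTheory CategoryTheory.Limits Opposite

namespace Groth.Agent.Helper29.CanShD

open Groth.Agent.Helper29.CanShA Groth.Agent.Helper29.CanShB Groth.Agent.Helper29.CanShC

variable {C : Type u} [SmallCategory C] {J : GrothendieckTopology C}

/-- fast path for instance resolution -/
noncomputable local instance (priority := 10000) shColim :
    HasColimitsOfSize.{u, u} (Sheaf J (Type u)) := Sheaf.instHasColimitsOfSize

/-- the subfunctor of sections whose classifying map lies in the sieve `S` -/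
def subS {X : Sheaf J (Type u)} (S : Sieve X) : Subfunctor X.obj where
  obj U := {x | S (hat (U := U.unop) x)}
  map {U V} i x hx := by
    change S (hat (X.obj.map i x))
    have : hat (U := V.unop) (X.obj.map i x) = (ε J).map i.unop ≫ hat (U := U.unop) x :=
      (map_comp_hat i.unop x).symm
    rw [this]
    exact S.downward_closed hx _

/-- every covering sieve for the canonical topology of the topos contains, locally, all sections -/
lemma sieveOfSection_mem {X : Sheaf J (Type u)} {S : Sieve X}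
    (hS : S ∈ Sheaf.canonicalTopology (Sheaf J (Type u)) X) (U : C) (x : X.obj.obj (op U)) :
    (subS S).sieveOfSection x ∈ J U := by
  let G := (subS S).sheafify J
  have hX : Presieve.IsSheaf J X.obj := (isSheaf_iff_isSheaf_of_type _ _).1 X.property
  let X' : Sheaf J (Type u) := ⟨G.toFunctor, (isSheaf_iff_isSheaf_of_type _ _).2
    ((subS S).sheafify_isSheaf hX)⟩
  let ι' : X' ⟶ X := ⟨G.ι⟩
  haveI : Mono ι' := by
    constructor
    intro Z a b hab
    apply Sheaf.hom_ext
    have h2 : a.hom ≫ G.ι = b.hom ≫ G.ι := congrArg (fun f => f.hom) hab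
    exact (cancel_mono G.ι).1 h2
  -- every member of `S` factors through `X'`
  have hfac : ∀ ⦃Y : Sheaf J (Type u)⦄ (g : Y ⟶ X), S g → Subfunctor.range g.hom ≤ G := by
    intro Y g hg
    refine le_trans ?_ ((subS S).le_sheafify J)
    rintro V _ ⟨y, rfl⟩
    change S (hat (g.hom.app V y))
    rw [← hat_comp]
    exact S.downward_closed hg _
  let fam : Presieve.FamilyOfElements (yoneda.obj X') S.arrows :=
    fun Y g hg => (⟨Subfunctor.lift g.hom (hfac g hg)⟩ : Y ⟶ X')
  have hfam_ι : ∀ ⦃Y : Sheaf J (Type u)⦄ (g : Y ⟶ X) (hg : S g), fam g hg ≫ ι' = g := by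
    intro Y g hg
    apply Sheaf.hom_ext
    exact Subfunctor.lift_ι g.hom (hfac g hg)
  have hcompat : fam.Compatible := by
    intro Y₁ Y₂ Z g₁ g₂ f₁ f₂ h₁ h₂ e
    change g₁ ≫ fam f₁ h₁ = g₂ ≫ fam f₂ h₂
    rw [← cancel_mono ι', Category.assoc, Category.assoc, hfam_ι f₁ h₁, hfam_ι f₂ h₂, e]
  have hsh : Presieve.IsSheafFor (yoneda.obj X') S.arrows := Sheaf.isSheaf_yoneda_obj X' _ hS
  obtain ⟨t, ht, -⟩ := hsh fam hcompat
  have ht' : ∀ ⦃Y : Sheaf J (Type u)⦄ (g : Y ⟶ X) (hg : S g), g ≫ t = fam g hg := ht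
  have hsplit : t ≫ ι' = 𝟙 X := by
    have hsep : Presieve.IsSeparatedFor (yoneda.obj X) S.arrows :=
      (Sheaf.isSheaf_yoneda_obj X _ hS).isSeparatedFor
    apply hsep.ext
    intro Y g hg
    change g ≫ t ≫ ι' = g ≫ 𝟙 X
    rw [← Category.assoc, ht' g hg, hfam_ι g hg, Category.comp_id]
  have hx : ι'.hom.app (op U) (t.hom.app (op U) x) = x := by
    rw [← comp_app_apply, hsplit]
    rfl
  have hmem := (t.hom.app (op U) x).property
  have hval : (t.hom.app (op U) x).val = x := hx
  rw [hval] at hmem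
  exact hmem

/-- every canonical covering sieve contains a small jointly locally surjective family -/
lemma jls_of_mem {X : Sheaf J (Type u)} {S : Sieve X}
    (hS : S ∈ Sheaf.canonicalTopology (Sheaf J (Type u)) X) :
    JLS (fun (i : {i : Σ U : C, X.obj.obj (op U) // S (hat i.2)}) => hat i.1.2) := by
  intro U x
  refine ⟨(subS S).sieveOfSection x, sieveOfSection_mem hS U x, ?_⟩
  intro V g hg
  exact ⟨⟨⟨V, X.obj.map g.op x⟩, hg⟩, univ V, hat_app_univ _⟩

lemma isSheafFor_pullback_ofArrows (G : (Sheaf J (Type u))ᵒᵖ ⥤ Type w)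
    [PreservesLimitsOfSize.{u, u} G] {ι : Type u} {X X' : Sheaf J (Type u)}
    {Y : ι → Sheaf J (Type u)} (p : ∀ i, Y i ⟶ X) (hp : JLS p) (f : X' ⟶ X) :
    Presieve.IsSheafFor G ((Sieve.ofArrows Y p).pullback f).arrows := by
  rw [pullback_ofArrows_eq]
  unfold Sieve.ofArrows
  rw [← Presieve.isSheafFor_iff_generate]
  exact isSheafFor_of_jls G _ (hp.pullback f)

/-- a presheaf of types on the topos which preserves small limits is a sheaf for the canonical
topology -/
theorem isSheaf_of_preserves (G : (Sheaf J (Type u))ᵒᵖ ⥤ Type w)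
    [PreservesLimitsOfSize.{u, u} G] :
    Presieve.IsSheaf (Sheaf.canonicalTopology (Sheaf J (Type u))) G := by
  intro X S hS
  have hp := jls_of_mem hS
  refine Presieve.isSheafFor_subsieve G (S := Sieve.ofArrows _ _) ?_
    (fun Y f => isSheafFor_pullback_ofArrows G _ hp f)
  rintro Z g ⟨W, a, b, ⟨i⟩, rfl⟩
  exact S.downward_closed i.2 a

end Groth.Agent.Helper29.CanShD
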