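import Mathlib
import Groth.Agent.Lib.Helper29.CanShD

universe w u
open CategoryTheory CategoryTheory.Limits Opposite

namespace Groth.Agent.Helper29.CanShE

open Groth.Agent.Helper29.CanShA Groth.Agent.Helper29.CanShB Groth.Agent.Helper29.CanShC
  Groth.Agent.Helper29.CanShD

variable {C : Type u} [SmallCategory C] {J : GrothendieckTopology C}

/-- fast path for instance resolution -/
noncomputable local instance (priority := 10000) shColim :
    HasColimitsOfSize.{u, u} (Sheaf J (Type u)) := Sheaf.instHasColimitsOfSize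

/-- the unit of sheafification at a representable, evaluated on a morphism -/
noncomputable def η {U V : C} (h : V ⟶ U) : ((ε J).obj U).obj.obj (op V) :=
  (toSheafify J (yoneda.obj U)).app (op V) h

lemma univ_eq (U : C) : univ (J := J) U = η (𝟙 U) := by
  unfold univ secEquiv η
  simp only [Equiv.trans_apply]
  have h1 : (sheafificationAdjunction J (Type u)).homEquiv (yoneda.obj U)
      ((presheafToSheaf J (Type u)).obj (yoneda.obj U)) (𝟙 _) =
      (sheafificationAdjunction J (Type u)).unit.app _ := Adjunction.homEquiv_id _ _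
  exact (congrArg yonedaEquiv h1).trans rfl

lemma map_η {U V W : C} (h : V ⟶ U) (g : W ⟶ V) :
    ((ε J).obj U).obj.map g.op (η h) = η (g ≫ h) := by
  unfold η
  have := ConcreteCategory.congr_hom ((toSheafify J (yoneda.obj U)).naturality g.op) h
  exact this.symm

lemma secEquiv_map {U V : C} (h : V ⟶ U) : secEquiv V _ ((ε J).map h) = η h := by
  have := secEquiv_map_comp h (𝟙 ((ε J).obj U))
  rw [Category.comp_id] at this
  rw [this]
  change ((ε J).obj U).obj.map h.op (univ U) = _
  rw [univ_eq, map_η, Category.comp_id]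

lemma hat_η {U V : C} (h : V ⟶ U) : hat (η (J := J) h) = (ε J).map h := by
  rw [← secEquiv_map, hat_secEquiv]

lemma app_univ_map {U V : C} (h : V ⟶ U) :
    ((ε J).map h).hom.app (op V) (univ V) = η h := by
  have := secEquiv_comp (𝟙 ((ε J).obj V)) ((ε J).map h)
  rw [Category.id_comp, secEquiv_map] at this
  exact this.symm

/-- sections of `ε U` locally come from morphisms to `U` -/
lemma imageSieve_η_mem {U U' : C} (x : ((ε J).obj U).obj.obj (op U')) :
    Presheaf.imageSieve (toSheafify J (yoneda.obj U)) x ∈ J U' :=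
  Presheaf.imageSieve_mem J (toSheafify J (yoneda.obj U)) (U := op U') x

/-- the images under `ε` of the members of a covering sieve are jointly locally surjective -/
lemma jls_map_of_mem {U : C} {R : Sieve U} (hR : R ∈ J U) :
    JLS (fun (i : Σ V : C, {g : V ⟶ U // R g}) => (ε J).map i.2.1) := by
  intro U' x
  refine ⟨Sieve.bind (Presheaf.imageSieve (toSheafify J (yoneda.obj U)) x).arrows
    (fun V' g hg => R.pullback hg.choose), J.bind_covering (imageSieve_η_mem x)
      (fun V' g hg => J.pullback_stable _ hR), ?_⟩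
  rintro W _ ⟨V', k, g, hg, hk, rfl⟩
  have hspec : η (J := J) hg.choose = ((ε J).obj U).obj.map g.op x := hg.choose_spec
  refine ⟨⟨W, ⟨k ≫ hg.choose, hk⟩⟩, univ W, ?_⟩
  change ((ε J).map (k ≫ hg.choose)).hom.app (op W) (univ W) = _
  rw [app_univ_map, ← map_η, hspec, op_comp, Functor.map_comp]
  rfl

/-- `ε` is cover-preserving for the canonical topology of the topos -/
lemma functorPushforward_mem {U : C} {R : Sieve U} (hR : R ∈ J U) :
    R.functorPushforward (ε J) ∈ Sheaf.canonicalTopology (Sheaf J (Type u)) ((ε J).obj U) := by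
  refine GrothendieckTopology.superset_covering _ ?_
    (ofArrows_mem_canonical_of_jls _ (jls_map_of_mem hR))
  rintro Z f ⟨W, a, b, ⟨i⟩, rfl⟩
  exact Sieve.downward_closed _ (Sieve.image_mem_functorPushforward (ε J) R i.2.2) a

lemma coverPreserving :
    CoverPreserving J (Sheaf.canonicalTopology (Sheaf J (Type u))) (ε J) :=
  ⟨fun hR => functorPushforward_mem hR⟩

instance isCoverDense : (ε J).IsCoverDense (Sheaf.canonicalTopology (Sheaf J (Type u))) where
  is_cover X := by
    refine GrothendieckTopology.superset_covering _ ?_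
      (ofArrows_mem_canonical_of_jls _ (jls_hat X))
    rintro Z f ⟨W, a, b, ⟨i⟩, rfl⟩
    exact Sieve.downward_closed _ (Presieve.in_coverByImage (ε J) (hat i.2)) a

lemma imageSieve_mem {U V : C} (f : (ε J).obj U ⟶ (ε J).obj V) :
    (ε J).imageSieve f ∈ J U := by
  refine J.superset_covering ?_ (imageSieve_η_mem (secEquiv U _ f))
  rintro W g ⟨l, hl⟩
  refine ⟨l, ?_⟩
  have hl' : η (J := J) l = ((ε J).obj V).obj.map g.op (secEquiv U _ f) := hl
  rw [← hat_η, hl', ← map_comp_hat, hat_secEquiv]

instance isLocallyFull : (ε J).IsLocallyFull (Sheaf.canonicalTopology (Sheaf J (Type u))) where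
  functorPushforward_imageSieve_mem f := functorPushforward_mem (imageSieve_mem f)

lemma equalizer_mem {U V : C} (f₁ f₂ : U ⟶ V) (h : (ε J).map f₁ = (ε J).map f₂) :
    Sieve.equalizer f₁ f₂ ∈ J U := by
  have h' : η (J := J) f₁ = η f₂ := by rw [← secEquiv_map, ← secEquiv_map, h]
  have := Presheaf.equalizerSieve_mem J (toSheafify J (yoneda.obj V)) (X := op U) f₁ f₂ h'
  refine J.superset_covering ?_ this
  intro W g hg
  exact hg

instance isLocallyFaithful :
    (ε J).IsLocallyFaithful (Sheaf.canonicalTopology (Sheaf J (Type u))) where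
  functorPushforward_equalizer_mem f₁ f₂ h := functorPushforward_mem (equalizer_mem f₁ f₂ h)

instance isContinuous :
    (ε J).IsContinuous J (Sheaf.canonicalTopology (Sheaf J (Type u))) :=
  Functor.IsCoverDense.isContinuous J (Sheaf.canonicalTopology (Sheaf J (Type u))) (ε J)
    coverPreserving

end Groth.Agent.Helper29.CanShE
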