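import Mathlib
import Groth.Agent.Lib.Helper29.CanShE

universe w u
open CategoryTheory CategoryTheory.Limits Opposite

namespace Groth.Agent.Helper29.CanShF

open Groth.Agent.Helper29.CanShA Groth.Agent.Helper29.CanShB Groth.Agent.Helper29.CanShC
  Groth.Agent.Helper29.CanShD Groth.Agent.Helper29.CanShE

variable {C : Type u} [SmallCategory C] (J : GrothendieckTopology C)

/-- fast path for instance resolution -/
noncomputable local instance (priority := 10000) shColim :
    HasColimitsOfSize.{u, u} (Sheaf J (Type u)) := Sheaf.instHasColimitsOfSize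

set_option synthInstance.maxHeartbeats 40000 in
/-- fast path for instance resolution -/
local instance (priority := 10000) psUlift : J.PreservesSheafification uliftFunctor.{w, u} :=
  GrothendieckTopology.instPreservesSheafification J uliftFunctor.{w, u}

/-- change of universe for sheaves of sets -/
noncomputable abbrev Λ : Sheaf J (Type u) ⥤ Sheaf J (Type (max u w)) :=
  sheafCompose J uliftFunctor.{w, u}

theorem preservesColimitsOfShape_of_reflective' {A : Type*} [Category A] {B : Type*} [Category B]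
    {D : Type*} [Category D] {L : A ⥤ B} {i : B ⥤ A} (adj : L ⊣ i) [IsIso adj.counit] (G : B ⥤ D)
    {K : Type*} [Category K] [HasColimitsOfShape K A] [PreservesColimitsOfShape K (L ⋙ G)] :
    PreservesColimitsOfShape K G := by
  constructor
  intro F
  let e : (F ⋙ i) ⋙ L ≅ F :=
    Functor.associator _ _ _ ≪≫ Functor.isoWhiskerLeft F (asIso adj.counit) ≪≫ F.rightUnitor
  have : L.IsLeftAdjoint := adj.isLeftAdjoint
  have h1 : PreservesColimit ((F ⋙ i) ⋙ L) G := by
    apply preservesColimit_of_preserves_colimit_cocone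
      (isColimitOfPreserves L (colimit.isColimit (F ⋙ i)))
    exact isColimitOfPreserves (L ⋙ G) (colimit.isColimit (F ⋙ i))
  exact preservesColimit_of_iso_diagram G e

instance preservesColimits_Λ : PreservesColimitsOfSize.{u, u} (Λ.{w} J) := by
  refine ⟨fun {K} _ => ?_⟩
  have e : (Functor.whiskeringRight Cᵒᵖ (Type u) (Type (max u w))).obj uliftFunctor.{w, u} ⋙
      presheafToSheaf J (Type (max u w)) ≅ presheafToSheaf J (Type u) ⋙ Λ.{w} J :=
    sheafComposeNatIso J uliftFunctor.{w, u} (sheafificationAdjunction J (Type u))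
      (sheafificationAdjunction J (Type (max u w)))
  have : PreservesColimitsOfShape K (presheafToSheaf J (Type u) ⋙ Λ.{w} J) :=
    preservesColimitsOfShape_of_natIso e
  exact preservesColimitsOfShape_of_reflective' (sheafificationAdjunction J (Type u)) _

variable {J}

/-- evaluation of a morphism `Λ (ε U) ⟶ H` at the universal section -/
noncomputable def ev (H : Sheaf J (Type (max u w))) (U : C)
    (φ : (Λ.{w} J).obj ((ε J).obj U) ⟶ H) : H.obj.obj (op U) :=
  φ.hom.app (op U) (ULift.up (univ U))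

lemma ev_eq (H : Sheaf J (Type (max u w))) (U : C) (φ : (Λ.{w} J).obj ((ε J).obj U) ⟶ H) :
    ev H U φ = uliftYonedaEquiv.{w} (X := U) (F := H.obj)
      (Functor.whiskerRight (toSheafify J (yoneda.obj U)) uliftFunctor.{w, u} ≫ φ.hom) := by
  unfold ev
  rw [univ_eq]
  rfl

lemma ev_bijective (H : Sheaf J (Type (max u w))) (U : C) : Function.Bijective (ev H U) := by
  have hW : J.W (Functor.whiskerRight (toSheafify J (yoneda.obj U)) uliftFunctor.{w, u}) :=
    J.W_of_preservesSheafification _ _ (J.W_toSheafify _)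
  have hbij := hW H.obj H.property
  constructor
  · intro φ₁ φ₂ h
    rw [ev_eq, ev_eq] at h
    have h2 := uliftYonedaEquiv.injective h
    apply Sheaf.hom_ext
    exact hbij.1 h2
  · intro h
    obtain ⟨g, hg⟩ := hbij.2 (uliftYonedaEquiv.{w} (X := U) (F := H.obj).symm h)
    refine ⟨⟨g⟩, ?_⟩
    rw [ev_eq]
    exact (congrArg uliftYonedaEquiv hg).trans (Equiv.apply_symm_apply _ _)

lemma ev_naturality (H : Sheaf J (Type (max u w))) {U V : C} (g : V ⟶ U)
    (φ : (Λ.{w} J).obj ((ε J).obj U) ⟶ H) :
    ev H V ((Λ.{w} J).map ((ε J).map g) ≫ φ) = H.obj.map g.op (ev H U φ) := by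
  unfold ev
  have h1 : ((Λ.{w} J).map ((ε J).map g)).hom.app (op V) (ULift.up (univ V)) =
      ULift.up (η (J := J) g) := by
    rw [← app_univ_map]
    rfl
  have h2 : ((Λ.{w} J).obj ((ε J).obj U)).obj.map g.op (ULift.up (univ U)) =
      ULift.up (η (J := J) g) := by
    have := map_η (J := J) (𝟙 U) g
    rw [Category.comp_id] at this
    rw [← this, univ_eq]
    rfl
  have nat := ConcreteCategory.congr_hom (φ.hom.naturality g.op)
    (ULift.up (univ U) : ((Λ.{w} J).obj ((ε J).obj U)).obj.obj (op U))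
  calc ((Λ.{w} J).map ((ε J).map g) ≫ φ).hom.app (op V) (ULift.up (univ V))
      = φ.hom.app (op V) (((Λ.{w} J).map ((ε J).map g)).hom.app (op V) (ULift.up (univ V))) := rfl
    _ = φ.hom.app (op V) (ULift.up (η (J := J) g)) := by rw [h1]
    _ = φ.hom.app (op V) (((Λ.{w} J).obj ((ε J).obj U)).obj.map g.op (ULift.up (univ U))) := by
        rw [h2]
    _ = H.obj.map g.op (φ.hom.app (op U) (ULift.up (univ U))) := nat

/-- the restriction of `X ↦ Hom(Λ X, H)` along `ε` is `H` -/
noncomputable def evIso (H : Sheaf J (Type (max u w))) :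
    (ε J).op ⋙ (Λ.{w} J).op ⋙ yoneda.obj H ≅ H.obj :=
  NatIso.ofComponents
    (fun U => (Equiv.ofBijective (ev H U.unop) (ev_bijective H U.unop)).toIso) (by
      intro U V f
      ext φ
      exact ev_naturality H f.unop φ)

/-- a sheaf of types for the canonical topology of the topos preserves small limits -/
theorem preserves_of_isSheaf (G : (Sheaf J (Type u))ᵒᵖ ⥤ Type w)
    (hG : Presieve.IsSheaf (Sheaf.canonicalTopology (Sheaf J (Type u))) G) :
    PreservesLimitsOfSize.{u, u} G := by
  let Kc := Sheaf.canonicalTopology (Sheaf J (Type u))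
  let G' : Sheaf Kc (Type (max u w)) := ⟨G ⋙ uliftFunctor.{u, w},
    (isSheaf_iff_isSheaf_of_type _ _).2 ((Presieve.isSheaf_comp_uliftFunctor_iff _).2 hG)⟩
  let H : Sheaf J (Type (max u w)) := ⟨(ε J).op ⋙ G'.obj, Functor.op_comp_isSheaf (ε J) J Kc G'⟩
  let Ψ : (Sheaf J (Type u))ᵒᵖ ⥤ Type (max u w) := (Λ.{w} J).op ⋙ yoneda.obj H
  haveI h1 : PreservesLimitsOfSize.{u, u} (Λ.{w} J).op := preservesLimitsOfSize_op _
  haveI h2 : PreservesLimitsOfSize.{u, u} (yoneda.obj H) := inferInstance
  haveI : PreservesLimitsOfSize.{u, u} Ψ := comp_preservesLimits _ _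
  let Ψs : Sheaf Kc (Type (max u w)) :=
    ⟨Ψ, (isSheaf_iff_isSheaf_of_type _ _).2 (isSheaf_of_preserves Ψ)⟩
  let i : (ε J).op ⋙ Ψs.obj ≅ (ε J).op ⋙ G'.obj := evIso H
  let e : Ψs.obj ≅ G'.obj := Functor.IsCoverDense.Types.presheafIso i
  haveI : PreservesLimitsOfSize.{u, u} (G ⋙ uliftFunctor.{u, w}) :=
    preservesLimits_of_natIso e
  exact preservesLimits_of_reflects_of_preserves G uliftFunctor.{u, w}

end Groth.Agent.Helper29.CanShF
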