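import Mathlib
import Groth.Prelude.Def_SGA4a
import Groth.Agent.Lib.Helper29.CanShF

universe w v u
open CategoryTheory CategoryTheory.Limits Opposite

namespace Groth.Agent.Helper29.CanShG

open Groth.Agent.Helper29.CanShA Groth.Agent.Helper29.CanShB Groth.Agent.Helper29.CanShC
  Groth.Agent.Helper29.CanShD Groth.Agent.Helper29.CanShE Groth.Agent.Helper29.CanShF

variable {C : Type u} [SmallCategory C] (J : GrothendieckTopology C)

/-- sheaves of types for the canonical topology of a topos are exactly the presheaves which turn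
small colimits into limits -/
theorem isSheaf_iff_preserves (G : (Sheaf J (Type u))ᵒᵖ ⥤ Type w) :
    Presieve.IsSheaf (Sheaf.canonicalTopology (Sheaf J (Type u))) G ↔
      PreservesLimitsOfSize.{u, u} G :=
  ⟨fun h => preserves_of_isSheaf G h, fun _ => isSheaf_of_preserves G⟩

theorem main3079 {E' : Type v} [Category.{w} E'] (F : (Sheaf J (Type u))ᵒᵖ ⥤ E') :
    Presheaf.IsSheaf (Sheaf.canonicalTopology (Sheaf J (Type u))) F ↔
      PreservesLimitsOfSize.{u, u} F := by
  constructor
  · intro h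
    have hE : ∀ X : E'ᵒᵖ, PreservesLimitsOfSize.{u, u} (F ⋙ coyoneda.obj X) := fun X =>
      preserves_of_isSheaf _ (h X.unop)
    refine ⟨fun {K} _ => ⟨fun {D} => ⟨fun {c} hc => ⟨?_⟩⟩⟩⟩
    exact coyonedaJointlyReflectsLimits (D ⋙ F) (F.mapCone c)
      (fun X => isLimitOfPreserves (F ⋙ coyoneda.obj X) hc)
  · intro h E
    exact isSheaf_of_preserves (F ⋙ coyoneda.obj (op E))

theorem main6159 {D : Type u} [SmallCategory D] (K : GrothendieckTopology D)
    (f : Sheaf J (Type u) ⥤ Sheaf K (Type u)) :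
    PreservesColimitsOfSize.{u, u} f ↔
      f.IsContinuous.{u} (Sheaf.canonicalTopology (Sheaf J (Type u)))
        (Sheaf.canonicalTopology (Sheaf K (Type u))) := by
  constructor
  · intro hf
    refine ⟨fun G => ?_⟩
    haveI : PreservesLimitsOfSize.{u, u} G.obj :=
      preserves_of_isSheaf G.obj ((isSheaf_iff_isSheaf_of_type _ _).1 G.property)
    haveI : PreservesLimitsOfSize.{u, u} f.op := preservesLimitsOfSize_op f
    haveI : PreservesLimitsOfSize.{u, u} (f.op ⋙ G.obj) := comp_preservesLimits _ _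
    exact isSheaf_of_preserves (f.op ⋙ G.obj)
  · intro hf
    have hZ : ∀ Z : Sheaf K (Type u), PreservesLimitsOfSize.{u, u} (f.op ⋙ yoneda.obj Z) := by
      intro Z
      have hs : Presieve.IsSheaf (Sheaf.canonicalTopology (Sheaf K (Type u)))
          (yoneda.obj Z ⋙ uliftFunctor.{u + 1, u}) :=
        (Presieve.isSheaf_comp_uliftFunctor_iff _).2 (Sheaf.isSheaf_yoneda_obj Z)
      have h1 : Presieve.IsSheaf (Sheaf.canonicalTopology (Sheaf J (Type u)))
          (f.op ⋙ yoneda.obj Z ⋙ uliftFunctor.{u + 1, u}) :=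
        Functor.op_comp_isSheaf_of_isSheaf_type f _ hs
      haveI : PreservesLimitsOfSize.{u, u} ((f.op ⋙ yoneda.obj Z) ⋙ uliftFunctor.{u + 1, u}) :=
        preserves_of_isSheaf _ h1
      exact preservesLimits_of_reflects_of_preserves (f.op ⋙ yoneda.obj Z) uliftFunctor.{u + 1, u}
    haveI : PreservesLimitsOfSize.{u, u} f.op := by
      refine ⟨fun {K'} _ => ⟨fun {D'} => ⟨fun {c} hc => ⟨?_⟩⟩⟩⟩
      exact yonedaJointlyReflectsLimits (D' ⋙ f.op) (f.op.mapCone c)
        (fun Z => isLimitOfPreserves (f.op ⋙ yoneda.obj Z) hc)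
    exact preservesColimitsOfSize_of_op f

end Groth.Agent.Helper29.CanShG
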