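import Mathlib
import Groth.Prelude.Def_SGA4a
import Groth.Agent.Lib.Helper29.CanShG

universe w v u
open CategoryTheory CategoryTheory.Limits Opposite

namespace Groth.Agent.Helper29.CanShH

open Groth.Agent.Helper29.CanShA Groth.Agent.Helper29.CanShB Groth.Agent.Helper29.CanShC
  Groth.Agent.Helper29.CanShD Groth.Agent.Helper29.CanShE Groth.Agent.Helper29.CanShF

variable {C : Type u} [SmallCategory C] {J : GrothendieckTopology C}

/-- fast path for instance resolution -/
noncomputable local instance (priority := 10000) shColim :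
    HasColimitsOfSize.{u, u} (Sheaf J (Type u)) := Sheaf.instHasColimitsOfSize

/-- every epimorphic sieve contains, locally, all sections -/
lemma sieveOfSection_mem_of_epimorphic {X : Sheaf J (Type u)} {S : Sieve X}
    (hS : ∀ ⦃Z : Sheaf J (Type u)⦄ (a b : X ⟶ Z),
      (∀ ⦃Y : Sheaf J (Type u)⦄ (g : Y ⟶ X), S g → g ≫ a = g ≫ b) → a = b)
    (U : C) (x : X.obj.obj (op U)) :
    (subS S).sieveOfSection x ∈ J U := by
  let G := (subS S).sheafify J
  have hX : Presieve.IsSheaf J X.obj := (isSheaf_iff_isSheaf_of_type _ _).1 X.property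
  let X' : Sheaf J (Type u) := ⟨G.toFunctor, (isSheaf_iff_isSheaf_of_type _ _).2
    ((subS S).sheafify_isSheaf hX)⟩
  let ι' : X' ⟶ X := ⟨G.ι⟩
  haveI : Mono ι' := by
    constructor
    intro Z a b hab
    apply Sheaf.hom_ext
    have h2 : a.hom ≫ G.ι = b.hom ≫ G.ι := congrArg (fun f => f.hom) hab
    exact (cancel_mono G.ι).1 h2
  have hfac : ∀ ⦃Y : Sheaf J (Type u)⦄ (g : Y ⟶ X), S g → Subfunctor.range g.hom ≤ G := by
    intro Y g hg
    refine le_trans ?_ ((subS S).le_sheafify J)
    rintro V _ ⟨y, rfl⟩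
    change S (hat (g.hom.app V y))
    rw [← hat_comp]
    exact S.downward_closed hg _
  haveI : Epi ι' := by
    constructor
    intro Z a b hab
    apply hS
    intro Y g hg
    have hg' : (⟨Subfunctor.lift g.hom (hfac g hg)⟩ : Y ⟶ X') ≫ ι' = g := by
      apply Sheaf.hom_ext
      exact Subfunctor.lift_ι g.hom (hfac g hg)
    rw [← hg', Category.assoc, Category.assoc, hab]
  haveI : IsIso ι' := isIso_of_mono_of_epi ι'
  have hx : ι'.hom.app (op U) ((inv ι').hom.app (op U) x) = x := by
    rw [← comp_app_apply, IsIso.inv_hom_id]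
    rfl
  have hmem := ((inv ι').hom.app (op U) x).property
  have hval : ((inv ι').hom.app (op U) x).val = x := hx
  rw [hval] at hmem
  exact hmem

/-- jointly locally surjective families are jointly epimorphic -/
lemma JLS.isEpiFamily {ι : Type w} {X : Sheaf J (Type u)} {Y : ι → Sheaf J (Type u)}
    {p : ∀ i, Y i ⟶ X} (hp : JLS p) : SGA4.IsEpiFamily p := by
  intro Z a b h
  apply Sheaf.hom_ext
  ext ⟨U⟩ x
  obtain ⟨R, hR, hR'⟩ := hp U x
  have hZ : Presieve.IsSheaf J Z.obj := (isSheaf_iff_isSheaf_of_type _ _).1 Z.property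
  apply (hZ.isSeparated R hR).ext
  intro V g hg
  obtain ⟨i, y, hy⟩ := hR' g hg
  have na := ConcreteCategory.congr_hom (a.hom.naturality g.op) x
  have nb := ConcreteCategory.congr_hom (b.hom.naturality g.op) x
  dsimp at na nb
  have e := congrArg (fun k => k.hom.app (op V) y) (h i)
  dsimp at e
  rw [hy] at e
  exact na.symm.trans (e.trans nb)

/-- small jointly epimorphic families in the topos are jointly locally surjective -/
lemma jls_of_isEpiFamily {ι : Type w} {X : Sheaf J (Type u)} {Y : ι → Sheaf J (Type u)}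
    {p : ∀ i, Y i ⟶ X} (hp : SGA4.IsEpiFamily p) : JLS p := by
  intro U x
  have := sieveOfSection_mem_of_epimorphic (S := Sieve.ofArrows Y p) (by
    intro Z a b h
    apply hp
    intro i
    exact h (p i) (Sieve.ofArrows_mk Y p i)) U x
  refine ⟨_, this, ?_⟩
  intro V g hg
  obtain ⟨W, a, b, ⟨i⟩, hab⟩ := hg
  refine ⟨i, secEquiv V _ a, ?_⟩
  rw [← secEquiv_comp, hab, secEquiv_hat]

end Groth.Agent.Helper29.CanShH
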