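import Mathlib
import Groth.Prelude.Def_SGA4a
import Groth.Agent.Lib.Helper29.CanShH

universe w v u
open CategoryTheory CategoryTheory.Limits Opposite

namespace Groth.Agent.Helper29.CanShI

open Groth.Agent.Helper29.CanShA Groth.Agent.Helper29.CanShB Groth.Agent.Helper29.CanShC
  Groth.Agent.Helper29.CanShD Groth.Agent.Helper29.CanShE Groth.Agent.Helper29.CanShF
  Groth.Agent.Helper29.CanShG Groth.Agent.Helper29.CanShH

section Cont

variable {C D : Type u} [SmallCategory C] [SmallCategory D] {J : GrothendieckTopology C}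
  {K : GrothendieckTopology D}

/-- fast path for instance resolution -/
noncomputable local instance (priority := 10000) shColim {C : Type u} [SmallCategory C]
    {J : GrothendieckTopology C} :
    HasColimitsOfSize.{u, u} (Sheaf J (Type u)) := Sheaf.instHasColimitsOfSize

variable (f : Sheaf J (Type u) ⥤ Sheaf K (Type u)) [PreservesFiniteLimits f]
  (hf : SGA4.PreservesEpiFamilies.{u + 1, u + 1, u} f)

include hf in
lemma isSheafFor_map_of_jls (G : (Sheaf K (Type u))ᵒᵖ ⥤ Type w)
    (hG : Presieve.IsSheaf (Sheaf.canonicalTopology (Sheaf K (Type u))) G) {ι : Type u}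
    {X : Sheaf J (Type u)} {Y : ι → Sheaf J (Type u)} (q : ∀ i, Y i ⟶ X) (hq : JLS q) :
    Presieve.IsSheafFor (f.op ⋙ G) (Presieve.ofArrows Y q) := by
  rw [Presieve.isSheafFor_arrows_iff]
  intro x hx
  have hq2 : JLS (fun i => f.map (q i)) := jls_of_isEpiFamily (hf ι X Y q (JLS.isEpiFamily hq))
  have hcov := ofArrows_mem_canonical_of_jls _ hq2
  have hsh : Presieve.IsSheafFor G
      (Presieve.ofArrows (fun i => f.obj (Y i)) (fun i => f.map (q i))) := by
    rw [Presieve.isSheafFor_iff_generate]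
    exact hG _ hcov
  rw [Presieve.isSheafFor_arrows_iff] at hsh
  have hx2 : Presieve.Arrows.Compatible G (fun i => f.map (q i)) x := by
    intro i j Z gi gj comm
    have hpb := (IsPullback.of_hasPullback (q i) (q j)).map f
    obtain ⟨l, hl1, hl2⟩ : ∃ l, l ≫ f.map (pullback.fst (q i) (q j)) = gi ∧
        l ≫ f.map (pullback.snd (q i) (q j)) = gj :=
      ⟨hpb.lift gi gj comm, hpb.lift_fst _ _ _, hpb.lift_snd _ _ _⟩
    have hc : G.map (f.map (pullback.fst (q i) (q j))).op (x i) =
        G.map (f.map (pullback.snd (q i) (q j))).op (x j) :=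
      hx i j (pullback (q i) (q j)) (pullback.fst _ _) (pullback.snd _ _) pullback.condition
    rw [← hl1, ← hl2, op_comp, op_comp, G.map_comp, G.map_comp]
    exact congrArg _ hc
  exact hsh x hx2

include hf in
theorem isContinuous_of_preservesEpiFamilies :
    f.IsContinuous.{u} (Sheaf.canonicalTopology (Sheaf J (Type u)))
      (Sheaf.canonicalTopology (Sheaf K (Type u))) := by
  refine ⟨fun G => ?_⟩
  have hG := (isSheaf_iff_isSheaf_of_type _ _).1 G.property
  intro X S hS
  have hp := jls_of_mem hS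
  refine Presieve.isSheafFor_subsieve _ (S := Sieve.ofArrows _
    (fun (i : {i : Σ U : C, X.obj.obj (op U) // S (hat i.2)}) => hat i.1.2)) ?_ (fun Y g => ?_)
  · rintro Z g ⟨W, a, b, ⟨i⟩, rfl⟩
    exact S.downward_closed i.2 a
  · rw [pullback_ofArrows_eq]
    unfold Sieve.ofArrows
    rw [← Presieve.isSheafFor_iff_generate]
    exact isSheafFor_map_of_jls f hf G.obj hG _ (hp.pullback g)

end Cont

section Repr

variable {C : Type u} [SmallCategory C] {J : GrothendieckTopology C}

/-- limit-preserving presheaves of `u`-small sets on the topos are representable -/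
theorem representable_of_preserves (Φ : (Sheaf J (Type u))ᵒᵖ ⥤ Type u)
    [PreservesLimitsOfSize.{u, u} Φ] :
    ∃ H₀ : Sheaf J (Type u), Nonempty (yoneda.obj H₀ ≅ Φ) := by
  let Kc := Sheaf.canonicalTopology (Sheaf J (Type u))
  let Φs : Sheaf Kc (Type u) := ⟨Φ, (isSheaf_iff_isSheaf_of_type _ _).2 (isSheaf_of_preserves Φ)⟩
  let H₀ : Sheaf J (Type u) := ⟨(ε J).op ⋙ Φ, Functor.op_comp_isSheaf (ε J) J Kc Φs⟩
  let Ys : Sheaf Kc (Type u) :=
    ⟨yoneda.obj H₀, (isSheaf_iff_isSheaf_of_type _ _).2 (Sheaf.isSheaf_yoneda_obj H₀)⟩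
  let i : (ε J).op ⋙ Ys.obj ≅ (ε J).op ⋙ Φs.obj :=
    NatIso.ofComponents (fun U => (secEquiv U.unop H₀).toIso) (by
      intro U V g
      ext φ
      exact secEquiv_map_comp g.unop φ)
  exact ⟨H₀, ⟨Functor.IsCoverDense.Types.presheafIso i⟩⟩

end Repr

section Adj

variable {C D : Type u} [SmallCategory C] [SmallCategory D] {J : GrothendieckTopology C}
  {K : GrothendieckTopology D}

/-- a functor between sheaf topoi which preserves small colimits is a left adjoint -/
theorem isLeftAdjoint_of_preservesColimits (f : Sheaf J (Type u) ⥤ Sheaf K (Type u))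
    [PreservesColimitsOfSize.{u, u} f] : f.IsLeftAdjoint := by
  haveI : PreservesLimitsOfSize.{u, u} f.op := preservesLimitsOfSize_op f
  have hrep : ∀ Y : Sheaf K (Type u), ∃ H₀ : Sheaf J (Type u),
      Nonempty (yoneda.obj H₀ ≅ f.op ⋙ yoneda.obj Y) := by
    intro Y
    haveI : PreservesLimitsOfSize.{u, u} (f.op ⋙ yoneda.obj Y) := comp_preservesLimits _ _
    exact representable_of_preserves _
  choose Gobj hα using hrep
  let α : ∀ Y, yoneda.obj (Gobj Y) ≅ f.op ⋙ yoneda.obj Y := fun Y => (hα Y).some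
  let e : ∀ X Y, (f.obj X ⟶ Y) ≃ (X ⟶ Gobj Y) := fun X Y => ((α Y).app (op X)).toEquiv.symm
  have he : ∀ X' X Y (h : X' ⟶ X) (g : f.obj X ⟶ Y), e X' Y (f.map h ≫ g) = h ≫ e X Y g := by
    intro X' X Y h g
    have nat := ConcreteCategory.congr_hom ((α Y).inv.naturality h.op) g
    exact nat
  exact ⟨_, ⟨Adjunction.adjunctionOfEquivRight e he⟩⟩

theorem main3080 (J : GrothendieckTopology C) (K : GrothendieckTopology D)
    (f : Sheaf J (Type u) ⥤ Sheaf K (Type u))
    [PreservesFiniteLimits f] (hf : SGA4.PreservesEpiFamilies.{u + 1, u + 1, u} f) :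
    f.IsLeftAdjoint ∧ PreservesColimitsOfSize.{u, u} f := by
  haveI hc : PreservesColimitsOfSize.{u, u} f :=
    (main6159 J K f).2 (isContinuous_of_preservesEpiFamilies f hf)
  exact ⟨isLeftAdjoint_of_preservesColimits f, hc⟩

end Adj

end Groth.Agent.Helper29.CanShI
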