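import Mathlib

set_option autoImplicit false

namespace Groth.Agent.Helper29.CentralIdeal

open scoped TensorProduct

universe u v w

section core
variable {k : Type u} [Field k] {K : Type w} [DivisionRing K] [Algebra k K] [Algebra.IsCentral k K]
variable {ι : Type*}

theorem core (W : Set (ι →₀ K))
    (hsub : ∀ w ∈ W, ∀ w' ∈ W, w - w' ∈ W)
    (hl : ∀ w ∈ W, ∀ d : K, w.mapRange (fun c => d * c) (mul_zero d) ∈ W)
    (hr : ∀ w ∈ W, ∀ d : K, w.mapRange (fun c => c * d) (zero_mul d) ∈ W)
    (hc : ∀ w ∈ W, (∀ i, w i ∈ Set.range (algebraMap k K)) → w = 0) :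
    ∀ w ∈ W, w = 0 := by
  classical
  intro w
  induction' hn : w.support.card using Nat.strong_induction_on with n ih generalizing w
  intro hw
  by_contra hne
  obtain ⟨i₀, hi₀⟩ : ∃ i, i ∈ w.support := Finsupp.support_nonempty_iff.mpr hne
  have hwi : w i₀ ≠ 0 := Finsupp.mem_support_iff.mp hi₀
  set w' := w.mapRange (fun c => c * (w i₀)⁻¹) (zero_mul _) with hw'
  have hw'W : w' ∈ W := hr w hw _
  have hw'i : w' i₀ = 1 := by simp [hw', mul_inv_cancel₀ hwi]
  have hsupp : w'.support ⊆ w.support := Finsupp.support_mapRange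
  have hcomm : ∀ d : K, ∀ i, d * w' i = w' i * d := by
    intro d i
    set z := w'.mapRange (fun c => d * c) (mul_zero d) -
      w'.mapRange (fun c => c * d) (zero_mul d) with hz
    have hzW : z ∈ W := hsub _ (hl w' hw'W d) _ (hr w' hw'W d)
    have hzi : z i₀ = 0 := by simp [hz, hw'i]
    have hzs : z.support ⊆ w.support.erase i₀ := by
      intro j hj
      rw [Finset.mem_erase]
      constructor
      · rintro rfl; exact (Finsupp.mem_support_iff.mp hj) hzi
      · by_contra hjw
        have h0 : w' j = 0 := by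
          by_contra h; exact hjw (hsupp (Finsupp.mem_support_iff.mpr h))
        apply Finsupp.mem_support_iff.mp hj
        simp [hz, h0]
    have hcard : z.support.card < n := by
      calc z.support.card ≤ (w.support.erase i₀).card := Finset.card_le_card hzs
        _ < w.support.card := Finset.card_erase_lt_of_mem hi₀
        _ = n := hn
    have hz0 : z = 0 := ih _ hcard z rfl hzW
    have h1 := congrArg (fun f => f i) hz0
    simpa [hz, sub_eq_zero] using h1
  have hcen : ∀ i, w' i ∈ Set.range (algebraMap k K) := by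
    intro i
    have hmem : w' i ∈ Subalgebra.center k K := by
      rw [Subalgebra.mem_center_iff]
      intro d; exact hcomm d i
    have h2 := Algebra.IsCentral.out hmem
    exact Algebra.mem_bot.mp h2
  have h3 := hc w' hw'W hcen
  rw [h3] at hw'i
  simp at hw'i

end core

theorem main (k : Type u) [Field k] (A : Type v) [Ring A] [Algebra k A]
    (K : Type w) [DivisionRing K] [Algebra k K] [Algebra.IsCentral k K]
    (I : TwoSidedIdeal (A ⊗[k] K)) :
    I = TwoSidedIdeal.span ((fun a : A => a ⊗ₜ[k] (1 : K)) '' {a : A | a ⊗ₜ[k] (1 : K) ∈ I}) := by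
  classical
  set S := ((fun a : A => a ⊗ₜ[k] (1 : K)) '' {a : A | a ⊗ₜ[k] (1 : K) ∈ I}) with hS
  set J := TwoSidedIdeal.span S with hJ
  have hJI : J ≤ I := by
    intro x hx
    rw [TwoSidedIdeal.mem_span_iff] at hx
    apply hx I
    rintro _ ⟨a, ha, rfl⟩
    exact ha
  refine le_antisymm ?_ hJI
  let I₀ : Submodule k A :=
    { carrier := {a | a ⊗ₜ[k] (1:K) ∈ I}
      add_mem' := by
        intro a b ha hb
        simp only [Set.mem_ofPred_eq, TensorProduct.add_tmul]
        exact I.add_mem ha hb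
      zero_mem' := by
        simp only [Set.mem_ofPred_eq, TensorProduct.zero_tmul]
        exact I.zero_mem
      smul_mem' := by
        intro c a ha
        simp only [Set.mem_ofPred_eq]
        rw [← TensorProduct.smul_tmul', Algebra.smul_def]
        exact I.mul_mem_left _ _ ha }
  have hI₀ : ∀ a, a ∈ I₀ ↔ a ⊗ₜ[k] (1:K) ∈ I := fun a => Iff.rfl
  let ι := Module.Free.ChooseBasisIndex k (A ⧸ I₀)
  let b : Module.Basis ι k (A ⧸ I₀) := Module.Free.chooseBasis k (A ⧸ I₀)
  let ψ : A →ₗ[k] (ι →₀ k) := b.repr.toLinearMap ∘ₗ I₀.mkQ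
  have hψsurj : Function.Surjective ψ := b.repr.surjective.comp (Submodule.mkQ_surjective _)
  have hψ0 : ∀ a, ψ a = 0 ↔ a ∈ I₀ := by
    intro a
    simp only [ψ, LinearMap.comp_apply, LinearEquiv.coe_coe,
      LinearEquiv.map_eq_zero_iff, Submodule.mkQ_apply, Submodule.Quotient.mk_eq_zero]
  have hψex : Function.Exact I₀.subtype ψ := by
    intro a
    rw [hψ0]
    constructor
    · intro h; exact ⟨⟨a, h⟩, rfl⟩
    · rintro ⟨a, rfl⟩; exact a.2
  let Φ : A ⊗[k] K →ₗ[k] (ι →₀ K) :=
    (TensorProduct.finsuppScalarLeft k K ι).toLinearMap ∘ₗ (ψ.rTensor K)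
  have hΦtmul : ∀ a c i, Φ (a ⊗ₜ c) i = ψ a i • c := by
    intro a c i
    simp only [Φ, LinearMap.comp_apply, LinearMap.rTensor_tmul, LinearEquiv.coe_coe,
      TensorProduct.finsuppScalarLeft_apply_tmul_apply]
  have hΦr : ∀ z d, Φ (z * (1 ⊗ₜ d)) = (Φ z).mapRange (fun c => c * d) (zero_mul d) := by
    intro z d
    induction z using TensorProduct.induction_on with
    | zero => simp
    | tmul a c =>
      ext i
      rw [Algebra.TensorProduct.tmul_mul_tmul, hΦtmul, Finsupp.mapRange_apply, hΦtmul, mul_one,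
        smul_mul_assoc]
    | add x y hx hy =>
      rw [add_mul, map_add, hx, hy, map_add]
      ext i; simp [add_mul]
  have hΦl : ∀ z d, Φ ((1 ⊗ₜ d) * z) = (Φ z).mapRange (fun c => d * c) (mul_zero d) := by
    intro z d
    induction z using TensorProduct.induction_on with
    | zero => simp
    | tmul a c =>
      ext i
      rw [Algebra.TensorProduct.tmul_mul_tmul, hΦtmul, Finsupp.mapRange_apply, hΦtmul, one_mul,
        mul_smul_comm]
    | add x y hx hy =>
      rw [mul_add, map_add, hx, hy, map_add]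
      ext i; simp [mul_add]
  -- kernel of Φ lies in J
  have hrange : ∀ z : I₀ ⊗[k] K, (I₀.subtype.rTensor K) z ∈ J := by
    intro z
    induction z using TensorProduct.induction_on with
    | zero => simp only [map_zero]; exact J.zero_mem
    | tmul a c =>
      rw [LinearMap.rTensor_tmul]
      have h1 : (I₀.subtype a) ⊗ₜ[k] c = ((a : A) ⊗ₜ[k] (1:K)) * ((1 : A) ⊗ₜ[k] c) := by
        rw [Algebra.TensorProduct.tmul_mul_tmul, mul_one, one_mul]; rfl
      rw [h1]
      refine J.mul_mem_right _ _ (TwoSidedIdeal.subset_span ?_)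
      exact ⟨a, a.2, rfl⟩
    | add x y hx hy => rw [map_add]; exact J.add_mem hx hy
  have hker : ∀ x, Φ x = 0 → x ∈ J := by
    intro x hx
    have h1 : (ψ.rTensor K) x = 0 := by
      have : (TensorProduct.finsuppScalarLeft k K ι) ((ψ.rTensor K) x) = 0 := hx
      exact (LinearEquiv.map_eq_zero_iff _).mp this
    have hex := rTensor_exact K hψex hψsurj
    obtain ⟨z, rfl⟩ := (hex x).mp h1
    exact hrange z
  have halg : Function.Injective (algebraMap k K) := (algebraMap k K).injective
  -- the set W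
  let W : Set (ι →₀ K) := Φ '' (I : Set (A ⊗[k] K))
  have hW0 : ∀ w ∈ W, w = 0 := by
    apply core (k := k) W
    · rintro _ ⟨x, hx, rfl⟩ _ ⟨y, hy, rfl⟩
      exact ⟨x - y, I.sub_mem hx hy, map_sub _ _ _⟩
    · rintro _ ⟨x, hx, rfl⟩ d
      exact ⟨(1 ⊗ₜ d) * x, I.mul_mem_left _ _ hx, hΦl x d⟩
    · rintro _ ⟨x, hx, rfl⟩ d
      exact ⟨x * (1 ⊗ₜ d), I.mul_mem_right _ _ hx, hΦr x d⟩
    · rintro _ ⟨x, hx, rfl⟩ hcen
      let sec : K → k := fun c => if h : ∃ r, algebraMap k K r = c then h.choose else 0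
      have hsec0 : sec 0 = 0 := by
        have h : ∃ r, algebraMap k K r = 0 := ⟨0, map_zero _⟩
        simp only [sec, dif_pos h]
        exact halg (by rw [h.choose_spec, map_zero])
      have hsec : ∀ c, c ∈ Set.range (algebraMap k K) → algebraMap k K (sec c) = c := by
        intro c hc
        have h : ∃ r, algebraMap k K r = c := hc
        simp only [sec, dif_pos h]
        exact h.choose_spec
      let l : ι →₀ k := (Φ x).mapRange sec hsec0
      obtain ⟨a, ha⟩ := hψsurj l
      have hΦa : Φ (a ⊗ₜ[k] (1:K)) = Φ x := by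
        ext i
        rw [hΦtmul, ha, Finsupp.mapRange_apply, Algebra.smul_def, mul_one]
        exact hsec _ (hcen i)
      have h1 : x - a ⊗ₜ[k] (1:K) ∈ J := hker _ (by rw [map_sub, hΦa, sub_self])
      have h2 : a ⊗ₜ[k] (1:K) ∈ I := by
        have h3 := I.sub_mem hx (hJI h1)
        simpa using h3
      have h4 : ψ a = 0 := (hψ0 a).mpr h2
      rw [← hΦa]
      ext i
      rw [hΦtmul, h4]
      simp
  intro x hx
  exact hker x (hW0 _ ⟨x, hx, rfl⟩)

end Groth.Agent.Helper29.CentralIdeal
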