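import Mathlib

/-!
# Sheaves of modules for a chaotic topology
-/

open CategoryTheory Limits Opposite

namespace Groth.Agent.Helper29.ChaoticA

universe u v₁ u₁

variable {C : Type u₁} [Category.{v₁} C] (J : GrothendieckTopology C)

/-- every covering sieve is maximal -/
def IsChaotic : Prop := ∀ (X : C) (S : Sieve X), S ∈ J X → S = ⊤

theorem isChaotic_bot : IsChaotic (⊥ : GrothendieckTopology C) := fun _ _ hS =>
  GrothendieckTopology.bot_covering.1 hS

variable {J}

theorem IsChaotic.over (h : IsChaotic J) (W : C) : IsChaotic (J.over W) := by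
  intro X S hS
  have h1 := h _ _ ((GrothendieckTopology.mem_over_iff _ _).1 hS)
  rw [← Sieve.id_mem_iff_eq_top] at h1 ⊢
  have h2 := (Sieve.overEquiv_iff S (𝟙 X.left)).1 h1
  have h3 : 𝟙 X = (Over.isoMk (Iso.refl _) (by simp) : X ≅ Over.mk (𝟙 X.left ≫ X.hom)).hom ≫
      (Over.homMk (𝟙 X.left) : Over.mk (𝟙 X.left ≫ X.hom) ⟶ X) := by
    ext
    simp
  rw [h3]
  exact S.downward_closed h2 _

theorem IsChaotic.isSheaf (h : IsChaotic J) {A : Type*} [Category A] (P : Cᵒᵖ ⥤ A) :
    Presheaf.IsSheaf J P := by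
  have hle : J ≤ ⊥ := by
    intro X S hS
    exact GrothendieckTopology.bot_covering.2 (h X S hS)
  exact fun E => Presieve.isSheaf_of_le _ hle Presieve.isSheaf_bot

end Groth.Agent.Helper29.ChaoticA
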