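import Mathlib
import Groth.Agent.Lib.Helper29.ChaoticA

/-!
# Sheaves of modules for a chaotic topology: evaluation is exact and cocontinuous
-/

open CategoryTheory Limits Opposite

namespace Groth.Agent.Helper29.ChaoticB

open Groth.Agent.Helper29.ChaoticA

universe u v₁ u₁ w w'

variable {C : Type u₁} [Category.{v₁} C] {J : GrothendieckTopology C}
  (R : Sheaf J RingCat.{u})

theorem forget_essSurj (hJ : IsChaotic J) : (SheafOfModules.forget.{u} R).EssSurj where
  mem_essImage P := ⟨⟨P, hJ.isSheaf _⟩, ⟨Iso.refl _⟩⟩

theorem forget_isEquivalence (hJ : IsChaotic J) : (SheafOfModules.forget.{u} R).IsEquivalence := by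
  haveI := forget_essSurj R hJ
  exact { }

theorem forgetPreservesColimits (hJ : IsChaotic J) :
    PreservesColimitsOfSize.{w, w'} (SheafOfModules.forget.{u} R) := by
  haveI := forget_isEquivalence R hJ
  infer_instance

theorem evaluationPreservesColimits (hJ : IsChaotic J) (X : Cᵒᵖ) :
    PreservesColimitsOfSize.{u, u} (SheafOfModules.evaluation.{u} R X) := by
  haveI := forgetPreservesColimits.{u, v₁, u₁, u, u} R hJ
  unfold SheafOfModules.evaluation
  infer_instance

theorem evaluationPreservesFiniteColimits (hJ : IsChaotic J) (X : Cᵒᵖ) :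
    PreservesFiniteColimits (SheafOfModules.evaluation.{u} R X) := by
  haveI := evaluationPreservesColimits R hJ X
  exact PreservesColimitsOfSize.preservesFiniteColimits _

theorem epi_of_surjective {M N : SheafOfModules.{u} R} (f : M ⟶ N)
    (hf : ∀ X : Cᵒᵖ, Function.Surjective (f.val.app X)) : Epi f := by
  haveI : Epi ((SheafOfModules.forget R).map f) :=
    PresheafOfModules.epi_of_surjective (f := f.val) (fun X => hf X)
  exact (SheafOfModules.forget R).epi_of_epi_map inferInstance

end Groth.Agent.Helper29.ChaoticB
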