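import Mathlib
import Groth.Prelude.Def_ModSite
import Groth.Agent.Lib.Helper29.ChaoticB

/-!
# Base change maps of a module on a ringed site
-/

open CategoryTheory Limits Opposite

namespace Groth.Agent.Helper29.ChaoticC

open Groth.Agent.Helper29.ChaoticA Groth.Agent.Helper29.ChaoticB

universe u

section General

theorem isIso_app_of_isColimit {A B : Type*} [Category A] [Category B] {F G : A ⥤ B} (τ : F ⟶ G)
    {K : Type*} [Category K] {D : K ⥤ A} {c : Cocone D} (hc : IsColimit c)
    [PreservesColimit D F] [PreservesColimit D G] (h : ∀ k, IsIso (τ.app (D.obj k))) :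
    IsIso (τ.app c.pt) := by
  let e : D ⋙ F ≅ D ⋙ G := NatIso.ofComponents (fun k => asIso (τ.app (D.obj k)))
    (by intros; simp)
  have h1 := isColimitOfPreserves F hc
  have h2 := isColimitOfPreserves G hc
  have : τ.app c.pt = (IsColimit.coconePointsIsoOfNatIso h1 h2 e).hom := by
    apply h1.hom_ext
    intro k
    have h3 := h1.ι_map (G.mapCocone c) e.hom k
    refine Eq.trans ?_ h3.symm
    simp [e]
  rw [this]
  infer_instance

theorem isIso_app_of_isLimit {A B : Type*} [Category A] [Category B] {F G : A ⥤ B} (τ : F ⟶ G)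
    {K : Type*} [Category K] {D : K ⥤ A} {c : Cone D} (hc : IsLimit c)
    [PreservesLimit D F] [PreservesLimit D G] (h : ∀ k, IsIso (τ.app (D.obj k))) :
    IsIso (τ.app c.pt) := by
  let e : D ⋙ F ≅ D ⋙ G := NatIso.ofComponents (fun k => asIso (τ.app (D.obj k)))
    (by intros; simp)
  have h1 := isLimitOfPreserves F hc
  have h2 := isLimitOfPreserves G hc
  have : τ.app c.pt = (IsLimit.conePointsIsoOfNatIso h1 h2 e).hom := by
    apply h2.hom_ext
    intro k
    have h3 := h2.map_π (F.mapCone c) e.hom k
    refine Eq.trans ?_ h3.symm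
    simp [e]
  rw [this]
  infer_instance

end General

section Algebra

open ModuleCat ChangeOfRings

variable {R S : Type u} [CommRing R] [CommRing S] (f : R →+* S)

/-- the base change map attached to a semilinear map -/
noncomputable def bc {M : ModuleCat.{u} R} {N : ModuleCat.{u} S}
    (φ : M ⟶ (restrictScalars f).obj N) : (extendScalars f).obj M ⟶ N :=
  ((extendRestrictScalarsAdj f).homEquiv M N).symm φ

theorem bc_tmul {M : ModuleCat.{u} R} {N : ModuleCat.{u} S}
    (φ : M ⟶ (restrictScalars f).obj N) (s : S) (m : M) :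
    bc f φ (s ⊗ₜ[R,f] m) = s • (show N from φ m) := by
  rfl

theorem bc_naturality {M M' : ModuleCat.{u} R} {N N' : ModuleCat.{u} S}
    (φ : M ⟶ (restrictScalars f).obj N) (φ' : M' ⟶ (restrictScalars f).obj N')
    (a : M ⟶ M') (b : N ⟶ N') (h : φ ≫ (restrictScalars f).map b = a ≫ φ') :
    (extendScalars f).map a ≫ bc f φ' = bc f φ ≫ b := by
  unfold bc
  rw [← Adjunction.homEquiv_naturality_left_symm, ← Adjunction.homEquiv_naturality_right_symm, h]

/-- the inverse of the base change map for the ring itself -/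
noncomputable def unitInv : ModuleCat.of S S ⟶ (extendScalars f).obj (ModuleCat.of R R) :=
  ModuleCat.ofHom (Y := (extendScalars f).obj (ModuleCat.of R R))
    (LinearMap.toSpanSingleton S ((extendScalars f).obj (ModuleCat.of R R))
      ((1 : S) ⊗ₜ[R,f] (1 : R)))

set_option backward.isDefEq.respectTransparency false in
theorem unitInv_apply (s : S) : unitInv f s = s ⊗ₜ[R,f] (1 : R) := by
  have h : s ⊗ₜ[R,f] (1 : R) =
      s • ((1 : S) ⊗ₜ[R,f] (1 : R) : (extendScalars f).obj (ModuleCat.of R R)) := by
    have h1 := ExtendScalars.smul_tmul f (M := ModuleCat.of R R) s 1 (1 : R)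
    rw [mul_one] at h1
    exact h1.symm
  rw [h]
  rfl

theorem tmul_one_eq (m : R) : (f m) ⊗ₜ[R,f] (1 : R) = (1 : S) ⊗ₜ[R,f] m := by
  letI : Module R S := Module.compHom S f
  have h1 : f m = m • (1 : S) := (mul_one (f m)).symm
  rw [h1, TensorProduct.smul_tmul, smul_eq_mul, mul_one]

theorem isIso_bc_unit (φ : ModuleCat.of R R ⟶ (restrictScalars f).obj (ModuleCat.of S S))
    (hφ : ∀ x : R, φ x = f x) : IsIso (bc f φ) := by
  refine ⟨unitInv f, ?_, ?_⟩
  · apply ExtendScalars.hom_ext
    intro m
    change unitInv f (bc f φ ((1 : S) ⊗ₜ[R,f] m)) = _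
    rw [bc_tmul, unitInv_apply]
    have h1 : ((1 : S) • (show ↑(of S S) from φ m)) = f m := by
      rw [one_smul]
      exact hφ m
    rw [h1]
    exact tmul_one_eq f m
  · ext
    change bc f φ (unitInv f (1 : S)) = (1 : S)
    rw [unitInv_apply]
    refine (bc_tmul f φ (1 : S) (1 : R)).trans ?_
    have h2 : (show ↑(of S S) from φ (1 : R)) = (1 : S) := by
      refine (hφ 1).trans (map_one f)
    rw [h2, one_smul]

end Algebra

section Sheaf

variable {C : Type u} [SmallCategory C] {J : GrothendieckTopology C} (O : Sheaf J CommRingCat.{u})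

/-- evaluation as module over `O(V)` -/
noncomputable def ev (V : C) : ModSite.Mod O ⥤ ModuleCat.{u} (O.obj.obj (op V)) :=
  SheafOfModules.evaluation (ModSite.ringSh O) (op V)

/-- restriction map as a semilinear morphism -/
noncomputable def resMap {U V : C} (g : U ⟶ V) (F : ModSite.Mod O) :
    (ev O V).obj F ⟶ (ModuleCat.restrictScalars (O.obj.map g.op).hom).obj ((ev O U).obj F) :=
  F.val.map g.op

/-- the base change functor `F ↦ F(V) ⊗_{O(V)} O(U)` -/
noncomputable def bcF {U V : C} (g : U ⟶ V) : ModSite.Mod O ⥤ ModuleCat.{u} (O.obj.obj (op U)) :=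
  ev O V ⋙ ModuleCat.extendScalars (O.obj.map g.op).hom

/-- the base change natural transformation -/
noncomputable def bcNat {U V : C} (g : U ⟶ V) : bcF O g ⟶ ev O U where
  app F := bc _ (resMap O g F)
  naturality F G α := by
    refine bc_naturality _ _ _ _ _ ?_
    exact α.val.naturality g.op

theorem bcNat_app {U V : C} (g : U ⟶ V) (F : ModSite.Mod O) :
    (bcNat O g).app F = ((ModuleCat.extendRestrictScalarsAdj (O.obj.map g.op).hom).homEquiv
          (F.val.obj (op V) : ModuleCat.{u} (O.obj.obj (op V)))
          (F.val.obj (op U) : ModuleCat.{u} (O.obj.obj (op U)))).symm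
          (F.val.map g.op) := rfl

theorem isIso_bcNat_unit {U V : C} (g : U ⟶ V) : IsIso ((bcNat O g).app (ModSite.unit O)) :=
  isIso_bc_unit _ _ (fun _ => rfl)

variable (hJ : IsChaotic J)

include hJ

theorem ev_preservesColimits (V : C) : PreservesColimitsOfSize.{u, u} (ev O V) :=
  evaluationPreservesColimits _ hJ (op V)

theorem bcF_preservesColimits {U V : C} (g : U ⟶ V) :
    PreservesColimitsOfSize.{u, u} (bcF O g) := by
  haveI := ev_preservesColimits O hJ V
  unfold bcF
  infer_instance

theorem isIso_bcNat_free {U V : C} (g : U ⟶ V) (I : Type u) :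
    IsIso ((bcNat O g).app (SheafOfModules.free I)) := by
  haveI := ev_preservesColimits O hJ U
  haveI := bcF_preservesColimits O hJ g
  exact isIso_app_of_isColimit (bcNat O g) (SheafOfModules.isColimitFreeCofan I)
    (fun k => isIso_bcNat_unit O g)

theorem isIso_bcNat_of_cokernel {U V : C} (g : U ⟶ V) {X Y M : ModSite.Mod O}
    (f : X ⟶ Y) (p : Y ⟶ M) (w : f ≫ p = 0) (hc : IsColimit (CokernelCofork.ofπ p w))
    (hX : IsIso ((bcNat O g).app X)) (hY : IsIso ((bcNat O g).app Y)) :
    IsIso ((bcNat O g).app M) := by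
  haveI := ev_preservesColimits O hJ U
  haveI := bcF_preservesColimits O hJ g
  haveI : PreservesFiniteColimits (ev O U) := PreservesColimitsOfSize.preservesFiniteColimits _
  haveI : PreservesFiniteColimits (bcF O g) := PreservesColimitsOfSize.preservesFiniteColimits _
  haveI : PreservesColimit (parallelPair f 0) (ev O U) := inferInstance
  haveI : PreservesColimit (parallelPair f 0) (bcF O g) := inferInstance
  have h : ∀ k, IsIso ((bcNat O g).app ((parallelPair f 0).obj k)) := by
    rintro (_ | _)
    · exact hX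
    · exact hY
  have h3 := isIso_app_of_isColimit (bcNat O g) hc h
  have h4 : (CokernelCofork.ofπ p w).pt = M := rfl
  rw [h4] at h3
  exact h3

theorem isIso_bcNat_of_presentation {U V : C} (g : U ⟶ V) (M : ModSite.Mod O)
    (P : SheafOfModules.Presentation M) : IsIso ((bcNat O g).app M) := by
  have hX := isIso_bcNat_free O hJ g P.relations.I
  have hY := isIso_bcNat_free O hJ g P.generators.I
  have hc := P.isColimit
  exact isIso_bcNat_of_cokernel O hJ g _ _ _ hc hX hY

end Sheaf

end Groth.Agent.Helper29.ChaoticC
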