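import Mathlib
import Groth.Prelude.Def_ModSite
import Groth.Agent.Lib.Helper29.ChaoticC

/-!
# Global presentations on a chaotic site with a terminal object
-/

open CategoryTheory Limits Opposite

namespace Groth.Agent.Helper29.ChaoticD

open Groth.Agent.Helper29.ChaoticA Groth.Agent.Helper29.ChaoticB Groth.Agent.Helper29.ChaoticC

universe u

section Algebra

open ModuleCat ChangeOfRings

variable {R S : Type u} [CommRing R] [CommRing S] (f : R →+* S)

theorem bc_mem {M : ModuleCat.{u} R} {N : ModuleCat.{u} S}
    (φ : M ⟶ (restrictScalars f).obj N) (P : Submodule S N)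
    (h : ∀ m : M, (show N from φ m) ∈ P) (z : (extendScalars f).obj M) :
    bc f φ z ∈ P := by
  induction z using TensorProduct.induction_on with
  | zero => exact (map_zero (bc f φ).hom).symm ▸ P.zero_mem
  | tmul s m =>
    have h1 := bc_tmul f φ s m
    exact h1.symm ▸ P.smul_mem s (h m)
  | add a b ha hb =>
    have h1 := map_add (bc f φ).hom a b
    exact h1.symm ▸ P.add_mem ha hb

end Algebra

variable {C : Type u} [SmallCategory C] {J : GrothendieckTopology C} (O : Sheaf J CommRingCat.{u})
  {T : C} (hT : IsTerminal T)

/-- a section over the terminal object gives a global section -/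
noncomputable def secOf (M : ModSite.Mod O) (m : M.val.obj (op T)) : M.sections :=
  PresheafOfModules.sectionsMk (fun Y => M.val.map (hT.from Y.unop).op m)
    (fun Y Y' k => by
      have hk : (hT.from Y.unop).op ≫ k = (hT.from Y'.unop).op := by
        apply Quiver.Hom.unop_inj
        exact hT.hom_ext _ _
      rw [← PresheafOfModules.map_comp_apply]
      exact PresheafOfModules.congr_map_apply M.val hk m)

theorem secOf_val (M : ModSite.Mod O) (m : M.val.obj (op T)) (U : C) :
    (secOf O hT M m).val (op U) = M.val.map (hT.from U).op m := rfl

/-- the canonical morphism from the free module on the sections over the terminal object -/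
noncomputable def genHom (M : ModSite.Mod O) :
    SheafOfModules.free (R := ModSite.ringSh O) (M.val.obj (op T)) ⟶ M :=
  M.freeHomEquiv.symm (secOf O hT M)

theorem genHom_freeSection (M : ModSite.Mod O) (m : M.val.obj (op T)) (U : C) :
    (genHom O hT M).val.app (op U) ((SheafOfModules.freeSection m).val (op U)) =
      M.val.map (hT.from U).op m := by
  have h := SheafOfModules.sectionsMap_freeHomEquiv_symm_freeSection (secOf O hT M) m
  exact congrArg (fun s => s.val (op U)) h

variable (hJ : IsChaotic J)

theorem epi_genHom (M : ModSite.Mod O)
    (h : ∀ U : C, Function.Surjective ((bcNat O (hT.from U)).app M)) :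
    Epi (genHom O hT M) := by
  apply epi_of_surjective
  intro X y
  obtain ⟨z, rfl⟩ := h X.unop y
  let P : Submodule ((ModSite.ringSh O).obj.obj X) (M.val.obj X) :=
    LinearMap.range ((genHom O hT M).val.app X).hom
  have h1 := bc_mem (O.obj.map (hT.from X.unop).op).hom (resMap O (hT.from X.unop) M)
    P ?_ z
  · exact h1
  · intro m
    exact ⟨(SheafOfModules.freeSection m).val X, genHom_freeSection O hT M m X.unop⟩

/-- the short complex `kernel ⟶ free ⟶ M` -/
noncomputable def genSC (M : ModSite.Mod O) : ShortComplex (ModSite.Mod O) :=
  ShortComplex.mk (kernel.ι (genHom O hT M)) (genHom O hT M) (kernel.condition _)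

theorem genSC_exact (M : ModSite.Mod O) : (genSC O hT M).Exact :=
  ShortComplex.exact_of_f_is_kernel _ (kernelIsKernel _)

theorem evaluation_additive (R : Sheaf J RingCat.{u}) (X : Cᵒᵖ) :
    (SheafOfModules.evaluation.{u} R X).Additive := by
  unfold SheafOfModules.evaluation
  infer_instance

instance ev_additive (U : C) : (ev O U).Additive :=
  evaluation_additive (ModSite.ringSh O) (op U)

instance bcF_additive {U V : C} (g : U ⟶ V) : (bcF O g).Additive := by
  haveI : (ModuleCat.extendScalars.{u, u, u} (O.obj.map g.op).hom).Additive :=
    (ModuleCat.extendRestrictScalarsAdj.{u, u, u} (O.obj.map g.op).hom).left_adjoint_additive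
  unfold bcF
  infer_instance

instance ev_preservesFiniteLimits (U : C) : PreservesFiniteLimits (ev O U) :=
  (inferInstance : PreservesFiniteLimits
    (SheafOfModules.evaluation.{u} (ModSite.ringSh O) (op U)))

include hJ in
theorem surjective_bcNat_kernel (M : ModSite.Mod O)
    (hM : ∀ U : C, IsIso ((bcNat O (hT.from U)).app M)) (U : C) :
    Function.Surjective ((bcNat O (hT.from U)).app (kernel (genHom O hT M))) := by
  haveI : Epi (genHom O hT M) := epi_genHom O hT M (fun U => by
    haveI := hM U
    exact (ConcreteCategory.bijective_of_isIso ((bcNat O (hT.from U)).app M)).2)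
  haveI := ev_preservesColimits O hJ U
  haveI := bcF_preservesColimits O hJ (hT.from U)
  haveI : PreservesFiniteColimits (bcF O (hT.from U)) :=
    PreservesColimitsOfSize.preservesFiniteColimits _
  have hS := genSC_exact O hT M
  have hR₁ : ((genSC O hT M).map (bcF O (hT.from U))).Exact :=
    hS.map_of_epi_of_preservesCokernel (bcF O (hT.from U))
      (by dsimp [genSC]; infer_instance) inferInstance
  have hR₂ : Mono ((genSC O hT M).map (ev O U)).f := by
    change Mono ((ev O U).map (kernel.ι (genHom O hT M)))
    haveI : PreservesLimitsOfShape WalkingCospan (ev O U) :=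
      PreservesFiniteLimits.preservesFiniteLimits _
    haveI : (ev O U).PreservesMonomorphisms :=
      preservesMonomorphisms_of_preservesLimitsOfShape (ev O U)
    exact (ev O U).map_mono _
  let φ : (genSC O hT M).map (bcF O (hT.from U)) ⟶ (genSC O hT M).map (ev O U) :=
    (genSC O hT M).mapNatTrans (bcNat O (hT.from U))
  haveI : Epi φ.τ₂ := by
    haveI := isIso_bcNat_free O hJ (hT.from U) (M.val.obj (op T))
    change Epi ((bcNat O (hT.from U)).app (SheafOfModules.free (M.val.obj (op T))))
    exact IsIso.epi_of_iso _
  haveI : Mono φ.τ₃ := by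
    haveI := hM U
    change Mono ((bcNat O (hT.from U)).app M)
    exact IsIso.mono_of_iso _
  have h := ShortComplex.epi_of_mono_of_epi_of_mono φ hR₁ hR₂ inferInstance inferInstance
  exact (ModuleCat.epi_iff_surjective _).1 h

include hJ in
theorem nonempty_presentation (M : ModSite.Mod O)
    (hM : ∀ U : C, IsIso ((bcNat O (hT.from U)).app M)) :
    Nonempty (SheafOfModules.Presentation M) := by
  have h1 : Epi (genHom O hT M) := epi_genHom O hT M (fun U => by
    haveI := hM U
    exact (ConcreteCategory.bijective_of_isIso ((bcNat O (hT.from U)).app M)).2)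
  have h2 : Epi (genHom O hT (kernel (genHom O hT M))) :=
    epi_genHom O hT _ (surjective_bcNat_kernel O hT hJ M hM)
  exact ⟨{ generators := { I := M.val.obj (op T), s := secOf O hT M, epi := h1 }
           relations := { I := (kernel (genHom O hT M)).val.obj (op T)
                          s := secOf O hT (kernel (genHom O hT M))
                          epi := h2 } }⟩

end Groth.Agent.Helper29.ChaoticD
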