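import Mathlib
import Groth.Prelude.Def_ModSite
import Groth.Agent.Lib.Helper29.ChaoticD

/-!
# Quasi-coherent modules for the chaotic topology
-/

open CategoryTheory Limits Opposite

namespace Groth.Agent.Helper29.ChaoticE

open Groth.Agent.Helper29.ChaoticA Groth.Agent.Helper29.ChaoticB Groth.Agent.Helper29.ChaoticC
  Groth.Agent.Helper29.ChaoticD

universe u

variable {C : Type u} [SmallCategory C] {J : GrothendieckTopology C} (O : Sheaf J CommRingCat.{u})

/-- restriction of a module to the slice site -/
noncomputable def overMod (W : C) (F : ModSite.Mod O) : ModSite.Mod (O.over W) := F.over W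

theorem bcNat_over (W : C) {A B : Over W} (k : A ⟶ B) (F : ModSite.Mod O) :
    IsIso ((bcNat (O.over W) k).app (overMod O W F)) ↔ IsIso ((bcNat O k.left).app F) := Iff.rfl

theorem isQuasicoherent_iff (O : Sheaf (⊥ : GrothendieckTopology C) CommRingCat.{u})
    (F : ModSite.Mod O) :
    SheafOfModules.IsQuasicoherent (R := ModSite.ringSh O) F ↔
      ∀ (U V : C) (g : U ⟶ V), IsIso ((bcNat O g).app F) := by
  constructor
  · intro hF U V g
    obtain ⟨⟨q⟩⟩ := hF
    have h1 := q.coversTop V
    have h2 := GrothendieckTopology.bot_covering.1 h1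
    have h3 : (Sieve.ofObjects q.X V) (𝟙 V) := by
      rw [h2]
      trivial
    obtain ⟨i, ⟨h⟩⟩ := h3
    have P := q.presentation i
    have h4 := isIso_bcNat_of_presentation (O.over (q.X i)) (isChaotic_bot.over _)
      (Over.homMk g : Over.mk (g ≫ h) ⟶ Over.mk h) (overMod O _ F) P
    exact (bcNat_over O (q.X i) _ F).1 h4
  · intro h
    have hq : Nonempty (SheafOfModules.QuasicoherentData.{u, u, u, u} F) := by
      refine ⟨{ I := C, X := id, coversTop := ?_, presentation := fun W => ?_ }⟩
      · intro W
        refine GrothendieckTopology.covering_of_eq_top _ ?_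
        rw [Sieve.ext_iff]
        intro _ f
        simp [Sieve.top_apply]
      · have hT : IsTerminal (Over.mk (𝟙 W)) := Over.mkIdTerminal
        refine (nonempty_presentation (O.over W) hT (isChaotic_bot.over W) (overMod O W F) ?_).some
        intro U'
        exact (bcNat_over O W _ F).2 (h _ _ _)
    exact hq.some.isQuasicoherent

end Groth.Agent.Helper29.ChaoticE
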