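import Mathlib
import Groth.Prelude.Def_ModSite
import Groth.Agent.Lib.Helper29.ChaoticE

/-!
# Quasi-coherent modules for the chaotic topology with flat restriction maps form a weak Serre
subcategory
-/

open CategoryTheory Limits Opposite

namespace Groth.Agent.Helper29.ChaoticF

open Groth.Agent.Helper29.ChaoticA Groth.Agent.Helper29.ChaoticB Groth.Agent.Helper29.ChaoticC
  Groth.Agent.Helper29.ChaoticD Groth.Agent.Helper29.ChaoticE

universe u

section General

variable {A B : Type*} [Category A] [Category B] [Abelian A] [Abelian B] {F G : A ⥤ B}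
  (τ : F ⟶ G)

theorem isIso_app_kernel [PreservesFiniteLimits F] [PreservesFiniteLimits G]
    {X Y : A} (α : X ⟶ Y) (hX : IsIso (τ.app X)) (hY : IsIso (τ.app Y)) :
    IsIso (τ.app (kernel α)) := by
  have h : ∀ k, IsIso (τ.app ((parallelPair α 0).obj k)) := by
    rintro (_ | _)
    · exact hX
    · exact hY
  have h3 := isIso_app_of_isLimit τ (kernelIsKernel α) h
  exact h3

theorem isIso_app_cokernel [PreservesFiniteColimits F] [PreservesFiniteColimits G]
    {X Y : A} (α : X ⟶ Y) (hX : IsIso (τ.app X)) (hY : IsIso (τ.app Y)) :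
    IsIso (τ.app (cokernel α)) := by
  have h : ∀ k, IsIso (τ.app ((parallelPair α 0).obj k)) := by
    rintro (_ | _)
    · exact hX
    · exact hY
  have h3 := isIso_app_of_isColimit τ (cokernelIsCokernel α) h
  exact h3

theorem isIso_app_of_shortExact [F.Additive] [G.Additive]
    [PreservesFiniteLimits F] [PreservesFiniteLimits G]
    [PreservesFiniteColimits F] [PreservesFiniteColimits G]
    (S : ShortComplex A) (hS : S.ShortExact) (h1 : IsIso (τ.app S.X₁))
    (h3 : IsIso (τ.app S.X₃)) : IsIso (τ.app S.X₂) :=
  ShortComplex.isIso₂_of_shortExact_of_isIso₁₃' (S.mapNatTrans τ) (hS.map_of_exact F)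
    (hS.map_of_exact G) h1 h3

end General

section Algebra

open ModuleCat

theorem extendScalars_map_mono {R S : Type u} [CommRing R] [CommRing S] (f : R →+* S)
    (hf : f.Flat) {M N : ModuleCat.{u} R} (i : M ⟶ N) [Mono i] :
    Mono ((ModuleCat.extendScalars f).map i) := by
  letI : Algebra R S := f.toAlgebra
  haveI : Module.Flat R S := hf
  rw [ModuleCat.mono_iff_injective]
  have h1 : Function.Injective i.hom := (ModuleCat.mono_iff_injective i).1 inferInstance
  have h2 := Module.Flat.lTensor_preserves_injective_linearMap (M := S) i.hom h1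
  exact h2

theorem extendScalars_preservesFiniteLimits {R S : Type u} [CommRing R] [CommRing S]
    (f : R →+* S) (hf : f.Flat) :
    PreservesFiniteLimits (ModuleCat.extendScalars.{u, u, u} f) := by
  haveI : (ModuleCat.extendScalars.{u, u, u} f).Additive :=
    (ModuleCat.extendRestrictScalarsAdj.{u, u, u} f).left_adjoint_additive
  rw [Functor.preservesFiniteLimits_iff_forall_exact_map_and_mono]
  intro S hS
  haveI := hS.mono_f
  haveI := hS.epi_g
  exact ⟨hS.exact.map_of_epi_of_preservesCokernel _ inferInstance inferInstance,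
    extendScalars_map_mono f hf S.f⟩

end Algebra

section Sheaf

variable {C : Type u} [SmallCategory C] {J : GrothendieckTopology C} (O : Sheaf J CommRingCat.{u})

theorem bcF_preservesFiniteLimits {U V : C} (g : U ⟶ V) (hg : (O.obj.map g.op).hom.Flat) :
    PreservesFiniteLimits (bcF O g) := by
  haveI := extendScalars_preservesFiniteLimits _ hg
  unfold bcF
  infer_instance

end Sheaf

theorem main {C : Type u} [SmallCategory C]
    (O : Sheaf (⊥ : GrothendieckTopology C) CommRingCat.{u})
    (hO : ∀ (U V : C) (g : U ⟶ V), (O.obj.map g.op).hom.Flat) :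
    (∀ (F G : ModSite.Mod O) (α : F ⟶ G),
        SheafOfModules.IsQuasicoherent (R := ModSite.ringSh O) F →
        SheafOfModules.IsQuasicoherent (R := ModSite.ringSh O) G →
        SheafOfModules.IsQuasicoherent (R := ModSite.ringSh O) (kernel α) ∧
        SheafOfModules.IsQuasicoherent (R := ModSite.ringSh O) (cokernel α)) ∧
    (∀ (S : ShortComplex (ModSite.Mod O)), S.ShortExact →
        SheafOfModules.IsQuasicoherent (R := ModSite.ringSh O) S.X₁ →
        SheafOfModules.IsQuasicoherent (R := ModSite.ringSh O) S.X₃ →
        SheafOfModules.IsQuasicoherent (R := ModSite.ringSh O) S.X₂) := by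
  have key := isQuasicoherent_iff O
  have hJ : IsChaotic (⊥ : GrothendieckTopology C) := isChaotic_bot
  have i1 : ∀ {U V : C} (g : U ⟶ V), PreservesFiniteLimits (bcF O g) := fun g =>
    bcF_preservesFiniteLimits O g (hO _ _ g)
  have i2 : ∀ {U V : C} (g : U ⟶ V), PreservesFiniteColimits (bcF O g) := fun g => by
    haveI := bcF_preservesColimits O hJ g
    exact PreservesColimitsOfSize.preservesFiniteColimits _
  have i3 : ∀ (U : C), PreservesFiniteColimits (ev O U) := fun U => by
    haveI := ev_preservesColimits O hJ U
    exact PreservesColimitsOfSize.preservesFiniteColimits _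
  refine ⟨fun F G α hF hG => ⟨?_, ?_⟩, fun S hS h1 h3 => ?_⟩
  · rw [key] at hF hG ⊢
    intro U V g
    haveI := i1 g
    exact isIso_app_kernel (bcNat O g) α (hF U V g) (hG U V g)
  · rw [key] at hF hG ⊢
    intro U V g
    haveI := i2 g
    haveI := i3 U
    exact isIso_app_cokernel (bcNat O g) α (hF U V g) (hG U V g)
  · rw [key] at h1 h3 ⊢
    intro U V g
    haveI := i1 g
    haveI := i2 g
    haveI := i3 U
    exact isIso_app_of_shortExact (bcNat O g) S hS (h1 U V g) (h3 U V g)

end Groth.Agent.Helper29.ChaoticF
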