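import Mathlib

/-!
# In characteristic `p`, an element of a field with vanishing differential is a `p`-th power

Zorn's lemma gives a maximal subfield `F ⊇ K^p` not containing `a`; then `K = F(a)` is a simple
purely inseparable extension of degree `p`, on which `d/da` is a well-defined derivation.
-/

namespace Groth.Agent.Helper29.CharPDiff

open Polynomial IntermediateField

universe u

section Field

variable (p : ℕ) [hp : Fact p.Prime] {K : Type u} [Field K] [CharP K p]

/-- For a subfield `F` containing all `p`-th powers and `x ∉ F`, the minimal polynomial of `x` over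
`F` is `X^p - x^p`. -/
theorem minpoly_eq (F : Subfield K) (hF : ∀ y : K, y ^ p ∈ F) (x : K) (hx : x ∉ F) :
    minpoly F x = X ^ p - C (⟨x ^ p, hF x⟩ : F) := by
  have hirr : Irreducible (X ^ p - C (⟨x ^ p, hF x⟩ : F)) := by
    apply X_pow_sub_C_irreducible_of_prime hp.out
    intro b hb
    have h1 : (b : K) ^ p = x ^ p := by
      have := congrArg (fun z : F => (z : K)) hb
      simpa using this
    have h2 : (b : K) = x := by
      have h3 : ((b : K) - x) ^ p = 0 := by
        rw [sub_pow_char, h1, sub_self]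
      have := pow_eq_zero_iff (hp.out.ne_zero) |>.1 h3
      exact sub_eq_zero.1 this
    exact hx (h2 ▸ b.2)
  symm
  apply minpoly.eq_of_irreducible_of_monic hirr
  · simp only [map_sub, map_pow, aeval_X, aeval_C]
    change x ^ p - x ^ p = 0
    simp
  · exact monic_X_pow_sub_C _ hp.out.ne_zero

omit [CharP K p] in
theorem isIntegral_of_pow_mem (F : Subfield K) (hF : ∀ y : K, y ^ p ∈ F) (x : K) :
    IsIntegral F x := by
  refine ⟨X ^ p - C (⟨x ^ p, hF x⟩ : F), monic_X_pow_sub_C _ hp.out.ne_zero, ?_⟩
  simp only [eval₂_sub, eval₂_pow, eval₂_X, eval₂_C]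
  change x ^ p - x ^ p = 0
  simp

theorem finrank_adjoin (F : Subfield K) (hF : ∀ y : K, y ^ p ∈ F) (x : K) (hx : x ∉ F) :
    Module.finrank F F⟮x⟯ = p := by
  rw [adjoin.finrank (isIntegral_of_pow_mem p F hF x), minpoly_eq p F hF x hx]
  exact natDegree_X_pow_sub_C

/-- Key step: if `a ∉ F`, `F ⊇ K^p`, and `F` is maximal among subfields not containing `a`, then
`K = F(a)`. -/
theorem adjoin_eq_top (F : Subfield K) (hF : ∀ y : K, y ^ p ∈ F) (a : K) (ha : a ∉ F)
    (hmax : ∀ F' : Subfield K, F ≤ F' → a ∉ F' → F' ≤ F) : F⟮a⟯ = ⊤ := by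
  rw [eq_top_iff]
  intro x _
  by_cases hx : x ∈ F
  · exact (F⟮a⟯).algebraMap_mem ⟨x, hx⟩
  · have haL : a ∈ F⟮x⟯ := by
      by_contra hcon
      have hle : F ≤ (F⟮x⟯).toSubfield := by
        intro y hy
        exact (F⟮x⟯).algebraMap_mem ⟨y, hy⟩
      have := hmax (F⟮x⟯).toSubfield hle hcon
      exact hx (this (mem_adjoin_simple_self F x))
    have hle : F⟮a⟯ ≤ F⟮x⟯ := adjoin_simple_le_iff.2 haL
    have := adjoin.finiteDimensional (isIntegral_of_pow_mem p F hF x)
    have heq : F⟮a⟯ = F⟮x⟯ := by
      apply eq_of_le_of_finrank_eq hle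
      rw [finrank_adjoin p F hF a ha, finrank_adjoin p F hF x hx]
    rw [heq]
    exact mem_adjoin_simple_self F x

/-- Zorn: there is a maximal subfield containing `K^p` and not containing `a`. -/
theorem exists_maximal_subfield (a : K) (ha : ∀ b : K, b ^ p ≠ a) :
    ∃ F : Subfield K, (∀ y : K, y ^ p ∈ F) ∧ a ∉ F ∧
      ∀ F' : Subfield K, F ≤ F' → a ∉ F' → F' ≤ F := by
  let E : Subfield K := (frobenius K p).fieldRange
  let S : Set (Subfield K) := {F | E ≤ F ∧ a ∉ F}
  have hE : E ∈ S := by
    refine ⟨le_rfl, ?_⟩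
    rintro ⟨b, hb⟩
    exact ha b hb
  obtain ⟨F, hEF, hFmax⟩ := zorn_le_nonempty₀ S (by
    intro c hcS hc y hy
    refine ⟨sSup c, ⟨?_, ?_⟩, fun z hz => le_sSup hz⟩
    · exact (hcS hy).1.trans (le_sSup hy)
    · rw [Subfield.mem_sSup_of_directedOn ⟨y, hy⟩ hc.directedOn]
      rintro ⟨s, hs, has⟩
      exact (hcS hs).2 has) E hE
  refine ⟨F, ?_, hFmax.prop.2, ?_⟩
  · intro y
    exact hEF ⟨y, rfl⟩
  · intro F' hFF' haF'
    exact hFmax.le_of_ge ⟨hFmax.prop.1.trans hFF', haF'⟩ hFF'

/-- If `a` is not a `p`-th power, there is a derivation of `K` not killing `a`. -/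
theorem exists_derivation (a : K) (ha : ∀ b : K, b ^ p ≠ a) :
    ∃ D : Derivation ℤ K K, D a = 1 := by
  obtain ⟨F, hF, haF, hmax⟩ := exists_maximal_subfield p a ha
  have htop := adjoin_eq_top p F hF a haF hmax
  have hint : IsIntegral F a := isIntegral_of_pow_mem p F hF a
  have htop' : Algebra.adjoin F {a} = ⊤ := by
    have := adjoin_simple_toSubalgebra_of_isAlgebraic hint.isAlgebraic
    rw [← this, htop]
    rfl
  let pb : PowerBasis F K := PowerBasis.ofAdjoinEqTop hint htop'
  have hgen : pb.gen = a := rfl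
  have : CharP (TrivSqZeroExt K K) p :=
    charP_of_injective_algebraMap (R := K) (A := TrivSqZeroExt K K)
      (TrivSqZeroExt.inl_injective) p
  let y : TrivSqZeroExt K K := TrivSqZeroExt.inl a + TrivSqZeroExt.inr 1
  have hy : aeval y (minpoly F pb.gen) = 0 := by
    rw [hgen, minpoly_eq p F hF a haF]
    simp only [map_sub, map_pow, aeval_X, aeval_C]
    have h1 : y ^ p = TrivSqZeroExt.inl (a ^ p) := by
      simp only [y]
      rw [add_pow_char]
      have h2 : (TrivSqZeroExt.inr (1 : K) : TrivSqZeroExt K K) ^ p = 0 := by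
        obtain ⟨n, hn⟩ : ∃ n, p = n + 2 := ⟨p - 2, by have := hp.out.two_le; omega⟩
        rw [hn, pow_add, pow_two, TrivSqZeroExt.inr_mul_inr, mul_zero]
      rw [h2, add_zero, TrivSqZeroExt.inl_pow]
    rw [h1]
    change _ - TrivSqZeroExt.inl (a ^ p) = 0
    simp
  let φ : K →ₐ[F] TrivSqZeroExt K K := pb.lift y hy
  have hφgen : φ a = y := pb.lift_gen y hy
  have hfst : ∀ x : K, (φ x).fst = x := by
    intro x
    have h1 : (TrivSqZeroExt.fstHom F K K).comp φ = AlgHom.id F K := by
      apply pb.algHom_ext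
      simp only [AlgHom.coe_comp, Function.comp_apply, AlgHom.coe_id, id_eq]
      rw [hgen, hφgen]
      simp [y]
    exact congrArg (fun f : K →ₐ[F] K => f x) h1
  let D : Derivation ℤ K K := Derivation.mk'
    ((TrivSqZeroExt.sndHom K K).toAddMonoidHom.comp φ.toRingHom.toAddMonoidHom).toIntLinearMap
    (by
      intro u v
      change (φ (u * v)).snd = u • (φ v).snd + v • (φ u).snd
      rw [map_mul, TrivSqZeroExt.snd_mul, hfst, hfst]
      simp [mul_comm])
  refine ⟨D, ?_⟩
  change (φ a).snd = 1
  rw [hφgen]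
  simp [y]

/-- In a field of characteristic `p`, if the absolute differential of `a` vanishes then `a` is a
`p`-th power. -/
theorem exists_pow_eq_of_D_eq_zero (a : K) (h : KaehlerDifferential.D ℤ K a = 0) :
    ∃ b : K, b ^ p = a := by
  by_contra hcon
  push Not at hcon
  obtain ⟨D, hD⟩ := exists_derivation p a hcon
  have h1 : D.liftKaehlerDifferential (KaehlerDifferential.D ℤ K a) = D a :=
    D.liftKaehlerDifferential_comp_D a
  rw [h, map_zero, hD] at h1
  exact zero_ne_one h1

end Field

end Groth.Agent.Helper29.CharPDiff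

namespace Groth.Agent.Helper29.CharPDiff

universe u

theorem main_domain_aux (p : ℕ) [Fact p.Prime] {A : Type u} [CommRing A] [IsDomain A]
    [IsIntegrallyClosed A] [CharP A p] (K : Type u) [Field K] [Algebra A K] [IsFractionRing A K]
    (s : A) (hs : KaehlerDifferential.D ℤ A s = 0) :
    ∃ f : A, f ^ p = s := by
  have : CharP K p := charP_of_injective_algebraMap (IsFractionRing.injective A K) p
  have h1 : KaehlerDifferential.D ℤ K (algebraMap A K s) = 0 := by
    have := KaehlerDifferential.map_D ℤ ℤ A K s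
    rw [← this, hs, map_zero]
  obtain ⟨b, hb⟩ := exists_pow_eq_of_D_eq_zero p (algebraMap A K s) h1
  have hint : IsIntegral A b := by
    refine ⟨Polynomial.X ^ p - Polynomial.C s,
      Polynomial.monic_X_pow_sub_C _ (Fact.out : p.Prime).ne_zero, ?_⟩
    simp [hb]
  obtain ⟨f, hf⟩ := (IsIntegrallyClosed.isIntegral_iff (K := K)).1 hint
  refine ⟨f, IsFractionRing.injective A K ?_⟩
  rw [map_pow, hf, hb]

/-- S13369: normal domain of characteristic `p`: `d s = 0` implies `s` is a `p`-th power. -/
theorem main_domain (p : ℕ) [Fact p.Prime] {A : Type u} [CommRing A] [IsDomain A]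
    [IsIntegrallyClosed A] [CharP A p] (s : A) (hs : KaehlerDifferential.D ℤ A s = 0) :
    ∃ f : A, f ^ p = s :=
  main_domain_aux p (FractionRing A) s hs

/-- S2148: perfect base field. -/
theorem main_perfect {k K : Type u} [Field k] [Field K] [Algebra k K] (p : ℕ) [Fact p.Prime]
    [CharP k p] [PerfectRing k p] (a : K) :
    KaehlerDifferential.D k K a = 0 ↔ ∃ b : K, b ^ p = a := by
  have : CharP K p := charP_of_injective_algebraMap (algebraMap k K).injective p
  constructor
  · intro h
    by_contra hcon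
    push Not at hcon
    obtain ⟨D, hD⟩ := exists_derivation p a hcon
    have hk : ∀ c : k, D (algebraMap k K c) = 0 := by
      intro c
      obtain ⟨d, hd⟩ := surjective_frobenius k p c
      rw [← hd, frobenius_def, map_pow, Derivation.leibniz_pow]
      have : (p : K) = 0 := CharP.cast_eq_zero K p
      rw [← Nat.cast_smul_eq_nsmul K, this, zero_smul]
    let D' : Derivation k K K :=
      { toFun := D
        map_add' := map_add D
        map_smul' := by
          intro c x
          simp only [RingHom.id_apply]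
          rw [Algebra.smul_def, Derivation.leibniz, hk, smul_zero, add_zero, smul_eq_mul,
            Algebra.smul_def]
        map_one_eq_zero' := D.map_one_eq_zero
        leibniz' := D.leibniz }
    have h1 : D'.liftKaehlerDifferential (KaehlerDifferential.D k K a) = D' a :=
      D'.liftKaehlerDifferential_comp_D a
    rw [h, map_zero] at h1
    have : D' a = 1 := hD
    rw [this] at h1
    exact zero_ne_one h1
  · rintro ⟨b, rfl⟩
    rw [Derivation.leibniz_pow]
    have : (p : K) = 0 := CharP.cast_eq_zero K p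
    rw [← Nat.cast_smul_eq_nsmul K, this, zero_smul]

end Groth.Agent.Helper29.CharPDiff
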