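import Mathlib
import Groth.Prelude.Def_SGA4a

/-!
# Closed complement of an open in an adhesive category (abstract part)
-/

universe v u

open CategoryTheory CategoryTheory.Limits

namespace Groth.Agent.Helper29.ClosedA

variable {E : Type v} [Category.{u} E] [HasTerminal E] [HasBinaryProducts E]

lemma sub_ext {U : E} (hU : Mono (terminal.from U)) {T : E} (a b : T ⟶ U) : a = b := by
  rw [← cancel_mono (terminal.from U)]
  exact Subsingleton.elim _ _

lemma mono_snd {U : E} (hU : Mono (terminal.from U)) (Y : E) : Mono (prod.snd : U ⨯ Y ⟶ Y) :=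
  ⟨fun a b h => by
    apply Limits.prod.hom_ext
    · exact sub_ext hU _ _
    · exact h⟩

/-- maps into a closed object from something living over `U` are unique -/
lemma hom_ext_of_closed {U Z : E} (hZ : SGA4.closedCompl U Z) {T : E} (t : T ⟶ U) (a b : T ⟶ Z) :
    a = b := by
  have hZ' : IsIso (prod.fst : U ⨯ Z ⟶ U) := hZ
  have h : prod.lift t a = prod.lift t b := by
    rw [← cancel_mono (prod.fst : U ⨯ Z ⟶ U)]
    simp only [prod.lift_fst]
  have := congrArg (fun f => f ≫ (prod.snd : U ⨯ Z ⟶ Z)) h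
  simpa only [prod.lift_snd] using this

lemma closed_of_iso {U Z Z' : E} (e : Z ≅ Z') (hZ : SGA4.closedCompl U Z) : SGA4.closedCompl U Z' := by
  have hZ' : IsIso (prod.fst : U ⨯ Z ⟶ U) := hZ
  have h : (prod.fst : U ⨯ Z' ⟶ U) = prod.map (𝟙 U) e.inv ≫ (prod.fst : U ⨯ Z ⟶ U) := by
    simp only [prod.map_fst, Category.comp_id]
  show IsIso (prod.fst : U ⨯ Z' ⟶ U)
  rw [h]
  infer_instance

/-- criterion for closedness via generalized elements -/
lemma closed_of_unique {U Z : E} (s : U ⟶ Z)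
    (h : ∀ (a b : U ⨯ Z ⟶ Z), a = b) : SGA4.closedCompl U Z := by
  show IsIso (prod.fst : U ⨯ Z ⟶ U)
  refine ⟨prod.lift (𝟙 U) s, ?_, by simp only [prod.lift_fst]⟩
  apply Limits.prod.hom_ext
  · simp only [Category.assoc, prod.lift_fst, Category.comp_id, Category.id_comp]
  · simp only [Category.assoc, prod.lift_snd, Category.id_comp]
    exact h _ _

variable [HasPullbacks E] [HasPushouts E] [Adhesive E]

/-- the object `X_{CU}` -/
noncomputable abbrev cu (U X : E) : E := pushout (prod.fst : U ⨯ X ⟶ U) (prod.snd : U ⨯ X ⟶ X)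

noncomputable abbrev cuInl (U X : E) : U ⟶ cu U X := pushout.inl _ _
noncomputable abbrev cuInr (U X : E) : X ⟶ cu U X := pushout.inr _ _

lemma isPushout_cu (U X : E) :
    IsPushout (prod.snd : U ⨯ X ⟶ X) (prod.fst : U ⨯ X ⟶ U) (cuInr U X) (cuInl U X) :=
  (IsPushout.of_hasPushout _ _).flip

lemma fst_inl_eq_snd {U : E} (hU : Mono (terminal.from U)) (Y : E) :
    (prod.fst : U ⨯ cu U Y ⟶ U) ≫ cuInl U Y = prod.snd := by
  haveI := mono_snd hU Y
  refine Adhesive.isPushout_isPullback_isPullback_hom_ext (isPushout_cu U Y)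
    (IsPullback.of_hasPullback (prod.snd : U ⨯ cu U Y ⟶ cu U Y) (cuInr U Y))
    (IsPullback.of_hasPullback (prod.snd : U ⨯ cu U Y ⟶ cu U Y) (cuInl U Y)) ?_ ?_
  · -- on the `Y` part
    have h1 := pullback.condition (f := (prod.snd : U ⨯ cu U Y ⟶ cu U Y)) (g := cuInr U Y)
    rw [h1]
    have h2 : prod.lift (pullback.fst (prod.snd : U ⨯ cu U Y ⟶ cu U Y) (cuInr U Y) ≫ prod.fst)
        (pullback.snd (prod.snd : U ⨯ cu U Y ⟶ cu U Y) (cuInr U Y)) ≫
          ((prod.fst : U ⨯ Y ⟶ U) ≫ cuInl U Y) =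
        prod.lift (pullback.fst (prod.snd : U ⨯ cu U Y ⟶ cu U Y) (cuInr U Y) ≫ prod.fst)
        (pullback.snd (prod.snd : U ⨯ cu U Y ⟶ cu U Y) (cuInr U Y)) ≫
          ((prod.snd : U ⨯ Y ⟶ Y) ≫ cuInr U Y) := by
      rw [pushout.condition]
    simpa only [prod.lift_fst_assoc, prod.lift_snd_assoc, Category.assoc] using h2
  · have h1 := pullback.condition (f := (prod.snd : U ⨯ cu U Y ⟶ cu U Y)) (g := cuInl U Y)
    rw [h1, ← Category.assoc]
    congr 1
    exact sub_ext hU _ _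

lemma closed_cu {U : E} (hU : Mono (terminal.from U)) (Y : E) : SGA4.closedCompl U (cu U Y) := by
  show IsIso (prod.fst : U ⨯ cu U Y ⟶ U)
  refine ⟨prod.lift (𝟙 U) (cuInl U Y), ?_, by simp only [prod.lift_fst]⟩
  apply Limits.prod.hom_ext
  · simp only [Category.assoc, prod.lift_fst, Category.comp_id, Category.id_comp]
  · simp only [Category.assoc, prod.lift_snd, Category.id_comp]
    exact fst_inl_eq_snd hU Y

/-- universal property of `X ⟶ X_{CU}` -/
noncomputable def cuDesc {U X Z : E} (hZ : SGA4.closedCompl U Z) (f : X ⟶ Z) : cu U X ⟶ Z :=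
  haveI : IsIso (prod.fst : U ⨯ Z ⟶ U) := hZ
  pushout.desc (inv (prod.fst : U ⨯ Z ⟶ U) ≫ prod.snd) f
    (hom_ext_of_closed hZ prod.fst _ _)

@[reassoc (attr := simp)]
lemma cuInr_desc {U X Z : E} (hZ : SGA4.closedCompl U Z) (f : X ⟶ Z) :
    cuInr U X ≫ cuDesc hZ f = f := by
  simp only [cuDesc, cuInr, pushout.inr_desc]

lemma cu_hom_ext {U X Z : E} (hZ : SGA4.closedCompl U Z) {a b : cu U X ⟶ Z}
    (h : cuInr U X ≫ a = cuInr U X ≫ b) : a = b := by
  apply pushout.hom_ext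
  · exact hom_ext_of_closed hZ (𝟙 U) _ _
  · exact h

/-- S6177 (abstract) -/
theorem main6177 {U : E} (hU : Mono (terminal.from U)) (X : E) :
    (SGA4.closedCompl U X ↔ IsIso (pushout.inr (prod.fst : U ⨯ X ⟶ U) (prod.snd : U ⨯ X ⟶ X))) ∧
    ((∃ Y : E, Nonempty (X ≅ pushout (prod.fst : U ⨯ Y ⟶ U) (prod.snd : U ⨯ Y ⟶ Y))) →
      SGA4.closedCompl U X) := by
  have hb : (∃ Y : E, Nonempty (X ≅ pushout (prod.fst : U ⨯ Y ⟶ U) (prod.snd : U ⨯ Y ⟶ Y))) →
      SGA4.closedCompl U X := by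
    rintro ⟨Y, ⟨e⟩⟩
    exact closed_of_iso e.symm (closed_cu hU Y)
  refine ⟨⟨fun h => ?_, fun h => ?_⟩, hb⟩
  · haveI : IsIso (prod.fst : U ⨯ X ⟶ U) := h
    infer_instance
  · exact hb ⟨X, ⟨asIso (pushout.inr (prod.fst : U ⨯ X ⟶ U) (prod.snd : U ⨯ X ⟶ X))⟩⟩

end Groth.Agent.Helper29.ClosedA
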