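import Mathlib
import Groth.Prelude.Def_SGA4a
import Groth.Agent.Lib.Helper29.ClosedA

universe u

open CategoryTheory CategoryTheory.Limits

namespace Groth.Agent.Helper29.ClosedB

variable {C : Type u} [SmallCategory C] (J : GrothendieckTopology C)

instance sheafAdhesive : Adhesive (Sheaf J (Type u)) :=
  adhesive_of_reflective (sheafificationAdjunction J (Type u))

theorem main6177 (U : Sheaf J (Type u)) (hU : SGA4.IsOpen U) (X : Sheaf J (Type u)) :
    (SGA4.closedCompl U X ↔ IsIso (pushout.inr (prod.fst : U ⨯ X ⟶ U) (prod.snd : U ⨯ X ⟶ X))) ∧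
    ((∃ Y : Sheaf J (Type u), Nonempty (X ≅ pushout (prod.fst : U ⨯ Y ⟶ U) (prod.snd : U ⨯ Y ⟶ Y))) →
      SGA4.closedCompl U X) :=
  Groth.Agent.Helper29.ClosedA.main6177 hU X

end Groth.Agent.Helper29.ClosedB
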