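import Mathlib
import Groth.Prelude.Def_SGA4a
import Groth.Agent.Lib.Helper29.ClosedA

universe v u

open CategoryTheory CategoryTheory.Limits

namespace Groth.Agent.Helper29.ClosedC

open Groth.Agent.Helper29.ClosedA

variable {E : Type v} [Category.{u} E] [HasTerminal E] [HasBinaryProducts E]
  [HasPullbacks E] [HasPushouts E] [Adhesive E]

lemma isPullback_snd_map (U : E) {X X' : E} (m : X ⟶ X') :
    IsPullback (prod.snd : U ⨯ X ⟶ X) (prod.map (𝟙 U) m) m (prod.snd : U ⨯ X' ⟶ X') := by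
  refine ⟨⟨by simp only [prod.map_snd]⟩, ⟨PullbackCone.IsLimit.mk _
    (fun s => prod.lift (s.snd ≫ prod.fst) s.fst) ?_ ?_ ?_⟩⟩
  · intro s
    simp only [prod.lift_snd]
  · intro s
    apply Limits.prod.hom_ext
    · simp only [Category.assoc, prod.map_fst, Category.comp_id, prod.lift_fst]
    · simp only [Category.assoc, prod.map_snd, prod.lift_snd_assoc]
      exact s.condition
  · intro s l h1 h2
    apply Limits.prod.hom_ext
    · simp only [prod.lift_fst, ← h2, Category.assoc, prod.map_fst, Category.comp_id]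
    · simp only [prod.lift_snd, h1]

theorem main12107 {U : E} (hU : Mono (terminal.from U)) {X X' : E} (m : X ⟶ X')
    (k : pushout (prod.fst : U ⨯ X ⟶ U) (prod.snd : U ⨯ X ⟶ X) ⟶
      pushout (prod.fst : U ⨯ X' ⟶ U) (prod.snd : U ⨯ X' ⟶ X'))
    (hk₁ : pushout.inl (prod.fst : U ⨯ X ⟶ U) (prod.snd : U ⨯ X ⟶ X) ≫ k =
      pushout.inl (prod.fst : U ⨯ X' ⟶ U) (prod.snd : U ⨯ X' ⟶ X'))
    (hk₂ : pushout.inr (prod.fst : U ⨯ X ⟶ U) (prod.snd : U ⨯ X ⟶ X) ≫ k =
      m ≫ pushout.inr (prod.fst : U ⨯ X' ⟶ U) (prod.snd : U ⨯ X' ⟶ X')) :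
    IsPullback m (pushout.inr (prod.fst : U ⨯ X ⟶ U) (prod.snd : U ⨯ X ⟶ X))
        (pushout.inr (prod.fst : U ⨯ X' ⟶ U) (prod.snd : U ⨯ X' ⟶ X')) k ↔
      IsIso (prod.map (𝟙 U) m) := by
  haveI := mono_snd hU X
  haveI := mono_snd hU X'
  constructor
  · intro h
    -- paste
    have s : IsPullback (prod.snd : U ⨯ X ⟶ X) (prod.fst : U ⨯ X ⟶ U) (cuInr U X) (cuInl U X) :=
      Adhesive.isPullback_of_isPushout_of_mono_left (isPushout_cu U X)
    have s' : IsPullback (prod.snd : U ⨯ X' ⟶ X') (prod.fst : U ⨯ X' ⟶ U) (cuInr U X') (cuInl U X') :=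
      Adhesive.isPullback_of_isPushout_of_mono_left (isPushout_cu U X')
    have p := s.paste_horiz h
    rw [hk₁] at p
    have e1 : (p.isoIsPullback _ _ s').hom ≫ prod.snd = prod.snd ≫ m := p.isoIsPullback_hom_fst _ _ s'
    have e2 : (p.isoIsPullback _ _ s').hom ≫ prod.fst = prod.fst := p.isoIsPullback_hom_snd _ _ s'
    have : prod.map (𝟙 U) m = (p.isoIsPullback _ _ s').hom := by
      apply Limits.prod.hom_ext
      · rw [e2]; simp only [prod.map_fst, Category.comp_id]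
      · rw [e1]; simp only [prod.map_snd]
    rw [this]
    infer_instance
  · intro h
    have vk := Adhesive.van_kampen (isPushout_cu U X')
    have := vk (prod.snd : U ⨯ X ⟶ X) (prod.fst : U ⨯ X ⟶ U) (cuInr U X) (cuInl U X)
      (prod.map (𝟙 U) m) m (𝟙 U) k (isPullback_snd_map U m)
      (IsPullback.of_vert_isIso ⟨by simp only [prod.map_fst]⟩)
      ⟨hk₂⟩ ⟨by rw [hk₁, Category.id_comp]⟩ (isPushout_cu U X).toCommSq
    exact (this.1 (isPushout_cu U X)).1.flip

end Groth.Agent.Helper29.ClosedC
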