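import Mathlib
import Groth.Prelude.Def_SGA4a
import Groth.Agent.Lib.Helper29.ClosedA
import Groth.Agent.Lib.Helper29.ClosedC

universe v u

open CategoryTheory CategoryTheory.Limits

namespace Groth.Agent.Helper29.ClosedD

open Groth.Agent.Helper29.ClosedA Groth.Agent.Helper29.ClosedC

variable {E : Type v} [Category.{u} E] [HasTerminal E] [HasBinaryProducts E]

section
variable {U : E} (L : E ⥤ (SGA4.closedCompl U).FullSubcategory) (adj : L ⊣ (SGA4.closedCompl U).ι)

include adj in
lemma unit_hom_ext {X Z : E} (hZ : SGA4.closedCompl U Z) (a b : (L.obj X).obj ⟶ Z)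
    (h : adj.unit.app X ≫ a = adj.unit.app X ≫ b) : a = b := by
  let Z' : (SGA4.closedCompl U).FullSubcategory := ⟨Z, hZ⟩
  let a' : L.obj X ⟶ Z' := ObjectProperty.homMk a
  let b' : L.obj X ⟶ Z' := ObjectProperty.homMk b
  have : a' = b' := by
    apply (adj.homEquiv X Z').injective
    rw [adj.homEquiv_unit, adj.homEquiv_unit]
    exact h
  exact congrArg (fun f => f.hom) this

/-- the map `ι L X ⟶ Z` induced by `X ⟶ Z` with `Z` closed -/
noncomputable def unitDesc {X Z : E} (hZ : SGA4.closedCompl U Z) (f : X ⟶ Z) : (L.obj X).obj ⟶ Z :=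
  ((adj.homEquiv X (⟨Z, hZ⟩ : (SGA4.closedCompl U).FullSubcategory)).symm f).hom

lemma unit_unitDesc {X Z : E} (hZ : SGA4.closedCompl U Z) (f : X ⟶ Z) :
    adj.unit.app X ≫ unitDesc L adj hZ f = f := by
  have := adj.homEquiv_unit (X := X) (Y := (⟨Z, hZ⟩ : (SGA4.closedCompl U).FullSubcategory))
    (f := (adj.homEquiv X (⟨Z, hZ⟩ : (SGA4.closedCompl U).FullSubcategory)).symm f)
  rw [Equiv.apply_symm_apply] at this
  exact this.symm

end

variable [HasPullbacks E] [HasPushouts E] [Adhesive E]

section
variable {U : E} (hU : Mono (terminal.from U))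
  (L : E ⥤ (SGA4.closedCompl U).FullSubcategory) (adj : L ⊣ (SGA4.closedCompl U).ι)

/-- any reflector onto the closed complement is given by `X ↦ X_{CU}` -/
noncomputable def reflIso (X : E) : (L.obj X).obj ≅ cu U X where
  hom := unitDesc L adj (closed_cu hU X) (cuInr U X)
  inv := cuDesc (L.obj X).property (adj.unit.app X)
  hom_inv_id := by
    apply unit_hom_ext L adj (L.obj X).property
    rw [← Category.assoc, unit_unitDesc, cuInr_desc]
    exact (Category.comp_id _).symm
  inv_hom_id := by
    apply cu_hom_ext (closed_cu hU X)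
    rw [← Category.assoc, cuInr_desc, unit_unitDesc, Category.comp_id]

lemma unit_reflIso_hom (X : E) : adj.unit.app X ≫ (reflIso hU L adj X).hom = cuInr U X :=
  unit_unitDesc L adj _ _

lemma cuInr_reflIso_inv (X : E) : cuInr U X ≫ (reflIso hU L adj X).inv = adj.unit.app X :=
  cuInr_desc _ _

include hU adj in
theorem main3084 {X Y : E} (m : X ⟶ Y) :
    IsIso m ↔ IsIso ((Over.star U).map m) ∧ IsIso (L.map m) := by
  constructor
  · intro h
    exact ⟨inferInstance, inferInstance⟩
  · rintro ⟨h1, h2⟩
    have h1' : IsIso (prod.map (𝟙 U) m) := by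
      have h3 : IsIso ((Over.forget U).map ((Over.star U).map m)) := inferInstance
      have h4 : ((Over.star U).map m).left = prod.map (𝟙 U) m := Over.star_map_left U m
      have h5 : IsIso ((Over.star U).map m).left := h3
      rw [h4] at h5
      exact h5
    let k : cu U X ⟶ cu U Y :=
      (reflIso hU L adj X).inv ≫ (L.map m).hom ≫ (reflIso hU L adj Y).hom
    have hk₂ : cuInr U X ≫ k = m ≫ cuInr U Y := by
      show cuInr U X ≫ (reflIso hU L adj X).inv ≫ (L.map m).hom ≫ (reflIso hU L adj Y).hom = _
      rw [← Category.assoc, cuInr_reflIso_inv]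
      have nat := adj.unit.naturality m
      simp only [Functor.id_obj, Functor.id_map, Functor.comp_obj, Functor.comp_map,
        ObjectProperty.ι_map] at nat
      rw [← Category.assoc, ← nat, Category.assoc, unit_reflIso_hom]
    have hk₁ : cuInl U X ≫ k = cuInl U Y := hom_ext_of_closed (closed_cu hU Y) (𝟙 U) _ _
    have hpb := (main12107 hU m k hk₁ hk₂).2 h1'
    have : IsIso k := by
      show IsIso ((reflIso hU L adj X).inv ≫ (L.map m).hom ≫ (reflIso hU L adj Y).hom)
      infer_instance
    exact hpb.isIso_fst_of_isIso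

end

end Groth.Agent.Helper29.ClosedD
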