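import Mathlib
import Groth.Prelude.Def_SGA4a
import Groth.Agent.Lib.Helper29.ClosedA
import Groth.Agent.Lib.Helper29.ClosedB

universe u

open CategoryTheory CategoryTheory.Limits Opposite

namespace Groth.Agent.Helper29.ClosedE

open Groth.Agent.Helper29.ClosedA

variable {C : Type u} [SmallCategory C] (J : GrothendieckTopology C) (U : Sheaf J (Type u))

/-- arrows whose source carries a section of `U` -/
def sU (c : C) : Sieve c where
  arrows := fun c' _ => Nonempty (U.obj.obj (op c'))
  downward_closed := by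
    rintro c' c'' f ⟨x⟩ g
    exact ⟨U.obj.map g.op x⟩

lemma sU_apply {c c' : C} (f : c' ⟶ c) : sU J U c f ↔ Nonempty (U.obj.obj (op c')) := Iff.rfl

lemma pullback_sup_sU {c c' : C} (S : Sieve c) (h : c' ⟶ c) :
    (S ⊔ sU J U c).pullback h = S.pullback h ⊔ sU J U c' := by
  ext d f
  simp only [Sieve.pullback_apply, Sieve.union_apply, sU_apply]

/-- the topology of the closed complement of `U` -/
def Jz : GrothendieckTopology C where
  sieves c := {S | S ⊔ sU J U c ∈ J c}
  top_mem' c := by
    show ⊤ ⊔ sU J U c ∈ J c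
    rw [top_sup_eq]
    exact J.top_mem c
  pullback_stable' := by
    intro c c' S h hS
    show S.pullback h ⊔ sU J U c' ∈ J c'
    rw [← pullback_sup_sU]
    exact J.pullback_stable h hS
  transitive' := by
    intro c S hS R hR
    show R ⊔ sU J U c ∈ J c
    refine J.transitive hS (R ⊔ sU J U c) ?_
    intro d f hf
    rw [pullback_sup_sU]
    rcases (Sieve.union_apply f).1 hf with hf | hf
    · exact hR hf
    · have : R.pullback f ⊔ sU J U d = ⊤ := by
        apply top_unique
        intro e g _
        exact (Sieve.union_apply g).2 (Or.inr ((sU J U c).downward_closed hf g))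
      rw [this]
      exact J.top_mem d

lemma mem_Jz {c : C} (S : Sieve c) : S ∈ Jz J U c ↔ S ⊔ sU J U c ∈ J c := Iff.rfl

lemma le_Jz : J ≤ Jz J U := by
  intro c S hS
  exact J.superset_covering le_sup_left hS

/-- pointwise closedness -/
def PtClosed (P : Cᵒᵖ ⥤ Type u) : Prop :=
  ∀ c : C, Nonempty (U.obj.obj (op c)) → Nonempty (Unique (P.obj (op c)))

lemma PtClosed.subsingleton {P : Cᵒᵖ ⥤ Type u} (h : PtClosed J U P) (c : C)
    (hc : Nonempty (U.obj.obj (op c))) : Subsingleton (P.obj (op c)) := by
  obtain ⟨i⟩ := h c hc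
  infer_instance

lemma ptClosed_of_isSheaf_Jz {P : Cᵒᵖ ⥤ Type u} (hP : Presieve.IsSheaf (Jz J U) P) :
    PtClosed J U P := by
  intro c hc
  have hbot : (⊥ : Sieve c) ∈ Jz J U c := by
    rw [mem_Jz, bot_sup_eq]
    have : sU J U c = ⊤ := by
      apply top_unique
      intro e g _
      exact (sU_apply J U g).2 (by obtain ⟨x⟩ := hc; exact ⟨U.obj.map g.op x⟩)
    rw [this]
    exact J.top_mem c
  have h := hP ⊥ hbot
  let x : Presieve.FamilyOfElements P ((⊥ : Sieve c) : Presieve c) := fun d f hf => False.elim hf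
  have hx : x.Compatible := by
    intro d₁ d₂ e g₁ g₂ f₁ f₂ h₁ h₂ _
    exact False.elim h₁
  obtain ⟨t, -, ht⟩ := h x hx
  refine ⟨⟨⟨t⟩, fun t' => ht t' ?_⟩⟩
  intro d f hf
  exact False.elim hf

lemma isSheaf_Jz_of_ptClosed {P : Cᵒᵖ ⥤ Type u} (hP : Presieve.IsSheaf J P)
    (hpt : PtClosed J U P) : Presieve.IsSheaf (Jz J U) P := by
  classical
  intro c S hS x hx
  rw [mem_Jz] at hS
  have hsub : ∀ {d : C} (f : d ⟶ c), (S ⊔ sU J U c) f → ¬ S f → Subsingleton (P.obj (op d)) := by
    intro d f hf hnS
    rcases (Sieve.union_apply f).1 hf with h | h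
    · exact absurd h hnS
    · exact hpt.subsingleton J U d h
  have hne : ∀ {d : C} (f : d ⟶ c), (S ⊔ sU J U c) f → ¬ S f → Nonempty (P.obj (op d)) := by
    intro d f hf hnS
    rcases (Sieve.union_apply f).1 hf with h | h
    · exact absurd h hnS
    · obtain ⟨i⟩ := hpt d h
      exact ⟨i.default⟩
  let y : Presieve.FamilyOfElements P ((S ⊔ sU J U c : Sieve c) : Presieve c) :=
    fun d f hf => if h : S f then x f h else (hne f hf h).some
  have hy : y.Compatible := by
    rw [Presieve.compatible_iff_sieveCompatible]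
    intro d e f g hf
    by_cases h : S f
    · have h' : S (g ≫ f) := S.downward_closed h g
      simp only [y, dif_pos h, dif_pos h']
      exact (Presieve.compatible_iff_sieveCompatible x).1 hx f g h
    · have hd : Nonempty (U.obj.obj (op d)) := by
        rcases (Sieve.union_apply f).1 hf with h1 | h1
        · exact absurd h1 h
        · exact h1
      have he : Nonempty (U.obj.obj (op e)) := by
        obtain ⟨u⟩ := hd
        exact ⟨U.obj.map g.op u⟩
      haveI := hpt.subsingleton J U e he
      exact Subsingleton.elim _ _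
  obtain ⟨t, ht, htu⟩ := hP _ hS y hy
  refine ⟨t, ?_, ?_⟩
  · intro d f hf
    have := ht f ((Sieve.union_apply f).2 (Or.inl hf))
    simpa only [y, dif_pos hf] using this
  · intro t' ht'
    apply htu
    intro d f hf
    by_cases h : S f
    · simp only [y, dif_pos h]
      exact ht' f h
    · haveI := hsub f hf h
      exact Subsingleton.elim _ _

section closed

variable {J U}

/-- maps from an object over `U` to a pointwise closed sheaf exist -/
noncomputable def homOfPtClosed {X : Sheaf J (Type u)} (hX : PtClosed J U X.obj)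
    {T : Sheaf J (Type u)} (t : T ⟶ U) : T ⟶ X :=
  ObjectProperty.homMk
    { app := fun c => TypeCat.ofHom (fun x => (hX c.unop ⟨t.hom.app c x⟩).some.default)
      naturality := by
        intro c c' f
        ext x
        haveI := hX.subsingleton J U c'.unop ⟨t.hom.app c' (T.obj.map f x)⟩
        exact Subsingleton.elim _ _ }

lemma hom_ext_of_ptClosed {X : Sheaf J (Type u)} (hX : PtClosed J U X.obj)
    {T : Sheaf J (Type u)} (t : T ⟶ U) (a b : T ⟶ X) : a = b := by
  apply Sheaf.hom_ext
  ext c x
  haveI := hX.subsingleton J U c.unop ⟨t.hom.app c x⟩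
  exact Subsingleton.elim _ _

lemma closed_of_ptClosed {X : Sheaf J (Type u)} (hX : PtClosed J U X.obj) :
    SGA4.closedCompl U X :=
  closed_of_unique (homOfPtClosed hX (𝟙 U)) (fun a b => hom_ext_of_ptClosed hX prod.fst a b)

/-- sections over `c` as maps from the sheafified representable -/
noncomputable def secEquiv (X : Sheaf J (Type u)) (c : C) :
    ((presheafToSheaf J (Type u)).obj (yoneda.obj c) ⟶ X) ≃ X.obj.obj (op c) :=
  ((sheafificationAdjunction J (Type u)).homEquiv (yoneda.obj c) X).trans yonedaEquiv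

lemma ptClosed_of_closed {X : Sheaf J (Type u)} (hX : SGA4.closedCompl U X) :
    PtClosed J U X.obj := by
  intro c ⟨u⟩
  haveI hX' : IsIso (prod.fst : U ⨯ X ⟶ U) := hX
  let s : U ⟶ X := inv (prod.fst : U ⨯ X ⟶ U) ≫ prod.snd
  refine ⟨⟨⟨s.hom.app (op c) u⟩, fun x => ?_⟩⟩
  let t := (secEquiv U c).symm u
  have := hom_ext_of_closed hX t ((secEquiv X c).symm x)
    ((secEquiv X c).symm (s.hom.app (op c) u))
  exact (secEquiv X c).symm.injective this

lemma closed_iff_isSheaf_Jz (X : Sheaf J (Type u)) :
    SGA4.closedCompl U X ↔ Presheaf.IsSheaf (Jz J U) X.obj := by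
  rw [isSheaf_iff_isSheaf_of_type]
  constructor
  · intro h
    exact isSheaf_Jz_of_ptClosed J U ((isSheaf_iff_isSheaf_of_type _ _).1 X.property)
      (ptClosed_of_closed h)
  · intro h
    exact closed_of_ptClosed (ptClosed_of_isSheaf_Jz J U h)

end closed

end Groth.Agent.Helper29.ClosedE
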