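import Mathlib
import Groth.Prelude.Def_SGA4a
import Groth.Agent.Lib.Helper29.ClosedA
import Groth.Agent.Lib.Helper29.ClosedB
import Groth.Agent.Lib.Helper29.ClosedD
import Groth.Agent.Lib.Helper29.ClosedE

universe u

open CategoryTheory CategoryTheory.Limits Opposite

namespace Groth.Agent.Helper29.ClosedF

open Groth.Agent.Helper29.ClosedA Groth.Agent.Helper29.ClosedD Groth.Agent.Helper29.ClosedE

variable {C : Type u} [SmallCategory C] (J : GrothendieckTopology C) (U : Sheaf J (Type u))

lemma isSheaf_le : Presheaf.IsSheaf (Jz J U) (A := Type u) ≤ Presheaf.IsSheaf J (A := Type u) :=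
  fun _ h => Presheaf.IsSheaf.of_le (le_Jz J U) h

/-- inclusion of `Jz`-sheaves in `J`-sheaves -/
abbrev incl : Sheaf (Jz J U) (Type u) ⥤ Sheaf J (Type u) := ObjectProperty.ιOfLE (isSheaf_le J U)

lemma closed_incl (F : Sheaf (Jz J U) (Type u)) : SGA4.closedCompl U ((incl J U).obj F) :=
  (closed_iff_isSheaf_Jz _).2 F.property

/-- the reflector onto the closed complement -/
noncomputable def refl : Sheaf J (Type u) ⥤ (SGA4.closedCompl U).FullSubcategory :=
  ObjectProperty.lift (SGA4.closedCompl U)
    (sheafToPresheaf J (Type u) ⋙ presheafToSheaf (Jz J U) (Type u) ⋙ incl J U)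
    (fun X => closed_incl J U _)

/-- closed objects as `Jz`-sheaves -/
noncomputable def toJz : (SGA4.closedCompl U).FullSubcategory ⥤ Sheaf (Jz J U) (Type u) :=
  ObjectProperty.lift _ ((SGA4.closedCompl U).ι ⋙ sheafToPresheaf J (Type u))
    (fun Y => (closed_iff_isSheaf_Jz _).1 Y.property)

noncomputable def toJzFullyFaithful : (toJz J U).FullyFaithful where
  preimage f := ObjectProperty.homMk (ObjectProperty.homMk f.hom)

noncomputable def reflAdj : refl J U ⊣ (SGA4.closedCompl U).ι :=
  (sheafificationAdjunction (Jz J U) (Type u)).restrictFullyFaithful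
    (fullyFaithfulSheafToPresheaf J (Type u)) (toJzFullyFaithful J U)
    (NatIso.ofComponents (fun X => Iso.refl _)
      (by intro X Y f; exact (Category.comp_id _).trans (Category.id_comp _).symm))
    (NatIso.ofComponents (fun X => Iso.refl _)
      (by intro X Y f; exact (Category.comp_id _).trans (Category.id_comp _).symm))

instance : PreservesLimitsOfSize.{u, u} (incl J U) := by
  have : PreservesLimitsOfSize.{u, u} (incl J U ⋙ sheafToPresheaf J (Type u)) :=
    inferInstanceAs (PreservesLimitsOfSize.{u, u} (sheafToPresheaf (Jz J U) (Type u)))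
  exact preservesLimits_of_reflects_of_preserves (incl J U) (sheafToPresheaf J (Type u))

instance : PreservesFiniteLimits (refl J U) := by
  have : PreservesFiniteLimits (refl J U ⋙ (SGA4.closedCompl U).ι) :=
    inferInstanceAs (PreservesFiniteLimits
      (sheafToPresheaf J (Type u) ⋙ presheafToSheaf (Jz J U) (Type u) ⋙ incl J U))
  exact ⟨fun K _ _ => preservesLimitsOfShape_of_reflects_of_preserves (refl J U)
    (SGA4.closedCompl U).ι⟩

theorem main3083 (hU : SGA4.IsOpen U) :
    ∃ (L : Sheaf J (Type u) ⥤ (SGA4.closedCompl U).FullSubcategory) (_ : L ⊣ (SGA4.closedCompl U).ι),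
      PreservesFiniteLimits L ∧
      ∀ X : Sheaf J (Type u), Nonempty (((SGA4.closedCompl U).ι).obj (L.obj X) ≅
        pushout (prod.fst : U ⨯ X ⟶ U) (prod.snd : U ⨯ X ⟶ X)) :=
  ⟨refl J U, reflAdj J U, inferInstance, fun X => ⟨reflIso hU (refl J U) (reflAdj J U) X⟩⟩

end Groth.Agent.Helper29.ClosedF
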