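import Mathlib
import Groth.Prelude.Def_SGA4a
import Groth.Agent.Lib.Helper29.ClosedA
import Groth.Agent.Lib.Helper29.ClosedC
import Groth.Agent.Lib.Helper29.ClosedD

universe v u

open CategoryTheory CategoryTheory.Limits

namespace Groth.Agent.Helper29.ClosedG

open Groth.Agent.Helper29.ClosedA Groth.Agent.Helper29.ClosedC Groth.Agent.Helper29.ClosedD

variable {E : Type v} [Category.{u} E] [HasTerminal E] [HasBinaryProducts E]

lemma isIso_lift_id {U : E} (hU : Mono (terminal.from U)) {A : E} (a : A ⟶ U) :
    IsIso (prod.lift a (𝟙 A)) := by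
  refine ⟨prod.snd, prod.lift_snd _ _, ?_⟩
  apply Limits.prod.hom_ext
  · rw [Category.assoc, prod.lift_fst, Category.id_comp]
    exact sub_ext hU _ _
  · rw [Category.assoc, prod.lift_snd, Category.id_comp, Category.comp_id]

lemma isIso_forgetAdjStar_unit {U : E} (hU : Mono (terminal.from U)) :
    IsIso (Over.forgetAdjStar U).unit := by
  haveI : ∀ A, IsIso ((Over.forgetAdjStar U).unit.app A) := by
    intro A
    have hl : ((Over.forgetAdjStar U).unit.app A).left = prod.lift A.hom (𝟙 _) :=
      Over.forgetAdjStar_unit_app_left U A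
    have h2 : IsIso ((Over.forgetAdjStar U).unit.app A).left := by
      rw [hl]
      exact isIso_lift_id hU A.hom
    have : IsIso ((Over.forget U).map ((Over.forgetAdjStar U).unit.app A)) := h2
    exact isIso_of_reflects_iso _ (Over.forget U)
  exact NatIso.isIso_of_isIso_app _

lemma isIso_counit_of_star_adj {U : E} (hU : Mono (terminal.from U))
    {jR : Over U ⥤ E} (adjJ : Over.star U ⊣ jR) : IsIso adjJ.counit :=
  (Adjunction.Triple.isIso_unit_iff_isIso_counit ⟨Over.forgetAdjStar U, adjJ⟩).1
    (isIso_forgetAdjStar_unit hU)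

lemma isIso_star_map_of_closed {U : E} {Y Z : E} (hY : SGA4.closedCompl U Y)
    (hZ : SGA4.closedCompl U Z) (f : Y ⟶ Z) : IsIso ((Over.star U).map f) := by
  haveI hY' : IsIso (prod.fst : U ⨯ Y ⟶ U) := hY
  haveI hZ' : IsIso (prod.fst : U ⨯ Z ⟶ U) := hZ
  have h1 : prod.map (𝟙 U) f ≫ (prod.fst : U ⨯ Z ⟶ U) = prod.fst := by
    simp only [prod.map_fst, Category.comp_id]
  have h2 : IsIso (prod.map (𝟙 U) f ≫ (prod.fst : U ⨯ Z ⟶ U)) := by rw [h1]; infer_instance
  have h3 : IsIso (prod.map (𝟙 U) f) := IsIso.of_isIso_comp_right _ (prod.fst : U ⨯ Z ⟶ U)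
  have h4 : ((Over.star U).map f).left = prod.map (𝟙 U) f := Over.star_map_left U f
  have h5 : IsIso ((Over.forget U).map ((Over.star U).map f)) := by
    rw [Over.forget_map, h4]; exact h3
  exact isIso_of_reflects_iso _ (Over.forget U)

variable [HasPullbacks E] [HasPushouts E] [Adhesive E]

section
variable {U : E} (hU : Mono (terminal.from U))
  (L : E ⥤ (SGA4.closedCompl U).FullSubcategory) (adj : L ⊣ (SGA4.closedCompl U).ι)

include hU in
/-- the naturality square of the unit at a map which is an isomorphism over `U` is cartesian -/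
lemma isPullback_unit {X X' : E} (m : X ⟶ X') (h1 : IsIso ((Over.star U).map m)) :
    IsPullback m (adj.unit.app X) (adj.unit.app X') (L.map m).hom := by
  have h1' : IsIso (prod.map (𝟙 U) m) := by
    have h3 : IsIso ((Over.forget U).map ((Over.star U).map m)) := inferInstance
    have h4 : ((Over.star U).map m).left = prod.map (𝟙 U) m := Over.star_map_left U m
    have h5 : IsIso ((Over.star U).map m).left := h3
    rw [h4] at h5
    exact h5
  let k : cu U X ⟶ cu U X' :=
    (reflIso hU L adj X).inv ≫ (L.map m).hom ≫ (reflIso hU L adj X').hom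
  have hk₂ : cuInr U X ≫ k = m ≫ cuInr U X' := by
    show cuInr U X ≫ (reflIso hU L adj X).inv ≫ (L.map m).hom ≫ (reflIso hU L adj X').hom = _
    rw [← Category.assoc, cuInr_reflIso_inv]
    have nat := adj.unit.naturality m
    simp only [Functor.id_obj, Functor.id_map, Functor.comp_obj, Functor.comp_map,
      ObjectProperty.ι_map] at nat
    rw [← Category.assoc, ← nat, Category.assoc, unit_reflIso_hom]
  have hk₁ : cuInl U X ≫ k = cuInl U X' := hom_ext_of_closed (closed_cu hU X') (𝟙 U) _ _
  have hpb := (main12107 hU m k hk₁ hk₂).2 h1'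
  have sq : IsPullback k (reflIso hU L adj X).inv (reflIso hU L adj X').inv (L.map m).hom :=
    IsPullback.of_vert_isIso ⟨by
      show ((reflIso hU L adj X).inv ≫ (L.map m).hom ≫ (reflIso hU L adj X').hom) ≫ _ = _
      simp only [Category.assoc, Iso.hom_inv_id, Category.comp_id]⟩
  have := hpb.paste_vert sq
  rw [cuInr_reflIso_inv, cuInr_reflIso_inv] at this
  exact this

end

section glue

variable {U : E} (hU : Mono (terminal.from U))
  (L : E ⥤ (SGA4.closedCompl U).FullSubcategory) (adj : L ⊣ (SGA4.closedCompl U).ι)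
  (jR : Over U ⥤ E) (adjJ : Over.star U ⊣ jR)

/-- the comparison functor to the glued category -/
@[simps]
noncomputable def glueFunctor : E ⥤ Comma (𝟭 (SGA4.closedCompl U).FullSubcategory) (jR ⋙ L) where
  obj X := { left := L.obj X, right := (Over.star U).obj X, hom := L.map (adjJ.unit.app X) }
  map {X X'} f :=
    { left := L.map f
      right := (Over.star U).map f
      w := by
        dsimp
        rw [← L.map_comp, ← L.map_comp]
        congr 1
        exact adjJ.unit.naturality f }
  map_id X := by
    apply Comma.hom_ext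
    · exact L.map_id X
    · exact (Over.star U).map_id X
  map_comp f g := by
    apply Comma.hom_ext
    · exact L.map_comp f g
    · exact (Over.star U).map_comp f g

include hU in
lemma isIso_star_map_unitJ (X : E) : IsIso ((Over.star U).map (adjJ.unit.app X)) := by
  haveI := isIso_counit_of_star_adj hU adjJ
  have := adjJ.left_triangle_components X
  haveI : IsIso ((Over.star U).map (adjJ.unit.app X) ≫ adjJ.counit.app ((Over.star U).obj X)) := by
    rw [this]; exact IsIso.id _
  exact IsIso.of_isIso_comp_right _ (adjJ.counit.app ((Over.star U).obj X))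

include hU in
lemma fracture (X : E) :
    IsPullback (adjJ.unit.app X) (adj.unit.app X) (adj.unit.app (jR.obj ((Over.star U).obj X)))
      (L.map (adjJ.unit.app X)).hom :=
  isPullback_unit hU L adj (adjJ.unit.app X) (isIso_star_map_unitJ hU jR adjJ X)

include hU adj in
lemma glue_faithful : (glueFunctor L jR adjJ).Faithful := by
  refine ⟨fun {X X'} f g h => ?_⟩
  have hl : L.map f = L.map g := congrArg (fun φ => φ.left) h
  have hr : (Over.star U).map f = (Over.star U).map g := congrArg (fun φ => φ.right) h
  apply (fracture hU L adj jR adjJ X').hom_ext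
  · have n1 := adjJ.unit.naturality f
    have n2 := adjJ.unit.naturality g
    simp only [Functor.id_obj, Functor.id_map, Functor.comp_obj, Functor.comp_map] at n1 n2
    rw [n1, n2, hr]
  · have n1 := adj.unit.naturality f
    have n2 := adj.unit.naturality g
    simp only [Functor.id_obj, Functor.id_map, Functor.comp_obj, Functor.comp_map] at n1 n2
    rw [n1, n2, hl]

include hU adj in
lemma glue_full_aux {X X' : E} (a : L.obj X ⟶ L.obj X')
    (b : (Over.star U).obj X ⟶ (Over.star U).obj X')
    (w : a ≫ L.map (adjJ.unit.app X') = L.map (adjJ.unit.app X) ≫ L.map (jR.map b)) :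
    ∃ f : X ⟶ X', L.map f = a ∧ (Over.star U).map f = b := by
  have n1 : jR.map b ≫ adj.unit.app (jR.obj ((Over.star U).obj X')) =
      adj.unit.app (jR.obj ((Over.star U).obj X)) ≫ (L.map (jR.map b)).hom :=
    adj.unit.naturality (jR.map b)
  have n2 : adjJ.unit.app X ≫ adj.unit.app (jR.obj ((Over.star U).obj X)) =
      adj.unit.app X ≫ (L.map (adjJ.unit.app X)).hom :=
    adj.unit.naturality (adjJ.unit.app X)
  have w' : a.hom ≫ (L.map (adjJ.unit.app X')).hom =
      (L.map (adjJ.unit.app X)).hom ≫ (L.map (jR.map b)).hom :=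
    congrArg (fun φ => φ.hom) w
  have compat : (adjJ.unit.app X ≫ jR.map b) ≫
        adj.unit.app (jR.obj ((Over.star U).obj X')) =
      (adj.unit.app X ≫ a.hom) ≫ (L.map (adjJ.unit.app X')).hom := by
    rw [Category.assoc, n1, ← Category.assoc, n2, Category.assoc, Category.assoc, w']
  let f : X ⟶ X' := (fracture hU L adj jR adjJ X').lift _ _ compat
  have hf1 : f ≫ adjJ.unit.app X' = adjJ.unit.app X ≫ jR.map b :=
    (fracture hU L adj jR adjJ X').lift_fst _ _ compat
  have hf2 : f ≫ adj.unit.app X' = adj.unit.app X ≫ a.hom :=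
    (fracture hU L adj jR adjJ X').lift_snd _ _ compat
  refine ⟨f, ?_, ?_⟩
  · apply (adj.homEquiv _ _).injective
    rw [adj.homEquiv_unit, adj.homEquiv_unit]
    have n3 : f ≫ adj.unit.app X' = adj.unit.app X ≫ (L.map f).hom := adj.unit.naturality f
    exact n3.symm.trans hf2
  · apply (adjJ.homEquiv _ _).injective
    rw [adjJ.homEquiv_unit, adjJ.homEquiv_unit]
    have n3 : f ≫ adjJ.unit.app X' = adjJ.unit.app X ≫ jR.map ((Over.star U).map f) :=
      adjJ.unit.naturality f
    exact n3.symm.trans hf1

include hU adj in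
lemma glue_full : (glueFunctor L jR adjJ).Full := by
  refine ⟨fun {X X'} ψ => ?_⟩
  obtain ⟨f, h1, h2⟩ := glue_full_aux hU L adj jR adjJ ψ.left ψ.right ψ.w
  exact ⟨f, Comma.hom_ext _ _ h1 h2⟩

end glue

end Groth.Agent.Helper29.ClosedG
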