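import Mathlib
import Groth.Prelude.Def_SGA4a
import Groth.Agent.Lib.Helper29.ClosedA
import Groth.Agent.Lib.Helper29.ClosedD
import Groth.Agent.Lib.Helper29.ClosedG

universe v u

open CategoryTheory CategoryTheory.Limits

namespace Groth.Agent.Helper29.ClosedH

open Groth.Agent.Helper29.ClosedA Groth.Agent.Helper29.ClosedD Groth.Agent.Helper29.ClosedG

variable {E : Type v} [Category.{u} E] [HasTerminal E] [HasBinaryProducts E]
  [HasPullbacks E] [HasPushouts E] [Adhesive E]

variable {U : E} (hU : Mono (terminal.from U))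
  (L : E ⥤ (SGA4.closedCompl U).FullSubcategory) (adj : L ⊣ (SGA4.closedCompl U).ι)
  (jR : Over U ⥤ E) (adjJ : Over.star U ⊣ jR)

include adj in
lemma isIso_L_map_unit (Z : E) : IsIso (L.map (adj.unit.app Z)) := by
  have := adj.left_triangle_components Z
  haveI : IsIso (L.map (adj.unit.app Z) ≫ adj.counit.app (L.obj Z)) := by
    rw [this]; exact IsIso.id _
  exact IsIso.of_isIso_comp_right _ (adj.counit.app (L.obj Z))

include hU adj in
lemma glue_essSurj [PreservesLimitsOfShape WalkingCospan L] :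
    (glueFunctor L jR adjJ).EssSurj := by
  refine ⟨fun T => ?_⟩
  obtain ⟨Y, A, φ⟩ := T
  change Y ⟶ L.obj (jR.obj A) at φ
  let X : E := pullback φ.hom (adj.unit.app (jR.obj A))
  let p₁ : X ⟶ Y.obj := pullback.fst _ _
  let p₂ : X ⟶ jR.obj A := pullback.snd _ _
  have sq : IsPullback p₁ p₂ φ.hom (adj.unit.app (jR.obj A)) := IsPullback.of_hasPullback _ _
  -- the closed part
  let α : L.obj X ⟶ Y := (adj.homEquiv X Y).symm p₁
  have hα : α = L.map p₁ ≫ adj.counit.app Y := adj.homEquiv_counit _ _ _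
  have sqL : IsPullback (L.map p₁) (L.map p₂) (L.map φ.hom) (L.map (adj.unit.app (jR.obj A))) :=
    sq.map L
  haveI := isIso_L_map_unit L adj (jR.obj A)
  haveI : IsIso (L.map p₁) := sqL.isIso_fst_of_isIso
  haveI : IsIso α := by rw [hα]; infer_instance
  -- the open part
  let β : (Over.star U).obj X ⟶ A := (adjJ.homEquiv X A).symm p₂
  have hβ : β = (Over.star U).map p₂ ≫ adjJ.counit.app A := adjJ.homEquiv_counit _ _ _
  haveI : PreservesLimitsOfShape WalkingCospan (Over.star U) :=
    (Over.forgetAdjStar U).rightAdjoint_preservesLimits.preservesLimitsOfShape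
  have sqS : IsPullback ((Over.star U).map p₁) ((Over.star U).map p₂) ((Over.star U).map φ.hom)
      ((Over.star U).map (adj.unit.app (jR.obj A))) := sq.map (Over.star U)
  haveI : IsIso ((Over.star U).map φ.hom) :=
    isIso_star_map_of_closed Y.property (L.obj (jR.obj A)).property φ.hom
  haveI : IsIso ((Over.star U).map p₂) := sqS.isIso_snd_of_isIso
  haveI := isIso_counit_of_star_adj hU adjJ
  haveI : IsIso β := by rw [hβ]; infer_instance
  let eα : L.obj X ≅ Y := asIso α
  let eβ : (Over.star U).obj X ≅ A := asIso β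
  refine ⟨X, ⟨Comma.isoMk eα eβ ?_⟩⟩
  show α ≫ φ = L.map (adjJ.unit.app X) ≫ L.map (jR.map β)
  have e1 : α ≫ φ = L.map p₂ := by
    have h1 : α ≫ φ = (adj.homEquiv X _).symm (p₁ ≫ φ.hom) :=
      (adj.homEquiv_naturality_right_symm p₁ φ).symm
    rw [h1, sq.w]
    apply (adj.homEquiv _ _).injective
    rw [Equiv.apply_symm_apply, adj.homEquiv_unit]
    exact adj.unit.naturality p₂
  have e2 : L.map (adjJ.unit.app X) ≫ L.map (jR.map β) = L.map p₂ := by
    rw [← L.map_comp]
    congr 1
    have h2 := adjJ.homEquiv_unit (X := X) (Y := A) (f := β)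
    rw [← h2]
    exact Equiv.apply_symm_apply _ _
  rw [e1, e2]

include hU adj adjJ in
theorem glue_equivalence [PreservesLimitsOfShape WalkingCospan L] :
    Nonempty (E ≌ Comma (𝟭 (SGA4.closedCompl U).FullSubcategory) (jR ⋙ L)) := by
  haveI := glue_faithful hU L adj jR adjJ
  haveI := glue_full hU L adj jR adjJ
  haveI := glue_essSurj hU L adj jR adjJ
  haveI : (glueFunctor L jR adjJ).IsEquivalence := {}
  exact ⟨(glueFunctor L jR adjJ).asEquivalence⟩

end Groth.Agent.Helper29.ClosedH
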