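import Mathlib
import Groth.Prelude.Def_SGA4a
import Groth.Agent.Lib.Helper29.ClosedB
import Groth.Agent.Lib.Helper29.ClosedF
import Groth.Agent.Lib.Helper29.ClosedH

universe u

open CategoryTheory CategoryTheory.Limits

namespace Groth.Agent.Helper29.ClosedI

open Groth.Agent.Helper29.ClosedF Groth.Agent.Helper29.ClosedH

theorem main3085 {C : Type u} [SmallCategory C] (J : GrothendieckTopology C)
    (U : Sheaf J (Type u)) (hU : SGA4.IsOpen U) [(Over.star U).IsLeftAdjoint]
    (L : Sheaf J (Type u) ⥤ (SGA4.closedCompl U).FullSubcategory) (adj : L ⊣ (SGA4.closedCompl U).ι) :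
    Nonempty (Sheaf J (Type u) ≌
      Comma (𝟭 (SGA4.closedCompl U).FullSubcategory) ((Over.star U).rightAdjoint ⋙ L)) := by
  haveI : PreservesLimitsOfShape WalkingCospan L :=
    preservesLimitsOfShape_of_natIso ((reflAdj J U).leftAdjointUniq adj)
  exact glue_equivalence hU L adj _ (Adjunction.ofIsLeftAdjoint (Over.star U))

end Groth.Agent.Helper29.ClosedI
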