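import Mathlib

/-!
# Comparison of Ext groups along an exact functor: dimension shifting

`U : 𝒜 ⥤ ℬ` exact, `φ : B₀ ⟶ U A₀`.  `cmp n F : Ext^n(A₀, F) → Ext^n(B₀, U F)`.
If `cmp 0` is bijective for all `F` and `Ext^{n+1}(B₀, U I) = 0` for injective `I`, all `cmp n F` are bijective.
-/

universe w w' v v' u u'

open CategoryTheory CategoryTheory.Limits

namespace Groth.Agent.Helper29.CmpA

open Abelian

variable {𝒜 : Type u} [Category.{v} 𝒜] [Abelian 𝒜] {ℬ : Type u'} [Category.{v'} ℬ] [Abelian ℬ]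
  [HasExt.{w} 𝒜] [HasExt.{w'} ℬ]
  (U : 𝒜 ⥤ ℬ) [U.Additive] [PreservesFiniteLimits U] [PreservesFiniteColimits U]
  {A₀ : 𝒜} {B₀ : ℬ} (φ : B₀ ⟶ U.obj A₀)

/-- the comparison map -/
noncomputable def cmp (F : 𝒜) (n : ℕ) : Ext.{w} A₀ F n →+ Ext.{w'} B₀ (U.obj F) n :=
  AddMonoidHom.comp
    (AddMonoidHom.mk' (fun e => (Ext.mk₀ φ).comp e (zero_add n))
      (fun _ _ => Ext.comp_add _ _ _ _))
    (U.mapExtAddHom _ _ n)

lemma cmp_apply (F : 𝒜) (n : ℕ) (e : Ext.{w} A₀ F n) :
    cmp U φ F n e = (Ext.mk₀ φ).comp (e.mapExactFunctor U) (zero_add n) := rfl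

lemma cmp_comp {F G : 𝒜} {a b c : ℕ} (e : Ext.{w} A₀ F a) (β : Ext.{w} F G b) (h : a + b = c) :
    cmp U φ G c (e.comp β h) = (cmp U φ F a e).comp (β.mapExactFunctor U) h := by
  rw [cmp_apply, cmp_apply, Ext.mapExactFunctor_comp, Ext.comp_assoc _ _ _ (zero_add a) h (by omega)]

theorem cmp_bijective [EnoughInjectives 𝒜]
    (h0 : ∀ F : 𝒜, Function.Bijective (cmp U φ F 0))
    (hvan : ∀ (I : 𝒜) [Injective I] (n : ℕ) (x : Ext.{w'} B₀ (U.obj I) (n + 1)), x = 0) :
    ∀ (n : ℕ) (F : 𝒜), Function.Bijective (cmp U φ F n) := by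
  intro n
  induction n with
  | zero => exact h0
  | succ n ih =>
    intro F
    let S : ShortComplex 𝒜 := ShortComplex.mk (Injective.ι F) (cokernel.π (Injective.ι F))
      (cokernel.condition _)
    have hS : S.ShortExact :=
      { exact := ShortComplex.exact_of_g_is_cokernel _ (cokernelIsCokernel _)
        mono_f := inferInstanceAs (Mono (Injective.ι F))
        epi_g := inferInstanceAs (Epi (cokernel.π (Injective.ι F))) }
    have hUS : (S.map U).ShortExact := hS.map_of_exact U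
    have hδ : hS.extClass.mapExactFunctor U = hUS.extClass := Ext.mapExactFunctor_extClass U hS
    haveI : Injective S.X₂ := inferInstanceAs (Injective (Injective.under F))
    -- compatibility with connecting maps
    have hcδ : ∀ x' : Ext.{w} A₀ S.X₃ n, cmp U φ S.X₁ (n + 1) (x'.comp hS.extClass rfl) =
        (cmp U φ S.X₃ n x').comp hUS.extClass rfl := by
      intro x'
      have := cmp_comp U φ x' hS.extClass (rfl : n + 1 = n + 1)
      rw [this]
      exact congrArg (fun t => (cmp U φ S.X₃ n x').comp t rfl) hδ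
    have hcg : ∀ w' : Ext.{w} A₀ S.X₂ n, cmp U φ S.X₃ n (w'.comp (Ext.mk₀ S.g) (add_zero n)) =
        (cmp U φ S.X₂ n w').comp (Ext.mk₀ (S.map U).g) (add_zero n) := by
      intro w'
      have := cmp_comp U φ w' (Ext.mk₀ S.g) (add_zero n)
      rw [this, Ext.mapExactFunctor_mk₀]
      rfl
    refine ⟨?_, ?_⟩
    · -- injectivity
      rw [injective_iff_map_eq_zero]
      intro x hx0
      have hxI : x.comp (Ext.mk₀ S.f) (add_zero (n + 1)) = 0 :=
        Ext.eq_zero_of_injective _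
      obtain ⟨x', hx'⟩ := Ext.covariant_sequence_exact₁ A₀ hS x hxI rfl
      have h1 : (cmp U φ S.X₃ n x').comp hUS.extClass rfl = 0 := by
        rw [← hcδ, hx']
        exact hx0
      obtain ⟨w, hw⟩ := Ext.covariant_sequence_exact₃ B₀ hUS (cmp U φ S.X₃ n x') rfl h1
      obtain ⟨w', hw'⟩ := (ih S.X₂).2 w
      have h2 : cmp U φ S.X₃ n (w'.comp (Ext.mk₀ S.g) (add_zero n)) = cmp U φ S.X₃ n x' := by
        rw [hcg, hw']
        exact hw
      have h3 := (ih S.X₃).1 h2
      rw [← hx', ← h3, Ext.comp_assoc _ _ _ (add_zero n) (zero_add 1) (by omega)]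
      rw [hS.comp_extClass, Ext.comp_zero]
    · -- surjectivity
      intro y
      have hyI : y.comp (Ext.mk₀ (S.map U).f) (add_zero (n + 1)) = 0 := hvan S.X₂ n _
      obtain ⟨z, hz⟩ := Ext.covariant_sequence_exact₁ B₀ hUS y hyI rfl
      obtain ⟨z', hz'⟩ := (ih S.X₃).2 z
      refine ⟨z'.comp hS.extClass rfl, ?_⟩
      have := hcδ z'
      rw [hz'] at this
      exact this.trans hz

end Groth.Agent.Helper29.CmpA
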