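import Mathlib

/-!
# Extension of scalars `ℤ → Λ` on abelian groups, adjoint to `forget₂ (ModuleCat Λ) AddCommGrpCat`
-/

universe w

open CategoryTheory CategoryTheory.Limits TensorProduct

namespace Groth.Agent.Helper29.TFAlg

variable (Λ : Type w) [CommRing Λ]

/-- extension of scalars `A ↦ Λ ⊗_ℤ A` -/
noncomputable def E : AddCommGrpCat.{w} ⥤ ModuleCat.{w} Λ where
  obj A := ModuleCat.of Λ (Λ ⊗[ℤ] A)
  map g := ModuleCat.ofHom (LinearMap.baseChange Λ g.hom.toIntLinearMap)
  map_id A := by
    have : (AddCommGrpCat.Hom.hom (𝟙 A)).toIntLinearMap = LinearMap.id := rfl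
    rw [this, LinearMap.baseChange_id]
    rfl
  map_comp f g := by
    have : (AddCommGrpCat.Hom.hom (f ≫ g)).toIntLinearMap =
      (AddCommGrpCat.Hom.hom g).toIntLinearMap ∘ₗ (AddCommGrpCat.Hom.hom f).toIntLinearMap := rfl
    rw [this, LinearMap.baseChange_comp]
    rfl

lemma E_map_apply {A B : AddCommGrpCat.{w}} (g : A ⟶ B) (x : Λ ⊗[ℤ] A) :
    ((E Λ).map g).hom x = (g.hom.toIntLinearMap.lTensor Λ) x := by
  change (LinearMap.baseChange Λ g.hom.toIntLinearMap) x = _
  rw [LinearMap.baseChange_eq_ltensor]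

abbrev G : ModuleCat.{w} Λ ⥤ AddCommGrpCat.{w} := forget₂ (ModuleCat.{w} Λ) AddCommGrpCat.{w}

/-- the hom-set bijection -/
noncomputable def homEquiv (A : AddCommGrpCat.{w}) (M : ModuleCat.{w} Λ) :
    ((E Λ).obj A ⟶ M) ≃ (A ⟶ (G Λ).obj M) where
  toFun φ := AddCommGrpCat.ofHom
    (φ.hom.toAddMonoidHom.comp (TensorProduct.mk ℤ Λ A 1).toAddMonoidHom)
  invFun ψ := ModuleCat.ofHom
    (LinearMap.liftBaseChange Λ ((show A →+ M from ψ.hom).toIntLinearMap : A →ₗ[ℤ] M))
  left_inv φ := by
    apply ModuleCat.hom_ext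
    apply LinearMap.ext
    intro x
    induction x using TensorProduct.induction_on with
    | zero => rw [map_zero, map_zero]
    | tmul a b =>
      simp only [ModuleCat.hom_ofHom, LinearMap.liftBaseChange_tmul]
      change a • φ.hom ((1 : Λ) ⊗ₜ[ℤ] b) = _
      rw [← map_smul]
      have : a • ((1 : Λ) ⊗ₜ[ℤ] b : Λ ⊗[ℤ] A) = a ⊗ₜ[ℤ] b := by
        rw [TensorProduct.smul_tmul', smul_eq_mul, mul_one]
      exact congrArg φ.hom this
    | add a b ha hb => rw [map_add, map_add, ha, hb]
  right_inv ψ := by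
    ext x
    change (LinearMap.liftBaseChange Λ ((show A →+ M from ψ.hom).toIntLinearMap : A →ₗ[ℤ] M))
      ((1 : Λ) ⊗ₜ[ℤ] x) = _
    rw [LinearMap.liftBaseChange_tmul, one_smul]
    rfl

/-- `E ⊣ forget₂` -/
noncomputable def adj : E Λ ⊣ G Λ :=
  Adjunction.mkOfHomEquiv
    { homEquiv := homEquiv Λ
      homEquiv_naturality_left_symm := by
        intro A A' M f g
        apply ModuleCat.hom_ext
        apply LinearMap.ext
        intro x
        induction x using TensorProduct.induction_on with
        | zero => exact (map_zero _).trans (map_zero _).symm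
        | tmul a b => rfl
        | add a b ha hb =>
          exact (map_add _ _ _).trans ((congrArg₂ (· + ·) ha hb).trans (map_add _ _ _).symm)
      homEquiv_naturality_right := by
        intro A M M' f g
        rfl }

end Groth.Agent.Helper29.TFAlg

namespace Groth.Agent.Helper29.TFAlg

variable (Λ : Type w) [CommRing Λ]

/-- `E` preserves an injection whose cokernel embeds in a torsion-free group -/
lemma E_map_injective {A B Q : AddCommGrpCat.{w}} (i : A ⟶ B) (p : B ⟶ Q)
    (hi : Function.Injective i.hom) (hip : ∀ a, p.hom (i.hom a) = 0)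
    (hex : ∀ b, p.hom b = 0 → ∃ a, i.hom a = b) [IsAddTorsionFree Q] :
    Function.Injective ((E Λ).map i).hom := by
  let p' : B →ₗ[ℤ] Q := p.hom.toIntLinearMap
  let i' : A →ₗ[ℤ] B := i.hom.toIntLinearMap
  let P := LinearMap.range p'
  haveI : Module.IsTorsionFree ℤ P :=
    Function.Injective.moduleIsTorsionFree (N := Q) (fun x : P => (x : Q)) Subtype.val_injective
      (fun _ _ => rfl)
  haveI : Module.Flat ℤ P := inferInstance
  have hf : Function.Surjective p'.rangeRestrict := LinearMap.surjective_rangeRestrict p'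
  have hg : Function.Injective i' := hi
  have H : Function.Exact i' p'.rangeRestrict := by
    intro b
    constructor
    · intro hb
      have : p.hom b = 0 := congrArg Subtype.val hb
      obtain ⟨a, ha⟩ := hex b this
      exact ⟨a, ha⟩
    · rintro ⟨a, rfl⟩
      apply Subtype.ext
      exact hip a
  have key := LinearMap.lTensor_injective_of_exact_of_flat p'.rangeRestrict hf i' hg H Λ
  intro x y hxy
  apply key
  rw [← E_map_apply, ← E_map_apply]
  exact hxy

end Groth.Agent.Helper29.TFAlg
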