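import Mathlib

/-!
# Torsion-free abelian sheaves
-/

universe w v u

open CategoryTheory CategoryTheory.Limits Opposite

namespace Groth.Agent.Helper29.TFSh

variable {C : Type u} [Category.{v} C] (J : GrothendieckTopology C)
  [HasSheafify J AddCommGrpCat.{w}]

/-- sectionwise torsion-free abelian sheaves -/
def TFS : ObjectProperty (Sheaf J AddCommGrpCat.{w}) :=
  fun Q => ∀ V : Cᵒᵖ, IsAddTorsionFree (Q.obj.obj V)

variable {J}

lemma sheaf_mono_app_injective {F G : Sheaf J AddCommGrpCat.{w}} (f : F ⟶ G) [Mono f] (V : Cᵒᵖ) :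
    Function.Injective (f.hom.app V).hom := by
  haveI : Mono ((sheafToPresheaf J AddCommGrpCat.{w}).map f) := inferInstance
  haveI : Mono f.hom := this
  haveI : Mono (f.hom.app V) := inferInstance
  exact (AddCommGrpCat.mono_iff_injective _).1 this

lemma tfs_of_mono {F G : Sheaf J AddCommGrpCat.{w}} (f : F ⟶ G) [Mono f] (hG : TFS J G) :
    TFS J F := by
  intro V
  haveI := hG V
  refine ⟨fun n hn x y hxy => ?_⟩
  apply sheaf_mono_app_injective f V
  apply IsAddTorsionFree.nsmul_right_injective hn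
  simp only at hxy ⊢
  rw [← map_nsmul, ← map_nsmul, hxy]

/-- sheafification of a sectionwise torsion-free presheaf is torsion-free -/
lemma tfs_sheafify (P₀ : Cᵒᵖ ⥤ AddCommGrpCat.{w}) (h : ∀ V, IsAddTorsionFree (P₀.obj V)) :
    TFS J ((presheafToSheaf J AddCommGrpCat.{w}).obj P₀) := by
  intro V
  refine ⟨fun n hn => ?_⟩
  have hm : Mono (n • 𝟙 P₀) := by
    haveI : ∀ W, Mono ((n • 𝟙 P₀).app W) := by
      intro W
      rw [AddCommGrpCat.mono_iff_injective]
      intro x y hxy
      haveI := h W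
      apply IsAddTorsionFree.nsmul_right_injective hn
      rw [NatTrans.app_nsmul] at hxy
      exact hxy
    exact NatTrans.mono_of_mono_app _
  haveI : Mono ((presheafToSheaf J AddCommGrpCat.{w}).map (n • 𝟙 P₀)) := inferInstance
  have e : (presheafToSheaf J AddCommGrpCat.{w}).map (n • 𝟙 P₀) =
      n • 𝟙 ((presheafToSheaf J AddCommGrpCat.{w}).obj P₀) := by
    rw [Functor.map_nsmul, CategoryTheory.Functor.map_id]
  rw [e] at this
  have hinj := sheaf_mono_app_injective (n • 𝟙 ((presheafToSheaf J AddCommGrpCat.{w}).obj P₀)) V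
  intro x y hxy
  apply hinj
  have e2 : ((n • 𝟙 ((presheafToSheaf J AddCommGrpCat.{w}).obj P₀) :
      (presheafToSheaf J AddCommGrpCat.{w}).obj P₀ ⟶ _).hom.app V) =
      n • 𝟙 (((presheafToSheaf J AddCommGrpCat.{w}).obj P₀).obj.obj V) := by
    have : (n • 𝟙 ((presheafToSheaf J AddCommGrpCat.{w}).obj P₀) :
      (presheafToSheaf J AddCommGrpCat.{w}).obj P₀ ⟶ _).hom =
        n • 𝟙 ((presheafToSheaf J AddCommGrpCat.{w}).obj P₀).obj := by
      have := (sheafToPresheaf J AddCommGrpCat.{w}).map_nsmul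
        (f := 𝟙 ((presheafToSheaf J AddCommGrpCat.{w}).obj P₀)) (n := n)
      simpa using this
    rw [this, NatTrans.app_nsmul]
    rfl
  rw [e2]
  exact hxy

end Groth.Agent.Helper29.TFSh

namespace Groth.Agent.Helper29.TFSh

variable {C : Type u} [Category.{v} C] {J : GrothendieckTopology C}
  [HasSheafify J AddCommGrpCat.{w}]

instance freeAb_torsionFree (X : Type w) : IsAddTorsionFree (FreeAbelianGroup X) := by
  refine ⟨fun n hn x y hxy => ?_⟩
  apply (FreeAbelianGroup.equivFinsupp X).injective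
  apply IsAddTorsionFree.nsmul_right_injective (M := X →₀ ℤ) hn
  simp only at hxy ⊢
  rw [← map_nsmul, ← map_nsmul, hxy]

/-- the sectionwise free presheaf on the sections of `F` -/
noncomputable def freePsh (F : Sheaf J AddCommGrpCat.{w}) : Cᵒᵖ ⥤ AddCommGrpCat.{w} :=
  F.obj ⋙ forget AddCommGrpCat.{w} ⋙ AddCommGrpCat.free.{w}

/-- the counit `ℤ[F(V)] → F(V)` -/
noncomputable def freeCounit (F : Sheaf J AddCommGrpCat.{w}) : freePsh F ⟶ F.obj where
  app V := AddCommGrpCat.ofHom (FreeAbelianGroup.lift (fun x : F.obj.obj V => x))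
  naturality V W f := by
    apply AddCommGrpCat.hom_ext
    apply FreeAbelianGroup.lift_ext
    intro x
    change FreeAbelianGroup.lift (fun x : F.obj.obj W => x)
      (FreeAbelianGroup.map (F.obj.map f) (FreeAbelianGroup.of x)) =
      F.obj.map f (FreeAbelianGroup.lift (fun x : F.obj.obj V => x) (FreeAbelianGroup.of x))
    rw [FreeAbelianGroup.map_of_apply, FreeAbelianGroup.lift_apply_of, FreeAbelianGroup.lift_apply_of]

lemma freeCounit_app_surjective (F : Sheaf J AddCommGrpCat.{w}) (V : Cᵒᵖ) :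
    Function.Surjective ((freeCounit F).app V).hom := by
  intro x
  exact ⟨FreeAbelianGroup.of x, FreeAbelianGroup.lift_apply_of _ _⟩

instance epi_freeCounit (F : Sheaf J AddCommGrpCat.{w}) : Epi (freeCounit F) := by
  haveI : ∀ V, Epi ((freeCounit F).app V) := by
    intro V
    rw [AddCommGrpCat.epi_iff_surjective]
    exact freeCounit_app_surjective F V
  exact NatTrans.epi_of_epi_app _

/-- the torsion-free cover -/
noncomputable def tfCover (F : Sheaf J AddCommGrpCat.{w}) : Sheaf J AddCommGrpCat.{w} :=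
  (presheafToSheaf J AddCommGrpCat.{w}).obj (freePsh F)

noncomputable def tfCoverπ (F : Sheaf J AddCommGrpCat.{w}) : tfCover F ⟶ F :=
  ((sheafificationAdjunction J AddCommGrpCat.{w}).homEquiv (freePsh F) F).symm (freeCounit F)

lemma tfs_tfCover (F : Sheaf J AddCommGrpCat.{w}) : TFS J (tfCover F) := by
  apply tfs_sheafify
  intro V
  exact freeAb_torsionFree _

instance epi_tfCoverπ (F : Sheaf J AddCommGrpCat.{w}) : Epi (tfCoverπ F) := by
  refine ⟨fun {G} g₁ g₂ h => ?_⟩
  have key : ∀ g : F ⟶ G, (sheafificationAdjunction J AddCommGrpCat.{w}).homEquiv (freePsh F) G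
      (tfCoverπ F ≫ g) = freeCounit F ≫ (sheafToPresheaf J AddCommGrpCat.{w}).map g := by
    intro g
    rw [Adjunction.homEquiv_naturality_right]
    unfold tfCoverπ
    rw [Equiv.apply_symm_apply]
  have h2 : freeCounit F ≫ (sheafToPresheaf J AddCommGrpCat.{w}).map g₁ =
      freeCounit F ≫ (sheafToPresheaf J AddCommGrpCat.{w}).map g₂ := by
    exact (key g₁).symm.trans ((congrArg _ h).trans (key g₂))
  have h3 := (cancel_epi _).1 h2
  exact (sheafToPresheaf J AddCommGrpCat.{w}).map_injective h3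

end Groth.Agent.Helper29.TFSh
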