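import Mathlib
import Groth.Agent.Lib.Helper29.TFAlg
import Groth.Agent.Lib.Helper29.TFSh
import Groth.Agent.Lib.Helper24.ExtVanish

/-!
# Injective sheaves of `Λ`-modules are acyclic for `Ext(Q, -)` with `Q` a torsion-free abelian sheaf
-/

universe w' w v u

open CategoryTheory CategoryTheory.Limits Opposite

namespace Groth.Agent.Helper29.TFVan

open Groth.Agent.Helper29.TFAlg Groth.Agent.Helper29.TFSh

variable (Λ : Type w) [CommRing Λ] {C : Type u} [Category.{v} C] (J : GrothendieckTopology C)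
  [HasSheafify J AddCommGrpCat.{w}] [HasSheafify J (ModuleCat.{w} Λ)]
  [J.HasSheafCompose (G Λ)]

/-- underlying abelian sheaf -/
noncomputable abbrev U : Sheaf J (ModuleCat.{w} Λ) ⥤ Sheaf J AddCommGrpCat.{w} :=
  sheafCompose J (G Λ)

/-- its left adjoint -/
noncomputable abbrev L : Sheaf J AddCommGrpCat.{w} ⥤ Sheaf J (ModuleCat.{w} Λ) :=
  Sheaf.composeAndSheafify J (E Λ)

noncomputable abbrev adjLU : L Λ J ⊣ U Λ J := Sheaf.adjunction J (adj Λ)

variable {J}

lemma sections_exact {S : ShortComplex (Sheaf J AddCommGrpCat.{w})} (hS : S.ShortExact) (V : Cᵒᵖ)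
    (b : S.X₂.obj.obj V) (hb : (S.g.hom.app V).hom b = 0) : ∃ a, (S.f.hom.app V).hom a = b := by
  let Γ : Sheaf J AddCommGrpCat.{w} ⥤ AddCommGrpCat.{w} :=
    sheafToPresheaf J AddCommGrpCat.{w} ⋙ (evaluation Cᵒᵖ AddCommGrpCat.{w}).obj V
  haveI : Mono S.f := hS.mono_f
  have hex : (S.map Γ).Exact := hS.exact.map_of_mono_of_preservesKernel Γ inferInstance inferInstance
  rw [ShortComplex.ab_exact_iff] at hex
  exact hex b hb

lemma mono_L_map {S : ShortComplex (Sheaf J AddCommGrpCat.{w})} (hS : S.ShortExact)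
    (h3 : TFS J S.X₃) : Mono ((L Λ J).map S.f) := by
  haveI : Mono S.f := hS.mono_f
  have hm : Mono (Functor.whiskerRight S.f.hom (E Λ)) := by
    haveI : ∀ V, Mono ((Functor.whiskerRight S.f.hom (E Λ)).app V) := by
      intro V
      rw [ModuleCat.mono_iff_injective]
      haveI := h3 V
      refine E_map_injective Λ (S.f.hom.app V) (S.g.hom.app V) (sheaf_mono_app_injective S.f V)
        ?_ (sections_exact hS V)
      intro a
      have : S.f.hom.app V ≫ S.g.hom.app V = 0 := by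
        have h0 := congrArg (fun m : S.X₁ ⟶ S.X₃ => m.hom.app V) S.zero
        exact h0
      exact congrArg (fun m => m.hom a) this
    exact NatTrans.mono_of_mono_app _
  exact inferInstanceAs (Mono ((presheafToSheaf J (ModuleCat.{w} Λ)).map
    (Functor.whiskerRight S.f.hom (E Λ))))

variable [HasExt.{w'} (Sheaf J AddCommGrpCat.{w})] [EnoughInjectives (Sheaf J AddCommGrpCat.{w})]

open Abelian in
/-- the vanishing theorem -/
theorem ext_eq_zero (I : Sheaf J (ModuleCat.{w} Λ)) [Injective I] (Q : Sheaf J AddCommGrpCat.{w})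
    (hQ : TFS J Q) (n : ℕ) (ξ : Ext.{w'} Q ((U Λ J).obj I) (n + 1)) : ξ = 0 := by
  refine Groth.Agent.Helper24.ExtVanish.ext_eq_zero ((U Λ J).obj I) (TFS J) ?_ ?_ ?_ n Q hQ ξ
  · intro X
    exact ⟨tfCover X, tfCoverπ X, tfs_tfCover X, inferInstance⟩
  · intro S hS h2 _
    haveI : Mono S.f := hS.mono_f
    exact tfs_of_mono S.f h2
  · intro S hS h3 η
    haveI := mono_L_map Λ hS h3
    let η' : (L Λ J).obj S.X₁ ⟶ I := ((adjLU Λ J).homEquiv _ _).symm η
    let ζ' : (L Λ J).obj S.X₂ ⟶ I := Injective.factorThru η' ((L Λ J).map S.f)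
    refine ⟨(adjLU Λ J).homEquiv _ _ ζ', ?_⟩
    rw [← Adjunction.homEquiv_naturality_left, Injective.comp_factorThru]
    exact Equiv.apply_symm_apply _ _

end Groth.Agent.Helper29.TFVan
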