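import Mathlib
import Groth.Prelude.Def_SixF2
import Groth.Agent.Lib.Helper29.CmpA
import Groth.Agent.Lib.Helper29.TFVan

/-!
# `Ext^n(Λ_X, F) ≅ Ext^n(ℤ_X, F_ab)` on the small étale site
-/

universe u

open CategoryTheory CategoryTheory.Limits AlgebraicGeometry Opposite

attribute [local instance] HasDerivedCategory.standard

namespace Groth.Agent.Helper29.CmpEt

open Abelian Groth.Agent.Helper29.CmpA Groth.Agent.Helper29.TFSh

section Abs

universe w w' v v' u₁ u₂

variable {𝒜 : Type u₁} [Category.{v} 𝒜] [Abelian 𝒜] {ℬ : Type u₂} [Category.{v'} ℬ] [Abelian ℬ]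
  [HasExt.{w} 𝒜] [HasExt.{w'} ℬ]
  (U : 𝒜 ⥤ ℬ) [U.Additive] [PreservesFiniteLimits U] [PreservesFiniteColimits U]
  {A₀ : 𝒜} {B₀ : ℬ} (φ : B₀ ⟶ U.obj A₀)

lemma cmp_zero_bijective (F : 𝒜) (h : Function.Bijective (fun f : A₀ ⟶ F => φ ≫ U.map f)) :
    Function.Bijective (cmp U φ F 0) := by
  have key : ∀ f : A₀ ⟶ F, cmp U φ F 0 (Ext.mk₀ f) = Ext.mk₀ (φ ≫ U.map f) := by
    intro f
    rw [cmp_apply, Ext.mapExactFunctor_mk₀, Ext.mk₀_comp_mk₀]
  constructor
  · intro x y hxy
    obtain ⟨f, rfl⟩ := (Ext.mk₀_bijective _ _).2 x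
    obtain ⟨g, rfl⟩ := (Ext.mk₀_bijective _ _).2 y
    rw [key, key] at hxy
    have := (Ext.mk₀_bijective _ _).1 hxy
    rw [h.1 this]
  · intro y
    obtain ⟨g, rfl⟩ := (Ext.mk₀_bijective _ _).2 y
    obtain ⟨f, hf⟩ := h.2 g
    exact ⟨Ext.mk₀ f, (key f).trans (by rw [← hf])⟩

end Abs

section Et

variable (Λ : Type (u + 1)) [CommRing Λ]

lemma evalΛ_bijective (M : ModuleCat.{u + 1} Λ) :
    Function.Bijective (fun f : ModuleCat.of Λ Λ ⟶ M => f.hom (1 : Λ)) := by
  constructor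
  · intro f g hfg
    apply ModuleCat.hom_ext
    apply LinearMap.ext_ring
    exact hfg
  · intro m
    exact ⟨ModuleCat.ofHom (LinearMap.toSpanSingleton Λ M m), by simp⟩

lemma evalZ_bijective (A : AddCommGrpCat.{u + 1}) :
    Function.Bijective (fun g : AddCommGrpCat.of (ULift.{u + 1} ℤ) ⟶ A => g.hom (ULift.up 1)) := by
  constructor
  · intro f g hfg
    apply AddCommGrpCat.hom_ext
    have : f.hom.comp (AddEquiv.ulift (α := ℤ)).symm.toAddMonoidHom =
        g.hom.comp (AddEquiv.ulift (α := ℤ)).symm.toAddMonoidHom := by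
      apply AddMonoidHom.ext_int
      exact hfg
    ext ⟨x⟩
    exact DFunLike.congr_fun this x
  · intro a
    refine ⟨AddCommGrpCat.ofHom ((zmultiplesHom A a).comp
      (AddEquiv.ulift (α := ℤ)).toAddMonoidHom), ?_⟩
    show (1 : ℤ) • a = a
    exact one_zsmul a

variable {X : Scheme.{u}}

lemma comp_bijective (F : EtModW.Mod Λ X) :
    Function.Bijective (fun f : EtSix.constΛ Λ X ⟶ F =>
      EtSix.intToConstΛ Λ X ≫ (EtModD.forgetToAb Λ X).map f) := by
  let a : (EtSix.constΛ Λ X ⟶ F) → F.obj.obj (op (EtCoh.top X)) :=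
    fun f => ((EtSix.constModAdj Λ X).homEquiv _ _ f).hom (1 : Λ)
  let b : ((constantSheaf X.smallEtaleTopology AddCommGrpCat.{u + 1}).obj
      (AddCommGrpCat.of (ULift.{u + 1} ℤ)) ⟶ (EtModD.forgetToAb Λ X).obj F) →
      F.obj.obj (op (EtCoh.top X)) :=
    fun g => ((EtCore.constAdj X).homEquiv _ _ g).hom (ULift.up 1)
  have ha : Function.Bijective a :=
    (evalΛ_bijective Λ _).comp ((EtSix.constModAdj Λ X).homEquiv _ _).bijective
  have hb : Function.Bijective b :=
    (evalZ_bijective _).comp ((EtCore.constAdj X).homEquiv _ _).bijective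
  have key : ∀ f, b (EtSix.intToConstΛ Λ X ≫ (EtModD.forgetToAb Λ X).map f) = a f := by
    intro f
    show ((EtCore.constAdj X).homEquiv _ _ (EtSix.intToConstΛ Λ X ≫
      (EtModD.forgetToAb Λ X).map f)).hom (ULift.up 1) = _
    rw [Adjunction.homEquiv_naturality_right]
    unfold EtSix.intToConstΛ
    rw [Equiv.apply_symm_apply]
    show ((EtModD.forgetToAb Λ X).map f).hom.app (op (EtCoh.top X))
      ((EtSix.oneSection Λ X).hom (ULift.up 1)) = _
    have h1 : (EtSix.oneSection Λ X).hom (ULift.up 1) =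
        ((EtSix.constModAdj Λ X).unit.app (ModuleCat.of Λ Λ)).hom (1 : Λ) := by
      unfold EtSix.oneSection
      exact one_zsmul _
    rw [h1]
    show _ = ((EtSix.constModAdj Λ X).homEquiv _ _ f).hom (1 : Λ)
    rw [Adjunction.homEquiv_unit]
    rfl
  have : b ∘ (fun f : EtSix.constΛ Λ X ⟶ F =>
      EtSix.intToConstΛ Λ X ≫ (EtModD.forgetToAb Λ X).map f) = a := funext key
  rw [← Function.Bijective.of_comp_iff' hb, this]
  exact ha

end Et

section Main

variable (Λ : Type (u + 1)) [CommRing Λ] {X : Scheme.{u}}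

instance : IsAddTorsionFree (ULift.{u + 1} ℤ) := by
  refine ⟨fun n hn x y hxy => ?_⟩
  apply ULift.down_injective
  apply IsAddTorsionFree.nsmul_right_injective (M := ℤ) hn
  exact congrArg ULift.down hxy

lemma tfs_constZ : TFS X.smallEtaleTopology
    ((constantSheaf X.smallEtaleTopology AddCommGrpCat.{u + 1}).obj
      (AddCommGrpCat.of (ULift.{u + 1} ℤ))) := by
  apply tfs_sheafify
  intro V
  exact inferInstanceAs (IsAddTorsionFree (ULift.{u + 1} ℤ))

theorem main [PreservesFiniteLimits (EtModD.forgetToAb Λ X)]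
    [PreservesFiniteColimits (EtModD.forgetToAb Λ X)]
    [(EtModD.forgetToAb Λ X).Additive] (F : EtModW.Mod Λ X) (n : ℕ) :
    Function.Bijective (EtSix.HModToH Λ F n) := by
  have := cmp_bijective (EtModD.forgetToAb Λ X) (EtSix.intToConstΛ Λ X)
    (fun F => cmp_zero_bijective _ _ F (comp_bijective Λ F))
    (fun I _ n x => Groth.Agent.Helper29.TFVan.ext_eq_zero Λ I _ tfs_constZ n x) n F
  exact this

end Main

end Groth.Agent.Helper29.CmpEt
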