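import Mathlib

namespace Groth.Agent.Helper29.CoconeA

open CategoryTheory CategoryTheory.Limits CochainComplex HomComplex

universe u v
variable {A : Type u} [Category.{v} A] [Abelian A]
variable {K L : CochainComplex A ℤ} (φ : K ⟶ L)

lemma snd_eq_desc : mappingCocone.snd φ =
    mappingCocone.descCochain φ (0 : Cochain K L (-1)) (Cochain.ofHom (𝟙 L)) (by simp) := by
  ext p q hpq
  have h := mappingCocone.id_X φ p q hpq
  have h1 : (mappingCocone.snd φ).v p q hpq = 𝟙 _ ≫ (mappingCocone.snd φ).v p q hpq := by simp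
  have h2 : (mappingCocone.descCochain φ (0 : Cochain K L (-1)) (Cochain.ofHom (𝟙 L))
      (by simp)).v p q hpq = 𝟙 _ ≫ (mappingCocone.descCochain φ (0 : Cochain K L (-1))
        (Cochain.ofHom (𝟙 L)) (by simp)).v p q hpq := by simp
  rw [h1, h2, ← h]
  simp

lemma δ_snd : δ (-1) 0 (mappingCocone.snd φ) =
    -(Cochain.ofHom (mappingCocone.fst φ ≫ φ)) := by
  rw [snd_eq_desc, mappingCocone.δ_descCochain _ _ _ _ 1 (by simp)]
  simp


lemma f_ext_to {T : A} {p : ℤ} (q : ℤ) (hpq : p + -1 = q) (x y : T ⟶ (mappingCocone φ).X p)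
    (h1 : x ≫ (mappingCocone.fst φ).f p = y ≫ (mappingCocone.fst φ).f p)
    (h2 : x ≫ (mappingCocone.snd φ).v p q hpq = y ≫ (mappingCocone.snd φ).v p q hpq) :
    x = y := by
  have h := mappingCocone.id_X φ p q hpq
  calc x = x ≫ 𝟙 _ := (Category.comp_id _).symm
    _ = y ≫ 𝟙 _ := by
      rw [← h, Preadditive.comp_add, Preadditive.comp_add, reassoc_of% h1, reassoc_of% h2]
    _ = y := Category.comp_id _

lemma f_ext_from {T : A} {p : ℤ} (q : ℤ) (hpq : p + -1 = q) (x y : (mappingCocone φ).X p ⟶ T)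
    (h1 : (mappingCocone.inl φ).v p p (add_zero p) ≫ x =
      (mappingCocone.inl φ).v p p (add_zero p) ≫ y)
    (h2 : (mappingCocone.inr φ).1.v q p (by lia) ≫ x =
      (mappingCocone.inr φ).1.v q p (by lia) ≫ y) :
    x = y := by
  have h := mappingCocone.id_X φ p q hpq
  calc x = 𝟙 _ ≫ x := (Category.id_comp _).symm
    _ = 𝟙 _ ≫ y := by
      rw [← h, Preadditive.add_comp, Preadditive.add_comp, Category.assoc, Category.assoc,
        Category.assoc, Category.assoc, h1, h2]
    _ = y := Category.id_comp _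

lemma hom_ext_to {T : CochainComplex A ℤ} (g g' : T ⟶ mappingCocone φ)
    (h1 : g ≫ mappingCocone.fst φ = g' ≫ mappingCocone.fst φ)
    (h2 : (Cochain.ofHom g).comp (mappingCocone.snd φ) (zero_add _) =
      (Cochain.ofHom g').comp (mappingCocone.snd φ) (zero_add _)) : g = g' := by
  ext p
  refine f_ext_to φ (p + -1) rfl _ _ ?_ ?_
  · have := congrArg (fun k => k.f p) h1
    simpa using this
  · have := Cochain.congr_v h2 p (p + -1) rfl
    simpa using this

end Groth.Agent.Helper29.CoconeA
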