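import Mathlib
import Groth.Agent.Lib.Helper29.CoconeA

namespace Groth.Agent.Helper29.CoconeB

open CategoryTheory CategoryTheory.Limits CochainComplex HomComplex
open Groth.Agent.Helper29.CoconeA

universe u v
variable {A : Type u} [Category.{v} A] [Abelian A]

section contr

variable (X : CochainComplex A ℤ)

/-- contracting cochain of the cocone of the identity -/
noncomputable def contrCochain : Cochain (mappingCocone (𝟙 X)) (mappingCocone (𝟙 X)) (-1) :=
  -mappingCocone.liftCochain (𝟙 X) (mappingCocone.snd (𝟙 X))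
    (0 : Cochain (mappingCocone (𝟙 X)) X (-2)) (by simp)

lemma δ_contrCochain : δ (-1) 0 (contrCochain X) = Cochain.ofHom (𝟙 _) := by
  rw [contrCochain, δ_neg, mappingCocone.δ_liftCochain _ _ _ _ 0 (by simp), δ_snd]
  ext p
  have h := mappingCocone.id_X (𝟙 X) p (p + -1) rfl
  simp only [Category.comp_id, Cochain.neg_comp, δ_zero, Cochain.comp_id, zero_add,
    Cochain.neg_v, Cochain.sub_v, Cochain.comp_zero_cochain_v, Cochain.ofHom_v,
    HomologicalComplex.id_f]
  rw [← h, Cochain.comp_v _ _ (show (-1 : ℤ) + 1 = 0 by simp) p (p + -1) p rfl (by lia)]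
  abel

noncomputable def contrHomotopy : Homotopy (𝟙 (mappingCocone (𝟙 X))) 0 :=
  (Cochain.equivHomotopy _ _).symm ⟨contrCochain X, by
    rw [δ_contrCochain, Cochain.ofHom_zero, add_zero]⟩

lemma acyclic_cocone_id : (mappingCocone (𝟙 X)).Acyclic := by
  intro n
  rw [HomologicalComplex.exactAt_iff_isZero_homology, IsZero.iff_id_eq_zero,
    ← HomologicalComplex.homologyMap_id, (contrHomotopy X).homologyMap_eq n,
    HomologicalComplex.homologyMap_zero]

end contr


section ses

variable (S : ShortComplex (CochainComplex A ℤ))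

/-- the canonical map from the kernel to the cocone -/
noncomputable def liftSES : S.X₁ ⟶ mappingCocone S.g :=
  mappingCocone.lift S.g S.f 0 (by simp)

/-- the canonical map to the cocone of the identity -/
noncomputable def toCoconeId : mappingCocone S.g ⟶ mappingCocone (𝟙 S.X₃) :=
  mappingCocone.lift (𝟙 S.X₃) (mappingCocone.fst S.g ≫ S.g) (mappingCocone.snd S.g) (by
    rw [δ_snd]; simp)

@[reassoc (attr := simp)]
lemma liftSES_fst : liftSES S ≫ mappingCocone.fst S.g = S.f := by
  simp [liftSES]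

@[reassoc (attr := simp)]
lemma liftSES_f_fst_f (n : ℤ) : (liftSES S).f n ≫ (mappingCocone.fst S.g).f n = S.f.f n := by
  simp [liftSES]

@[reassoc (attr := simp)]
lemma liftSES_f_snd_v (p q : ℤ) (hpq : p + -1 = q) :
    (liftSES S).f p ≫ (mappingCocone.snd S.g).v p q hpq = 0 := by
  simp [liftSES]

lemma liftSES_f (n : ℤ) :
    (liftSES S).f n = S.f.f n ≫ (mappingCocone.inl S.g).v n n (add_zero n) := by
  refine f_ext_to S.g (n + -1) rfl _ _ ?_ ?_
  · simp
  · simp

@[reassoc (attr := simp)]
lemma toCoconeId_f_fst_f (n : ℤ) :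
    (toCoconeId S).f n ≫ (mappingCocone.fst (𝟙 S.X₃)).f n =
      (mappingCocone.fst S.g).f n ≫ S.g.f n := by
  simp [toCoconeId]

@[reassoc (attr := simp)]
lemma toCoconeId_f_snd_v (p q : ℤ) (hpq : p + -1 = q) :
    (toCoconeId S).f p ≫ (mappingCocone.snd (𝟙 S.X₃)).v p q hpq =
      (mappingCocone.snd S.g).v p q hpq := by
  simp [toCoconeId]

@[reassoc (attr := simp)]
lemma liftSES_f_toCoconeId_f (n : ℤ) : (liftSES S).f n ≫ (toCoconeId S).f n = 0 := by
  refine f_ext_to (𝟙 S.X₃) (n + -1) rfl _ _ ?_ ?_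
  · have : S.f.f n ≫ S.g.f n = 0 := by
      rw [← HomologicalComplex.comp_f, S.zero, HomologicalComplex.zero_f]
    simp [this]
  · simp

@[reassoc (attr := simp)]
lemma liftSES_toCoconeId : liftSES S ≫ toCoconeId S = 0 := by
  ext n
  simp

lemma inl_toCoconeId (n : ℤ) :
    (mappingCocone.inl S.g).v n n (add_zero n) ≫ (toCoconeId S).f n =
      S.g.f n ≫ (mappingCocone.inl (𝟙 S.X₃)).v n n (add_zero n) := by
  refine f_ext_to (𝟙 S.X₃) (n + -1) rfl _ _ ?_ ?_
  · simp
  · simp

lemma inr_toCoconeId (q n : ℤ) (hqn : q + 1 = n) :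
    (mappingCocone.inr S.g).1.v q n hqn ≫ (toCoconeId S).f n =
      (mappingCocone.inr (𝟙 S.X₃)).1.v q n hqn := by
  refine f_ext_to (𝟙 S.X₃) q (by lia) _ _ ?_ ?_
  · simp
  · simp

/-- the short complex `X₁ ⟶ cocone g ⟶ cocone 𝟙` -/
noncomputable def sesCocone : ShortComplex (CochainComplex A ℤ) :=
  ShortComplex.mk (liftSES S) (toCoconeId S) (liftSES_toCoconeId S)

end ses


section exact

variable {S : ShortComplex (CochainComplex A ℤ)} (hS : S.ShortExact)

include hS

lemma sesCocone_degreewise (n : ℤ) :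
    ((sesCocone S).map (HomologicalComplex.eval A (ComplexShape.up ℤ) n)).ShortExact := by
  have hSn : (S.map (HomologicalComplex.eval A (ComplexShape.up ℤ) n)).ShortExact :=
    (HomologicalComplex.shortExact_iff_degreewise_shortExact S).1 hS n
  have hmono : Mono (S.f.f n) := hSn.mono_f
  have hepi : Epi (S.g.f n) := hSn.epi_g
  have hmonoj : Mono ((liftSES S).f n) := by
    rw [liftSES_f]
    have : Mono ((mappingCocone.inl S.g).v n n (add_zero n)) :=
      mono_of_mono_fac (mappingCocone.inl_v_fst_f S.g n)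
    exact mono_comp _ _
  have hepip : Epi ((toCoconeId S).f n) := by
    refine Preadditive.epi_of_cancel_zero _ (fun {T} g hg => ?_)
    refine f_ext_from (𝟙 S.X₃) (n + -1) rfl _ _ ?_ ?_
    · rw [comp_zero, ← cancel_epi (S.g.f n), ← reassoc_of% (inl_toCoconeId S n), hg, comp_zero,
        comp_zero]
    · rw [comp_zero, ← inr_toCoconeId S (n + -1) n (by lia), Category.assoc, hg, comp_zero]
  have hmonoSn : Mono (S.map (HomologicalComplex.eval A (ComplexShape.up ℤ) n)).f := hSn.mono_f
  have key : ∀ {W : A} (k : W ⟶ (mappingCocone S.g).X n) (_ : k ≫ (toCoconeId S).f n = 0),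
      { l : W ⟶ S.X₁.X n // l ≫ (liftSES S).f n = k } := by
    intro W k hk
    have h1 : (k ≫ (mappingCocone.fst S.g).f n) ≫ S.g.f n = 0 := by
      have := hk =≫ (mappingCocone.fst (𝟙 S.X₃)).f n
      simpa using this
    have h2 : k ≫ (mappingCocone.snd S.g).v n (n + -1) rfl = 0 := by
      have := hk =≫ (mappingCocone.snd (𝟙 S.X₃)).v n (n + -1) rfl
      simpa using this
    refine ⟨hSn.exact.lift (k ≫ (mappingCocone.fst S.g).f n) h1, ?_⟩
    refine f_ext_to S.g (n + -1) rfl _ _ ?_ ?_
    · have := hSn.exact.lift_f (k ≫ (mappingCocone.fst S.g).f n) h1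
      rw [Category.assoc, liftSES_f_fst_f]
      exact this
    · simp [h2]
  have hmonoj' : Mono ((sesCocone S).map
      (HomologicalComplex.eval A (ComplexShape.up ℤ) n)).f := hmonoj
  exact ShortComplex.ShortExact.mk' (ShortComplex.exact_of_f_is_kernel _
    (KernelFork.IsLimit.ofι' _ _ (fun {W} k hk => key k hk))) hmonoj hepip

lemma sesCocone_shortExact : (sesCocone S).ShortExact :=
  HomologicalComplex.shortExact_of_degreewise_shortExact _ (sesCocone_degreewise hS)

lemma quasiIso_liftSES : QuasiIso (liftSES S) where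
  quasiIsoAt n := by
    have hT := sesCocone_shortExact hS
    have hz : ∀ m : ℤ, IsZero ((mappingCocone (𝟙 S.X₃)).homology m) := fun m =>
      (HomologicalComplex.exactAt_iff_isZero_homology _ _).1 (acyclic_cocone_id S.X₃ m)
    rw [quasiIsoAt_iff_isIso_homologyMap]
    have hmono : Mono (HomologicalComplex.homologyMap (liftSES S) n) :=
      (hT.homology_exact₁ (n - 1) n (by simp)).mono_g ((hz (n - 1)).eq_of_src _ _)
    have hepi : Epi (HomologicalComplex.homologyMap (liftSES S) n) :=
      (hT.homology_exact₂ n).epi_f ((hz n).eq_of_tgt _ _)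
    exact isIso_of_mono_of_epi _

end exact

end Groth.Agent.Helper29.CoconeB
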