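import Mathlib
import Groth.Agent.Lib.Helper6.CoeffOnes

/-!
# The coefficient of `x_1 ⋯ x_d` in `Q (x_1 + ⋯ + x_d)`
-/

set_option autoImplicit false

open MvPolynomial Finset

namespace Groth.Agent.Helper29.CoeffOnesAeval

open Groth.Agent.Helper6.CoeffOnes

lemma alt_sum (d : ℕ) :
    ∑ m ∈ range (d + 1), (d.choose m : ℚ) * ((-1 : ℚ) ^ (d - m) * (m : ℚ) ^ d) =
      (d.factorial : ℚ) := by
  have h1 := fwdDiff_iter_eq_sum_shift (h := (1 : ℚ)) (fun r : ℚ => r ^ d) d 0
  have h2 : (fwdDiff (1 : ℚ))^[d] (fun r : ℚ => r ^ d) = (d.factorial : ℚ → ℚ) :=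
    fwdDiff_iter_eq_factorial
  rw [h2] at h1
  have h3 : ((d.factorial : ℚ → ℚ)) 0 = (d.factorial : ℚ) := by simp
  rw [h3] at h1
  rw [h1]
  refine Finset.sum_congr rfl fun k _ => ?_
  simp only [zsmul_eq_mul, nsmul_eq_mul, zero_add, mul_one, Int.cast_mul, Int.cast_pow,
    Int.cast_neg, Int.cast_one, Int.cast_natCast]
  ring

lemma isHomogeneous_sum_pow (d j : ℕ) :
    ((∑ i : Fin d, (X i : MvPolynomial (Fin d) ℚ)) ^ j).IsHomogeneous j := by
  have h1 : (∑ i : Fin d, (X i : MvPolynomial (Fin d) ℚ)).IsHomogeneous 1 :=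
    IsHomogeneous.sum _ _ _ (fun i _ => isHomogeneous_X ℚ i)
  simpa using h1.pow j

lemma degree_ones (d : ℕ) : (ones d).degree = d := by
  rw [Finsupp.degree_eq_sum]
  simp [ones_apply]

lemma coeff_ones_sum_pow (d : ℕ) :
    coeff (ones d) ((∑ i : Fin d, (X i : MvPolynomial (Fin d) ℚ)) ^ d) = (d.factorial : ℚ) := by
  rw [coeff_ones_eq_cube_sum _ (isHomogeneous_sum_pow d d).totalDegree_le]
  have h1 : ∀ t : Finset (Fin d), eval (ind t) ((∑ i : Fin d, (X i : MvPolynomial (Fin d) ℚ)) ^ d) =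
      ((t.card : ℕ) : ℚ) ^ d := by
    intro t
    rw [map_pow, map_sum]
    simp only [eval_X]
    congr 1
    unfold ind
    rw [Finset.sum_boole]
    simp
  simp_rw [h1]
  have h2 := Finset.sum_powerset_apply_card (α := ℚ)
    (fun m => (-1 : ℚ) ^ (d - m) * (m : ℚ) ^ d) (x := (univ : Finset (Fin d)))
  rw [h2, Finset.card_univ, Fintype.card_fin, ← alt_sum d]
  refine Finset.sum_congr rfl fun m _ => ?_
  rw [nsmul_eq_mul]

theorem coeff_ones_aeval_sum (d : ℕ) (Q : Polynomial ℚ) :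
    MvPolynomial.coeff (Finsupp.equivFunOnFinite.symm fun _ : Fin d => 1)
      (Polynomial.aeval (∑ i : Fin d, (MvPolynomial.X i : MvPolynomial (Fin d) ℚ)) Q) =
      (d.factorial : ℚ) * Q.coeff d := by
  change coeff (ones d) _ = _
  rw [Polynomial.aeval_eq_sum_range, coeff_sum]
  simp_rw [coeff_smul, smul_eq_mul]
  by_cases hd : d ∈ range (Q.natDegree + 1)
  · rw [Finset.sum_eq_single_of_mem d hd]
    · rw [coeff_ones_sum_pow, mul_comm]
    · intro j _ hj
      rw [(isHomogeneous_sum_pow d j).coeff_eq_zero (by rw [degree_ones]; exact fun h => hj h.symm),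
        mul_zero]
  · have hQ : Q.coeff d = 0 := by
      apply Polynomial.coeff_eq_zero_of_natDegree_lt
      simpa using hd
    rw [hQ, mul_zero]
    refine Finset.sum_eq_zero fun j hj => ?_
    have hjd : j ≠ d := fun h => hd (h ▸ hj)
    rw [(isHomogeneous_sum_pow d j).coeff_eq_zero (by rw [degree_ones]; exact fun h => hjd h.symm),
      mul_zero]

end Groth.Agent.Helper29.CoeffOnesAeval
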