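import Mathlib

/-!
# Right adjoints commute with coreflections (abstract form)

`L ⊣ R` between categories `𝒴`, `𝒳`, full subcategories `P_X ⊆ 𝒳`, `P_Y ⊆ 𝒴` whose inclusions have
right adjoints `DQ_X`, `DQ_Y`; if `L` maps `P_Y` into `P_X` and `R` maps `P_X` into `P_Y` then
`R (DQ_X K) ⟶ DQ_Y (R K)` is an isomorphism.
-/

set_option autoImplicit false

namespace Groth.Agent.Helper29.CoherComm

open CategoryTheory

universe v₁ v₂ u₁ u₂

variable {𝒳 : Type u₁} [Category.{v₁} 𝒳] {𝒴 : Type u₂} [Category.{v₂} 𝒴]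
  {L : 𝒴 ⥤ 𝒳} {R : 𝒳 ⥤ 𝒴} (adj : L ⊣ R)
  (PX : ObjectProperty 𝒳) (PY : ObjectProperty 𝒴)
  {DQX : 𝒳 ⥤ PX.FullSubcategory} {DQY : 𝒴 ⥤ PY.FullSubcategory}
  (adjX : PX.ι ⊣ DQX) (adjY : PY.ι ⊣ DQY)
  (hL : ∀ Q : 𝒴, PY Q → PX (L.obj Q)) (hR : ∀ K : 𝒳, PX K → PY (R.obj K))

include adj adjX hL in
/-- postcomposition with `R ε_K` is bijective on maps out of objects of `P_Y` -/
lemma bijective_comp_map_counit (K : 𝒳) (Q : 𝒴) (hQ : PY Q) :
    Function.Bijective (fun a : Q ⟶ R.obj (DQX.obj K).obj => a ≫ R.map (adjX.counit.app K)) := by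
  have h1 : Function.Bijective
      (fun b : L.obj Q ⟶ (DQX.obj K).obj => b ≫ adjX.counit.app K) := by
    let Q' : PX.FullSubcategory := ⟨L.obj Q, hL Q hQ⟩
    have hb : Function.Bijective (fun g : Q' ⟶ DQX.obj K => (adjX.homEquiv Q' K).symm g) :=
      (adjX.homEquiv Q' K).symm.bijective
    have hff : Function.Bijective (fun g : Q' ⟶ DQX.obj K => PX.ι.map g) :=
      ⟨fun g g' h => PX.ι.map_injective h, fun b => ⟨PX.fullyFaithfulι.preimage b,
        PX.fullyFaithfulι.map_preimage b⟩⟩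
    constructor
    · intro b b' h
      obtain ⟨g, rfl⟩ := hff.2 b
      obtain ⟨g', rfl⟩ := hff.2 b'
      have : (adjX.homEquiv Q' K).symm g = (adjX.homEquiv Q' K).symm g' := by
        rw [Adjunction.homEquiv_counit, Adjunction.homEquiv_counit]
        exact h
      rw [(adjX.homEquiv Q' K).symm.injective this]
    · intro c
      refine ⟨PX.ι.map (adjX.homEquiv Q' K c), ?_⟩
      have := (adjX.homEquiv Q' K).symm_apply_apply c
      rw [Adjunction.homEquiv_counit] at this
      exact this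
  constructor
  · intro a a' h
    apply (adj.homEquiv Q _).symm.injective
    apply h1.1
    change (adj.homEquiv Q _).symm a ≫ adjX.counit.app K =
      (adj.homEquiv Q _).symm a' ≫ adjX.counit.app K
    rw [← Adjunction.homEquiv_naturality_right_symm, ← Adjunction.homEquiv_naturality_right_symm]
    exact congrArg _ h
  · intro c
    obtain ⟨b, hb⟩ := h1.2 ((adj.homEquiv Q K).symm c)
    refine ⟨adj.homEquiv Q _ b, ?_⟩
    change adj.homEquiv Q _ b ≫ R.map (adjX.counit.app K) = c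
    rw [← Adjunction.homEquiv_naturality_right]
    have : b ≫ adjX.counit.app K = (adj.homEquiv Q K).symm c := hb
    rw [this]
    exact (adj.homEquiv Q K).apply_symm_apply c

include adj adjX hL in
/-- the comparison `R (DQ_X K) ⟶ DQ_Y (R K)` is an isomorphism -/
theorem isIso_comparison (K : 𝒳) :
    IsIso (adjY.homEquiv (⟨R.obj (DQX.obj K).obj, hR _ (DQX.obj K).property⟩ : PY.FullSubcategory)
      (R.obj K) (R.map (adjX.counit.app K))) := by
  set T : PY.FullSubcategory := ⟨R.obj (DQX.obj K).obj, hR _ (DQX.obj K).property⟩ with hT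
  set θ := adjY.homEquiv T (R.obj K) (R.map (adjX.counit.app K)) with hθ
  have key : ∀ Q : PY.FullSubcategory, Function.Bijective (fun a : Q ⟶ T => a ≫ θ) := by
    intro Q
    have h1 := bijective_comp_map_counit adj PX PY adjX hL K Q.obj Q.property
    have h2 : ∀ a : Q ⟶ T, a ≫ θ =
        adjY.homEquiv Q (R.obj K) (PY.ι.map a ≫ R.map (adjX.counit.app K)) := by
      intro a
      rw [hθ, ← Adjunction.homEquiv_naturality_left]
    constructor
    · intro a a' h
      change a ≫ θ = a' ≫ θ at h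
      rw [h2, h2] at h
      have h3 := (adjY.homEquiv Q (R.obj K)).injective h
      exact PY.ι.map_injective (h1.1 h3)
    · intro c
      obtain ⟨b, hb⟩ := h1.2 ((adjY.homEquiv Q (R.obj K)).symm c)
      refine ⟨PY.fullyFaithfulι.preimage (X := Q) (Y := T) b, ?_⟩
      change PY.fullyFaithfulι.preimage (X := Q) (Y := T) b ≫ θ = c
      rw [h2, PY.fullyFaithfulι.map_preimage]
      have : b ≫ R.map (adjX.counit.app K) = (adjY.homEquiv Q (R.obj K)).symm c := hb
      rw [this, Equiv.apply_symm_apply]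
  obtain ⟨s, hs⟩ := (key (DQY.obj (R.obj K))).2 (𝟙 _)
  have hs' : s ≫ θ = 𝟙 _ := hs
  refine ⟨s, ?_, hs'⟩
  apply (key T).1
  change (θ ≫ s) ≫ θ = 𝟙 T ≫ θ
  rw [Category.assoc, hs', Category.comp_id, Category.id_comp]

end Groth.Agent.Helper29.CoherComm
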