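import Mathlib

/-!
# Finitely presented modules over a direct limit of rings descend to a stage
-/

namespace Groth.Agent.Helper29.ColimFP

universe u

open TensorProduct

section General

variable {R S : Type u} [CommRing R] [CommRing S] [Algebra R S]

theorem exists_model_of_matrix (M : Type u) [AddCommGroup M] [Module S M] {n m : ℕ}
    (φ : (Fin n → S) →ₗ[S] M) (γ : (Fin m → S) →ₗ[S] (Fin n → S))
    (hφ : Function.Surjective φ) (hex : Function.Exact γ φ) (a' : Fin n → Fin m → R)
    (ha : ∀ l, (fun k => algebraMap R S (a' k l)) = γ (fun j => if l = j then 1 else 0)) :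
    ∃ (Mi : Type u) (_ : AddCommGroup Mi) (_ : Module R Mi), Module.FinitePresentation R Mi ∧
      Nonempty (M ≃ₗ[S] S ⊗[R] Mi) := by
  classical
  let γ' : (Fin m → R) →ₗ[R] (Fin n → R) := Fintype.linearCombination R (fun l k => a' k l)
  let q := (LinearMap.range γ').mkQ
  have hq : Function.Surjective q := Submodule.mkQ_surjective _
  have hexq : Function.Exact γ' q := LinearMap.exact_map_mkQ_range γ'
  let _ : Module R M := Module.compHom M (algebraMap R S)
  have : IsScalarTower R S M := IsScalarTower.of_algebraMap_smul fun r x => rfl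
  let h₁ : (Fin m → R) →ₗ[R] (Fin m → S) := (Algebra.linearMap R S).compLeft (Fin m)
  let h₂ : (Fin n → R) →ₗ[R] (Fin n → S) := (Algebra.linearMap R S).compLeft (Fin n)
  have isb₁ : IsBaseChange S h₁ := IsBaseChange.finitePow (Fin m) (IsBaseChange.linearMap R S)
  have isb₂ : IsBaseChange S h₂ := IsBaseChange.finitePow (Fin n) (IsBaseChange.linearMap R S)
  have comm₁ : h₂.comp γ' = (γ.restrictScalars R).comp h₁ := by
    refine LinearMap.ext fun c => ?_
    show h₂ (γ' c) = γ (h₁ c)
    rw [LinearMap.pi_apply_eq_sum_univ γ (h₁ c)]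
    funext k
    simp only [γ', h₂, h₁, Fintype.linearCombination_apply, LinearMap.compLeft_apply,
      Function.comp_apply, Algebra.linearMap_apply, Finset.sum_apply, Pi.smul_apply, map_sum,
      smul_eq_mul, map_mul]
    refine Finset.sum_congr rfl fun l _ => ?_
    rw [← ha l]
  have hkill : LinearMap.range γ' ≤ LinearMap.ker ((φ.restrictScalars R).comp h₂) := by
    rintro _ ⟨c, rfl⟩
    rw [LinearMap.mem_ker]
    show φ (h₂ (γ' c)) = 0
    have : h₂ (γ' c) = γ (h₁ c) := congrArg (fun ψ => ψ c) comm₁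
    rw [this]
    exact hex.apply_apply_eq_zero _
  let h₃ : ((Fin n → R) ⧸ LinearMap.range γ') →ₗ[R] M :=
    (LinearMap.range γ').liftQ ((φ.restrictScalars R).comp h₂) hkill
  have comm₂ : h₃.comp q = (φ.restrictScalars R).comp h₂ := Submodule.liftQ_mkQ _ _ _
  have isb₃ : IsBaseChange S h₃ :=
    IsBaseChange.of_right_exact S h₁ h₂ h₃ comm₁ comm₂ isb₁ isb₂ hexq hq hex hφ
  refine ⟨(Fin n → R) ⧸ LinearMap.range γ', inferInstance, inferInstance, ?_, ⟨isb₃.equiv.symm⟩⟩
  refine Module.finitePresentation_of_free_of_surjective q hq ?_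
  rw [Submodule.ker_mkQ, LinearMap.range_eq_map]
  exact Module.Finite.fg_top.map _

end General

section DirectLimit

variable {ι : Type u} [Preorder ι] [Nonempty ι] [IsDirectedOrder ι]
    (G : ι → Type u) [∀ i, CommRing (G i)] (f : ∀ i j, i ≤ j → G i →+* G j)

lemma exists_lifts_finite {κ : Type*} [Finite κ]
    (a : κ → Ring.DirectLimit G (fun i j h ↦ f i j h)) :
    ∃ (j : ι) (y : κ → G j), ∀ k, Ring.DirectLimit.of G (fun i j h ↦ f i j h) j (y k) = a k := by
  choose i x hx using fun k => Ring.DirectLimit.exists_of (a k)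
  obtain ⟨j, hj⟩ := Finite.exists_le i
  refine ⟨j, fun k => f (i k) j (hj k) (x k), fun k => ?_⟩
  rw [← hx k]
  exact Ring.DirectLimit.of_f (G := G) (f := fun i j h ↦ f i j h) (hj k) (x k)

theorem main (M : Type u) [AddCommGroup M]
    [Module (Ring.DirectLimit G (fun i j h ↦ f i j h)) M]
    [Module.FinitePresentation (Ring.DirectLimit G (fun i j h ↦ f i j h)) M] :
    ∃ (i : ι) (Mi : Type u) (_ : AddCommGroup Mi) (_ : Module (G i) Mi),
      Module.FinitePresentation (G i) Mi ∧
      letI : Algebra (G i) (Ring.DirectLimit G (fun i j h ↦ f i j h)) :=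
        (Ring.DirectLimit.of G (fun i j h ↦ f i j h) i).toAlgebra
      Nonempty (M ≃ₗ[Ring.DirectLimit G (fun i j h ↦ f i j h)]
        (Ring.DirectLimit G (fun i j h ↦ f i j h)) ⊗[G i] Mi) := by
  obtain ⟨n, m, φ, γ, hφ, hex⟩ := Module.FinitePresentation.exists_fin'
    (Ring.DirectLimit G (fun i j h ↦ f i j h)) M
  obtain ⟨i, y, hy⟩ := exists_lifts_finite G f
    (fun x : Fin n × Fin m => γ (fun j => if x.2 = j then 1 else 0) x.1)
  let _ : Algebra (G i) (Ring.DirectLimit G (fun i j h ↦ f i j h)) :=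
    (Ring.DirectLimit.of G (fun i j h ↦ f i j h) i).toAlgebra
  obtain ⟨Mi, _, _, hfp, he⟩ := exists_model_of_matrix (R := G i) M φ γ hφ hex
    (fun k l => y (k, l)) (fun l => funext fun k => hy (k, l))
  exact ⟨i, Mi, inferInstance, inferInstance, hfp, he⟩

end DirectLimit

end Groth.Agent.Helper29.ColimFP
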