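import Mathlib

set_option autoImplicit false

namespace Groth.Agent.Helper29.ConnOrbit

open TopologicalSpace

universe u v

theorem isOpen_connectedComponent_of_noetherian {X : Type*} [TopologicalSpace X]
    [NoetherianSpace X] (x : X) : IsOpen (connectedComponent x) := by
  rw [← isClosed_compl_iff]
  have h : (connectedComponent x)ᶜ =
      ⋃₀ {Z ∈ irreducibleComponents X | Disjoint Z (connectedComponent x)} := by
    ext y
    constructor
    · intro hy
      refine ⟨irreducibleComponent y, ⟨irreducibleComponent_mem_irreducibleComponents y, ?_⟩,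
        mem_irreducibleComponent⟩
      have h1 : irreducibleComponent y ⊆ connectedComponent y :=
        (isIrreducible_irreducibleComponent.isConnected).isPreconnected.subset_connectedComponent
          mem_irreducibleComponent
      have h2 : connectedComponent y ≠ connectedComponent x := by
        intro h
        apply hy
        rw [← h]
        exact mem_connectedComponent
      exact (connectedComponent_disjoint h2).mono_left h1
    · rintro ⟨Z, ⟨_, hZ⟩, hy⟩
      exact fun hyx => (Set.disjoint_left.mp hZ) hy hyx
  rw [h]
  rw [Set.sUnion_eq_biUnion]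
  refine Set.Finite.isClosed_biUnion
    ((NoetherianSpace.finite_irreducibleComponents (α := X)).subset (Set.sep_subset _ _)) ?_
  intro Z hZ
  exact isClosed_of_mem_irreducibleComponents Z hZ.1

theorem homeo_image_cc {X Y : Type*} [TopologicalSpace X] [TopologicalSpace Y] (h : X ≃ₜ Y)
    (x : X) : h '' connectedComponent x = connectedComponent (h x) := by
  apply Set.Subset.antisymm
  · exact (isConnected_connectedComponent.image h h.continuous.continuousOn).subset_connectedComponent
      ⟨x, mem_connectedComponent, rfl⟩
  · intro y hy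
    have h1 : h.symm '' connectedComponent (h x) ⊆ connectedComponent x := by
      have h3 := (isConnected_connectedComponent (x := h x)).image h.symm
        h.symm.continuous.continuousOn
      have h2 := h3.subset_connectedComponent (x := h.symm (h x))
        ⟨h x, mem_connectedComponent, rfl⟩
      rwa [h.symm_apply_apply] at h2
    exact ⟨h.symm y, h1 ⟨y, hy, rfl⟩, h.apply_symm_apply y⟩

section main
variable (A : Type u) (R : Type v) [CommRing A] [CommRing R] [Algebra A R] [IsNoetherianRing R]
    (G : Type u) [Group G] [Finite G] [MulSemiringAction G R] [SMulCommClass G A R]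
    [Algebra.IsInvariant A R G] [FaithfulSMul A R]
    [ConnectedSpace (PrimeSpectrum A)]

/-- the homeomorphism of Spec R attached to g -/
noncomputable def hh (g : G) : PrimeSpectrum R ≃ₜ PrimeSpectrum R where
  toFun := PrimeSpectrum.comap (MulSemiringAction.toRingHom G R g)
  invFun := PrimeSpectrum.comap (MulSemiringAction.toRingHom G R g⁻¹)
  left_inv p := by
    rw [← PrimeSpectrum.comap_comp_apply]
    have : (MulSemiringAction.toRingHom G R g).comp (MulSemiringAction.toRingHom G R g⁻¹) =
        RingHom.id R := by
      ext r; simp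
    rw [this]; rfl
  right_inv p := by
    rw [← PrimeSpectrum.comap_comp_apply]
    have : (MulSemiringAction.toRingHom G R g⁻¹).comp (MulSemiringAction.toRingHom G R g) =
        RingHom.id R := by
      ext r; simp
    rw [this]; rfl
  continuous_toFun := PrimeSpectrum.continuous_comap _
  continuous_invFun := PrimeSpectrum.continuous_comap _

omit [IsNoetherianRing R] [Finite G] in
theorem hh_comp (g g' : G) (p : PrimeSpectrum R) :
    hh R G g (hh R G g' p) = hh R G (g' * g) p := by
  show PrimeSpectrum.comap _ (PrimeSpectrum.comap _ p) = PrimeSpectrum.comap _ p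
  rw [← PrimeSpectrum.comap_comp_apply]
  congr 1
  ext r
  simp [mul_smul]

include A in
theorem main (x y : PrimeSpectrum R) :
    ∃ g : G, PrimeSpectrum.comap (MulSemiringAction.toRingHom G R g) '' connectedComponent x =
      connectedComponent y := by
  classical
  have hopen : IsOpen (connectedComponent x) := isOpen_connectedComponent_of_noetherian x
  have hclopen : IsClopen (connectedComponent x) := ⟨isClosed_connectedComponent, hopen⟩
  set T : Set (PrimeSpectrum R) := ⋃ g : G, (hh R G g) '' connectedComponent x with hT
  have hTclopen : IsClopen T := by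
    refine isClopen_iUnion_of_finite ?_
    intro g
    exact ⟨(hh R G g).isClosed_image.mpr hclopen.1, (hh R G g).isOpen_image.mpr hclopen.2⟩
  have hxT : x ∈ T := by
    refine Set.mem_iUnion.mpr ⟨1, x, mem_connectedComponent, ?_⟩
    show PrimeSpectrum.comap _ x = x
    have : MulSemiringAction.toRingHom G R 1 = RingHom.id R := by ext r; simp
    rw [this]; rfl
  have hTstab : ∀ g : G, ∀ p, hh R G g p ∈ T ↔ p ∈ T := by
    intro g p
    constructor
    · intro h
      obtain ⟨g', c, hc, hcp⟩ := Set.mem_iUnion.mp h
      refine Set.mem_iUnion.mpr ⟨g' * g⁻¹, c, hc, ?_⟩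
      have h1 : hh R G g⁻¹ (hh R G g' c) = hh R G g⁻¹ (hh R G g p) := by rw [hcp]
      rw [hh_comp, hh_comp] at h1
      rw [h1]
      simp only [mul_inv_cancel]
      show PrimeSpectrum.comap _ p = p
      have : MulSemiringAction.toRingHom G R 1 = RingHom.id R := by ext r; simp
      rw [this]; rfl
    · intro h
      obtain ⟨g', c, hc, rfl⟩ := Set.mem_iUnion.mp h
      exact Set.mem_iUnion.mpr ⟨g' * g, c, hc, (hh_comp R G g g' c).symm⟩
  obtain ⟨e, he, hTe⟩ := PrimeSpectrum.isClopen_iff.mp hTclopen
  have hinv : ∀ g : G, g • e = e := by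
    intro g
    have hge : IsIdempotentElem (g • e) := by
      show g • e * g • e = g • e
      rw [← smul_mul', he.eq]
    refine PrimeSpectrum.basicOpen_injOn_isIdempotentElem hge he ?_
    ext p
    have h1 : p ∈ (PrimeSpectrum.basicOpen (g • e) : Set (PrimeSpectrum R)) ↔
        hh R G g p ∈ (PrimeSpectrum.basicOpen e : Set (PrimeSpectrum R)) := by
      simp only [SetLike.mem_coe, PrimeSpectrum.mem_basicOpen]
      rfl
    show p ∈ (PrimeSpectrum.basicOpen (g • e) : Set (PrimeSpectrum R)) ↔
      p ∈ (PrimeSpectrum.basicOpen e : Set (PrimeSpectrum R))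
    rw [h1, ← hTe, hTstab]
  obtain ⟨a, ha⟩ := Algebra.IsInvariant.isInvariant (A := A) (G := G) e hinv
  have hainj := FaithfulSMul.algebraMap_injective A R
  have haid : IsIdempotentElem a := by
    apply hainj
    rw [map_mul, ha, he.eq]
  have hDa : IsClopen (PrimeSpectrum.basicOpen a : Set (PrimeSpectrum A)) :=
    PrimeSpectrum.isClopen_iff.mpr ⟨a, haid, rfl⟩
  have hTpre : T = PrimeSpectrum.comap (algebraMap A R) ⁻¹'
      (PrimeSpectrum.basicOpen a : Set (PrimeSpectrum A)) := by
    rw [hTe, ← ha]
    rfl
  have hTuniv : T = Set.univ := by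
    rcases isClopen_iff.mp hDa with h0 | h1
    · rw [hTpre, h0] at hxT
      exact absurd hxT (by simp)
    · rw [hTpre, h1]; rfl
  have hyT : y ∈ T := by rw [hTuniv]; trivial
  obtain ⟨g, c, hc, hcy⟩ := Set.mem_iUnion.mp hyT
  refine ⟨g, ?_⟩
  have h1 : (hh R G g) '' connectedComponent x = connectedComponent (hh R G g x) :=
    homeo_image_cc (hh R G g) x
  have h2 : y ∈ connectedComponent (hh R G g x) := by
    rw [← h1]; exact ⟨c, hc, hcy⟩
  show (hh R G g) '' connectedComponent x = connectedComponent y
  rw [h1]
  exact connectedComponent_eq h2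

end main

end Groth.Agent.Helper29.ConnOrbit
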