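import Mathlib

set_option linter.unusedSectionVars false
set_option autoImplicit false

namespace Groth.Agent.Helper29.ContAut

open CategoryTheory
open scoped FintypeCatDiscrete

universe u

variable (G : Type u) [Group G] [TopologicalSpace G] [IsTopologicalGroup G]

abbrev FF : ContAction FintypeCat.{u} G ⥤ FintypeCat.{u} :=
  forget₂ (ContAction FintypeCat.{u} G) FintypeCat.{u}

variable {G}

/-- the automorphism of the forgetful functor given by a group element -/
noncomputable def iotaFun (g : G) : Aut (FF G) :=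
  NatIso.ofComponents (fun X => X.obj.ρAut g) (by
    intro X Y f
    exact (f.hom.comm g).symm)

theorem iotaFun_app (g : G) (X : ContAction FintypeCat.{u} G) (x : X.obj.V) :
    (iotaFun g).hom.app X x = (X.obj.ρ g).hom x := rfl

variable (G)

noncomputable def iota : G →* Aut (FF G) where
  toFun := iotaFun
  map_one' := by
    ext X x
    rw [iotaFun_app, map_one]
    rfl
  map_mul' g h := by
    ext X x
    rw [iotaFun_app, map_mul]
    rfl

theorem iota_app (g : G) (X : ContAction FintypeCat.{u} G) (x : X.obj.V) :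
    (iota G g).hom.app X x = (X.obj.ρ g).hom x := rfl

open PreGaloisCategory

theorem continuous_act (X : ContAction FintypeCat.{u} G) (x : X.obj.V) :
    Continuous (fun g : G => (X.obj.ρ g).hom x) := by
  have h := X.property
  rw [Action.isContinuous_def] at h
  exact h.comp (Continuous.prodMk continuous_id (continuous_const (y := x)))

theorem isOpen_eq_act (X : ContAction FintypeCat.{u} G) (x y : X.obj.V) :
    IsOpen {g : G | (X.obj.ρ g).hom x = y} :=
  (isOpen_discrete ({y} : Set X.obj.V)).preimage (continuous_act G X x)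

theorem continuous_iota : Continuous (iota G) := by
  rw [continuous_induced_rng]
  apply continuous_pi
  intro X
  rw [continuous_discrete_rng]
  intro σ₀
  by_cases hne : ∃ g₀ : G, (autEmbedding (FF G) (iota G g₀)) X = σ₀
  · obtain ⟨g₀, rfl⟩ := hne
    have : ((fun a => (autEmbedding (FF G) ∘ iota G) a X) ⁻¹'
        {(autEmbedding (FF G) (iota G g₀)) X}) =
        ⋂ x : X.obj.V, {g : G | (X.obj.ρ g).hom x = (X.obj.ρ g₀).hom x} := by
      ext g
      simp only [Set.mem_preimage, Set.mem_singleton_iff, Function.comp_apply, Set.mem_iInter,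
        Set.mem_ofPred_eq]
      constructor
      · intro h x
        have := congrArg (fun τ : Aut ((FF G).obj X) => τ.hom x) h
        exact this
      · intro h
        apply Iso.ext
        ext x
        exact h x
    rw [this]
    exact isOpen_iInter_of_finite (fun x => isOpen_eq_act G X x _)
  · have : ((fun a => (autEmbedding (FF G) ∘ iota G) a X) ⁻¹' {σ₀}) = ∅ := by
      ext g
      simp only [Set.mem_preimage, Set.mem_singleton_iff, Function.comp_apply, Set.mem_empty_iff_false,
        iff_false]
      intro h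
      exact hne ⟨g, h⟩
    rw [this]
    exact isOpen_empty

section Dense

variable {G}

/-- the product representation on a finite set of objects -/
noncomputable def rhoI (I : Finset (ContAction FintypeCat.{u} G)) :
    G →* (∀ X : I, Aut X.1.obj.V) :=
  MonoidHom.pi (fun X => X.1.obj.ρAut)

theorem mem_ker_rhoI (I : Finset (ContAction FintypeCat.{u} G)) (g : G) :
    g ∈ (rhoI I).ker ↔ ∀ X ∈ I, ∀ x : X.obj.V, (X.obj.ρ g).hom x = x := by
  rw [MonoidHom.mem_ker]
  constructor
  · intro h X hX x
    have h1 := congrFun h ⟨X, hX⟩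
    have h2 := congrArg (fun τ : Aut X.obj.V => τ.hom x) h1
    exact h2
  · intro h
    funext X
    apply Iso.ext
    ext x
    exact h X.1 X.2 x

theorem isOpen_ker_rhoI (I : Finset (ContAction FintypeCat.{u} G)) :
    IsOpen ((rhoI I).ker : Set G) := by
  have : ((rhoI I).ker : Set G) =
      ⋂ X : I, ⋂ x : X.1.obj.V, {g | (X.1.obj.ρ g).hom x = x} := by
    ext g
    simp only [SetLike.mem_coe, mem_ker_rhoI, Set.mem_iInter, Set.mem_ofPred_eq, Subtype.forall]
  rw [this]
  exact isOpen_iInter_of_finite (fun X => isOpen_iInter_of_finite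
    (fun x => isOpen_eq_act G X.1 x x))

instance finite_quot (I : Finset (ContAction FintypeCat.{u} G)) : Finite (G ⧸ (rhoI I).ker) :=
  Finite.of_equiv _ (QuotientGroup.quotientKerEquivRange (rhoI I)).symm.toEquiv

end Dense

section Obj

variable {G}

/-- a finite `G`-set with open point stabilizer conditions as a continuous action -/
noncomputable def mkObj (S : Type u) [Fintype S] [MulAction G S]
    (hS : ∀ s t : S, IsOpen {g : G | g • s = t}) : ContAction FintypeCat.{u} G :=
  ⟨Action.FintypeCat.ofMulAction G (FintypeCat.of S), by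
    rw [Action.isContinuous_def]
    have hd : DiscreteTopology ((forget₂ (Action FintypeCat G) TopCat).obj
      (Action.FintypeCat.ofMulAction G (FintypeCat.of S))) := ⟨rfl⟩
    have hd' : DiscreteTopology ((forget₂ FintypeCat TopCat).obj
      (Action.FintypeCat.ofMulAction G (FintypeCat.of S)).V) := ⟨rfl⟩
    rw [continuous_prod_of_discrete_right]
    intro s
    rw [continuous_discrete_rng]
    intro t
    exact hS s t⟩

theorem mkObj_rho (S : Type u) [Fintype S] [MulAction G S]
    (hS : ∀ s t : S, IsOpen {g : G | g • s = t}) (g : G) (s : S) :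
    ((mkObj S hS).obj.ρ g).hom s = g • s := rfl

/-- morphisms out of `mkObj` -/
noncomputable def mkHom (S : Type u) [Fintype S] [MulAction G S]
    (hS : ∀ s t : S, IsOpen {g : G | g • s = t}) (X : ContAction FintypeCat.{u} G)
    (f : S → X.obj.V) (hf : ∀ (g : G) (s : S), f (g • s) = (X.obj.ρ g).hom (f s)) :
    mkObj S hS ⟶ X :=
  ObjectProperty.homMk ⟨FintypeCat.homMk f, by
    intro g
    ext s
    exact hf g s⟩

theorem mkHom_apply (S : Type u) [Fintype S] [MulAction G S]
    (hS : ∀ s t : S, IsOpen {g : G | g • s = t}) (X : ContAction FintypeCat.{u} G)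
    (f : S → X.obj.V) (hf : ∀ (g : G) (s : S), f (g • s) = (X.obj.ρ g).hom (f s)) (s : S) :
    ((FF G).map (mkHom S hS X f hf)).hom s = f s := rfl

end Obj

section Dense2

variable {G}

theorem isOpen_quot_act (N : Subgroup G) (hN : IsOpen (N : Set G)) (s t : G ⧸ N) :
    IsOpen {g : G | g • s = t} := by
  obtain ⟨a, rfl⟩ := QuotientGroup.mk_surjective s
  obtain ⟨b, rfl⟩ := QuotientGroup.mk_surjective t
  have : {g : G | g • (a : G ⧸ N) = (b : G ⧸ N)} = (fun g : G => (g * a)⁻¹ * b) ⁻¹' (N : Set G) := by
    ext g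
    simp only [Set.mem_ofPred_eq, Set.mem_preimage, SetLike.mem_coe]
    rw [← QuotientGroup.eq]
    rfl
  rw [this]
  exact hN.preimage (by fun_prop)

theorem exists_agree (I : Finset (ContAction FintypeCat.{u} G)) (σ : Aut (FF G)) :
    ∃ g : G, ∀ X ∈ I, ∀ x : X.obj.V, (X.obj.ρ g).hom x = σ.hom.app X x := by
  classical
  let N := (rhoI I).ker
  have hNopen : IsOpen (N : Set G) := isOpen_ker_rhoI I
  let _ : Fintype (G ⧸ N) := Fintype.ofFinite _
  let Y := mkObj (G ⧸ N) (isOpen_quot_act N hNopen)
  obtain ⟨g, hg⟩ := QuotientGroup.mk_surjective (σ.hom.app Y ((1 : G) : G ⧸ N))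
  refine ⟨g, fun X hX x => ?_⟩
  -- the orbit map
  let o : G ⧸ N → X.obj.V := fun y => Quotient.liftOn' y (fun a => (X.obj.ρ a).hom x) (by
    intro a b hab
    rw [QuotientGroup.leftRel_apply] at hab
    have h1 := (mem_ker_rhoI I _).mp hab X hX x
    have h2 : b = a * (a⁻¹ * b) := by group
    show (X.obj.ρ a).hom x = (X.obj.ρ b).hom x
    rw [h2, map_mul]
    show _ = (X.obj.ρ a).hom ((X.obj.ρ (a⁻¹ * b)).hom x)
    rw [h1])
  have ho : ∀ (a : G) (y : G ⧸ N), o (a • y) = (X.obj.ρ a).hom (o y) := by
    intro a y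
    obtain ⟨b, rfl⟩ := QuotientGroup.mk_surjective y
    show (X.obj.ρ (a * b)).hom x = (X.obj.ρ a).hom ((X.obj.ρ b).hom x)
    rw [map_mul]
    rfl
  let f := mkHom (G ⧸ N) (isOpen_quot_act N hNopen) X o ho
  have h3 := NatTrans.naturality_apply σ.hom f ((1 : G) : G ⧸ N)
  have h4 : ((FF G).map f) ((1 : G) : G ⧸ N) = x := by
    show (X.obj.ρ 1).hom x = x
    rw [map_one]
    rfl
  rw [h4] at h3
  rw [h3, ← hg]
  rfl

end Dense2

theorem denseRange_iota : DenseRange (iota G) := by
  classical
  intro σ
  rw [mem_closure_iff]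
  intro U hU hσU
  obtain ⟨V, hV, rfl⟩ := isOpen_induced_iff.mp hU
  obtain ⟨I, u, hu, hsub⟩ := isOpen_pi_iff.mp hV _ hσU
  obtain ⟨g, hg⟩ := exists_agree I σ
  refine ⟨iota G g, ?_, g, rfl⟩
  apply hsub
  intro X hX
  have : autEmbedding (FF G) (iota G g) X = autEmbedding (FF G) σ X := by
    apply Iso.ext
    ext x
    exact hg X hX x
  rw [this]
  exact (hu X hX).2

section UP

variable {G}

theorem exists_factor (Q : Type u) [Group Q] [Finite Q] [TopologicalSpace Q] [DiscreteTopology Q]
    (π : G →* Q) (hπ : Continuous π) :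
    ∃ ψ : Aut (FF G) →* Q, Continuous ψ ∧ ψ.comp (iota G) = π := by
  classical
  let _ : Fintype Q := Fintype.ofFinite Q
  let _ : MulAction G Q := MulAction.compHom Q π
  have hsm : ∀ (g : G) (q : Q), g • q = π g * q := fun g q => rfl
  have hS : ∀ s t : Q, IsOpen {g : G | g • s = t} := by
    intro s t
    have : {g : G | g • s = t} = π ⁻¹' {t * s⁻¹} := by
      ext g
      simp only [Set.mem_ofPred_eq, Set.mem_preimage, Set.mem_singleton_iff, hsm]
      exact eq_mul_inv_iff_mul_eq.symm
    rw [this]
    exact (isOpen_discrete _).preimage hπ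
  let Y := mkObj Q hS
  -- right multiplications
  let app : Aut (FF G) → Q → Q := fun σ q => σ.hom.app Y q
  have hr : ∀ (σ : Aut (FF G)) (q : Q), app σ q = app σ 1 * q := by
    intro σ q
    let f := mkHom Q hS Y (fun s : Q => s * q) (by
      intro g s
      show (π g * s) * q = π g * (s * q)
      rw [mul_assoc])
    have h3 := NatTrans.naturality_apply σ.hom f (1 : Q)
    have h4 : ((FF G).map f) (1 : Q) = q := one_mul q
    rw [h4] at h3
    show σ.hom.app Y q = _
    rw [h3]
    rfl
  let ψ : Aut (FF G) →* Q := MonoidHom.mk' (fun σ => app σ 1) (by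
    intro σ τ
    show app σ (app τ 1) = _
    rw [hr σ])
  refine ⟨ψ, ?_, ?_⟩
  · have h1 : Continuous (fun σ : Aut (FF G) => autEmbedding (FF G) σ Y) :=
      (continuous_apply Y).comp continuous_induced_dom
    have h2 : Continuous (fun τ : Aut ((FF G).obj Y) => (show Q from τ.hom (1 : Q))) :=
      continuous_of_discreteTopology
    exact h2.comp h1
  · ext g
    show (iota G g).hom.app Y (1 : Q) = π g
    rw [iota_app]
    show π g * 1 = π g
    rw [mul_one]

end UP

theorem main :
    ∃ ι : G →* Aut (forget₂ (ContAction FintypeCat.{u} G) FintypeCat.{u}),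
      Continuous ι ∧
      (∀ (g : G) (X : ContAction FintypeCat.{u} G) (x : X.obj.V),
        (ι g).hom.app X x = (X.obj.ρ g).hom x) ∧
      DenseRange ι ∧
      ∀ (Q : Type u) [Group Q] [Finite Q] [TopologicalSpace Q] [DiscreteTopology Q] (π : G →* Q),
        Continuous π → ∃! ψ : Aut (forget₂ (ContAction FintypeCat.{u} G) FintypeCat.{u}) →* Q,
          Continuous ψ ∧ ψ.comp ι = π := by
  refine ⟨iota G, continuous_iota G, fun g X x => rfl, denseRange_iota G, ?_⟩
  intro Q _ _ _ _ π hπ
  obtain ⟨ψ, hψc, hψ⟩ := exists_factor Q π hπ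
  refine ⟨ψ, ⟨hψc, hψ⟩, ?_⟩
  rintro ψ' ⟨hψ'c, hψ'⟩
  have : (ψ' : Aut (FF G) → Q) = ψ := by
    apply (denseRange_iota G).equalizer hψ'c hψc
    funext g
    show (ψ'.comp (iota G)) g = (ψ.comp (iota G)) g
    rw [hψ, hψ']
  exact DFunLike.coe_injective this

end Groth.Agent.Helper29.ContAut
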