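import Mathlib

namespace Groth.Agent.Helper29.CosepA

open CategoryTheory CategoryTheory.Limits

universe u₁ v₁
variable {E : Type u₁} [Category.{v₁} E] {ι : Type v₁} (G : ι → E)

/-- the `G`-kernel relation of a morphism `e : Z ⟶ Q` -/
def rel {Z Q : E} (e : Z ⟶ Q) : Set (Σ t' : ι, (G t' ⟶ Z) × (G t' ⟶ Z)) :=
  {p | p.2.1 ≫ e = p.2.2 ≫ e}

variable {G}

lemma coeq_of_rel_eq (hG : (ObjectProperty.ofObj G).IsSeparating) {Z Q Q' : E}
    (e : Z ⟶ Q) (e' : Z ⟶ Q') (h : rel G e = rel G e') {W : E} (a b : W ⟶ Z)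
    (hab : a ≫ e = b ≫ e) : a ≫ e' = b ≫ e' := by
  refine hG _ _ (fun X hX x => ?_)
  obtain ⟨t'⟩ := hX
  have hmem : (⟨t', (x ≫ a, x ≫ b)⟩ : Σ t' : ι, (G t' ⟶ Z) × (G t' ⟶ Z)) ∈ rel G e := by
    change (x ≫ a) ≫ e = (x ≫ b) ≫ e
    rw [Category.assoc, Category.assoc, hab]
  rw [h] at hmem
  have : (x ≫ a) ≫ e' = (x ≫ b) ≫ e' := hmem
  simpa using this

theorem main (hG : (ObjectProperty.ofObj G).IsSeparating)
    [EnoughInjectives E] [∀ t, HasBinaryCoproduct (G t) (G t)]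
    (hfac : ∀ (t : ι) (X : E) (f : G t ⨿ G t ⟶ X),
      ∃ (Y : E) (e : G t ⨿ G t ⟶ Y) (m : Y ⟶ X), EffectiveEpi e ∧ Mono m ∧ e ≫ m = f) :
    ∃ (κ : Type v₁) (H : κ → E),
      (∀ k, Injective (H k)) ∧ (ObjectProperty.ofObj H).IsCoseparating := by
  classical
  let κ : Type v₁ := Σ t : ι, Set (Σ t' : ι, (G t' ⟶ G t ⨿ G t) × (G t' ⟶ G t ⨿ G t))
  let good : κ → Prop := fun k =>
    ∃ (Q : E) (e : G k.1 ⨿ G k.1 ⟶ Q), EffectiveEpi e ∧ rel G e = k.2
  let H : κ → E := fun k =>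
    if h : good k then Injective.under h.choose else Injective.under (G k.1)
  have hH : ∀ k, Injective (H k) := by
    intro k
    dsimp only [H]
    split_ifs <;> infer_instance
  refine ⟨κ, H, hH, ?_⟩
  intro X Y f g hfg
  by_contra hne
  -- find a separating element
  have : ∃ (t : ι) (x : G t ⟶ X), x ≫ f ≠ x ≫ g := by
    by_contra hcon
    push Not at hcon
    exact hne (hG f g (fun Z hZ x => by obtain ⟨t⟩ := hZ; exact hcon t x))
  obtain ⟨t, x, hx⟩ := this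
  obtain ⟨Q, e, m, he, hm, hem⟩ := hfac t Y (coprod.desc (x ≫ f) (x ≫ g))
  let k : κ := ⟨t, rel G e⟩
  have hk : good k := ⟨Q, e, he, rfl⟩
  obtain ⟨he', hrel⟩ := hk.choose_spec.choose_spec
  set Q' := hk.choose with hQ'
  set e' : G t ⨿ G t ⟶ Q' := hk.choose_spec.choose with he'def
  have hHk : H k = Injective.under Q' := by
    dsimp only [H]
    rw [dif_pos hk]
  -- maps between Q and Q'
  let θ : Q ⟶ Q' := EffectiveEpi.desc e e' (fun a b hab => coeq_of_rel_eq hG e e' hrel.symm a b hab)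
  have hθ : e ≫ θ = e' := EffectiveEpi.fac e e' _
  let θ' : Q' ⟶ Q := EffectiveEpi.desc e' e (fun a b hab => coeq_of_rel_eq hG e' e hrel a b hab)
  have hθ' : e' ≫ θ' = e := EffectiveEpi.fac e' e _
  -- extension to the injective
  let hh : Y ⟶ Injective.under Q' := Injective.factorThru (θ ≫ Injective.ι Q') m
  have hhm : m ≫ hh = θ ≫ Injective.ι Q' := Injective.comp_factorThru _ _
  have key := hfg (H k) ⟨k⟩ (hh ≫ eqToHom hHk.symm)
  have key' : f ≫ hh = g ≫ hh := by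
    have := key =≫ eqToHom hHk
    simpa using this
  apply hx
  have h1 : coprod.inl ≫ e' ≫ Injective.ι Q' = coprod.inr ≫ e' ≫ Injective.ι Q' := by
    rw [← hθ, Category.assoc, ← hhm, reassoc_of% hem, coprod.inl_desc_assoc,
      coprod.inr_desc_assoc, Category.assoc, Category.assoc, key']
  have h2 : (coprod.inl : G t ⟶ G t ⨿ G t) ≫ e' = coprod.inr ≫ e' := by
    rw [← cancel_mono (Injective.ι Q')]
    simpa using h1
  have h3 : (coprod.inl : G t ⟶ G t ⨿ G t) ≫ e = coprod.inr ≫ e := by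
    rw [← hθ', reassoc_of% h2]
  have h4 := h3 =≫ m
  rw [Category.assoc, Category.assoc, hem, coprod.inl_desc, coprod.inr_desc] at h4
  exact h4

end Groth.Agent.Helper29.CosepA
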