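import Mathlib

namespace Groth.Agent.Helper29.CplA

universe u

open Submodule

section

variable {A B : Type u} [CommRing A] [CommRing B] [IsNoetherianRing A] (I : Ideal A) (c : A →+* B)
  (R : ℕ → Type u) [∀ n, CommRing (R n)] (π : ∀ n, B →+* R n) (q : ∀ n, A →+* R n)

theorem flat_of_adic_limit
    (h1 : ∀ n a, π n (c a) = q n a) (h2 : ∀ n, Function.Surjective (q n))
    (h3 : ∀ n, RingHom.ker (q n) = I ^ (n + 1))
    (h4 : ∀ m n, m ≤ n → ∀ b, π n b = 0 → π m b = 0)
    (h5 : ∀ b, (∀ n, π n b = 0) → b = 0)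
    (h6 : ∀ s : ℕ → B, (∀ m n, m ≤ n → π m (s n) = π m (s m)) → ∃ b, ∀ n, π n b = π n (s n)) :
    c.Flat := by
  letI : Algebra A B := c.toAlgebra
  letI : ∀ n, Module A (R n) := fun n => Module.compHom (R n) (q n)
  let qL : ∀ n, A →ₗ[A] R n := fun n =>
    { toFun := q n
      map_add' := map_add (q n)
      map_smul' := fun a x => by
        change q n (a * x) = q n a * q n x
        exact map_mul (q n) a x }
  let πL : ∀ n, B →ₗ[A] R n := fun n =>
    { toFun := π n
      map_add' := map_add (π n)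
      map_smul' := fun a b => by
        change π n (c a * b) = q n a * π n b
        rw [map_mul, h1] }
  have hsmul : ∀ n : ℕ, (I ^ n • ⊤ : Submodule A A) = I ^ n := fun n => by
    rw [smul_eq_mul, Ideal.mul_top]
  have hker : ∀ n, LinearMap.ker (qL n) = (I ^ (n + 1) • ⊤ : Submodule A A) := fun n => by
    rw [hsmul]
    ext a
    rw [← h3 n]
    rfl
  have hle : ∀ n, LinearMap.ker (qL n) ≤ (I ^ n • ⊤ : Submodule A A) := fun n => by
    rw [hker]
    exact Submodule.pow_smul_top_le I A (Nat.le_succ n)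
  let g : ∀ n, B →ₗ[A] A ⧸ (I ^ n • ⊤ : Submodule A A) := fun n =>
    (Submodule.factor (hle n)) ∘ₗ
      ((qL n).quotKerEquivOfSurjective (h2 n)).symm.toLinearMap ∘ₗ πL n
  have hG : ∀ n a b, q n a = π n b → g n b = mkQ (I ^ n • ⊤ : Submodule A A) a := by
    intro n a b hab
    have e1 : ((qL n).quotKerEquivOfSurjective (h2 n)).symm (π n b) =
        Submodule.Quotient.mk a := by
      rw [LinearEquiv.symm_apply_eq, LinearMap.quotKerEquivOfSurjective_apply_mk]
      exact hab.symm
    change Submodule.factor (hle n) (((qL n).quotKerEquivOfSurjective (h2 n)).symm (π n b)) = _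
    rw [e1]
    exact Submodule.factor_mk (hle n) a
  have hdown : ∀ m n, m ≤ n → ∀ a b, q n a = π n b → q m a = π m b := by
    intro m n hmn a b hab
    have : π n (c a - b) = 0 := by rw [map_sub, h1, hab, sub_self]
    have h' := h4 m n hmn _ this
    rw [map_sub, h1, sub_eq_zero] at h'
    exact h'
  have hcompat : ∀ {m n : ℕ} (hle' : m ≤ n),
      AdicCompletion.transitionMap I A hle' ∘ₗ g n = g m := by
    intro m n hmn
    apply LinearMap.ext
    intro b
    obtain ⟨a, ha⟩ := h2 n (π n b)
    rw [LinearMap.comp_apply, hG n a b ha, hG m a b (hdown m n hmn a b ha)]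
    exact Submodule.factor_mk _ a
  let Φ : B →ₗ[A] AdicCompletion I A := AdicCompletion.lift I g hcompat
  have hΦ : ∀ b n, (Φ b).val n = g n b := fun b n => rfl
  have hmem : ∀ n (a : A), mkQ (I ^ n • ⊤ : Submodule A A) a = 0 ↔ a ∈ I ^ n := by
    intro n a
    rw [mkQ_apply, Submodule.Quotient.mk_eq_zero, hsmul]
  have hinj : Function.Injective Φ := by
    rw [injective_iff_map_eq_zero]
    intro b hb
    apply h5
    intro n
    obtain ⟨a, ha⟩ := h2 (n + 1) (π (n + 1) b)
    have e1 : g (n + 1) b = 0 := by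
      rw [← hΦ, hb]
      rfl
    rw [hG (n + 1) a b ha, hmem] at e1
    have e2 : q n a = 0 := by
      have : a ∈ RingHom.ker (q n) := by rw [h3]; exact e1
      exact this
    rw [← hdown n (n + 1) (Nat.le_succ n) a b ha]
    exact e2
  have hsurj : Function.Surjective Φ := by
    intro xh
    obtain ⟨f, rfl⟩ := AdicCompletion.mk_surjective I A xh
    have hcau : ∀ m n, m ≤ n → π m (c (f (n + 1))) = π m (c (f (m + 1))) := by
      intro m n hmn
      rw [h1, h1]
      have hc := f.property (Nat.succ_le_succ hmn)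
      rw [SModEq.sub_mem, hsmul] at hc
      have : f (m + 1) - f (n + 1) ∈ RingHom.ker (q m) := by rw [h3]; exact hc
      have h0 : q m (f (m + 1) - f (n + 1)) = 0 := this
      rw [map_sub, sub_eq_zero] at h0
      exact h0.symm
    obtain ⟨b, hb⟩ := h6 (fun n => c (f (n + 1))) hcau
    refine ⟨b, ?_⟩
    apply AdicCompletion.ext
    intro n
    rw [hΦ, hG n (f (n + 1)) b (by rw [hb n, h1])]
    change _ = mkQ (I ^ n • ⊤ : Submodule A A) (f n)
    have hc := f.property (Nat.le_succ n)
    exact ((SModEq.def).mp hc).symm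
  let e : B ≃ₗ[A] AdicCompletion I A := LinearEquiv.ofBijective Φ ⟨hinj, hsurj⟩
  exact Module.Flat.of_linearEquiv e

end

end Groth.Agent.Helper29.CplA
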