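import Mathlib
import Groth.Prelude.Def_FSch5
import Groth.Agent.Lib.Helper6.OshSurj
import Groth.Agent.Lib.Helper29.CplA

open AlgebraicGeometry CategoryTheory CategoryTheory.Limits Opposite TopologicalSpace

namespace Groth.Agent.Helper29.CplB

universe u

open Groth.Agent.Helper6.OshSurj Groth.Agent.Helper6.TowerLim

variable (X : Scheme.{u}) [IsLocallyNoetherian X] (𝓘 : X.IdealSheafData)
  (h : (FSch.completionAlong X 𝓘).IsFormal)

/-- the structure map on sections over `V` -/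
noncomputable abbrev cV (V : X.Opens) :
    Γ(X, V) →+* ((FSch.completionAlong X 𝓘).Osh h).obj.obj (op ((FSch.completionToX X 𝓘 0) ⁻¹ᵁ V)) :=
  ((FSch.schSharp (FSch.completionAlong X 𝓘) h (FSch.completionToX X 𝓘)
    (FSch.completionToX_comm X 𝓘)).hom.app (op V)).hom

/-- the level maps on sections -/
noncomputable abbrev qV (V : X.Opens) (n : ℕ) :
    Γ(X, V) →+* Γ((FSch.completionAlong X 𝓘).X n,
      (FSch.completionAlong X 𝓘).lvU h n ((FSch.completionToX X 𝓘 0) ⁻¹ᵁ V)) :=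
  ((FSch.completionToX X 𝓘 n).appLE V
    ((FSch.completionAlong X 𝓘).lvU h n ((FSch.completionToX X 𝓘 0) ⁻¹ᵁ V))
    (FSch.lvU_p (FSch.completionAlong X 𝓘) h (FSch.completionToX X 𝓘)
      (FSch.completionToX_comm X 𝓘) n V).ge).hom

/-- the projections -/
noncomputable abbrev πV (V : X.Opens) (n : ℕ) :
    ((FSch.completionAlong X 𝓘).Osh h).obj.obj (op ((FSch.completionToX X 𝓘 0) ⁻¹ᵁ V)) →+*
      Γ((FSch.completionAlong X 𝓘).X n,
        (FSch.completionAlong X 𝓘).lvU h n ((FSch.completionToX X 𝓘 0) ⁻¹ᵁ V)) :=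
  (((FSch.completionAlong X 𝓘).OshProj h n).hom.app (op ((FSch.completionToX X 𝓘 0) ⁻¹ᵁ V))).hom

theorem h1 (V : X.Opens) (n : ℕ) (a : Γ(X, V)) :
    πV X 𝓘 h V n (cV X 𝓘 h V a) = qV X 𝓘 h V n a := by
  have e := FSch.schSharp_proj (FSch.completionAlong X 𝓘) h (FSch.completionToX X 𝓘)
    (FSch.completionToX_comm X 𝓘) n
  have e2 := congrArg (fun k => k.hom.app (op V)) e
  exact ConcreteCategory.congr_hom e2 a


theorem ker_appLE_of_eq {X : Scheme.{u}} (I : X.IdealSheafData) (V : X.affineOpens)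
    {U' : I.subscheme.Opens} (hU' : I.subschemeι ⁻¹ᵁ V.1 = U')
    (e : U' ≤ I.subschemeι ⁻¹ᵁ V.1) :
    RingHom.ker (I.subschemeι.appLE V.1 U' e).hom = I.ideal V := by
  subst hU'
  rw [Scheme.Hom.appLE_eq_app]
  exact I.ker_subschemeι_app V

theorem h2 (V : X.Opens) (hV : IsAffineOpen V) (n : ℕ) :
    Function.Surjective (qV X 𝓘 h V n) := by
  haveI : IsClosedImmersion (FSch.completionToX X 𝓘 n) :=
    inferInstanceAs (IsClosedImmersion (𝓘 ^ (n + 1)).subschemeι)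
  exact appLE_surjective_of_eq (FSch.completionToX X 𝓘 n) hV
    (FSch.lvU_p (FSch.completionAlong X 𝓘) h (FSch.completionToX X 𝓘)
      (FSch.completionToX_comm X 𝓘) n V) _

theorem h3 (V : X.Opens) (hV : IsAffineOpen V) (n : ℕ) :
    RingHom.ker (qV X 𝓘 h V n) = (𝓘.ideal ⟨V, hV⟩) ^ (n + 1) :=
  ker_appLE_of_eq (𝓘 ^ (n + 1)) ⟨V, hV⟩
    (FSch.lvU_p (FSch.completionAlong X 𝓘) h (FSch.completionToX X 𝓘)
      (FSch.completionToX_comm X 𝓘) n V) _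

theorem h4 (V : X.Opens) (m n : ℕ) (hmn : m ≤ n)
    (b : ((FSch.completionAlong X 𝓘).Osh h).obj.obj (op ((FSch.completionToX X 𝓘 0) ⁻¹ᵁ V)))
    (hb : πV X 𝓘 h V n b = 0) : πV X 𝓘 h V m b = 0 := by
  have w := (secCone (FSch.completionAlong X 𝓘) h ((FSch.completionToX X 𝓘 0) ⁻¹ᵁ V)).w
    (homOfLE hmn).op
  have w2 := ConcreteCategory.congr_hom w b
  have w3 : πV X 𝓘 h V m b =
      ((secF (FSch.completionAlong X 𝓘) h ((FSch.completionToX X 𝓘 0) ⁻¹ᵁ V)).map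
        (homOfLE hmn).op).hom (πV X 𝓘 h V n b) := w2.symm
  rw [w3, hb]
  exact map_zero _

theorem h5 (V : X.Opens)
    (b : ((FSch.completionAlong X 𝓘).Osh h).obj.obj (op ((FSch.completionToX X 𝓘 0) ⁻¹ᵁ V)))
    (hb : ∀ n, πV X 𝓘 h V n b = 0) : b = 0 := by
  refine Concrete.isLimit_ext _
    (secIsLimit (FSch.completionAlong X 𝓘) h ((FSch.completionToX X 𝓘 0) ⁻¹ᵁ V)) b 0 ?_
  intro j
  have e1 : j = op j.unop := rfl
  rw [e1]
  refine (hb j.unop).trans ?_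
  exact (map_zero (πV X 𝓘 h V j.unop)).symm

theorem h6 (V : X.Opens)
    (s : ℕ → ((FSch.completionAlong X 𝓘).Osh h).obj.obj (op ((FSch.completionToX X 𝓘 0) ⁻¹ᵁ V)))
    (hs : ∀ m n, m ≤ n → πV X 𝓘 h V m (s n) = πV X 𝓘 h V m (s m)) :
    ∃ b, ∀ n, πV X 𝓘 h V n b = πV X 𝓘 h V n (s n) := by
  let U := (FSch.completionToX X 𝓘 0) ⁻¹ᵁ V
  let 𝔛 := FSch.completionAlong X 𝓘
  have hx : ∀ n, φs 𝔛 h U n (πV X 𝓘 h V (n + 1) (s (n + 1))) = πV X 𝓘 h V n (s n) := by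
    intro n
    have w := (secCone 𝔛 h U).w (homOfLE (n.le_add_right 1)).op
    have w2 := ConcreteCategory.congr_hom w (s (n + 1))
    exact w2.trans (hs n (n + 1) (Nat.le_succ n))
  let x : Lim (Rs 𝔛 h U) (φs 𝔛 h U) := ⟨fun n => πV X 𝓘 h V n (s n), hx⟩
  refine ⟨(secIsLimit 𝔛 h U).lift (limCone 𝔛 h U) x, fun n => ?_⟩
  have hfac := (secIsLimit 𝔛 h U).fac (limCone 𝔛 h U) (op n)
  exact ConcreteCategory.congr_hom hfac x

theorem flat_cV (V : X.Opens) (hV : IsAffineOpen V) : (cV X 𝓘 h V).Flat := by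
  haveI : IsNoetherianRing Γ(X, V) := IsLocallyNoetherian.component_noetherian ⟨V, hV⟩
  exact Groth.Agent.Helper29.CplA.flat_of_adic_limit (𝓘.ideal ⟨V, hV⟩) (cV X 𝓘 h V)
    (fun n => Γ((FSch.completionAlong X 𝓘).X n,
      (FSch.completionAlong X 𝓘).lvU h n ((FSch.completionToX X 𝓘 0) ⁻¹ᵁ V)))
    (πV X 𝓘 h V) (qV X 𝓘 h V) (h1 X 𝓘 h V) (h2 X 𝓘 h V hV) (h3 X 𝓘 h V hV)
    (h4 X 𝓘 h V) (h5 X 𝓘 h V) (h6 X 𝓘 h V)

end Groth.Agent.Helper29.CplB
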