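import Mathlib
import Groth.Prelude.Def_ModSite

open CategoryTheory Limits Opposite TopologicalSpace

namespace Groth.Agent.Helper29.SkyA

universe u

variable {X : TopCat.{u}} (O : Sheaf (Opens.grothendieckTopology X) CommRingCat.{u})

/-- the local ring `O_{X,x}` (Mathlib stalk) -/
noncomputable abbrev Rg (x : X) : CommRingCat.{u} :=
  TopCat.Presheaf.stalk (O.obj : TopCat.Presheaf CommRingCat.{u} X) x

/-- the stalk of a module, as an abelian group -/
noncomputable abbrev St (P : ModSite.Mod O) (x : X) : Ab.{u} :=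
  TopCat.Presheaf.stalk (P.val.presheaf : TopCat.Presheaf Ab.{u} X) x

noncomputable instance stModule (P : ModSite.Mod O) (x : X) : Module (Rg O x) (St O P x) :=
  PresheafOfModules.instModuleCarrierStalkCommRingCatCarrierAbPresheafOpensCarrier
    (R := (O.obj : TopCat.Presheaf CommRingCat.{u} X)) P.val x

/-- germ of a ring section -/
noncomputable abbrev gR (x : X) (U : Opens X) (hx : x ∈ U) (r : O.obj.obj (op U)) : Rg O x :=
  TopCat.Presheaf.germ (O.obj : TopCat.Presheaf CommRingCat.{u} X) U x hx r

/-- germ of a module section -/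
noncomputable abbrev gM (P : ModSite.Mod O) (x : X) (U : Opens X) (hx : x ∈ U)
    (m : P.val.obj (op U)) : St O P x :=
  TopCat.Presheaf.germ (P.val.presheaf : TopCat.Presheaf Ab.{u} X) U x hx m

theorem germ_smul (P : ModSite.Mod O) (x : X) (U : Opens X) (hx : x ∈ U)
    (r : O.obj.obj (op U)) (m : P.val.obj (op U)) :
    gM O P x U hx (r • m) = gR O x U hx r • gM O P x U hx m :=
  PresheafOfModules.germ_smul (R := (O.obj : TopCat.Presheaf CommRingCat.{u} X)) P.val x U hx r m

theorem gM_res (P : ModSite.Mod O) (x : X) {U V : Opens X} (i : V ⟶ U) (hx : x ∈ V)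
    (m : P.val.obj (op U)) :
    gM O P x V hx (P.val.map i.op m) = gM O P x U (i.le hx) m :=
  TopCat.Presheaf.germ_res_apply (P.val.presheaf : TopCat.Presheaf Ab.{u} X) i x hx m

theorem gM_zero (P : ModSite.Mod O) (x : X) (U : Opens X) (hx : x ∈ U) :
    gM O P x U hx 0 = 0 :=
  map_zero (TopCat.Presheaf.germ (P.val.presheaf : TopCat.Presheaf Ab.{u} X) U x hx).hom

theorem gM_add (P : ModSite.Mod O) (x : X) (U : Opens X) (hx : x ∈ U) (m m' : P.val.obj (op U)) :
    gM O P x U hx (m + m') = gM O P x U hx m + gM O P x U hx m' :=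
  map_add (TopCat.Presheaf.germ (P.val.presheaf : TopCat.Presheaf Ab.{u} X) U x hx).hom m m'

theorem gR_res (x : X) {U V : Opens X} (i : V ⟶ U) (hx : x ∈ V) (r : O.obj.obj (op U)) :
    gR O x V hx (O.obj.map i.op r) = gR O x U (i.le hx) r :=
  TopCat.Presheaf.germ_res_apply (O.obj : TopCat.Presheaf CommRingCat.{u} X) i x hx r

theorem gM_exists (P : ModSite.Mod O) (x : X) (t : St O P x) :
    ∃ (U : Opens X) (hx : x ∈ U) (m : P.val.obj (op U)), gM O P x U hx m = t :=
  TopCat.Presheaf.exists_germ_eq (P.val.presheaf : TopCat.Presheaf Ab.{u} X) t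

theorem gR_exists (x : X) (t : Rg O x) :
    ∃ (U : Opens X) (hx : x ∈ U) (r : O.obj.obj (op U)), gR O x U hx r = t :=
  TopCat.Presheaf.exists_germ_eq (O.obj : TopCat.Presheaf CommRingCat.{u} X) t

section stalkmap

variable {O}
variable {P Q : ModSite.Mod O}

/-- the stalk map of a morphism of modules (additive) -/
noncomputable def stalkAdd (ψ : P ⟶ Q) (x : X) : St O P x ⟶ St O Q x :=
  (TopCat.Presheaf.stalkFunctor Ab.{u} x).map ((PresheafOfModules.toPresheaf _).map ψ.val)

theorem stalkAdd_germ (ψ : P ⟶ Q) (x : X) (U : Opens X) (hx : x ∈ U) (m : P.val.obj (op U)) :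
    (stalkAdd ψ x).hom (gM O P x U hx m) = gM O Q x U hx ((ψ.val.app (op U)).hom m) :=
  TopCat.Presheaf.stalkFunctor_map_germ_apply U x hx
    ((PresheafOfModules.toPresheaf _).map ψ.val) m

/-- the stalk map of a morphism of modules, as a linear map -/
noncomputable def stalkLin (ψ : P ⟶ Q) (x : X) : St O P x →ₗ[Rg O x] St O Q x where
  toFun := (stalkAdd ψ x).hom
  map_add' := fun a b => map_add _ a b
  map_smul' := fun r m => by
    obtain ⟨U, hU, r', rfl⟩ := gR_exists O x r
    obtain ⟨V, hV, m', rfl⟩ := gM_exists O P x m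
    have hW : x ∈ U ⊓ V := ⟨hU, hV⟩
    have e1 : gR O x U hU r' = gR O x (U ⊓ V) hW (O.obj.map (homOfLE inf_le_left).op r') :=
      (gR_res O x (homOfLE inf_le_left) hW r').symm
    have e2 : gM O P x V hV m' = gM O P x (U ⊓ V) hW (P.val.map (homOfLE inf_le_right).op m') :=
      (gM_res O P x (homOfLE inf_le_right) hW m').symm
    rw [e1, e2, ← germ_smul, RingHom.id_apply, stalkAdd_germ, stalkAdd_germ, map_smul, germ_smul]

theorem stalkLin_germ (ψ : P ⟶ Q) (x : X) (U : Opens X) (hx : x ∈ U) (m : P.val.obj (op U)) :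
    stalkLin ψ x (gM O P x U hx m) = gM O Q x U hx ((ψ.val.app (op U)).hom m) :=
  stalkAdd_germ ψ x U hx m

theorem mono_iff_stalkLin_injective (ψ : P ⟶ Q) :
    Mono ψ ↔ ∀ x : X, Function.Injective (stalkLin ψ x) := by
  have key : Mono ((SheafOfModules.toSheaf.{u} (ModSite.ringSh O)).map ψ) ↔
      ∀ x : X, Function.Injective (stalkLin ψ x) := by
    have h1 := TopCat.Presheaf.mono_iff_stalk_mono
      (C := Ab.{u}) (X := X) ((SheafOfModules.toSheaf.{u} (ModSite.ringSh O)).map ψ)
    refine Iff.trans h1 ?_
    refine forall_congr' (fun x => ?_)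
    exact AddCommGrpCat.mono_iff_injective (stalkAdd ψ x)
  constructor
  · intro h
    exact key.mp inferInstance
  · intro h
    have := key.mpr h
    exact (SheafOfModules.toSheaf.{u} (ModSite.ringSh O)).mono_of_mono_map this

end stalkmap

section sky

variable (x : X) (E : Type u) [AddCommGroup E] [Module (Rg O x) E]

/-- the underlying presheaf of abelian groups of the skyscraper module -/
def skyAb : (Opens X)ᵒᵖ ⥤ Ab.{u} where
  obj U := AddCommGrpCat.of (PLift (x ∈ U.unop) → E)
  map {U V} i := AddCommGrpCat.ofHom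
    { toFun := fun s h => s ⟨i.unop.le h.down⟩
      map_zero' := rfl
      map_add' := fun _ _ => rfl }
  map_id _ := rfl
  map_comp _ _ := rfl

/-- the ring map `O(U) → O_{X,x}` for `x ∈ U` -/
noncomputable def rho (U : (Opens X)ᵒᵖ) (h : PLift (x ∈ U.unop)) :
    ((ModSite.ringSh O).obj.obj U) →+* (Rg O x) :=
  (TopCat.Presheaf.germ (O.obj : TopCat.Presheaf CommRingCat.{u} X) U.unop x h.down).hom

noncomputable instance skyModule (U : (Opens X)ᵒᵖ) :
    Module ((ModSite.ringSh O).obj.obj U) ((skyAb x E).obj U) :=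
  @Pi.module (PLift (x ∈ U.unop)) (fun _ => E) ((ModSite.ringSh O).obj.obj U) _ _
    (fun h => Module.compHom E (rho O x U h))

theorem sky_smul_apply (U : (Opens X)ᵒᵖ) (r : (ModSite.ringSh O).obj.obj U)
    (s : (skyAb x E).obj U) (h : PLift (x ∈ U.unop)) :
    (r • s) h = gR O x U.unop h.down r • s h := rfl

/-- the skyscraper presheaf of modules -/
noncomputable def skyPre : PresheafOfModules.{u} (ModSite.ringSh O).obj :=
  PresheafOfModules.ofPresheaf (skyAb x E) (fun U V i r m => by
    funext h
    change gR O x U.unop (i.unop.le h.down) r • m ⟨i.unop.le h.down⟩ =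
      gR O x V.unop h.down _ • m ⟨i.unop.le h.down⟩
    congr 1
    exact (gR_res O x i.unop h.down r).symm)

theorem skyAb_isSheaf : Presheaf.IsSheaf (Opens.grothendieckTopology X) (skyAb x E) := by
  change TopCat.Presheaf.IsSheaf (skyAb x E : TopCat.Presheaf Ab.{u} X)
  rw [TopCat.Presheaf.isSheaf_iff_isSheafUniqueGluing]
  intro ι U sf hsf
  have key : ∀ (i j : ι) (hi : x ∈ U i) (hj : x ∈ U j), (sf i : PLift (x ∈ U i) → E) ⟨hi⟩ =
      (sf j : PLift (x ∈ U j) → E) ⟨hj⟩ := by
    intro i j hi hj
    have := congrFun (hsf i j) ⟨⟨hi, hj⟩⟩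
    exact this
  refine ⟨(fun h => (sf (Classical.choose (Opens.mem_iSup.mp h.down)) :
      PLift (x ∈ U _) → E) ⟨Classical.choose_spec (Opens.mem_iSup.mp h.down)⟩ :
        PLift (x ∈ iSup U) → E), ?_, ?_⟩
  · intro i
    funext h
    exact key _ i _ h.down
  · intro s' hs'
    funext h
    have h1 := congrFun (hs' (Classical.choose (Opens.mem_iSup.mp h.down)))
      ⟨Classical.choose_spec (Opens.mem_iSup.mp h.down)⟩
    exact h1

/-- the skyscraper `O`-module at `x` with value `E` -/
noncomputable def sky : ModSite.Mod O where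
  val := skyPre O x E
  isSheaf := skyAb_isSheaf x E

variable {O x E}
variable {P Q : ModSite.Mod O}

/-- value at `x` of a section of the skyscraper -/
def evalAt (U : (Opens X)ᵒᵖ) (h : x ∈ U.unop) : (skyAb x E).obj U ⟶ AddCommGrpCat.of E :=
  AddCommGrpCat.ofHom
    { toFun := fun s => s ⟨h⟩
      map_zero' := rfl
      map_add' := fun _ _ => rfl }

/-- the value of `t` on a section, evaluated at `x` -/
noncomputable def tval (t : P ⟶ sky O x E) (U : Opens X) (hx : x ∈ U) (m : P.val.obj (op U)) : E :=
  ((t.val.app (op U)).hom m : PLift (x ∈ U) → E) ⟨hx⟩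

theorem tval_add (t : P ⟶ sky O x E) (U : Opens X) (hx : x ∈ U) (m m' : P.val.obj (op U)) :
    tval t U hx (m + m') = tval t U hx m + tval t U hx m' := by
  unfold tval
  rw [map_add]
  rfl

theorem tval_smul (t : P ⟶ sky O x E) (U : Opens X) (hx : x ∈ U) (r : O.obj.obj (op U))
    (m : P.val.obj (op U)) :
    tval t U hx (r • m) = gR O x U hx r • tval t U hx m := by
  unfold tval
  rw [map_smul]
  rfl

theorem tval_res (t : P ⟶ sky O x E) {U V : Opens X} (i : V ⟶ U) (hx : x ∈ V)
    (m : P.val.obj (op U)) :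
    tval t V hx (P.val.map i.op m) = tval t U (i.le hx) m := by
  unfold tval
  have := PresheafOfModules.naturality_apply t.val i.op m
  rw [this]
  rfl

/-- the cocone computing `alpha` -/
noncomputable def alphaCocone (t : P ⟶ sky O x E) :
    Cocone ((OpenNhds.inclusion x).op ⋙ P.val.presheaf) where
  pt := AddCommGrpCat.of E
  ι :=
    { app := fun W => AddCommGrpCat.ofHom
        { toFun := fun m => tval t W.unop.1 W.unop.2 m
          map_zero' := by
            have := tval_add t W.unop.1 W.unop.2 0 0
            rw [add_zero] at this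
            exact (add_eq_left.mp this.symm)
          map_add' := fun m m' => tval_add t W.unop.1 W.unop.2 m m' }
      naturality := fun W W' i => by
        ext m
        exact tval_res t ((OpenNhds.inclusion x).map i.unop) W'.unop.2 m }

/-- the additive map on the stalk attached to a morphism into the skyscraper -/
noncomputable def alphaAdd (t : P ⟶ sky O x E) : St O P x ⟶ AddCommGrpCat.of E :=
  colimit.desc _ (alphaCocone t)

theorem alphaAdd_germ (t : P ⟶ sky O x E) (U : Opens X) (hx : x ∈ U) (m : P.val.obj (op U)) :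
    (alphaAdd t).hom (gM O P x U hx m) = tval t U hx m := by
  have := colimit.ι_desc (alphaCocone t) (op (⟨U, hx⟩ : OpenNhds x))
  exact (ConcreteCategory.congr_hom this m :)

/-- `alpha` : morphisms into the skyscraper give linear maps out of the stalk -/
noncomputable def alpha (t : P ⟶ sky O x E) : St O P x →ₗ[Rg O x] E where
  toFun := (alphaAdd t).hom
  map_add' := fun a b => map_add _ a b
  map_smul' := fun r m => by
    obtain ⟨U, hU, r', rfl⟩ := gR_exists O x r
    obtain ⟨V, hV, m', rfl⟩ := gM_exists O P x m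
    have hW : x ∈ U ⊓ V := ⟨hU, hV⟩
    have e1 : gR O x U hU r' = gR O x (U ⊓ V) hW (O.obj.map (homOfLE inf_le_left).op r') :=
      (gR_res O x (homOfLE inf_le_left) hW r').symm
    have e2 : gM O P x V hV m' = gM O P x (U ⊓ V) hW (P.val.map (homOfLE inf_le_right).op m') :=
      (gM_res O P x (homOfLE inf_le_right) hW m').symm
    rw [e1, e2, ← germ_smul, RingHom.id_apply, alphaAdd_germ, alphaAdd_germ, tval_smul]

theorem alpha_germ (t : P ⟶ sky O x E) (U : Opens X) (hx : x ∈ U) (m : P.val.obj (op U)) :
    alpha t (gM O P x U hx m) = tval t U hx m := alphaAdd_germ t U hx m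

theorem alpha_injective : Function.Injective (alpha (P := P) (O := O) (x := x) (E := E)) := by
  intro t t' h
  apply SheafOfModules.hom_ext
  apply PresheafOfModules.hom_ext
  intro U
  ext m
  funext hx
  have h1 := alpha_germ t U.unop hx.down m
  have h2 := alpha_germ t' U.unop hx.down m
  rw [h] at h1
  exact h1.symm.trans h2

/-- `gamma` : linear maps out of the stalk give morphisms into the skyscraper -/
noncomputable def gamma (h : St O P x →ₗ[Rg O x] E) : P ⟶ sky O x E where
  val := PresheafOfModules.homMk (M₂ := skyPre O x E)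
    { app := fun U => AddCommGrpCat.ofHom
        { toFun := fun m => (fun hx => h (gM O P x U.unop hx.down m) : PLift (x ∈ U.unop) → E)
          map_zero' := by
            funext hx
            exact (congrArg h (gM_zero O P x U.unop hx.down)).trans (map_zero h)
          map_add' := fun m m' => by
            funext hx
            exact (congrArg h (gM_add O P x U.unop hx.down m m')).trans (map_add h _ _) }
      naturality := fun U V i => by
        ext m
        funext hx
        change h (gM O P x V.unop hx.down (P.val.map i m)) = h (gM O P x U.unop _ m)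
        exact congrArg h (gM_res O P x i.unop hx.down m) }
    (fun U r m => by
      funext hx
      exact (congrArg h (germ_smul O P x U.unop hx.down r m)).trans (map_smul h _ _))

theorem tval_gamma (h : St O P x →ₗ[Rg O x] E) (U : Opens X) (hx : x ∈ U) (m : P.val.obj (op U)) :
    tval (gamma h) U hx m = h (gM O P x U hx m) := rfl

theorem alpha_gamma (h : St O P x →ₗ[Rg O x] E) : alpha (gamma h) = h := by
  apply LinearMap.ext
  intro m
  obtain ⟨V, hV, m', rfl⟩ := gM_exists O P x m
  rw [alpha_germ, tval_gamma]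

theorem tval_comp (ψ : P ⟶ Q) (t : Q ⟶ sky O x E) (U : Opens X) (hx : x ∈ U)
    (m : P.val.obj (op U)) :
    tval (ψ ≫ t) U hx m = tval t U hx ((ψ.val.app (op U)).hom m) := rfl

theorem alpha_comp (ψ : P ⟶ Q) (t : Q ⟶ sky O x E) :
    alpha (ψ ≫ t) = (alpha t).comp (stalkLin ψ x) := by
  apply LinearMap.ext
  intro m
  obtain ⟨V, hV, m', rfl⟩ := gM_exists O P x m
  rw [alpha_germ, tval_comp, LinearMap.comp_apply, stalkLin_germ, alpha_germ]

end sky

end Groth.Agent.Helper29.SkyA
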