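import Mathlib
import Groth.Prelude.Def_ModSite
import Groth.Prelude.Def_ModSite2
import Groth.Agent.Lib.Helper29.SkyA

open CategoryTheory Limits Opposite TopologicalSpace

namespace Groth.Agent.Helper29.SkyB

open Groth.Agent.Helper29.SkyA

universe u

section alg

/-- extension along an injective map into a module which is injective over a flat extension -/
theorem ext_flat {R S : Type u} [CommRing R] [CommRing S] [Algebra R S] [Module.Flat R S]
    {E : Type u} [AddCommGroup E] [Module S E] [Module R E] [IsScalarTower R S E]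
    [Module.Injective S E]
    {A B : Type u} [AddCommGroup A] [AddCommGroup B] [Module R A] [Module R B]
    (i : A →ₗ[R] B) (hi : Function.Injective i) (g : A →ₗ[R] E) :
    ∃ h : B →ₗ[R] E, h ∘ₗ i = g := by
  have hinj : Function.Injective (LinearMap.baseChange S i) :=
    Module.Flat.lTensor_preserves_injective_linearMap (M := S) i hi
  obtain ⟨h', hh'⟩ := Module.Injective.extension_property S E _ _
    (LinearMap.baseChange S i) hinj (LinearMap.liftBaseChange S g)
  refine ⟨(h'.restrictScalars R).comp (TensorProduct.mk R S B 1), ?_⟩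
  apply LinearMap.ext
  intro a
  have := LinearMap.congr_fun hh' ((1 : S) ⊗ₜ[R] a)
  simp only [LinearMap.comp_apply, LinearMap.baseChange_tmul, LinearMap.liftBaseChange_tmul,
    one_smul] at this
  simpa using this

end alg

section top

variable {X Y : TopCat.{u}} (f : X ⟶ Y) (O_X : Sheaf (Opens.grothendieckTopology X) CommRingCat.{u})
  (O_Y : Sheaf (Opens.grothendieckTopology Y) CommRingCat.{u})
  (c : O_Y ⟶ ((TopologicalSpace.Opens.map f).sheafPushforwardContinuous CommRingCat.{u}
      (Opens.grothendieckTopology Y) (Opens.grothendieckTopology X)).obj O_X)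

/-- the morphism of ringed sites -/
noncomputable abbrev FF : ModSite.RMor O_X O_Y := ModSite.RMor.ofFlat (TopologicalSpace.Opens.map f) c

/-- the ring map as a map of presheaves on `Y` -/
noncomputable abbrev cPre : (O_Y.obj : TopCat.Presheaf CommRingCat.{u} Y) ⟶
    (TopCat.Presheaf.pushforward CommRingCat.{u} f).obj O_X.obj := c.hom

/-- the map on stalks `O_{Y,f(x)} → O_{X,x}` -/
noncomputable def rhoSt (x : X) : Rg O_Y (f x) ⟶ Rg O_X x :=
  (TopCat.Presheaf.stalkFunctor CommRingCat.{u} (f x)).map (cPre f O_X O_Y c) ≫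
    TopCat.Presheaf.stalkPushforward CommRingCat.{u} f O_X.obj x

theorem rhoSt_germ (x : X) (V : Opens Y) (hV : f x ∈ V) (r : O_Y.obj.obj (op V)) :
    (rhoSt f O_X O_Y c x).hom (gR O_Y (f x) V hV r) =
      gR O_X x ((Opens.map f).obj V) hV ((c.hom.app (op V)).hom r) := by
  have h1 := TopCat.Presheaf.stalkFunctor_map_germ_apply V (f x) hV (cPre f O_X O_Y c) r
  have h2 := TopCat.Presheaf.stalkPushforward_germ CommRingCat.{u} f O_X.obj V x hV
  have h3 := ConcreteCategory.congr_hom h2 ((c.hom.app (op V)).hom r)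
  exact (congrArg (TopCat.Presheaf.stalkPushforward CommRingCat.{u} f O_X.obj x).hom h1).trans h3

variable (x : X) (E : Type u) [AddCommGroup E] [Module (Rg O_X x) E]

/-- `E` viewed as an `O_{Y,f(x)}`-module -/
def Res (_f : X ⟶ Y) (_O_X : Sheaf (Opens.grothendieckTopology X) CommRingCat.{u})
    (_O_Y : Sheaf (Opens.grothendieckTopology Y) CommRingCat.{u})
    (_c : _O_Y ⟶ ((TopologicalSpace.Opens.map _f).sheafPushforwardContinuous CommRingCat.{u}
      (Opens.grothendieckTopology Y) (Opens.grothendieckTopology X)).obj _O_X)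
    (_x : X) (E : Type u) : Type u := E

instance : AddCommGroup (Res f O_X O_Y c x E) := inferInstanceAs (AddCommGroup E)

noncomputable instance resModule : Module (Rg O_Y (f x)) (Res f O_X O_Y c x E) :=
  Module.compHom E (rhoSt f O_X O_Y c x).hom

theorem res_smul (r : Rg O_Y (f x)) (e : Res f O_X O_Y c x E) :
    r • e = ((rhoSt f O_X O_Y c x).hom r • (show E from e) : E) := rfl

/-- `f_*` of a skyscraper is a skyscraper: forward map -/
noncomputable def pushSkyHom :
    (FF f O_X O_Y c).push.obj (sky O_X x E) ⟶ sky O_Y (f x) (Res f O_X O_Y c x E) where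
  val := PresheafOfModules.homMk (M₂ := skyPre O_Y (f x) (Res f O_X O_Y c x E))
    { app := fun V => AddCommGrpCat.ofHom
        { toFun := fun s => (fun h => (s : PLift (x ∈ (Opens.map f).obj V.unop) → E) ⟨h.down⟩ :
            PLift (f x ∈ V.unop) → Res f O_X O_Y c x E)
          map_zero' := rfl
          map_add' := fun _ _ => rfl }
      naturality := fun U V i => rfl }
    (fun V r m => by
      funext h
      change (gR O_X x ((Opens.map f).obj V.unop) h.down ((c.hom.app V).hom r) •
          ((m : PLift (x ∈ (Opens.map f).obj V.unop) → E) ⟨h.down⟩) : E) =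
        ((rhoSt f O_X O_Y c x).hom (gR O_Y (f x) V.unop h.down r) •
          ((m : PLift (x ∈ (Opens.map f).obj V.unop) → E) ⟨h.down⟩) : E)
      rw [rhoSt_germ])

/-- `f_*` of a skyscraper is a skyscraper: backward map -/
noncomputable def pushSkyInv :
    sky O_Y (f x) (Res f O_X O_Y c x E) ⟶ (FF f O_X O_Y c).push.obj (sky O_X x E) where
  val := PresheafOfModules.homMk (M₁ := skyPre O_Y (f x) (Res f O_X O_Y c x E))
    { app := fun V => AddCommGrpCat.ofHom
        { toFun := fun s => (fun h => (s : PLift (f x ∈ V.unop) → Res f O_X O_Y c x E) ⟨h.down⟩ :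
            PLift (x ∈ (Opens.map f).obj V.unop) → E)
          map_zero' := rfl
          map_add' := fun _ _ => rfl }
      naturality := fun U V i => rfl }
    (fun V r m => by
      funext h
      change ((rhoSt f O_X O_Y c x).hom (gR O_Y (f x) V.unop h.down r) •
          (show E from (m : PLift (f x ∈ V.unop) → Res f O_X O_Y c x E) ⟨h.down⟩) : E) =
        (gR O_X x ((Opens.map f).obj V.unop) h.down ((c.hom.app V).hom r) •
          (show E from (m : PLift (f x ∈ V.unop) → Res f O_X O_Y c x E) ⟨h.down⟩) : E)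
      rw [rhoSt_germ])

theorem pushSkyHom_inv : pushSkyHom f O_X O_Y c x E ≫ pushSkyInv f O_X O_Y c x E = 𝟙 _ := by
  apply SheafOfModules.hom_ext
  apply PresheafOfModules.hom_ext
  intro V
  ext s
  rfl

theorem pushSkyInv_hom : pushSkyInv f O_X O_Y c x E ≫ pushSkyHom f O_X O_Y c x E = 𝟙 _ := by
  apply SheafOfModules.hom_ext
  apply PresheafOfModules.hom_ext
  intro V
  ext s
  rfl

instance resModuleS : Module (Rg O_X x) (Res f O_X O_Y c x E) := inferInstanceAs (Module (Rg O_X x) E)

end top

section main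

variable {X Y : TopCat.{u}} (f : X ⟶ Y) (O_X : Sheaf (Opens.grothendieckTopology X) CommRingCat.{u})
  (O_Y : Sheaf (Opens.grothendieckTopology Y) CommRingCat.{u})
  (c : O_Y ⟶ ((TopologicalSpace.Opens.map f).sheafPushforwardContinuous CommRingCat.{u}
      (Opens.grothendieckTopology Y) (Opens.grothendieckTopology X)).obj O_X)

theorem pull_preserves_mono
    (hflat : ∀ x : X, (rhoSt f O_X O_Y c x).hom.Flat)
    {M' M : ModSite.Mod O_Y} (φ : M' ⟶ M) [Mono φ] :
    Mono ((FF f O_X O_Y c).pull.map φ) := by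
  rw [mono_iff_stalkLin_injective]
  intro x
  let A : ModuleCat.{u} (Rg O_X x) :=
    ModuleCat.of (Rg O_X x) (St O_X ((FF f O_X O_Y c).pull.obj M') x)
  let J : ModuleCat.{u} (Rg O_X x) := Injective.under A
  let θc : A ⟶ J := Injective.ι A
  have hθ : Function.Injective θc.hom := (ModuleCat.mono_iff_injective θc).mp inferInstance
  have hJ : Injective J := inferInstance
  haveI : Module.Injective (Rg O_X x) J :=
    @Module.injective_module_of_injective_object (Rg O_X x) J _ _ _ hJ
  let θ' : St O_X ((FF f O_X O_Y c).pull.obj M') x →ₗ[Rg O_X x] J := θc.hom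
  let t' : (FF f O_X O_Y c).pull.obj M' ⟶ sky O_X x J := gamma θ'
  let g : M' ⟶ (FF f O_X O_Y c).push.obj (sky O_X x J) :=
    (FF f O_X O_Y c).adj.homEquiv _ _ t'
  let g₁ : M' ⟶ sky O_Y (f x) (Res f O_X O_Y c x J) := g ≫ pushSkyHom f O_X O_Y c x J
  letI : Algebra (Rg O_Y (f x)) (Rg O_X x) := (rhoSt f O_X O_Y c x).hom.toAlgebra
  haveI : Module.Flat (Rg O_Y (f x)) (Rg O_X x) := hflat x
  haveI : IsScalarTower (Rg O_Y (f x)) (Rg O_X x) (Res f O_X O_Y c x J) :=
    IsScalarTower.of_algebraMap_smul (fun r e => rfl)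
  haveI : Module.Injective (Rg O_X x) (Res f O_X O_Y c x J) :=
    inferInstanceAs (Module.Injective (Rg O_X x) J)
  have hi : Function.Injective (stalkLin φ (f x)) :=
    (mono_iff_stalkLin_injective φ).mp inferInstance (f x)
  obtain ⟨h₀, hh₀⟩ := ext_flat (S := Rg O_X x) (stalkLin φ (f x)) hi (alpha g₁)
  have e1 : φ ≫ gamma h₀ = g₁ := alpha_injective (by rw [alpha_comp, alpha_gamma, hh₀])
  have e2 : φ ≫ (gamma h₀ ≫ pushSkyInv f O_X O_Y c x J) = g := by
    rw [← Category.assoc, e1, Category.assoc, pushSkyHom_inv, Category.comp_id]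
  have e3 : (FF f O_X O_Y c).pull.map φ ≫
      ((FF f O_X O_Y c).adj.homEquiv _ _).symm (gamma h₀ ≫ pushSkyInv f O_X O_Y c x J) = t' := by
    rw [← Adjunction.homEquiv_naturality_left_symm, e2]
    exact Equiv.symm_apply_apply _ _
  have e4 : (alpha (((FF f O_X O_Y c).adj.homEquiv _ _).symm
      (gamma h₀ ≫ pushSkyInv f O_X O_Y c x J))).comp
        (stalkLin ((FF f O_X O_Y c).pull.map φ) x) = θ' := by
    rw [← alpha_comp, e3, alpha_gamma]
  intro a b hab
  apply hθ
  have h5 := LinearMap.congr_fun e4 a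
  have h6 := LinearMap.congr_fun e4 b
  rw [LinearMap.comp_apply] at h5 h6
  rw [hab] at h5
  exact h5.symm.trans h6

theorem main
    (hflat : ∀ x : X, (rhoSt f O_X O_Y c x).hom.Flat) :
    ModSite.RMor.IsFlat (FF f O_X O_Y c) := by
  haveI : (FF f O_X O_Y c).pull.Additive := (FF f O_X O_Y c).adj.left_adjoint_additive
  haveI : PreservesFiniteColimits (FF f O_X O_Y c).pull := by
    haveI := (FF f O_X O_Y c).adj.leftAdjoint_preservesColimits
    infer_instance
  change PreservesFiniteLimits (FF f O_X O_Y c).pull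
  rw [Functor.preservesFiniteLimits_iff_forall_exact_map_and_mono]
  intro S hS
  have h0 : PreservesFiniteColimits (FF f O_X O_Y c).pull := inferInstance
  have h1' : ∀ (S : ShortComplex (ModSite.Mod O_Y)), S.ShortExact →
      (S.map (FF f O_X O_Y c).pull).Exact ∧ Epi ((FF f O_X O_Y c).pull.map S.g) :=
    ((Functor.preservesFiniteColimits_tfae (FF f O_X O_Y c).pull).out 3 0).mp h0
  have h1 := h1' S hS
  haveI : Mono S.f := hS.mono_f
  exact ⟨h1.1, pull_preserves_mono f O_X O_Y c hflat S.f⟩

end main


end Groth.Agent.Helper29.SkyB
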