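import Mathlib
import Groth.Prelude.Def_ModSite
import Groth.Prelude.Def_ModSite2
import Groth.Agent.Lib.Helper29.SkyA
import Groth.Agent.Lib.Helper29.SkyB

open CategoryTheory Limits Opposite TopologicalSpace

namespace Groth.Agent.Helper29.CplC

open Groth.Agent.Helper29.SkyA Groth.Agent.Helper29.SkyB

universe u

section alg

variable {R S : Type u} [CommRing R] [CommRing S] (φ : R →+* S)

theorem flat_of_eqns
    (H : ∀ (l : ℕ) (r : Fin l → R) (s : Fin l → S), ∑ i, φ (r i) * s i = 0 →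
      ∃ (k : ℕ) (a : Fin l → Fin k → R) (y : Fin k → S),
        (∀ i, s i = ∑ j, φ (a i j) * y j) ∧ ∀ j, ∑ i, r i * a i j = 0) : φ.Flat := by
  letI : Algebra R S := φ.toAlgebra
  change Module.Flat R S
  apply Module.Flat.of_forall_isTrivialRelation
  intro l r s hrs
  exact H l r s hrs

theorem eqns_of_flat (hφ : φ.Flat) (l : ℕ) (r : Fin l → R) (s : Fin l → S)
    (hrs : ∑ i, φ (r i) * s i = 0) :
    ∃ (k : ℕ) (a : Fin l → Fin k → R) (y : Fin k → S),
      (∀ i, s i = ∑ j, φ (a i j) * y j) ∧ ∀ j, ∑ i, r i * a i j = 0 := by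
  letI : Algebra R S := φ.toAlgebra
  haveI : Module.Flat R S := hφ
  exact Module.Flat.isTrivialRelation_of_sum_smul_eq_zero (f := r) (x := s) hrs

end alg

section germs

theorem exists_common_nbhd {Z : TopCat.{u}} (P : TopCat.Presheaf CommRingCat.{u} Z) (z : Z) :
    ∀ (l : ℕ) (t : Fin l → P.stalk z),
      ∃ (U : Opens Z) (hz : z ∈ U) (s : Fin l → P.obj (op U)), ∀ i, P.germ U z hz (s i) = t i := by
  intro l
  induction l with
  | zero =>
    intro t
    exact ⟨⊤, trivial, fun i => i.elim0, fun i => i.elim0⟩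
  | succ l ih =>
    intro t
    obtain ⟨U, hU, s, hs⟩ := ih (fun i => t i.succ)
    obtain ⟨U₀, h₀, s₀, hs₀⟩ := TopCat.Presheaf.exists_germ_eq P (t 0)
    refine ⟨U₀ ⊓ U, ⟨h₀, hU⟩,
      Fin.cons ((P.map (homOfLE (inf_le_left : U₀ ⊓ U ≤ U₀)).op).hom s₀)
        (fun i => (P.map (homOfLE (inf_le_right : U₀ ⊓ U ≤ U)).op).hom (s i)), ?_⟩
    intro i
    refine Fin.cases ?_ (fun j => ?_) i
    · rw [Fin.cons_zero]
      exact (TopCat.Presheaf.germ_res_apply P (homOfLE (inf_le_left : U₀ ⊓ U ≤ U₀)) z ⟨h₀, hU⟩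
        s₀).trans hs₀
    · rw [Fin.cons_succ]
      exact (TopCat.Presheaf.germ_res_apply P (homOfLE (inf_le_right : U₀ ⊓ U ≤ U)) z ⟨h₀, hU⟩
        (s j)).trans (hs j)

end germs


section main

variable {X Y : TopCat.{u}} (f : X ⟶ Y) (O_X : Sheaf (Opens.grothendieckTopology X) CommRingCat.{u})
  (O_Y : Sheaf (Opens.grothendieckTopology Y) CommRingCat.{u})
  (c : O_Y ⟶ ((TopologicalSpace.Opens.map f).sheafPushforwardContinuous CommRingCat.{u}
      (Opens.grothendieckTopology Y) (Opens.grothendieckTopology X)).obj O_X)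

/-- germ ring hom on `Y` -/
noncomputable abbrev gY (y : Y) (V : Opens Y) (hy : y ∈ V) : O_Y.obj.obj (op V) →+* Rg O_Y y :=
  (TopCat.Presheaf.germ (O_Y.obj : TopCat.Presheaf CommRingCat.{u} Y) V y hy).hom

/-- germ ring hom on `X` -/
noncomputable abbrev gX (x : X) (U : Opens X) (hx : x ∈ U) : O_X.obj.obj (op U) →+* Rg O_X x :=
  (TopCat.Presheaf.germ (O_X.obj : TopCat.Presheaf CommRingCat.{u} X) U x hx).hom

/-- section-level structure map -/
noncomputable abbrev cS (V : Opens Y) :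
    O_Y.obj.obj (op V) →+* O_X.obj.obj (op ((Opens.map f).obj V)) :=
  (c.hom.app (op V)).hom

theorem cS_res {V V' : Opens Y} (i : V' ⟶ V) (a : O_Y.obj.obj (op V)) :
    cS f O_X O_Y c V' ((O_Y.obj.map i.op).hom a) =
      (O_X.obj.map ((Opens.map f).map i).op).hom (cS f O_X O_Y c V a) := by
  have h := c.hom.naturality i.op
  exact ConcreteCategory.congr_hom h a

theorem rho_gY (x : X) (V : Opens Y) (hV : f x ∈ V) (a : O_Y.obj.obj (op V)) :
    (rhoSt f O_X O_Y c x).hom (gY O_Y (f x) V hV a) =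
      gX O_X x ((Opens.map f).obj V) hV (cS f O_X O_Y c V a) :=
  rhoSt_germ f O_X O_Y c x V hV a

theorem gX_res (x : X) {U U' : Opens X} (i : U' ⟶ U) (hx : x ∈ U') (s : O_X.obj.obj (op U)) :
    gX O_X x U' hx ((O_X.obj.map i.op).hom s) = gX O_X x U (i.le hx) s :=
  gR_res O_X x i hx s

theorem gY_res (y : Y) {V V' : Opens Y} (i : V' ⟶ V) (hy : y ∈ V') (s : O_Y.obj.obj (op V)) :
    gY O_Y y V' hy ((O_Y.obj.map i.op).hom s) = gY O_Y y V (i.le hy) s :=
  gR_res O_Y y i hy s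

theorem rhoSt_flat (x : X) (𝓑 : Set (Opens Y))
    (hB : ∀ (U : Opens X) (W : Opens Y), x ∈ U → f x ∈ W →
      ∃ V ∈ 𝓑, f x ∈ V ∧ V ≤ W ∧ (Opens.map f).obj V ≤ U)
    (hflat : ∀ V ∈ 𝓑, (cS f O_X O_Y c V).Flat) :
    (rhoSt f O_X O_Y c x).hom.Flat := by
  apply flat_of_eqns
  intro l r b hrel
  obtain ⟨W, hW, a, ha⟩ := exists_common_nbhd
    (O_Y.obj : TopCat.Presheaf CommRingCat.{u} Y) (f x) l r
  obtain ⟨U, hU, β, hβ⟩ := exists_common_nbhd
    (O_X.obj : TopCat.Presheaf CommRingCat.{u} X) x l b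
  obtain ⟨V, hVB, hxV, hVW, hVU⟩ := hB U W hU hW
  let a1 : Fin l → O_Y.obj.obj (op V) := fun i => (O_Y.obj.map (homOfLE hVW).op).hom (a i)
  let β1 : Fin l → O_X.obj.obj (op ((Opens.map f).obj V)) :=
    fun i => (O_X.obj.map (homOfLE hVU).op).hom (β i)
  have ha1 : ∀ i, gY O_Y (f x) V hxV (a1 i) = r i :=
    fun i => (gY_res O_Y (f x) (homOfLE hVW) hxV (a i)).trans (ha i)
  have hβ1 : ∀ i, gX O_X x ((Opens.map f).obj V) hxV (β1 i) = b i :=
    fun i => (gX_res O_X x (homOfLE hVU) hxV (β i)).trans (hβ i)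
  let z : O_X.obj.obj (op ((Opens.map f).obj V)) := ∑ i, cS f O_X O_Y c V (a1 i) * β1 i
  have hz : gX O_X x ((Opens.map f).obj V) hxV z = 0 := by
    rw [map_sum]
    refine Eq.trans (Finset.sum_congr rfl (fun i _ => ?_)) hrel
    rw [map_mul, ← rho_gY, ha1, hβ1]
  have hz0 : gX O_X x ((Opens.map f).obj V) hxV z = gX O_X x ((Opens.map f).obj V) hxV 0 := by
    rw [hz, map_zero]
  obtain ⟨U', hxU', i1, i2, hz'⟩ := TopCat.Presheaf.germ_eq
    (O_X.obj : TopCat.Presheaf CommRingCat.{u} X) x hxV hxV z 0 hz0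
  have hz'' : (O_X.obj.map i1.op).hom z = 0 := hz'.trans (map_zero _)
  obtain ⟨V', hV'B, hxV', hV'V, hV'U'⟩ := hB U' V hxU' hxV
  let jV : V' ⟶ V := homOfLE hV'V
  let a2 : Fin l → O_Y.obj.obj (op V') := fun i => (O_Y.obj.map jV.op).hom (a1 i)
  let β2 : Fin l → O_X.obj.obj (op ((Opens.map f).obj V')) :=
    fun i => (O_X.obj.map ((Opens.map f).map jV).op).hom (β1 i)
  have ha2 : ∀ i, gY O_Y (f x) V' hxV' (a2 i) = r i :=
    fun i => (gY_res O_Y (f x) jV hxV' (a1 i)).trans (ha1 i)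
  have hβ2 : ∀ i, gX O_X x ((Opens.map f).obj V') hxV' (β2 i) = b i :=
    fun i => (gX_res O_X x ((Opens.map f).map jV) hxV' (β1 i)).trans (hβ1 i)
  have hrel2 : ∑ i, cS f O_X O_Y c V' (a2 i) * β2 i = 0 := by
    have e1 : ∑ i, cS f O_X O_Y c V' (a2 i) * β2 i =
        (O_X.obj.map ((Opens.map f).map jV).op).hom z := by
      rw [map_sum]
      refine Finset.sum_congr rfl (fun i _ => ?_)
      rw [map_mul, ← cS_res]
    rw [e1]
    have e2 : ((Opens.map f).map jV) = homOfLE hV'U' ≫ i1 := Subsingleton.elim _ _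
    rw [e2, op_comp, Functor.map_comp]
    change (O_X.obj.map (homOfLE hV'U').op).hom ((O_X.obj.map i1.op).hom z) = 0
    rw [hz'', map_zero]
  obtain ⟨k, α, y, hy1, hy2⟩ := eqns_of_flat _ (hflat V' hV'B) l a2 β2 hrel2
  refine ⟨k, fun i j => gY O_Y (f x) V' hxV' (α i j),
    fun j => gX O_X x ((Opens.map f).obj V') hxV' (y j), ?_, ?_⟩
  · intro i
    rw [← hβ2 i, hy1 i, map_sum]
    refine Finset.sum_congr rfl (fun j _ => ?_)
    rw [map_mul, rho_gY]
  · intro j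
    have h0 := congrArg (gY O_Y (f x) V' hxV') (hy2 j)
    rw [map_sum, map_zero] at h0
    refine Eq.trans (Finset.sum_congr rfl (fun i _ => ?_)) h0
    rw [map_mul, ha2]

end main

end Groth.Agent.Helper29.CplC
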