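import Mathlib
import Groth.Prelude.Def_FSch5
import Groth.Agent.Lib.Helper29.SkyB
import Groth.Agent.Lib.Helper29.CplB
import Groth.Agent.Lib.Helper29.CplC

open AlgebraicGeometry CategoryTheory CategoryTheory.Limits Opposite TopologicalSpace

namespace Groth.Agent.Helper29.CplD

universe u

theorem main (X : Scheme.{u}) [IsLocallyNoetherian X] (𝓘 : X.IdealSheafData)
    (h : (FSch.completionAlong X 𝓘).IsFormal) :
    ModSite.RMor.IsFlat (FSch.toSchemeMor (FSch.completionAlong X 𝓘) h (FSch.completionToX X 𝓘)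
      (FSch.completionToX_comm X 𝓘)) := by
  haveI : IsClosedImmersion (FSch.completionToX X 𝓘 0) :=
    inferInstanceAs (IsClosedImmersion (𝓘 ^ (0 + 1)).subschemeι)
  refine Groth.Agent.Helper29.SkyB.main (FSch.completionToX X 𝓘 0).base
    ((FSch.completionAlong X 𝓘).Osh h) X.sheaf
    (FSch.schSharp (FSch.completionAlong X 𝓘) h (FSch.completionToX X 𝓘)
      (FSch.completionToX_comm X 𝓘)) ?_
  intro x
  refine Groth.Agent.Helper29.CplC.rhoSt_flat _ _ _ _ x {V | IsAffineOpen V} ?_ ?_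
  · intro U W hxU hxW
    have hind : Topology.IsInducing (FSch.completionToX X 𝓘 0).base :=
      (FSch.completionToX X 𝓘 0).isClosedEmbedding.isEmbedding.isInducing
    obtain ⟨t, ht, htU⟩ := hind.isOpen_iff.mp U.2
    let W' : X.Opens := ⟨t, ht⟩
    have hxW' : (FSch.completionToX X 𝓘 0).base x ∈ W' := by
      have : x ∈ (FSch.completionToX X 𝓘 0).base ⁻¹' t := by rw [htU]; exact hxU
      exact this
    obtain ⟨V, hV, hxV, hVle⟩ := Opens.isBasis_iff_nbhd.mp X.isBasis_affineOpens
      (show (FSch.completionToX X 𝓘 0).base x ∈ W ⊓ W' from ⟨hxW, hxW'⟩)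
    refine ⟨V, hV, hxV, hVle.trans inf_le_left, ?_⟩
    intro z hz
    have h1 : (FSch.completionToX X 𝓘 0).base z ∈ W' := (hVle hz).2
    have h2 : z ∈ (FSch.completionToX X 𝓘 0).base ⁻¹' t := h1
    rw [htU] at h2
    exact h2
  · intro V hV
    exact Groth.Agent.Helper29.CplB.flat_cV X 𝓘 h V hV

end Groth.Agent.Helper29.CplD
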