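import Mathlib
import Groth.Agent.Lib.Helper29.DAdjA

set_option autoImplicit false

namespace Groth.Agent.Helper29.DAdjB

open CategoryTheory Limits CochainComplex DerivedCategory

universe w' w v u v' u'

section Counit

variable {A : Type u} [Category.{v} A] [Abelian A] {B : Type u'} [Category.{v'} B] [Abelian B]
  {F : A ⥤ B} {G : B ⥤ A} (adj : F ⊣ G) [F.Additive] [G.Additive]
  [PreservesFiniteLimits F] [PreservesFiniteColimits F]
  [HasDerivedCategory.{w} A] [HasDerivedCategory.{w'} B]

instance isIso_counitCx [IsIso adj.counit] (I : CochainComplex B ℤ) :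
    IsIso (DAdjA.counitCx adj (ComplexShape.up ℤ) I) := by
  haveI : ∀ i, IsIso ((DAdjA.counitCx adj (ComplexShape.up ℤ) I).f i) := fun i => by
    change IsIso (adj.counit.app (I.X i))
    infer_instance
  exact HomologicalComplex.Hom.isIso_of_components _

instance isIso_cMap [IsIso adj.counit] (I : CochainComplex B ℤ) :
    IsIso (DAdjA.cMap adj I) := by
  unfold DAdjA.cMap
  infer_instance

variable [IsGrothendieckAbelian.{v'} B]

include adj in
lemma exists_isTerminal (Y : DerivedCategory B) :
    ∃ (I : CochainComplex B ℤ) (e : Q.obj I ≅ Y),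
      Nonempty (IsTerminal (CostructuredArrow.mk (DAdjA.cMap adj I ≫ e.hom) :
        CostructuredArrow F.mapDerivedCategory Y)) := by
  obtain ⟨I, r, hI, hr, -, -⟩ := KInjE.exists_kInjective_resolution (Q.objPreimage Y)
  haveI : IsIso (Q.map r) := by rw [isIso_Q_map_iff_quasiIso]; exact hr
  let e : Q.obj I ≅ Y := (asIso (Q.map r)).symm ≪≫ Q.objObjPreimageIso Y
  refine ⟨I, e, ⟨?_⟩⟩
  refine IsTerminal.ofUniqueHom (fun Z => ?_) (fun Z m => ?_)
  · exact CostructuredArrow.homMk
      (DAdjA.existsUnique_lift adj Z.left I (Z.hom ≫ e.inv)).choose (by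
        have := (DAdjA.existsUnique_lift adj Z.left I (Z.hom ≫ e.inv)).choose_spec.1
        dsimp only at this
        dsimp
        rw [← Category.assoc, this, Category.assoc, e.inv_hom_id, Category.comp_id])
  · apply CostructuredArrow.hom_ext
    apply (DAdjA.existsUnique_lift adj Z.left I (Z.hom ≫ e.inv)).choose_spec.2
    have := CostructuredArrow.w m
    dsimp at this
    rw [← this]
    simp

include adj in
lemma isIso_counit_app [IsIso adj.counit] {RG : DerivedCategory B ⥤ DerivedCategory A}
    (adjD : F.mapDerivedCategory ⊣ RG) (Y : DerivedCategory B) :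
    IsIso (adjD.counit.app Y) := by
  obtain ⟨I, e, ⟨hT⟩⟩ := exists_isTerminal adj Y
  have hT' := mkTerminalOfRightAdjoint _ adjD Y
  let i := hT'.uniqueUpToIso hT
  have h : F.mapDerivedCategory.map i.hom.left ≫ (DAdjA.cMap adj I ≫ e.hom) =
      adjD.counit.app Y := CostructuredArrow.w i.hom
  haveI : IsIso i.hom.left :=
    (inferInstance : IsIso ((CostructuredArrow.proj _ _).map i.hom))
  rw [← h]
  infer_instance

include adj in
lemma isIso_counit [IsIso adj.counit] {RG : DerivedCategory B ⥤ DerivedCategory A}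
    (adjD : F.mapDerivedCategory ⊣ RG) : IsIso adjD.counit := by
  haveI := isIso_counit_app adj adjD
  exact NatIso.isIso_of_isIso_app _

end Counit

section Transfer

variable {C : Type u} [Category.{v} C] [Abelian C] [HasDerivedCategory.{w} C]
  {A : Type u'} [Category.{v'} A] [Abelian A] [HasDerivedCategory.{w'} A]
  (G : C ⥤ A) [G.Additive]

/-- The comparison of `G_* ⋙ Q` with `quotient ⋙ (G.mapHomotopyCategory ⋙ Qh)`. -/
noncomputable def e₀ : G.mapHomologicalComplex (ComplexShape.up ℤ) ⋙ Q ≅
    HomotopyCategory.quotient C (ComplexShape.up ℤ) ⋙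
      (G.mapHomotopyCategory (ComplexShape.up ℤ) ⋙ Qh) :=
  Functor.isoWhiskerLeft _ (quotientCompQhIso A).symm ≪≫ (Functor.associator _ _ _).symm ≪≫
    Functor.isoWhiskerRight (G.mapHomotopyCategoryFactors _).symm Qh ≪≫ Functor.associator _ _ _

/-- The natural transformation `G_* ⋙ Q ⟶ Q ⋙ RG` attached to `G_h ⋙ Qh ⟶ Qh ⋙ RG`. -/
noncomputable def γ (RG : DerivedCategory C ⥤ DerivedCategory A)
    (β : G.mapHomotopyCategory (ComplexShape.up ℤ) ⋙ Qh ⟶ Qh ⋙ RG) :
    G.mapHomologicalComplex (ComplexShape.up ℤ) ⋙ Q ⟶ Q ⋙ RG :=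
  (e₀ G).hom ≫ Functor.whiskerLeft _ β ≫ (Functor.associator _ _ _).inv ≫
    Functor.whiskerRight (quotientCompQhIso C).hom RG

lemma isRightDerivedFunctor_γ (RG : DerivedCategory C ⥤ DerivedCategory A)
    (β : G.mapHomotopyCategory (ComplexShape.up ℤ) ⋙ Qh ⟶ Qh ⋙ RG)
    [RG.IsRightDerivedFunctor β (HomotopyCategory.quasiIso C (ComplexShape.up ℤ))] :
    RG.IsRightDerivedFunctor (γ G RG β)
      (HomologicalComplex.quasiIso C (ComplexShape.up ℤ)) := by
  rw [Functor.isRightDerivedFunctor_iff_isLeftKanExtension]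
  haveI : (G.mapHomotopyCategory (ComplexShape.up ℤ) ⋙ Qh).IsLeftKanExtension (e₀ G).hom := by
    have : (G.mapHomotopyCategory (ComplexShape.up ℤ) ⋙ Qh).IsRightDerivedFunctor (e₀ G).hom
        (HomologicalComplex.homotopyEquivalences C (ComplexShape.up ℤ)) :=
      Functor.isRightDerivedFunctor_of_inverts
        (HomologicalComplex.homotopyEquivalences C (ComplexShape.up ℤ))
        (G.mapHomotopyCategory (ComplexShape.up ℤ) ⋙ Qh) (e₀ G).symm
    exact Functor.IsRightDerivedFunctor.isLeftKanExtension _ (e₀ G).hom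
      (HomologicalComplex.homotopyEquivalences C (ComplexShape.up ℤ))
  haveI : RG.IsLeftKanExtension β :=
    Functor.IsRightDerivedFunctor.isLeftKanExtension _ β
      (HomotopyCategory.quasiIso C (ComplexShape.up ℤ))
  exact (Functor.isLeftKanExtension_iff_postcompose (e₀ G).hom Q (quotientCompQhIso C) β
    (γ G RG β) rfl).1 inferInstance

end Transfer

end Groth.Agent.Helper29.DAdjB
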