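import Mathlib

/-!
# Length of the cokernel of a square matrix over a DVR equals the valuation of its determinant
-/

namespace Groth.Agent.Helper29.DVRDet

open IsDiscreteValuationRing IsLocalRing

universe u v

variable {B : Type u} [CommRing B] [IsDomain B] [IsDiscreteValuationRing B]

theorem length_self_eq_top : Module.length B B = ⊤ := by
  rw [ENat.eq_top_iff_forall_ge]
  intro n
  rw [← length_quotient_pow_maximalIdeal (R := B) n]
  exact Module.length_le_of_surjective (Submodule.mkQ _) (Submodule.mkQ_surjective _)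

theorem length_quotient_span_singleton (a : B) :
    Module.length B (B ⧸ Ideal.span {a}) = addVal B a := by
  by_cases ha : a = 0
  · subst ha
    rw [addVal_zero]
    have e : (B ⧸ Ideal.span {(0 : B)}) ≃ₗ[B] B :=
      Submodule.quotEquivOfEqBot _ (by simp)
    rw [e.length_eq, length_self_eq_top]
  · obtain ⟨ϖ, hϖ⟩ := exists_irreducible B
    obtain ⟨n, u, rfl⟩ := eq_unit_mul_pow_irreducible ha hϖ
    have h1 : Ideal.span {(u : B) * ϖ ^ n} = IsLocalRing.maximalIdeal B ^ n := by
      rw [hϖ.maximalIdeal_eq, Ideal.span_singleton_pow, Ideal.span_singleton_eq_span_singleton]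
      exact associated_unit_mul_left _ _ u.isUnit
    rw [h1, length_quotient_pow_maximalIdeal, addVal_def' u hϖ n]

theorem addVal_prod {ι : Type*} (s : Finset ι) (f : ι → B) :
    addVal B (∏ i ∈ s, f i) = ∑ i ∈ s, addVal B (f i) := by
  classical
  induction s using Finset.induction_on with
  | empty => simp
  | insert a s ha ih => rw [Finset.prod_insert ha, Finset.sum_insert ha, addVal_mul, ih]

theorem length_quotient_range_mulVecLin {ι : Type*} [Fintype ι] [DecidableEq ι]
    (A : Matrix ι ι B) :
    Module.length B ((ι → B) ⧸ LinearMap.range A.mulVecLin) = addVal B A.det := by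
  by_cases hd : A.det = 0
  · rw [hd, addVal_zero]
    obtain ⟨w, hw0, hw⟩ := Matrix.exists_vecMul_eq_zero_iff.mpr hd
    let φ : (ι → B) →ₗ[B] B :=
      { toFun := fun y => w ⬝ᵥ y
        map_add' := dotProduct_add w
        map_smul' := fun c y => by simp [dotProduct_smul] }
    have hφ : LinearMap.range A.mulVecLin ≤ LinearMap.ker φ := by
      rintro _ ⟨x, rfl⟩
      rw [LinearMap.mem_ker]
      show w ⬝ᵥ (A.mulVec x) = 0
      rw [Matrix.dotProduct_mulVec, hw, zero_dotProduct]
    obtain ⟨i₀, hi₀⟩ : ∃ i, w i ≠ 0 := by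
      by_contra hcon
      push Not at hcon
      exact hw0 (funext hcon)
    let ψ : ((ι → B) ⧸ LinearMap.range A.mulVecLin) →ₗ[B] B :=
      Submodule.liftQ _ φ hφ
    let ι₀ : B →ₗ[B] ((ι → B) ⧸ LinearMap.range A.mulVecLin) :=
      (Submodule.mkQ _) ∘ₗ (LinearMap.single B (fun _ : ι => B) i₀)
    have hcomp : ∀ t : B, ψ (ι₀ t) = w i₀ * t := by
      intro t
      show w ⬝ᵥ (Pi.single i₀ t) = w i₀ * t
      rw [dotProduct_single]
    have hinj : Function.Injective ι₀ := by
      have : Function.Injective (ψ ∘ ι₀) := by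
        intro s t hst
        simp only [Function.comp_apply, hcomp] at hst
        exact mul_left_cancel₀ hi₀ hst
      exact Function.Injective.of_comp this
    have := Module.length_le_of_injective ι₀ hinj
    rw [length_self_eq_top] at this
    exact top_le_iff.mp this
  · have hinj : Function.Injective A.mulVecLin := by
      rw [← LinearMap.ker_eq_bot, LinearMap.ker_eq_bot']
      intro v hv
      by_contra hv0
      exact hd (Matrix.exists_mulVec_eq_zero_iff.mp ⟨v, hv0, hv⟩)
    obtain ⟨f, hf⟩ : ∃ f, f = A.mulVecLin := ⟨_, rfl⟩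
    rw [← hf] at hinj ⊢
    obtain ⟨N, hN⟩ : ∃ N, N = LinearMap.range f := ⟨_, rfl⟩
    rw [← hN]
    let e : (ι → B) ≃ₗ[B] N := hN ▸ LinearEquiv.ofInjective f hinj
    have he : ∀ x, ((e x : N) : ι → B) = f x := by
      subst hN
      intro x
      rfl
    let b := Pi.basisFun B ι
    have h : Module.finrank B N = Module.finrank B (ι → B) := e.symm.finrank_eq
    let a := Submodule.smithNormalFormCoeffs b h
    let b' := Submodule.smithNormalFormTopBasis b h
    let ab := Submodule.smithNormalFormBotBasis b h
    have ab_eq := Submodule.smithNormalFormBotBasis_def b h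
    let e' : (ι → B) ≃ₗ[B] N := b'.equiv ab (Equiv.refl _)
    let f' : (ι → B) →ₗ[B] (ι → B) := N.subtype.comp e'.toLinearMap
    have hff : f = N.subtype.comp e.toLinearMap := by
      apply LinearMap.ext
      intro x
      exact (he x).symm
    have hassoc : Associated (LinearMap.det f) (LinearMap.det f') := by
      rw [hff]; exact LinearMap.associated_det_comp_equiv _ _ _
    have hdetf : LinearMap.det f = A.det := by
      rw [hf, ← Matrix.toLin'_apply', LinearMap.det_toLin']
    have ha : ∀ i, f' (b' i) = a i • b' i := by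
      intro i
      show ((e' (b' i) : N) : ι → B) = _
      rw [b'.equiv_apply, Equiv.refl_apply]
      exact ab_eq i
    have hdetf' : LinearMap.det f' = ∏ i, a i := by
      rw [← LinearMap.det_toMatrix b']
      have : LinearMap.toMatrix b' b' f' = Matrix.diagonal a := by
        ext i j
        rw [LinearMap.toMatrix_apply, ha, map_smul, Module.Basis.repr_self, Finsupp.smul_single,
          smul_eq_mul, mul_one]
        by_cases h : i = j
        · rw [h, Matrix.diagonal_apply_eq, Finsupp.single_eq_same]
        · rw [Matrix.diagonal_apply_ne _ h, Finsupp.single_eq_of_ne h]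
      rw [this, Matrix.det_diagonal]
    have hlen : Module.length B ((ι → B) ⧸ N) = ∑ i, addVal B (a i) := by
      rw [(Submodule.quotientEquivPiSpan N b h).length_eq, Module.length_pi_of_fintype]
      exact Finset.sum_congr rfl (fun i _ => length_quotient_span_singleton (a i))
    rw [hlen, ← addVal_prod, ← hdetf', ← hdetf]
    exact ((addVal_eq_iff_associated _ _).mpr hassoc).symm

theorem main (ω : B ≃+* B) {n : ℕ} (r : Fin n → ℕ)
    (M N : Fin n → Type v) [∀ i, AddCommGroup (M i)] [∀ i, Module B (M i)]
    [∀ i, AddCommGroup (N i)] [∀ i, Module B (N i)]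
    (bM : ∀ i, Module.Basis (Fin (r i)) B (M i)) (bN : ∀ i, Module.Basis (Fin (r i)) B (N i))
    (χ : ∀ i, M i →+ N i) (hχ : ∀ i (b : B) (x : M i), χ i (b • x) = ω b • χ i x) :
    Module.length B ((∀ i, N i) ⧸ Submodule.span B
        (Set.range (fun (x : ∀ i, M i) (i : Fin n) => χ i (x i)))) =
      addVal B (∏ i, Matrix.det
        (Matrix.of fun (a c : Fin (r i)) => (bN i).repr (χ i (bM i c)) a)) := by
  classical
  let A : ∀ i, Matrix (Fin (r i)) (Fin (r i)) B :=
    fun i => Matrix.of fun a c => (bN i).repr (χ i (bM i c)) a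
  let L : ∀ i, Submodule B (Fin (r i) → B) := fun i => LinearMap.range (A i).mulVecLin
  let e : (∀ i, N i) ≃ₗ[B] (∀ i, Fin (r i) → B) :=
    LinearEquiv.piCongrRight (fun i => (bN i).equivFun)
  have hkey : ∀ i (c : Fin (r i) → B),
      (bN i).equivFun (χ i (∑ j, c j • bM i j)) = (A i).mulVec (fun j => ω (c j)) := by
    intro i c
    rw [map_sum]
    simp only [hχ, map_sum, map_smul]
    ext a
    simp [Matrix.mulVec, dotProduct, A, mul_comm]
  have hmap : (Submodule.span B (Set.range (fun (x : ∀ i, M i) (i : Fin n) => χ i (x i)))).map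
      (e : (∀ i, N i) →ₗ[B] _) = Submodule.pi Set.univ L := by
    rw [Submodule.map_span]
    have hset : (e : (∀ i, N i) →ₗ[B] _) ''
        (Set.range (fun (x : ∀ i, M i) (i : Fin n) => χ i (x i))) =
        (↑(Submodule.pi Set.univ L) : Set (∀ i, Fin (r i) → B)) := by
      ext y
      constructor
      · rintro ⟨_, ⟨x, rfl⟩, rfl⟩
        intro i _
        have hx : x i = ∑ j, (bM i).repr (x i) j • bM i j := ((bM i).sum_repr (x i)).symm
        show (bN i).equivFun (χ i (x i)) ∈ L i
        rw [hx, hkey]
        exact ⟨_, rfl⟩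
      · intro hy
        have hy' : ∀ i, ∃ z : Fin (r i) → B, (A i).mulVec z = y i :=
          fun i => hy i (Set.mem_univ i)
        choose z hz using hy'
        refine ⟨_, ⟨fun i => ∑ j, ω.symm (z i j) • bM i j, rfl⟩, ?_⟩
        funext i
        show (bN i).equivFun (χ i (∑ j, ω.symm (z i j) • bM i j)) = y i
        rw [hkey]
        simp only [RingEquiv.apply_symm_apply]
        exact hz i
    rw [hset, Submodule.span_eq]
  rw [(Submodule.Quotient.equiv _ _ e hmap).length_eq, (Submodule.quotientPi L).length_eq,
    Module.length_pi_of_fintype, addVal_prod]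
  exact Finset.sum_congr rfl (fun i _ => length_quotient_range_mulVecLin (A i))

end Groth.Agent.Helper29.DVRDet
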