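import Mathlib
import Groth.Prelude.Def_DeRham

/-!
# de Rham receptacles: generators (helper29)

* `addMonoidHom_ext_of_gen`: additive maps out of `⋀^p M` agreeing on the elements
  `b₀ · δb₁ ∧ … ∧ δb_p` agree, when `δ(A)` spans `M`.
* `map_gen`: `exteriorPower.map p π` on generators.
-/

open exteriorPower

namespace Groth.Agent.Helper29.DeRhamLib

universe u v w

variable {R : Type v} {A M : Type u} [CommRing R] [CommRing A] [Algebra R A]
  [AddCommGroup M] [Module A M] [Module R M]

theorem addMonoidHom_ext_of_gen {N' : Type w} [AddCommGroup N'] (δ : Derivation R A M)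
    (hδ : Submodule.span A (Set.range δ) = ⊤) (p : ℕ) (ψ ψ' : ↥(⋀[A]^p M) →+ N')
    (h : ∀ (b₀ : A) (b : Fin p → A), ψ (DeRham.gen δ p b₀ b) = ψ' (DeRham.gen δ p b₀ b)) :
    ψ = ψ' := by
  have key : ∀ x : ↥(⋀[A]^p M), ∀ c : A, ψ (c • x) = ψ' (c • x) := by
    intro x
    have hx : x ∈ Submodule.span A (ιMulti A p '' {a | Set.range a ⊆ Set.range δ}) := by
      rw [exteriorPower.ιMulti_span_of_span A p M hδ]
      trivial
    induction hx using Submodule.span_induction with
    | mem x hx =>
      obtain ⟨a, ha, rfl⟩ := hx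
      intro c
      have hb : ∀ i, ∃ b : A, δ b = a i := fun i => ha ⟨i, rfl⟩
      choose b hb using hb
      have e : a = fun i => δ (b i) := funext (fun i => (hb i).symm)
      rw [e]
      exact h c b
    | zero => intro c; rw [smul_zero, map_zero, map_zero]
    | add x y _ _ hx hy => intro c; rw [smul_add, map_add, map_add, hx, hy]
    | smul a x _ hx => intro c; rw [smul_smul]; exact hx (c * a)
  ext x
  have := key x 1
  rwa [one_smul] at this

theorem map_gen {R' : Type w} [CommRing R'] [Algebra R' A]
    {M' : Type u} [AddCommGroup M'] [Module A M'] [Module R' M']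
    (δ : Derivation R A M) (δ' : Derivation R' A M') (π : M →ₗ[A] M')
    (hπ : ∀ a, π (δ a) = δ' a) (p : ℕ) (b₀ : A) (b : Fin p → A) :
    exteriorPower.map p π (DeRham.gen δ p b₀ b) = DeRham.gen δ' p b₀ b := by
  unfold DeRham.gen
  rw [map_smul, exteriorPower.map_apply_ιMulti]
  congr 2
  funext i
  exact hπ (b i)

end Groth.Agent.Helper29.DeRhamLib
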