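import Mathlib

/-!
# Degree bound for spanning a finite-dimensional quotient of a polynomial ring (helper29)
-/

open MvPolynomial

namespace Groth.Agent.Helper29.DegBound

universe u

variable {k : Type u} [Field k] {N : ℕ} (I : Ideal (MvPolynomial (Fin N) k))

/-- image of polynomials of degree `≤ j` -/
noncomputable def V (j : ℕ) : Submodule k (MvPolynomial (Fin N) k ⧸ I) :=
  Submodule.map (Ideal.Quotient.mkₐ k I).toLinearMap (MvPolynomial.restrictTotalDegree (Fin N) k j)

theorem V_mono {i j : ℕ} (h : i ≤ j) : V I i ≤ V I j := by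
  apply Submodule.map_mono
  intro p hp
  rw [mem_restrictTotalDegree] at *
  omega

theorem mk_mem_V {p : MvPolynomial (Fin N) k} {j : ℕ} (hp : p.totalDegree ≤ j) :
    Ideal.Quotient.mk I p ∈ V I j :=
  ⟨p, (mem_restrictTotalDegree _ _ _).2 hp, rfl⟩

theorem eq_top_of_succ_le (j : ℕ) (h : V I (j + 1) ≤ V I j) : V I j = ⊤ := by
  rw [eq_top_iff]
  rintro q -
  obtain ⟨p, rfl⟩ := Ideal.Quotient.mk_surjective q
  induction p using MvPolynomial.induction_on with
  | C a => exact mk_mem_V I (by rw [totalDegree_C]; omega)
  | add p q hp hq => rw [map_add]; exact Submodule.add_mem _ hp hq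
  | mul_X p i hp =>
    obtain ⟨q, hq, hqp⟩ := hp
    have hq' : q.totalDegree ≤ j := (mem_restrictTotalDegree _ _ _).1 hq
    have hqp' : Ideal.Quotient.mk I q = Ideal.Quotient.mk I p := hqp
    apply h
    have : Ideal.Quotient.mk I (p * X i) = Ideal.Quotient.mk I (q * X i) := by
      rw [map_mul, map_mul, hqp']
    rw [this]
    apply mk_mem_V
    calc (q * X i).totalDegree ≤ q.totalDegree + (X i : MvPolynomial (Fin N) k).totalDegree :=
          totalDegree_mul _ _
      _ ≤ j + 1 := by rw [totalDegree_X]; omega

theorem key [Module.Finite k (MvPolynomial (Fin N) k ⧸ I)] (j : ℕ) :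
    j + 1 ≤ Module.finrank k (V I j) ∨ V I j = ⊤ := by
  induction j with
  | zero =>
    by_cases hs : Subsingleton (MvPolynomial (Fin N) k ⧸ I)
    · right
      rw [eq_top_iff]
      intro x _
      rw [Subsingleton.elim x 0]
      exact Submodule.zero_mem _
    · left
      rw [not_subsingleton_iff_nontrivial] at hs
      have h1 : (1 : MvPolynomial (Fin N) k ⧸ I) ∈ V I 0 := by
        have := mk_mem_V I (p := (1 : MvPolynomial (Fin N) k)) (j := 0) (by simp)
        simpa using this
      have : 0 < Module.finrank k (V I 0) := by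
        rw [Module.finrank_pos_iff_exists_ne_zero]
        refine ⟨⟨1, h1⟩, ?_⟩
        intro h
        exact one_ne_zero (congrArg Subtype.val h)
      omega
  | succ j ih =>
    rcases ih with ih | ih
    · by_cases h : V I (j + 1) ≤ V I j
      · right
        have := eq_top_of_succ_le I j h
        exact top_le_iff.1 (this ▸ V_mono I (Nat.le_succ j))
      · left
        have hlt : V I j < V I (j + 1) := lt_of_le_not_ge (V_mono I (Nat.le_succ j)) h
        have := Submodule.finrank_lt_finrank_of_lt hlt
        omega
    · right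
      exact top_le_iff.1 (ih ▸ V_mono I (Nat.le_succ j))

theorem degree_bound (n N : ℕ) :
    ∃ d : ℕ, ∀ (k : Type u) [Field k] (I : Ideal (MvPolynomial (Fin N) k))
      [Module.Finite k (MvPolynomial (Fin N) k ⧸ I)],
      Module.finrank k (MvPolynomial (Fin N) k ⧸ I) = n →
      Submodule.map (Ideal.Quotient.mkₐ k I).toLinearMap
        (MvPolynomial.restrictTotalDegree (Fin N) k d) = ⊤ := by
  refine ⟨n, ?_⟩
  intro k _ I _ hn
  rcases key I n with h | h
  · have := Submodule.finrank_le (V I n)
    omega
  · exact h

end Groth.Agent.Helper29.DegBound
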