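import Mathlib

/-!
# `A[X]/(det)` is faithfully flat over `A`

We prove flatness over `ℤ` (torsion-freeness, using reduction mod `p`) and base change.
-/

namespace Groth.Agent.Helper29.DetFlat

open MvPolynomial TensorProduct

universe u

section General

variable {σ : Type*} (d : MvPolynomial σ ℤ)

/-- If `d` is nonzero modulo a prime `p` then `d ∣ p * g → d ∣ g`. -/
theorem dvd_of_dvd_prime_mul (p : ℕ) [hp : Fact p.Prime]
    (hd : map (Int.castRingHom (ZMod p)) d ≠ 0) (g : MvPolynomial σ ℤ)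
    (h : d ∣ C (p : ℤ) * g) : d ∣ g := by
  obtain ⟨q, hq⟩ := h
  have h1 : map (Int.castRingHom (ZMod p)) d * map (Int.castRingHom (ZMod p)) q = 0 := by
    rw [← map_mul, ← hq, map_mul, map_C]
    simp
  have h2 : map (Int.castRingHom (ZMod p)) q = 0 := by
    rcases mul_eq_zero.1 h1 with h | h
    · exact absurd h hd
    · exact h
  rw [← C_dvd_iff_zmod] at h2
  obtain ⟨q', rfl⟩ := h2
  refine ⟨q', ?_⟩
  have hp0 : (C (p : ℤ) : MvPolynomial σ ℤ) ≠ 0 := by
    rw [Ne, C_eq_zero]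
    exact_mod_cast hp.out.ne_zero
  apply mul_left_cancel₀ hp0
  rw [hq]; ring

theorem dvd_of_dvd_nat_mul (hd : ∀ p : ℕ, p.Prime → map (Int.castRingHom (ZMod p)) d ≠ 0) :
    ∀ m : ℕ, m ≠ 0 → ∀ g : MvPolynomial σ ℤ, d ∣ C (m : ℤ) * g → d ∣ g := by
  intro m
  induction m using Nat.strong_induction_on with
  | _ m ih =>
    intro hm g h
    by_cases h1 : m = 1
    · subst h1; simpa using h
    · obtain ⟨p, hp, m', rfl⟩ := Nat.exists_prime_and_dvd h1
      have hm' : m' ≠ 0 := by rintro rfl; simp at hm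
      have hlt : m' < p * m' := by
        have := hp.two_le
        nlinarith [Nat.pos_of_ne_zero hm']
      have : Fact p.Prime := ⟨hp⟩
      have h2 : d ∣ C (p : ℤ) * (C (m' : ℤ) * g) := by
        have : C (p : ℤ) * (C (m' : ℤ) * g) = C ((p * m' : ℕ) : ℤ) * g := by
          push_cast; rw [C_mul]; ring
        rw [this]; exact h
      exact ih m' hlt hm' g (dvd_of_dvd_prime_mul d p (hd p hp) _ h2)

theorem flat_int_quotient (hd : ∀ p : ℕ, p.Prime → map (Int.castRingHom (ZMod p)) d ≠ 0) :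
    Module.Flat ℤ (MvPolynomial σ ℤ ⧸ Ideal.span {d}) := by
  rw [Module.Flat.flat_iff_torsion_eq_bot_of_isBezout, eq_bot_iff]
  rintro x ⟨a, ha⟩
  obtain ⟨g, rfl⟩ := Ideal.Quotient.mk_surjective x
  rw [Submodule.mem_bot, Ideal.Quotient.eq_zero_iff_mem, Ideal.mem_span_singleton]
  have ha0 : (a : ℤ) ≠ 0 := nonZeroDivisors.coe_ne_zero a
  have h1 : d ∣ C (a : ℤ) * g := by
    rw [← Ideal.mem_span_singleton, ← Ideal.Quotient.eq_zero_iff_mem, ← ha]
    rw [Submonoid.smul_def, ← MvPolynomial.smul_eq_C_mul]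
    rfl
  have h2 : d ∣ C ((a : ℤ).natAbs : ℤ) * g := by
    rcases Int.natAbs_eq (a : ℤ) with h | h
    · rw [← h]; exact h1
    · have : ((a : ℤ).natAbs : ℤ) = -(a : ℤ) := by omega
      rw [this, C_neg, neg_mul]
      exact (dvd_neg).2 h1
  exact dvd_of_dvd_nat_mul d hd _ (Int.natAbs_ne_zero.2 ha0) g h2

variable (A : Type u) [CommRing A]

/-- The base change iso. -/
noncomputable def quotEquiv :
    (A ⊗[ℤ] (MvPolynomial σ ℤ ⧸ Ideal.span {d})) ≃ₐ[A]
      (MvPolynomial σ A ⧸ Ideal.span {map (Int.castRingHom A) d}) :=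
  (Algebra.TensorProduct.tensorQuotientEquiv (R := ℤ) A (MvPolynomial σ ℤ) A (Ideal.span {d})).trans
    (Ideal.quotientEquivAlg _ _ (algebraTensorAlgEquiv ℤ A) (by
      rw [Ideal.map_span, Set.image_singleton]
      have : (algebraTensorAlgEquiv (σ := σ) ℤ A : A ⊗[ℤ] MvPolynomial σ ℤ →+* MvPolynomial σ A) =
          ((algebraTensorAlgEquiv (σ := σ) ℤ A : A ⊗[ℤ] MvPolynomial σ ℤ ≃ₐ[A] MvPolynomial σ A) :
            A ⊗[ℤ] MvPolynomial σ ℤ →ₐ[A] MvPolynomial σ A).toRingHom := rfl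
      rw [Ideal.map_span, Set.image_singleton]
      congr 2
      change _ = algebraTensorAlgEquiv ℤ A ((1 : A) ⊗ₜ[ℤ] d)
      rw [algebraTensorAlgEquiv_tmul, one_smul]
      rfl))

theorem flat_quotient (hd : ∀ p : ℕ, p.Prime → map (Int.castRingHom (ZMod p)) d ≠ 0) :
    Module.Flat A (MvPolynomial σ A ⧸ Ideal.span {map (Int.castRingHom A) d}) := by
  have := flat_int_quotient d hd
  exact Module.Flat.of_linearEquiv (quotEquiv d A).symm.toLinearEquiv

end General

end Groth.Agent.Helper29.DetFlat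

namespace Groth.Agent.Helper29.DetFlat

open MvPolynomial

universe u

theorem map_det {R S : Type*} [CommRing R] [CommRing S] (f : R →+* S) (n : ℕ) :
    map f (Matrix.mvPolynomialX (Fin n) (Fin n) R).det =
      (Matrix.mvPolynomialX (Fin n) (Fin n) S).det := by
  rw [RingHom.map_det]
  congr 1
  ext i j
  simp [Matrix.mvPolynomialX]

theorem main (A : Type u) [CommRing A] (n : ℕ) (hn : 0 < n) :
    Module.FaithfullyFlat A
      (MvPolynomial (Fin n × Fin n) A ⧸
        Ideal.span {(Matrix.mvPolynomialX (Fin n) (Fin n) A).det}) := by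
  have hflat : Module.Flat A (MvPolynomial (Fin n × Fin n) A ⧸
      Ideal.span {(Matrix.mvPolynomialX (Fin n) (Fin n) A).det}) := by
    have := flat_quotient (Matrix.mvPolynomialX (Fin n) (Fin n) ℤ).det A (by
      intro p hp
      have : Fact p.Prime := ⟨hp⟩
      rw [map_det]
      exact Matrix.det_mvPolynomialX_ne_zero (Fin n) (ZMod p))
    rwa [map_det] at this
  have : Nonempty (Fin n) := ⟨⟨0, hn⟩⟩
  let ρ : (MvPolynomial (Fin n × Fin n) A ⧸
      Ideal.span {(Matrix.mvPolynomialX (Fin n) (Fin n) A).det}) →ₐ[A] A :=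
    Ideal.Quotient.liftₐ _ (aeval (0 : Fin n × Fin n → A)) (by
      intro a ha
      rw [Ideal.mem_span_singleton] at ha
      obtain ⟨q, rfl⟩ := ha
      rw [map_mul]
      have : aeval (0 : Fin n × Fin n → A) (Matrix.mvPolynomialX (Fin n) (Fin n) A).det = 0 := by
        rw [aeval_eq_eval, Matrix.eval_det_mvPolynomialX]
        convert Matrix.det_zero (n := Fin n) (R := A)
        · ext i j; rfl
      rw [this, zero_mul])
  apply Module.FaithfullyFlat.of_comap_surjective
  intro q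
  refine ⟨PrimeSpectrum.comap ρ.toRingHom q, ?_⟩
  rw [← PrimeSpectrum.comap_comp_apply]
  have : ρ.toRingHom.comp (algebraMap A _) = RingHom.id A := by
    ext a
    simp
  rw [this]
  simp

end Groth.Agent.Helper29.DetFlat
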