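import Mathlib

namespace Groth.Agent.Helper29.Dilat

universe u

open AdicCompletion

section Gen

variable {R : Type u} [CommRing R] (π : R)

lemma fg_span : (Ideal.span {π} : Ideal R).FG := ⟨{π}, by simp⟩

lemma mem_pow_smul_top_iff (m : ℕ) (x : R) :
    x ∈ ((Ideal.span {π} : Ideal R) ^ m • ⊤ : Submodule R R) ↔ ∃ w, x = π ^ m * w := by
  have h : ((Ideal.span {π} : Ideal R) ^ m • ⊤ : Ideal R) = Ideal.span {π ^ m} := by
    rw [smul_eq_mul, Ideal.mul_top, Ideal.span_singleton_pow]
  show x ∈ ((Ideal.span {π} : Ideal R) ^ m • ⊤ : Ideal R) ↔ _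
  rw [h, Ideal.mem_span_singleton']
  constructor
  · rintro ⟨a, rfl⟩; exact ⟨a, mul_comm _ _⟩
  · rintro ⟨w, rfl⟩; exact ⟨w, mul_comm _ _⟩

lemma isAdicComplete_hat :
    IsAdicComplete (Ideal.span {algebraMap R (AdicCompletion (Ideal.span {π}) R) π})
      (AdicCompletion (Ideal.span {π}) R) := by
  have := AdicCompletion.isAdicComplete_self (Ideal.span {π}) (fg_span π)
  rwa [Ideal.map_span, Set.image_singleton] at this

lemma eq_zero_of_mul_eq_zero_hat (hπ : IsSMulRegular R π)
    (z : AdicCompletion (Ideal.span {π}) R)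
    (hz : algebraMap R (AdicCompletion (Ideal.span {π}) R) π * z = 0) : z = 0 := by
  obtain ⟨c, rfl⟩ := mk_surjective _ _ z
  rw [← Algebra.smul_def, ← map_smul] at hz
  ext n
  rw [mk_apply_coe, Submodule.mkQ_apply, val_zero,
    ← AdicCauchySequence.mk_eq_mk (Nat.le_succ n) c]
  have h1 := congrArg (fun y : AdicCompletion (Ideal.span {π}) R => y.val (n + 1)) hz
  simp only [mk_apply_coe, Submodule.mkQ_apply, val_zero, AdicCauchySequence.smul_apply,
    Pi.zero_apply] at h1
  rw [Submodule.Quotient.mk_eq_zero, mem_pow_smul_top_iff] at h1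
  obtain ⟨w, hw⟩ := h1
  have h2 : c (n + 1) = π ^ n * w := by
    apply hπ
    show π • c (n + 1) = π • (π ^ n * w)
    rw [hw, smul_eq_mul, pow_succ]
    ring
  show (Submodule.Quotient.mk (c (n + 1)) : R ⧸ ((Ideal.span {π} : Ideal R) ^ n • ⊤ : Submodule R R)) = 0
  rw [Submodule.Quotient.mk_eq_zero, mem_pow_smul_top_iff]
  exact ⟨w, h2⟩

lemma regular_hat (hπ : IsSMulRegular R π) :
    IsSMulRegular (AdicCompletion (Ideal.span {π}) R)
      (algebraMap R (AdicCompletion (Ideal.span {π}) R) π) := by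
  intro x y hxy
  have : algebraMap R (AdicCompletion (Ideal.span {π}) R) π * (x - y) = 0 := by
    rw [mul_sub, sub_eq_zero]
    exact hxy
  exact sub_eq_zero.mp (eq_zero_of_mul_eq_zero_hat π hπ _ this)

/-- every element of the completion is congruent to an element of `R` modulo `π ^ n` -/
lemma exists_of_add (x : AdicCompletion (Ideal.span {π}) R) (n : ℕ) :
    ∃ (y : R) (z : AdicCompletion (Ideal.span {π}) R),
      x = algebraMap R _ y + algebraMap R (AdicCompletion (Ideal.span {π}) R) (π ^ n) * z := by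
  obtain ⟨c, rfl⟩ := mk_surjective _ _ x
  have h1 : mk _ R c - of _ R (c n) ∈ LinearMap.ker (eval (Ideal.span {π}) R n) := by
    rw [LinearMap.mem_ker, map_sub, eval_of, eval_apply, mk_apply_coe, sub_self]
  rw [← pow_smul_top_eq_ker_eval (fg_span π), Ideal.span_singleton_pow,
    Submodule.ideal_span_singleton_smul, Submodule.mem_smul_pointwise_iff_exists] at h1
  obtain ⟨z, -, hz⟩ := h1
  refine ⟨c n, z, ?_⟩
  rw [← Algebra.smul_def, hz, AdicCompletion.algebraMap_apply]
  simp

end Gen

section Main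

open MvPolynomial

variable (p : ℕ) (A : Type u) [CommRing A] {n : ℕ} (a : Fin n → A)

/-- the ideal generated by the `p X_i - a_i` -/
noncomputable def J : Ideal (MvPolynomial (Fin n) A) :=
  Ideal.span (Set.range fun i => (p : MvPolynomial (Fin n) A) * X i - C (a i))

/-- its `p`-saturation -/
noncomputable def Jsat : Ideal (MvPolynomial (Fin n) A) where
  carrier := {f | ∃ k : ℕ, (p : MvPolynomial (Fin n) A) ^ k * f ∈ J p A a}
  zero_mem' := ⟨0, by simp⟩
  add_mem' := by
    rintro f g ⟨k, hk⟩ ⟨l, hl⟩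
    refine ⟨k + l, ?_⟩
    have : (p : MvPolynomial (Fin n) A) ^ (k + l) * (f + g)
        = (p : MvPolynomial (Fin n) A) ^ l * ((p : MvPolynomial (Fin n) A) ^ k * f)
          + (p : MvPolynomial (Fin n) A) ^ k * ((p : MvPolynomial (Fin n) A) ^ l * g) := by ring
    rw [this]
    exact Ideal.add_mem _ (Ideal.mul_mem_left _ _ hk) (Ideal.mul_mem_left _ _ hl)
  smul_mem' := by
    rintro c f ⟨k, hk⟩
    refine ⟨k, ?_⟩
    have : (p : MvPolynomial (Fin n) A) ^ k * (c • f)
        = c * ((p : MvPolynomial (Fin n) A) ^ k * f) := by rw [smul_eq_mul]; ring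
    rw [this]
    exact Ideal.mul_mem_left _ _ hk

lemma J_le_Jsat : J p A a ≤ Jsat p A a := fun f hf => ⟨0, by simpa using hf⟩

/-- the uncompleted dilatation algebra -/
abbrev D0 : Type u := MvPolynomial (Fin n) A ⧸ Jsat p A a

lemma regular_D0 : IsSMulRegular (D0 p A a) (p : D0 p A a) := by
  intro x y hxy
  obtain ⟨f, rfl⟩ := Ideal.Quotient.mk_surjective x
  obtain ⟨g, rfl⟩ := Ideal.Quotient.mk_surjective y
  rw [Ideal.Quotient.eq]
  have h : (p : D0 p A a) • Ideal.Quotient.mk (Jsat p A a) f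
      = (p : D0 p A a) • Ideal.Quotient.mk (Jsat p A a) g := hxy
  rw [smul_eq_mul, smul_eq_mul, ← map_natCast (Ideal.Quotient.mk (Jsat p A a)), ← map_mul,
    ← map_mul, Ideal.Quotient.eq] at h
  obtain ⟨k, hk⟩ := h
  refine ⟨k + 1, ?_⟩
  have : (p : MvPolynomial (Fin n) A) ^ (k + 1) * (f - g)
      = (p : MvPolynomial (Fin n) A) ^ k * ((p : MvPolynomial (Fin n) A) * f
        - (p : MvPolynomial (Fin n) A) * g) := by ring
  rw [this]
  exact hk

lemma mk_C_eq (i : Fin n) :
    Ideal.Quotient.mk (Jsat p A a) (C (a i))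
      = (p : D0 p A a) * Ideal.Quotient.mk (Jsat p A a) (X i) := by
  rw [← map_natCast (Ideal.Quotient.mk (Jsat p A a)), ← map_mul, Ideal.Quotient.eq]
  apply J_le_Jsat
  have : C (a i) - (p : MvPolynomial (Fin n) A) * X i
      = -((p : MvPolynomial (Fin n) A) * X i - C (a i)) := by ring
  rw [this]
  exact neg_mem (Ideal.subset_span ⟨i, rfl⟩)

theorem main :
    ∃ (D : Type u) (_ : CommRing D) (_ : Algebra A D),
      IsAdicComplete (Ideal.span {(p : D)}) D ∧ IsSMulRegular D (p : D) ∧
      (∀ i, algebraMap A D (a i) ∈ Ideal.span {(p : D)}) ∧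
      ∀ (B : Type u) [CommRing B] [Algebra A B] [IsAdicComplete (Ideal.span {(p : B)}) B],
        IsSMulRegular B (p : B) → (∀ i, algebraMap A B (a i) ∈ Ideal.span {(p : B)}) →
          Nonempty (D →ₐ[A] B) ∧ Subsingleton (D →ₐ[A] B) ∧
            (Function.Surjective (algebraMap A B) → ∀ f : D →ₐ[A] B, Function.Surjective f) := by
  let D₀ := D0 p A a
  let I₀ : Ideal D₀ := Ideal.span {(p : D₀)}
  let D := AdicCompletion I₀ D₀
  have hpD : algebraMap D₀ D (p : D₀) = (p : D) := map_natCast _ _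
  have htower : IsScalarTower A D₀ D := inferInstance
  refine ⟨D, inferInstance, inferInstance, ?_, ?_, ?_, ?_⟩
  · have := isAdicComplete_hat (p : D₀)
    rwa [hpD] at this
  · have := regular_hat (p : D₀) (regular_D0 p A a)
    rwa [hpD] at this
  · intro i
    refine Ideal.mem_span_singleton'.mpr ⟨algebraMap D₀ D (Ideal.Quotient.mk _ (X i)), ?_⟩
    rw [← hpD, ← map_mul, mul_comm, ← mk_C_eq, IsScalarTower.algebraMap_apply A D₀ D]
    rfl
  · intro B _ _ _ hB hb
    choose b hb using fun i => Ideal.mem_span_singleton'.mp (hb i)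
    let g : MvPolynomial (Fin n) A →ₐ[A] B := aeval b
    have hgJ : J p A a ≤ RingHom.ker (g : MvPolynomial (Fin n) A →+* B) := by
      refine Ideal.span_le.mpr ?_
      rintro _ ⟨i, rfl⟩
      show g _ = 0
      simp only [g, map_sub, map_mul, map_natCast, aeval_X, aeval_C]
      rw [← hb i, mul_comm, sub_self]
    have hgsat : ∀ f ∈ Jsat p A a, g f = 0 := by
      rintro f ⟨k, hk⟩
      have h1 : g ((p : MvPolynomial (Fin n) A) ^ k * f) = 0 := hgJ hk
      rw [map_mul, map_pow, map_natCast] at h1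
      apply hB.pow k
      show (p : B) ^ k • g f = (p : B) ^ k • 0
      rw [smul_eq_mul, smul_zero, h1]
    let g₀ : D₀ →ₐ[A] B := Ideal.Quotient.liftₐ (Jsat p A a) g hgsat
    let IB : Ideal B := Ideal.span {(p : B)}
    have hcomap : ∀ m : ℕ, I₀ ^ m ≤ (IB ^ m).comap g₀ := by
      intro m
      simp only [I₀, IB, Ideal.span_singleton_pow]
      rw [Ideal.span_singleton_le_iff_mem, Ideal.mem_comap, map_pow, map_natCast]
      exact Ideal.mem_span_singleton_self _
    let fn : ∀ m : ℕ, D →ₐ[A] B ⧸ IB ^ m := fun m =>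
      (Ideal.quotientMapₐ (IB ^ m) g₀ (hcomap m)).comp ((evalₐ I₀ m).restrictScalars A)
    have hfn : ∀ (m : ℕ) (c : AdicCauchySequence I₀ D₀),
        fn m (AdicCompletion.mk I₀ D₀ c) = Ideal.Quotient.mk (IB ^ m) (g₀ (c m)) := by
      intro m c
      show Ideal.quotientMapₐ (IB ^ m) g₀ (hcomap m) (evalₐ I₀ m (AdicCompletion.mk I₀ D₀ c)) = _
      rw [evalₐ_mk]
      rfl
    have compat : ∀ {m m' : ℕ} (hle : m ≤ m'),
        (Ideal.Quotient.factorₐ A (Ideal.pow_le_pow_right hle)).comp (fn m') = fn m := by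
      intro m m' hle
      ext x
      obtain ⟨c, rfl⟩ := AdicCompletion.mk_surjective _ _ x
      rw [AlgHom.comp_apply, hfn, hfn]
      show Ideal.Quotient.factor (Ideal.pow_le_pow_right hle) (Ideal.Quotient.mk _ _) = _
      rw [Ideal.Quotient.factor_mk, Ideal.Quotient.eq, ← map_sub]
      apply hcomap m
      have h1 := AdicCompletion.Ideal.mk_eq_mk I₀ hle c
      rw [Ideal.Quotient.eq] at h1
      exact h1
    refine ⟨⟨IsAdicComplete.liftAlgHom IB fn compat⟩, ⟨?_⟩, ?_⟩
    · intro F G
      -- agree on D₀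
      have h0 : ∀ (H : D →ₐ[A] B) (i : Fin n),
          H (algebraMap D₀ D (Ideal.Quotient.mk _ (X i))) = b i := by
        intro H i
        apply hB
        show (p : B) • H _ = (p : B) • b i
        rw [smul_eq_mul, smul_eq_mul, mul_comm _ (b i), hb i, ← map_natCast H, ← map_mul, ← hpD,
          ← map_mul, ← mk_C_eq, ← H.commutes, IsScalarTower.algebraMap_apply A D₀ D]
        rfl
      have h1 : ∀ y : D₀, F (algebraMap D₀ D y) = G (algebraMap D₀ D y) := by
        intro y
        obtain ⟨q, rfl⟩ := Ideal.Quotient.mk_surjective y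
        have : (F.comp (IsScalarTower.toAlgHom A D₀ D)).comp (Ideal.Quotient.mkₐ A (Jsat p A a))
            = (G.comp (IsScalarTower.toAlgHom A D₀ D)).comp (Ideal.Quotient.mkₐ A (Jsat p A a)) := by
          apply MvPolynomial.algHom_ext
          intro i
          show F (algebraMap D₀ D (Ideal.Quotient.mk _ (X i)))
            = G (algebraMap D₀ D (Ideal.Quotient.mk _ (X i)))
          rw [h0 F i, h0 G i]
        exact congrArg (fun H : MvPolynomial (Fin n) A →ₐ[A] B => H q) this
      apply IsAdicComplete.algHom_ext IB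
      intro m
      ext x
      show Ideal.Quotient.mk (IB ^ m) (F x) = Ideal.Quotient.mk (IB ^ m) (G x)
      obtain ⟨y, z, rfl⟩ := exists_of_add (p : D₀) x m
      rw [Ideal.Quotient.eq]
      have e1 : F (algebraMap D₀ D y + algebraMap D₀ D ((p : D₀) ^ m) * z)
          - G (algebraMap D₀ D y + algebraMap D₀ D ((p : D₀) ^ m) * z)
          = (p : B) ^ m * (F z - G z) := by
        have e2 : G (algebraMap D₀ D ((p : D₀) ^ m)) = (p : B) ^ m := by
          rw [map_pow, map_pow, hpD, map_natCast]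
        rw [map_add, map_add, map_mul, map_mul, h1 y, h1 ((p : D₀) ^ m), e2]
        ring
      rw [e1]
      apply Ideal.mul_mem_right
      simp only [IB, Ideal.span_singleton_pow]
      exact Ideal.mem_span_singleton_self _
    · intro hsurj F y
      obtain ⟨x, rfl⟩ := hsurj y
      exact ⟨algebraMap A D x, F.commutes x⟩

end Main

end Groth.Agent.Helper29.Dilat
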