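import Mathlib

/-!
# A combinatorial lemma on double indexings of stable point configurations
-/

namespace Groth.Agent.Helper29.DoubleIdx

universe u

theorem card_filter_eq_one {n : ℕ} (f : Fin n → Fin n) (hf : Function.Injective f) (m : Fin n) :
    (Finset.univ.filter fun k => f k = m).card = 1 := by
  obtain ⟨k₀, hk₀⟩ := (Finite.injective_iff_surjective.mp hf) m
  rw [Finset.card_eq_one]
  refine ⟨k₀, ?_⟩
  ext k
  simp only [Finset.mem_filter, Finset.mem_univ, true_and, Finset.mem_singleton]
  constructor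
  · intro h; exact hf (h.trans hk₀.symm)
  · rintro rfl; exact hk₀

/-- position of the first index -/
def fI (e k : ℕ) : ℕ :=
  if k = 0 then 0 else if k = 1 then e else if k = 2 then 2 * e else if k ≤ e + 1 then k - 2
  else k - 1

/-- position of the second index -/
def fJ (e k : ℕ) : ℕ :=
  if k = 0 then e else if k = 1 then 2 * e else if k = 2 then 0 else if k ≤ e + 1 then k - 2 + e
  else k - e - 1

theorem fI_lt (e k : ℕ) (he : 1 ≤ e) (hk : k < 2 * e + 1) : fI e k < 2 * e + 1 := by
  unfold fI; split_ifs <;> omega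

theorem fJ_lt (e k : ℕ) (he : 1 ≤ e) (hk : k < 2 * e + 1) : fJ e k < 2 * e + 1 := by
  unfold fJ; split_ifs <;> omega

theorem fI_inj (e k k' : ℕ) (he : 1 ≤ e) (hk : k < 2 * e + 1) (hk' : k' < 2 * e + 1)
    (h : fI e k = fI e k') : k = k' := by
  unfold fI at h; split_ifs at h <;> omega

theorem fJ_inj (e k k' : ℕ) (he : 1 ≤ e) (hk : k < 2 * e + 1) (hk' : k' < 2 * e + 1)
    (h : fJ e k = fJ e k') : k = k' := by
  unfold fJ at h; split_ifs at h <;> omega

theorem fI_fJ_far (e k : ℕ) (he : 1 ≤ e) (hk : k < 2 * e + 1) :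
    fI e k + e ≤ fJ e k ∨ fJ e k + e ≤ fI e k := by
  unfold fI fJ; split_ifs <;> omega

theorem main {α : Type u} [DecidableEq α] (e : ℕ) (he : 1 ≤ e)
    (x : Fin (2 * e + 1) → α)
    (hx : ∀ a : α, (Finset.univ.filter fun k => x k = a).card ≤ e) :
    ∃ i j : Fin (2 * e + 1) → Fin (2 * e + 1),
      (∀ m : Fin (2 * e + 1),
        (Finset.univ.filter fun k => i k = m).card + (Finset.univ.filter fun k => j k = m).card = 2) ∧
      (∀ k, x (i k) ≠ x (j k)) ∧
      i 0 = j 2 ∧ i 1 = j 0 ∧ i 2 = j 1 := by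
  classical
  -- a linear order on colours
  let s : Finset α := Finset.univ.image x
  let E := s.equivFin
  let g : Fin (2 * e + 1) → Fin s.card :=
    fun k => E ⟨x k, Finset.mem_image_of_mem x (Finset.mem_univ k)⟩
  have hg : ∀ k k', g k = g k' ↔ x k = x k' := by
    intro k k'
    constructor
    · intro h
      have := E.injective h
      exact congrArg Subtype.val this
    · intro h
      show E _ = E _
      congr 1
      exact Subtype.ext h
  let π : Equiv.Perm (Fin (2 * e + 1)) := Tuple.sort g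
  have hmono : Monotone (g ∘ π) := Tuple.monotone_sort g
  -- key separation lemma
  have hkey : ∀ a b : Fin (2 * e + 1), (a : ℕ) + e ≤ b → x (π a) ≠ x (π b) := by
    intro a b hab heq
    have hgab : g (π a) = g (π b) := (hg _ _).mpr heq
    have hsub : (Finset.Icc a b).image π ⊆ Finset.univ.filter fun k => x k = x (π a) := by
      intro k hk
      obtain ⟨u, hu, rfl⟩ := Finset.mem_image.mp hk
      rw [Finset.mem_Icc] at hu
      simp only [Finset.mem_filter, Finset.mem_univ, true_and]
      rw [← hg]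
      apply le_antisymm
      · have := hmono hu.2
        simp only [Function.comp_apply] at this
        rw [← hgab] at this
        exact this
      · exact hmono hu.1
    have hcard := Finset.card_le_card hsub
    rw [Finset.card_image_of_injective _ π.injective, Fin.card_Icc] at hcard
    have := hx (x (π a))
    omega
  -- the index functions
  let pI : Fin (2 * e + 1) → Fin (2 * e + 1) := fun k => ⟨fI e k, fI_lt e k he k.2⟩
  let pJ : Fin (2 * e + 1) → Fin (2 * e + 1) := fun k => ⟨fJ e k, fJ_lt e k he k.2⟩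
  have hpI : Function.Injective pI := by
    intro k k' h
    have := congrArg Fin.val h
    exact Fin.ext (fI_inj e k k' he k.2 k'.2 this)
  have hpJ : Function.Injective pJ := by
    intro k k' h
    have := congrArg Fin.val h
    exact Fin.ext (fJ_inj e k k' he k.2 k'.2 this)
  have h0 : ((0 : Fin (2 * e + 1)) : ℕ) = 0 := rfl
  have h1 : ((1 : Fin (2 * e + 1)) : ℕ) = 1 := by
    show 1 % (2 * e + 1) = 1
    exact Nat.mod_eq_of_lt (by omega)
  have h2 : ((2 : Fin (2 * e + 1)) : ℕ) = 2 := by
    show 2 % (2 * e + 1) = 2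
    exact Nat.mod_eq_of_lt (by omega)
  refine ⟨fun k => π (pI k), fun k => π (pJ k), ?_, ?_, ?_, ?_, ?_⟩
  · intro m
    rw [card_filter_eq_one (fun k => π (pI k)) (π.injective.comp hpI) m,
      card_filter_eq_one (fun k => π (pJ k)) (π.injective.comp hpJ) m]
  · intro k
    rcases fI_fJ_far e k he k.2 with h | h
    · exact hkey (pI k) (pJ k) h
    · exact (hkey (pJ k) (pI k) h).symm
  · show π (pI 0) = π (pJ 2)
    congr 1
    apply Fin.ext
    show fI e ((0 : Fin (2 * e + 1)) : ℕ) = fJ e ((2 : Fin (2 * e + 1)) : ℕ)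
    rw [h0, h2]
    simp [fI, fJ]
  · show π (pI 1) = π (pJ 0)
    congr 1
    apply Fin.ext
    show fI e ((1 : Fin (2 * e + 1)) : ℕ) = fJ e ((0 : Fin (2 * e + 1)) : ℕ)
    rw [h0, h1]
    simp [fI, fJ]
  · show π (pI 2) = π (pJ 1)
    congr 1
    apply Fin.ext
    show fI e ((2 : Fin (2 * e + 1)) : ℕ) = fJ e ((1 : Fin (2 * e + 1)) : ℕ)
    rw [h1, h2]
    simp [fI, fJ]

end Groth.Agent.Helper29.DoubleIdx
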