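import Mathlib
import Groth.Prelude.Def_DeRham

set_option autoImplicit false
universe u

namespace Groth.Agent.Helper29.DrA

open DeRham

variable (k : Type u) [Field k] (A : Type u) [CommRing A] [Algebra k A]
  (d n : ℕ) (t : Fin d → A) (e : Fin n ↪ Fin d)
  (b : Module.Basis (Fin d) A (Ω[A⁄k])) (hb : ∀ i, b i = KaehlerDifferential.D k A (t i))

/-- the ideal of `D_J` -/
abbrev aI (J : Finset (Fin n)) : Ideal A := ⨆ i ∈ J, Ideal.span {t (e i)}

variable {A d n t e}

omit [Algebra k A] in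
theorem mk_t_eq_zero (J : Finset (Fin n)) (j : Fin n) (hj : j ∈ J) :
    Ideal.Quotient.mk (aI A d n t e J) (t (e j)) = 0 := by
  rw [Ideal.Quotient.eq_zero_iff_mem]
  exact Ideal.mem_iSup_of_mem j (Ideal.mem_iSup_of_mem hj (Ideal.subset_span rfl))

include b hb in
theorem exists_gen (J : Finset (Fin n)) (m : ℕ) (hm : J.card + m = d)
    (g : ↥(⋀[(A ⧸ aI A d n t e J)]^m (Ω[(A ⧸ aI A d n t e J)⁄k]))) :
    ∃ (a : A) (c : Fin m → Fin d), (∀ i : Fin d, i ∉ J.map e → ∃ l, c l = i) ∧
      g = gen (KaehlerDifferential.D k (A ⧸ aI A d n t e J)) m (Ideal.Quotient.mk _ a)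
        (fun l => Ideal.Quotient.mk _ (t (c l))) := by
  classical
  have hC : (Finset.univ \ J.map e).card = m := by
    rw [Finset.card_sdiff_of_subset (Finset.subset_univ _), Finset.card_univ, Fintype.card_fin,
      Finset.card_map]
    omega
  set c₀ := (Finset.univ \ J.map e).orderEmbOfFin hC with hc₀
  have hc₀r : ∀ i : Fin d, i ∉ J.map e → ∃ l, c₀ l = i := by
    intro i hi
    have : i ∈ Set.range c₀ := by
      rw [hc₀, Finset.range_orderEmbOfFin]
      simpa using hi
    exact this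
  set v : Fin m → Ω[(A ⧸ aI A d n t e J)⁄k] :=
    fun l => KaehlerDifferential.D k (A ⧸ aI A d n t e J) (Ideal.Quotient.mk _ (t (c₀ l))) with hv
  have hspan : Submodule.span (A ⧸ aI A d n t e J) (Set.range v) = ⊤ := by
    rw [eq_top_iff, ← KaehlerDifferential.span_range_derivation k (A ⧸ aI A d n t e J)]
    apply Submodule.span_le.2
    rintro _ ⟨x, rfl⟩
    obtain ⟨a, rfl⟩ := Ideal.Quotient.mk_surjective x
    have h1 : KaehlerDifferential.D k (A ⧸ aI A d n t e J) (Ideal.Quotient.mk _ a)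
        = KaehlerDifferential.map k k A (A ⧸ aI A d n t e J) (KaehlerDifferential.D k A a) :=
      (KaehlerDifferential.map_D k k A (A ⧸ aI A d n t e J) a).symm
    rw [SetLike.mem_coe, h1, ← b.sum_repr (KaehlerDifferential.D k A a), map_sum]
    refine Submodule.sum_mem _ (fun i _ => ?_)
    rw [map_smul, hb i, KaehlerDifferential.map_D, ← algebraMap_smul (A ⧸ aI A d n t e J)]
    refine Submodule.smul_mem _ _ ?_
    by_cases hi : i ∈ J.map e
    · obtain ⟨j, hj, rfl⟩ := Finset.mem_map.1 hi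
      have : algebraMap A (A ⧸ aI A d n t e J) (t (e j)) = 0 := mk_t_eq_zero J j hj
      rw [this, map_zero]
      exact Submodule.zero_mem _
    · obtain ⟨l, hl⟩ := hc₀r i hi
      exact Submodule.subset_span ⟨l, by rw [hv]; simp only [hl]; rfl⟩
  have hspan2 := exteriorPower.ιMulti_family_span_of_span (R := A ⧸ aI A d n t e J) (n := m) hspan
  haveI : Subsingleton (Set.powersetCard (Fin m) m) :=
    ⟨fun s s' => Subtype.ext ((Finset.eq_univ_of_card _ (by simpa using s.prop)).trans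
      (Finset.eq_univ_of_card _ (by simpa using s'.prop)).symm)⟩
  let s₀ : Set.powersetCard (Fin m) m := ⟨Finset.univ, by simp [Set.powersetCard]⟩
  have hr : Set.range (exteriorPower.ιMulti_family (A ⧸ aI A d n t e J) m v) ⊆
      {exteriorPower.ιMulti_family (A ⧸ aI A d n t e J) m v s₀} := by
    rintro _ ⟨s, rfl⟩
    rw [Subsingleton.elim s s₀]
    rfl
  have hg : g ∈ Submodule.span (A ⧸ aI A d n t e J)
      {exteriorPower.ιMulti_family (A ⧸ aI A d n t e J) m v s₀} :=
    Submodule.span_mono hr (hspan2 ▸ Submodule.mem_top)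
  obtain ⟨r, hr'⟩ := Submodule.mem_span_singleton.1 hg
  obtain ⟨a, rfl⟩ := Ideal.Quotient.mk_surjective r
  set σ : Fin m ↪o Fin m := Set.powersetCard.ofFinEmbEquiv.symm s₀ with hσ
  refine ⟨a, fun l => c₀ (σ l), ?_, ?_⟩
  · intro i hi
    obtain ⟨l₀, hl₀⟩ := hc₀r i hi
    obtain ⟨l, hl⟩ := Finite.surjective_of_injective σ.injective l₀
    exact ⟨l, by show c₀ (σ l) = i; rw [hl, hl₀]⟩
  · rw [← hr']
    rfl

end Groth.Agent.Helper29.DrA
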