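import Mathlib
import Groth.Prelude.Def_DeRham
import Groth.Agent.Lib.Helper29.DrA

set_option autoImplicit false
universe u

namespace Groth.Agent.Helper29.DrB

open DeRham Groth.Agent.Helper29.DrA

theorem main
    (k : Type u) [Field k] (A : Type u) [CommRing A] [Algebra k A]
    (d n : ℕ) (t : Fin d → A) (e : Fin n ↪ Fin d)
    (b : Module.Basis (Fin d) A (Ω[A⁄k])) (hb : ∀ i, b i = KaehlerDifferential.D k A (t i))
    (ψ : ∀ (I J : Finset (Fin n)) (p : ℕ), ↥(⋀[(A ⧸ (⨆ i ∈ I, Ideal.span {t (e i)} : Ideal A))]^p (Ω[(A ⧸ (⨆ i ∈ I, Ideal.span {t (e i)} : Ideal A))⁄k])) →+ ↥(⋀[(A ⧸ (⨆ i ∈ J, Ideal.span {t (e i)} : Ideal A))]^p (Ω[(A ⧸ (⨆ i ∈ J, Ideal.span {t (e i)} : Ideal A))⁄k])))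
    (hψ : ∀ (I J : Finset (Fin n)) (h : I ⊆ J),
      DeRham.IsCxMap (KaehlerDifferential.D k (A ⧸ (⨆ i ∈ I, Ideal.span {t (e i)} : Ideal A))) (KaehlerDifferential.D k (A ⧸ (⨆ i ∈ J, Ideal.span {t (e i)} : Ideal A)))
        (Ideal.Quotient.factor (biSup_mono h)) (ψ I J))
    (s m : ℕ) (hs : s + 1 + m = d)
    (g : ∀ J : Finset (Fin n), ↥(⋀[(A ⧸ (⨆ i ∈ J, Ideal.span {t (e i)} : Ideal A))]^m (Ω[(A ⧸ (⨆ i ∈ J, Ideal.span {t (e i)} : Ideal A))⁄k]))) :
    ∃ ω : ∀ I : Finset (Fin n), ↥(⋀[(A ⧸ (⨆ i ∈ I, Ideal.span {t (e i)} : Ideal A))]^m (Ω[(A ⧸ (⨆ i ∈ I, Ideal.span {t (e i)} : Ideal A))⁄k])),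
      ∀ J : Finset (Fin n), J.card = s + 1 →
        (∑ j ∈ J.attach,
          ((-1 : ℤ) ^ (J.filter (fun i => i < j.1)).card) •
            ψ (J.erase j.1) J m (ω (J.erase j.1))) = g J := by
  classical
  have key : ∀ J : Finset (Fin n), ∃ (a : A) (c : Fin m → Fin d), J.card = s + 1 →
      ((∀ i : Fin d, i ∉ J.map e → ∃ l, c l = i) ∧
        g J = gen (KaehlerDifferential.D k (A ⧸ aI A d n t e J)) m (Ideal.Quotient.mk _ a)
          (fun l => Ideal.Quotient.mk _ (t (c l)))) := by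
    intro J
    by_cases hJ : J.card = s + 1
    · obtain ⟨a, c, h1, h2⟩ := exists_gen k b hb J m (by omega) (g J)
      exact ⟨a, c, fun _ => ⟨h1, h2⟩⟩
    · exact ⟨0, fun _ => ⟨0, by omega⟩, fun h => absurd h hJ⟩
  choose a c hac using key
  -- the element at level I attached to the data of J
  let G : ∀ (I J : Finset (Fin n)), ↥(⋀[(A ⧸ aI A d n t e I)]^m (Ω[(A ⧸ aI A d n t e I)⁄k])) :=
    fun I J => gen (KaehlerDifferential.D k (A ⧸ aI A d n t e I)) m (Ideal.Quotient.mk _ (a J))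
      (fun l => Ideal.Quotient.mk _ (t (c J l)))
  refine ⟨fun I => ∑ j ∈ Finset.univ.filter (fun j => j ∉ I ∧ ∀ i ∈ I, j < i), G I (insert j I),
    ?_⟩
  intro J hJ
  -- value of ψ on G
  have hψG : ∀ (I J' : Finset (Fin n)) (h : I ⊆ J), ψ I J m (G I J') = G J J' := by
    intro I J' h
    have := hψ I J h m (a J') (fun l => t (c J' l))
    simpa [G, Ideal.Quotient.factor_mk] using this
  -- vanishing of G J J' when J' misses an element of J
  have hG0 : ∀ (J' : Finset (Fin n)) (j : Fin n), J'.card = s + 1 → j ∈ J → j ∉ J' →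
      G J J' = 0 := by
    intro J' j hJ' hj hj'
    obtain ⟨l, hl⟩ := (hac J' hJ').1 (e j) (by
      intro h
      obtain ⟨j'', hj'', he⟩ := Finset.mem_map.1 h
      exact hj' (e.injective he ▸ hj''))
    show gen _ m _ _ = 0
    unfold gen
    rw [(exteriorPower.ιMulti (A ⧸ aI A d n t e J) m).map_coord_zero l (by
      show KaehlerDifferential.D k _ (Ideal.Quotient.mk _ (t (c J' l))) = 0
      rw [hl, mk_t_eq_zero J j hj, map_zero]), smul_zero]
  have hnon : J.Nonempty := by
    rw [← Finset.card_pos]; omega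
  -- each summand
  have hterm : ∀ j : {x // x ∈ J}, ψ (J.erase j.1) J m
      (∑ j' ∈ Finset.univ.filter (fun j' => j' ∉ J.erase j.1 ∧ ∀ i ∈ J.erase j.1, j' < i),
        G (J.erase j.1) (insert j' (J.erase j.1)))
      = if (∀ i ∈ J.erase j.1, j.1 < i) then g J else 0 := by
    intro j
    rw [map_sum]
    have h1 : ∀ j' ∈ Finset.univ.filter (fun j' => j' ∉ J.erase j.1 ∧ ∀ i ∈ J.erase j.1, j' < i),
        ψ (J.erase j.1) J m (G (J.erase j.1) (insert j' (J.erase j.1)))
          = if j' = j.1 then g J else 0 := by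
      intro j' hj'
      rw [hψG _ _ (Finset.erase_subset _ _)]
      have hj'2 := (Finset.mem_filter.1 hj').2
      split_ifs with hjj
      · subst hjj
        rw [Finset.insert_erase j.2]
        exact ((hac J hJ).2).symm
      · apply hG0 _ j.1 _ j.2
        · intro hmem
          rcases Finset.mem_insert.1 hmem with h | h
          · exact hjj h.symm
          · exact (Finset.notMem_erase _ _) h
        · rw [Finset.card_insert_of_notMem hj'2.1, Finset.card_erase_of_mem j.2, hJ]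
          omega
    rw [Finset.sum_congr rfl h1, Finset.sum_ite_eq']
    congr 1
    simp only [Finset.mem_filter, Finset.mem_univ, true_and, eq_iff_iff]
    constructor
    · exact fun h => h.2
    · exact fun h => ⟨Finset.notMem_erase _ _, h⟩
  show (∑ j ∈ J.attach, ((-1 : ℤ) ^ (J.filter (fun i => i < j.1)).card) •
      ψ (J.erase j.1) J m
        (∑ j' ∈ Finset.univ.filter (fun j' => j' ∉ J.erase j.1 ∧ ∀ i ∈ J.erase j.1, j' < i),
          G (J.erase j.1) (insert j' (J.erase j.1)))) = g J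
  rw [Finset.sum_congr rfl (fun j _ => by rw [hterm j])]
  rw [Finset.sum_eq_single ⟨J.min' hnon, Finset.min'_mem J hnon⟩]
  · have h0 : (J.filter (fun i => i < J.min' hnon)) = ∅ := by
      apply Finset.filter_eq_empty_iff.2
      intro i hi
      exact not_lt.2 (Finset.min'_le J i hi)
    rw [if_pos, h0, Finset.card_empty, pow_zero, one_smul]
    intro i hi
    exact lt_of_le_of_ne (Finset.min'_le J i (Finset.mem_of_mem_erase hi))
      (fun h => (Finset.ne_of_mem_erase hi) h.symm)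
  · intro j _ hj
    rw [if_neg, smul_zero]
    intro h
    have hne : J.min' hnon ≠ j.1 := fun h' => hj (Subtype.ext h'.symm)
    have := h (J.min' hnon) (Finset.mem_erase.2 ⟨hne, Finset.min'_mem J hnon⟩)
    exact absurd (Finset.min'_le J j.1 j.2) (not_le.2 this)
  · intro h
    exact absurd (Finset.mem_attach _ _) h

end Groth.Agent.Helper29.DrB
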