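import Mathlib
import Groth.Prelude.Def_DeRham
import Groth.Agent.Lib.Helper29.DrB

set_option autoImplicit false
universe u

namespace Groth.Agent.Helper29.DrC

open DeRham Groth.Agent.Helper29.DrA

theorem main2
    (k : Type u) [Field k] (A : Type u) [CommRing A] [Algebra k A]
    (d n : ℕ) (t : Fin d → A) (e : Fin n ↪ Fin d)
    (b : Module.Basis (Fin d) A (Ω[A⁄k])) (hb : ∀ i, b i = KaehlerDifferential.D k A (t i))
    (ψ : ∀ (I J : Finset (Fin n)) (p : ℕ), ↥(⋀[(A ⧸ (⨆ i ∈ I, Ideal.span {t (e i)} : Ideal A))]^p (Ω[(A ⧸ (⨆ i ∈ I, Ideal.span {t (e i)} : Ideal A))⁄k])) →+ ↥(⋀[(A ⧸ (⨆ i ∈ J, Ideal.span {t (e i)} : Ideal A))]^p (Ω[(A ⧸ (⨆ i ∈ J, Ideal.span {t (e i)} : Ideal A))⁄k])))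
    (hψ : ∀ (I J : Finset (Fin n)) (h : I ⊆ J),
      DeRham.IsCxMap (KaehlerDifferential.D k (A ⧸ (⨆ i ∈ I, Ideal.span {t (e i)} : Ideal A))) (KaehlerDifferential.D k (A ⧸ (⨆ i ∈ J, Ideal.span {t (e i)} : Ideal A)))
        (Ideal.Quotient.factor (biSup_mono h)) (ψ I J))
    (g : ∀ (J : Finset (Fin n)) (q : ℕ), ↥(⋀[(A ⧸ (⨆ i ∈ J, Ideal.span {t (e i)} : Ideal A))]^q (Ω[(A ⧸ (⨆ i ∈ J, Ideal.span {t (e i)} : Ideal A))⁄k]))) :
    ∃ ω : ∀ (I : Finset (Fin n)) (q : ℕ), ↥(⋀[(A ⧸ (⨆ i ∈ I, Ideal.span {t (e i)} : Ideal A))]^q (Ω[(A ⧸ (⨆ i ∈ I, Ideal.span {t (e i)} : Ideal A))⁄k])),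
      ∀ (J : Finset (Fin n)) (q : ℕ), J.Nonempty → J.card + q = d →
        (∑ j ∈ J.attach,
          ((-1 : ℤ) ^ (J.filter (fun i => i < j.1)).card) •
            ψ (J.erase j.1) J q (ω (J.erase j.1) q)) = g J q := by
  have key : ∀ q : ℕ, ∃ ωq : ∀ (I : Finset (Fin n)), ↥(⋀[(A ⧸ (⨆ i ∈ I, Ideal.span {t (e i)} : Ideal A))]^q (Ω[(A ⧸ (⨆ i ∈ I, Ideal.span {t (e i)} : Ideal A))⁄k])),
      ∀ (J : Finset (Fin n)), J.Nonempty → J.card + q = d →
        (∑ j ∈ J.attach,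
          ((-1 : ℤ) ^ (J.filter (fun i => i < j.1)).card) •
            ψ (J.erase j.1) J q (ωq (J.erase j.1))) = g J q := by
    intro q
    by_cases hq : q + 1 ≤ d
    · obtain ⟨ωq, h⟩ := Groth.Agent.Helper29.DrB.main k A d n t e b hb ψ hψ (d - 1 - q) q
        (by omega) (fun J => g J q)
      exact ⟨ωq, fun J _ hJ => h J (by omega)⟩
    · refine ⟨fun _ => 0, fun J hne hJ => ?_⟩
      have := Finset.card_pos.2 hne
      omega
  choose ω hω using key
  exact ⟨fun I q => ω q I, fun J q hne hJ => hω q J hne hJ⟩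

theorem main3
    (k : Type u) [Field k] (A : Type u) [CommRing A] [Algebra k A]
    (d n : ℕ) (t : Fin d → A) (e : Fin n ↪ Fin d)
    (b : Module.Basis (Fin d) A (Ω[A⁄k])) (hb : ∀ i, b i = KaehlerDifferential.D k A (t i))
    (ψ : ∀ (I J : Finset (Fin n)) (p : ℕ), ↥(⋀[(A ⧸ (⨆ i ∈ I, Ideal.span {t (e i)} : Ideal A))]^p (Ω[(A ⧸ (⨆ i ∈ I, Ideal.span {t (e i)} : Ideal A))⁄k])) →+ ↥(⋀[(A ⧸ (⨆ i ∈ J, Ideal.span {t (e i)} : Ideal A))]^p (Ω[(A ⧸ (⨆ i ∈ J, Ideal.span {t (e i)} : Ideal A))⁄k])))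
    (hψ : ∀ (I J : Finset (Fin n)) (h : I ⊆ J),
      DeRham.IsCxMap (KaehlerDifferential.D k (A ⧸ (⨆ i ∈ I, Ideal.span {t (e i)} : Ideal A))) (KaehlerDifferential.D k (A ⧸ (⨆ i ∈ J, Ideal.span {t (e i)} : Ideal A)))
        (Ideal.Quotient.factor (biSup_mono h)) (ψ I J))
    (dq : ∀ (I : Finset (Fin n)) (p : ℕ), ↥(⋀[(A ⧸ (⨆ i ∈ I, Ideal.span {t (e i)} : Ideal A))]^p (Ω[(A ⧸ (⨆ i ∈ I, Ideal.span {t (e i)} : Ideal A))⁄k])) →ₗ[k] ↥(⋀[(A ⧸ (⨆ i ∈ I, Ideal.span {t (e i)} : Ideal A))]^(p + 1) (Ω[(A ⧸ (⨆ i ∈ I, Ideal.span {t (e i)} : Ideal A))⁄k])))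
    (ω : ∀ (J : Finset (Fin n)) (q : ℕ), ↥(⋀[(A ⧸ (⨆ i ∈ J, Ideal.span {t (e i)} : Ideal A))]^q (Ω[(A ⧸ (⨆ i ∈ J, Ideal.span {t (e i)} : Ideal A))⁄k])))
    (c : ℕ) :
    ∃ η : ∀ (I : Finset (Fin n)) (q : ℕ), ↥(⋀[(A ⧸ (⨆ i ∈ I, Ideal.span {t (e i)} : Ideal A))]^q (Ω[(A ⧸ (⨆ i ∈ I, Ideal.span {t (e i)} : Ideal A))⁄k])),
      (∀ (J : Finset (Fin n)) (q : ℕ), n + 1 - c ≤ J.card → J.Nonempty → J.card + (q + 1) = d →
        ω J (q + 1) =
          (∑ j ∈ J.attach, ((-1 : ℤ) ^ (J.filter (fun i => i < j.1)).card) • ψ (J.erase j.1) J (q + 1) (η (J.erase j.1) (q + 1))) +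
            ((-1 : ℤ) ^ J.card) • dq J q (η J q)) ∧
      (∀ J : Finset (Fin n), n + 1 - c ≤ J.card → J.Nonempty → J.card = d →
        ω J 0 = ∑ j ∈ J.attach, ((-1 : ℤ) ^ (J.filter (fun i => i < j.1)).card) • ψ (J.erase j.1) J 0 (η (J.erase j.1) 0)) := by
  classical
  induction c with
  | zero =>
    refine ⟨fun _ _ => 0, fun J q hc => ?_, fun J hc => ?_⟩
    · have := Finset.card_le_univ J
      rw [Fintype.card_fin] at this
      omega
    · have := Finset.card_le_univ J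
      rw [Fintype.card_fin] at this
      omega
  | succ c ih =>
    obtain ⟨η, h1, h2⟩ := ih
    obtain ⟨ω', hω'⟩ := main2 k A d n t e b hb ψ hψ
      (fun J q => match q with
        | 0 => ω J 0
        | q' + 1 => ω J (q' + 1) - ((-1 : ℤ) ^ J.card) • dq J q' (η J q'))
    refine ⟨fun I q => if I.card + 1 = n + 1 - (c + 1) then ω' I q else η I q, ?_, ?_⟩
    · intro J q hc hne hJ
      beta_reduce
      have hpos := Finset.card_pos.2 hne
      by_cases hJc : J.card = n + 1 - (c + 1)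
      · have e1 : ∀ j ∈ J.attach, ((-1 : ℤ) ^ (J.filter (fun i => i < j.1)).card) •
            ψ (J.erase j.1) J (q + 1)
              (if (J.erase j.1).card + 1 = n + 1 - (c + 1) then ω' (J.erase j.1) (q + 1)
                else η (J.erase j.1) (q + 1))
            = ((-1 : ℤ) ^ (J.filter (fun i => i < j.1)).card) •
              ψ (J.erase j.1) J (q + 1) (ω' (J.erase j.1) (q + 1)) := by
          intro j _
          rw [if_pos]
          rw [Finset.card_erase_of_mem j.2]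
          omega
        rw [Finset.sum_congr rfl e1, if_neg (by omega), hω' J (q + 1) hne hJ]
        simp only
        abel
      · have e1 : ∀ j ∈ J.attach, ((-1 : ℤ) ^ (J.filter (fun i => i < j.1)).card) •
            ψ (J.erase j.1) J (q + 1)
              (if (J.erase j.1).card + 1 = n + 1 - (c + 1) then ω' (J.erase j.1) (q + 1)
                else η (J.erase j.1) (q + 1))
            = ((-1 : ℤ) ^ (J.filter (fun i => i < j.1)).card) •
              ψ (J.erase j.1) J (q + 1) (η (J.erase j.1) (q + 1)) := by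
          intro j _
          rw [if_neg]
          rw [Finset.card_erase_of_mem j.2]
          omega
        rw [Finset.sum_congr rfl e1, if_neg (by omega)]
        exact h1 J q (by omega) hne hJ
    · intro J hc hne hJ
      beta_reduce
      have hpos := Finset.card_pos.2 hne
      by_cases hJc : J.card = n + 1 - (c + 1)
      · have e1 : ∀ j ∈ J.attach, ((-1 : ℤ) ^ (J.filter (fun i => i < j.1)).card) •
            ψ (J.erase j.1) J 0
              (if (J.erase j.1).card + 1 = n + 1 - (c + 1) then ω' (J.erase j.1) 0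
                else η (J.erase j.1) 0)
            = ((-1 : ℤ) ^ (J.filter (fun i => i < j.1)).card) •
              ψ (J.erase j.1) J 0 (ω' (J.erase j.1) 0) := by
          intro j _
          rw [if_pos]
          rw [Finset.card_erase_of_mem j.2]
          omega
        rw [Finset.sum_congr rfl e1, hω' J 0 hne (by omega)]
      · have e1 : ∀ j ∈ J.attach, ((-1 : ℤ) ^ (J.filter (fun i => i < j.1)).card) •
            ψ (J.erase j.1) J 0
              (if (J.erase j.1).card + 1 = n + 1 - (c + 1) then ω' (J.erase j.1) 0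
                else η (J.erase j.1) 0)
            = ((-1 : ℤ) ^ (J.filter (fun i => i < j.1)).card) •
              ψ (J.erase j.1) J 0 (η (J.erase j.1) 0) := by
          intro j _
          rw [if_neg]
          rw [Finset.card_erase_of_mem j.2]
          omega
        rw [Finset.sum_congr rfl e1]
        exact h2 J (by omega) hne hJ

end Groth.Agent.Helper29.DrC
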