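import Mathlib
import Groth.Prelude.Def_W4c6puncthilbintroLift
import Groth.Agent.Lib.Helper29.DualFlat

/-!
# First-order liftings of an ideal: flatness over the dual numbers
-/

open DualNumber TrivSqZeroExt W4c6puncthilbintro

namespace Groth.Agent.Helper29.DualLift

universe u

attribute [local instance] W4c6puncthilbintro.dualAlgebra

section
variable (A : Type u) [CommRing A] (R : Type u) [CommRing R] [Algebra A R]

theorem fst_dualMap (l : DualNumber A) : (dualMap A R l).fst = algebraMap A R l.fst := by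
  refine TrivSqZeroExt.ind (fun r m => ?_) l
  rw [map_add, dualMap_inl, DualNumber.inr_eq_smul_eps, map_smul, dualMap_eps]
  simp [TrivSqZeroExt.algebraMap_eq_inl']

theorem smul_mk (J : Ideal (DualNumber R)) (l : DualNumber A) (x : DualNumber R) :
    l • (Ideal.Quotient.mk J x) = Ideal.Quotient.mk J (dualMap A R l * x) := by
  change Ideal.Quotient.mk J (l • x) = _
  rw [Algebra.smul_def]
  rfl

end

variable {A : Type u} [CommRing A] {R : Type u} [CommRing R] [Algebra A R] (I : Ideal R)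

theorem inl_add_inr_mem (φ : I →ₗ[R] R ⧸ I) (a : R) (ha : a ∈ I) (b : R)
    (hb : Ideal.Quotient.mk I b = φ ⟨a, ha⟩) : (inl a + inr b : DualNumber R) ∈ liftIdeal I φ := by
  have h1 : (inl a + inr b : DualNumber R).fst = a := by simp
  have h2 : (inl a + inr b : DualNumber R).snd = b := by simp
  refine ⟨by rw [h1]; exact ha, ?_⟩
  rw [h2, hb]
  exact congrArg φ (Subtype.ext h1.symm)

theorem map_fst_liftIdeal (φ : I →ₗ[R] R ⧸ I) :
    Ideal.map (TrivSqZeroExt.fstHom A R R) (liftIdeal I φ) = I := by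
  have hs : Function.Surjective (TrivSqZeroExt.fstHom A R R) := fun r => ⟨inl r, rfl⟩
  ext a
  rw [Ideal.mem_map_iff_of_surjective _ hs]
  constructor
  · rintro ⟨x, ⟨h, _⟩, rfl⟩
    exact h
  · intro ha
    obtain ⟨b, hb⟩ := Ideal.Quotient.mk_surjective (φ ⟨a, ha⟩)
    exact ⟨inl a + inr b, inl_add_inr_mem I φ a ha b hb, by simp⟩

theorem liftIdeal_injective : Function.Injective (liftIdeal I) := by
  intro φ ψ h
  ext ⟨a, ha⟩
  obtain ⟨b, hb⟩ := Ideal.Quotient.mk_surjective (φ ⟨a, ha⟩)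
  have h1 := inl_add_inr_mem I φ a ha b hb
  rw [h] at h1
  obtain ⟨h2, h3⟩ := h1
  rw [← hb]
  have e1 : (inl a + inr b : DualNumber R).snd = b := by simp
  have e2 : (⟨(inl a + inr b : DualNumber R).fst, h2⟩ : I) = ⟨a, ha⟩ := Subtype.ext (by simp)
  rw [e1, e2] at h3
  exact h3

theorem flat_liftIdeal [Module.Flat A (R ⧸ I)] (φ : I →ₗ[R] R ⧸ I) :
    Module.Flat (DualNumber A) (DualNumber R ⧸ liftIdeal I φ) := by
  obtain ⟨J, hJ⟩ : ∃ J, J = liftIdeal I φ := ⟨_, rfl⟩
  rw [← hJ]
  have hJfst : ∀ x ∈ J,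
      ((Ideal.Quotient.mk I).comp (TrivSqZeroExt.fstHom A R R).toRingHom) x = 0 := by
    intro x hx
    rw [hJ] at hx
    obtain ⟨h, _⟩ := hx
    exact Ideal.Quotient.eq_zero_iff_mem.2 h
  let θr : DualNumber R ⧸ J →+* R ⧸ I := Ideal.Quotient.lift J _ hJfst
  have hθr : ∀ x, θr (Ideal.Quotient.mk J x) = Ideal.Quotient.mk I x.fst := fun x => rfl
  have key : ∀ x : DualNumber R, x.fst ∈ I →
      ∃ m' : DualNumber R ⧸ J, Ideal.Quotient.mk J x = (ε : DualNumber A) • m' := by
    intro x hx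
    obtain ⟨b', hb'⟩ := Ideal.Quotient.mk_surjective (φ ⟨x.fst, hx⟩)
    refine ⟨Ideal.Quotient.mk J (inl (x.snd - b')), ?_⟩
    rw [smul_mk, dualMap_eps, Ideal.Quotient.eq]
    have : x - (ε : DualNumber R) * inl (x.snd - b') = inl x.fst + inr b' := by
      ext <;> simp
    rw [this, hJ]
    exact inl_add_inr_mem I φ x.fst hx b' hb'
  have hθk : ∀ m : DualNumber R ⧸ J, θr m = 0 → ∃ m', m = (ε : DualNumber A) • m' := by
    intro m hm
    obtain ⟨x, rfl⟩ := Ideal.Quotient.mk_surjective m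
    rw [hθr, Ideal.Quotient.eq_zero_iff_mem] at hm
    exact key x hm
  refine Groth.Agent.Helper29.DualFlat.flat_of_quotient_flat
    (TrivSqZeroExt.fstHom A A A).toRingHom (fun a => ⟨inl a, rfl⟩) (ε : DualNumber A) ?_
    DualNumber.eps_mul_eps θr.toAddMonoidHom ?_ ?_ hθk ?_
  · ext x
    rw [RingHom.mem_ker, Ideal.mem_span_singleton']
    constructor
    · intro hx
      have hx' : x.fst = 0 := hx
      refine ⟨inl x.snd, ?_⟩
      ext <;> simp [hx']
    · rintro ⟨l, rfl⟩
      change (l * ε).fst = 0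
      simp
  · intro q
    obtain ⟨r, rfl⟩ := Ideal.Quotient.mk_surjective q
    exact ⟨Ideal.Quotient.mk J (inl r), rfl⟩
  · intro l m
    obtain ⟨x, rfl⟩ := Ideal.Quotient.mk_surjective m
    change θr (l • Ideal.Quotient.mk J x) = (l.fst : A) • θr (Ideal.Quotient.mk J x)
    rw [smul_mk, hθr, hθr, TrivSqZeroExt.fst_mul, fst_dualMap, map_mul, Algebra.smul_def]
    rfl
  · intro m hm
    obtain ⟨x, rfl⟩ := Ideal.Quotient.mk_surjective m
    rw [smul_mk, dualMap_eps, Ideal.Quotient.eq_zero_iff_mem, hJ] at hm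
    obtain ⟨h1, h2⟩ := hm
    have e1 : ((ε : DualNumber R) * x).snd = x.fst := by simp
    have e2 : (⟨((ε : DualNumber R) * x).fst, h1⟩ : I) = 0 := Subtype.ext (by simp)
    rw [e1, e2, map_zero, Ideal.Quotient.eq_zero_iff_mem] at h2
    exact key x h2

theorem exists_of_flat (J : Ideal (DualNumber R))
    (hfl : Module.Flat (DualNumber A) (DualNumber R ⧸ J))
    (hJ : Ideal.map (TrivSqZeroExt.fstHom A R R) J = I) :
    ∃ φ : I →ₗ[R] R ⧸ I, J = liftIdeal I φ := by
  have hs : Function.Surjective (TrivSqZeroExt.fstHom A R R) := fun r => ⟨inl r, rfl⟩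
  have hfstJ : ∀ x ∈ J, x.fst ∈ I := fun x hx => by
    rw [← hJ]; exact Ideal.mem_map_of_mem (TrivSqZeroExt.fstHom A R R) hx
  have hex : ∀ a ∈ I, ∃ b : R, (inl a + inr b : DualNumber R) ∈ J := by
    intro a ha
    rw [← hJ, Ideal.mem_map_iff_of_surjective _ hs] at ha
    obtain ⟨x, hx, rfl⟩ := ha
    refine ⟨x.snd, ?_⟩
    rw [show (TrivSqZeroExt.fstHom A R R x) = x.fst from rfl,
      TrivSqZeroExt.inl_fst_add_inr_snd_eq]
    exact hx
  have hinr1 : ∀ c : R, c ∈ I → (inr c : DualNumber R) ∈ J := by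
    intro c hc
    obtain ⟨b, hb⟩ := hex c hc
    have : (inr c : DualNumber R) = (ε : DualNumber R) * (inl c + inr b) := by
      ext <;> simp
    rw [this]
    exact J.mul_mem_left _ hb
  have hinr2 : ∀ c : R, (inr c : DualNumber R) ∈ J → c ∈ I := by
    intro c hc
    have h0 : (ε : DualNumber A) • (Ideal.Quotient.mk J (inl c)) = 0 := by
      rw [smul_mk, dualMap_eps, Ideal.Quotient.eq_zero_iff_mem]
      have : (ε : DualNumber R) * inl c = inr c := by ext <;> simp
      rw [this]
      exact hc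
    have hrel : ∑ i : Fin 1, (fun _ : Fin 1 => (ε : DualNumber A)) i •
        (fun _ : Fin 1 => Ideal.Quotient.mk J (inl c : DualNumber R)) i = 0 := by
      simpa using h0
    obtain ⟨κ, a, y, hxy, hay⟩ := Module.Flat.isTrivialRelation_of_sum_smul_eq_zero
      (R := DualNumber A) (M := DualNumber R ⧸ J) (f := fun _ : Fin 1 => (ε : DualNumber A))
      (x := fun _ : Fin 1 => Ideal.Quotient.mk J (inl c : DualNumber R)) hrel
    have hxy0 : Ideal.Quotient.mk J (inl c : DualNumber R) = ∑ j, a 0 j • y j := hxy 0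
    have hafst : ∀ j, (a 0 j).fst = 0 := by
      intro j
      have := hay j
      rw [Fin.sum_univ_one] at this
      have h2 := congrArg TrivSqZeroExt.snd this
      simpa using h2
    choose Y hY using fun j => Ideal.Quotient.mk_surjective (y j)
    have h3 : Ideal.Quotient.mk J (inl c : DualNumber R)
        = Ideal.Quotient.mk J (∑ j, dualMap A R (a 0 j) * Y j) := by
      rw [hxy0, map_sum]
      refine Finset.sum_congr rfl fun j _ => ?_
      rw [← hY j, smul_mk]
    rw [Ideal.Quotient.eq] at h3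
    have h4 := hfstJ _ h3
    have h5 : (inl c - ∑ j, dualMap A R (a 0 j) * Y j : DualNumber R).fst = c := by
      rw [TrivSqZeroExt.fst_sub, TrivSqZeroExt.fst_inl, TrivSqZeroExt.fst_sum]
      simp [fst_dualMap, hafst]
    rw [h5] at h4
    exact h4
  have huniq : ∀ a b b' : R, (inl a + inr b : DualNumber R) ∈ J →
      (inl a + inr b' : DualNumber R) ∈ J → Ideal.Quotient.mk I b = Ideal.Quotient.mk I b' := by
    intro a b b' h1 h2
    rw [Ideal.Quotient.eq]
    apply hinr2
    have : (inr (b - b') : DualNumber R) = (inl a + inr b) - (inl a + inr b') := by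
      ext <;> simp
    rw [this]
    exact J.sub_mem h1 h2
  let bb : I → R := fun a => Classical.choose (hex a.1 a.2)
  have hbb : ∀ a : I, (inl (a : R) + inr (bb a) : DualNumber R) ∈ J :=
    fun a => Classical.choose_spec (hex a.1 a.2)
  let φ : I →ₗ[R] R ⧸ I :=
    { toFun := fun a => Ideal.Quotient.mk I (bb a)
      map_add' := fun a a' => by
        rw [← map_add]
        refine huniq ((a + a' : I) : R) _ _ (hbb (a + a')) ?_
        have : (inl ((a + a' : I) : R) + inr (bb a + bb a') : DualNumber R)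
            = (inl (a : R) + inr (bb a)) + (inl (a' : R) + inr (bb a')) := by
          ext <;> simp
        rw [this]
        exact J.add_mem (hbb a) (hbb a')
      map_smul' := fun r a => by
        rw [RingHom.id_apply, Algebra.smul_def, Ideal.Quotient.algebraMap_eq, ← map_mul]
        refine huniq ((r • a : I) : R) _ _ (hbb (r • a)) ?_
        have : (inl ((r • a : I) : R) + inr (r * bb a) : DualNumber R)
            = inl r * (inl (a : R) + inr (bb a)) := by
          ext <;> simp
        rw [this]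
        exact J.mul_mem_left _ (hbb a) }
  refine ⟨φ, ?_⟩
  ext x
  constructor
  · intro hx
    refine ⟨hfstJ x hx, ?_⟩
    change _ = Ideal.Quotient.mk I (bb ⟨x.fst, hfstJ x hx⟩)
    refine huniq x.fst _ _ ?_ (hbb ⟨x.fst, hfstJ x hx⟩)
    rw [TrivSqZeroExt.inl_fst_add_inr_snd_eq]
    exact hx
  · rintro ⟨h1, h2⟩
    change _ = Ideal.Quotient.mk I (bb ⟨x.fst, h1⟩) at h2
    rw [Ideal.Quotient.eq] at h2
    have h3 := hinr1 _ h2
    have : x = (inl x.fst + inr (bb ⟨x.fst, h1⟩)) + inr (x.snd - bb ⟨x.fst, h1⟩) := by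
      ext <;> simp
    rw [this]
    exact J.add_mem (hbb ⟨x.fst, h1⟩) h3

end Groth.Agent.Helper29.DualLift
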