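import Mathlib
import Groth.Prelude.Def_EssDim

namespace Groth.Agent.Helper29.EssDimBC

open CategoryTheory AlgebraicGeometry Opposite EssDim Cardinal

universe w u

section Trdeg

open Algebra in
/-- transcendence degree of a field generated over `K` by a `k`-field `E` -/
lemma trdeg_le_of_generated {k K E M : Type u} [Field k] [Field K] [Algebra k K] [Field E]
    [Algebra k E] [Field M] [Algebra K M] [Algebra k M] [IsScalarTower k K M] (ι : E →ₐ[k] M)
    (hgen : ∀ N : IntermediateField K M, Set.range ι ⊆ N → N = ⊤) :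
    Algebra.trdeg K M ≤ Algebra.trdeg k E := by
  obtain ⟨s, hs⟩ := exists_isTranscendenceBasis k E
  let t : Set M := ι '' s
  let D : Subalgebra K M := Algebra.adjoin K t
  have hsD : ∀ y : Algebra.adjoin k s, ι (y : E) ∈ D := by
    rintro ⟨y, hy⟩
    have h1 : ι y ∈ (Algebra.adjoin k s).map ι := ⟨y, hy, rfl⟩
    rw [AlgHom.map_adjoin] at h1
    have h2 : Algebra.adjoin k (ι '' s) ≤ D.restrictScalars k :=
      Algebra.adjoin_le (fun z hz => Algebra.subset_adjoin hz)
    exact h2 h1
  have halgE : ∀ e : E, IsAlgebraic D (ι e) := by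
    intro e
    have h0 : Algebra.IsAlgebraic (Algebra.adjoin k (Set.range (Subtype.val : s → E))) E :=
      hs.isAlgebraic
    rw [Subtype.range_coe] at h0
    have h1 : IsAlgebraic (Algebra.adjoin k s) e := h0.isAlgebraic e
    let f : Algebra.adjoin k s →+* D :=
      ((ι : E →+* M).comp (Algebra.adjoin k s).val.toRingHom).codRestrict D hsD
    have hf : Function.Injective f := by
      intro y z hyz
      have := congrArg (fun d : D => (d : M)) hyz
      exact Subtype.ext (ι.injective this)
    exact h1.ringHom_of_comp_eq f (ι : E →+* M) hf (by ext y; rfl)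
  let N : IntermediateField K M :=
    { toSubalgebra := (Subalgebra.algebraicClosure D M).restrictScalars K
      inv_mem' := fun x hx => IsAlgebraic.inv_iff.mpr hx }
  have hN : N = ⊤ := hgen N (by rintro _ ⟨e, rfl⟩; exact halgE e)
  have halg : Algebra.IsAlgebraic (Algebra.adjoin K t) M := by
    refine ⟨fun x => ?_⟩
    have : x ∈ N := hN ▸ IntermediateField.mem_top
    exact this
  calc Algebra.trdeg K M ≤ #t := Algebra.IsAlgebraic.trdeg_le_cardinalMk K t
    _ ≤ #s := Cardinal.mk_image_le
    _ = Algebra.trdeg k E := hs.cardinalMk_eq_trdeg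

end Trdeg

section Cat

variable {k : Type u} [Field k] {K : Type u} [Field K] [Algebra k K]

/-- `Spec M` over `Spec k` is `Spec M → Spec K → Spec k`. -/
noncomputable def compIso (M : Type u) [Field M] [Algebra K M] [Algebra k M]
    [IsScalarTower k K M] :
    SGA7.pt (K := k) M ≅
      (Over.map (Spec.map (CommRingCat.ofHom (algebraMap k K)))).obj (SGA7.pt (K := K) M) :=
  Over.isoMk (Iso.refl _) (by
    simp only [SGA7.pt, Over.map_obj_hom, Over.mk_hom, Iso.refl_hom, Category.id_comp]
    rw [← Spec.map_comp, ← CommRingCat.ofHom_comp, ← IsScalarTower.algebraMap_eq])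

@[simp] lemma compIso_hom_left (M : Type u) [Field M] [Algebra K M] [Algebra k M]
    [IsScalarTower k K M] : (compIso (k := k) (K := K) M).hom.left = 𝟙 _ := rfl

@[simp] lemma compIso_inv_left (M : Type u) [Field M] [Algebra K M] [Algebra k M]
    [IsScalarTower k K M] : (compIso (k := k) (K := K) M).inv.left = 𝟙 _ := rfl

theorem main (P : (Over (Spec (CommRingCat.of k)))ᵒᵖ ⥤ Type w) :
    EssDim.ed (k := K) ((Over.map (Spec.map (CommRingCat.ofHom (algebraMap k K)))).op ⋙ P)
      ≤ EssDim.ed P := by
  unfold EssDim.ed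
  refine iSup_le fun L => iSup_le fun _ => iSup_le fun _ => iSup_le fun ξ => ?_
  let _ : Algebra k L := ((algebraMap K L).comp (algebraMap k K)).toAlgebra
  have : IsScalarTower k K L := IsScalarTower.of_algebraMap_eq (fun _ => rfl)
  let ξ' : FPt P L := P.map (compIso (k := k) (K := K) L).hom.op ξ
  have hξ : ξ = P.map (compIso (k := k) (K := K) L).inv.op ξ' := by
    simp only [ξ']
    rw [← Functor.map_comp_apply, ← op_comp, Iso.inv_hom_id, op_id,
      Functor.map_id_apply]
  have key : edAt (k := K) ((Over.map (Spec.map (CommRingCat.ofHom (algebraMap k K)))).op ⋙ P) ξ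
      ≤ edAt P ξ' := by
    refine le_iInf fun ⟨E, hE⟩ => ?_
    obtain ⟨ξ₀, hξ₀⟩ := hE
    let E' : IntermediateField K L := IntermediateField.adjoin K (E : Set L)
    have hEE' : ∀ x : E, (x : L) ∈ E' := fun x => IntermediateField.subset_adjoin K _ x.2
    let j : E →ₐ[k] E' :=
      { toFun := fun x => ⟨x, hEE' x⟩
        map_one' := rfl
        map_mul' := fun _ _ => rfl
        map_zero' := rfl
        map_add' := fun _ _ => rfl
        commutes' := fun r => rfl }
    have hdesc : Descends (k := K)
        ((Over.map (Spec.map (CommRingCat.ofHom (algebraMap k K)))).op ⋙ P) ξ E' := by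
      refine ⟨P.map (compIso (k := k) (K := K) E').inv.op (fmap j ξ₀), ?_⟩
      rw [hξ, ← hξ₀]
      show P.map ((Over.map (Spec.map (CommRingCat.ofHom (algebraMap k K)))).map
          (resPt E'.val)).op (P.map (compIso (k := k) (K := K) E').inv.op
            (P.map (resPt j).op ξ₀))
        = P.map (compIso (k := k) (K := K) L).inv.op (P.map (resPt E.val).op ξ₀)
      rw [← Functor.map_comp_apply, ← Functor.map_comp_apply,
        ← Functor.map_comp_apply, ← op_comp, ← op_comp, ← op_comp]
      have hc : ((Over.map (Spec.map (CommRingCat.ofHom (algebraMap k K)))).map (resPt E'.val) ≫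
          (compIso (k := k) (K := K) E').inv) ≫ resPt j
          = (compIso (k := k) (K := K) L).inv ≫ resPt E.val := by
        ext : 1
        simp only [Over.comp_left, Over.map_map_left, resPt_left, compIso_inv_left,
          Category.id_comp, Category.comp_id]
        rw [← Spec.map_comp, ← CommRingCat.ofHom_comp]
        rfl
      rw [hc]
    have htr : Algebra.trdeg K E' ≤ Algebra.trdeg k E := by
      refine trdeg_le_of_generated j ?_
      intro N hN
      rw [eq_top_iff]
      rintro ⟨x, hx⟩ -
      have hle : E' ≤ N.map E'.val := by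
        refine IntermediateField.adjoin_le_iff.mpr fun y hy => ?_
        exact ⟨⟨y, hEE' ⟨y, hy⟩⟩, hN ⟨⟨y, hy⟩, rfl⟩, rfl⟩
      obtain ⟨y, hyN, hyx⟩ := hle hx
      have : y = ⟨x, hx⟩ := Subtype.ext hyx
      rw [← this]
      exact hyN
    calc edAt (k := K) ((Over.map (Spec.map (CommRingCat.ofHom (algebraMap k K)))).op ⋙ P) ξ
        ≤ Cardinal.toENat (Algebra.trdeg K E') := edAt_le_of_descends hdesc
      _ ≤ Cardinal.toENat (Algebra.trdeg k E) := OrderHomClass.mono Cardinal.toENat htr
  calc ((edAt (k := K) ((Over.map (Spec.map (CommRingCat.ofHom (algebraMap k K)))).op ⋙ P) ξ : ℕ∞)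
        : WithBot ℕ∞) ≤ (edAt P ξ' : WithBot ℕ∞) := WithBot.coe_le_coe.mpr key
    _ ≤ _ := edAt_le_ed ξ'

end Cat

end Groth.Agent.Helper29.EssDimBC
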