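import Mathlib
import Groth.Prelude.Def_DCoh2
import Groth.Prelude.Def_EtBC2
import Groth.Agent.Lib.Helper29.DExAdj
import Groth.Agent.Lib.Helper1.OI6
import Groth.Agent.Lib.Helper1.CI9
import Groth.Agent.Lib.Helper1.CI8
import Groth.Agent.S0101

/-!
# `D(Z_et) ⥤ D(X_et)` for a closed immersion: fully faithful, essential image
-/

set_option autoImplicit false
set_option linter.unusedSectionVars false

universe u

open CategoryTheory CategoryTheory.Limits AlgebraicGeometry Opposite

attribute [local instance] HasDerivedCategory.standard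

namespace Groth.Agent.Helper29.EtClosedD

open Groth.Agent.Helper1.OI Groth.Agent.Helper1.CI

section Open

variable {U X : Scheme.{u}} (j : U ⟶ X) [IsOpenImmersion j]

/-- an étale `X`-scheme with image inside `U` comes from an étale `U`-scheme -/
lemma exists_compEtale_iso (V : X.Etale) (hV : Set.range V.hom.base ⊆ Set.range j.base) :
    ∃ V' : U.Etale, Nonempty ((EtShriek.compEtale j).obj V' ≅ V) := by
  have hj : Etale j := inferInstance
  let g : V.left ⟶ U := IsOpenImmersion.lift j V.hom hV
  have hg : g ≫ j = V.hom := IsOpenImmersion.lift_fac _ _ _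
  have hW : EtCoh.etaleMP (g ≫ j) := by rw [hg]; exact V.prop
  let V' : U.Etale := MorphismProperty.Over.mk ⊤ g
    (EtCoh.etaleMP.of_postcomp (W' := EtCoh.etaleMP) g j hj hW)
  refine ⟨V', ⟨MorphismProperty.Over.isoMk (Iso.refl _) ?_⟩⟩
  rw [Iso.refl_hom]
  refine (Category.id_comp _).trans ?_
  exact hg.symm

/-- if `j⁻¹ F = 0` then `F` has no sections over étale `X`-schemes with image in `U` -/
lemma isZero_sections_of_isZero_pull (F : EtCoh.Ab X) (hF : IsZero ((EtCoh.pull j).obj F))
    (V : X.Etale) (hV : Set.range V.hom.base ⊆ Set.range j.base) :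
    IsZero (F.obj.obj (op V)) := by
  haveI : EtShriek.JCont j := inferInstance
  obtain ⟨V', ⟨e⟩⟩ := exists_compEtale_iso j V hV
  have h1 : IsZero ((EtShriek.restrAlong j).obj F) :=
    hF.of_iso ((restrPullIso j).app F)
  have h2 : IsZero (((EtShriek.restrAlong j).obj F).obj.obj (op V')) := by
    rw [IsZero.iff_id_eq_zero]
    have h3 := (IsZero.iff_id_eq_zero _).1 h1
    have h4 := congrArg (fun φ => φ.hom.app (op V')) h3
    exact h4
  exact h2.of_iso (F.obj.mapIso e.op)

end Open

section Closed

variable {Z X U : Scheme.{u}} (i : Z ⟶ X) [IsClosedImmersion i]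
  (j : U ⟶ X) [IsOpenImmersion j] (hZU : Set.range j.base = (Set.range i.base)ᶜ)

include hZU in
/-- the unit `F ⟶ i_* i⁻¹ F` is an isomorphism iff `j⁻¹ F = 0` -/
lemma isIso_unit_iff (F : EtCoh.Ab X) :
    IsIso ((EtCoh.pullPushAdj i).unit.app F) ↔ IsZero ((EtCoh.pull j).obj F) := by
  constructor
  · intro h
    exact (isZero_pull_push i j hZU ((EtCoh.pull i).obj F)).of_iso
      ((EtCoh.pull j).mapIso (asIso ((EtCoh.pullPushAdj i).unit.app F)))
  · intro h
    apply isIso_unit_of_vanishing i F
    intro V hV
    apply isZero_sections_of_isZero_pull j F h V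
    rw [hZU]
    intro x hx hx'
    exact Set.disjoint_left.1 hV hx hx'

instance : IsIso (EtCoh.pullPushAdj i).counit := by
  haveI : ∀ G, IsIso ((EtCoh.pullPushAdj i).counit.app G) := fun G => isIso_counit i G
  exact NatIso.isIso_of_isIso_app _

end Closed

end Groth.Agent.Helper29.EtClosedD
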