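import Mathlib

namespace Groth.Agent.Helper29.EtModel

universe u

open TensorProduct MvPolynomial

lemma map_aeval_int {S T : Type*} [CommRing S] [CommRing T] (φ : S →+* T) {n : ℕ}
    (y : Fin n → S) (q : MvPolynomial (Fin n) ℤ) :
    φ (aeval y q) = aeval (fun k => φ (y k)) q := by
  induction q using MvPolynomial.induction_on with
  | C r => simp
  | add p q hp hq => simp only [map_add, hp, hq]
  | mul_X p i hp => simp only [map_mul, hp, aeval_X]

section

variable {ι : Type u} [Preorder ι] [IsDirected ι (· ≤ ·)] [Nonempty ι]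
    (G : ι → Type u) [∀ i, CommRing (G i)] (f : ∀ i j, i ≤ j → (G i →+* G j))
    (A : Type u) [CommRing A] (g : ∀ i, G i →+* A)
    (hg : ∀ i j (h : i ≤ j), (g j).comp (f i j h) = g i)
    (hsurj : ∀ a : A, ∃ i, ∃ x : G i, g i x = a)
    (hker : ∀ i (x : G i), g i x = 0 → ∃ j, ∃ h : i ≤ j, f i j h x = 0)

include hg hsurj in
lemma exists_lifts {n : ℕ} (a : Fin n → A) :
    ∃ (j : ι) (y : Fin n → G j), ∀ k, g j (y k) = a k := by
  choose i x hx using fun k => hsurj (a k)
  obtain ⟨M, hM⟩ := Finite.exists_le i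
  refine ⟨M, fun k => f (i k) M (hM k) (x k), fun k => ?_⟩
  rw [← hx k, ← hg (i k) M (hM k)]
  rfl

include hg hsurj hker in
lemma exists_lifts_kill {n : ℕ} (a : Fin n → A) (Q : Finset (MvPolynomial (Fin n) ℤ))
    (hQ : ∀ q ∈ Q, aeval a q = 0) :
    ∃ (j : ι) (y : Fin n → G j), (∀ k, g j (y k) = a k) ∧ ∀ q ∈ Q, aeval y q = 0 := by
  classical
  induction Q using Finset.induction_on with
  | empty =>
    obtain ⟨j, y, hy⟩ := exists_lifts G f A g hg hsurj a
    exact ⟨j, y, hy, by simp⟩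
  | insert q Q hq ih =>
    obtain ⟨j, y, hy, hyQ⟩ := ih (fun q' hq' => hQ q' (Finset.mem_insert_of_mem hq'))
    have h0 : g j (aeval y q) = 0 := by
      rw [map_aeval_int, show (fun k => g j (y k)) = a from funext hy]
      exact hQ q (Finset.mem_insert_self _ _)
    obtain ⟨j', hjj', hx⟩ := hker j _ h0
    refine ⟨j', fun k => f j j' hjj' (y k), fun k => ?_, ?_⟩
    · rw [← hy k, ← hg j j' hjj']
      rfl
    · intro q' hq'
      rw [← map_aeval_int]
      rcases Finset.mem_insert.mp hq' with rfl | h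
      · exact hx
      · rw [hyQ q' h, map_zero]

include hg hsurj hker in
theorem main (B : Type u) [CommRing B] [Algebra A B] [Algebra.Etale A B] :
    ∃ (i : ι) (Bi : Type u) (_ : CommRing Bi) (_ : Algebra (G i) Bi), Algebra.Etale (G i) Bi ∧
      letI : Algebra (G i) A := (g i).toAlgebra
      Nonempty (B ≃ₐ[A] A ⊗[G i] Bi) := by
  classical
  obtain ⟨A₀, B₀, _, _, hfg, hEt, ⟨e⟩⟩ := Algebra.Etale.exists_subalgebra_fg ℤ A B
  have hft : Algebra.FiniteType ℤ A₀ := (Subalgebra.fg_iff_finiteType A₀).mp hfg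
  obtain ⟨n, π, hπ⟩ := Algebra.FiniteType.iff_quotient_mvPolynomial''.mp hft
  let a : Fin n → A := fun k => (π (X k) : A)
  have hπa : ∀ q : MvPolynomial (Fin n) ℤ, aeval a q = (π q : A) := by
    intro q
    have : (aeval a : MvPolynomial (Fin n) ℤ →ₐ[ℤ] A) = A₀.val.comp π := by
      apply MvPolynomial.algHom_ext
      intro k
      simp [a]
    rw [this]
    rfl
  have hnoeth : (RingHom.ker (π : MvPolynomial (Fin n) ℤ →+* A₀)).FG :=
    IsNoetherian.noetherian _
  obtain ⟨Q, hQ⟩ := hnoeth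
  have hQ0 : ∀ q ∈ Q, aeval a q = 0 := by
    intro q hq
    have : q ∈ RingHom.ker (π : MvPolynomial (Fin n) ℤ →+* A₀) := by
      rw [← hQ]
      exact Ideal.subset_span hq
    rw [hπa, show π q = 0 from this]
    rfl
  obtain ⟨j, y, hy, hyQ⟩ := exists_lifts_kill G f A g hg hsurj hker a Q hQ0
  let ψ : MvPolynomial (Fin n) ℤ →+* G j := (aeval y : MvPolynomial (Fin n) ℤ →ₐ[ℤ] G j)
  have hkerle : RingHom.ker (π : MvPolynomial (Fin n) ℤ →+* A₀) ≤ RingHom.ker ψ := by
    rw [← hQ]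
    refine Ideal.span_le.mpr fun q hq => ?_
    exact hyQ q hq
  let φ : A₀ →+* G j :=
    RingHom.liftOfSurjective (π : MvPolynomial (Fin n) ℤ →+* A₀) hπ ⟨ψ, hkerle⟩
  have hφ : ∀ q, φ (π q) = aeval y q := fun q =>
    RingHom.liftOfRightInverse_comp_apply _ _ _ ⟨ψ, hkerle⟩ q
  have htower : ∀ x : A₀, g j (φ x) = (x : A) := by
    intro x
    obtain ⟨q, rfl⟩ := hπ x
    rw [hφ, map_aeval_int, show (fun k => g j (y k)) = a from funext hy, hπa]
  let _ : Algebra (G j) A := (g j).toAlgebra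
  let _ : Algebra A₀ (G j) := φ.toAlgebra
  have : IsScalarTower A₀ (G j) A := IsScalarTower.of_algebraMap_eq fun x => (htower x).symm
  exact ⟨j, G j ⊗[A₀] B₀, inferInstance, inferInstance, inferInstance,
    ⟨e.trans (Algebra.TensorProduct.cancelBaseChange A₀ (G j) A A B₀).symm⟩⟩

end

end Groth.Agent.Helper29.EtModel
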