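import Mathlib

set_option autoImplicit false
universe u

namespace Groth.Agent.Helper29.EtNbhd

open TensorProduct

variable {A : Type u} [CommRing A] (I : Ideal A)

/-- the canonical map A/I → A'/IA' -/
abbrev q (A' : Type u) [CommRing A'] [Algebra A A'] : A ⧸ I →+* A' ⧸ I.map (algebraMap A A') :=
  Ideal.quotientMap (I.map (algebraMap A A')) (algebraMap A A') Ideal.le_comap_map

section
variable {A' : Type u} [CommRing A'] [Algebra A A']

theorem map_mem {A'' : Type u} [CommRing A''] [Algebra A A''] (φ : A' →ₐ[A] A'') {z : A'}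
    (hz : z ∈ I.map (algebraMap A A')) : φ z ∈ I.map (algebraMap A A'') := by
  have h : I.map (algebraMap A A') ≤ (I.map (algebraMap A A'')).comap φ := by
    rw [Ideal.map_le_iff_le_comap]
    intro i hi
    show φ (algebraMap A A' i) ∈ I.map (algebraMap A A'')
    rw [AlgHom.commutes]
    exact Ideal.mem_map_of_mem _ hi
  exact h hz

theorem mk_map_eq {A'' : Type u} [CommRing A''] [Algebra A A''] (φ : A' →ₐ[A] A'') {x y : A'}
    (h : Ideal.Quotient.mk (I.map (algebraMap A A')) x = Ideal.Quotient.mk _ y) :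
    Ideal.Quotient.mk (I.map (algebraMap A A'')) (φ x) = Ideal.Quotient.mk _ (φ y) := by
  rw [Ideal.Quotient.eq] at h ⊢
  rw [← map_sub]
  exact map_mem I φ h

theorem cong_of_surjective (h : Function.Surjective (q I A')) (x : A') :
    ∃ a : A, Ideal.Quotient.mk (I.map (algebraMap A A')) x =
      Ideal.Quotient.mk _ (algebraMap A A' a) := by
  obtain ⟨y, hy⟩ := h (Ideal.Quotient.mk _ x)
  obtain ⟨a, rfl⟩ := Ideal.Quotient.mk_surjective y
  refine ⟨a, ?_⟩
  rw [Ideal.quotientMap_mk] at hy
  exact hy.symm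

theorem surjective_of_cong (h : ∀ x : A', ∃ a : A, Ideal.Quotient.mk (I.map (algebraMap A A')) x =
      Ideal.Quotient.mk _ (algebraMap A A' a)) : Function.Surjective (q I A') := by
  intro y
  obtain ⟨x, rfl⟩ := Ideal.Quotient.mk_surjective y
  obtain ⟨a, ha⟩ := h x
  refine ⟨Ideal.Quotient.mk _ a, ?_⟩
  rw [Ideal.quotientMap_mk]
  exact ha.symm

theorem kills {C : Type u} [CommRing C] [Algebra A C] (hC : ∀ i ∈ I, algebraMap A C i = 0)
    (φ : A' →ₐ[A] C) {z : A'} (hz : z ∈ I.map (algebraMap A A')) : φ z = 0 := by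
  have h : I.map (algebraMap A A') ≤ RingHom.ker (φ : A' →+* C) := by
    rw [Ideal.map_le_iff_le_comap]
    intro i hi
    show (φ : A' →+* C) (algebraMap A A' i) = 0
    rw [RingHom.coe_coe, AlgHom.commutes]
    exact hC i hi
  exact h hz

theorem uniq (h : Function.Surjective (q I A')) {C : Type u} [CommRing C] [Algebra A C]
    (hC : ∀ i ∈ I, algebraMap A C i = 0) (φ ψ : A' →ₐ[A] C) : φ = ψ := by
  ext x
  obtain ⟨a, ha⟩ := cong_of_surjective I h x
  rw [Ideal.Quotient.eq] at ha
  have h1 := kills I hC φ ha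
  have h2 := kills I hC ψ ha
  rw [map_sub, AlgHom.commutes, sub_eq_zero] at h1 h2
  rw [h1, h2]

theorem quotient_kills (A'' : Type u) [CommRing A''] [Algebra A A''] :
    ∀ i ∈ I, algebraMap A (A'' ⧸ I.map (algebraMap A A'')) i = 0 := by
  intro i hi
  rw [IsScalarTower.algebraMap_apply A A'' (A'' ⧸ I.map (algebraMap A A'')),
    Ideal.Quotient.algebraMap_eq, Ideal.Quotient.eq_zero_iff_mem]
  exact Ideal.mem_map_of_mem _ hi

theorem self_kills : ∀ i ∈ I, algebraMap A (A ⧸ I) i = 0 :=
  fun _ hi => Ideal.Quotient.eq_zero_iff_mem.mpr hi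

theorem exists_retraction (h : Function.Bijective (q I A')) : Nonempty (A' →ₐ[A] A ⧸ I) := by
  let e := RingEquiv.ofBijective (q I A') h
  refine ⟨{ toRingHom := (e.symm : A' ⧸ I.map (algebraMap A A') →+* A ⧸ I).comp (Ideal.Quotient.mk _), commutes' := ?_ }⟩
  intro a
  show e.symm (Ideal.Quotient.mk _ (algebraMap A A' a)) = Ideal.Quotient.mk I a
  rw [RingEquiv.symm_apply_eq]
  show _ = q I A' (Ideal.Quotient.mk I a)
  rw [Ideal.quotientMap_mk]

theorem injective_of_retraction (r : A' →ₐ[A] A ⧸ I) : Function.Injective (q I A') := by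
  have hk : ∀ z ∈ I.map (algebraMap A A'), (r : A' →+* A ⧸ I) z = 0 := fun z hz =>
    kills I (self_kills I) r hz
  let rbar : A' ⧸ I.map (algebraMap A A') →+* A ⧸ I :=
    Ideal.Quotient.lift _ (r : A' →+* A ⧸ I) hk
  have hl : Function.LeftInverse rbar (q I A') := by
    intro y
    obtain ⟨a, rfl⟩ := Ideal.Quotient.mk_surjective y
    rw [Ideal.quotientMap_mk]
    show rbar (Ideal.Quotient.mk _ (algebraMap A A' a)) = _
    rw [Ideal.Quotient.lift_mk]
    exact r.commutes a
  exact hl.injective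

end

theorem part1 (A₁ A₂ : Type u) [CommRing A₁] [Algebra A A₁] [CommRing A₂] [Algebra A A₂]
    (h₁ : Function.Bijective (q I A₁)) (h₂ : Function.Bijective (q I A₂)) :
    Function.Bijective (q I (A₁ ⊗[A] A₂)) := by
  obtain ⟨r₁⟩ := exists_retraction I h₁
  obtain ⟨r₂⟩ := exists_retraction I h₂
  refine ⟨injective_of_retraction I
    (Algebra.TensorProduct.lift r₁ r₂ (fun _ _ => Commute.all _ _)), ?_⟩
  apply surjective_of_cong
  intro x
  induction x using TensorProduct.induction_on with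
  | zero => exact ⟨0, by simp⟩
  | tmul x₁ x₂ =>
    obtain ⟨a₁, ha₁⟩ := cong_of_surjective I h₁.2 x₁
    obtain ⟨a₂, ha₂⟩ := cong_of_surjective I h₂.2 x₂
    refine ⟨a₁ * a₂, ?_⟩
    have e : x₁ ⊗ₜ[A] x₂ = (Algebra.TensorProduct.includeLeft : A₁ →ₐ[A] A₁ ⊗[A] A₂) x₁ *
        (Algebra.TensorProduct.includeRight : A₂ →ₐ[A] A₁ ⊗[A] A₂) x₂ := by
      simp
    have e₁ := mk_map_eq I (Algebra.TensorProduct.includeLeft : A₁ →ₐ[A] A₁ ⊗[A] A₂) ha₁
    have e₂ := mk_map_eq I (Algebra.TensorProduct.includeRight : A₂ →ₐ[A] A₁ ⊗[A] A₂) ha₂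
    rw [AlgHom.commutes] at e₁ e₂
    rw [e, map_mul, e₁, e₂, ← map_mul, ← map_mul]
  | add x y hx hy =>
    obtain ⟨a, ha⟩ := hx
    obtain ⟨b, hb⟩ := hy
    refine ⟨a + b, ?_⟩
    rw [map_add, ha, hb, ← map_add, ← map_add]

theorem part2 (A₁ A₂ : Type u) [CommRing A₁] [Algebra A A₁] [Algebra.Etale A A₁]
    [CommRing A₂] [Algebra A A₂]
    (h₁ : Function.Bijective (q I A₁)) (h₂ : Function.Bijective (q I A₂)) (f g : A₁ →ₐ[A] A₂) :
    ∃ u : A₂, Function.Bijective (q I (Localization.Away u)) ∧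
      (IsScalarTower.toAlgHom A A₂ (Localization.Away u)).comp f =
        (IsScalarTower.toAlgHom A A₂ (Localization.Away u)).comp g := by
  let t := Algebra.FormallyUnramified.elem A A₁
  let m : A₁ ⊗[A] A₁ →ₐ[A] A₂ := Algebra.TensorProduct.lift f g (fun _ _ => Commute.all _ _)
  have hu1 : ∀ s : A₁, (g s - f s) * m t = 0 := by
    intro s
    have := congrArg m (Algebra.FormallyUnramified.one_tmul_sub_tmul_one_mul_elem (R := A) s)
    simpa [m, map_mul, map_sub, Algebra.TensorProduct.lift_tmul] using this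
  have hu2 : Ideal.Quotient.mk (I.map (algebraMap A A₂)) (m t) = 1 := by
    let π : A₂ →ₐ[A] (A₂ ⧸ I.map (algebraMap A A₂)) := Ideal.Quotient.mkₐ A _
    have hfg : π.comp f = π.comp g := uniq I h₁.2 (quotient_kills I A₂) _ _
    have hm : π.comp m = (π.comp f).comp (Algebra.TensorProduct.lmul' A) := by
      apply Algebra.TensorProduct.ext'
      intro a b
      have := DFunLike.congr_fun hfg b
      simp only [AlgHom.comp_apply] at this
      simp only [AlgHom.comp_apply, m, Algebra.TensorProduct.lift_tmul,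
        Algebra.TensorProduct.lmul'_apply_tmul, map_mul, this]
    have h3 := DFunLike.congr_fun hm t
    simp only [AlgHom.comp_apply] at h3
    rw [Algebra.FormallyUnramified.lmul_elem, map_one, map_one] at h3
    exact h3
  refine ⟨m t, ?_, ?_⟩
  · obtain ⟨r₂⟩ := exists_retraction I h₂
    have hmem : m t - 1 ∈ I.map (algebraMap A A₂) := by
      rw [← Ideal.Quotient.eq, hu2, map_one]
    have hr₂u : r₂ (m t) = 1 := by
      have := kills I (self_kills I) r₂ hmem
      rwa [map_sub, map_one, sub_eq_zero] at this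
    let r₃ : Localization.Away (m t) →ₐ[A] A ⧸ I :=
      IsLocalization.liftAlgHom (M := Submonoid.powers (m t)) (f := r₂) (by
        rintro ⟨y, n, rfl⟩
        simp [hr₂u])
    refine ⟨injective_of_retraction I r₃, ?_⟩
    apply surjective_of_cong
    intro x
    obtain ⟨⟨y, ⟨_, n, rfl⟩⟩, hxy⟩ := IsLocalization.surj (Submonoid.powers (m t)) x
    obtain ⟨a, ha⟩ := cong_of_surjective I h₂.2 y
    refine ⟨a, ?_⟩
    have hv := mk_map_eq I (IsScalarTower.toAlgHom A A₂ (Localization.Away (m t)))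
      (x := m t) (y := 1) (by rw [hu2, map_one])
    have hy := mk_map_eq I (IsScalarTower.toAlgHom A A₂ (Localization.Away (m t))) ha
    rw [AlgHom.commutes] at hy
    rw [map_one, map_one] at hv
    simp only [IsScalarTower.toAlgHom_apply] at hv hy
    simp only at hxy
    calc Ideal.Quotient.mk _ x
        = Ideal.Quotient.mk _ x *
          (Ideal.Quotient.mk _ (algebraMap A₂ (Localization.Away (m t)) (m t))) ^ n := by
          rw [hv, one_pow, mul_one]
      _ = Ideal.Quotient.mk _ (x * algebraMap A₂ (Localization.Away (m t)) ((m t) ^ n)) := by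
          rw [map_mul, map_pow, map_pow]
      _ = Ideal.Quotient.mk _ (algebraMap A (Localization.Away (m t)) a) := by
          rw [hxy, hy]
  · ext s
    simp only [AlgHom.comp_apply, IsScalarTower.toAlgHom_apply]
    have h := congrArg (algebraMap A₂ (Localization.Away (m t))) (hu1 s)
    rw [map_mul, map_zero, map_sub] at h
    have hunit : IsUnit (algebraMap A₂ (Localization.Away (m t)) (m t)) :=
      IsLocalization.Away.algebraMap_isUnit (m t)
    have h' := (hunit.mul_left_eq_zero).mp h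
    exact (sub_eq_zero.mp h').symm

end Groth.Agent.Helper29.EtNbhd
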