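import Mathlib
import Groth.Prelude.Def_RedSub

set_option autoImplicit false

namespace Groth.Agent.Helper29.Exchange

variable {idx M N : Type} [AddCommGroup M] [AddCommGroup N]
  (P : RootPairing idx ℤ M N) (b : P.Base)

theorem reflectionPerm_conj (a c : idx) :
    P.reflectionPerm (P.reflectionPerm a c) =
      P.reflectionPerm a * P.reflectionPerm c * P.reflectionPerm a := by
  ext k
  apply P.root.injective
  simp only [Equiv.Perm.mul_apply, RootPairing.root_reflectionPerm,
    RootPairing.reflection_reflectionPerm, LinearEquiv.mul_apply]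

theorem exists_nat_sum_of_mem_closure (m : M)
    (hm : m ∈ AddSubmonoid.closure (P.root '' (b.support : Set idx))) :
    ∃ f : idx → ℕ, m = ∑ j ∈ b.support, f j • P.root j := by
  classical
  refine AddSubmonoid.closure_induction ?_ ⟨0, by simp⟩ ?_ hm
  · rintro - ⟨j, hj, rfl⟩
    refine ⟨Pi.single j 1, ?_⟩
    rw [Finset.sum_eq_single_of_mem j hj (fun k _ hk => by simp [hk])]
    simp
  · rintro _ _ _ _ ⟨f, hf⟩ ⟨g, hg⟩
    exact ⟨f + g, by simp [hf, hg, add_smul, Finset.sum_add_distrib]⟩

theorem isPos_of_mem_posRoots {c : idx} (hc : c ∈ RedSub.posRoots P b) : b.IsPos c := by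
  obtain ⟨f, hf⟩ := exists_nat_sum_of_mem_closure P b _ hc
  rw [RootPairing.Base.isPos_iff']
  have h : P.root c = ∑ j ∈ b.support, (fun j => (f j : ℤ)) j • P.root j := by
    rw [hf]; simp
  rw [RootPairing.Base.height_eq_sum h]
  exact Finset.sum_nonneg (fun j _ => Int.natCast_nonneg _)

theorem not_isPos_of_mem_negRoots {c : idx} (hc : c ∈ RedSub.negRoots P b) : ¬ b.IsPos c := by
  obtain ⟨f, hf⟩ := exists_nat_sum_of_mem_closure P b _ hc
  have h : P.root c = ∑ j ∈ b.support, (fun j => -(f j : ℤ)) j • P.root j := by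
    rw [← neg_neg (P.root c), hf]; simp [neg_smul, Finset.sum_neg_distrib]
  rw [RootPairing.Base.isPos_iff, RootPairing.Base.height_eq_sum h]
  simp only [Finset.sum_neg_distrib, not_lt, neg_nonpos]
  exact Finset.sum_nonneg (fun j _ => Int.natCast_nonneg _)

theorem symm_cons (a : idx) (l : List idx) (c : idx) :
    (RedSub.wordPerm P (a :: l)).symm c =
      (RedSub.wordPerm P l).symm (P.reflectionPerm a c) := by
  rw [Equiv.symm_apply_eq]
  simp only [RedSub.wordPerm, List.map_cons, List.prod_cons, Equiv.Perm.mul_apply,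
    Equiv.apply_symm_apply, RootPairing.reflectionPerm_self]

theorem exchange [Finite idx] [P.IsReduced] (l : List idx) (hl : ∀ a ∈ l, a ∈ b.support) :
    ∀ c, b.IsPos c → ¬ b.IsPos ((RedSub.wordPerm P l).symm c) →
      ∃ i, i < l.length ∧
        P.reflectionPerm c * RedSub.wordPerm P (l.take (i + 1)) = RedSub.wordPerm P (l.take i) := by
  induction l with
  | nil =>
    intro c hc hn
    have h1 : (RedSub.wordPerm P []).symm c = c := by
      rw [Equiv.symm_apply_eq]
      simp [RedSub.wordPerm]
    rw [h1] at hn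
    exact absurd hc hn
  | cons a l ih =>
    intro c hc hn
    have ha : a ∈ b.support := hl a List.mem_cons_self
    have hl' : ∀ x ∈ l, x ∈ b.support := fun x hx => hl x (List.mem_cons_of_mem _ hx)
    have hsq : ∀ x : idx, P.reflectionPerm x * P.reflectionPerm x = 1 := by
      intro x
      have := P.reflectionPerm_sq x
      rwa [sq] at this
    by_cases hca : c = a
    · subst hca
      refine ⟨0, by simp, ?_⟩
      simp [RedSub.wordPerm, hsq]
    · have hc' : b.IsPos (P.reflectionPerm a c) := hc.reflectionPerm ha hca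
      have hn' : ¬ b.IsPos ((RedSub.wordPerm P l).symm (P.reflectionPerm a c)) := by
        rwa [symm_cons] at hn
      obtain ⟨i, hi, he⟩ := ih hl' _ hc' hn'
      refine ⟨i + 1, by simpa using hi, ?_⟩
      have e1 : RedSub.wordPerm P ((a :: l).take (i + 1 + 1)) =
          P.reflectionPerm a * RedSub.wordPerm P (l.take (i + 1)) := by
        simp [RedSub.wordPerm]
      have e2 : RedSub.wordPerm P ((a :: l).take (i + 1)) =
          P.reflectionPerm a * RedSub.wordPerm P (l.take i) := by
        simp [RedSub.wordPerm]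
      rw [e1, e2, ← he, reflectionPerm_conj]
      simp only [mul_assoc]
      rw [← mul_assoc (P.reflectionPerm a) (P.reflectionPerm a), hsq, one_mul]

end Groth.Agent.Helper29.Exchange
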