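import Mathlib

/-!
# Every class in `Ext^1` is the class of an extension (abelian categories with enough injectives)
-/

set_option autoImplicit false
universe w v u
open CategoryTheory CategoryTheory.Limits

namespace Groth.Agent.Helper29.ExtClassSurj

variable {A : Type u} [Category.{v} A] [Abelian A] [HasExt.{w} A] [EnoughInjectives A]

open Abelian

theorem exists_extClass {X Y : A} (e : Ext.{w} X Y 1) :
    ∃ (F : A) (i : Y ⟶ F) (p : F ⟶ X) (hip : i ≫ p = 0)
      (hS : (ShortComplex.mk i p hip).ShortExact), hS.extClass = e := by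
  let I := Injective.under Y
  let ι : Y ⟶ I := Injective.ι Y
  let π : I ⟶ cokernel ι := cokernel.π ι
  have hS₂ : (ShortComplex.mk ι π (cokernel.condition ι)).ShortExact :=
    { exact := ShortComplex.exact_of_g_is_cokernel _ (cokernelIsCokernel ι)
      mono_f := inferInstanceAs (Mono (Injective.ι Y))
      epi_g := inferInstanceAs (Epi (cokernel.π ι)) }
  have h0 : e.comp (Ext.mk₀ ι) (add_zero 1) = 0 := Ext.eq_zero_of_injective _
  obtain ⟨x₃, hx₃⟩ := Ext.covariant_sequence_exact₁ X hS₂ e h0 (n₀ := 0) rfl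
  obtain ⟨φ, rfl⟩ := (Ext.mk₀_bijective X (cokernel ι)).2 x₃
  let P := pullback π φ
  let i : Y ⟶ P := pullback.lift ι 0 (by rw [cokernel.condition, zero_comp])
  have hi1 : i ≫ pullback.fst π φ = ι := pullback.lift_fst _ _ _
  have hip : i ≫ pullback.snd π φ = 0 := pullback.lift_snd _ _ _
  haveI : Mono i := mono_of_mono_fac hi1
  have hker : IsLimit (KernelFork.ofι i hip) :=
    KernelFork.IsLimit.ofι' i hip (fun {T} k hk => by
      have hk' : (k ≫ pullback.fst π φ) ≫ π = 0 := by
        rw [Category.assoc, pullback.condition, ← Category.assoc, hk, zero_comp]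
      refine ⟨hS₂.fIsKernel.lift (KernelFork.ofι (k ≫ pullback.fst π φ) hk'), ?_⟩
      have h1 : hS₂.fIsKernel.lift (KernelFork.ofι (k ≫ pullback.fst π φ) hk') ≫ ι =
          k ≫ pullback.fst π φ := hS₂.fIsKernel.fac _ WalkingParallelPair.zero
      apply pullback.hom_ext
      · rw [Category.assoc, hi1, h1]
      · rw [Category.assoc, hip, comp_zero, hk])
  have hS₁ : (ShortComplex.mk i (pullback.snd π φ) hip).ShortExact :=
    { exact := ShortComplex.exact_of_f_is_kernel _ hker
      mono_f := inferInstanceAs (Mono i)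
      epi_g := inferInstanceAs (Epi (pullback.snd π φ)) }
  refine ⟨P, i, pullback.snd π φ, hip, hS₁, ?_⟩
  let f : ShortComplex.mk i (pullback.snd π φ) hip ⟶ ShortComplex.mk ι π (cokernel.condition ι) :=
    { τ₁ := 𝟙 Y
      τ₂ := pullback.fst π φ
      τ₃ := φ
      comm₁₂ := by
        change 𝟙 Y ≫ ι = i ≫ pullback.fst π φ
        rw [hi1, Category.id_comp]
      comm₂₃ := by
        change pullback.fst π φ ≫ π = pullback.snd π φ ≫ φ
        exact pullback.condition }
  have hnat := ShortComplex.ShortExact.extClass_naturality hS₁ hS₂ f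
  have h2 : hS₁.extClass.comp (Ext.mk₀ (𝟙 Y)) (add_zero 1) = hS₁.extClass := Ext.comp_mk₀_id _
  rw [← h2]
  exact hnat.trans hx₃

end Groth.Agent.Helper29.ExtClassSurj
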