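import Mathlib
import Groth.Prelude.Def_DCoh2
import Groth.Agent.Lib.Helper29.ExtFLF
import Groth.Agent.Lib.Helper24.WayOut1
import Groth.Agent.Lib.Helper24.RFQc4

/-!
# Vanishing of `Hom_D(F, E[n])` for `F` finite locally free, `E` bounded with quasi-coherent
cohomology on a qcqs scheme, `n ≫ 0`
-/

set_option autoImplicit false
universe u
open CategoryTheory CategoryTheory.Limits AlgebraicGeometry Pretriangulated
open DerivedCategory DerivedCategory.TStructure

attribute [local instance] HasDerivedCategory.standard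

namespace Groth.Agent.Helper29.ExtFLFD

open Groth.Agent.Helper29.ExtFLF Groth.Agent.Helper24.WayOut Groth.Agent.Helper24.RlimTrunc

variable {X : Scheme.{u}}

theorem hom_single_eq_zero (F G : X.Modules) (m : ℕ) [Subsingleton (Abelian.Ext.{u} F G m)]
    (φ : DCoh.inD X F ⟶ (DCoh.inD X G)⟦(m : ℤ)⟧) : φ = 0 :=
  (Abelian.Ext.homEquiv (X := F) (Y := G) (n := m)).symm.injective (Subsingleton.elim _ _)

/-- objects concentrated in one degree -/
theorem hom_conc_eq_zero (F : X.Modules) (d : ℕ)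
    (hd : ∀ G : X.Modules, Coh.IsQCoh G → ∀ m : ℕ, d ≤ m → Subsingleton (Abelian.Ext.{u} F G m))
    (E : DCoh.D X) (hE : DCoh.IsQCohD E) (a : ℤ) [E.IsGE a] [E.IsLE a] (n : ℤ) (hn : a + d ≤ n)
    (φ : DCoh.inD X F ⟶ E⟦n⟧) : φ = 0 := by
  obtain ⟨e⟩ := exists_iso_single_shift E a
  obtain ⟨k, rfl⟩ : ∃ k : ℕ, n = a + k := ⟨(n - a).toNat, by omega⟩
  haveI := hd _ (hE a) k (by omega)
  let i : E⟦a + (k : ℤ)⟧ ≅ (DCoh.inD X (DCoh.HD E a))⟦(k : ℤ)⟧ :=
    (shiftFunctor _ (a + (k : ℤ))).mapIso e ≪≫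
      ((shiftFunctorAdd' (DCoh.D X) (-a) (a + (k : ℤ)) (k : ℤ) (by omega)).app _).symm
  have h := hom_single_eq_zero F (DCoh.HD E a) k (φ ≫ i.hom)
  exact zero_of_comp_mono i.hom h

theorem hom_bounded_eq_zero (F : X.Modules) (d : ℕ)
    (hd : ∀ G : X.Modules, Coh.IsQCoh G → ∀ m : ℕ, d ≤ m → Subsingleton (Abelian.Ext.{u} F G m)) :
    ∀ (k : ℕ) (E : DCoh.D X), DCoh.IsQCohD E → ∀ (a : ℤ), E.IsGE a → E.IsLE (a + k) →
      ∀ (n : ℤ), a + k + d ≤ n → ∀ φ : DCoh.inD X F ⟶ E⟦n⟧, φ = 0 := by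
  intro k
  induction k with
  | zero =>
    intro E hE a h1 h2 n hn φ
    haveI : E.IsLE a := by simpa using h2
    exact hom_conc_eq_zero F d hd E hE a n (by simpa using hn) φ
  | succ k ih =>
    intro E hE a h1 h2 n hn φ
    have hb : a + (k : ℤ) + 1 = a + ((k + 1 : ℕ) : ℤ) := by push_cast; ring
    have hT := t.triangleLTGE_distinguished (a + k + 1) E
    have hT' := Triangle.shift_distinguished _ hT n
    -- the quotient part
    have g1 : ((t.truncGE (a + k + 1)).obj E).IsGE (a + k + 1) := inferInstance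
    have g2 : ((t.truncGE (a + k + 1)).obj E).IsLE (a + k + 1) := by
      have : E.IsLE (a + k + 1) := by rw [hb]; exact h2
      infer_instance
    have hq : DCoh.IsQCohD ((t.truncGE (a + k + 1)).obj E) :=
      fun q => Groth.Agent.Helper24.RFQc.qc_homology_truncGE E hE _ q
    have hl : DCoh.IsQCohD ((t.truncLT (a + k + 1)).obj E) :=
      fun q => Groth.Agent.Helper24.RFQc.qc_homology_truncLT E hE _ q
    have l1 : ((t.truncLT (a + k + 1)).obj E).IsGE a := inferInstance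
    have l2 : ((t.truncLT (a + k + 1)).obj E).IsLE (a + k) := t.isLE_truncLT_obj E _ _ (by omega)
    have h3 : φ ≫ ((t.truncGEπ (a + k + 1)).app E)⟦n⟧' = 0 :=
      hom_conc_eq_zero F d hd _ hq (a + k + 1) n (by push_cast at hn; omega) _
    obtain ⟨ψ, hψ⟩ := Triangle.coyoneda_exact₂ _ hT' φ (by
      change φ ≫ (n.negOnePow • ((t.truncGEπ (a + k + 1)).app E)⟦n⟧') = 0
      rw [Linear.comp_units_smul, h3, smul_zero])
    have h4 : ψ = 0 := ih _ hl a l1 l2 n (by push_cast at hn; omega) ψ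
    rw [hψ, h4]
    exact zero_comp

theorem main (X : Scheme.{u}) [CompactSpace ↥X] [QuasiSeparatedSpace ↥X]
    (E : DCoh.D X) (hE : DCoh.IsQCohD E) (a b : ℤ) [E.IsGE a] [E.IsLE b] :
    ∃ n₀ : ℤ, 0 < n₀ ∧ ∀ (F : X.Modules), FlatMod.IsFinLocFree F → ∀ n : ℤ, n₀ ≤ n →
      ∀ φ : DCoh.inD X F ⟶ E⟦n⟧, φ = 0 := by
  obtain ⟨d, hd⟩ := exists_bound X
  by_cases hab : a ≤ b
  · obtain ⟨k, rfl⟩ : ∃ k : ℕ, b = a + k := ⟨(b - a).toNat, by omega⟩
    refine ⟨max 1 (a + k + d), by omega, fun F hF n hn φ => ?_⟩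
    exact hom_bounded_eq_zero F d (fun G hG m hm => hd F G hF hG m hm) k E hE a inferInstance
      inferInstance n (by omega) φ
  · refine ⟨1, one_pos, fun F hF n hn φ => ?_⟩
    have hz : IsZero E := by
      have : E.IsLE (a - 1) := t.isLE_of_le E b (a - 1) (by omega)
      exact t.isZero E (a - 1) a (by omega)
    exact ((shiftFunctor (DCoh.D X) n).map_isZero hz).eq_of_tgt _ _

end Groth.Agent.Helper29.ExtFLFD
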