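import Mathlib

/-!
# Support of exterior powers via residue-field dimension

For a finite module `M` over a commutative ring `R` and a prime `p` with residue field `K`,
`p ∈ Supp (⋀^n M) ↔ n ≤ dim_K (K ⊗ M)`.
-/

namespace Groth.Agent.Helper29.ExtSupp

open TensorProduct

universe u v w

section LemmaZ

variable {R : Type u} [CommRing R] {M : Type v} [AddCommGroup M] [Module R M]

/-- `n` vectors in the span of fewer than `n` vectors have vanishing wedge. -/
theorem ιMulti_eq_zero_of_mem_span {ι : Type w} [Fintype ι] (x : ι → M) (n : ℕ)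
    (hcard : Fintype.card ι < n) (m : Fin n → M)
    (hm : ∀ i, m i ∈ Submodule.span R (Set.range x)) :
    exteriorPower.ιMulti R n m = 0 := by
  classical
  have hc : ∀ i, ∃ c : ι → R, m i = ∑ j, c j • x j := by
    intro i
    obtain ⟨c, hc⟩ := (Submodule.mem_span_range_iff_exists_fun R).mp (hm i)
    exact ⟨c, hc.symm⟩
  choose c hc using hc
  have hm' : m = fun i => ∑ j, c i j • x j := funext hc
  rw [hm']
  have key := (exteriorPower.ιMulti R n (M := M)).toMultilinearMap.map_sum
    (fun (i : Fin n) (j : ι) => c i j • x j)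
  rw [AlternatingMap.coe_multilinearMap] at key
  rw [key]
  apply Finset.sum_eq_zero
  intro r _
  have hr : ¬ Function.Injective (fun i => x (r i)) := by
    intro hinj
    have hinj' : Function.Injective r := Function.Injective.of_comp (f := x) hinj
    have := Fintype.card_le_of_injective r hinj'
    simp only [Fintype.card_fin] at this
    omega
  have h2 := (exteriorPower.ιMulti R n (M := M)).toMultilinearMap.map_smul_univ
    (fun i => c i (r i)) (fun i => x (r i))
  rw [AlternatingMap.coe_multilinearMap] at h2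
  rw [h2, AlternatingMap.map_eq_zero_of_not_injective _ _ hr, smul_zero]

end LemmaZ

section Basis

variable {R : Type u} [CommRing R] {M : Type v} [AddCommGroup M] [Module R M]
variable (K : Type w) [Field K] [Algebra R K]

theorem span_one_tmul : Submodule.span K (Set.range (fun m : M => (1 : K) ⊗ₜ[R] m)) = ⊤ := by
  rw [eq_top_iff]
  rintro x -
  induction x with
  | zero => exact zero_mem _
  | add x y hx hy => exact add_mem hx hy
  | tmul k m =>
    have : k ⊗ₜ[R] m = k • ((1 : K) ⊗ₜ[R] m) := by
      rw [TensorProduct.smul_tmul', smul_eq_mul, mul_one]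
    rw [this]
    exact Submodule.smul_mem _ _ (Submodule.subset_span ⟨m, rfl⟩)

variable (R M) in
theorem exists_basis_tmul [Module.Finite R M] :
    ∃ (b : Set (K ⊗[R] M)) (_ : Fintype b) (x : b → M),
      LinearIndependent K ((↑) : b → K ⊗[R] M) ∧ Submodule.span K b = ⊤ ∧
      (∀ i : b, (1 : K) ⊗ₜ[R] x i = (i : K ⊗[R] M)) ∧
      Fintype.card b = Module.finrank K (K ⊗[R] M) := by
  classical
  obtain ⟨b, hbs, hbspan, hbli⟩ :=
    exists_linearIndependent K (Set.range (fun m : M => (1 : K) ⊗ₜ[R] m))
  rw [span_one_tmul] at hbspan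
  let bas : Module.Basis b K (K ⊗[R] M) :=
    Module.Basis.mk hbli (by rw [Subtype.range_coe]; exact hbspan.ge)
  have hfin : Finite b := Module.Finite.finite_basis bas
  let ft : Fintype b := Fintype.ofFinite b
  have hx : ∀ i : b, ∃ m : M, (1 : K) ⊗ₜ[R] m = (i : K ⊗[R] M) := fun i => hbs i.2
  choose x hx using hx
  exact ⟨b, ft, x, hbli, hbspan, hx, (Module.finrank_eq_card_basis bas).symm⟩

end Basis

section Main

variable {R : Type u} [CommRing R] {M : Type v} [AddCommGroup M] [Module R M]

theorem notMem_support_exteriorPower [Module.Finite R M] (p : PrimeSpectrum R) (n : ℕ)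
    (h : Module.finrank p.asIdeal.ResidueField (p.asIdeal.ResidueField ⊗[R] M) < n) :
    p ∉ Module.support R (⋀[R]^n M) := by
  classical
  obtain ⟨b, ft, x, hbli, hbspan, hx, hcard⟩ := exists_basis_tmul R M p.asIdeal.ResidueField
  let N : Submodule R M := Submodule.span R (Set.range x)
  have hQ : p ∉ Module.support R (M ⧸ N) := by
    rw [Module.mem_support_iff_nontrivial_residueField_tensorProduct,
      not_nontrivial_iff_subsingleton]
    let θ : p.asIdeal.ResidueField ⊗[R] M →ₗ[p.asIdeal.ResidueField]
        p.asIdeal.ResidueField ⊗[R] (M ⧸ N) := LinearMap.baseChange p.asIdeal.ResidueField N.mkQ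
    have hθ : ∀ z, θ z = 0 := by
      intro z
      have hz : z ∈ Submodule.span p.asIdeal.ResidueField b := by rw [hbspan]; trivial
      induction hz using Submodule.span_induction with
      | mem y hy =>
        have := hx ⟨y, hy⟩
        simp only at this
        rw [← this]
        simp only [θ, LinearMap.baseChange_tmul, Submodule.mkQ_apply]
        rw [(Submodule.Quotient.mk_eq_zero N).mpr (Submodule.subset_span ⟨⟨y, hy⟩, rfl⟩),
          TensorProduct.tmul_zero]
      | zero => exact map_zero _
      | add y z _ _ hy hz => rw [map_add, hy, hz, add_zero]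
      | smul c y _ hy => rw [map_smul, hy, smul_zero]
    have h0 : ∀ z : p.asIdeal.ResidueField ⊗[R] (M ⧸ N), z = 0 := by
      intro z
      induction z with
      | zero => rfl
      | add x y hx hy => rw [hx, hy, add_zero]
      | tmul k q =>
        obtain ⟨m, rfl⟩ := N.mkQ_surjective q
        have : k ⊗ₜ[R] (N.mkQ m) = θ (k ⊗ₜ[R] m) := by simp [θ]
        rw [this, hθ]
    exact ⟨fun a b => by rw [h0 a, h0 b]⟩
  rw [Module.notMem_support_iff'] at hQ ⊢
  have hN : ∀ m : M, ∃ r ∉ p.asIdeal, r • m ∈ N := by
    intro m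
    obtain ⟨r, hr, h0⟩ := hQ (Submodule.Quotient.mk m)
    refine ⟨r, hr, ?_⟩
    rwa [← Submodule.Quotient.mk_smul, Submodule.Quotient.mk_eq_zero] at h0
  intro ω
  have hω : ω ∈ Submodule.span R (Set.range (exteriorPower.ιMulti R n (M := M))) := by
    rw [exteriorPower.ιMulti_span]; trivial
  induction hω using Submodule.span_induction with
  | mem y hy =>
    obtain ⟨m, rfl⟩ := hy
    choose r hr hrm using fun i => hN (m i)
    refine ⟨∏ i, r i, ?_, ?_⟩
    · intro hmem
      obtain ⟨i, -, hi⟩ := (Ideal.IsPrime.prod_mem_iff (hp := p.isPrime)).mp hmem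
      exact hr i hi
    · have h2 := (exteriorPower.ιMulti R n (M := M)).toMultilinearMap.map_smul_univ r m
      rw [AlternatingMap.coe_multilinearMap] at h2
      rw [← h2]
      exact ιMulti_eq_zero_of_mem_span x n (by rw [hcard]; exact h) _ hrm
  | zero => exact ⟨1, (p.asIdeal.ne_top_iff_one).mp p.isPrime.ne_top, smul_zero _⟩
  | add y z _ _ hy hz =>
    obtain ⟨a, ha, hay⟩ := hy
    obtain ⟨b, hb, hbz⟩ := hz
    refine ⟨a * b, fun hab => (p.isPrime.mem_or_mem hab).elim ha hb, ?_⟩
    rw [smul_add, mul_comm a b, mul_smul b a y, hay, smul_zero, zero_add, mul_comm b a,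
      mul_smul, hbz, smul_zero]
  | smul c y _ hy =>
    obtain ⟨a, ha, hay⟩ := hy
    exact ⟨a, ha, by rw [smul_comm, hay, smul_zero]⟩

theorem mem_support_exteriorPower [Module.Finite R M] (p : PrimeSpectrum R) (n : ℕ)
    (h : n ≤ Module.finrank p.asIdeal.ResidueField (p.asIdeal.ResidueField ⊗[R] M)) :
    p ∈ Module.support R (⋀[R]^n M) := by
  classical
  obtain ⟨b, ft, x, hbli, hbspan, hx, hcard⟩ := exists_basis_tmul R M p.asIdeal.ResidueField
  have hcard' : Fintype.card (Fin n) ≤ Fintype.card b := by
    rw [Fintype.card_fin, hcard]; exact h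
  obtain ⟨f⟩ := Function.Embedding.nonempty_of_card_le hcard'
  have hw : LinearIndependent p.asIdeal.ResidueField
      (fun i : Fin n => ((f i : b) : p.asIdeal.ResidueField ⊗[R] M)) :=
    hbli.comp f f.injective
  obtain ⟨g, hg⟩ := (Finsupp.linearCombination p.asIdeal.ResidueField
    (fun i : Fin n => ((f i : b) : p.asIdeal.ResidueField ⊗[R] M))).exists_leftInverse_of_injective
      (LinearMap.ker_eq_bot.mpr hw)
  let φ : p.asIdeal.ResidueField ⊗[R] M →ₗ[p.asIdeal.ResidueField] (Fin n → p.asIdeal.ResidueField) :=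
    (Finsupp.linearEquivFunOnFinite p.asIdeal.ResidueField p.asIdeal.ResidueField (Fin n)).toLinearMap ∘ₗ g
  have hφ : ∀ i, φ ((f i : b) : p.asIdeal.ResidueField ⊗[R] M) = Pi.single i 1 := by
    intro i
    have h1 : g ((f i : b) : p.asIdeal.ResidueField ⊗[R] M) = Finsupp.single i 1 := by
      have := LinearMap.congr_fun hg (Finsupp.single i 1)
      simpa [Finsupp.linearCombination_single] using this
    simp [φ, h1]
  let Φ : (p.asIdeal.ResidueField ⊗[R] M) [⋀^Fin n]→ₗ[p.asIdeal.ResidueField] p.asIdeal.ResidueField :=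
    (Matrix.detRowAlternating (n := Fin n) (R := p.asIdeal.ResidueField)).compLinearMap φ
  let Ψ : M [⋀^Fin n]→ₗ[R] p.asIdeal.ResidueField :=
    { (Φ.toMultilinearMap.restrictScalars R).compLinearMap
        (fun _ => TensorProduct.mk R p.asIdeal.ResidueField M 1) with
      map_eq_zero_of_eq' := fun v i j hij hne => by
        exact Φ.map_eq_zero_of_eq (fun i => (1 : p.asIdeal.ResidueField) ⊗ₜ[R] v i)
          (by simp [hij]) hne }
  have hΨ : Ψ (fun i => x (f i)) = 1 := by
    change Φ (fun i => (1 : p.asIdeal.ResidueField) ⊗ₜ[R] x (f i)) = 1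
    simp only [hx]
    change Matrix.det (fun i : Fin n => φ ((f i : b) : p.asIdeal.ResidueField ⊗[R] M)) = 1
    simp only [hφ]
    have : (fun i : Fin n => (Pi.single i 1 : Fin n → p.asIdeal.ResidueField)) =
        (1 : Matrix (Fin n) (Fin n) p.asIdeal.ResidueField) := by
      ext i j; simp [Matrix.one_apply, Pi.single_apply, eq_comm]
    rw [this, Matrix.det_one]
  let L : ⋀[R]^n M →ₗ[R] p.asIdeal.ResidueField := exteriorPower.alternatingMapLinearEquiv Ψ
  have hL : L (exteriorPower.ιMulti R n (fun i => x (f i))) = 1 := by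
    rw [exteriorPower.alternatingMapLinearEquiv_apply_ιMulti, hΨ]
  rw [Module.mem_support_iff_of_finite]
  intro a ha
  have h1 : a • exteriorPower.ιMulti R n (fun i => x (f i)) = 0 :=
    Module.mem_annihilator.mp ha _
  have h2 := congrArg L h1
  rw [map_smul, hL, map_zero, Algebra.smul_def, mul_one] at h2
  exact Ideal.algebraMap_residueField_eq_zero.mp h2

theorem mem_support_exteriorPower_iff [Module.Finite R M] (p : PrimeSpectrum R) (n : ℕ) :
    p ∈ Module.support R (⋀[R]^n M) ↔
      n ≤ Module.finrank p.asIdeal.ResidueField (p.asIdeal.ResidueField ⊗[R] M) := by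
  constructor
  · intro hp
    by_contra hlt
    exact notMem_support_exteriorPower p n (not_le.mp hlt) hp
  · exact mem_support_exteriorPower p n

end Main

end Groth.Agent.Helper29.ExtSupp
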