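import Mathlib
import Groth.Agent.Lib.Helper24.ExtSS1
import Groth.Agent.Lib.Helper29.ExtAdj

/-!
# `Ext^p_O(O, H) ≃+ H^p(C, H)` on a small ringed site.
-/

set_option autoImplicit false

namespace Groth.Agent.Helper29.ExtUnit

open CategoryTheory Limits Abelian
open Groth.Agent.Helper24.FrMod Groth.Agent.Helper24.GSS Groth.Agent.Helper17.MT
  Groth.Agent.Helper24.CechH DeltaF

section General

universe w v u

variable {A : Type u} [Category.{v} A] [Abelian A] [HasExt.{w} A]

/-- `Ext^n(X, -)` only depends on the isomorphism class of `X`. -/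
noncomputable def extDeltaFIso {X X' : A} (e : X ≅ X') (n : ℕ) :
    (extDelta X).F n ≅ (extDelta X').F n :=
  NatIso.ofComponents (fun M => (ExtAdj.extAddEquivLeft e M n).toAddCommGrpIso) (by
    intro M N f
    refine AddCommGrpCat.hom_ext (AddMonoidHom.ext fun x => ?_)
    show (Ext.mk₀ e.inv).comp (x.comp (Ext.mk₀ f) (add_zero n)) (zero_add n) =
      ((Ext.mk₀ e.inv).comp x (zero_add n)).comp (Ext.mk₀ f) (add_zero n)
    rw [Ext.comp_assoc_of_third_deg_zero])

end General

universe u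

variable {C : Type u} [SmallCategory C] {J : GrothendieckTopology C} (O : Sheaf J CommRingCat.{u})

theorem nonempty_ext_unit [EnoughInjectives (ModSite.Mod O)] [HasExt.{u} (ModSite.Mod O)]
    (H : ModSite.Mod O) (p : ℕ) :
    Nonempty (Ext.{u} (ModSite.unit O) H p ≃+ ModSite.HC O H p) := by
  have hZ : TF (ZC (J := J)) := tf_constant
  obtain ⟨e1⟩ := nonempty_SZ_rightDerived_iso (O := O) (ZC (J := J)) hZ H p
  let e₀ : (extDelta (ModSite.unit O)).F 0 ≅ SZ (O := O) (ZC (J := J)) :=
    extDeltaFIso (frZIso O).symm 0 ≪≫ extZeroAdjIso (frAdj O) (ZC (J := J))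
  obtain ⟨e2⟩ := nonempty_iso_rightDerived_obj (extDelta (ModSite.unit O))
    (extDelta_effaceable _) (SZ (O := O) (ZC (J := J))) e₀ p H
  exact ⟨(e2 ≪≫ e1.symm).addCommGroupIsoToAddEquiv⟩

end Groth.Agent.Helper29.ExtUnit
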