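import Mathlib

set_option autoImplicit false
universe u

namespace Groth.Agent.Helper29.FFDescent

open TensorProduct

variable {A A' : Type u} [CommRing A] [CommRing A'] [Algebra A A']
  {M' : Type u} [AddCommGroup M'] [Module A M'] [Module A' M'] [IsScalarTower A A' M']

variable (A A' M') in
/-- scalar multiplication `A' ⊗ M' → M'` -/
noncomputable def mm : A' ⊗[A] M' →ₗ[A] M' :=
  TensorProduct.lift (Algebra.lsmul A A M').toLinearMap

@[simp] theorem mm_tmul (a : A') (u : M') : mm A A' M' (a ⊗ₜ[A] u) = a • u := by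
  simp [mm]

variable (A A' M') in
/-- `u ↦ 1 ⊗ u` -/
noncomputable def iota : M' →ₗ[A] A' ⊗[A] M' := TensorProduct.mk A A' M' 1

omit [Module A' M'] [IsScalarTower A A' M'] in
@[simp] theorem iota_apply (u : M') : iota A A' M' u = (1 : A') ⊗ₜ[A] u := rfl

/-- `u ↦ φ (u ⊗ 1)` -/
noncomputable def theta (φ : M' ⊗[A] A' →ₗ[A] A' ⊗[A] M') : M' →ₗ[A] A' ⊗[A] M' :=
  φ ∘ₗ (TensorProduct.mk A M' A').flip 1

omit [Module A' M'] [IsScalarTower A A' M'] in
@[simp] theorem theta_apply (φ : M' ⊗[A] A' →ₗ[A] A' ⊗[A] M') (u : M') :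
    theta φ u = φ (u ⊗ₜ[A] 1) := rfl

theorem mm_rTensor_mulLeft (z : A') (w : A' ⊗[A] M') :
    mm A A' M' (LinearMap.rTensor M' (LinearMap.mulLeft A z) w) = z • mm A A' M' w := by
  induction w using TensorProduct.induction_on with
  | zero => simp
  | tmul a v => simp [mul_smul]
  | add x y hx hy => simp only [map_add, hx, hy, smul_add]

theorem mm_comp_iota : mm A A' M' ∘ₗ iota A A' M' = LinearMap.id := by
  refine LinearMap.ext fun u => ?_
  simp

section Core

variable [Module.FaithfullyFlat A A']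
    (φ : M' ⊗[A] A' →ₗ[A] A' ⊗[A] M') (hφ : Function.Bijective φ)
    (h1 : ∀ (x : A') (u : M') (z : A'),
      φ ((x • u) ⊗ₜ[A] z) = LinearMap.rTensor M' (LinearMap.mulLeft A x) (φ (u ⊗ₜ[A] z)))
    (h2 : ∀ (y : A') (u : M') (z : A'),
      φ (u ⊗ₜ[A] (y * z)) = LinearMap.lTensor A' (Algebra.lsmul A A M' y) (φ (u ⊗ₜ[A] z)))
    (hcoc : ∀ (u : M') (a b : A'),
      LinearMap.lTensor A' φ (TensorProduct.assoc A A' M' A'
        (LinearMap.rTensor A' φ ((u ⊗ₜ[A] a) ⊗ₜ[A] b))) =
        LinearMap.lTensor A' (TensorProduct.mk A A' M' a) (φ (u ⊗ₜ[A] b)))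

omit [Module.FaithfullyFlat A A'] [Module A' M'] [IsScalarTower A A' M'] in
theorem F2 (w : A' ⊗[A] M') :
    LinearMap.lTensor A' φ (TensorProduct.assoc A A' M' A' (w ⊗ₜ[A] (1 : A'))) =
      LinearMap.lTensor A' (theta φ) w := by
  induction w using TensorProduct.induction_on with
  | zero => simp
  | tmul a u => simp
  | add x y hx hy => simp only [TensorProduct.add_tmul, map_add, hx, hy]

include hcoc in
omit [Module.FaithfullyFlat A A'] [Module A' M'] [IsScalarTower A A' M'] in
theorem F3 (u : M') :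
    LinearMap.lTensor A' (theta φ) (theta φ u) =
      LinearMap.lTensor A' (iota A A' M') (theta φ u) := by
  have := hcoc u 1 1
  rw [LinearMap.rTensor_tmul, F2] at this
  exact this

include hcoc in
omit [Module.FaithfullyFlat A A'] in
theorem F6 (u : M') :
    LinearMap.lTensor A' (mm A A' M' ∘ₗ theta φ) (theta φ u) = theta φ u := by
  have := congrArg (LinearMap.lTensor A' (mm A A' M')) (F3 φ hcoc u)
  rw [← LinearMap.lTensor_comp_apply, ← LinearMap.lTensor_comp_apply, mm_comp_iota,
    LinearMap.lTensor_id, LinearMap.id_apply] at this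
  exact this

include h1 in
omit [Module.FaithfullyFlat A A'] in
theorem F7 (z : A') (u : M') :
    (mm A A' M' ∘ₗ theta φ) (z • u) = z • (mm A A' M' ∘ₗ theta φ) u := by
  simp only [LinearMap.comp_apply, theta_apply]
  rw [h1 z u 1, mm_rTensor_mulLeft]

include h1 h2 hcoc in
omit [Module.FaithfullyFlat A A'] in
theorem F8 (w : M' ⊗[A] A') :
    LinearMap.lTensor A' (mm A A' M' ∘ₗ theta φ) (φ w) = φ w := by
  induction w using TensorProduct.induction_on with
  | zero => simp
  | tmul u z =>
    have hz : φ (u ⊗ₜ[A] z) = LinearMap.lTensor A' (Algebra.lsmul A A M' z) (theta φ u) := by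
      have := h2 z u 1
      rwa [mul_one] at this
    have hcomm : (mm A A' M' ∘ₗ theta φ) ∘ₗ (Algebra.lsmul A A M' z) =
        (Algebra.lsmul A A M' z) ∘ₗ (mm A A' M' ∘ₗ theta φ) := by
      refine LinearMap.ext fun v => ?_
      rw [LinearMap.comp_apply, LinearMap.comp_apply (Algebra.lsmul A A M' z)]
      simp only [Algebra.lsmul_coe]
      exact F7 φ h1 z v
    rw [hz, ← LinearMap.lTensor_comp_apply, hcomm, LinearMap.lTensor_comp_apply, F6 φ hcoc]
  | add x y hx hy => simp only [map_add, hx, hy]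

include hφ h1 h2 hcoc in
theorem F10 : mm A A' M' ∘ₗ theta φ = LinearMap.id := by
  have F9 : LinearMap.lTensor A' (mm A A' M' ∘ₗ theta φ) = LinearMap.id := by
    refine LinearMap.ext fun x => ?_
    obtain ⟨w, rfl⟩ := hφ.2 x
    exact F8 φ h1 h2 hcoc w
  have h0 : (mm A A' M' ∘ₗ theta φ - LinearMap.id : M' →ₗ[A] M') = 0 := by
    rw [Module.FaithfullyFlat.zero_iff_lTensor_zero A A', LinearMap.lTensor_sub, F9,
      LinearMap.lTensor_id]
    refine LinearMap.ext fun x => ?_
    simp
  exact sub_eq_zero.mp h0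

include hφ h1 h2 hcoc in
theorem core :
    Function.Bijective (mm A A' M' ∘ₗ
      LinearMap.lTensor A' (LinearMap.ker (theta φ - iota A A' M')).subtype) := by
  have hexact : Function.Exact
      (LinearMap.lTensor A' (LinearMap.ker (theta φ - iota A A' M')).subtype)
      (LinearMap.lTensor A' (theta φ - iota A A' M')) :=
    Module.Flat.lTensor_exact A' (LinearMap.exact_subtype_ker_map (theta φ - iota A A' M'))
  have hjinj : Function.Injective
      (LinearMap.lTensor A' (LinearMap.ker (theta φ - iota A A' M')).subtype) :=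
    Module.Flat.lTensor_preserves_injective_linearMap _ (Submodule.injective_subtype _)
  have hb : ∀ z : A' ⊗[A] (LinearMap.ker (theta φ - iota A A' M')),
      theta φ (mm A A' M'
        (LinearMap.lTensor A' (LinearMap.ker (theta φ - iota A A' M')).subtype z)) =
        LinearMap.lTensor A' (LinearMap.ker (theta φ - iota A A' M')).subtype z := by
    intro z
    induction z using TensorProduct.induction_on with
    | zero => simp
    | tmul x u =>
      have hu : φ ((u : M') ⊗ₜ[A] 1) = (1 : A') ⊗ₜ[A] (u : M') := by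
        have := u.2
        rw [LinearMap.mem_ker, LinearMap.sub_apply, sub_eq_zero] at this
        exact this
      rw [LinearMap.lTensor_tmul, Submodule.subtype_apply, mm_tmul, theta_apply, h1 x u 1, hu,
        LinearMap.rTensor_tmul, LinearMap.mulLeft_apply, mul_one]
    | add a b ha hb => simp only [map_add, ha, hb]
  constructor
  · intro z z' hzz
    apply hjinj
    rw [← hb z, ← hb z']
    exact congrArg (theta φ) hzz
  · intro u
    have hk : LinearMap.lTensor A' (theta φ - iota A A' M') (theta φ u) = 0 := by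
      rw [LinearMap.lTensor_sub, LinearMap.sub_apply, F3 φ hcoc, sub_self]
    obtain ⟨z, hz⟩ := (hexact (theta φ u)).mp hk
    refine ⟨z, ?_⟩
    rw [LinearMap.comp_apply, hz]
    exact DFunLike.congr_fun (F10 φ hφ h1 h2 hcoc) u

include hφ h1 h2 hcoc in
theorem main (M : Submodule A M')
    (hM : ∀ u : M', u ∈ M ↔ φ (u ⊗ₜ[A] (1 : A')) = (1 : A') ⊗ₜ[A] u) :
    Function.Bijective
      ((TensorProduct.lift (Algebra.lsmul A A M').toLinearMap) ∘ₗ
        (LinearMap.lTensor A' M.subtype)) := by
  obtain rfl : M = LinearMap.ker (theta φ - iota A A' M') := by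
    ext u
    rw [hM, LinearMap.mem_ker, LinearMap.sub_apply, sub_eq_zero]
    rfl
  exact core φ hφ h1 h2 hcoc

end Core

end Groth.Agent.Helper29.FFDescent
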