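import Mathlib

/-!
# Fibrations `O_Y ≅ f_* O_X` between proper schemes (helper29)
-/

open CategoryTheory CategoryTheory.Limits AlgebraicGeometry

namespace Groth.Agent.Helper29.Fibration

universe u

theorem surjective_of_app_iso {X Y S : Scheme.{u}} (pX : X ⟶ S) (pY : Y ⟶ S)
    [IsProper pX] [IsSeparated pY]
    (f : X ⟶ Y) (hf : f ≫ pY = pX) (hfib : ∀ V : Y.Opens, IsIso (f.app V)) :
    Surjective f := by
  have hp : IsProper (f ≫ pY) := by rw [hf]; infer_instance
  have : IsProper f := IsProper.of_comp f pY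
  constructor
  intro y
  by_contra hy
  have hcl : IsClosed (Set.range f) := f.isClosedMap.isClosed_range
  let V : Y.Opens := ⟨(Set.range f)ᶜ, hcl.isOpen_compl⟩
  have hyV : y ∈ V := hy
  have hpre : f ⁻¹ᵁ V = ⊥ := by
    ext x
    simp [V]
  have h1 : Subsingleton Γ(X, f ⁻¹ᵁ V) := by rw [hpre]; infer_instance
  have h2 : Subsingleton Γ(Y, V) := by
    have := hfib V
    exact (asIso (f.app V)).commRingCatIsoToRingEquiv.toEquiv.subsingleton
  have hg := Y.presheaf.germ V y hyV
  have : (1 : Y.presheaf.stalk y) = 0 := by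
    rw [← map_one hg.hom, ← map_zero hg.hom]
    congr 1
    exact Subsingleton.elim _ _
  exact one_ne_zero this

theorem isIntegral_of_app_iso {X Y : Scheme.{u}} (f : X ⟶ Y) [Surjective f]
    (hfib : ∀ V : Y.Opens, IsIso (f.app V)) [IsIntegral X] : IsIntegral Y := by
  have hne : Nonempty Y := ⟨f (Nonempty.some inferInstance)⟩
  refine { nonempty := hne, component_integral := ?_ }
  intro U hU
  obtain ⟨⟨y, hy⟩⟩ := hU
  obtain ⟨x, rfl⟩ := f.surjective y
  have : Nonempty (f ⁻¹ᵁ U) := ⟨⟨x, hy⟩⟩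
  have hd : IsDomain Γ(X, f ⁻¹ᵁ U) := inferInstance
  have := hfib U
  exact (asIso (f.app U)).commRingCatIsoToRingEquiv.toMulEquiv.isDomain _

end Groth.Agent.Helper29.Fibration
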