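import Mathlib
import Groth.Agent.Lib.Helper29.DAdjA

set_option autoImplicit false

namespace Groth.Agent.Helper29.FilA

open CategoryTheory Limits

universe v u

variable {A : Type u} [Category.{v} A] [Abelian A] [IsGrothendieckAbelian.{v} A]

/-- presheaf categories with values in a Grothendieck abelian category are Grothendieck abelian -/
theorem isGrothendieckAbelian_presheaf (C : Type v) [SmallCategory C] :
    IsGrothendieckAbelian.{v} (Cᵒᵖ ⥤ A) where
  locallySmall := inferInstance
  hasFilteredColimitsOfSize := inferInstance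
  ab5OfSize := ⟨fun _ _ _ => inferInstance⟩
  hasSeparator := inferInstance

variable {D : Type v} [SmallCategory D]

/-- the left adjoint of evaluation, evaluated, is a constant coproduct -/
noncomputable def evLCompEvIso (c t : D) :
    evaluationLeftAdjoint A c ⋙ (evaluation D A).obj t ≅
      Functor.const (Discrete (c ⟶ t)) ⋙ colim :=
  NatIso.ofComponents (fun d => HasColimit.isoOfNatIso (Discrete.natIso (fun _ => Iso.refl _)))
    (by
      intro d d' f
      apply colimit.hom_ext
      rintro ⟨g⟩
      dsimp [evaluationLeftAdjoint_map_app]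
      rw [evaluationLeftAdjoint_map_app]
      erw [colimit.ι_desc_assoc, HasColimit.isoOfNatIso_ι_hom_assoc]
      dsimp
      rw [Category.assoc, HasColimit.isoOfNatIso_ι_hom, ι_colimMap]
      simp)

instance (c : D) : PreservesFiniteLimits (evaluationLeftAdjoint A c) := by
  constructor
  intro J _ _
  apply preservesLimitsOfShape_of_evaluation
  intro t
  exact preservesLimitsOfShape_of_natIso (evLCompEvIso (A := A) c t).symm

instance (c : D) : PreservesFiniteColimits (evaluationLeftAdjoint A c) := by
  haveI : PreservesColimitsOfSize.{0, 0} (evaluationLeftAdjoint A c) :=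
    (evaluationAdjunctionRight A c).leftAdjoint_preservesColimits
  exact PreservesColimitsOfSize.preservesFiniteColimits _

attribute [local instance] preservesBinaryBiproducts_of_preservesBinaryCoproducts in
instance (c : D) : (evaluationLeftAdjoint A c).Additive :=
  Functor.additive_of_preservesBinaryBiproducts _

instance (c : D) : ((evaluation D A).obj c).Additive where

lemma injective_eval (I : D ⥤ A) [Injective I] (c : D) : Injective (I.obj c) :=
  Injective.injective_of_adjoint (evaluationAdjunctionRight A c) I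

lemma isKInjective_eval (I : CochainComplex (D ⥤ A) ℤ) [I.IsKInjective] (c : D) :
    CochainComplex.IsKInjective
      ((((evaluation D A).obj c).mapHomologicalComplex (ComplexShape.up ℤ)).obj I) :=
  DAdjA.isKInjective_map (evaluationAdjunctionRight A c) I

/-- the inclusion of a component -/
noncomputable def inc (c : D) (X : A) {t : D} (g : c ⟶ t) :
    X ⟶ ((evaluationLeftAdjoint A c).obj X).obj t :=
  Sigma.ι (fun _ : c ⟶ t => X) g

lemma inc_hom_ext {c : D} {X : A} {t : D} {Z : A}
    (f f' : ((evaluationLeftAdjoint A c).obj X).obj t ⟶ Z)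
    (h : ∀ g : c ⟶ t, inc c X g ≫ f = inc c X g ≫ f') : f = f' :=
  Sigma.hom_ext _ _ h

@[reassoc]
lemma inc_map (c : D) (X : A) {s t : D} (g : c ⟶ s) (f : s ⟶ t) :
    inc c X g ≫ ((evaluationLeftAdjoint A c).obj X).map f = inc c X (g ≫ f) :=
  Sigma.ι_desc _ _

/-- precomposition map between left adjoints of evaluation, components -/
noncomputable def evLMapApp {a b : D} (φ : a ⟶ b) (X : A) (t : D) :
    ((evaluationLeftAdjoint A b).obj X).obj t ⟶ ((evaluationLeftAdjoint A a).obj X).obj t :=
  Sigma.desc (fun g : b ⟶ t => inc a X (φ ≫ g))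

@[reassoc]
lemma inc_evLMapApp {a b : D} (φ : a ⟶ b) (X : A) (t : D) (g : b ⟶ t) :
    inc b X g ≫ evLMapApp φ X t = inc a X (φ ≫ g) :=
  Sigma.ι_desc _ _

/-- precomposition map between left adjoints of evaluation -/
noncomputable def evLMap {a b : D} (φ : a ⟶ b) (X : A) :
    (evaluationLeftAdjoint A b).obj X ⟶ (evaluationLeftAdjoint A a).obj X where
  app t := evLMapApp φ X t
  naturality := by
    intro s t f
    apply inc_hom_ext
    intro g
    rw [inc_map_assoc, inc_evLMapApp, inc_evLMapApp_assoc, inc_map, Category.assoc]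

instance {a b : D} (φ : a ⟶ b) [Epi φ] (X : A) : Mono (evLMap φ X) := by
  haveI : ∀ t, Mono ((evLMap φ X).app t) := fun t =>
    MonoCoprod.mono_of_injective' (fun _ : a ⟶ t => X) (fun g : b ⟶ t => φ ≫ g)
      (fun g g' h => (cancel_epi φ).1 h)
  exact NatTrans.mono_of_mono_app _

/-- components of the counit -/
noncomputable def couApp (b : D) (I : D ⥤ A) (t : D) :
    ((evaluationLeftAdjoint A b).obj (I.obj b)).obj t ⟶ I.obj t :=
  Sigma.desc (fun h : b ⟶ t => I.map h)

@[reassoc]
lemma inc_couApp (b : D) (I : D ⥤ A) (t : D) (g : b ⟶ t) :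
    inc b (I.obj b) g ≫ couApp b I t = I.map g :=
  Sigma.ι_desc _ _

/-- the counit -/
noncomputable def cou (b : D) (I : D ⥤ A) : (evaluationLeftAdjoint A b).obj (I.obj b) ⟶ I where
  app t := couApp b I t
  naturality := by
    intro s t f
    apply inc_hom_ext
    intro g
    rw [inc_map_assoc, inc_couApp, inc_couApp_assoc, Functor.map_comp]

lemma isSplitEpi_map (I : D ⥤ A) [Injective I] {a b : D} (φ : a ⟶ b) [Epi φ] :
    IsSplitEpi (I.map φ) := by
  let X := I.obj b
  let ε : (evaluationLeftAdjoint A b).obj X ⟶ I := cou b I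
  let ψ := Injective.factorThru ε (evLMap φ X)
  have hψ : evLMap φ X ≫ ψ = ε := Injective.comp_factorThru _ _
  refine ⟨⟨inc a X (𝟙 a) ≫ ψ.app a, ?_⟩⟩
  have h1 : evLMapApp φ X b ≫ ψ.app b = ε.app b := congr_app hψ b
  have h2 : inc b X (𝟙 b) ≫ ε.app b = 𝟙 X := by
    have := inc_couApp b I b (𝟙 b)
    rw [CategoryTheory.Functor.map_id] at this
    exact this
  have h3 : ((evaluationLeftAdjoint A a).obj X).map φ ≫ ψ.app b = ψ.app a ≫ I.map φ :=
    ψ.naturality φ
  have h4 := inc_map a X (𝟙 a) φ
  have h5 := inc_evLMapApp φ X b (𝟙 b)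
  rw [Category.id_comp] at h4
  rw [Category.comp_id] at h5
  calc (inc a X (𝟙 a) ≫ ψ.app a) ≫ I.map φ
      = (inc a X (𝟙 a) ≫ ((evaluationLeftAdjoint A a).obj X).map φ) ≫ ψ.app b := by
        rw [Category.assoc, Category.assoc, h3]
    _ = inc a X φ ≫ ψ.app b := by rw [h4]
    _ = (inc b X (𝟙 b) ≫ evLMapApp φ X b) ≫ ψ.app b := by rw [h5]
    _ = 𝟙 X := by rw [Category.assoc, h1, h2]

end Groth.Agent.Helper29.FilA
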