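import Mathlib

set_option autoImplicit false

namespace Groth.Agent.Helper29.FilB

open CategoryTheory Limits Pretriangulated

universe v u

variable {A : Type u} [Category.{v} A] [Abelian A]

lemma injective_cokernel {X Y : A} (f : X ⟶ Y) [Mono f] [Injective X] [Injective Y] :
    Injective (cokernel f) := by
  let r : Y ⟶ X := Injective.factorThru (𝟙 X) f
  have hr : f ≫ r = 𝟙 X := Injective.comp_factorThru _ _
  let i : cokernel f ⟶ Y := cokernel.desc f (𝟙 Y - r ≫ f) (by
    rw [Preadditive.comp_sub, Category.comp_id, reassoc_of% hr, sub_self])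
  have hi : i ≫ cokernel.π f = 𝟙 _ := by
    rw [← cancel_epi (cokernel.π f), cokernel.π_desc_assoc, Preadditive.sub_comp,
      Category.id_comp, Category.assoc, cokernel.condition, comp_zero, sub_zero, Category.comp_id]
  exact Retract.injective ⟨i, cokernel.π f, hi⟩

lemma injective_kernel {Y Z : A} (g : Y ⟶ Z) [IsSplitEpi g] [Injective Y] :
    Injective (kernel g) := by
  let r : Y ⟶ kernel g := kernel.lift g (𝟙 Y - g ≫ section_ g) (by
    rw [Preadditive.sub_comp, Category.id_comp, Category.assoc, IsSplitEpi.id, Category.comp_id,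
      sub_self])
  have hr : kernel.ι g ≫ r = 𝟙 _ := by
    rw [← cancel_mono (kernel.ι g), Category.assoc, kernel.lift_ι, Preadditive.comp_sub,
      Category.comp_id, kernel.condition_assoc, zero_comp, sub_zero, Category.id_comp]
  exact Retract.injective ⟨kernel.ι g, r, hr⟩

open CochainComplex HomologicalComplex

lemma isKInjective_X₁ (S : ShortComplex (CochainComplex A ℤ))
    (σ : ∀ n, (S.map (eval A _ n)).Splitting) [S.X₂.IsKInjective] [S.X₃.IsKInjective] :
    S.X₁.IsKInjective := by
  have hT : trianglehOfDegreewiseSplit S σ ∈ distTriang _ :=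
    (HomotopyCategory.distinguished_iff_iso_trianglehOfDegreewiseSplit _).2 ⟨S, σ, ⟨Iso.refl _⟩⟩
  rw [isKInjective_iff_rightOrthogonal]
  exact (HomotopyCategory.subcategoryAcyclic A).rightOrthogonal.ext_of_isTriangulatedClosed₁ _ hT
    (IsKInjective.rightOrthogonal S.X₂) (IsKInjective.rightOrthogonal S.X₃)

lemma isKInjective_X₃ (S : ShortComplex (CochainComplex A ℤ))
    (σ : ∀ n, (S.map (eval A _ n)).Splitting) [S.X₁.IsKInjective] [S.X₂.IsKInjective] :
    S.X₃.IsKInjective := by
  have hT : trianglehOfDegreewiseSplit S σ ∈ distTriang _ :=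
    (HomotopyCategory.distinguished_iff_iso_trianglehOfDegreewiseSplit _).2 ⟨S, σ, ⟨Iso.refl _⟩⟩
  rw [isKInjective_iff_rightOrthogonal]
  exact (HomotopyCategory.subcategoryAcyclic A).rightOrthogonal.ext_of_isTriangulatedClosed₃ _ hT
    (IsKInjective.rightOrthogonal S.X₁) (IsKInjective.rightOrthogonal S.X₂)

lemma isKInjective_kernel {Y Z : CochainComplex A ℤ} (g : Y ⟶ Z) (hg : ∀ n, IsSplitEpi (g.f n))
    [Y.IsKInjective] [Z.IsKInjective] : (kernel g).IsKInjective := by
  haveI := hg
  haveI : Epi g := HomologicalComplex.epi_of_epi_f _ (fun n => inferInstance)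
  let S : ShortComplex (CochainComplex A ℤ) := ShortComplex.mk (kernel.ι g) g (kernel.condition g)
  have hS : S.ShortExact :=
    { exact := ShortComplex.exact_of_f_is_kernel _ (kernelIsKernel g) }
  have hSn : ∀ n, (S.map (eval A _ n)).ShortExact := fun n => hS.map_of_exact _
  exact isKInjective_X₁ S (fun n => ShortComplex.Splitting.ofExactOfSection _ (hSn n).exact
    (@section_ _ _ _ _ (g.f n) (hg n)) (@IsSplitEpi.id _ _ _ _ (g.f n) (hg n)) (hSn n).mono_f)

lemma isKInjective_cokernel {X Y : CochainComplex A ℤ} (f : X ⟶ Y) [Mono f]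
    (hX : ∀ n, Injective (X.X n)) [X.IsKInjective] [Y.IsKInjective] :
    (cokernel f).IsKInjective := by
  let S : ShortComplex (CochainComplex A ℤ) :=
    ShortComplex.mk f (cokernel.π f) (cokernel.condition f)
  have hS : S.ShortExact :=
    { exact := ShortComplex.exact_of_g_is_cokernel _ (cokernelIsCokernel f) }
  have hSn : ∀ n, (S.map (eval A _ n)).ShortExact := fun n => hS.map_of_exact _
  haveI := fun n => (hSn n).mono_f
  haveI : ∀ n, Injective (S.map (eval A _ n)).X₁ := hX
  exact isKInjective_X₃ S (fun n => ShortComplex.Splitting.ofExactOfRetraction _ (hSn n).exact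
    (Injective.factorThru (𝟙 _) (S.map (eval A _ n)).f) (Injective.comp_factorThru _ _)
    (hSn n).epi_g)

lemma injective_kernel_X {Y Z : CochainComplex A ℤ} (g : Y ⟶ Z) (hg : ∀ n, IsSplitEpi (g.f n))
    (hY : ∀ n, Injective (Y.X n)) (n : ℤ) : Injective ((kernel g).X n) := by
  haveI := hg
  haveI : Epi g := HomologicalComplex.epi_of_epi_f _ (fun n => inferInstance)
  let S : ShortComplex (CochainComplex A ℤ) := ShortComplex.mk (kernel.ι g) g (kernel.condition g)
  have hS : S.ShortExact :=
    { exact := ShortComplex.exact_of_f_is_kernel _ (kernelIsKernel g) }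
  have hSn : (S.map (eval A _ n)).ShortExact := hS.map_of_exact _
  let σ := ShortComplex.Splitting.ofExactOfSection _ hSn.exact
    (@section_ _ _ _ _ (g.f n) (hg n)) (@IsSplitEpi.id _ _ _ _ (g.f n) (hg n)) hSn.mono_f
  haveI : Injective (S.map (eval A _ n)).X₂ := hY n
  exact Retract.injective ⟨(S.map (eval A _ n)).f, σ.r, σ.f_r⟩

/-- the cokernel of the kernel of an epimorphism -/
noncomputable def cokerKernelIso {X Y : A} (q : X ⟶ Y) [Epi q] :
    cokernel (kernelSubobject q).arrow ≅ Y where
  hom := cokernel.desc _ q (kernelSubobject_arrow_comp q)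
  inv := Abelian.epiDesc q (cokernel.π (kernelSubobject q).arrow) (by
    rw [← kernelSubobject_arrow' q, Category.assoc, cokernel.condition, comp_zero])
  hom_inv_id := by
    rw [← cancel_epi (cokernel.π (kernelSubobject q).arrow), cokernel.π_desc_assoc,
      Abelian.comp_epiDesc, Category.comp_id]
  inv_hom_id := by
    rw [← cancel_epi q, Abelian.comp_epiDesc_assoc, cokernel.π_desc, Category.comp_id]

@[reassoc (attr := simp)]
lemma π_cokerKernelIso_hom {X Y : A} (q : X ⟶ Y) [Epi q] :
    cokernel.π (kernelSubobject q).arrow ≫ (cokerKernelIso q).hom = q :=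
  cokernel.π_desc _ _ _

open HomologicalComplex.HomologySequence ComposableArrows in
lemma quasiIso_τ₁ {S₁ S₂ : ShortComplex (CochainComplex A ℤ)} (φ : S₁ ⟶ S₂)
    (hS₁ : S₁.ShortExact) (hS₂ : S₂.ShortExact) (h₂ : QuasiIso φ.τ₂) (h₃ : QuasiIso φ.τ₃) :
    QuasiIso φ.τ₁ := by
  rw [quasiIso_iff]
  intro j
  rw [quasiIsoAt_iff_isIso_homologyMap]
  have hij : (ComplexShape.up ℤ).Rel (j - 1) j := by simp
  have this2 : ∀ i, IsIso (homologyMap φ.τ₂ i) := fun i => by
    rw [← quasiIsoAt_iff_isIso_homologyMap]; infer_instance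
  have this3 : ∀ i, IsIso (homologyMap φ.τ₃ i) := fun i => by
    rw [← quasiIsoAt_iff_isIso_homologyMap]; infer_instance
  exact Abelian.isIso_of_epi_of_isIso_of_isIso_of_mono' (k := 1) (by omega)
    (composableArrows₅_exact hS₁ _ _ hij) (composableArrows₅_exact hS₂ _ _ hij)
    (mapComposableArrows₅ φ hS₁ hS₂ _ _ hij) 1 2 3 4 5 rfl rfl rfl rfl rfl
    (by dsimp [mapComposableArrows₅]; exact @IsIso.epi_of_iso _ _ _ _ _ (this2 _))
    (by dsimp [mapComposableArrows₅]; exact this3 _)
    (by dsimp [mapComposableArrows₅]; exact this2 _)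
    (by dsimp [mapComposableArrows₅]; exact @IsIso.mono_of_iso _ _ _ _ _ (this3 _))

end Groth.Agent.Helper29.FilB
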