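import Mathlib
import Groth.Prelude.Def_SpSeq
import Groth.Agent.Lib.Helper29.FilB
import Groth.Agent.Lib.Helper29.KInjC

set_option autoImplicit false

namespace Groth.Agent.Helper29.FilC

open CategoryTheory Limits

universe v u

variable {A : Type u} [Category.{v} A] [Abelian A]

/-- tower data resolving a filtered complex -/
structure Tower (K : SpSeq.FilCx A) where
  X : CochainComplex A ℤ
  Y : ℤ → CochainComplex A ℤ
  π : ∀ p, X ⟶ Y p
  t : ∀ p q, p ≤ q → (Y q ⟶ Y p)
  π_t : ∀ p q (h : p ≤ q), π q ≫ t p q h = π p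
  injX : ∀ n, Injective (X.X n)
  kinjX : X.IsKInjective
  kinjY : ∀ p, (Y p).IsKInjective
  split : ∀ p n, IsSplitEpi ((π p).f n)
  r : K.obj ⟶ X
  ρ : ∀ p, K.quot p ⟶ Y p
  comm : ∀ p, r ≫ π p = cokernel.π (K.fil p).arrow ≫ ρ p
  qr : QuasiIso r
  qρ : ∀ p, QuasiIso (ρ p)

variable {K : SpSeq.FilCx A} (T : Tower K)

namespace Tower

/-- the filtered complex attached to a tower -/
@[reducible] noncomputable def J : SpSeq.FilCx A where
  obj := T.X
  fil p := kernelSubobject (T.π p)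
  anti := fun p q h => by
    change kernelSubobject (T.π q) ≤ kernelSubobject (T.π p)
    have h1 : kernelSubobject (T.π q) ≤ kernelSubobject (T.π q ≫ T.t p q h) :=
      kernelSubobject_comp_le _ _
    have h2 : kernelSubobject (T.π q ≫ T.t p q h) = kernelSubobject (T.π p) :=
      congrArg (fun f => kernelSubobject f) (T.π_t p q h)
    exact h1.trans h2.le

instance epi_π (p : ℤ) : Epi (T.π p) := by
  haveI := T.split p
  exact HomologicalComplex.epi_of_epi_f _ (fun n => inferInstance)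

lemma fil_arrow_comp (p : ℤ) : (K.fil p).arrow ≫ T.r ≫ T.π p = 0 := by
  rw [T.comm p, cokernel.condition_assoc, zero_comp]

/-- the morphism of filtered complexes -/
noncomputable def j : K ⟶ T.J where
  hom := T.r
  compat p := by
    rw [KInjC.le_pullback_iff]
    exact kernelSubobject_factors _ _ (by rw [Category.assoc]; exact T.fil_arrow_comp p)

/-- the step of `J` is the kernel -/
noncomputable def stepIso (p : ℤ) : T.J.step p ≅ kernel (T.π p) :=
  kernelSubobjectIso (T.π p)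

instance kinj_kernel (p : ℤ) : (kernel (T.π p)).IsKInjective := by
  haveI := T.kinjX
  haveI := T.kinjY p
  exact FilB.isKInjective_kernel (T.π p) (T.split p)

instance kinj_step (p : ℤ) : CochainComplex.IsKInjective (T.J.step p) :=
  CochainComplex.isKInjective_of_iso (T.stepIso p).symm

lemma inj_step_X (p n : ℤ) : Injective ((T.J.step p).X n) :=
  Injective.of_iso ((HomologicalComplex.eval A _ n).mapIso (T.stepIso p).symm)
    (FilB.injective_kernel_X (T.π p) (T.split p) T.injX n)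

instance kinj_obj : CochainComplex.IsKInjective T.J.obj := T.kinjX

lemma inj_obj_X (n : ℤ) : Injective (T.J.obj.X n) := T.injX n

lemma inj_XFil_step (n p : ℤ) : Injective ((T.J.XFil n).step p) :=
  Injective.of_iso (Subobject.underlyingIso ((T.J.fil p).arrow.f n)).symm (T.inj_step_X p n)

lemma inj_XFil_quot (n p : ℤ) : Injective ((T.J.XFil n).quot p) := by
  haveI := T.inj_XFil_step n p
  haveI : Injective (T.J.XFil n).obj := T.injX n
  exact FilB.injective_cokernel _

lemma inj_XFil_coker (n p p' : ℤ) (h : p ≤ p') :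
    Injective (cokernel ((T.J.XFil n).stepLE h)) := by
  haveI := T.inj_XFil_step n p
  haveI := T.inj_XFil_step n p'
  exact FilB.injective_cokernel _

instance kinj_quot (p : ℤ) : CochainComplex.IsKInjective (T.J.quot p) :=
  FilB.isKInjective_cokernel (T.J.fil p).arrow (fun n => T.inj_step_X p n)

instance kinj_coker (p p' : ℤ) (h : p ≤ p') :
    CochainComplex.IsKInjective (cokernel (T.J.stepLE h)) :=
  FilB.isKInjective_cokernel (T.J.stepLE h) (fun n => T.inj_step_X p' n)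

/-- the induced map on steps -/
noncomputable def jp (p : ℤ) : K.step p ⟶ T.J.step p :=
  (kernelSubobject (T.π p)).factorThru ((K.fil p).arrow ≫ T.r)
    (kernelSubobject_factors _ _ (by rw [Category.assoc]; exact T.fil_arrow_comp p))

@[reassoc]
lemma jp_arrow (p : ℤ) : T.jp p ≫ (T.J.fil p).arrow = (K.fil p).arrow ≫ T.r :=
  Subobject.factorThru_arrow _ _ _

/-- the induced map on quotients -/
noncomputable def jq (p : ℤ) : K.quot p ⟶ T.J.quot p :=
  cokernel.map (K.fil p).arrow (T.J.fil p).arrow (T.jp p) T.r (T.jp_arrow p).symm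

@[reassoc]
lemma π_jq (p : ℤ) :
    cokernel.π (K.fil p).arrow ≫ T.jq p = T.r ≫ cokernel.π (T.J.fil p).arrow :=
  cokernel.π_desc _ _ _

/-- the quotient of `J` is `Y` -/
noncomputable def quotIso (p : ℤ) : T.J.quot p ≅ T.Y p := FilB.cokerKernelIso (T.π p)

@[reassoc]
lemma π_quotIso_hom (p : ℤ) :
    cokernel.π (T.J.fil p).arrow ≫ (T.quotIso p).hom = T.π p :=
  FilB.π_cokerKernelIso_hom (T.π p)

lemma jq_quotIso_hom (p : ℤ) : T.jq p ≫ (T.quotIso p).hom = T.ρ p := by
  apply (cancel_epi (cokernel.π (K.fil p).arrow)).1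
  have h1 := T.π_jq p
  have h2 := T.π_quotIso_hom p
  have h3 := T.comm p
  calc cokernel.π (K.fil p).arrow ≫ T.jq p ≫ (T.quotIso p).hom
      = (cokernel.π (K.fil p).arrow ≫ T.jq p) ≫ (T.quotIso p).hom :=
        (Category.assoc _ _ _).symm
    _ = (T.r ≫ cokernel.π (T.J.fil p).arrow) ≫ (T.quotIso p).hom :=
        congrArg (· ≫ (T.quotIso p).hom) h1
    _ = T.r ≫ (cokernel.π (T.J.fil p).arrow ≫ (T.quotIso p).hom) := Category.assoc _ _ _
    _ = T.r ≫ T.π p := congrArg (T.r ≫ ·) h2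
    _ = _ := h3

instance quasiIso_jq (p : ℤ) : QuasiIso (T.jq p) := by
  have h : T.jq p = T.ρ p ≫ (T.quotIso p).inv := by
    rw [← T.jq_quotIso_hom p, Category.assoc, Iso.hom_inv_id, Category.comp_id]
  haveI := T.qρ p
  rw [h]
  infer_instance

/-- the short complex `F^p → X → X/F^p` -/
noncomputable def SK (K : SpSeq.FilCx A) (p : ℤ) : ShortComplex (CochainComplex A ℤ) :=
  ShortComplex.mk (K.fil p).arrow (cokernel.π (K.fil p).arrow) (cokernel.condition _)

lemma SK_shortExact (K : SpSeq.FilCx A) (p : ℤ) : (SK K p).ShortExact :=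
  { exact := ShortComplex.exact_of_g_is_cokernel _ (cokernelIsCokernel _)
    mono_f := inferInstanceAs (Mono (K.fil p).arrow)
    epi_g := inferInstanceAs (Epi (cokernel.π (K.fil p).arrow)) }

/-- the short complex `F^p' → F^p → F^p/F^p'` -/
noncomputable def SK' (K : SpSeq.FilCx A) {p p' : ℤ} (h : p ≤ p') :
    ShortComplex (CochainComplex A ℤ) :=
  ShortComplex.mk (K.stepLE h) (cokernel.π (K.stepLE h)) (cokernel.condition _)

lemma SK'_shortExact (K : SpSeq.FilCx A) {p p' : ℤ} (h : p ≤ p') : (SK' K h).ShortExact :=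
  { exact := ShortComplex.exact_of_g_is_cokernel _ (cokernelIsCokernel _)
    mono_f := inferInstanceAs (Mono (K.stepLE h))
    epi_g := inferInstanceAs (Epi (cokernel.π (K.stepLE h))) }

/-- morphism of short complexes -/
noncomputable def φ (p : ℤ) : SK K p ⟶ SK T.J p :=
  ShortComplex.homMk (T.jp p) T.r (T.jq p) (T.jp_arrow p) (T.π_jq p).symm

instance quasiIso_jp (p : ℤ) : QuasiIso (T.jp p) := by
  haveI := T.qr
  exact FilB.quasiIso_τ₁ (T.φ p) (SK_shortExact K p) (SK_shortExact T.J p)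
    (inferInstanceAs (QuasiIso T.r)) (inferInstanceAs (QuasiIso (T.jq p)))

lemma jp_stepLE {p p' : ℤ} (h : p ≤ p') :
    T.jp p' ≫ T.J.stepLE h = K.stepLE h ≫ T.jp p := by
  apply (cancel_mono (T.J.fil p).arrow).1
  have e1 : T.J.stepLE h ≫ (T.J.fil p).arrow = (T.J.fil p').arrow := Subobject.ofLE_arrow _
  have e2 : K.stepLE h ≫ (K.fil p).arrow = (K.fil p').arrow := Subobject.ofLE_arrow _
  calc (T.jp p' ≫ T.J.stepLE h) ≫ (T.J.fil p).arrow
      = T.jp p' ≫ (T.J.stepLE h ≫ (T.J.fil p).arrow) := Category.assoc _ _ _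
    _ = T.jp p' ≫ (T.J.fil p').arrow := congrArg (T.jp p' ≫ ·) e1
    _ = (K.fil p').arrow ≫ T.r := T.jp_arrow p'
    _ = (K.stepLE h ≫ (K.fil p).arrow) ≫ T.r := congrArg (· ≫ T.r) e2.symm
    _ = K.stepLE h ≫ ((K.fil p).arrow ≫ T.r) := Category.assoc _ _ _
    _ = K.stepLE h ≫ (T.jp p ≫ (T.J.fil p).arrow) :=
        congrArg (K.stepLE h ≫ ·) (T.jp_arrow p).symm
    _ = (K.stepLE h ≫ T.jp p) ≫ (T.J.fil p).arrow := (Category.assoc _ _ _).symm

/-- the induced map on graded pieces -/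
noncomputable def jg {p p' : ℤ} (h : p ≤ p') :
    cokernel (K.stepLE h) ⟶ cokernel (T.J.stepLE h) :=
  cokernel.map (K.stepLE h) (T.J.stepLE h) (T.jp p') (T.jp p) (T.jp_stepLE h).symm

lemma π_jg {p p' : ℤ} (h : p ≤ p') :
    cokernel.π (K.stepLE h) ≫ T.jg h = T.jp p ≫ cokernel.π (T.J.stepLE h) :=
  cokernel.π_desc _ _ _

/-- morphism of short complexes -/
noncomputable def φ' {p p' : ℤ} (h : p ≤ p') : SK' K h ⟶ SK' T.J h :=
  ShortComplex.homMk (T.jp p') (T.jp p) (T.jg h) (T.jp_stepLE h) (T.π_jg h).symm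

instance quasiIso_jg {p p' : ℤ} (h : p ≤ p') : QuasiIso (T.jg h) :=
  HomologicalComplex.HomologySequence.quasiIso_τ₃ (T.φ' h) (SK'_shortExact K h)
    (SK'_shortExact T.J h) (inferInstanceAs (QuasiIso (T.jp p')))
    (inferInstanceAs (QuasiIso (T.jp p)))

include T in
theorem main :
    ∃ (J : SpSeq.FilCx A) (j : K ⟶ J),
      (∀ n p : ℤ, Injective (J.obj.X n) ∧ Injective ((J.XFil n).step p) ∧
        Injective ((J.XFil n).quot p) ∧
        ∀ (p' : ℤ) (h : p ≤ p'), Injective (cokernel ((J.XFil n).stepLE h))) ∧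
      (CochainComplex.IsKInjective J.obj ∧ ∀ p : ℤ, CochainComplex.IsKInjective (J.step p) ∧
        CochainComplex.IsKInjective (J.quot p) ∧
        ∀ (p' : ℤ) (h : p ≤ p'), CochainComplex.IsKInjective (cokernel (J.stepLE h))) ∧
      QuasiIso j.hom ∧
      (∀ p : ℤ, ∃ jp : K.step p ⟶ J.step p,
        jp ≫ (J.fil p).arrow = (K.fil p).arrow ≫ j.hom ∧ QuasiIso jp ∧
        (∀ (p' : ℤ) (h : p ≤ p'), ∃ (jp' : K.step p' ⟶ J.step p')
          (jg : cokernel (K.stepLE h) ⟶ cokernel (J.stepLE h)),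
          jp' ≫ (J.fil p').arrow = (K.fil p').arrow ≫ j.hom ∧
          jp' ≫ J.stepLE h = K.stepLE h ≫ jp ∧
          cokernel.π (K.stepLE h) ≫ jg = jp ≫ cokernel.π (J.stepLE h) ∧ QuasiIso jg)) ∧
      (∀ p : ℤ, ∃ jq : K.quot p ⟶ J.quot p,
        cokernel.π (K.fil p).arrow ≫ jq = j.hom ≫ cokernel.π (J.fil p).arrow ∧ QuasiIso jq) := by
  refine ⟨T.J, T.j, ?_, ?_, T.qr, ?_, ?_⟩
  · intro n p
    exact ⟨T.inj_obj_X n, T.inj_XFil_step n p, T.inj_XFil_quot n p,
      fun p' h => T.inj_XFil_coker n p p' h⟩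
  · exact ⟨T.kinj_obj, fun p => ⟨T.kinj_step p, T.kinj_quot p, fun p' h => T.kinj_coker p p' h⟩⟩
  · intro p
    refine ⟨T.jp p, T.jp_arrow p, T.quasiIso_jp p, fun p' h => ?_⟩
    exact ⟨T.jp p', T.jg h, T.jp_arrow p', T.jp_stepLE h, T.π_jg h, T.quasiIso_jg h⟩
  · intro p
    exact ⟨T.jq p, T.π_jq p, T.quasiIso_jq p⟩

end Tower

end Groth.Agent.Helper29.FilC
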