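import Mathlib
import Groth.Prelude.Def_SpSeq
import Groth.Agent.Lib.Helper29.FilA
import Groth.Agent.Lib.Helper29.FilC
import Groth.Agent.Lib.Helper29.KInjQ
import Groth.Agent.Lib.Helper29.KInjE

set_option autoImplicit false

namespace Groth.Agent.Helper29.FilD

open CategoryTheory Limits Opposite

universe v u

section General

variable {𝒜 : Type*} [Category 𝒜] [Abelian 𝒜]

/-- the map on quotients induced by an inequality of subobjects -/
noncomputable def quotMap' {X : 𝒜} {S S' : Subobject X} (h : S ≤ S') :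
    cokernel S.arrow ⟶ cokernel S'.arrow :=
  cokernel.desc _ (cokernel.π S'.arrow) (by
    rw [← Subobject.ofLE_arrow h, Category.assoc, cokernel.condition, comp_zero])

@[reassoc (attr := simp)]
lemma π_quotMap' {X : 𝒜} {S S' : Subobject X} (h : S ≤ S') :
    cokernel.π S.arrow ≫ quotMap' h = cokernel.π S'.arrow :=
  cokernel.π_desc _ _ _

lemma isIso_cokernel_π_of_eq_zero {X Y : 𝒜} (f : X ⟶ Y) (h : f = 0) : IsIso (cokernel.π f) := by
  subst h
  infer_instance

end General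

variable {A : Type u} [Category.{v} A] [Abelian A]

/-- the index category -/
abbrev Idx : Type v := ULift.{v} (WithTop ℤ)

/-- the top index -/
abbrev top : Idx.{v} := ⟨⊤⟩

/-- the integer indices -/
abbrev coe (p : ℤ) : Idx.{v} := ⟨(p : WithTop ℤ)⟩

lemma coe_le_top (p : ℤ) : coe.{v} p ≤ top := by
  change (p : WithTop ℤ) ≤ ⊤
  exact le_top

lemma coe_le_coe {p q : ℤ} (h : p ≤ q) : coe.{v} p ≤ coe q := by
  change (p : WithTop ℤ) ≤ (q : WithTop ℤ)
  exact WithTop.coe_le_coe.2 h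

/-- the extended filtration -/
noncomputable def fil' (K : SpSeq.FilCx A) (a : Idx.{v}) : Subobject K.obj :=
  WithTop.recTopCoe (C := fun _ => Subobject K.obj) ⊥ K.fil a.down

lemma fil'_top (K : SpSeq.FilCx A) : fil' K top.{v} = ⊥ := rfl

lemma fil'_coe (K : SpSeq.FilCx A) (p : ℤ) : fil' K (coe.{v} p) = K.fil p := rfl

lemma fil'_anti (K : SpSeq.FilCx A) {a b : Idx.{v}} (h : a ≤ b) : fil' K b ≤ fil' K a := by
  obtain ⟨a⟩ := a
  obtain ⟨b⟩ := b
  have h' : a ≤ b := h
  induction b using WithTop.recTopCoe with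
  | top => exact bot_le
  | coe q =>
    induction a using WithTop.recTopCoe with
    | top => exact absurd h' (by simp)
    | coe p => exact K.anti (WithTop.coe_le_coe.1 h')

/-- the tower of quotients as a functor -/
noncomputable def Tfun (K : SpSeq.FilCx A) : Idx.{v}ᵒᵖ ⥤ CochainComplex A ℤ where
  obj a := cokernel (fil' K a.unop).arrow
  map {a b} f := quotMap' (fil'_anti K (leOfHom f.unop))
  map_id a := by
    rw [← cancel_epi (cokernel.π (fil' K a.unop).arrow), π_quotMap', Category.comp_id]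
  map_comp {a b c} f g := by
    rw [← cancel_epi (cokernel.π (fil' K a.unop).arrow), π_quotMap', π_quotMap'_assoc,
      π_quotMap']

instance thin_epi {a b : Idx.{v}ᵒᵖ} (f : a ⟶ b) : Epi f :=
  ⟨fun _ _ _ => Subsingleton.elim _ _⟩

variable [IsGrothendieckAbelian.{v} A]

section Res

variable (K : SpSeq.FilCx A) (I : CochainComplex (Idx.{v}ᵒᵖ ⥤ A) ℤ)
  (r₀ : KInjQ.toCx (Tfun K) ⟶ I)

/-- evaluation at an index -/
noncomputable abbrev evF (a : Idx.{v}) :
    CochainComplex (Idx.{v}ᵒᵖ ⥤ A) ℤ ⥤ CochainComplex A ℤ :=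
  ((evaluation Idx.{v}ᵒᵖ A).obj (op a)).mapHomologicalComplex (ComplexShape.up ℤ)

/-- transition maps -/
noncomputable def tr {a b : Idx.{v}} (h : b ≤ a) : (evF a).obj I ⟶ (evF b).obj I :=
  (NatTrans.mapHomologicalComplex ((evaluation Idx.{v}ᵒᵖ A).map (homOfLE h).op) _).app I

lemma tr_f {a b : Idx.{v}} (h : b ≤ a) (n : ℤ) :
    (tr I h).f n = (I.X n).map (homOfLE h).op := rfl

lemma tr_comp {a b c : Idx.{v}} (h : b ≤ a) (h' : c ≤ b) :
    tr I h ≫ tr I h' = tr I (h'.trans h) := by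
  ext n
  change (I.X n).map (homOfLE h).op ≫ (I.X n).map (homOfLE h').op =
    (I.X n).map (homOfLE (h'.trans h)).op
  rw [← Functor.map_comp]
  rfl

/-- comparison maps -/
noncomputable def ρ' (a : Idx.{v}) : cokernel (fil' K a).arrow ⟶ (evF a).obj I :=
  (KInjQ.evalIso (Tfun K) (op a)).inv ≫ (evF a).map r₀

lemma ρ'_f (a : Idx.{v}) (n : ℤ) : (ρ' K I r₀ a).f n = (r₀.f n).app (op a) := by
  change 𝟙 _ ≫ (r₀.f n).app (op a) = _
  exact Category.id_comp _

lemma ρ'_tr {a b : Idx.{v}} (h : b ≤ a) :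
    ρ' K I r₀ a ≫ tr I h = (Tfun K).map (homOfLE h).op ≫ ρ' K I r₀ b := by
  ext n
  have h1 := ρ'_f K I r₀ a n
  have h2 := ρ'_f K I r₀ b n
  change (ρ' K I r₀ a).f n ≫ (I.X n).map (homOfLE h).op =
    ((KInjQ.toCx (Tfun K)).X n).map (homOfLE h).op ≫ (ρ' K I r₀ b).f n
  rw [h1, h2]
  exact ((r₀.f n).naturality (homOfLE h).op).symm

instance quasiIso_ρ' [QuasiIso r₀] (a : Idx.{v}) : QuasiIso (ρ' K I r₀ a) := by
  unfold ρ'
  infer_instance

/-- the tower attached to a resolution -/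
noncomputable def tower (hI : I.IsKInjective) (hinj : ∀ n, Injective (I.X n))
    (hr : QuasiIso r₀) : FilC.Tower K where
  X := (evF top).obj I
  Y p := (evF (coe p)).obj I
  π p := tr I (coe_le_top.{v} p)
  t p q h := tr I (coe_le_coe.{v} h)
  π_t p q h := tr_comp I _ _
  injX n := by
    haveI := hinj n
    exact FilA.injective_eval (I.X n) (op top)
  kinjX := FilA.isKInjective_eval I (op top)
  kinjY p := FilA.isKInjective_eval I (op (coe p))
  split p n := by
    haveI := hinj n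
    exact FilA.isSplitEpi_map (I.X n) (homOfLE (coe_le_top.{v} p)).op
  r := cokernel.π (fil' K top).arrow ≫ ρ' K I r₀ top
  ρ p := ρ' K I r₀ (coe p)
  comm p := by
    have h1 := ρ'_tr K I r₀ (coe_le_top.{v} p)
    have h2 : cokernel.π (fil' K top.{v}).arrow ≫ (Tfun K).map (homOfLE (coe_le_top.{v} p)).op =
        cokernel.π (K.fil p).arrow := π_quotMap' (fil'_anti K (coe_le_top.{v} p))
    calc (cokernel.π (fil' K top).arrow ≫ ρ' K I r₀ top) ≫ tr I (coe_le_top.{v} p)
        = cokernel.π (fil' K top).arrow ≫ (ρ' K I r₀ top ≫ tr I (coe_le_top.{v} p)) :=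
          Category.assoc _ _ _
      _ = cokernel.π (fil' K top).arrow ≫
            ((Tfun K).map (homOfLE (coe_le_top.{v} p)).op ≫ ρ' K I r₀ (coe p)) :=
          congrArg (cokernel.π (fil' K top).arrow ≫ ·) h1
      _ = (cokernel.π (fil' K top).arrow ≫ (Tfun K).map (homOfLE (coe_le_top.{v} p)).op) ≫
            ρ' K I r₀ (coe p) := (Category.assoc _ _ _).symm
      _ = cokernel.π (K.fil p).arrow ≫ ρ' K I r₀ (coe p) :=
          congrArg (· ≫ ρ' K I r₀ (coe p)) h2
  qr := by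
    haveI := hr
    haveI : IsIso (cokernel.π (fil' K top.{v}).arrow) :=
      isIso_cokernel_π_of_eq_zero _ (by rw [fil'_top]; exact Subobject.bot_arrow)
    haveI : QuasiIso (ρ' K I r₀ top) := quasiIso_ρ' K I r₀ top
    exact quasiIso_comp (cokernel.π (fil' K top.{v}).arrow) (ρ' K I r₀ top)
  qρ p := by
    haveI := hr
    exact quasiIso_ρ' K I r₀ (coe p)

end Res

theorem main (K : SpSeq.FilCx A) :
    ∃ (J : SpSeq.FilCx A) (j : K ⟶ J),
      (∀ n p : ℤ, Injective (J.obj.X n) ∧ Injective ((J.XFil n).step p) ∧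
        Injective ((J.XFil n).quot p) ∧
        ∀ (p' : ℤ) (h : p ≤ p'), Injective (cokernel ((J.XFil n).stepLE h))) ∧
      (CochainComplex.IsKInjective J.obj ∧ ∀ p : ℤ, CochainComplex.IsKInjective (J.step p) ∧
        CochainComplex.IsKInjective (J.quot p) ∧
        ∀ (p' : ℤ) (h : p ≤ p'), CochainComplex.IsKInjective (cokernel (J.stepLE h))) ∧
      QuasiIso j.hom ∧
      (∀ p : ℤ, ∃ jp : K.step p ⟶ J.step p,
        jp ≫ (J.fil p).arrow = (K.fil p).arrow ≫ j.hom ∧ QuasiIso jp ∧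
        (∀ (p' : ℤ) (h : p ≤ p'), ∃ (jp' : K.step p' ⟶ J.step p')
          (jg : cokernel (K.stepLE h) ⟶ cokernel (J.stepLE h)),
          jp' ≫ (J.fil p').arrow = (K.fil p').arrow ≫ j.hom ∧
          jp' ≫ J.stepLE h = K.stepLE h ≫ jp ∧
          cokernel.π (K.stepLE h) ≫ jg = jp ≫ cokernel.π (J.stepLE h) ∧ QuasiIso jg)) ∧
      (∀ p : ℤ, ∃ jq : K.quot p ⟶ J.quot p,
        cokernel.π (K.fil p).arrow ≫ jq = j.hom ≫ cokernel.π (J.fil p).arrow ∧ QuasiIso jq) := by
  haveI : IsGrothendieckAbelian.{v} (Idx.{v}ᵒᵖ ⥤ A) := FilA.isGrothendieckAbelian_presheaf Idx.{v}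
  obtain ⟨I, r₀, hI, hr, -, hinj⟩ := KInjE.exists_kInjective_resolution (KInjQ.toCx (Tfun K))
  exact FilC.Tower.main (tower K I r₀ hI hinj hr)

end Groth.Agent.Helper29.FilD
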