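import Mathlib

/-!
# Transition maps of a `ℤ`-indexed inverse system given by its successive maps
-/

namespace Groth.Agent.Helper29.FilSysA

open CategoryTheory

universe v u

variable {C : Type u} [Category.{v} C] (X : ℤ → C) (f : ∀ i, X (i + 1) ⟶ X i)

/-- iterated transition maps, indexed by the length -/
def tr : ∀ (k : ℕ) (i j : ℤ), i = j + k → (X i ⟶ X j)
  | 0, i, j, h => eqToHom (by subst h; simp)
  | k + 1, i, j, h => tr k i (j + 1) (by push_cast at h; omega) ≫ f j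

lemma tr_congr {k k' : ℕ} (hk : k = k') (i j : ℤ) (h : i = j + k) (h' : i = j + k') :
    tr X f k i j h = tr X f k' i j h' := by
  subst hk; rfl

@[simp]
lemma tr_zero (i : ℤ) (h : i = i + (0 : ℕ)) : tr X f 0 i i h = 𝟙 _ := by
  simp [tr]

lemma tr_succ (k : ℕ) (i j : ℤ) (h : i = j + (k + 1 : ℕ)) :
    tr X f (k + 1) i j h = tr X f k i (j + 1) (by push_cast at h; omega) ≫ f j := rfl

lemma tr_one (j : ℤ) (h : j + 1 = j + (1 : ℕ)) : tr X f 1 (j + 1) j h = f j := by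
  rw [tr_succ, tr_zero, Category.id_comp]

lemma tr_comp (k : ℕ) : ∀ (l : ℕ) (i m j : ℤ) (h1 : i = m + k) (h2 : m = j + l)
    (h3 : i = j + (k + l : ℕ)), tr X f k i m h1 ≫ tr X f l m j h2 = tr X f (k + l) i j h3
  | 0, i, m, j, h1, h2, h3 => by
    obtain rfl : m = j := by simpa using h2
    rw [tr_zero, Category.comp_id]
    rfl
  | l + 1, i, m, j, h1, h2, h3 => by
    rw [tr_succ, ← Category.assoc, tr_comp k l i m (j + 1) h1 (by push_cast at h2; omega)
      (by push_cast at h3 ⊢; omega)]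
    rfl

/-- the transition map `X i ⟶ X j` for `j ≤ i` -/
def ρ (i j : ℤ) (h : j ≤ i) : X i ⟶ X j := tr X f (i - j).toNat i j (by omega)

lemma ρ_eq_tr (i j : ℤ) (h : j ≤ i) (k : ℕ) (hk : i = j + k) : ρ X f i j h = tr X f k i j hk :=
  tr_congr X f (by omega) _ _ _ _

@[simp]
lemma ρ_self (i : ℤ) (h : i ≤ i) : ρ X f i i h = 𝟙 _ := by
  rw [ρ_eq_tr X f i i h 0 (by simp), tr_zero]

@[simp]
lemma ρ_succ (i : ℤ) (h : i ≤ i + 1) : ρ X f (i + 1) i h = f i := by
  rw [ρ_eq_tr X f (i + 1) i h 1 (by simp), tr_one]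

@[reassoc (attr := simp)]
lemma ρ_comp (i m j : ℤ) (h1 : m ≤ i) (h2 : j ≤ m) :
    ρ X f i m h1 ≫ ρ X f m j h2 = ρ X f i j (h2.trans h1) := by
  rw [ρ_eq_tr X f i m h1 (i - m).toNat (by omega), ρ_eq_tr X f m j h2 (m - j).toNat (by omega),
    tr_comp X f _ _ i m j _ _ (by push_cast; omega)]
  exact (ρ_eq_tr X f i j _ _ _).symm

@[reassoc]
lemma f_comp_ρ (i j : ℤ) (h : j ≤ i) :
    f i ≫ ρ X f i j h = ρ X f (i + 1) j (by omega) := by
  rw [← ρ_succ X f i (by omega), ρ_comp]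

end Groth.Agent.Helper29.FilSysA
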