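import Mathlib
import Groth.Agent.Lib.Helper29.FilSysA
import Groth.Agent.Lib.Helper29.KProdA

/-!
# Strictifying a `ℤ`-indexed inverse system of complexes over a complex into a filtered complex
-/

namespace Groth.Agent.Helper29.FilSysB

open CategoryTheory Limits CochainComplex HomComplex
open Groth.Agent.Helper29.FilSysA

universe v u

variable {A : Type u} [Category.{v} A] [Abelian A] [IsGrothendieckAbelian.{v} A]

section Contractible

lemma contractible_pi {ι : Type} (D : ι → CochainComplex A ℤ)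
    (h : ∀ i, Nonempty (Homotopy (𝟙 (D i)) 0)) : Nonempty (Homotopy (𝟙 (∏ᶜ D)) 0) :=
  KProdA.nonempty_homotopy D _ _ (fun i =>
    ⟨(Homotopy.ofEq (by rw [Category.id_comp, Category.comp_id])).trans
      ((((h i).some.compLeft (Pi.π D i))).trans
      (Homotopy.ofEq (by rw [comp_zero, zero_comp])))⟩)

end Contractible

variable (R : ℤ → CochainComplex A ℤ) (τ : ∀ i, R (i + 1) ⟶ R i) (I : CochainComplex A ℤ)
  (α : ∀ i, R i ⟶ I) (γ : ∀ j, mappingCone (𝟙 (R j)) ⟶ I)

/-- the cone of the identity of `R j` -/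
noncomputable abbrev C (j : ℤ) : CochainComplex A ℤ := mappingCone (𝟙 (R j))

/-- the inclusion of `R j` in the cone of its identity -/
noncomputable abbrev ι (j : ℤ) : R j ⟶ C R j := mappingCone.inr (𝟙 (R j))

instance mono_ι (j : ℤ) : Mono (ι R j) := by
  have : ∀ n, Mono ((ι R j).f n) := fun n =>
    (SplitMono.mk ((mappingCone.snd (𝟙 (R j))).v n n (add_zero n))
      (mappingCone.inr_f_snd_v (𝟙 (R j)) n)).mono
  exact HomologicalComplex.mono_of_mono_f (ι R j) this

/-- the product of all the cones -/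
noncomputable def P : CochainComplex A ℤ := ∏ᶜ (C R)

/-- the product of the cones of index `> i` -/
noncomputable def Ps (i : ℤ) : CochainComplex A ℤ := ∏ᶜ (fun j : {j : ℤ // i < j} => C R j.1)

lemma contractible_P : Nonempty (Homotopy (𝟙 (P R)) 0) :=
  contractible_pi _ (fun j => ⟨mappingCone.homotopyToZeroOfId (R j)⟩)

lemma contractible_Ps (i : ℤ) : Nonempty (Homotopy (𝟙 (Ps R i)) 0) :=
  contractible_pi _ (fun j => ⟨mappingCone.homotopyToZeroOfId (R j.1)⟩)

/-- the projections of `Ps` -/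
noncomputable def πs (i j : ℤ) (h : i < j) : Ps R i ⟶ C R j :=
  Pi.π (fun j : {j : ℤ // i < j} => C R j.1) ⟨j, h⟩

/-- the projections of `P` -/
noncomputable def πP (j : ℤ) : P R ⟶ C R j := Pi.π (C R) j

lemma P_hom_ext {T : CochainComplex A ℤ} {a b : T ⟶ P R} (h : ∀ j, a ≫ πP R j = b ≫ πP R j) :
    a = b := Pi.hom_ext _ _ h

lemma Ps_hom_ext {i : ℤ} {T : CochainComplex A ℤ} {a b : T ⟶ Ps R i}
    (h : ∀ j (hj : i < j), a ≫ πs R i j hj = b ≫ πs R i j hj) : a = b :=
  Pi.hom_ext _ _ (fun ⟨j, hj⟩ => h j hj)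

/-- the inclusion of `Ps i` in `P` -/
noncomputable def ext (i : ℤ) : Ps R i ⟶ P R :=
  Pi.lift (fun j => if h : i < j then πs R i j h else 0)

lemma ext_π_of_lt (i j : ℤ) (h : i < j) : ext R i ≫ πP R j = πs R i j h :=
  (Pi.lift_π _ _).trans (dif_pos h)

lemma ext_π_of_le (i j : ℤ) (h : j ≤ i) : ext R i ≫ πP R j = 0 :=
  (Pi.lift_π _ _).trans (dif_neg (by omega))

/-- the embedding of `R i` in `P` by its transition maps to the `R j` for `j ≤ i` -/
noncomputable def emb (i : ℤ) : R i ⟶ P R :=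
  Pi.lift (fun j => if h : j ≤ i then ρ R τ i j h ≫ ι R j else 0)

lemma emb_π_of_le (i j : ℤ) (h : j ≤ i) : emb R τ i ≫ πP R j = ρ R τ i j h ≫ ι R j :=
  (Pi.lift_π _ _).trans (dif_pos h)

lemma emb_π_of_lt (i j : ℤ) (h : i < j) : emb R τ i ≫ πP R j = 0 :=
  (Pi.lift_π _ _).trans (dif_neg (by omega))

/-- the correction terms -/
noncomputable def g (i : ℤ) : P R ⟶ I := ∑ j ∈ Finset.Ioc i 0, πP R j ≫ γ j

lemma g_succ (hγ : ∀ j, 0 < j → γ j = 0) (i : ℤ) :
    g R I γ i = πP R (i + 1) ≫ γ (i + 1) + g R I γ (i + 1) := by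
  by_cases hi : i < 0
  · have : Finset.Ioc i 0 = insert (i + 1) (Finset.Ioc (i + 1) 0) := by
      ext j; simp only [Finset.mem_Ioc, Finset.mem_insert]; omega
    rw [g, this, Finset.sum_insert (by simp)]
    rfl
  · have h1 : Finset.Ioc i 0 = ∅ := by
      ext j; simp only [Finset.mem_Ioc]; constructor
      · intro h; omega
      · intro h; simp at h
    have h2 : Finset.Ioc (i + 1) 0 = ∅ := by
      ext j; simp only [Finset.mem_Ioc]; constructor
      · intro h; omega
      · intro h; simp at h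
    rw [g, g, h1, h2, hγ (i + 1) (by omega)]
    simp

/-- the complexes `M i = R i ⊞ ∏_{j > i} C j` -/
noncomputable abbrev M (i : ℤ) : CochainComplex A ℤ := R i ⊞ Ps R i

/-- the complex `K = I ⊞ ∏_j C j` -/
noncomputable abbrev K : CochainComplex A ℤ := I ⊞ P R

/-- the embedding of `M i` in `K` -/
noncomputable def m (i : ℤ) : M R i ⟶ K R I :=
  biprod.desc (biprod.lift (α i) (emb R τ i)) (biprod.lift (ext R i ≫ g R I γ i) (ext R i))

/-- the component `R (i+1) ⟶ Ps i` of the transition -/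
noncomputable def embs (i : ℤ) : R (i + 1) ⟶ Ps R i :=
  Pi.lift (fun j => if h : j.1 ≤ i + 1 then ρ R τ (i + 1) j.1 h ≫ ι R j.1 else 0)

lemma embs_π_of_le (i j : ℤ) (h : i < j) (h' : j ≤ i + 1) :
    embs R τ i ≫ πs R i j h = ρ R τ (i + 1) j h' ≫ ι R j :=
  (Pi.lift_π _ (⟨j, h⟩ : {j : ℤ // i < j})).trans (dif_pos h')

lemma embs_π_of_lt (i j : ℤ) (h : i < j) (h' : i + 1 < j) :
    embs R τ i ≫ πs R i j h = 0 :=
  (Pi.lift_π _ (⟨j, h⟩ : {j : ℤ // i < j})).trans (dif_neg (by dsimp only; omega))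

/-- the inclusion `Ps (i+1) ⟶ Ps i` -/
noncomputable def incl (i : ℤ) : Ps R (i + 1) ⟶ Ps R i :=
  Pi.lift (fun j => if h : i + 1 < j.1 then πs R (i + 1) j.1 h else 0)

lemma incl_π_of_lt (i j : ℤ) (h : i < j) (h' : i + 1 < j) :
    incl R i ≫ πs R i j h = πs R (i + 1) j h' :=
  (Pi.lift_π _ (⟨j, h⟩ : {j : ℤ // i < j})).trans (dif_pos h')

lemma incl_π_of_le (i j : ℤ) (h : i < j) (h' : j ≤ i + 1) :
    incl R i ≫ πs R i j h = 0 :=
  (Pi.lift_π _ (⟨j, h⟩ : {j : ℤ // i < j})).trans (dif_neg (by dsimp only; omega))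

/-- the transition `M (i+1) ⟶ M i` -/
noncomputable def n (i : ℤ) : M R (i + 1) ⟶ M R i :=
  biprod.desc (biprod.lift (τ i) (embs R τ i)) (biprod.lift 0 (incl R i))

lemma incl_ext (i : ℤ) : incl R i ≫ ext R i = ext R (i + 1) := by
  apply P_hom_ext
  intro j
  rw [Category.assoc]
  by_cases h : i + 1 < j
  · rw [ext_π_of_lt R i j (by omega), ext_π_of_lt R (i + 1) j h, incl_π_of_lt R i j _ h]
  · by_cases h' : i < j
    · rw [ext_π_of_lt R i j h', ext_π_of_le R (i + 1) j (by omega),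
        incl_π_of_le R i j h' (by omega)]
    · rw [ext_π_of_le R i j (by omega), ext_π_of_le R (i + 1) j (by omega), comp_zero]

lemma emb_succ (i : ℤ) : τ i ≫ emb R τ i + embs R τ i ≫ ext R i = emb R τ (i + 1) := by
  apply P_hom_ext
  intro j
  rw [Preadditive.add_comp, Category.assoc, Category.assoc]
  by_cases h : i + 1 < j
  · rw [emb_π_of_lt R τ i j (by omega), emb_π_of_lt R τ (i + 1) j h,
      ext_π_of_lt R i j (by omega), embs_π_of_lt R τ i j _ h, comp_zero, add_zero]
  · by_cases h' : i < j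
    · rw [emb_π_of_lt R τ i j h', emb_π_of_le R τ (i + 1) j (by omega),
        ext_π_of_lt R i j h', embs_π_of_le R τ i j h' (by omega), comp_zero, zero_add]
    · rw [emb_π_of_le R τ i j (by omega), emb_π_of_le R τ (i + 1) j (by omega),
        ext_π_of_le R i j (by omega), comp_zero, add_zero, f_comp_ρ_assoc]

lemma embs_ext_g (hγ : ∀ j, 0 < j → γ j = 0) (i : ℤ) :
    embs R τ i ≫ ext R i ≫ g R I γ i = ι R (i + 1) ≫ γ (i + 1) := by
  rw [g_succ R I γ hγ, Preadditive.comp_add, Preadditive.comp_add,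
    ← Category.assoc (ext R i), ext_π_of_lt R i (i + 1) (by omega), ← Category.assoc (embs R τ i),
    embs_π_of_le R τ i (i + 1) (by omega) le_rfl, ρ_self, Category.id_comp]
  have : embs R τ i ≫ ext R i ≫ g R I γ (i + 1) = 0 := by
    rw [g, Preadditive.comp_sum, Preadditive.comp_sum]
    apply Finset.sum_eq_zero
    intro j hj
    have hj' : i + 1 < j := (Finset.mem_Ioc.1 hj).1
    rw [← Category.assoc (ext R i), ext_π_of_lt R i j (by omega), ← Category.assoc (embs R τ i),
      embs_π_of_lt R τ i j _ hj', zero_comp]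
  rw [this, add_zero]

lemma ext_g (hγ : ∀ j, 0 < j → γ j = 0) (i : ℤ) :
    ext R (i + 1) ≫ g R I γ i = ext R (i + 1) ≫ g R I γ (i + 1) := by
  rw [g_succ R I γ hγ i, Preadditive.comp_add, ← Category.assoc,
    ext_π_of_le R (i + 1) (i + 1) le_rfl, zero_comp, zero_add]

lemma n_m (hγ : ∀ j, 0 < j → γ j = 0)
    (hα : ∀ i, ι R (i + 1) ≫ γ (i + 1) = α (i + 1) - τ i ≫ α i) (i : ℤ) :
    n R τ i ≫ m R τ I α γ i = m R τ I α γ (i + 1) := by
  apply biprod.hom_ext'
  · rw [n, biprod.inl_desc_assoc, m, m, biprod.inl_desc]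
    apply biprod.hom_ext
    · simp only [biprod.lift_desc, Preadditive.add_comp, Category.assoc, biprod.lift_fst]
      rw [embs_ext_g R τ I γ hγ, hα]
      abel
    · simp only [biprod.lift_desc, Preadditive.add_comp, Category.assoc, biprod.lift_snd]
      exact emb_succ R τ i
  · rw [n, biprod.inr_desc_assoc, m, m, biprod.inr_desc]
    apply biprod.hom_ext
    · simp only [biprod.lift_desc, Category.assoc, biprod.lift_fst,
        zero_comp, zero_add]
      rw [← Category.assoc, incl_ext, ext_g R I γ hγ]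
    · simp only [biprod.lift_desc, Category.assoc, biprod.lift_snd,
        zero_comp, zero_add]
      exact incl_ext R i

lemma inl_m_fst (i : ℤ) : biprod.inl ≫ m R τ I α γ i ≫ biprod.fst = α i := by
  simp [m]

lemma n_fst (i : ℤ) : n R τ i ≫ biprod.fst = biprod.fst ≫ τ i := by
  apply biprod.hom_ext' <;> simp [n]

instance mono_m (i : ℤ) : Mono (m R τ I α γ i) := by
  apply Preadditive.mono_of_cancel_zero
  intro Z f hf
  have h1 : (f ≫ biprod.fst) ≫ emb R τ i + (f ≫ biprod.snd) ≫ ext R i = 0 := by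
    have := hf =≫ biprod.snd
    simpa [m, biprod.desc_eq] using this
  have hx : f ≫ biprod.fst = 0 := by
    have h2 := h1 =≫ πP R i
    rw [Preadditive.add_comp, Category.assoc, Category.assoc, emb_π_of_le R τ i i le_rfl,
      Category.assoc, ext_π_of_le R i i le_rfl, comp_zero, add_zero, zero_comp, ρ_self,
      Category.id_comp] at h2
    exact (cancel_mono (ι R i)).1 (by rw [Category.assoc, h2, zero_comp])
  have hc : f ≫ biprod.snd = 0 := by
    rw [hx, zero_comp, zero_add] at h1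
    apply Ps_hom_ext
    intro j hj
    rw [← ext_π_of_lt R i j hj, ← Category.assoc, h1, zero_comp, zero_comp]
  apply biprod.hom_ext
  · rw [hx, zero_comp]
  · rw [hc, zero_comp]

end Groth.Agent.Helper29.FilSysB
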