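import Mathlib
import Groth.Prelude.Def_Wider

universe u
open CategoryTheory

namespace Groth.Agent.Helper29.FinLenA

variable {A : Type u} [CommRing A] [IsLocalRing A] [IsNoetherianRing A]

local notation "𝔪" => IsLocalRing.maximalIdeal A

lemma krullDimLE_quot (n : ℕ) : Ring.KrullDimLE 0 (A ⧸ 𝔪 ^ n) := by
  rw [Ring.krullDimLE_zero_iff]
  intro I hI
  have hs : Function.Surjective (Ideal.Quotient.mk (𝔪 ^ n)) := Ideal.Quotient.mk_surjective
  have hp : (I.comap (Ideal.Quotient.mk (𝔪 ^ n))).IsPrime := Ideal.comap_isPrime _ I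
  have hle : 𝔪 ^ n ≤ I.comap (Ideal.Quotient.mk (𝔪 ^ n)) := by
    intro x hx
    rw [Ideal.mem_comap, Ideal.Quotient.eq_zero_iff_mem.mpr hx]
    exact I.zero_mem
  have hm : 𝔪 ≤ I.comap (Ideal.Quotient.mk (𝔪 ^ n)) := hp.le_of_pow_le hle
  have hmax : (I.comap (Ideal.Quotient.mk (𝔪 ^ n))).IsMaximal := by
    have : I.comap (Ideal.Quotient.mk (𝔪 ^ n)) = 𝔪 :=
      ((IsLocalRing.maximalIdeal.isMaximal A).eq_of_le hp.ne_top hm).symm
    rw [this]; infer_instance
  have := Ideal.map_eq_top_or_isMaximal_of_surjective (Ideal.Quotient.mk (𝔪 ^ n)) hs hmax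
  rw [Ideal.map_comap_of_surjective _ hs] at this
  rcases this with h | h
  · exact absurd h hI.ne_top
  · exact h

lemma finLen_quot (n : ℕ) : IsFiniteLength A (A ⧸ 𝔪 ^ n) := by
  haveI := krullDimLE_quot (A := A) n
  haveI : IsArtinianRing (A ⧸ 𝔪 ^ n) := IsNoetherianRing.isArtinianRing_of_krullDimLE_zero
  rw [← Module.length_ne_top_iff,
    Module.length_eq_of_surjective (R := A ⧸ 𝔪 ^ n) (S := A) (M := A ⧸ 𝔪 ^ n)
      Ideal.Quotient.mk_surjective]
  exact Module.length_ne_top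

end Groth.Agent.Helper29.FinLenA
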