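import Mathlib
import Groth.Prelude.Def_Wider
import Groth.Agent.Lib.Helper29.FinLenA

universe u
open CategoryTheory

namespace Groth.Agent.Helper29.FinLenB
open Groth.Agent.Helper29.FinLenA

variable {A : Type u} [CommRing A] [IsLocalRing A] [IsNoetherianRing A]

local notation "𝔪" => IsLocalRing.maximalIdeal A

variable (A) in
/-- the object `A ⧸ 𝔪^(n+1)` -/
noncomputable def P (n : ℕ) : Dual.FinLen A :=
  ⟨ModuleCat.of A (A ⧸ 𝔪 ^ (n + 1)), finLen_quot (n + 1)⟩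

variable (A) in
/-- the class of `1` in `A ⧸ 𝔪^(n+1)` -/
noncomputable def one (n : ℕ) : (P A n).obj := (Ideal.Quotient.mk (𝔪 ^ (n + 1)) (1 : A))

lemma exists_smul_one {n : ℕ} (y : (P A n).obj) : ∃ a : A, y = a • one A n := by
  obtain ⟨a, rfl⟩ := Ideal.Quotient.mk_surjective (I := 𝔪 ^ (n + 1)) y
  refine ⟨a, ?_⟩
  show (Ideal.Quotient.mk (𝔪 ^ (n + 1)) a : A ⧸ 𝔪 ^ (n + 1)) =
    a • (Ideal.Quotient.mk (𝔪 ^ (n + 1)) (1 : A) : A ⧸ 𝔪 ^ (n + 1))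
  rw [Algebra.smul_def, Ideal.Quotient.algebraMap_eq, ← map_mul, mul_one]

lemma smul_one_eq_zero_iff {n : ℕ} (a : A) : a • one A n = 0 ↔ a ∈ 𝔪 ^ (n + 1) := by
  show a • (Ideal.Quotient.mk (𝔪 ^ (n + 1)) (1 : A) : A ⧸ 𝔪 ^ (n + 1)) = 0 ↔ _
  rw [Algebra.smul_def, Ideal.Quotient.algebraMap_eq, ← map_mul, mul_one,
    Ideal.Quotient.eq_zero_iff_mem]

/-- `M` is killed by `𝔪^(n+1)` -/
def Kills (n : ℕ) (M : Dual.FinLen A) : Prop :=
  ∀ a ∈ 𝔪 ^ (n + 1), ∀ x : M.obj, a • x = 0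

lemma Kills.mono {n n' : ℕ} (h : n ≤ n') {M : Dual.FinLen A} (hM : Kills n M) : Kills n' M :=
  fun a ha x => hM a (Ideal.pow_le_pow_right (Nat.succ_le_succ h) ha) x

/-- the map `A ⧸ 𝔪^(n+1) → M`, `1 ↦ x`, as a linear map -/
noncomputable def fxLin {n : ℕ} {M : Dual.FinLen A} (hM : Kills n M) (x : M.obj) :
    (A ⧸ 𝔪 ^ (n + 1)) →ₗ[A] M.obj :=
  Submodule.liftQ (𝔪 ^ (n + 1)) (LinearMap.toSpanSingleton A M.obj x) (by
    intro a ha
    simp only [LinearMap.mem_ker, LinearMap.toSpanSingleton_apply]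
    exact hM a ha x)

/-- the morphism `P n ⟶ M`, `1 ↦ x` -/
noncomputable def fx {n : ℕ} {M : Dual.FinLen A} (hM : Kills n M) (x : M.obj) : P A n ⟶ M :=
  ObjectProperty.homMk (ModuleCat.ofHom (X := ModuleCat.of A (A ⧸ 𝔪 ^ (n + 1))) (fxLin hM x))

lemma fx_apply_one {n : ℕ} {M : Dual.FinLen A} (hM : Kills n M) (x : M.obj) :
    (fx hM x).hom.hom (one A n) = x := by
  show fxLin hM x (Submodule.Quotient.mk (1 : A)) = x
  rw [fxLin, Submodule.liftQ_apply, LinearMap.toSpanSingleton_apply, one_smul]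

lemma hom_ext_P {n : ℕ} {M : Dual.FinLen A} (f g : P A n ⟶ M)
    (h : f.hom.hom (one A n) = g.hom.hom (one A n)) :
    f = g := by
  apply ObjectProperty.hom_ext
  apply ModuleCat.hom_ext
  apply LinearMap.ext
  intro y
  obtain ⟨a, rfl⟩ := exists_smul_one y
  rw [map_smul, map_smul, h]

end Groth.Agent.Helper29.FinLenB
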