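import Mathlib
import Groth.Prelude.Def_Wider
import Groth.Agent.Lib.Helper29.FinLenB

universe u
open CategoryTheory

namespace Groth.Agent.Helper29.FinLenC
open Groth.Agent.Helper29.FinLenA Groth.Agent.Helper29.FinLenB

variable {A : Type u} [CommRing A] [IsLocalRing A] [IsNoetherianRing A]

local notation "𝔪" => IsLocalRing.maximalIdeal A

lemma exists_kills (M : Dual.FinLen A) : ∃ n, Kills n M := by
  have hfl : IsFiniteLength A M.obj := M.property
  obtain ⟨hN, hAr⟩ := isFiniteLength_iff_isNoetherian_isArtinian.mp hfl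
  let N : ℕ →o (Submodule A M.obj)ᵒᵈ :=
    ⟨fun k => OrderDual.toDual (𝔪 ^ k • (⊤ : Submodule A M.obj)), by
      intro i j hij
      show 𝔪 ^ j • (⊤ : Submodule A M.obj) ≤ 𝔪 ^ i • ⊤
      exact Submodule.smul_mono_left (Ideal.pow_le_pow_right hij)⟩
  obtain ⟨k, hk⟩ := IsArtinian.monotone_stabilizes N
  have h1 : 𝔪 ^ k • (⊤ : Submodule A M.obj) = 𝔪 ^ (k + 1) • ⊤ := by
    have := hk (k + 1) (Nat.le_succ k)
    exact congrArg OrderDual.ofDual this
  have h2 : 𝔪 ^ k • (⊤ : Submodule A M.obj) = ⊥ := by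
    apply Submodule.eq_bot_of_le_smul_of_le_jacobson_bot 𝔪 _ (IsNoetherian.noetherian _)
    · rw [← Submodule.mul_smul, ← pow_succ', ← h1]
    · exact IsLocalRing.maximalIdeal_le_jacobson _
  refine ⟨k, fun a ha x => ?_⟩
  have ha' : a ∈ 𝔪 ^ k := Ideal.pow_le_pow_right (Nat.le_succ k) ha
  have : a • x ∈ 𝔪 ^ k • (⊤ : Submodule A M.obj) :=
    Submodule.smul_mem_smul ha' Submodule.mem_top
  rw [h2] at this
  exact (Submodule.mem_bot A).mp this

omit [IsLocalRing A] [IsNoetherianRing A] in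
lemma smul_hom_apply {M N : Dual.FinLen A} (a : A) (f : M ⟶ N) (x : M.obj) :
    (a • f).hom.hom x = a • f.hom.hom x := rfl

omit [IsLocalRing A] [IsNoetherianRing A] in
lemma add_hom_apply {M N : Dual.FinLen A} (f g : M ⟶ N) (x : M.obj) :
    (f + g).hom.hom x = f.hom.hom x + g.hom.hom x := rfl

omit [IsLocalRing A] [IsNoetherianRing A] in
lemma zero_hom_apply {M N : Dual.FinLen A} (x : M.obj) :
    (0 : M ⟶ N).hom.hom x = 0 := rfl

omit [IsLocalRing A] [IsNoetherianRing A] in
lemma comp_hom_apply {M N K : Dual.FinLen A} (f : M ⟶ N) (g : N ⟶ K) (x : M.obj) :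
    (f ≫ g).hom.hom x = g.hom.hom (f.hom.hom x) := rfl

omit [IsLocalRing A] [IsNoetherianRing A] in
lemma id_hom_apply {M : Dual.FinLen A} (x : M.obj) :
    (𝟙 M : M ⟶ M).hom.hom x = x := rfl

omit [IsLocalRing A] [IsNoetherianRing A] in
lemma smul_id_eq_zero_iff (a : A) (M : Dual.FinLen A) :
    a • 𝟙 M = 0 ↔ ∀ x : M.obj, a • x = 0 := by
  constructor
  · intro h x
    have := congrArg (fun f : M ⟶ M => f.hom.hom x) h
    simpa only [smul_hom_apply, id_hom_apply, zero_hom_apply] using this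
  · intro h
    apply ObjectProperty.hom_ext
    apply ModuleCat.hom_ext
    apply LinearMap.ext
    intro x
    show (a • 𝟙 M).hom.hom x = (0 : M ⟶ M).hom.hom x
    rw [smul_hom_apply, id_hom_apply, zero_hom_apply]
    exact h x

variable (F : Dual.FinLen A ≌ Dual.FinLen A) [F.functor.Additive] [F.functor.Linear A]

include F in
lemma smul_id_map_iff (a : A) (M : Dual.FinLen A) :
    a • 𝟙 (F.functor.obj M) = 0 ↔ a • 𝟙 M = 0 := by
  rw [← F.functor.map_id, ← F.functor.map_smul]
  constructor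
  · intro h
    apply F.functor.map_injective
    rw [h, F.functor.map_zero]
  · intro h
    rw [h, F.functor.map_zero]

lemma kills_map_iff (n : ℕ) (M : Dual.FinLen A) : Kills n (F.functor.obj M) ↔ Kills n M := by
  constructor
  · intro h a ha
    exact (smul_id_eq_zero_iff a M).mp ((smul_id_map_iff F a M).mp
      ((smul_id_eq_zero_iff a _).mpr (h a ha)))
  · intro h a ha
    exact (smul_id_eq_zero_iff a _).mp ((smul_id_map_iff F a M).mpr
      ((smul_id_eq_zero_iff a _).mpr (h a ha)))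

lemma kills_P (n : ℕ) : Kills n (P A n) := by
  intro a ha x
  obtain ⟨b, rfl⟩ := exists_smul_one x
  rw [smul_comm, (smul_one_eq_zero_iff a).mpr ha, smul_zero]

end Groth.Agent.Helper29.FinLenC
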