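import Mathlib
import Groth.Prelude.Def_Wider
import Groth.Agent.Lib.Helper29.FinLenC

universe u
open CategoryTheory

namespace Groth.Agent.Helper29.FinLenD
open Groth.Agent.Helper29.FinLenA Groth.Agent.Helper29.FinLenB Groth.Agent.Helper29.FinLenC

variable {A : Type u} [CommRing A] [IsLocalRing A] [IsNoetherianRing A]

local notation "𝔪" => IsLocalRing.maximalIdeal A

omit [IsLocalRing A] [IsNoetherianRing A] in
/-- evaluation at an element as an additive map on homs -/
def evalHom {M N : Dual.FinLen A} (x : M.obj) : (M ⟶ N) →+ N.obj where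
  toFun f := f.hom.hom x
  map_zero' := rfl
  map_add' _ _ := rfl

omit [IsLocalRing A] [IsNoetherianRing A] in
lemma sum_hom_apply {M N : Dual.FinLen A} {ι : Type*} (s : Finset ι) (f : ι → (M ⟶ N))
    (x : M.obj) : (∑ i ∈ s, f i).hom.hom x = ∑ i ∈ s, (f i).hom.hom x :=
  map_sum (evalHom x) f s

/-- the quotient of an object by a submodule -/
noncomputable def quotObj (N : Dual.FinLen A) (R : Submodule A N.obj) : Dual.FinLen A :=
  ⟨ModuleCat.of A (N.obj ⧸ R), IsFiniteLength.of_surjective N.property (Submodule.mkQ_surjective R)⟩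

noncomputable def quotMap (N : Dual.FinLen A) (R : Submodule A N.obj) : N ⟶ quotObj N R :=
  ObjectProperty.homMk (ModuleCat.ofHom R.mkQ)

omit [IsLocalRing A] [IsNoetherianRing A] in
lemma quotMap_apply (N : Dual.FinLen A) (R : Submodule A N.obj) (x : N.obj) :
    (quotMap N R).hom.hom x = R.mkQ x := rfl

omit [IsLocalRing A] [IsNoetherianRing A] in
lemma eq_top_of_quotMap_eq_zero (N : Dual.FinLen A) (R : Submodule A N.obj)
    (h : quotMap N R = 0) : R = ⊤ := by
  rw [eq_top_iff]
  intro x _
  have := congrArg (fun f : N ⟶ quotObj N R => f.hom.hom x) h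
  simp only [quotMap_apply, zero_hom_apply] at this
  exact (Submodule.Quotient.mk_eq_zero R).mp this

omit [IsLocalRing A] [IsNoetherianRing A] in
lemma surjective_of_epi {M N : Dual.FinLen A} (f : M ⟶ N) [Epi f] :
    Function.Surjective f.hom.hom := by
  have h : f ≫ quotMap N (LinearMap.range f.hom.hom) = f ≫ 0 := by
    apply ObjectProperty.hom_ext
    apply ModuleCat.hom_ext
    apply LinearMap.ext
    intro x
    show (f ≫ quotMap N _).hom.hom x = (f ≫ (0 : N ⟶ quotObj N _)).hom.hom x
    rw [comp_hom_apply, comp_hom_apply, quotMap_apply, zero_hom_apply]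
    exact (Submodule.Quotient.mk_eq_zero _).mpr ⟨x, rfl⟩
  have := eq_top_of_quotMap_eq_zero N _ ((cancel_epi f).mp h)
  exact LinearMap.range_eq_top.mp this

omit [IsLocalRing A] [IsNoetherianRing A] in
lemma epi_of_surjective {M N : Dual.FinLen A} (f : M ⟶ N)
    (h : Function.Surjective f.hom.hom) : Epi f := by
  haveI : Epi ((ObjectProperty.ι _).map f) := (ModuleCat.epi_iff_surjective f.hom).mpr h
  exact (ObjectProperty.ι _).epi_of_epi_map this

variable (F : Dual.FinLen A ≌ Dual.FinLen A) [F.functor.Additive] [F.functor.Linear A]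

omit [IsLocalRing A] [IsNoetherianRing A] in
lemma map_surjective {M N : Dual.FinLen A} (f : M ⟶ N)
    (h : Function.Surjective f.hom.hom) : Function.Surjective (F.functor.map f).hom.hom := by
  haveI := epi_of_surjective f h
  exact surjective_of_epi (F.functor.map f)

omit [IsNoetherianRing A] in
lemma kills_of_iso {n : ℕ} {M N : Dual.FinLen A} (e : M ≅ N) (h : Kills n M) : Kills n N := by
  intro a ha
  rw [← smul_id_eq_zero_iff]
  have h1 : a • 𝟙 M = 0 := (smul_id_eq_zero_iff a M).mpr (h a ha)
  have : a • 𝟙 N = e.inv ≫ (a • 𝟙 M) ≫ e.hom := by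
    rw [Linear.smul_comp, Linear.comp_smul, Category.id_comp, e.inv_hom_id]
  rw [this, h1, Limits.zero_comp, Limits.comp_zero]

end Groth.Agent.Helper29.FinLenD
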