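import Mathlib
import Groth.Prelude.Def_Wider
import Groth.Agent.Lib.Helper29.FinLenD

universe u
open CategoryTheory

namespace Groth.Agent.Helper29.FinLenE
open Groth.Agent.Helper29.FinLenA Groth.Agent.Helper29.FinLenB Groth.Agent.Helper29.FinLenC
  Groth.Agent.Helper29.FinLenD

variable {A : Type u} [CommRing A] [IsLocalRing A] [IsNoetherianRing A]

local notation "𝔪" => IsLocalRing.maximalIdeal A

variable (F : Dual.FinLen A ≌ Dual.FinLen A) [F.functor.Additive] [F.functor.Linear A]

/-- every endomorphism of `F(P n)` is a scalar -/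
lemma end_scalar (n : ℕ) (φ : F.functor.obj (P A n) ⟶ F.functor.obj (P A n)) :
    ∃ a : A, φ = a • 𝟙 _ := by
  obtain ⟨a, ha⟩ := exists_smul_one ((F.functor.preimage φ).hom.hom (one A n))
  refine ⟨a, ?_⟩
  have : F.functor.preimage φ = a • 𝟙 (P A n) := by
    apply hom_ext_P
    rw [ha, smul_hom_apply, id_hom_apply]
  rw [← F.functor.map_preimage φ, this, F.functor.map_smul, F.functor.map_id]

theorem cyclic (n : ℕ) :
    ∃ q : (F.functor.obj (P A n)).obj, ∀ y : (F.functor.obj (P A n)).obj, ∃ a : A, y = a • q := by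
  classical
  set Q := F.functor.obj (P A n) with hQdef
  have hQ : Kills n Q := (kills_map_iff F n (P A n)).mpr (kills_P n)
  have hfl : IsFiniteLength A Q.obj := Q.property
  obtain ⟨hN, -⟩ := isFiniteLength_iff_isNoetherian_isArtinian.mp hfl
  obtain ⟨S, hS⟩ := (IsNoetherian.noetherian (⊤ : Submodule A Q.obj))
  let g : S → (P A n ⟶ Q) := fun q => fx hQ q.1
  let P' := F.inverse.obj (P A n)
  let ε : F.functor.obj P' ≅ P A n := F.counitIso.app (P A n)
  have hP' : Kills n P' := (kills_map_iff F n P').mp (kills_of_iso ε.symm (kills_P n))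
  let h : S → (P' ⟶ P A n) := fun q => F.functor.preimage (ε.hom ≫ g q)
  have hh : ∀ q, F.functor.map (h q) = ε.hom ≫ g q := fun q => F.functor.map_preimage _
  let T : (S → P'.obj) →ₗ[A] (P A n).obj := ∑ q : S, (h q).hom.hom ∘ₗ LinearMap.proj q
  have hT : ∀ y : S → P'.obj, T y = ∑ q : S, (h q).hom.hom (y q) := by
    intro y
    simp [T, LinearMap.sum_apply]
  -- the range of T is everything
  have hrange : LinearMap.range T = ⊤ := by
    apply eq_top_of_quotMap_eq_zero
    apply F.functor.map_injective
    rw [F.functor.map_zero]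
    -- F(c) kills all generators
    have hc : ∀ q : S, h q ≫ quotMap (P A n) (LinearMap.range T) = 0 := by
      intro q
      apply ObjectProperty.hom_ext
      apply ModuleCat.hom_ext
      apply LinearMap.ext
      intro z
      show (h q ≫ quotMap (P A n) (LinearMap.range T)).hom.hom z = (0 : P' ⟶ _).hom.hom z
      rw [comp_hom_apply, quotMap_apply, zero_hom_apply]
      refine (Submodule.Quotient.mk_eq_zero _).mpr ⟨Pi.single q z, ?_⟩
      rw [hT]
      rw [Finset.sum_eq_single q]
      · rw [Pi.single_eq_same]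
      · intro b _ hb
        rw [Pi.single_eq_of_ne hb, map_zero]
      · intro hq; exact absurd (Finset.mem_univ q) hq
    have hc2 : ∀ q : S, g q ≫ F.functor.map (quotMap (P A n) (LinearMap.range T)) = 0 := by
      intro q
      have := congrArg F.functor.map (hc q)
      rw [F.functor.map_comp, hh, F.functor.map_zero, Category.assoc] at this
      exact (cancel_epi ε.hom).mp (by rw [this, Limits.comp_zero])
    apply ObjectProperty.hom_ext
    apply ModuleCat.hom_ext
    apply LinearMap.ext_on_range (v := fun q : S => (q.1 : Q.obj))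
    · rw [Subtype.range_coe_subtype]
      simpa using hS
    · intro q
      have := congrArg (fun f : P A n ⟶ _ => f.hom.hom (one A n)) (hc2 q)
      simp only [comp_hom_apply, zero_hom_apply] at this
      rw [fx_apply_one] at this
      rw [this]; rfl
  obtain ⟨y, hy⟩ : ∃ y, T y = one A n := by
    have : one A n ∈ LinearMap.range T := by rw [hrange]; trivial
    exact this
  let t : S → (P A n ⟶ P') := fun q => fx hP' (y q)
  have hsum : ∑ q : S, t q ≫ h q = 𝟙 (P A n) := by
    apply hom_ext_P
    rw [sum_hom_apply, id_hom_apply]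
    have h1 : ∀ q : S, (t q ≫ h q).hom.hom (one A n) = (h q).hom.hom (y q) := by
      intro q
      rw [comp_hom_apply, fx_apply_one]
    rw [Finset.sum_congr rfl (fun q _ => h1 q), ← hT, hy]
  let s : S → (Q ⟶ P A n) := fun q => F.functor.map (t q) ≫ ε.hom
  have hsum2 : ∑ q : S, s q ≫ g q = 𝟙 Q := by
    have := congrArg F.functor.map hsum
    rw [F.functor.map_sum, F.functor.map_id] at this
    rw [← this]
    refine Finset.sum_congr rfl (fun q _ => ?_)
    rw [F.functor.map_comp, hh, Category.assoc]
  choose a ha using fun q : S => end_scalar F n (s q ≫ g q)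
  have hsum3 : (∑ q : S, a q) • 𝟙 Q = 𝟙 Q := by
    rw [Finset.sum_smul]
    calc ∑ q : S, a q • 𝟙 Q = ∑ q : S, s q ≫ g q :=
          Finset.sum_congr rfl (fun q _ => (ha q).symm)
      _ = 𝟙 Q := hsum2
  by_cases hall : ∀ q : S, a q ∈ 𝔪
  · -- Q is zero
    have hmem : ∑ q : S, a q ∈ 𝔪 := Ideal.sum_mem _ (fun q _ => hall q)
    have hu : IsUnit (1 - ∑ q : S, a q) := by
      by_contra hnu
      have h1 : (1 - ∑ q : S, a q) ∈ 𝔪 := (IsLocalRing.mem_maximalIdeal _).mpr hnu
      have : (1 : A) ∈ 𝔪 := by
        have := Ideal.add_mem _ h1 hmem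
        simp at this
      exact (Ideal.ne_top_iff_one _).mp (IsLocalRing.maximalIdeal.isMaximal A).ne_top this
    have hzero : (1 - ∑ q : S, a q) • 𝟙 Q = 0 := by
      rw [sub_smul, one_smul, hsum3, sub_self]
    have hz := (smul_id_eq_zero_iff _ Q).mp hzero
    refine ⟨0, fun y => ⟨1, ?_⟩⟩
    obtain ⟨u, hu'⟩ := hu
    have := hz y
    rw [← hu'] at this
    have h2 : y = 0 := by
      have := congrArg (fun z => (↑u⁻¹ : A) • z) this
      simpa [smul_smul] using this
    rw [h2, smul_zero]
  · push Not at hall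
    obtain ⟨q, hq⟩ := hall
    have hu : IsUnit (a q) := by
      by_contra hnu
      exact hq ((IsLocalRing.mem_maximalIdeal _).mpr hnu)
    obtain ⟨u, hu'⟩ := hu
    refine ⟨q.1, fun y => ?_⟩
    obtain ⟨b, hb⟩ := exists_smul_one ((s q).hom.hom y)
    have h1 : a q • y = b • q.1 := by
      have := congrArg (fun f : Q ⟶ Q => f.hom.hom y) (ha q)
      simp only [comp_hom_apply, smul_hom_apply, id_hom_apply] at this
      rw [← this, hb, map_smul, fx_apply_one]
    refine ⟨↑u⁻¹ * b, ?_⟩
    rw [mul_smul, ← h1, ← hu', smul_smul, Units.inv_mul, one_smul]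

end Groth.Agent.Helper29.FinLenE
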