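import Mathlib
import Groth.Prelude.Def_Wider
import Groth.Agent.Lib.Helper29.FinLenE

universe u
open CategoryTheory

namespace Groth.Agent.Helper29.FinLenF
open Groth.Agent.Helper29.FinLenA Groth.Agent.Helper29.FinLenB Groth.Agent.Helper29.FinLenC
  Groth.Agent.Helper29.FinLenD Groth.Agent.Helper29.FinLenE

variable {A : Type u} [CommRing A] [IsLocalRing A] [IsNoetherianRing A]

local notation "𝔪" => IsLocalRing.maximalIdeal A

variable (A) in
/-- the transition map `A ⧸ 𝔪^(n+2) → A ⧸ 𝔪^(n+1)` -/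
noncomputable def π (n : ℕ) : P A (n + 1) ⟶ P A n :=
  fx ((kills_P n).mono (Nat.le_succ n)) (one A n)

lemma π_one (n : ℕ) : (π A n).hom.hom (one A (n + 1)) = one A n := fx_apply_one _ _

lemma π_surjective (n : ℕ) : Function.Surjective (π A n).hom.hom := by
  intro y
  obtain ⟨a, rfl⟩ := exists_smul_one y
  exact ⟨a • one A (n + 1), by rw [map_smul, π_one]⟩

lemma π_fx {n : ℕ} {M : Dual.FinLen A} (hM : Kills n M) (x : M.obj) :
    π A n ≫ fx hM x = fx (hM.mono (Nat.le_succ n)) x := by
  apply hom_ext_P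
  rw [comp_hom_apply, π_one, fx_apply_one, fx_apply_one]

variable (F : Dual.FinLen A ≌ Dual.FinLen A) [F.functor.Additive] [F.functor.Linear A]

/-- `q` generates `F(P n)` -/
def IsGen (n : ℕ) (q : (F.functor.obj (P A n)).obj) : Prop :=
  ∀ y : (F.functor.obj (P A n)).obj, ∃ a : A, y = a • q

lemma ann_gen {n : ℕ} {q : (F.functor.obj (P A n)).obj} (hq : IsGen F n q) (a : A)
    (h : a • q = 0) : a ∈ 𝔪 ^ (n + 1) := by
  have h1 : a • 𝟙 (F.functor.obj (P A n)) = 0 := by
    rw [smul_id_eq_zero_iff]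
    intro y
    obtain ⟨b, rfl⟩ := hq y
    rw [smul_comm, h, smul_zero]
  have h2 := (smul_id_map_iff F a (P A n)).mp h1
  have h3 := (smul_id_eq_zero_iff a (P A n)).mp h2 (one A n)
  exact (smul_one_eq_zero_iff a).mp h3

lemma exists_lift {n : ℕ} {q : (F.functor.obj (P A n)).obj} (hq : IsGen F n q) :
    ∃ q' : (F.functor.obj (P A (n + 1))).obj, IsGen F (n + 1) q' ∧
      (F.functor.map (π A n)).hom.hom q' = q := by
  obtain ⟨q'', hq''⟩ := cyclic F (n + 1)
  obtain ⟨z, hz⟩ := map_surjective F (π A n) (π_surjective n) q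
  obtain ⟨c, rfl⟩ := hq'' z
  obtain ⟨d, hd⟩ := hq ((F.functor.map (π A n)).hom.hom q'')
  rw [map_smul] at hz
  have h1 : (1 - c * d) • q = 0 := by
    rw [sub_smul, one_smul, mul_smul, ← hd, hz, sub_self]
  have h2 : (1 - c * d) ∈ 𝔪 := Ideal.pow_le_self (Nat.succ_ne_zero n) (ann_gen F hq _ h1)
  have hu : IsUnit c := by
    by_contra hnu
    have hc : c ∈ 𝔪 := (IsLocalRing.mem_maximalIdeal _).mpr hnu
    have : (1 : A) ∈ 𝔪 := by
      have := Ideal.add_mem _ h2 (Ideal.mul_mem_right d _ hc)
      simpa using this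
    exact (Ideal.ne_top_iff_one _).mp (IsLocalRing.maximalIdeal.isMaximal A).ne_top this
  obtain ⟨u, rfl⟩ := hu
  refine ⟨(u : A) • q'', ?_, by rw [map_smul]; exact hz⟩
  intro y
  obtain ⟨b, rfl⟩ := hq'' y
  exact ⟨b * ↑u⁻¹, by rw [smul_smul, mul_assoc, Units.inv_mul, mul_one]⟩

/-- a compatible system of generators -/
noncomputable def gen : ∀ n : ℕ, {q : (F.functor.obj (P A n)).obj // IsGen F n q}
  | 0 => ⟨(cyclic F 0).choose, (cyclic F 0).choose_spec⟩
  | n + 1 => ⟨(exists_lift F (gen n).2).choose, (exists_lift F (gen n).2).choose_spec.1⟩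

lemma gen_succ (n : ℕ) : (F.functor.map (π A n)).hom.hom (gen F (n + 1)).1 = (gen F n).1 :=
  (exists_lift F (gen F n).2).choose_spec.2

/-- the value of the comparison map computed at level `n` -/
noncomputable def valN {M : Dual.FinLen A} (n : ℕ) (hM : Kills n M) (x : M.obj) :
    (F.functor.obj M).obj :=
  (F.functor.map (fx hM x)).hom.hom (gen F n).1

lemma valN_succ {M : Dual.FinLen A} (n : ℕ) (hM : Kills n M) (x : M.obj) :
    valN F (n + 1) (hM.mono (Nat.le_succ n)) x = valN F n hM x := by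
  unfold valN
  rw [← π_fx hM x, F.functor.map_comp, comp_hom_apply, gen_succ]

lemma valN_le {M : Dual.FinLen A} (n n' : ℕ) (h : n ≤ n') (hM : Kills n M) (x : M.obj) :
    valN F n' (hM.mono h) x = valN F n hM x := by
  induction n', h using Nat.le_induction with
  | base => rfl
  | succ k hk ih => rw [← ih]; exact valN_succ F k (hM.mono hk) x

lemma valN_indep {M : Dual.FinLen A} (n n' : ℕ) (hM : Kills n M) (hM' : Kills n' M) (x : M.obj) :
    valN F n hM x = valN F n' hM' x := by
  rw [← valN_le F n (max n n') (le_max_left _ _) hM x,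
    ← valN_le F n' (max n n') (le_max_right _ _) hM' x]

lemma valN_add {M : Dual.FinLen A} (n : ℕ) (hM : Kills n M) (x y : M.obj) :
    valN F n hM (x + y) = valN F n hM x + valN F n hM y := by
  unfold valN
  have : fx hM (x + y) = fx hM x + fx hM y := by
    apply hom_ext_P
    rw [add_hom_apply, fx_apply_one, fx_apply_one, fx_apply_one]
  rw [this, F.functor.map_add, add_hom_apply]

lemma valN_smul {M : Dual.FinLen A} (n : ℕ) (hM : Kills n M) (a : A) (x : M.obj) :
    valN F n hM (a • x) = a • valN F n hM x := by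
  unfold valN
  have : fx hM (a • x) = a • fx hM x := by
    apply hom_ext_P
    rw [smul_hom_apply, fx_apply_one, fx_apply_one]
  rw [this, F.functor.map_smul, smul_hom_apply]

lemma valN_natural {M N : Dual.FinLen A} (g : M ⟶ N) (n : ℕ) (hM : Kills n M) (hN : Kills n N)
    (x : M.obj) :
    (F.functor.map g).hom.hom (valN F n hM x) = valN F n hN (g.hom.hom x) := by
  unfold valN
  have : fx hM x ≫ g = fx hN (g.hom.hom x) := by
    apply hom_ext_P
    rw [comp_hom_apply, fx_apply_one, fx_apply_one]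
  rw [← this, F.functor.map_comp, comp_hom_apply]

lemma valN_injective {M : Dual.FinLen A} (n : ℕ) (hM : Kills n M) (x : M.obj)
    (h : valN F n hM x = 0) : x = 0 := by
  have h1 : F.functor.map (fx hM x) = 0 := by
    apply ObjectProperty.hom_ext
    apply ModuleCat.hom_ext
    apply LinearMap.ext
    intro y
    obtain ⟨a, rfl⟩ := (gen F n).2 y
    rw [map_smul]
    show a • (F.functor.map (fx hM x)).hom.hom (gen F n).1 = (0 : _ ⟶ F.functor.obj M).hom.hom _
    rw [zero_hom_apply]
    unfold valN at h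
    rw [h, smul_zero]
  have h2 : fx hM x = 0 := by
    apply F.functor.map_injective
    rw [h1, F.functor.map_zero]
  have := fx_apply_one hM x
  rw [h2, zero_hom_apply] at this
  exact this.symm

end Groth.Agent.Helper29.FinLenF
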