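import Mathlib
import Groth.Prelude.Def_Wider
import Groth.Agent.Lib.Helper29.FinLenF

universe u
open CategoryTheory

namespace Groth.Agent.Helper29.FinLenG
open Groth.Agent.Helper29.FinLenA Groth.Agent.Helper29.FinLenB Groth.Agent.Helper29.FinLenC
  Groth.Agent.Helper29.FinLenD Groth.Agent.Helper29.FinLenE Groth.Agent.Helper29.FinLenF

variable {A : Type u} [CommRing A] [IsLocalRing A] [IsNoetherianRing A]

local notation "𝔪" => IsLocalRing.maximalIdeal A

variable (F : Dual.FinLen A ≌ Dual.FinLen A) [F.functor.Additive] [F.functor.Linear A]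

lemma valN_surjective {M : Dual.FinLen A} (n : ℕ) (hM : Kills n M)
    (y : (F.functor.obj M).obj) : ∃ x : M.obj, valN F n hM x = y := by
  have hQ : Kills n (F.functor.obj (P A n)) := (kills_map_iff F n (P A n)).mpr (kills_P n)
  have hGM : Kills n (F.functor.obj M) := (kills_map_iff F n M).mpr hM
  -- the isomorphism `P n ≃ F(P n)`, `1 ↦ gen`
  let e := fx hQ (gen F n).1
  have he_one : e.hom.hom (one A n) = (gen F n).1 := fx_apply_one _ _
  have hbij : Function.Bijective e.hom.hom := by
    constructor
    · rw [← LinearMap.ker_eq_bot, LinearMap.ker_eq_bot']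
      intro z hz
      obtain ⟨a, rfl⟩ := exists_smul_one z
      rw [map_smul, he_one] at hz
      exact (smul_one_eq_zero_iff a).mpr (ann_gen F (gen F n).2 a hz)
    · intro z
      obtain ⟨a, rfl⟩ := (gen F n).2 z
      exact ⟨a • one A n, by rw [map_smul, he_one]⟩
  let E := LinearEquiv.ofBijective e.hom.hom hbij
  have hE : E.symm (gen F n).1 = one A n := by
    rw [LinearEquiv.symm_apply_eq]
    exact he_one.symm
  let ψ : F.functor.obj (P A n) ⟶ F.functor.obj M :=
    ObjectProperty.homMk (ModuleCat.ofHom ((fx hGM y).hom.hom ∘ₗ E.symm.toLinearMap))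
  have hψ : ψ.hom.hom (gen F n).1 = y := by
    show (fx hGM y).hom.hom (E.symm (gen F n).1) = y
    rw [hE, fx_apply_one]
  refine ⟨(F.functor.preimage ψ).hom.hom (one A n), ?_⟩
  unfold valN
  have : fx hM ((F.functor.preimage ψ).hom.hom (one A n)) = F.functor.preimage ψ := by
    apply hom_ext_P
    rw [fx_apply_one]
  rw [this, F.functor.map_preimage, hψ]

/-- a level killing `M` -/
noncomputable def lvl (M : Dual.FinLen A) : ℕ := (exists_kills M).choose

lemma lvl_kills (M : Dual.FinLen A) : Kills (lvl M) M := (exists_kills M).choose_spec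

/-- the comparison map as a linear equivalence -/
noncomputable def θ (M : Dual.FinLen A) : M.obj ≃ₗ[A] (F.functor.obj M).obj :=
  LinearEquiv.ofBijective
    { toFun := valN F (lvl M) (lvl_kills M)
      map_add' := valN_add F _ _
      map_smul' := valN_smul F _ _ }
    ⟨by
      intro x y hxy
      have h : valN F (lvl M) (lvl_kills M) (x - y) = 0 := by
        have := valN_add F (lvl M) (lvl_kills M) (x - y) y
        rw [sub_add_cancel] at this
        have hxy' : valN F (lvl M) (lvl_kills M) x = valN F (lvl M) (lvl_kills M) y := hxy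
        rw [hxy'] at this
        exact (add_eq_right.mp this.symm)
      exact sub_eq_zero.mp (valN_injective F _ _ _ h),
     fun y => valN_surjective F _ _ y⟩

lemma θ_apply (M : Dual.FinLen A) (x : M.obj) (n : ℕ) (hM : Kills n M) :
    θ F M x = valN F n hM x := valN_indep F _ _ _ _ x

omit [IsLocalRing A] [IsNoetherianRing A] in
/-- an isomorphism in `FinLen` from a linear equivalence -/
noncomputable def isoOfEquiv {M N : Dual.FinLen A} (e : M.obj ≃ₗ[A] N.obj) : M ≅ N where
  hom := ObjectProperty.homMk (ModuleCat.ofHom e.toLinearMap)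
  inv := ObjectProperty.homMk (ModuleCat.ofHom e.symm.toLinearMap)
  hom_inv_id := by
    apply ObjectProperty.hom_ext
    apply ModuleCat.hom_ext
    apply LinearMap.ext
    intro x
    exact e.symm_apply_apply x
  inv_hom_id := by
    apply ObjectProperty.hom_ext
    apply ModuleCat.hom_ext
    apply LinearMap.ext
    intro x
    exact e.apply_symm_apply x

theorem main : Nonempty (F.functor ≅ 𝟭 (Dual.FinLen A)) := by
  refine ⟨(NatIso.ofComponents (fun M => isoOfEquiv (θ F M)) ?_).symm⟩
  intro M N g
  apply ObjectProperty.hom_ext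
  apply ModuleCat.hom_ext
  apply LinearMap.ext
  intro x
  show θ F N (g.hom.hom x) = (F.functor.map g).hom.hom (θ F M x)
  have hM : Kills (max (lvl M) (lvl N)) M := (lvl_kills M).mono (le_max_left _ _)
  have hN : Kills (max (lvl M) (lvl N)) N := (lvl_kills N).mono (le_max_right _ _)
  rw [θ_apply F M x _ hM, θ_apply F N _ _ hN, valN_natural F g _ hM hN]

end Groth.Agent.Helper29.FinLenG
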