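import Mathlib
import Groth.Prelude.Def_W4c2arithlefschetzNode
import Groth.Agent.S15315

/-!
# Residual fixed-point scheme of an automorphism of `B⟦t⟧` (helper29)
-/

open PowerSeries

namespace Groth.Agent.Helper29.FixPS

universe u

section General

variable {B : Type u} [CommRing B] [IsDomain B] [IsDiscreteValuationRing B]

/-- `X` lies in the maximal ideal of `B⟦X⟧`. -/
theorem X_mem_max : (X : PowerSeries B) ∈ IsLocalRing.maximalIdeal (PowerSeries B) := by
  rw [IsLocalRing.mem_maximalIdeal, mem_nonunits_iff, PowerSeries.isUnit_iff_constantCoeff,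
    PowerSeries.constantCoeff_X]
  exact not_isUnit_zero

theorem C_mem_max {π : B} (hπ : ¬ IsUnit π) :
    (algebraMap B (PowerSeries B) π) ∈ IsLocalRing.maximalIdeal (PowerSeries B) := by
  rw [IsLocalRing.mem_maximalIdeal, mem_nonunits_iff, PowerSeries.isUnit_iff_constantCoeff]
  rw [PowerSeries.algebraMap_apply, Algebra.algebraMap_self, RingHom.id_apply,
    PowerSeries.constantCoeff_C]
  exact hπ

/-- Truncation: `r - trunc N r` is divisible by `X ^ N`. -/
theorem exists_trunc (N : ℕ) (r : PowerSeries B) :
    ∃ s : PowerSeries B, r = ((PowerSeries.trunc N r : Polynomial B) : PowerSeries B) + X ^ N * s := by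
  have h : (X : PowerSeries B) ^ N ∣ r - ((PowerSeries.trunc N r : Polynomial B) : PowerSeries B) := by
    rw [PowerSeries.X_pow_dvd_iff]
    intro m hm
    rw [map_sub, Polynomial.coeff_coe, PowerSeries.coeff_trunc, if_pos hm, sub_self]
  obtain ⟨s, hs⟩ := h
  exact ⟨s, by rw [← hs]; ring⟩

variable (σ : PowerSeries B ≃+* PowerSeries B) (J : Ideal (PowerSeries B))

/-- The set of `r` with `σ r - r ∈ J` is a subring. -/
def fixSub : Subring (PowerSeries B) where
  carrier := {r | σ r - r ∈ J}
  mul_mem' {r s} hr hs := by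
    show σ (r * s) - r * s ∈ J
    have : σ (r * s) - r * s = σ r * (σ s - s) + (σ r - r) * s := by rw [map_mul]; ring
    rw [this]
    exact J.add_mem (J.mul_mem_left _ hs) (J.mul_mem_right _ hr)
  one_mem' := by
    show σ 1 - 1 ∈ J
    rw [map_one, sub_self]
    exact J.zero_mem
  add_mem' {r s} hr hs := by
    show σ (r + s) - (r + s) ∈ J
    have : σ (r + s) - (r + s) = (σ r - r) + (σ s - s) := by rw [map_add]; ring
    rw [this]
    exact J.add_mem hr hs
  zero_mem' := by
    show σ 0 - 0 ∈ J
    rw [map_zero, sub_self]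
    exact J.zero_mem
  neg_mem' {r} hr := by
    show σ (-r) - -r ∈ J
    have : σ (-r) - -r = -(σ r - r) := by rw [map_neg]; ring
    rw [this]
    exact J.neg_mem hr

theorem mem_fixSub {r : PowerSeries B} : r ∈ fixSub σ J ↔ σ r - r ∈ J := Iff.rfl

/-- If `σ` moves constants and `X` inside `J`, then it moves every polynomial inside `J`. -/
theorem poly_mem_fixSub (hC : ∀ b : B, σ (algebraMap B (PowerSeries B) b) - algebraMap B (PowerSeries B) b ∈ J)
    (hX : σ X - X ∈ J) (q : Polynomial B) : (q : PowerSeries B) ∈ fixSub σ J := by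
  induction q using Polynomial.induction_on with
  | C b =>
    rw [Polynomial.coe_C]
    exact hC b
  | add p q hp hq =>
    rw [Polynomial.coe_add]
    exact (fixSub σ J).add_mem hp hq
  | monomial n b h =>
    rw [pow_succ, ← mul_assoc, Polynomial.coe_mul, Polynomial.coe_X]
    exact (fixSub σ J).mul_mem h hX

/-- Continuity argument: `σ r - r ∈ J` for every power series `r`. -/
theorem all_mem_fixSub (hC : ∀ b : B, σ (algebraMap B (PowerSeries B) b) - algebraMap B (PowerSeries B) b ∈ J)
    (hX : σ X - X ∈ J) (hσX : σ X ∈ IsLocalRing.maximalIdeal (PowerSeries B)) (r : PowerSeries B) :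
    σ r - r ∈ J := by
  set 𝔪 := IsLocalRing.maximalIdeal (PowerSeries B) with h𝔪
  have hkrull := Ideal.iInf_pow_smul_eq_bot_of_isLocalRing (R := PowerSeries B)
    (M := PowerSeries B ⧸ J) 𝔪 (IsLocalRing.maximalIdeal.isMaximal _).ne_top
  have hmem : (Submodule.Quotient.mk (σ r - r) : PowerSeries B ⧸ J) ∈
      (⨅ i : ℕ, 𝔪 ^ i • ⊤ : Submodule (PowerSeries B) (PowerSeries B ⧸ J)) := by
    rw [Submodule.mem_iInf]
    intro N
    obtain ⟨s, hs⟩ := exists_trunc N r
    have hq := poly_mem_fixSub σ J hC hX (PowerSeries.trunc N r)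
    rw [mem_fixSub] at hq
    set q : PowerSeries B := ((PowerSeries.trunc N r : Polynomial B) : PowerSeries B) with hqdef
    have hb : σ (X ^ N * s) - X ^ N * s ∈ 𝔪 ^ N := by
      rw [map_mul, map_pow]
      exact Ideal.sub_mem _ (Ideal.mul_mem_right _ _ (Ideal.pow_mem_pow hσX N))
        (Ideal.mul_mem_right _ _ (Ideal.pow_mem_pow X_mem_max N))
    have hsplit : σ r - r = (σ q - q) + (σ (X ^ N * s) - X ^ N * s) := by
      conv_lhs => rw [hs]
      rw [map_add]
      ring
    rw [hsplit, Submodule.Quotient.mk_add, (Submodule.Quotient.mk_eq_zero J).2 hq, zero_add]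
    have h1 : (Submodule.Quotient.mk (σ (X ^ N * s) - X ^ N * s) : PowerSeries B ⧸ J) =
        (σ (X ^ N * s) - X ^ N * s) • (Submodule.Quotient.mk 1 : PowerSeries B ⧸ J) := by
      rw [← Submodule.Quotient.mk_smul, smul_eq_mul, mul_one]
    rw [h1]
    exact Submodule.smul_mem_smul hb Submodule.mem_top
  rw [hkrull, Submodule.mem_bot, Submodule.Quotient.mk_eq_zero] at hmem
  exact hmem

end General

section Residue

variable {B : Type u} [CommRing B] [IsDomain B] [IsDiscreteValuationRing B]

local notation "k" => IsLocalRing.ResidueField B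

/-- The reduction map `B⟦X⟧ → k⟦X⟧`. -/
noncomputable abbrev ρ : PowerSeries B →+* PowerSeries (IsLocalRing.ResidueField B) :=
  PowerSeries.map (IsLocalRing.residue B)

theorem ρ_surjective : Function.Surjective (ρ (B := B)) := by
  intro g
  refine ⟨PowerSeries.mk fun n =>
    Classical.choose (IsLocalRing.residue_surjective (PowerSeries.coeff n g)), ?_⟩
  ext n
  rw [PowerSeries.coeff_map, PowerSeries.coeff_mk]
  exact Classical.choose_spec (IsLocalRing.residue_surjective (PowerSeries.coeff n g))

theorem ker_ρ {π : B} (hπ : Irreducible π) :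
    RingHom.ker (ρ (B := B)) = Ideal.span {algebraMap B (PowerSeries B) π} := by
  have hmax : IsLocalRing.maximalIdeal B = Ideal.span {π} :=
    (IsDiscreteValuationRing.irreducible_iff_uniformizer π).1 hπ
  ext g
  rw [RingHom.mem_ker, Ideal.mem_span_singleton]
  constructor
  · intro hg
    have h1 : ∀ n, ∃ c : B, PowerSeries.coeff n g = π * c := by
      intro n
      have h2 : IsLocalRing.residue B (PowerSeries.coeff n g) = 0 := by
        have := congrArg (PowerSeries.coeff n) hg
        rwa [PowerSeries.coeff_map, map_zero] at this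
      rw [IsLocalRing.residue_eq_zero_iff, hmax, Ideal.mem_span_singleton] at h2
      exact h2
    refine ⟨PowerSeries.mk fun n => Classical.choose (h1 n), ?_⟩
    ext n
    rw [PowerSeries.algebraMap_apply, Algebra.algebraMap_self, RingHom.id_apply,
      PowerSeries.coeff_C_mul, PowerSeries.coeff_mk]
    exact Classical.choose_spec (h1 n)
  · rintro ⟨c, rfl⟩
    rw [map_mul]
    have : ρ (algebraMap B (PowerSeries B) π) = 0 := by
      rw [PowerSeries.algebraMap_apply, Algebra.algebraMap_self, RingHom.id_apply,
        PowerSeries.map_C]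
      have h3 : IsLocalRing.residue B π = 0 := by
        rw [IsLocalRing.residue_eq_zero_iff, hmax]
        exact Ideal.mem_span_singleton_self π
      rw [h3, map_zero]
    rw [this, zero_mul]

theorem algebraMap_ne_zero {π : B} (hπ : Irreducible π) : algebraMap B (PowerSeries B) π ≠ 0 := by
  intro h
  apply hπ.ne_zero
  have := congrArg PowerSeries.constantCoeff h
  rwa [PowerSeries.algebraMap_apply, Algebra.algebraMap_self, RingHom.id_apply,
    PowerSeries.constantCoeff_C, map_zero] at this

theorem prime_p {π : B} (hπ : Irreducible π) : Prime (algebraMap B (PowerSeries B) π) := by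
  rw [← Ideal.span_singleton_prime (algebraMap_ne_zero hπ), ← ker_ρ hπ]
  exact RingHom.ker_isPrime _

/-- `p` is a non-zero-divisor modulo `f` when `p ∤ f`. -/
theorem regular_mod {π : B} (hπ : Irreducible π) (f : PowerSeries B)
    (hf : ¬ algebraMap B (PowerSeries B) π ∣ f) :
    IsSMulRegular (PowerSeries B ⧸ Ideal.span ({f} : Set (PowerSeries B)))
      (algebraMap B (PowerSeries B) π) := by
  intro x y hxy
  obtain ⟨x, rfl⟩ := Ideal.Quotient.mk_surjective x
  obtain ⟨y, rfl⟩ := Ideal.Quotient.mk_surjective y
  have hxy' : Ideal.Quotient.mk (Ideal.span ({f} : Set (PowerSeries B)))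
      (algebraMap B (PowerSeries B) π * x) =
      Ideal.Quotient.mk (Ideal.span ({f} : Set (PowerSeries B)))
        (algebraMap B (PowerSeries B) π * y) := hxy
  rw [Ideal.Quotient.eq, Ideal.mem_span_singleton, ← mul_sub] at hxy'
  rw [Ideal.Quotient.eq, Ideal.mem_span_singleton]
  obtain ⟨w, hw⟩ := hxy'
  have hp := prime_p hπ
  have h1 : algebraMap B (PowerSeries B) π ∣ f * w := ⟨x - y, hw.symm⟩
  rcases hp.dvd_or_dvd h1 with h2 | h2
  · exact absurd h2 hf
  · obtain ⟨w', rfl⟩ := h2
    refine ⟨w', ?_⟩
    have h3 : algebraMap B (PowerSeries B) π * (x - y) =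
        algebraMap B (PowerSeries B) π * (f * w') := by rw [hw]; ring
    exact mul_left_cancel₀ (algebraMap_ne_zero hπ) h3

end Residue

section Length

variable {B : Type u} [CommRing B] [IsDomain B] [IsDiscreteValuationRing B]
  {π : B} (hπ : Irreducible π) (f : PowerSeries B)
  (hf : ¬ algebraMap B (PowerSeries B) π ∣ f)

include hπ hf in
theorem length_succ (m : ℕ) :
    Module.length (PowerSeries B) (PowerSeries B ⧸
        Ideal.span ({algebraMap B (PowerSeries B) π ^ (m + 1), f} : Set (PowerSeries B))) =
      Module.length (PowerSeries B) (PowerSeries B ⧸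
        Ideal.span ({algebraMap B (PowerSeries B) π, f} : Set (PowerSeries B))) +
      Module.length (PowerSeries B) (PowerSeries B ⧸
        Ideal.span ({algebraMap B (PowerSeries B) π ^ m, f} : Set (PowerSeries B))) := by
  have h := Groth.Agent.S15315.result (PowerSeries B) (algebraMap B (PowerSeries B) π) f
    (Ideal.span {algebraMap B (PowerSeries B) π ^ m}) (regular_mod hπ f hf)
  have e1 : Ideal.span {algebraMap B (PowerSeries B) π} *
      Ideal.span {algebraMap B (PowerSeries B) π ^ m} ⊔ Ideal.span {f} =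
      Ideal.span {algebraMap B (PowerSeries B) π ^ (m + 1), f} := by
    rw [Ideal.span_singleton_mul_span_singleton, ← pow_succ', Ideal.span_insert]
  have e2 : Ideal.span {algebraMap B (PowerSeries B) π ^ m} ⊔ Ideal.span {f} =
      Ideal.span {algebraMap B (PowerSeries B) π ^ m, f} := by
    rw [Ideal.span_insert]
  rw [← (Submodule.quotEquivOfEq _ _ e1).length_eq, ← (Submodule.quotEquivOfEq _ _ e2).length_eq]
  exact h

include hπ hf in
theorem length_pow (m : ℕ) :
    Module.length (PowerSeries B) (PowerSeries B ⧸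
        Ideal.span ({algebraMap B (PowerSeries B) π ^ m, f} : Set (PowerSeries B))) =
      (m : ℕ∞) * Module.length (PowerSeries B) (PowerSeries B ⧸
        Ideal.span ({algebraMap B (PowerSeries B) π, f} : Set (PowerSeries B))) := by
  induction m with
  | zero =>
    rw [Nat.cast_zero, zero_mul, Module.length_eq_zero_iff, pow_zero,
      Ideal.Quotient.subsingleton_iff, Ideal.eq_top_iff_one]
    exact Ideal.subset_span (Set.mem_insert _ _)
  | succ m ih =>
    rw [length_succ hπ f hf, ih, Nat.cast_succ, add_mul, one_mul, add_comm]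

include hπ in
theorem length_one :
    Module.length (PowerSeries B) (PowerSeries B ⧸
        Ideal.span ({algebraMap B (PowerSeries B) π, f} : Set (PowerSeries B))) =
      Module.length (PowerSeries (IsLocalRing.ResidueField B))
        (PowerSeries (IsLocalRing.ResidueField B) ⧸
          Ideal.span ({PowerSeries.map (IsLocalRing.residue B) f} :
            Set (PowerSeries (IsLocalRing.ResidueField B)))) := by
  letI : Algebra (PowerSeries B) (PowerSeries (IsLocalRing.ResidueField B)) := (ρ (B := B)).toAlgebra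
  have halg : ∀ r : PowerSeries B,
      algebraMap (PowerSeries B) (PowerSeries (IsLocalRing.ResidueField B)) r = ρ r := fun _ => rfl
  have hsurj : Function.Surjective
      (algebraMap (PowerSeries B) (PowerSeries (IsLocalRing.ResidueField B))) := ρ_surjective
  rw [← Module.length_eq_of_surjective (S := PowerSeries B)
    (R := PowerSeries (IsLocalRing.ResidueField B))
    (M := PowerSeries (IsLocalRing.ResidueField B) ⧸
      Ideal.span ({ρ f} : Set (PowerSeries (IsLocalRing.ResidueField B)))) hsurj]
  apply LinearEquiv.length_eq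
  let g : PowerSeries B →ₗ[PowerSeries B] (PowerSeries (IsLocalRing.ResidueField B) ⧸
      Ideal.span ({ρ f} : Set (PowerSeries (IsLocalRing.ResidueField B)))) :=
    ((Ideal.span ({ρ f} : Set (PowerSeries (IsLocalRing.ResidueField B)))).mkQ.restrictScalars
      (PowerSeries B)) ∘ₗ (Algebra.linearMap (PowerSeries B) (PowerSeries (IsLocalRing.ResidueField B)))
  have hgapp : ∀ r, g r = Ideal.Quotient.mk _ (ρ r) := fun _ => rfl
  have hg : Function.Surjective g := by
    intro y
    obtain ⟨y, rfl⟩ := Ideal.Quotient.mk_surjective y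
    obtain ⟨r, rfl⟩ := ρ_surjective y
    exact ⟨r, rfl⟩
  have hρp : ρ (algebraMap B (PowerSeries B) π) = 0 := by
    have : algebraMap B (PowerSeries B) π ∈ RingHom.ker (ρ (B := B)) := by
      rw [ker_ρ hπ]
      exact Ideal.mem_span_singleton_self _
    exact this
  have hker : LinearMap.ker g =
      Ideal.span ({algebraMap B (PowerSeries B) π, f} : Set (PowerSeries B)) := by
    ext r
    rw [LinearMap.mem_ker, hgapp, Ideal.Quotient.eq_zero_iff_mem, Ideal.mem_span_singleton,
      Ideal.mem_span_pair]
    constructor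
    · rintro ⟨c, hc⟩
      obtain ⟨c', rfl⟩ := ρ_surjective c
      have h1 : r - f * c' ∈ RingHom.ker (ρ (B := B)) := by
        rw [RingHom.mem_ker, map_sub, map_mul, hc, sub_self]
      rw [ker_ρ hπ, Ideal.mem_span_singleton] at h1
      obtain ⟨a, ha⟩ := h1
      refine ⟨a, c', ?_⟩
      rw [mul_comm a, ← ha]
      ring
    · rintro ⟨a, b, rfl⟩
      refine ⟨ρ b, ?_⟩
      rw [map_add, map_mul, map_mul, hρp, mul_zero, zero_add, mul_comm]
  exact (Submodule.quotEquivOfEq _ _ hker.symm).trans (g.quotKerEquivOfSurjective hg)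

end Length

theorem main (B : Type u) [CommRing B] [IsDomain B] [IsDiscreteValuationRing B] (π : B)
    (hπ : Irreducible π) (j i : ℕ) (hi : 0 < i) (hij : i < j) (γ : B) (hγ : IsUnit γ)
    (σ : PowerSeries B ≃+* PowerSeries B)
    (hσB : ∀ b : B, σ (algebraMap B (PowerSeries B) b) - algebraMap B (PowerSeries B) b ∈
      Ideal.span ({algebraMap B (PowerSeries B) (π ^ j)} : Set (PowerSeries B)))
    (hσπ : σ (algebraMap B (PowerSeries B) π) = algebraMap B (PowerSeries B) (π + γ * π ^ j))
    (f : PowerSeries B)
    (hf : σ PowerSeries.X - PowerSeries.X = algebraMap B (PowerSeries B) (π ^ i) * f)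
    (hfπ : ¬ (algebraMap B (PowerSeries B) π ∣ f)) :
    Module.length (PowerSeries B) (PowerSeries B ⧸ (ArLef.fixIdeal σ).colon
        ({algebraMap B (PowerSeries B) (π ^ i)} : Set (PowerSeries B))) =
      ((j - i : ℕ) : ℕ∞) * Module.length (PowerSeries (IsLocalRing.ResidueField B))
        (PowerSeries (IsLocalRing.ResidueField B) ⧸
          Ideal.span ({PowerSeries.map (IsLocalRing.residue B) f} :
            Set (PowerSeries (IsLocalRing.ResidueField B)))) := by
  have hpi : algebraMap B (PowerSeries B) (π ^ i) = algebraMap B (PowerSeries B) π ^ i :=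
    map_pow _ _ _
  have hpj : algebraMap B (PowerSeries B) (π ^ j) = algebraMap B (PowerSeries B) π ^ j :=
    map_pow _ _ _
  set p := algebraMap B (PowerSeries B) π with hp
  set J : Ideal (PowerSeries B) := Ideal.span {p ^ j, p ^ i * f} with hJ
  have hpm : p ∈ IsLocalRing.maximalIdeal (PowerSeries B) := C_mem_max hπ.not_isUnit
  have hC : ∀ b : B, σ (algebraMap B (PowerSeries B) b) - algebraMap B (PowerSeries B) b ∈ J := by
    intro b
    have h1 := hσB b
    rw [hpj] at h1
    exact Ideal.span_mono (Set.singleton_subset_iff.2 (Set.mem_insert _ _)) h1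
  have hX : σ X - X ∈ J := by
    rw [hf, hpi]
    exact Ideal.subset_span (Set.mem_insert_of_mem _ rfl)
  have hσX : σ X ∈ IsLocalRing.maximalIdeal (PowerSeries B) := by
    have h1 : σ X = X + p ^ i * f := by rw [← hpi, ← hf]; ring
    rw [h1]
    exact Ideal.add_mem _ X_mem_max (Ideal.mul_mem_right _ _ (Ideal.pow_mem_of_mem _ hpm i hi))
  have hfix : ArLef.fixIdeal σ = J := by
    apply le_antisymm
    · rw [ArLef.fixIdeal, Ideal.span_le]
      rintro _ ⟨r, rfl⟩
      exact all_mem_fixSub σ J hC hX hσX r
    · rw [hJ, Ideal.span_le]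
      intro x hx
      rcases hx with rfl | hx
      · have h1 : σ p - p ∈ ArLef.fixIdeal σ := Ideal.subset_span ⟨p, rfl⟩
        have h2 : σ p - p = algebraMap B (PowerSeries B) γ * p ^ j := by
          rw [hσπ, map_add, map_mul, hpj]
          ring
        rw [h2] at h1
        exact (Ideal.unit_mul_mem_iff_mem _ (hγ.map (algebraMap B (PowerSeries B)))).1 h1
      · rw [Set.mem_singleton_iff] at hx
        rw [hx, ← hpi, ← hf]
        exact Ideal.subset_span ⟨X, rfl⟩
  have hcolon : (ArLef.fixIdeal σ).colon
      ({algebraMap B (PowerSeries B) (π ^ i)} : Set (PowerSeries B)) =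
      Ideal.span {p ^ (j - i), f} := by
    ext r
    rw [hfix, Submodule.mem_colon_singleton, hpi, smul_eq_mul, hJ, Ideal.mem_span_pair,
      Ideal.mem_span_pair]
    have hpj' : p ^ j = p ^ (j - i) * p ^ i := by rw [← pow_add, Nat.sub_add_cancel hij.le]
    have hpi0 : p ^ i ≠ 0 := pow_ne_zero _ (algebraMap_ne_zero hπ)
    constructor
    · rintro ⟨a, b, hab⟩
      refine ⟨a, b, ?_⟩
      apply mul_right_cancel₀ hpi0
      rw [← hab, hpj']
      ring
    · rintro ⟨a, b, hab⟩
      refine ⟨a, b, ?_⟩
      rw [← hab, hpj']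
      ring
  rw [(Submodule.quotEquivOfEq _ _ hcolon).length_eq, length_pow hπ f hfπ, length_one hπ f]

end Groth.Agent.Helper29.FixPS
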