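import Mathlib
import Groth.Agent.Lib.Helper29.LeadRLR1

/-! Regular local rings: minimal generators form a regular sequence; lifting regularity. -/

namespace Groth.Agent.Helper29.LeadCopy.RLR

open IsLocalRing Ideal RingTheory.Sequence

universe u
variable {R : Type u} [CommRing R]

theorem maximalIdeal_quotient_eq [IsLocalRing R] (x : R)
    {n : ℕ} (y : Fin n → R) (h : Ideal.span (insert x (Set.range y)) = maximalIdeal R)
    [IsLocalRing (R ⧸ Ideal.span {x})] :
    maximalIdeal (R ⧸ Ideal.span {x}) =
      Ideal.span (Set.range ((Ideal.Quotient.mk (Ideal.span {x})) ∘ y)) := by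
  rw [← map_maximalIdeal_of_surjective (Ideal.Quotient.mk (Ideal.span {x}))
    Ideal.Quotient.mk_surjective, ← h, Ideal.map_span, Set.image_insert_eq, Set.range_comp]
  have h0 : (Ideal.Quotient.mk (Ideal.span {x})) x = 0 :=
    Ideal.Quotient.eq_zero_iff_mem.mpr (Ideal.subset_span rfl)
  rw [h0]
  exact Submodule.span_insert_zero

/-- `R ⧸ x • ⊤ ≃ R ⧸ span {x}` as `R`-modules. -/
noncomputable def quotSMulTopEquiv (x : R) : QuotSMulTop x R ≃ₗ[R] (R ⧸ Ideal.span {x}) :=
  Submodule.quotEquivOfEq _ _ (by
    rw [← Submodule.ideal_span_singleton_smul]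
    simp)

theorem isWeaklyRegular_aux : ∀ (d : ℕ) (R : Type u) [CommRing R] [IsRegularLocalRing R]
    (x : Fin d → R), (maximalIdeal R).spanFinrank = d →
    Ideal.span (Set.range x) = maximalIdeal R → IsWeaklyRegular R (List.ofFn x) := by
  intro d
  induction d with
  | zero =>
    intro R _ _ x _ _
    simp only [List.ofFn_zero]
    exact IsWeaklyRegular.nil R R
  | succ n ih =>
    intro R _ _ x hd hx
    haveI := isDomain R
    set x0 := x 0 with hx0
    set y : Fin n → R := Fin.tail x with hy
    have hspan : Ideal.span (insert x0 (Set.range y)) = maximalIdeal R := by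
      rw [← hx, Fin.range_fin_succ]
    have hxm : x0 ∈ maximalIdeal R := mem_maximalIdeal_of_span_insert hspan
    haveI := isLocalRing_quotient (span_singleton_ne_top hxm)
    obtain ⟨hreg, hdimQ⟩ := isRegularLocalRing_quotient_aux x0 y hspan hd
    haveI := hreg
    have hne : x0 ≠ 0 := by
      intro h0
      have h1 : Ideal.span (Set.range y) = maximalIdeal R := by
        rw [← hspan, h0]
        exact Submodule.span_insert_zero.symm
      have h2 := (Submodule.spanFinrank_span_le_ncard_of_finite (R := R)
        (Set.finite_range y)).trans (ncard_range_le y)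
      have h3 : Submodule.span R (Set.range y) = maximalIdeal R := h1
      rw [h3, hd] at h2
      omega
    have hIH := ih (R ⧸ Ideal.span {x0}) ((Ideal.Quotient.mk (Ideal.span {x0})) ∘ y)
      (spanFinrank_maximalIdeal_eq_of_dim hdimQ) (maximalIdeal_quotient_eq x0 y hspan).symm
    rw [List.ofFn_succ]
    rw [isWeaklyRegular_cons_iff]
    refine ⟨?_, ?_⟩
    · intro a b hab
      exact mul_left_cancel₀ hne hab
    · rw [(quotSMulTopEquiv x0).isWeaklyRegular_congr]
      rw [← isWeaklyRegular_map_algebraMap_iff (R ⧸ Ideal.span {x0})]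
      rw [List.map_ofFn]
      exact hIH

theorem isRegular_ofFn [IsRegularLocalRing R] {d : ℕ} (hd : ringKrullDim R = d) (x : Fin d → R)
    (hx : Ideal.span (Set.range x) = maximalIdeal R) : IsRegular R (List.ofFn x) := by
  apply IsRegular.of_isWeaklyRegular_of_mem_maximalIdeal
  · intro r hr
    rw [List.mem_ofFn] at hr
    obtain ⟨i, rfl⟩ := hr
    rw [← hx]
    exact Ideal.subset_span ⟨i, rfl⟩
  · exact isWeaklyRegular_aux d R x (spanFinrank_maximalIdeal_eq_of_dim hd) hx

end Groth.Agent.Helper29.LeadCopy.RLR
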