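import Mathlib
import Groth.Agent.Lib.Helper29.LeadRLR4

/-! Regular local rings: quotients that are regular are cut out by part of a regular system of
parameters. -/

namespace Groth.Agent.Helper29.LeadCopy.RLR

open IsLocalRing Ideal RingTheory.Sequence

universe u
variable {R : Type u} [CommRing R]

theorem isRegularLocalRing_quotient_span_range [IsRegularLocalRing R] {c e : ℕ}
    (z : Fin (c + e) → R) (hz : Ideal.span (Set.range z) = maximalIdeal R)
    (hd : (maximalIdeal R).spanFinrank = c + e)
    [IsLocalRing (R ⧸ Ideal.span (Set.range (fun i : Fin c => z (Fin.castAdd e i))))] :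
    IsRegularLocalRing (R ⧸ Ideal.span (Set.range (fun i : Fin c => z (Fin.castAdd e i)))) ∧
      ringKrullDim (R ⧸ Ideal.span (Set.range (fun i : Fin c => z (Fin.castAdd e i)))) = e := by
  set J := Ideal.span (Set.range (fun i : Fin c => z (Fin.castAdd e i))) with hJ
  set f := Ideal.Quotient.mk J with hf
  have hfs : Function.Surjective f := Ideal.Quotient.mk_surjective
  have hJc : J.spanFinrank ≤ c :=
    (Submodule.spanFinrank_span_le_ncard_of_finite (Set.finite_range _)).trans (ncard_range_le _)
  have hJm : J ≤ maximalIdeal R := by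
    rw [← hz]
    apply Ideal.span_mono
    rintro _ ⟨i, rfl⟩
    exact ⟨_, rfl⟩
  have hmax : maximalIdeal (R ⧸ J) ≤
      Ideal.span (Set.range (fun j : Fin e => f (z (Fin.natAdd c j)))) := by
    rw [← map_maximalIdeal_of_surjective f hfs, ← hz, Ideal.map_span, Ideal.span_le]
    rintro _ ⟨_, ⟨i, rfl⟩, rfl⟩
    induction i using Fin.addCases with
    | left i =>
      have : f (z (Fin.castAdd e i)) = 0 :=
        Ideal.Quotient.eq_zero_iff_mem.mpr (Ideal.subset_span ⟨i, rfl⟩)
      rw [this]
      exact Ideal.zero_mem _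
    | right j => exact Ideal.subset_span ⟨j, rfl⟩
  have hge : Ideal.span (Set.range (fun j : Fin e => f (z (Fin.natAdd c j)))) ≤
      maximalIdeal (R ⧸ J) := by
    rw [← map_maximalIdeal_of_surjective f hfs, ← hz, Ideal.map_span]
    apply Ideal.span_mono
    rintro _ ⟨j, rfl⟩
    exact ⟨_, ⟨_, rfl⟩, rfl⟩
  have hme : (maximalIdeal (R ⧸ J)).spanFinrank ≤ e := by
    have e1 : Submodule.span (R ⧸ J) (Set.range (fun j : Fin e => f (z (Fin.natAdd c j)))) =
        maximalIdeal (R ⧸ J) := le_antisymm hge hmax
    rw [← e1]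
    exact (Submodule.spanFinrank_span_le_ncard_of_finite (Set.finite_range _)).trans
      (ncard_range_le _)
  have hdimR : ringKrullDim R = ((c + e : ℕ) : WithBot ℕ∞) := by
    rw [← IsRegularLocalRing.spanFinrank_maximalIdeal, hd]
  have hK : ringKrullDim R ≤ ringKrullDim (R ⧸ J) + J.spanFinrank :=
    ringKrullDim_le_ringKrullDim_quotient_add_spanFinrank _
      (by rw [ringJacobson_eq_maximalIdeal]; exact hJm)
  obtain ⟨e', he, hek⟩ := exists_nat_of_le (ringKrullDim_nonneg_of_nontrivial)
    (ringKrullDim_le_spanFinrank_maximalIdeal (R ⧸ J))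
  rw [hdimR, he] at hK
  have hK' : c + e ≤ e' + J.spanFinrank := by exact_mod_cast hK
  have hen : e' = e := by omega
  constructor
  · apply IsRegularLocalRing.of_spanFinrank_maximalIdeal_le
    rw [he]
    exact_mod_cast (by omega : (maximalIdeal (R ⧸ J)).spanFinrank ≤ e')
  · rw [he, hen]

theorem residue_smul_toCotangent [IsLocalRing R] (r : R) (a : maximalIdeal R) :
    (residue R r) • ((maximalIdeal R).toCotangent a : CotangentSpace R) =
      (maximalIdeal R).toCotangent (r • a) := by
  rw [map_smul]
  exact IsScalarTower.algebraMap_smul (ResidueField R) r _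

theorem exists_generators_adapted [IsLocalRing R] [IsNoetherianRing R] (I : Ideal R)
    (hI : I ≤ maximalIdeal R) :
    ∃ (c e : ℕ) (z : Fin (c + e) → R), c + e = (maximalIdeal R).spanFinrank ∧
      Ideal.span (Set.range z) = maximalIdeal R ∧ (∀ i : Fin c, z (Fin.castAdd e i) ∈ I) ∧
      I ≤ Ideal.span (Set.range (fun i : Fin c => z (Fin.castAdd e i))) ⊔ maximalIdeal R ^ 2 := by
  classical
  let k := ResidueField R
  let V := CotangentSpace R
  let S : Set V := (maximalIdeal R).toCotangent '' {a : maximalIdeal R | (a : R) ∈ I}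
  let W : Submodule k V := Submodule.span k S
  have hWS : ∀ w ∈ W, ∃ a : maximalIdeal R, (a : R) ∈ I ∧ (maximalIdeal R).toCotangent a = w := by
    intro w hw
    induction hw using Submodule.span_induction with
    | mem w hw =>
      obtain ⟨a, ha, rfl⟩ := hw
      exact ⟨a, ha, rfl⟩
    | zero => exact ⟨0, I.zero_mem, map_zero _⟩
    | add w1 w2 _ _ h1 h2 =>
      obtain ⟨a1, ha1, rfl⟩ := h1
      obtain ⟨a2, ha2, rfl⟩ := h2
      exact ⟨a1 + a2, I.add_mem ha1 ha2, map_add _ _ _⟩
    | smul t w _ h =>
      obtain ⟨a, ha, rfl⟩ := h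
      obtain ⟨r, rfl⟩ := IsLocalRing.residue_surjective t
      exact ⟨r • a, I.mul_mem_left r ha, (residue_smul_toCotangent r a).symm⟩
  let bW := Module.finBasis k W
  let bQ := Module.finBasis k (V ⧸ W)
  set c := Module.finrank k W with hc
  set e := Module.finrank k (V ⧸ W) with he
  have hce : c + e = Module.finrank k V := by
    have := Submodule.finrank_quotient_add_finrank W
    omega
  choose x hxI hx using fun i : Fin c => hWS (bW i) (bW i).2
  have hsurj : ∀ j : Fin e, ∃ b : maximalIdeal R, W.mkQ ((maximalIdeal R).toCotangent b) = bQ j := by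
    intro j
    obtain ⟨w, hw⟩ := W.mkQ_surjective (bQ j)
    obtain ⟨b, hb⟩ := (maximalIdeal R).toCotangent_surjective w
    exact ⟨b, by rw [hb, hw]⟩
  choose y hy using hsurj
  let zm : Fin (c + e) → maximalIdeal R := Fin.append x y
  refine ⟨c, e, fun i => (zm i : R), ?_, ?_, ?_, ?_⟩
  · rw [spanFinrank_maximalIdeal_eq_finrank_cotangentSpace]; exact hce
  · have hW' : Submodule.span k ((maximalIdeal R).toCotangent '' (Set.range zm)) = ⊤ := by
      rw [eq_top_iff]
      intro u _
      set W' := Submodule.span k ((maximalIdeal R).toCotangent '' (Set.range zm)) with hW'def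
      have hLW : W ≤ W' := by
        have h1 : Submodule.map W.subtype (Submodule.span k (Set.range bW)) = W := by
          rw [bW.span_eq, Submodule.map_top, Submodule.range_subtype]
        rw [← h1, Submodule.map_span, Submodule.span_le]
        rintro _ ⟨_, ⟨i, rfl⟩, rfl⟩
        apply Submodule.subset_span
        refine ⟨x i, ⟨Fin.castAdd e i, ?_⟩, hx i⟩
        simp [zm]
      have hmap : W'.map W.mkQ = ⊤ := by
        rw [eq_top_iff, ← bQ.span_eq, Submodule.span_le]
        rintro _ ⟨j, rfl⟩
        refine ⟨(maximalIdeal R).toCotangent (y j),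
          Submodule.subset_span ⟨y j, ⟨Fin.natAdd c j, ?_⟩, rfl⟩, hy j⟩
        simp [zm]
      have hu : W.mkQ u ∈ W'.map W.mkQ := hmap ▸ Submodule.mem_top
      obtain ⟨w, hwW, hwu⟩ := hu
      have hsub : u - w ∈ W := by
        rw [← Submodule.Quotient.mk_eq_zero, Submodule.Quotient.mk_sub, sub_eq_zero]
        exact hwu.symm
      have := W'.add_mem (hLW hsub) hwW
      rwa [sub_add_cancel] at this
    have hS := CotangentSpace.span_image_eq_top_iff.mp hW'
    have h3 := congrArg (Submodule.map (maximalIdeal R).subtype) hS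
    rw [Submodule.map_span, Submodule.map_top, Submodule.range_subtype] at h3
    refine Eq.trans ?_ h3
    congr 1
    rw [← Set.range_comp]
    rfl
  · intro i
    have : zm (Fin.castAdd e i) = x i := by simp [zm]
    show (zm (Fin.castAdd e i) : R) ∈ I
    rw [this]
    exact hxI i
  · intro a haI
    have ham : a ∈ maximalIdeal R := hI haI
    have hwW : (maximalIdeal R).toCotangent ⟨a, ham⟩ ∈ W :=
      Submodule.subset_span ⟨⟨a, ham⟩, haI, rfl⟩
    have hrepr := bW.sum_repr ⟨_, hwW⟩
    have hlift : ∀ i : Fin c, ∃ r : R, residue R r = bW.repr ⟨_, hwW⟩ i :=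
      fun i => IsLocalRing.residue_surjective _
    choose r hr using hlift
    have h1 : (maximalIdeal R).toCotangent ⟨a, ham⟩ =
        (maximalIdeal R).toCotangent (∑ i, r i • x i) := by
      have h2 := congrArg W.subtype hrepr
      rw [map_sum] at h2
      simp only [Submodule.subtype_apply] at h2
      rw [← h2, map_sum]
      refine Finset.sum_congr rfl fun i _ => ?_
      rw [Submodule.coe_smul, ← hr i, ← hx i]
      exact residue_smul_toCotangent (r i) (x i)
    rw [Ideal.toCotangent_eq] at h1
    have h3 : a = (∑ i, r i * (x i : R)) + (a - ∑ i, r i * (x i : R)) := by ring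
    rw [h3]
    apply Ideal.add_mem
    · apply Ideal.mem_sup_left
      apply Ideal.sum_mem
      intro i _
      apply Ideal.mul_mem_left
      apply Ideal.subset_span
      refine ⟨i, ?_⟩
      simp [zm]
    · apply Ideal.mem_sup_right
      convert h1 using 1
      simp [Submodule.coe_sum]

end Groth.Agent.Helper29.LeadCopy.RLR
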