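import Mathlib
import Groth.Agent.Lib.Helper29.LeadRLR5

/-!
# Fixed locus of a finite group of invertible order acting on a regular local ring (helper29)

`isRegularLocalRing_quotient_fixIdeal`: `A` regular local `k`-algebra with residue field `k`,
`G` finite with `|G|` invertible in `k` acting by `k`-algebra automorphisms; then `A / J` is regular,
`J` the ideal generated by the `g • a - a`.
-/

namespace Groth.Agent.Helper29.FixedLocus

open IsLocalRing

universe u

section Avg

variable (k : Type u) [Field k] {A : Type u} [CommRing A] [Algebra k A]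
  (G : Type u) [Group G] [Fintype G] [MulSemiringAction G A] [SMulCommClass G k A]

/-- the averaging operator -/
noncomputable def avg : A →ₗ[k] A :=
  ((Fintype.card G : k)⁻¹) • ∑ g : G, DistribSMul.toLinearMap k A g

theorem avg_apply (a : A) : avg k G a = ((Fintype.card G : k)⁻¹) • ∑ g : G, g • a := by
  simp only [avg, LinearMap.smul_apply, LinearMap.sum_apply]
  rfl

theorem smul_avg (g : G) (a : A) : g • avg k G a = avg k G a := by
  rw [avg_apply, smul_comm, Finset.smul_sum]
  congr 1
  simp only [smul_smul]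
  exact Fintype.sum_equiv (Equiv.mulLeft g) _ _ (fun h => rfl)

theorem avg_smul (g : G) (a : A) : avg k G (g • a) = avg k G a := by
  rw [avg_apply, avg_apply]
  congr 1
  simp only [smul_smul]
  exact Fintype.sum_equiv (Equiv.mulRight g) _ _ (fun h => rfl)

variable {k G}

theorem avg_of_fixed (hG : (Fintype.card G : k) ≠ 0) {a : A} (ha : ∀ g : G, g • a = a) :
    avg k G a = a := by
  rw [avg_apply]
  simp only [ha, Finset.sum_const, Finset.card_univ]
  rw [← Nat.cast_smul_eq_nsmul k, smul_smul, inv_mul_cancel₀ hG, one_smul]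

theorem avg_mul_of_fixed {b : A} (hb : ∀ g : G, g • b = b) (a : A) :
    avg k G (b * a) = b * avg k G a := by
  rw [avg_apply, avg_apply]
  simp only [smul_mul', hb]
  rw [← Finset.mul_sum, mul_smul_comm]

theorem sub_avg_mem (hG : (Fintype.card G : k) ≠ 0) (J : Ideal A)
    (hJ : ∀ (g : G) (a : A), g • a - a ∈ J) (a : A) : a - avg k G a ∈ J := by
  have h1 : a - avg k G a = -(((Fintype.card G : k)⁻¹) • ∑ g : G, (g • a - a)) := by
    rw [avg_apply, Finset.sum_sub_distrib, Finset.sum_const, Finset.card_univ, smul_sub,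
      ← Nat.cast_smul_eq_nsmul k, smul_smul, inv_mul_cancel₀ hG, one_smul, neg_sub]
  rw [h1, Algebra.smul_def]
  exact J.neg_mem (J.mul_mem_left _ (J.sum_mem (fun g _ => hJ g a)))

theorem avg_mem_of_stable (S : Ideal A) (hS : ∀ (g : G), ∀ s ∈ S, g • s ∈ S) {a : A}
    (ha : a ∈ S) : avg k G a ∈ S := by
  rw [avg_apply, Algebra.smul_def]
  exact S.mul_mem_left _ (S.sum_mem (fun g _ => hS g a ha))

end Avg

section Fix

variable {k : Type u} [Field k] {A : Type u} [CommRing A] [Algebra k A]
  {G : Type u} [Group G] [MulSemiringAction G A] [SMulCommClass G k A]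

/-- the ideal of the fixed locus -/
def fixIdeal (G : Type u) (A : Type u) [CommRing A] [Group G] [MulSemiringAction G A] : Ideal A :=
  Ideal.span {x : A | ∃ (g : G) (a : A), x = g • a - a}

theorem smul_mem_fixIdeal (g : G) {a : A} (ha : a ∈ fixIdeal G A) : g • a ∈ fixIdeal G A := by
  have hle : fixIdeal G A ≤ (fixIdeal G A).comap (MulSemiringAction.toRingHom G A g) := by
    apply Ideal.span_le.2
    rintro _ ⟨h, b, rfl⟩
    show MulSemiringAction.toRingHom G A g (h • b - b) ∈ fixIdeal G A
    rw [MulSemiringAction.toRingHom_apply, smul_sub]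
    have e : g • h • b = (g * h * g⁻¹) • (g • b) := by simp [smul_smul]
    rw [e]
    exact Ideal.subset_span ⟨g * h * g⁻¹, g • b, rfl⟩
  exact hle ha

variable [IsLocalRing A]

theorem smul_mem_maximalIdeal (g : G) {a : A} (ha : a ∈ maximalIdeal A) :
    g • a ∈ maximalIdeal A := by
  rw [mem_maximalIdeal, mem_nonunits_iff] at ha ⊢
  intro hu
  apply ha
  have h := hu.map (MulSemiringAction.toRingHom G A g⁻¹)
  rwa [MulSemiringAction.toRingHom_apply, inv_smul_smul] at h

theorem fixIdeal_le (hres : Function.Surjective (algebraMap k (ResidueField A))) :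
    fixIdeal G A ≤ maximalIdeal A := by
  apply Ideal.span_le.2
  rintro _ ⟨g, a, rfl⟩
  obtain ⟨c, hc⟩ := hres (residue A a)
  have hm : a - algebraMap k A c ∈ maximalIdeal A := by
    rw [← residue_eq_zero_iff, map_sub, ← hc, sub_eq_zero]
    exact (IsScalarTower.algebraMap_apply k A (ResidueField A) c)
  have e : g • a - a = g • (a - algebraMap k A c) - (a - algebraMap k A c) := by
    rw [smul_sub, smul_algebraMap]
    ring
  rw [e]
  exact Ideal.sub_mem _ (smul_mem_maximalIdeal g hm) hm

theorem key [Fintype G] (hG : (Fintype.card G : k) ≠ 0)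
    (hres : Function.Surjective (algebraMap k (ResidueField A))) :
    fixIdeal G A ⊓ maximalIdeal A ^ 2 ≤ maximalIdeal A • fixIdeal G A := by
  have hJM : fixIdeal G A ≤ maximalIdeal A := fixIdeal_le hres
  have hPst : ∀ g : G, ∀ s ∈ maximalIdeal A • fixIdeal G A,
      g • s ∈ maximalIdeal A • fixIdeal G A := by
    intro g s hs
    refine Submodule.smul_induction_on hs ?_ ?_
    · intro m hm j hj
      rw [show m • j = m * j from rfl, smul_mul']
      exact Ideal.mul_mem_mul (smul_mem_maximalIdeal g hm) (smul_mem_fixIdeal g hj)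
    · intro x y hx hy
      rw [smul_add]
      exact Ideal.add_mem _ hx hy
  have hMst : ∀ g : G, ∀ s ∈ maximalIdeal A, g • s ∈ maximalIdeal A :=
    fun g s hs => smul_mem_maximalIdeal g hs
  have hJJ : ∀ a ∈ fixIdeal G A, ∀ b ∈ fixIdeal G A,
      a * b ∈ maximalIdeal A • fixIdeal G A :=
    fun a ha b hb => Ideal.mul_mem_mul (hJM ha) hb
  have hdiff : ∀ a : A, a - avg k G a ∈ fixIdeal G A :=
    sub_avg_mem hG _ (fun g a => Ideal.subset_span ⟨g, a, rfl⟩)
  have step1 : ∀ a ∈ fixIdeal G A, avg k G a ∈ maximalIdeal A • fixIdeal G A := by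
    intro a ha
    have ha' : a ∈ Submodule.span A {x : A | ∃ (g : G) (a : A), x = g • a - a} := ha
    induction ha' using Submodule.span_induction with
    | mem x hx =>
      obtain ⟨g, b, rfl⟩ := hx
      rw [map_sub, avg_smul, sub_self]
      exact Ideal.zero_mem _
    | zero => rw [map_zero]; exact Ideal.zero_mem _
    | add x y hx hy ihx ihy =>
      rw [map_add]
      exact Ideal.add_mem _ (ihx hx) (ihy hy)
    | smul c x hx ih =>
      have e : c • x = avg k G c * x + (c - avg k G c) * x := by
        rw [smul_eq_mul]; ring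
      rw [e, map_add, avg_mul_of_fixed (fun g => smul_avg k G g c)]
      apply Ideal.add_mem
      · exact Ideal.mul_mem_left _ _ (ih hx)
      · exact avg_mem_of_stable _ hPst (hJJ _ (hdiff c) x hx)
  have step2 : ∀ a ∈ maximalIdeal A ^ 2, a - avg k G a ∈ maximalIdeal A • fixIdeal G A := by
    intro a ha
    rw [pow_two] at ha
    refine Submodule.mul_induction_on ha ?_ ?_
    · intro m₁ h₁ m₂ h₂
      have he₁ : avg k G m₁ ∈ maximalIdeal A := avg_mem_of_stable _ hMst h₁
      have he₂ : avg k G m₂ ∈ maximalIdeal A := avg_mem_of_stable _ hMst h₂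
      have hQ : avg k G m₁ * (m₂ - avg k G m₂) + avg k G m₂ * (m₁ - avg k G m₁) +
          (m₁ - avg k G m₁) * (m₂ - avg k G m₂) ∈ maximalIdeal A • fixIdeal G A := by
        apply Ideal.add_mem
        · apply Ideal.add_mem
          · exact Ideal.mul_mem_mul he₁ (hdiff m₂)
          · exact Ideal.mul_mem_mul he₂ (hdiff m₁)
        · exact hJJ _ (hdiff m₁) _ (hdiff m₂)
      have hfix : avg k G (avg k G m₁ * avg k G m₂) = avg k G m₁ * avg k G m₂ := by
        rw [avg_mul_of_fixed (fun g => smul_avg k G g m₁),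
          avg_of_fixed hG (fun g => smul_avg k G g m₂)]
      have e : m₁ * m₂ = avg k G m₁ * avg k G m₂ +
          (avg k G m₁ * (m₂ - avg k G m₂) + avg k G m₂ * (m₁ - avg k G m₁) +
          (m₁ - avg k G m₁) * (m₂ - avg k G m₂)) := by ring
      rw [e, map_add, hfix, add_sub_add_left_eq_sub]
      exact Ideal.sub_mem _ hQ (avg_mem_of_stable _ hPst hQ)
    · intro x y hx hy
      have e : x + y - avg k G (x + y) = (x - avg k G x) + (y - avg k G y) := by
        rw [map_add]; ring
      rw [e]
      exact Ideal.add_mem _ hx hy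
  rintro a ⟨haJ, haM⟩
  have e : a = (a - avg k G a) + avg k G a := by ring
  rw [e]
  exact Ideal.add_mem _ (step2 a haM) (step1 a haJ)

end Fix

theorem isRegularLocalRing_quotient_fixIdeal (k : Type u) [Field k] (A : Type u) [CommRing A]
    [Algebra k A] [IsRegularLocalRing A]
    (hres : Function.Surjective (algebraMap k (IsLocalRing.ResidueField A)))
    (G : Type u) [Group G] [Finite G] [MulSemiringAction G A] [SMulCommClass G k A]
    (hG : (Nat.card G : k) ≠ 0) :
    IsRegularLocalRing (A ⧸ fixIdeal G A) := by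
  cases nonempty_fintype G
  have hG' : (Fintype.card G : k) ≠ 0 := by rwa [Nat.card_eq_fintype_card] at hG
  have hJM : fixIdeal G A ≤ maximalIdeal A := fixIdeal_le hres
  obtain ⟨c, e, z, hsum, hz, hzJ, hJle⟩ :=
    Groth.Agent.Helper29.LeadCopy.RLR.exists_generators_adapted (fixIdeal G A) hJM
  have hI₀J : Ideal.span (Set.range (fun i : Fin c => z (Fin.castAdd e i))) ≤ fixIdeal G A :=
    Ideal.span_le.2 (by rintro _ ⟨i, rfl⟩; exact hzJ i)
  have hJI₀ : fixIdeal G A ≤ Ideal.span (Set.range (fun i : Fin c => z (Fin.castAdd e i))) := by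
    apply Submodule.le_of_le_smul_of_le_jacobson_bot (IsNoetherian.noetherian _)
      (maximalIdeal_le_jacobson ⊥)
    intro j hj
    obtain ⟨i, hi, q, hq, hiq⟩ := Submodule.mem_sup.1 (hJle hj)
    have hqJ : q ∈ fixIdeal G A := by
      have h := (fixIdeal G A).sub_mem hj (hI₀J hi)
      rw [← hiq, add_sub_cancel_left] at h
      exact h
    rw [← hiq]
    exact Submodule.mem_sup.2 ⟨i, hi, q, key hG' hres ⟨hqJ, hq⟩, rfl⟩
  have hEq : fixIdeal G A = Ideal.span (Set.range (fun i : Fin c => z (Fin.castAdd e i))) :=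
    le_antisymm hJI₀ hI₀J
  rw [hEq]
  have hne : Ideal.span (Set.range (fun i : Fin c => z (Fin.castAdd e i))) ≠ ⊤ := by
    intro h
    have h2 : (⊤ : Ideal A) ≤ maximalIdeal A := h ▸ (hI₀J.trans hJM)
    exact (maximalIdeal.isMaximal A).ne_top (top_le_iff.1 h2)
  have : IsLocalRing (A ⧸ Ideal.span (Set.range (fun i : Fin c => z (Fin.castAdd e i)))) :=
    Groth.Agent.Helper29.LeadCopy.RLR.isLocalRing_quotient hne
  exact (Groth.Agent.Helper29.LeadCopy.RLR.isRegularLocalRing_quotient_span_range z hz hsum.symm).1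

end Groth.Agent.Helper29.FixedLocus
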