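import Mathlib

/-!
# Flatness of the cokernel from exactness of all `R/I ⊗ -` (helper29)

`flat_of_exact`: `P₃ → P₂ → P₁ → M → 0` exact at `M`, `P₁`, with `P₁` flat, and
`R/I ⊗ P₃ → R/I ⊗ P₂ → R/I ⊗ P₁` exact for every ideal `I`; then `M` is flat.
-/

open TensorProduct

namespace Groth.Agent.Helper29.FlatExactComplex

universe u v

variable {R : Type u} [CommRing R]

/-- `a ⊗ n ↦ a • n` on `I ⊗ N`. -/
noncomputable def mu (I : Ideal R) (N : Type v) [AddCommGroup N] [Module R N] : I ⊗[R] N →ₗ[R] N :=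
  (TensorProduct.lid R N).toLinearMap ∘ₗ LinearMap.rTensor N I.subtype

@[simp] theorem mu_tmul (I : Ideal R) (N : Type v) [AddCommGroup N] [Module R N] (a : I) (n : N) :
    mu I N (a ⊗ₜ[R] n) = (a : R) • n := by
  simp [mu]

theorem mu_natural (I : Ideal R) {N N' : Type v} [AddCommGroup N] [Module R N]
    [AddCommGroup N'] [Module R N'] (f : N →ₗ[R] N') (t : I ⊗[R] N) :
    f (mu I N t) = mu I N' (LinearMap.lTensor I f t) := by
  induction t using TensorProduct.induction_on with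
  | zero => simp
  | tmul a n => simp
  | add x y hx hy => simp only [map_add, hx, hy]

theorem mu_injective (I : Ideal R) (N : Type v) [AddCommGroup N] [Module R N] [Module.Flat R N] :
    Function.Injective (mu I N) := by
  have h : Function.Injective (LinearMap.rTensor N I.subtype) :=
    Module.Flat.rTensor_preserves_injective_linearMap (M := N) I.subtype Subtype.val_injective
  exact (TensorProduct.lid R N).injective.comp h

theorem one_tmul_mu (I : Ideal R) (N : Type v) [AddCommGroup N] [Module R N] (t : I ⊗[R] N) :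
    (1 : R ⧸ I) ⊗ₜ[R] (mu I N t) = 0 := by
  induction t using TensorProduct.induction_on with
  | zero => simp
  | tmul a n =>
    have h0 : (a : R) • (1 : R ⧸ I) = 0 := by
      rw [Algebra.smul_def, mul_one, Ideal.Quotient.algebraMap_eq, Ideal.Quotient.eq_zero_iff_mem]
      exact a.2
    rw [mu_tmul, TensorProduct.tmul_smul, TensorProduct.smul_tmul', h0, TensorProduct.zero_tmul]
  | add x y hx hy => rw [map_add, TensorProduct.tmul_add, hx, hy, add_zero]

theorem exists_one_tmul (I : Ideal R) (N : Type v) [AddCommGroup N] [Module R N]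
    (w : (R ⧸ I) ⊗[R] N) : ∃ r : N, w = (1 : R ⧸ I) ⊗ₜ[R] r := by
  induction w using TensorProduct.induction_on with
  | zero => exact ⟨0, by simp⟩
  | tmul c n =>
    obtain ⟨a, rfl⟩ := Ideal.Quotient.mk_surjective c
    refine ⟨a • n, ?_⟩
    rw [TensorProduct.tmul_smul, TensorProduct.smul_tmul', Algebra.smul_def, mul_one,
      Ideal.Quotient.algebraMap_eq]
  | add x y hx hy =>
    obtain ⟨r, rfl⟩ := hx
    obtain ⟨s, rfl⟩ := hy
    exact ⟨r + s, by rw [TensorProduct.tmul_add]⟩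

theorem exists_mu_eq_of_one_tmul_eq_zero (I : Ideal R) (N : Type v) [AddCommGroup N] [Module R N]
    (n : N) (h : (1 : R ⧸ I) ⊗ₜ[R] n = 0) : ∃ y : I ⊗[R] N, mu I N y = n := by
  have h1 : n ∈ I • (⊤ : Submodule R N) := by
    have h2 := congrArg (TensorProduct.quotTensorEquivQuotSMul N I) h
    rw [TensorProduct.quotTensorEquivQuotSMul_mk_one_tmul, map_zero,
      Submodule.Quotient.mk_eq_zero] at h2
    exact h2
  refine Submodule.smul_induction_on h1 ?_ ?_
  · intro a ha m _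
    exact ⟨(⟨a, ha⟩ : I) ⊗ₜ[R] m, by rw [mu_tmul]⟩
  · rintro x y ⟨y₁, rfl⟩ ⟨y₂, rfl⟩
    exact ⟨y₁ + y₂, map_add _ _ _⟩

/-- The core statement. -/
theorem flat_of_exact {P₁ P₂ P₃ M : Type v} [AddCommGroup P₁] [Module R P₁] [AddCommGroup P₂]
    [Module R P₂] [AddCommGroup P₃] [Module R P₃] [AddCommGroup M] [Module R M]
    [Module.Flat R P₁] (π : P₁ →ₗ[R] M) (d₂ : P₂ →ₗ[R] P₁) (d₃ : P₃ →ₗ[R] P₂)
    (hπ : Function.Surjective π) (hπd : ∀ q, π (d₂ q) = 0) (h32 : ∀ r, d₂ (d₃ r) = 0)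
    (hex1 : ∀ p, π p = 0 → ∃ q, d₂ q = p)
    (hex2 : ∀ (I : Ideal R) (z : (R ⧸ I) ⊗[R] P₂), LinearMap.lTensor (R ⧸ I) d₂ z = 0 →
      ∃ w, LinearMap.lTensor (R ⧸ I) d₃ w = z) : Module.Flat R M := by
  rw [Module.Flat.iff_rTensor_injective']
  intro I
  rw [injective_iff_map_eq_zero]
  intro x hx
  have hx' : mu I M x = 0 := by
    unfold mu
    rw [LinearMap.comp_apply, hx, map_zero]
  obtain ⟨y, rfl⟩ := LinearMap.lTensor_surjective I hπ x
  rw [← mu_natural] at hx'
  obtain ⟨q, hq⟩ := hex1 _ hx'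
  have hz : LinearMap.lTensor (R ⧸ I) d₂ ((1 : R ⧸ I) ⊗ₜ[R] q) = 0 := by
    rw [LinearMap.lTensor_tmul, hq, one_tmul_mu]
  obtain ⟨w, hw⟩ := hex2 I _ hz
  obtain ⟨r, rfl⟩ := exists_one_tmul I P₃ w
  rw [LinearMap.lTensor_tmul] at hw
  have h0 : (1 : R ⧸ I) ⊗ₜ[R] (q - d₃ r) = 0 := by
    rw [TensorProduct.tmul_sub, hw, sub_self]
  obtain ⟨y₂, hy₂⟩ := exists_mu_eq_of_one_tmul_eq_zero I P₂ _ h0
  have hyy : LinearMap.lTensor I d₂ y₂ = y := by
    apply mu_injective I P₁
    rw [← mu_natural, hy₂, map_sub, h32, sub_zero, hq]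
  rw [← hyy, ← LinearMap.comp_apply, ← LinearMap.lTensor_comp]
  have hc : π ∘ₗ d₂ = 0 := LinearMap.ext hπd
  rw [hc, LinearMap.lTensor_zero, LinearMap.zero_apply]

end Groth.Agent.Helper29.FlatExactComplex
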