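import Mathlib
import Groth.Prelude.Def_ModSite
import Groth.Agent.S1030
import Groth.Agent.S6152
import Groth.Agent.Lib.Helper29.HomColim
import Groth.Agent.Lib.Helper29.ShModGA

/-!
# Resolutions by direct sums of modules `j_{U!} O_U` on a ringed site
-/
set_option autoImplicit false
universe u
open CategoryTheory CategoryTheory.Limits Opposite ModSite

namespace Groth.Agent.Helper29.FreeOnRes

variable {C : Type u} [SmallCategory C] {J : GrothendieckTopology C} (O : Sheaf J CommRingCat.{u})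

/-- direct sums of modules `j_{U!} O_U` -/
def P : ObjectProperty (Mod O) := fun X =>
  ∃ (ι : Type u) (U : ι → C), Nonempty (X ≅ ∐ fun j => freeOn O (U j))

instance : (P O).IsClosedUnderIsomorphisms where
  of_iso e := fun ⟨ι, U, ⟨f⟩⟩ => ⟨ι, U, ⟨e.symm ≪≫ f⟩⟩

lemma isSeparating : (ObjectProperty.ofObj fun X : (Set.univ : Set C) => freeOn O (X : C)).IsSeparating :=
  (Groth.Agent.S6152.result O Set.univ (fun X => ⟨PUnit, fun _ => X, fun _ => 𝟙 X, by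
    have : Sieve.ofArrows (fun _ : PUnit.{u+1} => X) (fun _ => 𝟙 X) = ⊤ := by
      rw [← Sieve.id_mem_iff_eq_top]
      exact Sieve.ofArrows_mk _ _ PUnit.unit
    rw [this]
    exact J.top_mem X, fun _ => Set.mem_univ _⟩)).2

theorem enough (M : Mod O) : ∃ (Y : Mod O) (π : Y ⟶ M), P O Y ∧ Epi π := by
  let I : Type u := Σ U : C, (freeOn O U ⟶ M)
  refine ⟨∐ fun x : I => freeOn O x.1, Sigma.desc (fun x => x.2), ⟨I, fun x => x.1, ⟨Iso.refl _⟩⟩, ?_⟩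
  constructor
  intro Z a b hab
  refine isSeparating O _ _ (fun G hG h => ?_)
  obtain ⟨X⟩ := hG
  have := Sigma.ι (fun x : I => freeOn O x.1) ⟨X.1, h⟩ ≫= hab
  simpa using this

theorem zero_mem : ∃ Z : Mod O, IsZero Z ∧ P O Z := by
  let fam : PEmpty.{u+1} → Mod O := fun j => freeOn O (PEmpty.elim j)
  refine ⟨∐ fam, ?_, ⟨PEmpty, fun j => PEmpty.elim j, ⟨Iso.refl _⟩⟩⟩
  rw [IsZero.iff_id_eq_zero]
  exact Sigma.hom_ext _ _ (fun j => PEmpty.elim j)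

theorem sum_mem (X Y : Mod O) (hX : P O X) (hY : P O Y) : P O (X ⊞ Y) := by
  obtain ⟨ι₁, U₁, ⟨e₁⟩⟩ := hX
  obtain ⟨ι₂, U₂, ⟨e₂⟩⟩ := hY
  refine ⟨ι₁ ⊕ ι₂, Sum.elim U₁ U₂, ⟨?_⟩⟩
  let f₁ : ι₁ → Mod O := fun j => freeOn O (U₁ j)
  let f₂ : ι₂ → Mod O := fun j => freeOn O (U₂ j)
  have w : ∀ j : ι₁ ⊕ ι₂, Sum.elim f₁ f₂ j ≅ freeOn O (Sum.elim U₁ U₂ j) := fun j => by
    cases j <;> exact Iso.refl _
  refine ?_ ≪≫ Sigma.mapIso w
  let c₁ : Cofan f₁ := Cofan.mk X (fun j => Sigma.ι f₁ j ≫ e₁.inv)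
  let c₂ : Cofan f₂ := Cofan.mk Y (fun j => Sigma.ι f₂ j ≫ e₂.inv)
  have h₁ : IsColimit c₁ := IsColimit.ofIsoColimit (coproductIsCoproduct f₁)
    (Cocone.ext e₁.symm (fun ⟨j⟩ => by simp [c₁]))
  have h₂ : IsColimit c₂ := IsColimit.ofIsoColimit (coproductIsCoproduct f₂)
    (Cocone.ext e₂.symm (fun ⟨j⟩ => by simp [c₂]))
  let bc : BinaryCofan c₁.pt c₂.pt := (BinaryBiproduct.bicone X Y).toCocone
  have hbc : IsColimit bc := BinaryBiproduct.isColimit X Y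
  exact (Cofan.combPairIsColimit h₁ h₂ hbc).coconePointUniqueUpToIso
    (coproductIsCoproduct (Sum.elim f₁ f₂))

instance : IsGrothendieckAbelian.{u} (Mod O) := Groth.Agent.Helper29.ShModGA.main0484 J (ringSh O)

instance : HasExactColimitsOfShape ℕ (Mod O) := by
  haveI : AB5OfSize.{0, 0} (Mod O) := AB5OfSize_shrink.{0, 0, u, u} (Mod O)
  infer_instance

theorem main (G : CochainComplex (ModSite.Mod O) ℤ) :
    ∃ (Kc : ℕ ⥤ CochainComplex (ModSite.Mod O) ℤ) (π : ∀ n : ℕ, Kc.obj n ⟶ G.truncLE ((n : ℤ) + 1)),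
      (∀ n : ℕ, Kc.map (homOfLE (Nat.le_succ n)) ≫ π (n + 1) ≫ G.ιTruncLE (((n + 1 : ℕ) : ℤ) + 1) =
        π n ≫ G.ιTruncLE ((n : ℤ) + 1)) ∧
      (∀ n : ℕ, QuasiIso (π n) ∧ ∀ i : ℤ, Epi ((π n).f i)) ∧
      (∀ n : ℕ, ∃ b : ℤ, (Kc.obj n).IsStrictlyLE b) ∧
      (∀ (n : ℕ) (i : ℤ), ∃ (ι : Type u) (U : ι → C),
        Nonempty ((Kc.obj n).X i ≅ ∐ fun j => ModSite.freeOn O (U j))) ∧
      (∀ (n : ℕ) (i : ℤ), ∃ r : (Kc.obj (n + 1)).X i ⟶ (Kc.obj n).X i,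
        (Kc.map (homOfLE (Nat.le_succ n))).f i ≫ r = 𝟙 _ ∧
        ∃ (ι : Type u) (U : ι → C),
          Nonempty (cokernel ((Kc.map (homOfLE (Nat.le_succ n))).f i) ≅ ∐ fun j => ModSite.freeOn O (U j))) ∧
      ∃ c : colimit Kc ⟶ G, (∀ n : ℕ, colimit.ι Kc n ≫ c = π n ≫ G.ιTruncLE ((n : ℤ) + 1)) ∧ QuasiIso c := by
  obtain ⟨Q, ι, π, hqi, hb, hP, hsplit, hcompat⟩ :=
    Groth.Agent.S1030.result (P O) (zero_mem O) (sum_mem O) (enough O) G
  let Kc : ℕ ⥤ CochainComplex (ModSite.Mod O) ℤ := Functor.ofSequence (fun n => ι (n + 1))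
  have hmap : ∀ n : ℕ, Kc.map (homOfLE (Nat.le_succ n)) = ι (n + 1) := fun n =>
    Functor.ofSequence_map_homOfLE_succ _ n
  let π' : ∀ n : ℕ, Kc.obj n ⟶ G.truncLE ((n : ℤ) + 1) := fun n => π (n + 1)
  have hcompat' : ∀ n : ℕ, Kc.map (homOfLE (Nat.le_succ n)) ≫ π' (n + 1) ≫
      G.ιTruncLE (((n + 1 : ℕ) : ℤ) + 1) = π' n ≫ G.ιTruncLE ((n : ℤ) + 1) := fun n => by
    rw [hmap]
    exact (hcompat (n + 1)).symm
  refine ⟨Kc, π', hcompat', fun n => hqi (n + 1), fun n => hb (n + 1), fun n i => hP (n + 1) i,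
    fun n i => ?_, ?_⟩
  · obtain ⟨⟨r, hr⟩, hc⟩ := hsplit (n + 1) i
    rw [hmap]
    exact ⟨r, hr, hc⟩
  · let cc : Cocone Kc :=
      { pt := G
        ι := NatTrans.ofSequence (fun n => π' n ≫ G.ιTruncLE ((n : ℤ) + 1)) (fun n => by
          dsimp only [Functor.const_obj_obj, Functor.const_obj_map]
          rw [Category.comp_id]
          exact hcompat' n) }
    refine ⟨colimit.desc Kc cc, fun n => colimit.ι_desc cc n, ?_⟩
    refine Groth.Agent.Helper29.HomColim.quasiIso_of_eventually Kc (colimit.isColimit Kc) _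
      (fun i => ⟨i.toNat, fun n hn => ?_⟩)
    have h1 : (colimit.cocone Kc).ι.app n ≫ colimit.desc Kc cc =
        π' n ≫ G.ιTruncLE ((n : ℤ) + 1) := colimit.ι_desc cc n
    rw [h1]
    haveI : QuasiIsoAt (π' n) i := (hqi (n + 1)).1.quasiIsoAt i
    haveI : QuasiIsoAt (G.ιTruncLE ((n : ℤ) + 1)) i :=
      G.quasiIsoAt_ιTruncLE _ _ (by
        have : i ≤ (i.toNat : ℤ) := Int.self_le_toNat i
        have : ((i.toNat : ℕ) : ℤ) ≤ (n : ℤ) := by exact_mod_cast hn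
        omega)
    infer_instance

end Groth.Agent.Helper29.FreeOnRes
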