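import Mathlib
import Groth.Prelude.Def_W4stkadequateTF
import Groth.Agent.Lib.Helper29.TanB
import Groth.Agent.Lib.Helper29.FreeRepB

namespace Groth.Agent.Helper29.FreeRepC

open CategoryTheory Limits AdeqTF Groth.Agent.Helper29.TanB Groth.Agent.Helper29.FreeRepB

universe u

theorem main8780 (A : Type u) [CommRing A] (I : Adeq.MVF A) [Injective I]
    (B : Adeq.Alg A) (S : ShortComplex (ModuleCat.{u} B)) (hS : S.ShortExact) :
    Function.Surjective (AdeqTF.tangentMap B I S.g) := by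
  intro t₂
  have hg : Function.Surjective S.g.hom := hS.moduleCat_surjective_g
  have hπ : Function.Surjective (AdeqTF.map B S.g).hom := by
    intro y
    obtain ⟨n, hn⟩ := hg y.snd
    refine ⟨TrivSqZeroExt.inl y.fst + TrivSqZeroExt.inr n, ?_⟩
    show TrivSqZeroExt.map S.g.hom (TrivSqZeroExt.inl y.fst + TrivSqZeroExt.inr n) = y
    ext
    · simp
    · simp [hn]
  obtain ⟨t', ht'⟩ := exists_lift_of_injective I (AdeqTF.map B S.g) hπ t₂.1
  have hmem : t' ∈ tangent B S.X₂ I := by
    rw [mem_tangent]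
    have e : Adeq.ptHom (AdeqTF.map B S.g) ≫ Adeq.ptHom (fst B S.X₃) = Adeq.ptHom (fst B S.X₂) :=
      congrArg Adeq.ptHom (map_fst B S.g)
    rw [← mp_congr I e, mp_comp, ht']
    exact t₂.2
  exact ⟨⟨t', hmem⟩, Subtype.ext ht'⟩

end Groth.Agent.Helper29.FreeRepC
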