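import Mathlib
import Groth.Agent.Lib.Helper29.BasicRel

set_option linter.unusedSectionVars false
set_option autoImplicit false

namespace Groth.Agent.Helper29.FreeSub

open Module Submodule BasicElt BasicRel TensorProduct

universe u

variable {A : Type u} [CommRing A] {M : Type u} [AddCommGroup M] [Module A M]

/-- the fibre dimension at a prime where the localization is free of rank `r`. -/
theorem finrank_fiber (p : PrimeSpectrum A) (r : ℕ)
    (hM : Nonempty (LocalizedModule p.asIdeal.primeCompl M ≃ₗ[Localization.AtPrime p.asIdeal]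
        (Fin r → Localization.AtPrime p.asIdeal))) :
    finrank p.asIdeal.ResidueField (p.asIdeal.ResidueField ⊗[A] M) = r := by
  obtain ⟨e0⟩ := hM
  let Rp := Localization.AtPrime p.asIdeal
  let k := p.asIdeal.ResidueField
  let e : k ⊗[Rp] (Rp ⊗[A] M) ≃ₗ[k] k ⊗[A] M :=
    AlgebraTensorModule.cancelBaseChange _ _ _ _ _
  let e2 : LocalizedModule p.asIdeal.primeCompl M ≃ₗ[Rp] Rp ⊗[A] M :=
    LocalizedModule.equivTensorProduct p.asIdeal.primeCompl M
  let e3 : Rp ⊗[A] M ≃ₗ[Rp] (Fin r → Rp) := e2.symm.trans e0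
  have : Module.Free Rp (Rp ⊗[A] M) := Module.Free.of_equiv e3.symm
  rw [← e.finrank_eq, finrank_baseChange, e3.finrank_eq]
  simp


section Bridge

variable {n t : ℕ} (π : (Fin n → A) →ₗ[A] M) (hπ : Function.Surjective π)
  (g : Fin t → (Fin n → A)) (hg : span A (Set.range g) = LinearMap.ker π)

theorem red_eq_sum (p : PrimeSpectrum A) (v : Fin n → A) :
    red p v = ∑ l, algebraMap A p.asIdeal.ResidueField (v l) •
      (Pi.single l (1 : p.asIdeal.ResidueField) : Fin n → p.asIdeal.ResidueField) := by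
  ext i
  simp [red, Finset.sum_apply, Pi.single_apply, Algebra.algebraMap_eq_smul_one]

/-- the map `κ^n → κ ⊗ M`. -/
noncomputable def Phi (p : PrimeSpectrum A) :
    (Fin n → p.asIdeal.ResidueField) →ₗ[p.asIdeal.ResidueField] p.asIdeal.ResidueField ⊗[A] M :=
  (Pi.basisFun p.asIdeal.ResidueField (Fin n)).constr p.asIdeal.ResidueField
    (fun l => (1 : p.asIdeal.ResidueField) ⊗ₜ[A] π (Pi.single l 1))

theorem Phi_red (p : PrimeSpectrum A) (v : Fin n → A) :
    Phi π p (red p v) = (1 : p.asIdeal.ResidueField) ⊗ₜ[A] π v := by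
  rw [red_eq_sum, map_sum]
  have hv : v = ∑ l, v l • (Pi.single l (1 : A) : Fin n → A) := by
    ext i
    simp [Finset.sum_apply, Pi.single_apply]
  conv_rhs => rw [hv, map_sum, tmul_sum]
  apply Finset.sum_congr rfl
  intro l _
  rw [map_smul]
  have : Phi π p (Pi.single l 1) = (1 : p.asIdeal.ResidueField) ⊗ₜ[A] π (Pi.single l 1) := by
    unfold Phi
    rw [← Pi.basisFun_apply, Module.Basis.constr_basis]
  rw [this, map_smul, tmul_smul, Algebra.algebraMap_eq_smul_one, smul_assoc, one_smul]


include hπ in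
theorem Phi_surjective (p : PrimeSpectrum A) : Function.Surjective (Phi π p) := by
  rw [← LinearMap.range_eq_top, eq_top_iff]
  rintro x -
  induction x using TensorProduct.induction_on with
  | zero => exact zero_mem _
  | tmul c m =>
    obtain ⟨v, rfl⟩ := hπ m
    have : c ⊗ₜ[A] π v = c • ((1 : p.asIdeal.ResidueField) ⊗ₜ[A] π v) := by
      rw [smul_tmul', smul_eq_mul, mul_one]
    rw [this, ← Phi_red]
    exact Submodule.smul_mem _ _ ⟨_, rfl⟩
  | add x y hx hy => exact add_mem hx hy

include hg in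
theorem Wg_le_ker_Phi (p : PrimeSpectrum A) : Wg g p ≤ LinearMap.ker (Phi π p) := by
  unfold Wg W
  rw [span_le]
  rintro _ ⟨j, -, rfl⟩
  rw [SetLike.mem_coe, LinearMap.mem_ker, Phi_red]
  have : g j ∈ LinearMap.ker π := by rw [← hg]; exact subset_span ⟨j, rfl⟩
  rw [LinearMap.mem_ker.1 this, tmul_zero]

/-- reduction as an `A`-linear map to the quotient. -/
noncomputable def rho (p : PrimeSpectrum A) :
    (Fin n → A) →ₗ[A] (Fin n → p.asIdeal.ResidueField) ⧸ Wg g p where
  toFun v := redQ g p v
  map_add' v w := redQ_add g p v w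
  map_smul' c v := by
    rw [redQ_smul, RingHom.id_apply, algebraMap_smul]

include hg in
theorem ker_le_ker_rho (p : PrimeSpectrum A) : LinearMap.ker π ≤ LinearMap.ker (rho g p) := by
  rw [← hg, span_le]
  rintro _ ⟨j, rfl⟩
  rw [SetLike.mem_coe, LinearMap.mem_ker]
  change redQ g p (g j) = 0
  unfold redQ
  rw [Submodule.mkQ_apply, Submodule.Quotient.mk_eq_zero]
  exact subset_span ⟨j, Finset.mem_coe.2 (Finset.mem_univ j), rfl⟩

/-- the induced map `M → κ^n / W`. -/
noncomputable def rhoBar (p : PrimeSpectrum A) :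
    M →ₗ[A] (Fin n → p.asIdeal.ResidueField) ⧸ Wg g p :=
  ((LinearMap.ker π).liftQ (rho g p) (ker_le_ker_rho π g hg p)).comp
    (π.quotKerEquivOfSurjective hπ).symm.toLinearMap

theorem rhoBar_apply (p : PrimeSpectrum A) (v : Fin n → A) :
    rhoBar π hπ g hg p (π v) = redQ g p v := by
  unfold rhoBar
  have : (π.quotKerEquivOfSurjective hπ).symm (π v) = Submodule.Quotient.mk v := by
    rw [LinearEquiv.symm_apply_eq]
    rfl
  simp only [LinearMap.comp_apply, LinearEquiv.coe_coe, this]
  rfl

/-- the map `κ ⊗ M → κ^n / W`. -/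
noncomputable def Psi (p : PrimeSpectrum A) :
    p.asIdeal.ResidueField ⊗[A] M →ₗ[p.asIdeal.ResidueField]
      (Fin n → p.asIdeal.ResidueField) ⧸ Wg g p :=
  LinearMap.liftBaseChange p.asIdeal.ResidueField (rhoBar π hπ g hg p)

theorem Psi_tmul (p : PrimeSpectrum A) (v : Fin n → A) :
    Psi π hπ g hg p ((1 : p.asIdeal.ResidueField) ⊗ₜ[A] π v) = redQ g p v := by
  unfold Psi
  rw [LinearMap.liftBaseChange_tmul, one_smul, rhoBar_apply]

theorem span_redQ_single (p : PrimeSpectrum A) :
    span p.asIdeal.ResidueField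
      (Set.range fun l : Fin n => redQ g p (Pi.single l (1 : A))) = ⊤ := by
  rw [eq_top_iff]
  rintro x -
  obtain ⟨w, rfl⟩ := Submodule.mkQ_surjective _ x
  have hw : w = ∑ l, w l • (Pi.single l (1 : p.asIdeal.ResidueField) :
      Fin n → p.asIdeal.ResidueField) := by
    ext i
    simp [Finset.sum_apply, Pi.single_apply]
  rw [hw, map_sum]
  refine Submodule.sum_mem _ (fun l _ => ?_)
  rw [map_smul]
  refine Submodule.smul_mem _ _ (subset_span ⟨l, ?_⟩)
  unfold redQ
  have : red p (Pi.single l (1 : A)) =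
      (Pi.single l (1 : p.asIdeal.ResidueField) : Fin n → p.asIdeal.ResidueField) := by
    ext i
    simp only [red, Pi.single_apply]
    split_ifs <;> simp
  show (Wg g p).mkQ (red p (Pi.single l 1)) = _
  rw [this]

theorem Psi_surjective (p : PrimeSpectrum A) : Function.Surjective (Psi π hπ g hg p) := by
  rw [← LinearMap.range_eq_top, eq_top_iff, ← span_redQ_single g p, span_le]
  rintro _ ⟨l, rfl⟩
  exact ⟨_, Psi_tmul π hπ g hg p (Pi.single l 1)⟩


include hπ hg in
theorem finrank_quot_eq (p : PrimeSpectrum A) [Module.Finite A M] :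
    finrank p.asIdeal.ResidueField ((Fin n → p.asIdeal.ResidueField) ⧸ Wg g p) =
      finrank p.asIdeal.ResidueField (p.asIdeal.ResidueField ⊗[A] M) := by
  apply le_antisymm
  · exact LinearMap.finrank_le_finrank_of_surjective (Psi_surjective π hπ g hg p)
  · have hs : Function.Surjective ((Wg g p).liftQ (Phi π p) (Wg_le_ker_Phi π g hg p)) := by
      intro x
      obtain ⟨w, rfl⟩ := Phi_surjective π hπ p x
      exact ⟨Submodule.Quotient.mk w, rfl⟩
    exact LinearMap.finrank_le_finrank_of_surjective hs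

include hπ hg in
theorem rk_add_eq (p : PrimeSpectrum A) [Module.Finite A M] (r : ℕ)
    (hr : finrank p.asIdeal.ResidueField (p.asIdeal.ResidueField ⊗[A] M) = r) :
    rk p g Finset.univ + r = n := by
  have h1 := Submodule.finrank_quotient_add_finrank (Wg g p)
  rw [finrank_quot_eq π hπ g hg p, hr] at h1
  have h2 : finrank p.asIdeal.ResidueField (Fin n → p.asIdeal.ResidueField) = n := by simp
  rw [h2] at h1
  unfold rk
  unfold Wg at h1
  omega

end Bridge

end Groth.Agent.Helper29.FreeSub
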