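import Mathlib
import Groth.Agent.Lib.Helper29.FreeSub

set_option linter.unusedSectionVars false
set_option autoImplicit false

namespace Groth.Agent.Helper29.FreeSubB

open Module Submodule BasicElt BasicRel TensorProduct FreeSub

universe u




section Local

variable {R : Type u} [CommRing R] [IsLocalRing R] {F P : Type u} [AddCommGroup F] [Module R F]
  [AddCommGroup P] [Module R P]

local notation "kk" => IsLocalRing.ResidueField R

theorem lTensor_toSpanSingleton_injective (x : F) (hx : (1 : kk) ⊗ₜ[R] x ≠ 0) :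
    Function.Injective ((LinearMap.toSpanSingleton R F x).lTensor kk) := by
  rw [injective_iff_map_eq_zero]
  intro y hy
  have hy' : y = (TensorProduct.rid R kk y) ⊗ₜ[R] (1 : R) := by
    rw [← TensorProduct.rid_symm_apply, LinearEquiv.symm_apply_apply]
  rw [hy'] at hy ⊢
  rw [LinearMap.lTensor_tmul, LinearMap.toSpanSingleton_apply, one_smul] at hy
  have h2 : (TensorProduct.rid R kk y) ⊗ₜ[R] x = (TensorProduct.rid R kk y) • ((1 : kk) ⊗ₜ[R] x) := by
    rw [smul_tmul', smul_eq_mul, mul_one]
  rw [h2, smul_eq_zero] at hy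
  rcases hy with h | h
  · rw [h, zero_tmul]
  · exact absurd h hx

theorem local_quot (g : F →ₗ[R] P) (hg : Function.Surjective g) (x : F)
    (hker : LinearMap.ker g = span R {x}) (r' : ℕ) (eF : F ≃ₗ[R] (Fin (r' + 1) → R))
    (hx : (1 : kk) ⊗ₜ[R] x ≠ 0) : Nonempty (P ≃ₗ[R] (Fin r' → R)) := by
  have hfree : Module.Free R F := Module.Free.of_equiv eF.symm
  have hfin : Module.Finite R F := Module.Finite.equiv eF.symm
  let f : R →ₗ[R] F := LinearMap.toSpanSingleton R F x
  have hex : Function.Exact f g := by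
    rw [LinearMap.exact_iff, hker, LinearMap.range_toSpanSingleton]
  have hinj := lTensor_toSpanSingleton_injective x hx
  have hPfree : Module.Free R P := Module.free_of_lTensor_residueField_injective f g hg hex hinj
  have hPfin : Module.Finite R P := Module.Finite.of_surjective g hg
  have hex' : Function.Exact (f.baseChange kk) (g.baseChange kk) := by
    have := lTensor_exact kk hex hg
    intro y
    have h1 := this y
    rw [LinearMap.baseChange_eq_ltensor]
    rw [h1]
    constructor
    · rintro ⟨z, hz⟩; exact ⟨z, by rw [LinearMap.baseChange_eq_ltensor]; exact hz⟩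
    · rintro ⟨z, hz⟩; exact ⟨z, by rw [LinearMap.baseChange_eq_ltensor] at hz; exact hz⟩
  have hsurj : Function.Surjective (g.baseChange kk) := by
    rw [LinearMap.baseChange_eq_ltensor]
    exact LinearMap.lTensor_surjective kk hg
  have hinj' : Function.Injective (f.baseChange kk) := by
    rw [LinearMap.baseChange_eq_ltensor]; exact hinj
  have h1 := (g.baseChange kk).finrank_range_add_finrank_ker
  rw [LinearMap.range_eq_top.mpr hsurj, finrank_top, (LinearMap.exact_iff.mp hex'),
    LinearMap.finrank_range_of_inj hinj', finrank_baseChange, finrank_baseChange,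
    finrank_baseChange, eF.finrank_eq] at h1
  simp only [finrank_self, finrank_pi, Fintype.card_fin] at h1
  have h2 : finrank R P = r' := by omega
  exact ⟨(Module.finBasisOfFinrankEq R P h2).equivFun⟩

end Local





variable {A : Type u} [CommRing A]

/-- the primes of height at most `k`. -/
def X (k : ℕ) (p : PrimeSpectrum A) : Prop := p.asIdeal.height ≤ k

/-- the codimension defect. -/
noncomputable def δ (k : ℕ) (p : PrimeSpectrum A) : ℕ := k - p.asIdeal.height.toNat

theorem X_down (k : ℕ) : ∀ p q : PrimeSpectrum A, p ≤ q → X k q → X k p :=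
  fun p q hpq hq => (Ideal.height_mono hpq).trans hq

theorem δ_lt (k : ℕ) : ∀ p q : PrimeSpectrum A, X k q → p < q → δ k q < δ k p := by
  intro p q hq hpq
  unfold X at hq
  have hqtop : q.asIdeal.height ≠ ⊤ := ne_top_of_le_ne_top (ENat.natCast_ne_top k) hq
  have hfin : q.asIdeal.FiniteHeight := q.asIdeal.finiteHeight_iff.mpr (Or.inr hqtop)
  have hlt := Ideal.height_strict_mono_of_isPrime_of_isPrime (I := p.asIdeal) (J := q.asIdeal) hpq
  have hptop : p.asIdeal.height ≠ ⊤ := ne_top_of_lt hlt
  unfold δ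
  lift q.asIdeal.height to ℕ using hqtop with a ha
  lift p.asIdeal.height to ℕ using hptop with b hb
  simp only [ENat.toNat_natCast]
  have h1 : a ≤ k := by exact_mod_cast hq
  have h2 : b < a := by exact_mod_cast hlt
  omega

section

variable [IsNoetherianRing A] {M : Type u} [AddCommGroup M] [Module A M] [Module.Finite A M]

theorem exists_elt (k r' : ℕ) (hk : k ≤ r')
    (hM : ∀ p : PrimeSpectrum A, X k p →
      finrank p.asIdeal.ResidueField (p.asIdeal.ResidueField ⊗[A] M) = r' + 1) :
    ∃ m : M, ∀ p : PrimeSpectrum A, X k p → (1 : p.asIdeal.ResidueField) ⊗ₜ[A] m ≠ 0 := by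
  classical
  obtain ⟨n, π₀, hπ₀⟩ := Module.Finite.exists_fin' A M
  let π : (Fin (n + 1) → A) →ₗ[A] M := π₀.comp (LinearMap.funLeft A A Fin.succ)
  have hπ : Function.Surjective π := by
    intro m
    obtain ⟨w, rfl⟩ := hπ₀ m
    refine ⟨Fin.cons 0 w, ?_⟩
    show π₀ (LinearMap.funLeft A A Fin.succ (Fin.cons 0 w)) = π₀ w
    congr 1
  have hfg : (LinearMap.ker π).FG := IsNoetherian.noetherian _
  obtain ⟨t, g, hg⟩ := Submodule.fg_iff_exists_fin_generating_family.mp hfg
  have hρ : ∀ p, X k p → rk p g Finset.univ = n - r' := by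
    intro p hp
    have := rk_add_eq π hπ g hg p (r' + 1) (hM p hp)
    omega
  let e : Fin (n + 1) → (Fin (n + 1) → A) := fun l => Pi.single l 1
  have hyp : Hyp g (X k) (δ k) e Finset.univ := by
    intro p hp
    have h1 : rkQ g p e Finset.univ = r' + 1 := by
      unfold rkQ WQ
      rw [Finset.coe_univ, Set.image_univ, span_redQ_single g p, finrank_top,
        finrank_quot_eq π hπ g hg p, hM p hp]
    rw [h1]
    have : δ k p ≤ k := Nat.sub_le _ _
    have := min_le_right (Finset.univ : Finset (Fin (n + 1))).card (δ k p + 1)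
    omega
  obtain ⟨c, -, hc⟩ := exists_basic g (X k) (X_down k) (δ k) (δ_lt k) (n - r') hρ (n + 1)
    Finset.univ (0 : Fin (n + 1)) (Finset.mem_univ _) (by simp) e hyp
  refine ⟨π (∑ j ∈ Finset.univ, c j • e j), fun p hp h0 => hc p hp ?_⟩
  rw [← Psi_tmul π hπ g hg p, h0, map_zero]

end






/-- local freeness of rank `j` at the primes of height at most `k`, in tensor form. -/
def LF (A : Type u) [CommRing A] (k : ℕ) (M : Type u) [AddCommGroup M] [Module A M] (j : ℕ) : Prop :=
  ∀ p : PrimeSpectrum A, X k p →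
    Nonempty (Localization.AtPrime p.asIdeal ⊗[A] M ≃ₗ[Localization.AtPrime p.asIdeal]
      (Fin j → Localization.AtPrime p.asIdeal))

theorem LF_congr (k : ℕ) {M₁ M₂ : Type u} [AddCommGroup M₁] [Module A M₁] [AddCommGroup M₂]
    [Module A M₂] (e : M₁ ≃ₗ[A] M₂) (j : ℕ) (h : LF A k M₁ j) : LF A k M₂ j := by
  intro p hp
  obtain ⟨e0⟩ := h p hp
  exact ⟨(AlgebraTensorModule.congr (LinearEquiv.refl (Localization.AtPrime p.asIdeal)
    (Localization.AtPrime p.asIdeal)) e).symm.trans e0⟩

theorem finrank_fiber' {M : Type u} [AddCommGroup M] [Module A M] (p : PrimeSpectrum A) (r : ℕ)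
    (hM : Nonempty (Localization.AtPrime p.asIdeal ⊗[A] M ≃ₗ[Localization.AtPrime p.asIdeal]
        (Fin r → Localization.AtPrime p.asIdeal))) :
    finrank p.asIdeal.ResidueField (p.asIdeal.ResidueField ⊗[A] M) = r := by
  obtain ⟨e3⟩ := hM
  let Rp := Localization.AtPrime p.asIdeal
  let k := p.asIdeal.ResidueField
  let e : k ⊗[Rp] (Rp ⊗[A] M) ≃ₗ[k] k ⊗[A] M :=
    AlgebraTensorModule.cancelBaseChange _ _ _ _ _
  have : Module.Free Rp (Rp ⊗[A] M) := Module.Free.of_equiv e3.symm
  rw [← e.finrank_eq, finrank_baseChange, e3.finrank_eq]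
  simp


end Groth.Agent.Helper29.FreeSubB
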