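import Mathlib
import Groth.Agent.Lib.Helper29.FreeSubB

set_option linter.unusedSectionVars false
set_option autoImplicit false

namespace Groth.Agent.Helper29.FreeSubC

open Module Submodule TensorProduct FreeSubB

universe u

variable {A : Type u} [CommRing A]

theorem ker_baseChange_mkQ_singleton {M : Type u} [AddCommGroup M] [Module A M]
    (Rp : Type u) [CommRing Rp] [Algebra A Rp] (m : M) :
    LinearMap.ker ((span A {m}).mkQ.baseChange Rp) = span Rp {(1 : Rp) ⊗ₜ[A] m} := by
  have hex0 : Function.Exact (LinearMap.toSpanSingleton A M m) (span A {m}).mkQ := by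
    rw [LinearMap.exact_iff, ker_mkQ, LinearMap.range_toSpanSingleton]
  have hex := lTensor_exact Rp hex0 (mkQ_surjective _)
  ext y
  rw [LinearMap.mem_ker]
  constructor
  · intro hy
    have hy' : (LinearMap.lTensor Rp (span A {m}).mkQ) y = 0 := by
      rw [← LinearMap.baseChange_eq_ltensor]; exact hy
    obtain ⟨z, rfl⟩ := (hex y).mp hy'
    have hz : z = (TensorProduct.rid A Rp z) ⊗ₜ[A] (1 : A) := by
      rw [← TensorProduct.rid_symm_apply, LinearEquiv.symm_apply_apply]
    rw [hz, LinearMap.lTensor_tmul, LinearMap.toSpanSingleton_apply, one_smul]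
    have h2 : (TensorProduct.rid A Rp z) ⊗ₜ[A] m =
        (TensorProduct.rid A Rp z) • ((1 : Rp) ⊗ₜ[A] m) := by
      rw [smul_tmul', smul_eq_mul, mul_one]
    rw [h2]
    exact smul_mem _ _ (subset_span rfl)
  · intro hy
    obtain ⟨c, rfl⟩ := mem_span_singleton.mp hy
    rw [map_smul, LinearMap.baseChange_tmul, mkQ_apply,
      (Submodule.Quotient.mk_eq_zero _).mpr (mem_span_singleton_self m), tmul_zero, smul_zero]

theorem one_step [IsNoetherianRing A] {M : Type u} [AddCommGroup M] [Module A M]
    [Module.Finite A M] (k r' : ℕ) (hk : k ≤ r') (hM : LF A k M (r' + 1)) :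
    ∃ m : M, LF A k (M ⧸ span A {m}) r' := by
  obtain ⟨m, hm⟩ := exists_elt k r' hk (fun p hp => finrank_fiber' p (r' + 1) (hM p hp))
  refine ⟨m, fun p hp => ?_⟩
  obtain ⟨eF⟩ := hM p hp
  have hg : Function.Surjective ((span A {m}).mkQ.baseChange (Localization.AtPrime p.asIdeal)) := by
    rw [LinearMap.baseChange_eq_ltensor]
    exact LinearMap.lTensor_surjective _ (mkQ_surjective _)
  have hx : (1 : IsLocalRing.ResidueField (Localization.AtPrime p.asIdeal))
      ⊗ₜ[Localization.AtPrime p.asIdeal] ((1 : Localization.AtPrime p.asIdeal) ⊗ₜ[A] m) ≠ 0 := by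
    intro h0
    apply hm p hp
    have := congrArg (AlgebraTensorModule.cancelBaseChange A (Localization.AtPrime p.asIdeal)
      p.asIdeal.ResidueField p.asIdeal.ResidueField M) h0
    rw [AlgebraTensorModule.cancelBaseChange_tmul, one_smul, map_zero] at this
    exact this
  exact local_quot _ hg _ (ker_baseChange_mkQ_singleton _ m) r' eF hx

theorem exists_family [IsNoetherianRing A] (k : ℕ) :
    ∀ (s : ℕ) (M : Type u) [AddCommGroup M] [Module A M] [Module.Finite A M],
      LF A k M (k + s) → ∃ v : Fin s → M, LF A k (M ⧸ span A (Set.range v)) k := by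
  intro s
  induction s with
  | zero =>
    intro M _ _ _ hM
    refine ⟨fun i => i.elim0, ?_⟩
    have hbot : span A (Set.range (fun i : Fin 0 => (i.elim0 : M))) = ⊥ := by
      rw [Set.range_eq_empty, span_empty]
    exact LF_congr k (Submodule.quotEquivOfEqBot _ hbot).symm k hM
  | succ s ih =>
    intro M _ _ _ hM
    obtain ⟨m, hm⟩ := one_step k (k + s) (Nat.le_add_right k s) hM
    obtain ⟨v', hv'⟩ := ih (M ⧸ span A {m}) hm
    have hlift : ∀ i, ∃ w : M, (span A {m}).mkQ w = v' i := fun i => mkQ_surjective _ (v' i)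
    choose v'' hv'' using hlift
    refine ⟨Fin.cons m v'', ?_⟩
    have h1 : span A (Set.range (Fin.cons m v'' : Fin (s + 1) → M)) =
        span A {m} ⊔ span A (Set.range v'') := by
      rw [Fin.range_cons, span_insert]
    have h2 : (span A (Set.range v'')).map (span A {m}).mkQ = span A (Set.range v') := by
      rw [Submodule.map_span, ← Set.range_comp]
      congr 2
      funext i
      exact hv'' i
    have e1 : ((M ⧸ span A {m}) ⧸ span A (Set.range v')) ≃ₗ[A]
        ((M ⧸ span A {m}) ⧸ (span A (Set.range v'')).map (span A {m}).mkQ) :=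
      Submodule.quotEquivOfEq _ _ h2.symm
    have e2 := Submodule.quotientQuotientEquivQuotientSup (span A {m}) (span A (Set.range v''))
    have e3 : (M ⧸ (span A {m} ⊔ span A (Set.range v''))) ≃ₗ[A]
        (M ⧸ span A (Set.range (Fin.cons m v'' : Fin (s + 1) → M))) :=
      Submodule.quotEquivOfEq _ _ h1.symm
    exact LF_congr k ((e1.trans e2).trans e3) k hv'

section Indep

variable {M : Type u} [AddCommGroup M] [Module A M]

theorem range_baseChange_subtype_le (K : Type u) [Field K] [Algebra A K] {s : ℕ} (v : Fin s → M) :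
    LinearMap.range ((span A (Set.range v)).subtype.baseChange K) ≤
      span K (Set.range fun i => (1 : K) ⊗ₜ[A] v i) := by
  have key : ∀ n ∈ span A (Set.range v), ∀ c : K,
      c ⊗ₜ[A] n ∈ span K (Set.range fun i => (1 : K) ⊗ₜ[A] v i) := by
    intro n hn
    induction hn using Submodule.span_induction with
    | mem x hx =>
      obtain ⟨i, rfl⟩ := hx
      intro c
      have : c ⊗ₜ[A] v i = c • ((1 : K) ⊗ₜ[A] v i) := by rw [smul_tmul', smul_eq_mul, mul_one]
      rw [this]
      exact smul_mem _ _ (subset_span ⟨i, rfl⟩)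
    | zero => intro c; rw [tmul_zero]; exact zero_mem _
    | add x y _ _ hx hy => intro c; rw [tmul_add]; exact add_mem (hx c) (hy c)
    | smul a x _ hx =>
      intro c
      rw [tmul_smul, smul_tmul']
      exact hx (a • c)
  rintro _ ⟨z, rfl⟩
  induction z using TensorProduct.induction_on with
  | zero => rw [map_zero]; exact zero_mem _
  | tmul c n =>
    rw [LinearMap.baseChange_tmul]
    exact key n.1 n.2 c
  | add x y hx hy => rw [map_add]; exact add_mem hx hy

theorem linearIndependent_fiber [Module.Finite A M] (K : Type u) [Field K] [Algebra A K]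
    (k s : ℕ) (v : Fin s → M)
    (h1 : finrank K (K ⊗[A] M) = k + s)
    (h2 : finrank K (K ⊗[A] (M ⧸ span A (Set.range v))) = k) :
    LinearIndependent K (fun i => (1 : K) ⊗ₜ[A] v i) := by
  have hex := lTensor_exact K (LinearMap.exact_subtype_mkQ (span A (Set.range v)))
    (mkQ_surjective _)
  have hsurj : Function.Surjective ((span A (Set.range v)).mkQ.baseChange K) := by
    rw [LinearMap.baseChange_eq_ltensor]
    exact LinearMap.lTensor_surjective K (mkQ_surjective _)
  have hker : LinearMap.ker ((span A (Set.range v)).mkQ.baseChange K) =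
      LinearMap.range ((span A (Set.range v)).subtype.baseChange K) := by
    ext y
    rw [LinearMap.mem_ker, LinearMap.mem_range]
    have := hex y
    rw [← LinearMap.baseChange_eq_ltensor, ← LinearMap.baseChange_eq_ltensor] at this
    exact this
  have h3 := ((span A (Set.range v)).mkQ.baseChange K).finrank_range_add_finrank_ker
  rw [LinearMap.range_eq_top.mpr hsurj, finrank_top, h2, h1, hker] at h3
  have h4 := Submodule.finrank_mono (range_baseChange_subtype_le (A := A) K v)
  have h5 := finrank_range_le_card (R := K) (fun i => (1 : K) ⊗ₜ[A] v i)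
  rw [linearIndependent_iff_card_eq_finrank_span, Set.finrank]
  rw [Set.finrank] at h5
  simp only [Fintype.card_fin] at h5 ⊢
  omega

theorem linearIndependent_loc (p : PrimeSpectrum A)
    [Module.Flat (Localization.AtPrime p.asIdeal) (Localization.AtPrime p.asIdeal ⊗[A] M)]
    {s : ℕ} (v : Fin s → M)
    (h : LinearIndependent p.asIdeal.ResidueField
      (fun i => (1 : p.asIdeal.ResidueField) ⊗ₜ[A] v i)) :
    LinearIndependent (Localization.AtPrime p.asIdeal)
      (fun i => (1 : Localization.AtPrime p.asIdeal) ⊗ₜ[A] v i) := by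
  apply IsLocalRing.linearIndependent_of_flat
  have := h.map' (AlgebraTensorModule.cancelBaseChange A (Localization.AtPrime p.asIdeal)
      p.asIdeal.ResidueField p.asIdeal.ResidueField M).symm.toLinearMap (LinearEquiv.ker _)
  exact this

end Indep

theorem linearIndependent_global [IsNoetherianRing A] {M : Type u} [AddCommGroup M] [Module A M]
    [Module.Finite A M] (k s : ℕ)
    (hAss : ∀ p ∈ associatedPrimes A A, p.height ≤ k) (v : Fin s → M)
    (hM : LF A k M (k + s)) (hQ : LF A k (M ⧸ span A (Set.range v)) k) :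
    LinearIndependent A v := by
  rw [Fintype.linearIndependent_iff]
  intro c hc i
  by_contra hci
  obtain ⟨P, hP, hle⟩ := exists_le_isAssociatedPrime_of_isNoetherianRing A (c i) hci
  have hPprime : P.IsPrime := hP.isPrime
  let p : PrimeSpectrum A := ⟨P, hPprime⟩
  have hp : X k p := hAss P hP
  obtain ⟨eM⟩ := hM p hp
  have hfree : Module.Free (Localization.AtPrime p.asIdeal)
      (Localization.AtPrime p.asIdeal ⊗[A] M) := Module.Free.of_equiv eM.symm
  have hli := linearIndependent_loc p v (linearIndependent_fiber p.asIdeal.ResidueField k s v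
    (finrank_fiber' p _ (hM p hp)) (finrank_fiber' p _ (hQ p hp)))
  rw [Fintype.linearIndependent_iff] at hli
  have hsum : ∑ j, algebraMap A (Localization.AtPrime p.asIdeal) (c j) •
      ((1 : Localization.AtPrime p.asIdeal) ⊗ₜ[A] v j) = 0 := by
    have h1 : ∀ j, algebraMap A (Localization.AtPrime p.asIdeal) (c j) •
        ((1 : Localization.AtPrime p.asIdeal) ⊗ₜ[A] v j) =
        (1 : Localization.AtPrime p.asIdeal) ⊗ₜ[A] (c j • v j) := by
      intro j
      rw [tmul_smul, algebraMap_smul]
    simp_rw [h1]
    rw [← tmul_sum, hc, tmul_zero]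
  have h0 := hli _ hsum i
  obtain ⟨u, hu⟩ := (IsLocalization.map_eq_zero_iff p.asIdeal.primeCompl _ (c i)).mp h0
  have hmem : (u : A) ∈ P := hle (Submodule.mem_colon_singleton.mpr (by
    rw [smul_eq_mul, hu]; exact Submodule.zero_mem _))
  exact u.2 hmem

theorem main (A : Type u) [CommRing A] [IsNoetherianRing A]
    (M : Type u) [AddCommGroup M] [Module A M] [Module.Finite A M] (k r : ℕ) (hkr : k ≤ r)
    (hAss : ∀ p ∈ associatedPrimes A A, p.height ≤ k)
    (hM : ∀ p : PrimeSpectrum A, p.asIdeal.height ≤ k →
      Nonempty (LocalizedModule p.asIdeal.primeCompl M ≃ₗ[Localization.AtPrime p.asIdeal]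
        (Fin r → Localization.AtPrime p.asIdeal))) :
    ∃ N : Submodule A M, Nonempty (N ≃ₗ[A] (Fin (r - k) → A)) ∧
      ∀ p : PrimeSpectrum A, p.asIdeal.height ≤ k →
        Nonempty (LocalizedModule p.asIdeal.primeCompl (M ⧸ N) ≃ₗ[Localization.AtPrime p.asIdeal]
          (Fin k → Localization.AtPrime p.asIdeal)) := by
  obtain ⟨s, rfl⟩ := Nat.exists_eq_add_of_le hkr
  have hs : k + s - k = s := by omega
  rw [hs]
  have hM' : LF A k M (k + s) := fun p hp => by
    obtain ⟨e⟩ := hM p hp
    exact ⟨(LocalizedModule.equivTensorProduct p.asIdeal.primeCompl M).symm.trans e⟩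
  obtain ⟨v, hv⟩ := exists_family k s M hM'
  have hli := linearIndependent_global k s hAss v hM' hv
  refine ⟨span A (Set.range v), ⟨(Basis.span hli).equivFun⟩, fun p hp => ?_⟩
  obtain ⟨e⟩ := hv p hp
  exact ⟨(LocalizedModule.equivTensorProduct p.asIdeal.primeCompl _).trans e⟩

end Groth.Agent.Helper29.FreeSubC
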