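import Mathlib
import Groth.Prelude.Def_GSzH1

/-!
# Locally constant cocycles of a procyclic group are determined by their value at a generator
-/

set_option linter.unusedSectionVars false

namespace Groth.Agent.Helper29.FrobCocycle

universe u v

open GpH1

section Abstract

variable {Γ : Type u} [Group Γ] [TopologicalSpace Γ] [IsTopologicalGroup Γ]
variable {A : Type v} [Group A] [MulDistribMulAction Γ A]

/-- `π` topologically generates `Γ` "like the Frobenius": arbitrarily small open normal subgroups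
`V` such that `Γ/V` is generated by `π`, of order divisible by a given `M`. -/
def Procyclic (π : Γ) : Prop :=
  ∀ (W : Set Γ), IsOpen W → (1 : Γ) ∈ W → ∀ M : ℕ, 0 < M →
    ∃ V : Subgroup Γ, V.Normal ∧ IsOpen (V : Set Γ) ∧ (V : Set Γ) ⊆ W ∧
      (∀ σ : Γ, ∃ n : ℕ, (π ^ n)⁻¹ * σ ∈ V) ∧ (∀ n : ℕ, π ^ n ∈ V → M ∣ n)

theorem coc_one (z : OneCocycle Γ A) : z 1 = 1 := by
  have h := z.2 1 1
  rw [one_mul, one_smul] at h
  exact (mul_eq_left.mp h.symm)

theorem coc_mul (z : OneCocycle Γ A) (σ τ : Γ) : z (σ * τ) = z σ * σ • z τ := z.2 σ τ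

theorem coc_mul_of_eq_one (z : OneCocycle Γ A) (σ w : Γ) (hw : z w = 1) : z (σ * w) = z σ := by
  rw [coc_mul, hw, smul_one, mul_one]

/-- the "partial norms" `a · π(a) ⋯ π^{n-1}(a)` -/
def Nm (π : Γ) (a : A) : ℕ → A
  | 0 => 1
  | (n + 1) => Nm π a n * π ^ n • a

theorem Nm_zero (π : Γ) (a : A) : Nm π a 0 = 1 := rfl

theorem Nm_succ (π : Γ) (a : A) (n : ℕ) : Nm π a (n + 1) = Nm π a n * π ^ n • a := rfl

theorem Nm_one (π : Γ) (a : A) : Nm π a 1 = a := by
  rw [Nm_succ, Nm_zero, pow_zero, one_smul, one_mul]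

theorem Nm_add (π : Γ) (a : A) (n n' : ℕ) :
    Nm π a (n + n') = Nm π a n * π ^ n • Nm π a n' := by
  induction n' with
  | zero => simp [Nm_zero]
  | succ m ih =>
    rw [← add_assoc, Nm_succ, ih, Nm_succ, smul_mul', mul_assoc, pow_add, mul_smul]

theorem coc_pow (z : OneCocycle Γ A) (π : Γ) (n : ℕ) : z (π ^ n) = Nm π (z π) n := by
  induction n with
  | zero => simp [Nm_zero, coc_one]
  | succ m ih => rw [pow_succ, coc_mul, ih, Nm_succ]

theorem Nm_mem (π : Γ) (a : A) (H : Subgroup A) (ha : a ∈ H)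
    (hH : ∀ (σ : Γ) (x : A), x ∈ H → σ • x ∈ H) (n : ℕ) : Nm π a n ∈ H := by
  induction n with
  | zero => exact H.one_mem
  | succ m ih => exact H.mul_mem ih (hH _ _ ha)

theorem Nm_mul_of_fix (π : Γ) (a : A) (d : ℕ) (hd : ∀ n, π ^ d • Nm π a n = Nm π a n)
    (j : ℕ) : Nm π a (d * j) = Nm π a d ^ j := by
  induction j with
  | zero => simp [Nm_zero]
  | succ m ih =>
    have hfix : ∀ (i : ℕ), π ^ (d * i) • Nm π a d = Nm π a d := by
      intro i
      induction i with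
      | zero => simp
      | succ i ihi => rw [mul_add, mul_one, pow_add, mul_smul, hd, ihi]
    rw [mul_add, mul_one, Nm_add, ih, hfix, pow_succ]

theorem inj_of_procyclic (π : Γ) (hP : Procyclic π) (z z' : OneCocycleLC Γ A)
    (h : z.1 π = z'.1 π) : z = z' := by
  apply Subtype.ext
  apply OneCocycle.ext
  intro σ
  set W : Set Γ := {w | z.1 w = 1} ∩ {w | z'.1 w = 1} with hW
  have hWo : IsOpen W :=
    (z.2.isOpen_fiber 1).inter (z'.2.isOpen_fiber 1)
  have h1 : (1 : Γ) ∈ W := ⟨coc_one z.1, coc_one z'.1⟩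
  obtain ⟨V, -, -, hVW, ha, -⟩ := hP W hWo h1 1 one_pos
  obtain ⟨n, hn⟩ := ha σ
  have hσ : σ = π ^ n * ((π ^ n)⁻¹ * σ) := by group
  have hw := hVW hn
  rw [hσ, coc_mul_of_eq_one z.1 _ _ hw.1, coc_mul_of_eq_one z'.1 _ _ hw.2, coc_pow, coc_pow, h]

theorem surj_of_procyclic (π : Γ) (hP : Procyclic π)
    (hcont : ∀ a : A, IsOpen {σ : Γ | σ • a = a})
    (hfin : ∀ a : A, ∃ H : Subgroup A, (H : Set A).Finite ∧ a ∈ H ∧
      ∀ (σ : Γ) (x : A), x ∈ H → σ • x ∈ H)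
    (a : A) : ∃ z : OneCocycleLC Γ A, z.1 π = a := by
  classical
  obtain ⟨H, hHfin, haH, hHst⟩ := hfin a
  set U₀ : Set Γ := ⋂ h ∈ (H : Set A), {σ : Γ | σ • h = h} with hU₀def
  have hU₀ : IsOpen U₀ := hHfin.isOpen_biInter (fun h _ => hcont h)
  have h1U₀ : (1 : Γ) ∈ U₀ := by simp [hU₀def]
  have hU₀fix : ∀ σ ∈ U₀, ∀ x ∈ H, σ • x = x := by
    intro σ hσ x hx
    simp only [hU₀def, Set.mem_iInter] at hσ
    exact hσ x hx
  obtain ⟨V₁, -, hV₁o, hV₁U, ha₁, -⟩ := hP U₀ hU₀ h1U₀ 1 one_pos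
  obtain ⟨n, hn⟩ := ha₁ π⁻¹
  have hd : π ^ (n + 1) ∈ V₁ := by
    have h2 := V₁.inv_mem hn
    have e : ((π ^ n)⁻¹ * π⁻¹)⁻¹ = π ^ (n + 1) := by rw [pow_succ']; group
    rwa [e] at h2
  set d := n + 1 with hddef
  have hNH : ∀ m, Nm π a m ∈ H := Nm_mem π a H haH hHst
  have hfixd : ∀ m, π ^ d • Nm π a m = Nm π a m := fun m => hU₀fix _ (hV₁U hd) _ (hNH m)
  have hcfin : IsOfFinOrder (⟨Nm π a d, hNH d⟩ : H) := by
    have : Finite H := hHfin
    exact isOfFinOrder_of_finite _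
  obtain ⟨e, he0, he⟩ := hcfin.exists_pow_eq_one
  have he' : Nm π a d ^ e = 1 := by
    have := congrArg Subtype.val he
    simpa using this
  set M := d * e with hMdef
  have hM0 : 0 < M := Nat.mul_pos (Nat.succ_pos n) he0
  have hNM : Nm π a M = 1 := by rw [hMdef, Nm_mul_of_fix π a d hfixd, he']
  have hNMj : ∀ j, Nm π a (M * j) = 1 := by
    intro j
    induction j with
    | zero => simp [Nm_zero]
    | succ j ih => rw [mul_add, mul_one, Nm_add, ih, hNM, smul_one, one_mul]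
  obtain ⟨V, hVn, hVo, hVV₁, haV, hbV⟩ := hP V₁ hV₁o V₁.one_mem M hM0
  have hVfix : ∀ v ∈ V, ∀ x ∈ H, v • x = x := fun v hv x hx => hU₀fix v (hV₁U (hVV₁ hv)) x hx
  let idx : Γ → ℕ := fun σ => Nat.find (haV σ)
  have hidx : ∀ σ, (π ^ idx σ)⁻¹ * σ ∈ V := fun σ => Nat.find_spec (haV σ)
  have key0 : ∀ m m' : ℕ, m ≤ m' → (π ^ m)⁻¹ * π ^ m' ∈ V → Nm π a m' = Nm π a m := by
    intro m m' hmm' hV
    obtain ⟨t, rfl⟩ := Nat.exists_eq_add_of_le hmm'
    have e1 : (π ^ m)⁻¹ * π ^ (m + t) = π ^ t := by rw [pow_add]; group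
    rw [e1] at hV
    obtain ⟨j, rfl⟩ := hbV t hV
    rw [Nm_add, hNMj, smul_one, mul_one]
  have key : ∀ σ n, (π ^ n)⁻¹ * σ ∈ V → Nm π a (idx σ) = Nm π a n := by
    intro σ n hn
    have h1 : (π ^ n)⁻¹ * π ^ idx σ ∈ V := by
      have := V.mul_mem hn (V.inv_mem (hidx σ))
      have e1 : (π ^ n)⁻¹ * σ * ((π ^ idx σ)⁻¹ * σ)⁻¹ = (π ^ n)⁻¹ * π ^ idx σ := by group
      rwa [e1] at this
    rcases le_total n (idx σ) with hle | hle
    · exact key0 _ _ hle h1
    · refine (key0 _ _ hle ?_).symm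
      have := V.inv_mem h1
      have e1 : ((π ^ n)⁻¹ * π ^ idx σ)⁻¹ = (π ^ idx σ)⁻¹ * π ^ n := by group
      rwa [e1] at this
  have hcoc : IsOneCocycle (fun σ => Nm π a (idx σ)) := by
    intro σ τ
    have h1 : (π ^ (idx σ + idx τ))⁻¹ * (σ * τ) ∈ V := by
      have h2 := hVn.conj_mem _ (hidx σ) (π ^ idx τ)⁻¹
      have h3 := V.mul_mem h2 (hidx τ)
      have e1 : (π ^ idx τ)⁻¹ * ((π ^ idx σ)⁻¹ * σ) * (π ^ idx τ)⁻¹⁻¹ * ((π ^ idx τ)⁻¹ * τ) =
          (π ^ (idx σ + idx τ))⁻¹ * (σ * τ) := by rw [pow_add]; group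
      rwa [e1] at h3
    show Nm π a (idx (σ * τ)) = Nm π a (idx σ) * σ • Nm π a (idx τ)
    rw [key _ _ h1, Nm_add]
    congr 1
    have e2 : σ = π ^ idx σ * ((π ^ idx σ)⁻¹ * σ) := by group
    conv_rhs => rw [e2, mul_smul, hVfix _ (hidx σ) _ (hNH _)]
  have hlc : IsLocallyConstant (fun σ => Nm π a (idx σ)) := by
    rw [IsLocallyConstant.iff_exists_open]
    intro σ
    refine ⟨(fun τ => σ⁻¹ * τ) ⁻¹' (V : Set Γ), hVo.preimage (continuous_const_mul σ⁻¹), ?_, ?_⟩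
    · simp [V.one_mem]
    · intro τ hτ
      have hτ' : σ⁻¹ * τ ∈ V := hτ
      refine key τ (idx σ) ?_
      have := V.mul_mem (hidx σ) hτ'
      have e1 : (π ^ idx σ)⁻¹ * σ * (σ⁻¹ * τ) = (π ^ idx σ)⁻¹ * τ := by group
      rwa [e1] at this
  refine ⟨⟨⟨_, hcoc⟩, hlc⟩, ?_⟩
  show Nm π a (idx π) = a
  have h1 : (π ^ 1)⁻¹ * π ∈ V := by simp [V.one_mem]
  rw [key π 1 h1, Nm_one]

theorem twist_of_procyclic
    (hcont : ∀ a : A, IsOpen {σ : Γ | σ • a = a})
    (z : OneCocycleLC Γ A) (g : A) :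
    ∃ z'' : OneCocycleLC Γ A, ∀ σ, z''.1 σ = g * z.1 σ * (σ • g)⁻¹ := by
  have hcoc : IsOneCocycle (fun σ : Γ => g * z.1 σ * (σ • g)⁻¹) := by
    intro σ τ
    simp only [coc_mul, smul_mul', smul_inv', mul_smul]
    group
  have hlc : IsLocallyConstant (fun σ : Γ => g * z.1 σ * (σ • g)⁻¹) := by
    rw [IsLocallyConstant.iff_exists_open]
    intro σ
    refine ⟨(fun τ => σ⁻¹ * τ) ⁻¹' ({w | z.1 w = 1} ∩ {w : Γ | w • g = g}),
      ((z.2.isOpen_fiber 1).inter (hcont g)).preimage (continuous_const_mul σ⁻¹), ?_, ?_⟩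
    · simp [coc_one]
    · rintro τ ⟨h1, h2⟩
      have h1' : z.1 (σ⁻¹ * τ) = 1 := h1
      have h2' : (σ⁻¹ * τ) • g = g := h2
      have e : τ = σ * (σ⁻¹ * τ) := by group
      show g * z.1 τ * (τ • g)⁻¹ = g * z.1 σ * (σ • g)⁻¹
      conv_lhs => rw [e, coc_mul_of_eq_one _ _ _ h1', mul_smul, h2']
  exact ⟨⟨⟨_, hcoc⟩, hlc⟩, fun σ => rfl⟩

theorem main_abstract (π : Γ) (hP : Procyclic π)
    (hcont : ∀ a : A, IsOpen {σ : Γ | σ • a = a})
    (hfin : ∀ a : A, ∃ H : Subgroup A, (H : Set A).Finite ∧ a ∈ H ∧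
      ∀ (σ : Γ) (x : A), x ∈ H → σ • x ∈ H) :
    Function.Bijective (fun z : OneCocycleLC Γ A => z.1 π) ∧
      ∀ z z' : OneCocycleLC Γ A,
        z.cl = z'.cl ↔ ∃ g : A, z'.1 π = g * z.1 π * (π • g)⁻¹ := by
  refine ⟨⟨fun z z' h => inj_of_procyclic π hP z z' h,
    fun a => surj_of_procyclic π hP hcont hfin a⟩, fun z z' => ?_⟩
  rw [OneCocycleLC.cl_eq_cl_iff]
  constructor
  · rintro ⟨c, hc⟩
    refine ⟨c, ?_⟩
    rw [hc π]
    group
  · rintro ⟨g, hg⟩
    obtain ⟨z'', hz''⟩ := twist_of_procyclic hcont z g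
    have : z'' = z' := inj_of_procyclic π hP z'' z' (by rw [hz'', hg])
    subst this
    refine ⟨g, fun σ => ?_⟩
    rw [hz'']
    group

end Abstract

section Field

variable (k : Type u) [Field k] [Finite k]

theorem procyclic_frob (π : AlgebraicClosure k ≃ₐ[k] AlgebraicClosure k)
    (hπ : ∀ x : AlgebraicClosure k, π x = x ^ Nat.card k) : Procyclic π := by
  intro W hWo h1 M hM
  have hnhds : W ∈ nhds 1 := hWo.mem_nhds h1
  obtain ⟨E₀, hE₀fin, hE₀W⟩ := (krullTopology_mem_nhds_one_iff k (AlgebraicClosure k) W).mp hnhds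
  obtain ⟨p, hp⟩ := CharP.exists k
  have : Fact p.Prime := ⟨CharP.char_is_prime k p⟩
  have : NeZero M := ⟨hM.ne'⟩
  let f : FiniteField.Extension k p M →ₐ[k] AlgebraicClosure k := IsAlgClosed.lift
  let E₁ : IntermediateField k (AlgebraicClosure k) := f.fieldRange
  have hE₁ : Module.finrank k E₁ = M := by
    rw [← FiniteField.finrank_extension k p M]
    exact (AlgEquiv.ofInjectiveField f).toLinearEquiv.finrank_eq.symm
  have : FiniteDimensional k E₁ := Module.finite_of_finrank_pos (by rw [hE₁]; exact hM)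
  let E : IntermediateField k (AlgebraicClosure k) := E₀ ⊔ E₁
  have hEfd : FiniteDimensional k E := IntermediateField.finiteDimensional_sup E₀ E₁
  have hEfin : Finite E := Module.finite_of_finite k
  have hEn : Normal k E := inferInstance
  have hMdvd : M ∣ Module.finrank k E := by
    rw [← hE₁]
    exact IntermediateField.finrank_dvd_of_le_right le_sup_right
  have hker : (AlgEquiv.restrictNormalHom (F := k) (K₁ := AlgebraicClosure k) E).ker
      = E.fixingSubgroup := E.restrictNormalHom_ker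
  let _ : Fintype k := Fintype.ofFinite k
  set φ := FiniteField.frobeniusAlgEquivOfAlgebraic k E with hφ
  have hres : AlgEquiv.restrictNormalHom (F := k) (K₁ := AlgebraicClosure k) E π = φ := by
    ext x
    rw [AlgEquiv.restrictNormalHom_apply]
    simp only [hφ, FiniteField.coe_frobeniusAlgEquivOfAlgebraic]
    rw [hπ, Nat.card_eq_fintype_card]
    simp
  refine ⟨E.fixingSubgroup, ?_, E.fixingSubgroup_isOpen, ?_, ?_, ?_⟩
  · rw [← hker]; exact MonoidHom.normal_ker _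
  · refine subset_trans ?_ hE₀W
    exact IntermediateField.fixingSubgroup_antitone (le_sup_left : E₀ ≤ E)
  · intro σ
    obtain ⟨i, hi⟩ := (FiniteField.bijective_frobeniusAlgEquivOfAlgebraic_pow k E).2
      (AlgEquiv.restrictNormalHom E σ)
    refine ⟨i.1, ?_⟩
    rw [← hker, MonoidHom.mem_ker, map_mul, map_inv, map_pow, hres]
    rw [← hi]
    exact inv_mul_cancel _
  · intro n hn
    rw [← hker, MonoidHom.mem_ker, map_pow, hres] at hn
    have := orderOf_dvd_of_pow_eq_one hn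
    rw [FiniteField.orderOf_frobeniusAlgEquivOfAlgebraic] at this
    exact hMdvd.trans this

theorem main (π : AlgebraicClosure k ≃ₐ[k] AlgebraicClosure k)
    (hπ : ∀ x : AlgebraicClosure k, π x = x ^ Nat.card k)
    (A : Type v) [Group A] [MulDistribMulAction (AlgebraicClosure k ≃ₐ[k] AlgebraicClosure k) A]
    (hcont : ∀ a : A, IsOpen {σ : AlgebraicClosure k ≃ₐ[k] AlgebraicClosure k | σ • a = a})
    (hfin : ∀ a : A, ∃ H : Subgroup A, (H : Set A).Finite ∧ a ∈ H ∧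
      ∀ (σ : AlgebraicClosure k ≃ₐ[k] AlgebraicClosure k) (x : A), x ∈ H → σ • x ∈ H) :
    Function.Bijective
        (fun z : GpH1.OneCocycleLC (AlgebraicClosure k ≃ₐ[k] AlgebraicClosure k) A => z.1 π) ∧
      ∀ z z' : GpH1.OneCocycleLC (AlgebraicClosure k ≃ₐ[k] AlgebraicClosure k) A,
        z.cl = z'.cl ↔ ∃ g : A, z'.1 π = g * z.1 π * (π • g)⁻¹ :=
  main_abstract π (procyclic_frob k π hπ) hcont hfin

end Field

end Groth.Agent.Helper29.FrobCocycle
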