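import Mathlib
import Groth.Prelude.Def_PolLaw
import Groth.Prelude.Def_FrobAlg

namespace Groth.Agent.Helper29.FrobLaw

open scoped TensorProduct
open FrobAlg PolLaw

section General

variable (p : ℕ) [Fact p.Prime] (k : Type) [Field k] [CharP k p]

lemma add_pow_p (S : Type) [CommSemiring S] [Algebra k S] (s t : S) :
    (s + t) ^ p = s ^ p + t ^ p := by
  have hp : (p : S) = 0 := by
    have : (p : k) = 0 := CharP.cast_eq_zero k p
    rw [← map_natCast (algebraMap k S), this, map_zero]
  rw [(Commute.all s t).add_pow_prime_eq (Fact.out : p.Prime), hp]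
  simp

lemma twist_smul (r : k) (a : Twist p k) :
    (toTwist p k).symm (r • a) = r ^ p * (toTwist p k).symm a := by
  rw [Algebra.smul_def, algebraMap_twist, map_mul, RingEquiv.symm_apply_apply]

variable (S : Type) [CommSemiring S] [Algebra k S]

/-- the bi-additive map `(s, a) ↦ s ^ p * a` -/
noncomputable def psiAux : S →+ Twist p k →+ S where
  toFun s :=
    { toFun := fun a => s ^ p * algebraMap k S ((toTwist p k).symm a)
      map_zero' := by simp
      map_add' := fun a b => by simp [mul_add] }
  map_zero' := by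
    ext a
    have hp : p ≠ 0 := (Fact.out : p.Prime).ne_zero
    simp [zero_pow hp]
  map_add' s t := by
    ext a
    simp [add_pow_p p k S, add_mul]

/-- the ring map `S ⊗ K → S`, as an additive map -/
noncomputable def psi : S ⊗[k] Twist p k →+ S :=
  TensorProduct.liftAddHom (psiAux p k S) (by
    intro r s a
    show (r • s) ^ p * algebraMap k S ((toTwist p k).symm a)
      = s ^ p * algebraMap k S ((toTwist p k).symm (r • a))
    rw [twist_smul, Algebra.smul_def, mul_pow, map_mul, map_pow]
    ring)

@[simp]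
lemma psi_tmul (s : S) (a : Twist p k) :
    psi p k S (s ⊗ₜ[k] a) = s ^ p * algebraMap k S ((toTwist p k).symm a) := rfl

lemma psi_one : psi p k S 1 = 1 := by
  rw [Algebra.TensorProduct.one_def, psi_tmul]
  simp

lemma psi_mul (x y : S ⊗[k] Twist p k) : psi p k S (x * y) = psi p k S x * psi p k S y := by
  induction x using TensorProduct.induction_on with
  | zero => simp
  | add x₁ x₂ h₁ h₂ => rw [add_mul, map_add, h₁, h₂, map_add, add_mul]
  | tmul s a =>
    induction y using TensorProduct.induction_on with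
    | zero => simp
    | add y₁ y₂ h₁ h₂ => rw [mul_add, map_add, h₁, h₂, map_add, mul_add]
    | tmul t b =>
      rw [Algebra.TensorProduct.tmul_mul_tmul, psi_tmul, psi_tmul, psi_tmul, mul_pow, map_mul,
        map_mul]
      ring

lemma psi_smul (s : S) (x : S ⊗[k] Twist p k) : psi p k S (s • x) = s ^ p * psi p k S x := by
  induction x using TensorProduct.induction_on with
  | zero => simp
  | add x₁ x₂ h₁ h₂ => rw [smul_add, map_add, h₁, h₂, map_add, mul_add]
  | tmul t a =>
    rw [TensorProduct.smul_tmul', psi_tmul, psi_tmul, smul_eq_mul, mul_pow, mul_assoc]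

lemma psi_compat {S' : Type} [CommSemiring S'] [Algebra k S'] (φ : S →ₐ[k] S')
    (x : S ⊗[k] Twist p k) :
    φ (psi p k S x) = psi p k S' (φ.toLinearMap.rTensor (Twist p k) x) := by
  induction x using TensorProduct.induction_on with
  | zero => simp
  | add x₁ x₂ h₁ h₂ => simp only [map_add, h₁, h₂]
  | tmul t a =>
    rw [LinearMap.rTensor_tmul, psi_tmul, psi_tmul, map_mul, map_pow, AlgHom.toLinearMap_apply,
      AlgHom.commutes]

/-- the Frobenius law -/
noncomputable def law : Twist p k →ₚₗ[k] k where
  toFun' S _ _ := fun x => (psi p k S x) ⊗ₜ[k] (1 : k)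
  isCompat' {S} _ _ {S'} _ _ φ := by
    funext x
    simp only [Function.comp_apply, LinearMap.rTensor_tmul, AlgHom.toLinearMap_apply]
    rw [psi_compat]

lemma law_apply (x : S ⊗[k] Twist p k) :
    (law p k).toFun' S x = (psi p k S x) ⊗ₜ[k] (1 : k) := rfl

/-- the Frobenius law as a multiplicative law -/
noncomputable def mulLaw : MulLaw k (Twist p k) k p where
  law := law p k
  homog S _ _ s x := by
    rw [law_apply, law_apply, psi_smul, TensorProduct.smul_tmul', smul_eq_mul]
  mult S _ _ := by
    refine ⟨?_, fun x y => ?_⟩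
    · rw [law_apply, psi_one]; rfl
    · rw [law_apply, law_apply, law_apply, psi_mul, Algebra.TensorProduct.tmul_mul_tmul, mul_one]

lemma mulLaw_tmul (s : S) (a : Twist p k) :
    (mulLaw p k).law.toFun' S (s ⊗ₜ[k] a) = (s ^ p) ⊗ₜ[k] ((toTwist p k).symm a) := by
  show (law p k).toFun' S (s ⊗ₜ[k] a) = _
  rw [law_apply, psi_tmul, mul_comm, ← Algebra.smul_def, TensorProduct.smul_tmul, smul_eq_mul,
    mul_one]

lemma ker_eq_bot (F : MulLaw k (Twist p k) k p)
    (hF : ∀ (S : Type) [CommSemiring S] [Algebra k S] (s : S) (a : Twist p k),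
      F.law.toFun' S (s ⊗ₜ[k] a) = (s ^ p) ⊗ₜ[k] ((toTwist p k).symm a)) :
    PolLaw.ker F.law = ⊥ := by
  rw [eq_bot_iff]
  intro b hb
  have hb' : ∀ (S : Type) [CommSemiring S] [Algebra k S] (x w : S ⊗[k] Twist p k),
      F.law.toFun' S (x + w * (1 ⊗ₜ[k] b)) = F.law.toFun' S x := hb
  have h := hb' k 0 1
  rw [zero_add, one_mul, hF k 1 b] at h
  have h0 : F.law.toFun' k 0 = 0 := by
    have := hF k 0 0
    rw [TensorProduct.zero_tmul, map_zero, TensorProduct.tmul_zero] at this
    exact this
  rw [h0, one_pow] at h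
  have h2 := congrArg (TensorProduct.lid k k) h
  rw [TensorProduct.lid_tmul, map_zero, one_smul] at h2
  have h3 : b = 0 := by
    have := congrArg (toTwist p k) h2
    rwa [RingEquiv.apply_symm_apply, map_zero] at this
  rw [h3]
  exact Submodule.zero_mem _

end General

section Specific

variable (p : ℕ) [Fact p.Prime]

open MvPolynomial in
lemma core (s : Finset ℕ) (P : ℕ → MvPolynomial ℕ (ZMod p))
    (h : ∑ i ∈ s, (P i) ^ p * X i = 0) : ∀ i ∈ s, P i = 0 := by
  classical
  intro i hi
  have hp : p ≠ 0 := (Fact.out : p.Prime).ne_zero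
  have hp2 : 2 ≤ p := (Fact.out : p.Prime).two_le
  ext n
  rw [coeff_zero]
  have h1 := congrArg (coeff (p • n + Finsupp.single i 1)) h
  rw [coeff_sum, coeff_zero] at h1
  rw [Finset.sum_eq_single i] at h1
  · rw [coeff_mul_X', if_pos (by simp), add_tsub_cancel_right, ← expand_zmod,
      coeff_expand_smul p hp] at h1
    exact h1
  · intro j _ hji
    rw [coeff_mul_X']
    split_ifs with hj
    · rw [← expand_zmod]
      apply coeff_expand_of_not_dvd (i := i)
      simp only [Finsupp.coe_tsub, Finsupp.coe_add, Finsupp.coe_smul, Pi.sub_apply, Pi.add_apply,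
        Pi.smul_apply, Finsupp.single_eq_same, Finsupp.single_eq_of_ne hji.symm, smul_eq_mul,
        tsub_zero]
      intro hdvd
      have : p ∣ 1 := (Nat.dvd_add_right (dvd_mul_right p (n i))).mp hdvd
      have := Nat.le_of_dvd one_pos this
      omega
    · rfl
  · intro hi'; exact absurd hi hi'

local notation "kk" => FractionRing (MvPolynomial ℕ (ZMod p))

lemma not_finite : ¬ Module.Finite kk (Twist p kk) := by
  intro hfin
  have hp0 : p ≠ 0 := (Fact.out : p.Prime).ne_zero
  let v : ℕ → Twist p kk := fun i =>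
    toTwist p kk (algebraMap (MvPolynomial ℕ (ZMod p)) kk (MvPolynomial.X i))
  have hv : LinearIndependent kk v := by
    rw [linearIndependent_iff']
    intro s g hg i hi
    -- clear denominators
    obtain ⟨Q, hQ⟩ := IsLocalization.exist_integer_multiples_of_finset
      (nonZeroDivisors (MvPolynomial ℕ (ZMod p))) (s.image g)
    have hQ' : ∀ j ∈ s, ∃ P : MvPolynomial ℕ (ZMod p),
        algebraMap (MvPolynomial ℕ (ZMod p)) kk P
          = algebraMap (MvPolynomial ℕ (ZMod p)) kk (Q : MvPolynomial ℕ (ZMod p)) * g j := by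
      intro j hj
      obtain ⟨P, hP⟩ := hQ (g j) (Finset.mem_image_of_mem g hj)
      exact ⟨P, by rw [hP, Algebra.smul_def]⟩
    choose! P hP using hQ'
    have hg' := congrArg (toTwist p kk).symm hg
    rw [map_sum, map_zero] at hg'
    have hg2 : ∑ j ∈ s, (g j) ^ p * algebraMap (MvPolynomial ℕ (ZMod p)) kk (MvPolynomial.X j)
        = 0 := by
      rw [← hg']
      refine Finset.sum_congr rfl fun j _ => ?_
      rw [twist_smul]
      simp only [v, RingEquiv.symm_apply_apply]
    have hsum : ∑ j ∈ s, (P j) ^ p * MvPolynomial.X j = 0 := by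
      apply IsFractionRing.injective (MvPolynomial ℕ (ZMod p)) kk
      rw [map_sum, map_zero]
      have : ∀ j ∈ s, algebraMap (MvPolynomial ℕ (ZMod p)) kk ((P j) ^ p * MvPolynomial.X j)
          = (algebraMap (MvPolynomial ℕ (ZMod p)) kk (Q : MvPolynomial ℕ (ZMod p))) ^ p *
            ((g j) ^ p * algebraMap (MvPolynomial ℕ (ZMod p)) kk (MvPolynomial.X j)) := by
        intro j hj
        rw [map_mul, map_pow, hP j hj, mul_pow, mul_assoc]
      rw [Finset.sum_congr rfl this, ← Finset.mul_sum, hg2, mul_zero]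
    have hPi := core p s P hsum i hi
    have h1 := hP i hi
    rw [hPi, map_zero] at h1
    have hQ0 : algebraMap (MvPolynomial ℕ (ZMod p)) kk (Q : MvPolynomial ℕ (ZMod p)) ≠ 0 := by
      intro h0
      have := IsFractionRing.injective (MvPolynomial ℕ (ZMod p)) kk (h0.trans (map_zero _).symm)
      exact nonZeroDivisors.coe_ne_zero Q this
    exact (mul_eq_zero.mp h1.symm).resolve_left hQ0
  have := hv.finite_of_isNoetherian
  exact _root_.not_finite ℕ

end Specific

end Groth.Agent.Helper29.FrobLaw
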