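import Mathlib

namespace Groth.Agent.Helper29.GFCount

open Polynomial Finset

lemma pow_expand {S : Type*} [CommSemiring S] (q k : ℕ) (w : Fin q → S) :
    (∑ v : Fin q, C (w v) * X ^ (v : ℕ)) ^ k
      = ∑ e : Fin k → Fin q, C (∏ i, w (e i)) * X ^ (∑ i, (e i : ℕ)) := by
  rw [Fintype.sum_pow]
  refine Finset.sum_congr rfl fun e _ => ?_
  rw [Finset.prod_mul_distrib, Finset.prod_pow_eq_pow_sum, map_prod]

lemma coeff_pow_expand {S : Type*} [CommSemiring S] (q k s : ℕ) (w : Fin q → S) :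
    ((∑ v : Fin q, C (w v) * X ^ (v : ℕ)) ^ k).coeff s
      = ∑ e : Fin k → Fin q, if ∑ i, (e i : ℕ) = s then ∏ i, w (e i) else 0 := by
  rw [pow_expand, Polynomial.finsetSum_coeff]
  refine Finset.sum_congr rfl fun e _ => ?_
  rw [Polynomial.coeff_C_mul_X_pow]
  by_cases h : s = ∑ i, (e i : ℕ)
  · rw [if_pos h, if_pos h.symm]
  · rw [if_neg h, if_neg (Ne.symm h)]

/-- `A q = ∑_{1 ≤ v < q} X ^ v` -/
noncomputable def A (q : ℕ) : ℕ[X] :=
  ∑ v : Fin q, C (if 1 ≤ (v : ℕ) then 1 else 0) * X ^ (v : ℕ)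

lemma card_eq_coeff (q k j : ℕ) :
    Fintype.card {e : Fin k → Fin q // (∀ i, 1 ≤ (e i : ℕ)) ∧ ∑ i, (e i : ℕ) = j}
      = ((A q) ^ k).coeff j := by
  rw [A, coeff_pow_expand, Fintype.card_subtype, Finset.card_filter]
  refine Finset.sum_congr rfl fun e _ => ?_
  rw [Fintype.prod_boole]
  by_cases h1 : ∀ i, 1 ≤ (e i : ℕ) <;> by_cases h2 : ∑ i, (e i : ℕ) = j <;> simp [h1, h2]

lemma coeff_zero_A_pow (q k : ℕ) (hk : 0 < k) : ((A q) ^ k).coeff 0 = 0 := by
  rw [← card_eq_coeff, Fintype.card_eq_zero_iff]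
  refine ⟨fun ⟨e, h1, h2⟩ => ?_⟩
  have := Finset.single_le_sum (f := fun i => (e i : ℕ)) (fun i _ => Nat.zero_le _)
    (Finset.mem_univ (⟨0, hk⟩ : Fin k))
  have h3 := h1 ⟨0, hk⟩
  omega

/-- weights -/
noncomputable def W (m : ℕ) (v : ℕ) : ℕ[X] :=
  if 1 ≤ v then (if 2 * v < 2 * m + 1 then X else 1) else 0

noncomputable def PP (m : ℕ) : ℕ[X][X] := ∑ v : Fin (2 * m + 1), C (W m v) * X ^ (v : ℕ)

lemma card_eq_coeff2 (m n s D : ℕ) :
    Fintype.card {e : Fin n → Fin (2 * m + 1) // (∀ i, 1 ≤ (e i : ℕ)) ∧ ∑ i, (e i : ℕ) = s ∧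
        (Finset.univ.filter fun i => 2 * (e i : ℕ) < 2 * m + 1).card = D}
      = (((PP m) ^ n).coeff s).coeff D := by
  rw [PP, coeff_pow_expand, Fintype.card_subtype, Finset.card_filter, Polynomial.finsetSum_coeff]
  refine Finset.sum_congr rfl fun e _ => ?_
  have key : ∏ i, W m (e i) = if ∀ i, 1 ≤ (e i : ℕ) then
      X ^ (Finset.univ.filter fun i => 2 * (e i : ℕ) < 2 * m + 1).card else 0 := by
    split_ifs with h
    · have : ∀ i, W m (e i) = if 2 * (e i : ℕ) < 2 * m + 1 then X else 1 := fun i => by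
        simp [W, h i]
      simp only [this]
      rw [Finset.prod_ite, Finset.prod_const, Finset.prod_const_one, mul_one]
    · push Not at h
      obtain ⟨i, hi⟩ := h
      refine Finset.prod_eq_zero (Finset.mem_univ i) ?_
      have : ¬ (1 ≤ (e i : ℕ)) := by omega
      simp [W, this]
  rw [key]
  by_cases h1 : ∀ i, 1 ≤ (e i : ℕ) <;> by_cases h2 : ∑ i, (e i : ℕ) = s <;>
    simp [h1, h2, Polynomial.coeff_X_pow, eq_comm]

lemma A_eq (m : ℕ) : A (m + 1) = ∑ x ∈ range m, X ^ (x + 1) := by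
  rw [A, Fin.sum_univ_eq_sum_range (fun v => (C (if 1 ≤ v then 1 else 0) : ℕ[X]) * X ^ v) (m + 1),
    Finset.sum_range_succ']
  simp

lemma PP_eq (m : ℕ) : PP m = (C X + X ^ m) * (A (m + 1)).map C := by
  rw [A_eq, PP, Fin.sum_univ_eq_sum_range (fun v => (C (W m v) : ℕ[X][X]) * X ^ v) (2 * m + 1)]
  rw [show 2 * m + 1 = (m + 1) + m by ring, Finset.sum_range_add, Finset.sum_range_succ']
  have h1 : ∀ x ∈ range m, (C (W m (x + 1)) : ℕ[X][X]) * X ^ (x + 1) = C X * X ^ (x + 1) := by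
    intro x hx
    rw [mem_range] at hx
    have : 2 * (x + 1) < 2 * m + 1 := by omega
    simp [W, this]
  have h2 : ∀ x ∈ range m, (C (W m (m + 1 + x)) : ℕ[X][X]) * X ^ (m + 1 + x)
      = X ^ m * X ^ (x + 1) := by
    intro x hx
    have : ¬ (2 * (m + 1 + x) < 2 * m + 1) := by omega
    have h1 : 1 ≤ m + 1 + x := by omega
    simp only [W, this, h1, if_true, if_false, map_one, one_mul]
    rw [← pow_add]; congr 1; ring
  have h0 : W m 0 = 0 := by simp [W]
  rw [Finset.sum_congr rfl h1, Finset.sum_congr rfl h2, h0]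
  simp only [Polynomial.map_sum, Polynomial.map_pow, Polynomial.map_X, map_zero, zero_mul,
    add_zero, ← Finset.mul_sum, add_mul]

lemma coeff_PP_pow (m n s D : ℕ) :
    (((PP m) ^ n).coeff s).coeff D
      = n.choose D * (if m * (n - D) ≤ s then ((A (m + 1)) ^ n).coeff (s - m * (n - D)) else 0) := by
  have e1 : (PP m) ^ n = ∑ t ∈ range (n + 1),
      C (C (n.choose t : ℕ) * X ^ t) * (X ^ (m * (n - t)) * ((A (m + 1)) ^ n).map C) := by
    rw [PP_eq, _root_.mul_pow (M := ℕ[X][X]), _root_.add_pow (R := ℕ[X][X]), Finset.sum_mul, ← Polynomial.map_pow]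
    refine Finset.sum_congr rfl fun t _ => ?_
    rw [← pow_mul]
    have hc1 : (C (n.choose t) : ℕ[X]) = ((n.choose t : ℕ) : ℕ[X]) := Polynomial.C_eq_natCast _
    have hc2 : (C (C (n.choose t)) : ℕ[X][X]) = ((n.choose t : ℕ) : ℕ[X][X]) := by
      rw [hc1]; exact Polynomial.C_eq_natCast _
    simp only [map_mul, map_pow, hc2]
    ring
  rw [e1, Polynomial.finsetSum_coeff, Polynomial.finsetSum_coeff]
  have e2 : ∀ t ∈ range (n + 1),
      ((C (C (n.choose t : ℕ) * X ^ t) * (X ^ (m * (n - t)) * ((A (m + 1)) ^ n).map C)).coeff s).coeff D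
      = if t = D then n.choose D *
          (if m * (n - D) ≤ s then ((A (m + 1)) ^ n).coeff (s - m * (n - D)) else 0) else 0 := by
    intro t _
    rw [Polynomial.coeff_C_mul, Polynomial.coeff_X_pow_mul', Polynomial.coeff_map]
    by_cases hle : m * (n - t) ≤ s
    · rw [if_pos hle, mul_assoc, Polynomial.coeff_C_mul, Polynomial.coeff_X_pow_mul']
      by_cases htD : t = D
      · subst htD
        simp [hle]
      · rw [if_neg htD]
        by_cases hlt : t ≤ D
        · have : D - t ≠ 0 := by omega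
          simp [hlt, this]
        · simp [hlt]
    · rw [if_neg hle]
      by_cases htD : t = D
      · subst htD; simp [hle]
      · simp [htD]
  rw [Finset.sum_congr rfl e2, Finset.sum_ite_eq' (range (n + 1)) D]
  by_cases h : D ∈ range (n + 1)
  · rw [if_pos h]
  · rw [if_neg h]
    rw [mem_range] at h
    rw [Nat.choose_eq_zero_of_lt (by omega), zero_mul]

theorem main (p n s D : ℕ) (hp : Odd p) :
    Fintype.card {e : Fin n → Fin p // (∀ i, 1 ≤ (e i : ℕ)) ∧ ∑ i, (e i : ℕ) = s ∧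
        (Finset.univ.filter fun i => 2 * (e i : ℕ) < p).card = D} =
      n.choose D * ∑ j ∈ Finset.range (s + 1),
        Fintype.card {e : Fin D → Fin ((p + 1) / 2) // (∀ i, 1 ≤ (e i : ℕ)) ∧ ∑ i, (e i : ℕ) = j} *
          Fintype.card {e : Fin (n - D) → Fin ((p + 1) / 2) // (∀ i, 1 ≤ (e i : ℕ)) ∧
            ∑ i, (e i : ℕ) = (s - j - (n - D) * ((p - 1) / 2))} := by
  obtain ⟨m, rfl⟩ := hp
  have hq : (2 * m + 1 + 1) / 2 = m + 1 := by omega
  have hq' : (2 * m + 1 - 1) / 2 = m := by omega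
  rw [hq, hq']
  simp only [card_eq_coeff]
  rw [card_eq_coeff2, coeff_PP_pow]
  by_cases hD : D ≤ n
  swap
  · rw [Nat.choose_eq_zero_of_lt (by omega), zero_mul, zero_mul]
  congr 1
  obtain ⟨k, rfl⟩ : ∃ k, n = D + k := ⟨n - D, by omega⟩
  have hk : D + k - D = k := by omega
  rw [hk, pow_add]
  by_cases hle : m * k ≤ s
  · rw [if_pos hle, Polynomial.coeff_mul, Finset.Nat.sum_antidiagonal_eq_sum_range_succ_mk]
    have hsub : range (s - m * k + 1) ⊆ range (s + 1) := by
      intro x hx; rw [mem_range] at hx ⊢; omega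
    rw [← Finset.sum_subset hsub]
    · refine Finset.sum_congr rfl fun j hj => ?_
      rw [mem_range] at hj
      have : s - j - k * m = s - m * k - j := by
        rw [Nat.mul_comm k m]; omega
      rw [this]
    · intro j hj hj'
      rw [mem_range] at hj hj'
      have hk0 : 0 < k := by
        rcases Nat.eq_zero_or_pos k with h | h
        · subst h; omega
        · exact h
      have : s - j - k * m = 0 := by
        rw [Nat.mul_comm k m]; omega
      rw [this, coeff_zero_A_pow _ _ hk0, mul_zero]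
  · rw [if_neg hle]
    have hk0 : 0 < k := by
      rcases Nat.eq_zero_or_pos k with h | h
      · subst h; omega
      · exact h
    symm
    refine Finset.sum_eq_zero fun j _ => ?_
    have : s - j - k * m = 0 := by
      rw [Nat.mul_comm k m]; omega
    rw [this, coeff_zero_A_pow _ _ hk0, mul_zero]

end Groth.Agent.Helper29.GFCount
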