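import Mathlib

set_option autoImplicit false

namespace Groth.Agent.Helper29.GLUnitsA

open MvPolynomial Matrix

variable {n : Type*} [Fintype n] [DecidableEq n] {R : Type*} [CommRing R]

/-- bound for the degree of a determinant in one variable -/
theorem degreeOf_det_le {τ : Type*} (M : Matrix n n (MvPolynomial τ R)) (v : τ) (B : ℕ)
    (h : ∀ σ : Equiv.Perm n, ∑ i, degreeOf v (M (σ i) i) ≤ B) : degreeOf v M.det ≤ B := by
  rw [Matrix.det_apply]
  refine (degreeOf_sum_le v _ _).trans (Finset.sup_le (fun σ _ => ?_))
  have h1 : degreeOf v (∏ i, M (σ i) i) ≤ B := (degreeOf_prod_le v _ _).trans (h σ)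
  rcases Int.units_eq_one_or (Equiv.Perm.sign σ) with hs | hs
  · rw [hs, one_smul]; exact h1
  · rw [hs, Units.neg_smul, one_smul, degreeOf_neg]; exact h1

/-- a 0/1 valued function with at most one 1 has sum ≤ 1 -/
theorem sum_le_one_of_unique {ι : Type*} (s : Finset ι) (g : ι → ℕ) (h01 : ∀ i, g i ≤ 1)
    (huniq : ∀ i j, g i ≠ 0 → g j ≠ 0 → i = j) : ∑ i ∈ s, g i ≤ 1 := by
  classical
  by_cases hex : ∃ i ∈ s, g i ≠ 0
  · obtain ⟨i0, hi0, hg⟩ := hex
    rw [Finset.sum_eq_single i0]
    · exact h01 i0
    · intro j _ hj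
      by_contra hne
      exact hj (huniq j i0 hne hg)
    · intro h; exact absurd hi0 h
  · push Not at hex
    rw [Finset.sum_eq_zero (fun i hi => hex i hi)]
    exact Nat.zero_le _

variable [Nontrivial R]

theorem degreeOf_detX_le (v : n × n) : degreeOf v (mvPolynomialX n n R).det ≤ 1 := by
  apply degreeOf_det_le
  intro σ
  apply sum_le_one_of_unique
  · intro i
    rw [mvPolynomialX_apply, degreeOf_X]
    split_ifs <;> omega
  · intro i j hi hj
    rw [mvPolynomialX_apply, degreeOf_X] at hi hj
    have h1 : v = (σ i, i) := by by_contra h; rw [if_neg h] at hi; exact hi rfl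
    have h2 : v = (σ j, j) := by by_contra h; rw [if_neg h] at hj; exact hj rfl
    have := h1.symm.trans h2
    exact (Prod.mk.inj this).2

/-- substitution identifying the variable `w` with `v` -/
noncomputable def rho (v w : n × n) : MvPolynomial (n × n) R →ₐ[R] MvPolynomial (n × n) R :=
  aeval (fun u => if u = w then X v else X u)

omit [Fintype n] [Nontrivial R] in
theorem rho_X (v w u : n × n) : rho (R := R) v w (X u) = if u = w then X v else X u := by
  unfold rho
  rw [aeval_X]

theorem degreeOf_rho_detX_le (v w : n × n) (hvw : v ≠ w) (hrc : v.1 = w.1 ∨ v.2 = w.2) :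
    degreeOf v (rho v w (mvPolynomialX n n R).det) ≤ 1 := by
  rw [AlgHom.map_det]
  apply degreeOf_det_le
  intro σ
  have hval : ∀ i, degreeOf v ((rho (R := R) v w).mapMatrix (mvPolynomialX n n R) (σ i) i) =
      if (σ i, i) = w ∨ (σ i, i) = v then 1 else 0 := by
    intro i
    rw [AlgHom.mapMatrix_apply, Matrix.map_apply, mvPolynomialX_apply, rho_X]
    by_cases h1 : (σ i, i) = w
    · rw [if_pos h1, if_pos (Or.inl h1), degreeOf_X, if_pos rfl]
    · rw [if_neg h1, degreeOf_X]
      by_cases h2 : (σ i, i) = v
      · rw [if_pos h2.symm, if_pos (Or.inr h2)]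
      · rw [if_neg (fun h => h2 h.symm), if_neg (by tauto)]
  apply sum_le_one_of_unique
  · intro i
    rw [hval]; split_ifs <;> omega
  · intro i j hi hj
    rw [hval] at hi hj
    have h1 : (σ i, i) = w ∨ (σ i, i) = v := by by_contra h; rw [if_neg h] at hi; exact hi rfl
    have h2 : (σ j, j) = w ∨ (σ j, j) = v := by by_contra h; rw [if_neg h] at hj; exact hj rfl
    rcases h1 with h1 | h1 <;> rcases h2 with h2 | h2
    · exact (Prod.mk.inj (h1.trans h2.symm)).2
    · rcases hrc with hr | hc
      · have e1 : σ i = w.1 := (Prod.ext_iff.mp h1).1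
        have e2 : σ j = v.1 := (Prod.ext_iff.mp h2).1
        exact σ.injective (by rw [e1, e2, hr])
      · have e1 : i = w.2 := (Prod.ext_iff.mp h1).2
        have e2 : j = v.2 := (Prod.ext_iff.mp h2).2
        rw [e1, e2, hc]
    · rcases hrc with hr | hc
      · have e1 : σ i = v.1 := (Prod.ext_iff.mp h1).1
        have e2 : σ j = w.1 := (Prod.ext_iff.mp h2).1
        exact σ.injective (by rw [e1, e2, hr])
      · have e1 : i = v.2 := (Prod.ext_iff.mp h1).2
        have e2 : j = w.2 := (Prod.ext_iff.mp h2).2
        rw [e1, e2, hc]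
    · exact (Prod.mk.inj (h1.trans h2.symm)).2

omit [Fintype n] [Nontrivial R] in
theorem rho_eq_self (v w : n × n) (f : MvPolynomial (n × n) R) (hf : degreeOf w f = 0) :
    rho v w f = f := by
  have : (rho (R := R) v w).toRingHom f = (RingHom.id _) f := by
    apply hom_congr_vars
    · ext a; simp [rho]
    · intro u hu _
      have huw : u ≠ w := by
        rintro rfl
        exact (mem_vars_iff_degreeOf_ne_zero.mp hu) hf
      change rho v w (X u) = X u
      rw [rho_X, if_neg huw]
    · rfl
  exact this

omit [Fintype n] [Nontrivial R] in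
theorem rho_eq_swap (v w : n × n) (g : MvPolynomial (n × n) R) (hg : degreeOf v g = 0) :
    rho v w g = rename (Equiv.swap v w) g := by
  have : (rho (R := R) v w).toRingHom g = (rename (Equiv.swap v w) : _ →ₐ[R] _).toRingHom g := by
    apply hom_congr_vars
    · ext a; simp [rho]
    · intro u hu _
      have huv : u ≠ v := by
        rintro rfl
        exact (mem_vars_iff_degreeOf_ne_zero.mp hu) hg
      change rho v w (X u) = rename (Equiv.swap v w) (X u)
      rw [rho_X, rename_X]
      by_cases huw : u = w
      · rw [if_pos huw, huw, Equiv.swap_apply_right]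
      · rw [if_neg huw, Equiv.swap_apply_of_ne_of_ne huv huw]
    · rfl
  exact this

/-- the key exclusion lemma -/
theorem key_excl [IsDomain R] (f g : MvPolynomial (n × n) R)
    (hfg : f * g = (mvPolynomialX n n R).det) (v w : n × n) (hvw : v ≠ w)
    (hrc : v.1 = w.1 ∨ v.2 = w.2) (hf : degreeOf v f ≠ 0) (hg : degreeOf w g ≠ 0) : False := by
  have hdet0 : (mvPolynomialX n n R).det ≠ 0 := det_mvPolynomialX_ne_zero n R
  have hf0 : f ≠ 0 := by rintro rfl; rw [zero_mul] at hfg; exact hdet0 hfg.symm
  have hg0 : g ≠ 0 := by rintro rfl; rw [mul_zero] at hfg; exact hdet0 hfg.symm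
  have hv := degreeOf_mul_eq (n := v) hf0 hg0
  have hw := degreeOf_mul_eq (n := w) hf0 hg0
  rw [hfg] at hv hw
  have hv1 := degreeOf_detX_le (R := R) v
  have hw1 := degreeOf_detX_le (R := R) w
  have hgv : degreeOf v g = 0 := by omega
  have hfw : degreeOf w f = 0 := by omega
  have h1 : rho v w f * rho v w g = rho v w (mvPolynomialX n n R).det := by
    rw [← map_mul, hfg]
  rw [rho_eq_self v w f hfw, rho_eq_swap v w g hgv] at h1
  have hg0' : rename (Equiv.swap v w) g ≠ 0 := by
    intro h
    apply hg0
    exact (rename_injective _ (Equiv.swap v w).injective) (h.trans (map_zero _).symm)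
  have h2 := degreeOf_mul_eq (n := v) hf0 hg0'
  rw [h1] at h2
  have h3 : degreeOf v (rename (Equiv.swap v w) g) = degreeOf w g := by
    have := degreeOf_rename_of_injective (p := g) (Equiv.swap v w).injective w
    rwa [Equiv.swap_apply_right] at this
  have h4 := degreeOf_rho_detX_le (R := R) v w hvw hrc
  omega

omit [Nontrivial R] in
/-- a polynomial not involving `v` takes equal values at points differing only at `v` -/
theorem eval_eq_of_degreeOf_eq_zero {τ : Type*} (p : MvPolynomial τ R) (v : τ)
    (hp : degreeOf v p = 0) (x y : τ → R) (hxy : ∀ u, u ≠ v → x u = y u) :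
    eval x p = eval y p := by
  apply eval₂_congr
  intro i c hi hc
  apply hxy
  rintro rfl
  have : i ∈ p.vars := (mem_vars_iff_mem_support i).mpr ⟨c, mem_support_iff.mpr hc, hi⟩
  exact (mem_vars_iff_degreeOf_ne_zero.mp this) hp

theorem degreeOf_detX_eq (v : n × n) : degreeOf v (mvPolynomialX n n R).det = 1 := by
  apply le_antisymm (degreeOf_detX_le v)
  by_contra hlt
  have h0 : degreeOf v (mvPolynomialX n n R).det = 0 := by omega
  let π : Equiv.Perm n := Equiv.swap v.1 v.2
  let x : n × n → R := fun u => if u.1 = π u.2 then 1 else 0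
  let y : n × n → R := fun u => if u = v then 0 else x u
  have hxy : ∀ u, u ≠ v → x u = y u := fun u hu => by simp only [y, if_neg hu]
  have h1 := eval_eq_of_degreeOf_eq_zero _ v h0 x y hxy
  rw [eval_det_mvPolynomialX, eval_det_mvPolynomialX] at h1
  have hy : (Matrix.of fun i j : n => y (i, j)).det = 0 := by
    apply Matrix.det_eq_zero_of_column_eq_zero v.2
    intro i
    simp only [Matrix.of_apply, y, x]
    by_cases hi : (i, v.2) = v
    · rw [if_pos hi]
    · rw [if_neg hi, if_neg]
      intro h
      apply hi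
      have : i = v.1 := by rw [h]; exact Equiv.swap_apply_right _ _
      rw [this]
  have hx : (Matrix.of fun i j : n => x (i, j)).det = Equiv.Perm.sign π := by
    have : (Matrix.of fun i j : n => x (i, j)) = (π⁻¹).permMatrix R := by
      ext i j
      simp only [Matrix.of_apply, x, Equiv.Perm.permMatrix, Equiv.toPEquiv_apply,
        PEquiv.toMatrix_apply, Option.mem_def, Option.some.injEq]
      by_cases h : i = π j
      · rw [if_pos h, if_pos]
        rw [h]; simp
      · rw [if_neg h, if_neg]
        intro h'
        apply h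
        rw [← h']; simp
    rw [this, Matrix.det_permutation]
    simp
  rw [hx, hy] at h1
  rcases Int.units_eq_one_or (Equiv.Perm.sign π) with hs | hs
  · rw [hs] at h1; simp at h1
  · rw [hs] at h1; simp at h1

/-- a polynomial involving no variable is constant -/
theorem eq_C_of_degreeOf_eq_zero {τ : Type*} (p : MvPolynomial τ R)
    (hp : ∀ v, degreeOf v p = 0) : p = C (coeff 0 p) := by
  classical
  ext m
  rw [coeff_C]
  by_cases hm : 0 = m
  · rw [if_pos hm, hm]
  · rw [if_neg hm]
    by_contra hc
    apply hm
    ext v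
    rw [Finsupp.zero_apply]
    by_contra hv
    have : v ∈ p.vars := (mem_vars_iff_mem_support v).mpr
      ⟨m, mem_support_iff.mpr hc, Finsupp.mem_support_iff.mpr (Ne.symm hv)⟩
    exact (mem_vars_iff_degreeOf_ne_zero.mp this) (hp v)

theorem irreducible_detX [IsDomain R] [Nonempty n] :
    Irreducible (mvPolynomialX n n R).det := by
  have hdet0 : (mvPolynomialX n n R).det ≠ 0 := det_mvPolynomialX_ne_zero n R
  have heval1 : eval (fun u : n × n => if u.1 = u.2 then (1 : R) else 0)
      (mvPolynomialX n n R).det = 1 := by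
    rw [eval_det_mvPolynomialX]
    have : (Matrix.of fun i j : n => if (i, j).1 = (i, j).2 then (1 : R) else 0) = 1 := by
      ext i j
      simp [Matrix.one_apply]
    rw [this, Matrix.det_one]
  -- a constant factor is a unit
  have hconst : ∀ f g : MvPolynomial (n × n) R, f * g = (mvPolynomialX n n R).det →
      (∀ v, degreeOf v g = 0) → IsUnit g := by
    intro f g hfg hg
    have hgC := eq_C_of_degreeOf_eq_zero g hg
    have h1 := congrArg (eval (fun u : n × n => if u.1 = u.2 then (1 : R) else 0)) hfg
    rw [heval1, map_mul, hgC, eval_C] at h1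
    rw [hgC]
    exact (IsUnit.of_mul_eq_one _ (by rw [mul_comm]; exact h1)).map C
  constructor
  · intro hu
    obtain ⟨r, hr, hC⟩ := (isUnit_iff_eq_C_of_isReduced).mp hu
    obtain ⟨i⟩ := (inferInstance : Nonempty n)
    have := degreeOf_detX_eq (R := R) (i, i)
    rw [hC, degreeOf_C] at this
    exact absurd this (by omega)
  · intro f g hfg
    have hfg' : f * g = (mvPolynomialX n n R).det := hfg.symm
    have hf0 : f ≠ 0 := by rintro rfl; rw [zero_mul] at hfg'; exact hdet0 hfg'.symm
    have hg0 : g ≠ 0 := by rintro rfl; rw [mul_zero] at hfg'; exact hdet0 hfg'.symm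
    have hsum : ∀ v, degreeOf v f + degreeOf v g = 1 := by
      intro v
      rw [← degreeOf_mul_eq hf0 hg0, hfg', degreeOf_detX_eq]
    by_cases hfc : ∀ v, degreeOf v f = 0
    · left
      exact hconst g f (by rw [mul_comm]; exact hfg') hfc
    · right
      push Not at hfc
      obtain ⟨v0, hv0⟩ := hfc
      apply hconst f g hfg'
      intro u
      -- step 1: u1 = (u.1, v0.2)
      have hstep1 : degreeOf (u.1, v0.2) g = 0 := by
        by_cases h : (u.1, v0.2) = v0
        · rw [h]; have := hsum v0; omega
        · by_contra hne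
          exact key_excl f g hfg' v0 (u.1, v0.2) (fun h' => h h'.symm) (Or.inr rfl) hv0 hne
      have hf1 : degreeOf (u.1, v0.2) f ≠ 0 := by have := hsum (u.1, v0.2); omega
      by_cases h : u = (u.1, v0.2)
      · rw [h]; exact hstep1
      · by_contra hne
        exact key_excl f g hfg' (u.1, v0.2) u (fun h' => h h'.symm) (Or.inl rfl) hf1 hne

end Groth.Agent.Helper29.GLUnitsA
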