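import Mathlib
import Groth.Agent.Lib.Helper29.GLUnitsA

set_option autoImplicit false

namespace Groth.Agent.Helper29.GLUnitsB

open MvPolynomial Matrix GLUnitsA

variable {n : Type*} [Fintype n] [DecidableEq n]

/-- the generic determinant -/
noncomputable abbrev detX (n : Type*) [Fintype n] [DecidableEq n] (R : Type*) [CommRing R] :
    MvPolynomial (n × n) R := (mvPolynomialX n n R).det

/-- the identity point -/
def idPt (n : Type*) [DecidableEq n] (R : Type*) [CommRing R] : n × n → R :=
  fun u => if u.1 = u.2 then 1 else 0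

theorem eval_idPt_detX (R : Type*) [CommRing R] : eval (idPt n R) (detX n R) = 1 := by
  rw [eval_det_mvPolynomialX]
  have : (Matrix.of fun i j : n => idPt n R (i, j)) = 1 := by
    ext i j
    simp [idPt, Matrix.one_apply]
  rw [this, Matrix.det_one]

theorem map_detX {R S : Type*} [CommRing R] [CommRing S] (φ : R →+* S) :
    MvPolynomial.map φ (detX n R) = detX n S := by
  unfold detX
  rw [RingHom.map_det]
  congr 1
  ext i j
  simp [mvPolynomialX_apply]

theorem eval_idPt_map {R S : Type*} [CommRing R] [CommRing S] (φ : R →+* S)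
    (p : MvPolynomial (n × n) R) :
    eval (idPt n S) (MvPolynomial.map φ p) = φ (eval (idPt n R) p) := by
  have hpt : idPt n S = φ ∘ idPt n R := by
    ext u
    simp only [idPt, Function.comp_apply]
    split_ifs <;> simp
  rw [eval_map, hpt]
  have h := eval₂_comp_left φ (RingHom.id R) (idPt n R) p
  rw [RingHom.comp_id] at h
  exact h.symm

theorem factor_domain {A : Type*} [CommRing A] [IsDomain A] [Nonempty n]
    (f g : MvPolynomial (n × n) A) (N : ℕ) (hfg : f * g = detX n A ^ N) :
    ∃ (c : Aˣ) (e : ℕ), f = C (c : A) * detX n A ^ e := by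
  let K := FractionRing A
  let φ := MvPolynomial.map (σ := n × n) (algebraMap A K)
  have hφinj : Function.Injective φ := map_injective _ (IsFractionRing.injective A K)
  have hirr : Irreducible (detX n K) := irreducible_detX
  have hprime : Prime (detX n K) := hirr.prime
  have hmain : ∀ f g : MvPolynomial (n × n) A, f * g = detX n A ^ N →
      ∃ e : ℕ, f = C (eval (idPt n A) f) * detX n A ^ e := by
    intro f g hfg
    have h1 : φ f ∣ detX n K ^ N := by
      refine ⟨φ g, ?_⟩
      rw [← map_mul, hfg, map_pow]
      change _ = (MvPolynomial.map (algebraMap A K) (detX n A)) ^ N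
      rw [map_detX]
    obtain ⟨e, _, hass⟩ := (dvd_prime_pow hprime N).mp h1
    obtain ⟨u, hu⟩ := hass.symm
    obtain ⟨r, hr, hC⟩ := (isUnit_iff_eq_C_of_isReduced).mp u.isUnit
    have h2 : φ f = C r * detX n K ^ e := by rw [← hu, hC, mul_comm]
    have h3 : r = algebraMap A K (eval (idPt n A) f) := by
      have := congrArg (eval (idPt n K)) h2
      rw [map_mul, map_pow, eval_idPt_detX, one_pow, mul_one, eval_C] at this
      rw [← this]
      exact eval_idPt_map (algebraMap A K) f
    refine ⟨e, ?_⟩
    apply hφinj
    rw [h2, h3, map_mul, map_pow]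
    change _ = MvPolynomial.map (algebraMap A K) (C _) * (MvPolynomial.map (algebraMap A K) (detX n A)) ^ e
    rw [map_C, map_detX]
  obtain ⟨e, he⟩ := hmain f g hfg
  obtain ⟨e', he'⟩ := hmain g f (by rw [mul_comm]; exact hfg)
  set a := eval (idPt n A) f with ha
  set b := eval (idPt n A) g with hb
  have hab : a * b = 1 := by
    have := congrArg (eval (idPt n A)) hfg
    rw [map_mul, map_pow, eval_idPt_detX, one_pow] at this
    exact this
  exact ⟨Units.mkOfMulEqOne a b hab, e, he⟩

end Groth.Agent.Helper29.GLUnitsB
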