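import Mathlib
import Groth.Agent.Lib.Helper29.GLUnitsB

set_option autoImplicit false

namespace Groth.Agent.Helper29.GLUnitsC

open GLUnitsA GLUnitsB

/-- over a domain, a divisor of a power of `X` is a unit times a power of `X` -/
theorem monomial_of_mul_eq_X_pow_domain {D : Type*} [CommRing D] [IsDomain D]
    (F G : Polynomial D) (M : ℕ) (hFG : F * G = Polynomial.X ^ M) :
    ∃ (c : D) (j : ℕ), F = Polynomial.C c * Polynomial.X ^ j := by
  have h1 : F ∣ Polynomial.X ^ M := ⟨G, hFG.symm⟩
  obtain ⟨j, _, hass⟩ := (dvd_prime_pow Polynomial.prime_X M).mp h1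
  obtain ⟨u, hu⟩ := hass.symm
  obtain ⟨r, _, hr⟩ := Polynomial.isUnit_iff.mp u.isUnit
  exact ⟨r, j, by rw [← hu, ← hr, mul_comm]⟩

theorem unit_monomial_of_mul_eq_X_pow {A : Type*} [CommRing A] [IsReduced A] [Nontrivial A]
    (hconn : ∀ e : A, IsIdempotentElem e → e = 0 ∨ e = 1)
    (F G : Polynomial A) (M : ℕ) (hFG : F * G = Polynomial.X ^ M) :
    ∃ (a : Aˣ) (j : ℕ), F = Polynomial.C (a : A) * Polynomial.X ^ j := by
  classical
  -- reduction modulo primes
  have hprime : ∀ (p : Ideal A) [p.IsPrime], ∃ (c : A ⧸ p) (j : ℕ),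
      Polynomial.map (Ideal.Quotient.mk p) F = Polynomial.C c * Polynomial.X ^ j := by
    intro p _
    apply monomial_of_mul_eq_X_pow_domain _ (Polynomial.map (Ideal.Quotient.mk p) G) M
    rw [← Polynomial.map_mul, hFG, Polynomial.map_pow, Polynomial.map_X]
  -- products of distinct coefficients vanish
  have horth : ∀ i k, i ≠ k → F.coeff i * F.coeff k = 0 := by
    intro i k hik
    apply IsReduced.eq_zero
    rw [nilpotent_iff_mem_prime]
    intro p hp
    obtain ⟨c, j, hc⟩ := hprime p
    have hi := congrArg (fun P => Polynomial.coeff P i) hc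
    have hk := congrArg (fun P => Polynomial.coeff P k) hc
    simp only [Polynomial.coeff_map, Polynomial.coeff_C_mul_X_pow] at hi hk
    rw [← Ideal.Quotient.eq_zero_iff_mem, map_mul, hi, hk]
    by_cases h1 : i = j
    · rw [if_neg (fun h : k = j => hik (h1.trans h.symm)), mul_zero]
    · rw [if_neg h1, zero_mul]
  -- the coefficients generate the unit ideal
  have htop : Ideal.span (Set.range F.coeff) = ⊤ := by
    by_contra hne
    obtain ⟨p, hp, hle⟩ := Ideal.exists_le_maximal _ hne
    have hpp : p.IsPrime := hp.isPrime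
    have hF0 : Polynomial.map (Ideal.Quotient.mk p) F = 0 := by
      ext i
      rw [Polynomial.coeff_map, Polynomial.coeff_zero, Ideal.Quotient.eq_zero_iff_mem]
      exact hle (Ideal.subset_span ⟨i, rfl⟩)
    have h2 := congrArg (Polynomial.map (Ideal.Quotient.mk p)) hFG
    rw [Polynomial.map_mul, hF0, zero_mul, Polynomial.map_pow, Polynomial.map_X] at h2
    exact pow_ne_zero M Polynomial.X_ne_zero h2.symm
  have h1mem : (1 : A) ∈ Ideal.span (Set.range F.coeff) := by rw [htop]; trivial
  obtain ⟨c, hc⟩ := Finsupp.mem_ideal_span_range_iff_exists_finsupp.mp h1mem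
  rw [Finsupp.sum] at hc
  set e : ℕ → A := fun i => c i * F.coeff i with he
  have he_orth : ∀ i k, i ≠ k → e i * e k = 0 := by
    intro i k hik
    simp only [he]
    calc c i * F.coeff i * (c k * F.coeff k) = c i * c k * (F.coeff i * F.coeff k) := by ring
      _ = 0 := by rw [horth i k hik, mul_zero]
  have he_idem : ∀ i ∈ c.support, IsIdempotentElem (e i) := by
    intro i hi
    unfold IsIdempotentElem
    have : e i = e i * ∑ k ∈ c.support, e k := by rw [hc, mul_one]
    conv_rhs => rw [this]
    rw [Finset.mul_sum, Finset.sum_eq_single i]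
    · intro k _ hk
      exact he_orth i k (Ne.symm hk)
    · intro h; exact absurd hi h
  have hex : ∃ j ∈ c.support, e j = 1 := by
    by_contra hcon
    push Not at hcon
    have hall : ∀ i ∈ c.support, e i = 0 := by
      intro i hi
      rcases hconn (e i) (he_idem i hi) with h | h
      · exact h
      · exact absurd h (hcon i hi)
    rw [Finset.sum_eq_zero hall] at hc
    exact zero_ne_one hc
  obtain ⟨j, _, hj⟩ := hex
  have hj' : F.coeff j * c j = 1 := by rw [mul_comm]; exact hj
  have hunit : IsUnit (F.coeff j) := IsUnit.of_mul_eq_one _ hj'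
  refine ⟨hunit.unit, j, ?_⟩
  ext i
  rw [Polynomial.coeff_C_mul_X_pow, IsUnit.unit_spec]
  by_cases hij : i = j
  · rw [if_pos hij, hij]
  · rw [if_neg hij]
    have hj2 : c j * F.coeff j = 1 := hj
    calc F.coeff i = F.coeff i * (c j * F.coeff j) := by rw [hj2, mul_one]
      _ = c j * (F.coeff i * F.coeff j) := by ring
      _ = 0 := by rw [horth i j hij, mul_zero]

open MvPolynomial Matrix

variable {n : Type*} [Fintype n] [DecidableEq n]

/-- evaluation at the scalar matrix `T • 1` -/
noncomputable def evT (n : Type*) [DecidableEq n] (R : Type*) [CommRing R] :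
    MvPolynomial (n × n) R →+* Polynomial R :=
  eval₂Hom Polynomial.C (fun u : n × n => if u.1 = u.2 then Polynomial.X else 0)

theorem evT_detX (R : Type*) [CommRing R] :
    evT n R (detX n R) = Polynomial.X ^ Fintype.card n := by
  unfold detX
  rw [RingHom.map_det]
  have : (evT n R).mapMatrix (mvPolynomialX n n R) =
      Matrix.diagonal (fun _ : n => (Polynomial.X : Polynomial R)) := by
    ext i j
    simp only [RingHom.mapMatrix_apply, Matrix.map_apply, mvPolynomialX_apply, evT,
      coe_eval₂Hom, eval₂_X, Matrix.diagonal_apply]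
  rw [this, Matrix.det_diagonal, Finset.prod_const, Finset.card_univ]

omit [Fintype n] in
theorem evT_C (R : Type*) [CommRing R] (a : R) : evT n R (C a) = Polynomial.C a := by
  simp [evT]

omit [Fintype n] in
theorem evT_map {R S : Type*} [CommRing R] [CommRing S] (φ : R →+* S)
    (p : MvPolynomial (n × n) R) :
    evT n S (MvPolynomial.map φ p) = Polynomial.map φ (evT n R p) := by
  have : (evT n S).comp (MvPolynomial.map φ) = (Polynomial.mapRingHom φ).comp (evT n R) := by
    apply MvPolynomial.ringHom_ext
    · intro a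
      simp [evT]
    · intro u
      simp only [RingHom.comp_apply, MvPolynomial.map_X, evT, coe_eval₂Hom, eval₂_X,
        Polynomial.coe_mapRingHom]
      split_ifs <;> simp
  exact RingHom.congr_fun this p

theorem factor_reduced {A : Type*} [CommRing A] [IsReduced A] [Nontrivial A]
    (hconn : ∀ e : A, IsIdempotentElem e → e = 0 ∨ e = 1) [Nonempty n]
    (f g : MvPolynomial (n × n) A) (N : ℕ) (hfg : f * g = detX n A ^ N) :
    ∃ (c : Aˣ) (e : ℕ), f = C (c : A) * detX n A ^ e := by
  classical
  have hcard : 0 < Fintype.card n := Fintype.card_pos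
  -- the one-variable shadow
  have hFG : evT n A f * evT n A g = Polynomial.X ^ (Fintype.card n * N) := by
    rw [← map_mul, hfg, map_pow, evT_detX, ← pow_mul]
  obtain ⟨a, j, hF⟩ := unit_monomial_of_mul_eq_X_pow hconn _ _ _ hFG
  set c := eval (idPt n A) f with hc
  set e := j / Fintype.card n with he
  -- reduction modulo primes
  have hprime : ∀ (p : Ideal A) [p.IsPrime],
      MvPolynomial.map (Ideal.Quotient.mk p) f =
        MvPolynomial.map (Ideal.Quotient.mk p) (C c * detX n A ^ e) ∧
      IsUnit (Ideal.Quotient.mk p c) := by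
    intro p _
    have hfgp : MvPolynomial.map (Ideal.Quotient.mk p) f * MvPolynomial.map (Ideal.Quotient.mk p) g
        = detX n (A ⧸ p) ^ N := by
      rw [← map_mul, hfg, map_pow, map_detX]
    obtain ⟨cp, ep, hcp⟩ := factor_domain _ _ N hfgp
    -- compare shadows
    have h1 : evT n (A ⧸ p) (MvPolynomial.map (Ideal.Quotient.mk p) f) =
        Polynomial.C (cp : A ⧸ p) * Polynomial.X ^ (Fintype.card n * ep) := by
      rw [hcp, map_mul, map_pow, evT_C, evT_detX, ← pow_mul]
    rw [evT_map, hF, Polynomial.map_mul, Polynomial.map_C, Polynomial.map_pow,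
      Polynomial.map_X] at h1
    have h2 := congrArg (fun P => Polynomial.coeff P j) h1
    simp only [Polynomial.coeff_C_mul_X_pow, if_true] at h2
    have hane : Ideal.Quotient.mk p (a : A) ≠ 0 := (a.isUnit.map (Ideal.Quotient.mk p)).ne_zero
    have hj : j = Fintype.card n * ep := by
      by_contra hne
      rw [if_neg hne] at h2
      exact hane h2
    have hep : ep = e := by
      rw [he, hj, Nat.mul_div_cancel_left _ hcard]
    have hcpc : (cp : A ⧸ p) = Ideal.Quotient.mk p c := by
      have h3 := congrArg (eval (idPt n (A ⧸ p))) hcp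
      rw [eval_idPt_map, map_mul, map_pow, eval_idPt_detX, one_pow, mul_one, eval_C] at h3
      exact h3.symm
    refine ⟨?_, ?_⟩
    · rw [hcp, hep, hcpc, map_mul, map_pow, map_C, map_detX]
    · rw [← hcpc]; exact cp.isUnit
  -- f = C c * det ^ e
  have hfeq : f = C c * detX n A ^ e := by
    rw [← sub_eq_zero]
    ext m
    rw [coeff_zero]
    apply IsReduced.eq_zero
    rw [nilpotent_iff_mem_prime]
    intro p hp
    have h1 := (hprime p).1
    have h2 : MvPolynomial.map (Ideal.Quotient.mk p) (f - C c * detX n A ^ e) = 0 := by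
      rw [map_sub, h1, sub_self]
    have h3 := congrArg (coeff m) h2
    rw [coeff_map, coeff_zero] at h3
    exact Ideal.Quotient.eq_zero_iff_mem.mp h3
  have hcunit : IsUnit c := by
    by_contra hnu
    obtain ⟨p, hp, hcp⟩ := exists_max_ideal_of_mem_nonunits hnu
    have hpp : p.IsPrime := hp.isPrime
    have h1 := (hprime p).2
    rw [Ideal.Quotient.eq_zero_iff_mem.mpr hcp] at h1
    exact not_isUnit_zero h1
  exact ⟨hcunit.unit, e, by rw [IsUnit.unit_spec]; exact hfeq⟩

end Groth.Agent.Helper29.GLUnitsC
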