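import Mathlib
import Groth.Agent.Lib.Helper29.GLUnitsC

set_option autoImplicit false

namespace Groth.Agent.Helper29.GLUnitsD

open GLUnitsA GLUnitsB GLUnitsC LaurentPolynomial

theorem coeff_C_mul_T {A : Type*} [CommRing A] (a : A) (m k : ℤ) :
    (LaurentPolynomial.C a * T m : A[T;T⁻¹]).coeff k = if m = k then a else 0 := by
  rw [← single_eq_C_mul_T]
  exact Finsupp.single_apply

/-- `T m` as a unit -/
noncomputable def Tunit (A : Type*) [CommRing A] (m : ℤ) : (A[T;T⁻¹])ˣ :=
  ⟨T m, T (-m), by rw [← T_add, add_neg_cancel, T_zero], by rw [← T_add, neg_add_cancel, T_zero]⟩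

theorem Tunit_zpow (A : Type*) [CommRing A] (m e : ℤ) : (Tunit A m) ^ e = Tunit A (m * e) := by
  induction e using Int.induction_on with
  | zero =>
    rw [zpow_zero, mul_zero]
    exact Units.ext T_zero.symm
  | succ i ih =>
    rw [zpow_add_one, ih]
    apply Units.ext
    change T (m * i) * T m = T (m * (i + 1))
    rw [← T_add]; congr 1; ring
  | pred i ih =>
    rw [zpow_sub_one, ih]
    apply Units.ext
    change T (m * -i) * T (-m) = T (m * (-i - 1))
    rw [← T_add]; congr 1; ring

variable (n : Type*) [Fintype n] [DecidableEq n] (A : Type*) [CommRing A]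

/-- evaluation of the coordinate ring of `GL_n` at the scalar matrix `T • 1` -/
noncomputable def evL : Localization.Away (detX n A) →+* A[T;T⁻¹] :=
  IsLocalization.Away.lift (detX n A) (g := (Polynomial.toLaurent).comp (evT n A)) (by
    rw [RingHom.comp_apply, evT_detX, Polynomial.toLaurent_X_pow]
    exact isUnit_T _)

theorem evL_algebraMap (p : MvPolynomial (n × n) A) :
    evL n A (algebraMap _ _ p) = Polynomial.toLaurent (evT n A p) := by
  unfold evL
  rw [IsLocalization.Away.lift_eq]
  rfl

theorem evL_algebraMap' (a : A) :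
    evL n A (algebraMap A _ a) = LaurentPolynomial.C a := by
  rw [IsScalarTower.algebraMap_apply A (MvPolynomial (n × n) A), evL_algebraMap,
    MvPolynomial.algebraMap_eq, evT_C, Polynomial.toLaurent_C]

/-- the determinant as a unit of the localization -/
noncomputable def delta : (Localization.Away (detX n A))ˣ :=
  (IsLocalization.Away.algebraMap_isUnit (S := Localization.Away (detX n A)) (detX n A)).unit

theorem evL_delta_zpow (e : ℤ) :
    evL n A ((delta n A ^ e : (Localization.Away (detX n A))ˣ) : Localization.Away (detX n A)) =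
      T ((Fintype.card n : ℤ) * e) := by
  have h1 : Units.map (evL n A).toMonoidHom (delta n A) = Tunit A (Fintype.card n) := by
    apply Units.ext
    change evL n A (algebraMap _ _ (detX n A)) = T _
    rw [evL_algebraMap, evT_detX, Polynomial.toLaurent_X_pow]
  have h2 : Units.map (evL n A).toMonoidHom (delta n A ^ e) = Tunit A ((Fintype.card n : ℤ) * e) := by
    rw [map_zpow, h1, Tunit_zpow]
  exact congrArg Units.val h2

/-- the comparison map -/
noncomputable def phi (p : Aˣ × ℤ) : (Localization.Away (detX n A))ˣ :=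
  Units.map (algebraMap A (Localization.Away (detX n A))).toMonoidHom p.1 * delta n A ^ p.2

theorem evL_phi (p : Aˣ × ℤ) :
    evL n A (phi n A p : Localization.Away (detX n A)) =
      LaurentPolynomial.C (p.1 : A) * T ((Fintype.card n : ℤ) * p.2) := by
  unfold phi
  rw [Units.val_mul, map_mul, evL_delta_zpow]
  congr 1
  exact evL_algebraMap' n A _

theorem phi_injective [Nontrivial A] [Nonempty n] : Function.Injective (phi n A) := by
  rintro ⟨a, e⟩ ⟨a', e'⟩ h
  have h1 := congrArg (fun w : (Localization.Away (detX n A))ˣ => evL n A (w : _)) h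
  simp only [evL_phi] at h1
  have hcard : (Fintype.card n : ℤ) ≠ 0 := by
    exact_mod_cast (Fintype.card_pos (α := n)).ne'
  have h2 := congrArg (fun P : A[T;T⁻¹] => P.coeff ((Fintype.card n : ℤ) * e)) h1
  simp only [coeff_C_mul_T, if_true] at h2
  have hne : (a : A) ≠ 0 := a.ne_zero
  have he : (Fintype.card n : ℤ) * e' = (Fintype.card n : ℤ) * e := by
    by_contra hcon
    rw [if_neg hcon] at h2
    exact hne h2
  rw [if_pos he] at h2
  have he' : e' = e := mul_left_cancel₀ hcard he
  rw [Prod.mk.injEq]
  exact ⟨Units.ext h2, he'.symm⟩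

theorem val_delta_pow (m : ℕ) :
    ((delta n A ^ m : (Localization.Away (detX n A))ˣ) : Localization.Away (detX n A)) =
      algebraMap _ _ (detX n A ^ m) := by
  rw [Units.val_pow_eq_pow_val, map_pow]
  rfl

theorem phi_surjective [IsReduced A] [Nontrivial A]
    (hconn : ∀ e : A, IsIdempotentElem e → e = 0 ∨ e = 1) [Nonempty n] :
    Function.Surjective (phi n A) := by
  intro w
  obtain ⟨⟨f, s⟩, hf⟩ := IsLocalization.surj (Submonoid.powers (detX n A))
    (w : Localization.Away (detX n A))
  obtain ⟨⟨g, t⟩, hg⟩ := IsLocalization.surj (Submonoid.powers (detX n A))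
    ((w⁻¹ : (Localization.Away (detX n A))ˣ) : Localization.Away (detX n A))
  simp only at hf hg
  have h1 : algebraMap _ (Localization.Away (detX n A)) (f * g) =
      algebraMap _ (Localization.Away (detX n A)) ((s : MvPolynomial (n × n) A) * t) := by
    rw [map_mul, map_mul, ← hf, ← hg]
    have : (w : Localization.Away (detX n A)) * ((w⁻¹ : (Localization.Away (detX n A))ˣ) : _) = 1 := by
      rw [← Units.val_mul, mul_inv_cancel, Units.val_one]
    calc _ = ((w : Localization.Away (detX n A)) * ((w⁻¹ : (Localization.Away (detX n A))ˣ) : _)) *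
          (algebraMap _ _ (s : MvPolynomial (n × n) A) * algebraMap _ _ (t : MvPolynomial (n × n) A)) := by ring
      _ = _ := by rw [this, one_mul]
  obtain ⟨c, hc⟩ := (IsLocalization.eq_iff_exists (Submonoid.powers (detX n A)) _).mp h1
  obtain ⟨r, hr⟩ := c.2
  obtain ⟨k, hk⟩ := s.2
  obtain ⟨l, hl⟩ := t.2
  have h2 : (detX n A ^ r * f) * g = detX n A ^ (r + k + l) := by
    have : (c : MvPolynomial (n × n) A) * (f * g) = c * (s * t) := hc
    rw [← hr, ← hk, ← hl] at this
    rw [pow_add, pow_add, mul_assoc, mul_assoc, ← this]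
  obtain ⟨c0, e, he⟩ := factor_reduced hconn (detX n A ^ r * f) g (r + k + l) h2
  refine ⟨(c0, (e : ℤ) - ((k + r : ℕ) : ℤ)), ?_⟩
  unfold phi
  simp only
  rw [zpow_sub, zpow_natCast, zpow_natCast, ← mul_assoc, mul_inv_eq_iff_eq_mul]
  apply Units.ext
  rw [Units.val_mul, Units.val_mul, val_delta_pow, val_delta_pow]
  change algebraMap A _ (c0 : A) * _ = _
  rw [IsScalarTower.algebraMap_apply A (MvPolynomial (n × n) A), MvPolynomial.algebraMap_eq,
    ← map_mul, ← he, map_mul, pow_add, map_mul]
  have hk' : detX n A ^ k = (s : MvPolynomial (n × n) A) := hk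
  rw [hk', ← mul_assoc, hf]
  ring

theorem not_surjective_of_nilpotent [Nontrivial A] [Nonempty n] (x : A) (hx : IsNilpotent x)
    (hx0 : x ≠ 0) : ¬ Function.Surjective (phi n A) := by
  intro hsurj
  obtain ⟨i0⟩ := (inferInstance : Nonempty n)
  set u : MvPolynomial (n × n) A := 1 + MvPolynomial.C x * MvPolynomial.X (i0, i0) with hu
  have hunit : IsUnit u := by
    apply IsNilpotent.isUnit_one_add
    exact (Commute.all _ _).isNilpotent_mul_right (hx.map MvPolynomial.C)
  let w : (Localization.Away (detX n A))ˣ := (hunit.map (algebraMap _ (Localization.Away (detX n A)))).unit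
  obtain ⟨⟨a, e⟩, h⟩ := hsurj w
  have h1 := congrArg (fun w : (Localization.Away (detX n A))ˣ => evL n A (w : _)) h
  simp only [evL_phi] at h1
  have h2 : evL n A (w : Localization.Away (detX n A)) =
      LaurentPolynomial.C 1 * T 0 + LaurentPolynomial.C x * T 1 := by
    change evL n A (algebraMap _ _ u) = _
    rw [evL_algebraMap, hu, map_add, map_one, map_mul, evT_C]
    have : evT n A (MvPolynomial.X (i0, i0)) = Polynomial.X := by
      simp [evT]
    rw [this, map_add, map_one, map_mul, Polynomial.toLaurent_C, Polynomial.toLaurent_X, map_one,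
      T_zero, mul_one]
  rw [h2] at h1
  have hcoeff : ∀ k : ℤ, (if (Fintype.card n : ℤ) * e = k then (a : A) else 0) =
      (if (0 : ℤ) = k then (1 : A) else 0) + (if (1 : ℤ) = k then x else 0) := by
    intro k
    have := congrArg (fun P : A[T;T⁻¹] => P.coeff k) h1
    simp only [coeff_C_mul_T] at this
    rw [this]
    change (LaurentPolynomial.C 1 * T 0 + LaurentPolynomial.C x * T 1 : A[T;T⁻¹]).coeff k = _
    rw [AddMonoidAlgebra.coeff_add, Finsupp.add_apply, coeff_C_mul_T, coeff_C_mul_T]
  by_cases hne : (Fintype.card n : ℤ) * e = 0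
  · have := hcoeff 1
    rw [hne, if_neg (by norm_num), if_neg (by norm_num), if_pos rfl, zero_add] at this
    exact hx0 this.symm
  · have := hcoeff 0
    rw [if_neg hne, if_pos rfl, if_neg (by norm_num), add_zero] at this
    exact zero_ne_one this

theorem main13788 [Nontrivial A] (hconn : ∀ e : A, IsIdempotentElem e → e = 0 ∨ e = 1)
    [Nonempty n] : Function.Bijective (phi n A) ↔ IsReduced A := by
  constructor
  · intro hbij
    rw [isReduced_iff]
    intro x hx
    by_contra hx0
    exact not_surjective_of_nilpotent n A x hx hx0 hbij.2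
  · intro hred
    exact ⟨phi_injective n A, phi_surjective n A hconn⟩

end Groth.Agent.Helper29.GLUnitsD
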