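import Mathlib

/-!
# A functor preserving pullbacks preserves Čech nerves
-/

open CategoryTheory Limits Opposite

namespace Groth.Agent.Helper29.GShriekA

universe v v' u u'

variable {T : Type u} [Category.{v} T] {T' : Type u'} [Category.{v'} T'] (G : T ⥤ T')
  [HasPullbacks T] [PreservesLimitsOfShape WalkingCospan G]

section OverPost

variable (K : T)

instance preservesTerminal_post :
    PreservesLimitsOfShape (Discrete.{0} PEmpty) (Over.post G (X := K)) := by
  haveI : PreservesLimit (Functor.empty.{0} (Over K)) (Over.post G (X := K)) := by
    refine preservesLimit_of_preserves_limit_cone (Over.mkIdTerminal (X := K)) ?_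
    refine (isLimitMapConeEmptyConeEquiv (Over.post G (X := K)) (Over.mk (𝟙 K))).symm ?_
    have h : (Over.post G (X := K)).obj (Over.mk (𝟙 K)) = Over.mk (𝟙 (G.obj K)) := by
      change Over.mk (G.map (𝟙 K)) = _
      rw [G.map_id]
    rw [h]
    exact Over.mkIdTerminal
  exact preservesLimitsOfShape_pempty_of_preservesTerminal _

instance preservesPullbacks_post :
    PreservesLimitsOfShape WalkingCospan (Over.post G (X := K)) := by
  constructor
  intro F
  haveI : PreservesLimit F (Over.post G (X := K) ⋙ Over.forget (G.obj K)) := by
    change PreservesLimit F (Over.forget K ⋙ G)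
    infer_instance
  exact preservesLimit_of_reflects_of_preserves (Over.post G (X := K)) (Over.forget (G.obj K))

instance preservesFiniteLimits_post : PreservesFiniteLimits (Over.post G (X := K)) :=
  preservesFiniteLimits_of_preservesTerminal_and_pullbacks _

end OverPost

section WidePullback

open CategoryTheory.Over.ConstructProducts

variable {K K' : T} (f : K' ⟶ K) (ι : Type) [Finite ι]
  [HasWidePullback K (fun _ : ι => K') (fun _ => f)]
  [HasWidePullback (G.obj K) (fun _ : ι => G.obj K') (fun _ => G.map f)]

/-- the constant discrete diagram at `f` in `Over K` -/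
abbrev constOver : Discrete ι ⥤ Over K := Discrete.functor (fun _ => Over.mk f)

/-- the comparison morphism for wide pullbacks of copies of `f` -/
noncomputable def wpComparison :
    G.obj (widePullback K (fun _ : ι => K') (fun _ => f)) ⟶
      widePullback (G.obj K) (fun _ : ι => G.obj K') (fun _ => G.map f) :=
  WidePullback.lift (G.map (WidePullback.base (fun _ : ι => f)))
    (fun i => G.map (WidePullback.π (fun _ : ι => f) i))
    (fun i => by rw [← G.map_comp, WidePullback.π_arrow])

@[reassoc (attr := simp)]
lemma wpComparison_base :
    wpComparison G f ι ≫ WidePullback.base (fun _ : ι => G.map f) =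
      G.map (WidePullback.base (fun _ : ι => f)) :=
  WidePullback.lift_base _ _ _ _

@[reassoc (attr := simp)]
lemma wpComparison_π (i : ι) :
    wpComparison G f ι ≫ WidePullback.π (fun _ : ι => G.map f) i =
      G.map (WidePullback.π (fun _ : ι => f) i) :=
  WidePullback.lift_π _ _ _ _ _

/-- the image under `G` of the wide pullback cone is a limit cone -/
noncomputable def isLimitImage :
    IsLimit ((conesEquiv (G.obj K) (constOver (G.map f) ι)).inverse.obj
      ((Cone.postcompose (Discrete.natIso (fun _ => Iso.refl _) :
          constOver f ι ⋙ Over.post G ≅ constOver (G.map f) ι).hom).obj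
        ((Over.post G).mapCone ((conesEquiv K (constOver f ι)).functor.obj
          (limit.cone (WidePullbackShape.wideCospan K (fun _ : ι => K') (fun _ => f))))))) := by
  haveI : Fintype ι := Fintype.ofFinite ι
  have hc : IsLimit (limit.cone (WidePullbackShape.wideCospan K (fun _ : ι => K') (fun _ => f))) :=
    limit.isLimit _
  have hc₁ : IsLimit ((conesEquiv K (constOver f ι)).functor.obj
      (limit.cone (WidePullbackShape.wideCospan K (fun _ : ι => K') (fun _ => f)))) :=
    (IsLimit.ofConeEquiv (conesEquiv K (constOver f ι))).symm hc
  have hc₂ := isLimitOfPreserves (Over.post G (X := K)) hc₁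
  have hc₃ := (IsLimit.postcomposeHomEquiv (Discrete.natIso (fun _ => Iso.refl _) :
    constOver f ι ⋙ Over.post G ≅ constOver (G.map f) ι) _).symm hc₂
  exact (IsLimit.ofConeEquiv (conesEquiv (G.obj K) (constOver (G.map f) ι)).symm).symm hc₃

lemma conePoint_hom_eq :
    (IsLimit.conePointUniqueUpToIso (isLimitImage G f ι)
      (limit.isLimit (WidePullbackShape.wideCospan (G.obj K) (fun _ : ι => G.obj K')
        (fun _ => G.map f)))).hom = wpComparison G f ι := by
  apply WidePullback.hom_ext
  · intro j
    refine Eq.trans ?_ (wpComparison_π G f ι j).symm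
    refine (IsLimit.conePointUniqueUpToIso_hom_comp (isLimitImage G f ι)
      (limit.isLimit (WidePullbackShape.wideCospan (G.obj K) (fun _ : ι => G.obj K')
        (fun _ => G.map f))) (some j)).trans ?_
    dsimp [conesEquiv, conesEquivInverse, conesEquivInverseObj, conesEquivFunctor]
    simp
    exact Category.comp_id _
  · refine Eq.trans ?_ (wpComparison_base G f ι).symm
    refine (IsLimit.conePointUniqueUpToIso_hom_comp (isLimitImage G f ι)
      (limit.isLimit (WidePullbackShape.wideCospan (G.obj K) (fun _ : ι => G.obj K')
        (fun _ => G.map f))) none).trans ?_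
    dsimp [conesEquiv, conesEquivInverse, conesEquivInverseObj, conesEquivFunctor]
    rfl

instance isIso_wpComparison : IsIso (wpComparison G f ι) := by
  rw [← conePoint_hom_eq]
  infer_instance

end WidePullback

section Nerve

variable {K K' : T} (f : K' ⟶ K) [HasFiniteWidePullbacks T] [HasFiniteWidePullbacks T']

/-- a functor preserving pullbacks preserves Čech nerves -/
noncomputable def cechNerveIso :
    (Arrow.mk f).cechNerve ⋙ G ≅ (Arrow.mk (G.map f)).cechNerve :=
  NatIso.ofComponents (fun n => asIso (wpComparison G f (Fin (n.unop.len + 1)))) (by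
    intro n m g
    apply WidePullback.hom_ext
    · intro i
      dsimp [Arrow.cechNerve]
      simp only [Category.assoc]
      erw [wpComparison_π, WidePullback.lift_π, wpComparison_π, ← G.map_comp,
        WidePullback.lift_π]
    · dsimp [Arrow.cechNerve]
      simp only [Category.assoc]
      erw [wpComparison_base, WidePullback.lift_base, wpComparison_base, ← G.map_comp,
        WidePullback.lift_base])

end Nerve

end Groth.Agent.Helper29.GShriekA
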