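import Mathlib
import Groth.Prelude.Def_CohCx
import Groth.Prelude.Def_ModSite
import Groth.Agent.Lib.Helper24.CechRes5
import Groth.Agent.Lib.Helper24.FrMod4
import Groth.Agent.Lib.Helper29.GShriekA

/-!
# Inverse images of totally acyclic sheaves along continuous and cocontinuous functors
-/

open CategoryTheory Limits Opposite

namespace Groth.Agent.Helper29.GShriekB

open Groth.Agent.Helper24.CechRes Groth.Agent.Helper29.GShriekA

universe u

variable {C : Type u} [SmallCategory C] (J : GrothendieckTopology C)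
  {D : Type u} [SmallCategory D] (K : GrothendieckTopology D)
  (u : C ⥤ D) [u.IsContinuous J K]

/-- `g_!` on sheaves of sets -/
noncomputable abbrev Gs : Sheaf J (Type u) ⥤ Sheaf K (Type u) := u.sheafPullback (Type u) J K
/-- `g⁻¹` on sheaves of sets -/
noncomputable abbrev Ps : Sheaf K (Type u) ⥤ Sheaf J (Type u) :=
  u.sheafPushforwardContinuous (Type u) J K
/-- `g_!` on abelian sheaves -/
noncomputable abbrev Ga : Sheaf J AddCommGrpCat.{u} ⥤ Sheaf K AddCommGrpCat.{u} :=
  u.sheafPullback AddCommGrpCat.{u} J K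
/-- `g⁻¹` on abelian sheaves -/
noncomputable abbrev Pa : Sheaf K AddCommGrpCat.{u} ⥤ Sheaf J AddCommGrpCat.{u} :=
  u.sheafPushforwardContinuous AddCommGrpCat.{u} J K

noncomputable abbrev adjS : Gs J K u ⊣ Ps J K u := u.sheafAdjunctionContinuous (Type u) J K
noncomputable abbrev adjA : Ga J K u ⊣ Pa J K u := u.sheafAdjunctionContinuous AddCommGrpCat.{u} J K

instance additive_Pa : (Pa J K u).Additive where
  map_add := rfl

instance additive_Ga : (Ga J K u).Additive := (adjA J K u).left_adjoint_additive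

/-- the two composite right adjoints agree -/
noncomputable def adjComp2 : Gs J K u ⋙ Phi (J := K) ⊣ Pa J K u ⋙ UU (J := J) :=
  ((adjS J K u).comp (adjPhi (J := K)) : Gs J K u ⋙ Phi (J := K) ⊣ UU (J := K) ⋙ Ps J K u)

/-- free abelian sheaves commute with `g_!` -/
noncomputable def commIso : Phi (J := J) ⋙ Ga J K u ≅ Gs J K u ⋙ Phi (J := K) :=
  ((adjPhi (J := J)).comp (adjA J K u)).leftAdjointUniq (adjComp2 J K u)

section Complex

variable [PreservesLimitsOfShape WalkingCospan (Gs J K u)]
variable {K' K₀ : Sheaf J (Type u)} (f : K' ⟶ K₀)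

/-- the simplicial isomorphism -/
noncomputable def simpIso :
    ((SimplicialObject.whiskering _ _).obj (Ga J K u)).obj
      (((SimplicialObject.whiskering _ _).obj (Phi (J := J))).obj (Arrow.mk f).cechNerve) ≅
    ((SimplicialObject.whiskering _ _).obj (Phi (J := K))).obj
      (Arrow.mk ((Gs J K u).map f)).cechNerve :=
  (Functor.associator _ _ _ ≪≫ Functor.isoWhiskerLeft (Arrow.mk f).cechNerve (commIso J K u) ≪≫
    (Functor.associator _ _ _).symm ≪≫
    Functor.isoWhiskerRight (cechNerveIso (Gs J K u) f) (Phi (J := K)) :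
    ((Arrow.mk f).cechNerve ⋙ Phi (J := J)) ⋙ Ga J K u ≅
      (Arrow.mk ((Gs J K u).map f)).cechNerve ⋙ Phi (J := K))

/-- `g_!` applied to the Čech complex of `f` is the Čech complex of `g_! f` -/
noncomputable def cxIso :
    ((Ga J K u).mapHomologicalComplex _).obj (KK f) ≅ KK ((Gs J K u).map f) :=
  eqToIso (Functor.congr_obj (AlgebraicTopology.map_alternatingFaceMapComplex (Ga J K u))
    (((SimplicialObject.whiskering _ _).obj (Phi (J := J))).obj (Arrow.mk f).cechNerve)) ≪≫
  (AlgebraicTopology.alternatingFaceMapComplex _).mapIso (simpIso J K u f)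

theorem exists_components :
    ∃ (a : ∀ n, (Ga J K u).obj ((KK f).X n) ⟶ (KK ((Gs J K u).map f)).X n)
      (b : ∀ n, (KK ((Gs J K u).map f)).X n ⟶ (Ga J K u).obj ((KK f).X n)),
      (∀ n, a n ≫ b n = 𝟙 _) ∧
      (∀ i j, a i ≫ (KK ((Gs J K u).map f)).d i j = (Ga J K u).map ((KK f).d i j) ≫ a j) ∧
      (∀ i j, b i ≫ (Ga J K u).map ((KK f).d i j) = (KK ((Gs J K u).map f)).d i j ≫ b j) := by
  refine ⟨fun n => (cxIso J K u f).hom.f n, fun n => (cxIso J K u f).inv.f n, ?_, ?_, ?_⟩
  · intro n
    have h := congrArg (fun t => t.f n) (cxIso J K u f).hom_inv_id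
    exact h
  · intro i j
    exact (cxIso J K u f).hom.comm i j
  · intro i j
    exact (cxIso J K u f).inv.comm i j

theorem CA_Pa (F : Sheaf K AddCommGrpCat.{u}) (hF : CA F) : CA ((Pa J K u).obj F) := by
  intro K' K₀ f hf q φ hφ
  haveI := hf
  haveI : (Gs J K u).PreservesEpimorphisms :=
    Functor.preservesEpimorphisms_of_adjunction (adjS J K u)
  have hepi : Epi ((Gs J K u).map f) := inferInstance
  obtain ⟨a, b, hab, h1, h2⟩ := exists_components J K u f
  -- transport `φ`
  obtain ⟨ψ'', hψ''⟩ := hF _ _ ((Gs J K u).map f) hepi q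
    (b (q + 1) ≫ ((adjA J K u).homEquiv _ _).symm φ) (by
      rw [← Category.assoc, ← h2, Category.assoc,
        ← Adjunction.homEquiv_naturality_left_symm, hφ]
      rw [show ((adjA J K u).homEquiv ((KK f).X (q + 1 + 1)) F).symm 0 = 0 from
        map_zero ((adjA J K u).homAddEquiv _ _).symm, comp_zero])
  refine ⟨(adjA J K u).homEquiv _ _ (a q ≫ ψ''), ?_⟩
  rw [← Adjunction.homEquiv_naturality_left, ← Category.assoc, ← h1, Category.assoc, hψ'',
    ← Category.assoc, hab, Category.id_comp, Equiv.apply_symm_apply]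

end Complex

theorem main (hfib : PreservesLimitsOfShape WalkingCospan (u.sheafPullback (Type u) J K))
    (O_D : Sheaf K CommRingCat.{u}) (I : ModSite.Mod O_D) (hI : Injective I) :
    CohCx.IsTotallyAcyclic
      ((u.sheafPushforwardContinuous AddCommGrpCat.{u} J K).obj (ModSite.toAb I)) := by
  haveI := hfib
  haveI := hI
  exact (totallyAcyclic_iff_CA _).2 (CA_Pa J K u _
    ((totallyAcyclic_iff_CA _).1 (Groth.Agent.Helper24.FrMod.totallyAcyclic_toAb_injective I)))

end Groth.Agent.Helper29.GShriekB
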