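import Mathlib

set_option autoImplicit false
universe w v u
open CategoryTheory CategoryTheory.Limits

namespace Groth.Agent.Helper29.GabA

variable {C : Type u} [Category.{v} C] [Abelian C]

/-- Coimage factorisation, with descent of a map killing the kernel. -/
lemma exists_factor {T X A : C} (t : T ⟶ X) (u : T ⟶ A) (h : kernel.ι t ≫ u = 0) :
    ∃ (I : C) (e : T ⟶ I) (m : I ⟶ X) (ubar : I ⟶ A),
      Epi e ∧ Mono m ∧ e ≫ m = t ∧ e ≫ ubar = u := by
  refine ⟨Abelian.coimage t, Abelian.coimage.π t, Abelian.factorThruCoimage t,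
    cokernel.desc _ u h, inferInstance, inferInstance, ?_, ?_⟩
  · exact Abelian.coimage.fac t
  · exact cokernel.π_desc _ _ _

/-- The pullback of a short exact sequence along a map to the third term. -/
lemma shortExact_pullback {S : ShortComplex C} (hS : S.ShortExact) {W : C} (h : W ⟶ S.X₃) :
    (ShortComplex.mk (pullback.lift S.f (0 : S.X₁ ⟶ W) (by simp) : S.X₁ ⟶ pullback S.g h)
      (pullback.snd S.g h) (by rw [pullback.lift_snd])).ShortExact := by
  have := hS.mono_f
  have := hS.epi_g
  have hm : Mono (pullback.lift S.f (0 : S.X₁ ⟶ W) (by simp) : S.X₁ ⟶ pullback S.g h) := by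
    apply mono_of_mono_fac (pullback.lift_fst _ _ _)
  have he : Epi (pullback.snd S.g h) := inferInstance
  refine ShortComplex.ShortExact.mk' ?_ hm he
  rw [ShortComplex.exact_iff_exact_up_to_refinements]
  intro Z z hz
  dsimp at z hz ⊢
  have h1 : (z ≫ pullback.fst S.g h) ≫ S.g = 0 := by
    rw [Category.assoc, pullback.condition, ← Category.assoc, hz, zero_comp]
  obtain ⟨Z', π, hπ, x₁, hx₁⟩ := hS.exact.exact_up_to_refinements _ h1
  refine ⟨Z', π, hπ, x₁, ?_⟩
  apply pullback.hom_ext
  · simp only [Category.assoc, pullback.lift_fst]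
    rw [← hx₁]
  · simp only [Category.assoc, pullback.lift_snd, comp_zero]
    rw [hz, comp_zero]

/-- A mono together with its cokernel is short exact. -/
lemma shortExact_cokernel {A B : C} (i : A ⟶ B) [Mono i] :
    (ShortComplex.mk i (cokernel.π i) (cokernel.condition i)).ShortExact :=
  ShortComplex.ShortExact.mk' (ShortComplex.exact_cokernel i) inferInstance inferInstance

end Groth.Agent.Helper29.GabA
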