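import Mathlib
import Groth.Agent.Lib.Helper29.GabA

set_option autoImplicit false
universe w v u
open CategoryTheory CategoryTheory.Limits

namespace Groth.Agent.Helper29.GabB

open Groth.Agent.Helper29.GabA

variable {C : Type u} [Category.{v} C] [Abelian C]

/-- The "torsion class" generated by `P`: objects all of whose nonzero subquotients receive
a nonzero map from an object of `P`. -/
def TT (P : ObjectProperty C) : ObjectProperty C := fun X =>
  ∀ ⦃T A : C⦄ (t : T ⟶ X) (u : T ⟶ A), Mono t → u ≠ 0 → ∃ (Y : C) (y : Y ⟶ A), P Y ∧ y ≠ 0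

variable {P : ObjectProperty C}

lemma TT_hp {X : C} (hX : TT P X) {A : C} (u : X ⟶ A) (hu : u ≠ 0) :
    ∃ (Y : C) (y : Y ⟶ A), P Y ∧ y ≠ 0 :=
  hX (𝟙 X) u inferInstance hu

lemma le_TT [P.IsClosedUnderSubobjects] : P ≤ TT P := by
  intro X hX T A t u ht hu
  exact ⟨T, u, P.prop_of_mono t hX, hu⟩

/-- General form: `t` need not be mono provided `u` kills the kernel of `t`. -/
lemma TT_gen {X : C} (hX : TT P X) {T A : C} (t : T ⟶ X) (u : T ⟶ A)
    (h : kernel.ι t ≫ u = 0) (hu : u ≠ 0) : ∃ (Y : C) (y : Y ⟶ A), P Y ∧ y ≠ 0 := by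
  obtain ⟨I, e, m, ubar, he, hm, h1, h2⟩ := exists_factor t u h
  refine hX m ubar hm ?_
  rintro rfl
  apply hu
  rw [← h2, comp_zero]

lemma TT_of_mono {X X' : C} (j : X' ⟶ X) [Mono j] (hX : TT P X) : TT P X' := by
  intro T A t u ht hu
  exact hX (t ≫ j) u (mono_comp t j) hu

lemma TT_of_epi {X X' : C} (π : X ⟶ X') [Epi π] (hX : TT P X) : TT P X' := by
  intro T A t u ht hu
  have : Mono t := ht
  refine hX (pullback.snd t π) (pullback.fst t π ≫ u) inferInstance ?_
  intro h0
  apply hu
  rw [← cancel_epi (pullback.fst t π), h0, comp_zero]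

lemma TT_of_isZero {X : C} (hX : IsZero X) : TT P X := by
  intro T A t u ht hu
  have : Mono t := ht
  exfalso
  apply hu
  have hT : IsZero T := by
    rw [IsZero.iff_id_eq_zero]
    rw [← cancel_mono t]
    exact hX.eq_of_tgt _ _
  exact hT.eq_of_src _ _

lemma TT_of_shortExact {S : ShortComplex C} (hS : S.ShortExact) (h₁ : TT P S.X₁)
    (h₃ : TT P S.X₃) : TT P S.X₂ := by
  intro T A t u ht hu
  have : Mono t := ht
  have := hS.mono_f
  by_cases hk : pullback.fst t S.f ≫ u = 0
  · -- `u` kills `T ∩ X₁`, so descends to the image of `T` in `X₃`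
    refine TT_gen h₃ (t ≫ S.g) u ?_ hu
    have h1 : (kernel.ι (t ≫ S.g) ≫ t) ≫ S.g = 0 := by
      rw [Category.assoc, kernel.condition]
    obtain ⟨l, hl⟩ := hS.exact.lift' _ h1
    have h2 : kernel.ι (t ≫ S.g) = pullback.lift (kernel.ι (t ≫ S.g)) l hl.symm ≫
        pullback.fst t S.f := by rw [pullback.lift_fst]
    rw [h2, Category.assoc, hk, comp_zero]
  · exact h₁ (pullback.snd t S.f) (pullback.fst t S.f ≫ u) inferInstance hk

instance : (TT P).IsClosedUnderSubobjects where
  prop_of_mono f _ h := TT_of_mono f h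

instance : (TT P).IsClosedUnderQuotients where
  prop_of_epi f _ h := TT_of_epi f h

instance : (TT P).IsClosedUnderExtensions where
  prop_X₂_of_shortExact hS h₁ h₃ := TT_of_shortExact hS h₁ h₃

open ZeroObject in
instance : (TT P).ContainsZero where
  exists_zero := ⟨0, isZero_zero C, TT_of_isZero (isZero_zero C)⟩

instance : (TT P).IsSerreClass where

/-- Closure under "binary sums": if two maps from objects of `TT P` are jointly epimorphic,
the target is in `TT P`. -/
lemma TT_of_jointly_epi {X₁ X₂ X : C} (f₁ : X₁ ⟶ X) (f₂ : X₂ ⟶ X)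
    (h : ∀ ⦃A : C⦄ (g : X ⟶ A), f₁ ≫ g = 0 → f₂ ≫ g = 0 → g = 0)
    (h₁ : TT P X₁) (h₂ : TT P X₂) : TT P X := by
  have hI : TT P (Abelian.image f₁) := TT_of_epi (Abelian.factorThruImage f₁) h₁
  have hQ : TT P (cokernel (Abelian.image.ι f₁)) := by
    have : Epi (f₂ ≫ cokernel.π (Abelian.image.ι f₁)) := by
      apply Preadditive.epi_of_cancel_zero
      intro A g hg
      have h3 : cokernel.π (Abelian.image.ι f₁) ≫ g = 0 := by
        apply h
        · have h4 : f₁ = Abelian.factorThruImage f₁ ≫ Abelian.image.ι f₁ :=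
            (Abelian.image.fac f₁).symm
          calc f₁ ≫ cokernel.π (Abelian.image.ι f₁) ≫ g
              = (Abelian.factorThruImage f₁ ≫ Abelian.image.ι f₁) ≫
                  cokernel.π (Abelian.image.ι f₁) ≫ g := by rw [← h4]
            _ = 0 := by
              rw [Category.assoc, cokernel.condition_assoc, zero_comp, comp_zero]
        · rw [← Category.assoc]; exact hg
      rw [← cancel_epi (cokernel.π (Abelian.image.ι f₁)), h3, comp_zero]
    exact TT_of_epi (f₂ ≫ cokernel.π (Abelian.image.ι f₁)) h₂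
  exact TT_of_shortExact (shortExact_cokernel (Abelian.image.ι f₁)) hI hQ

end Groth.Agent.Helper29.GabB
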