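import Mathlib

set_option autoImplicit false
universe w v u
open CategoryTheory CategoryTheory.Limits

namespace Groth.Agent.Helper29.GabC

variable {C : Type u} [Category.{v} C] [Abelian C] [IsGrothendieckAbelian.{w} C]

attribute [local instance] IsFiltered.isConnected

/-- AB5 in elementwise form: if `X = colim D` is a filtered colimit and `t : T ↪ X` is a
subobject, then the "intersections" of `T` with the `D j` jointly cover `T`. -/
lemma jointly_epi {J : Type w} [SmallCategory J] [IsFiltered J] {D : J ⥤ C} {c : Cocone D}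
    (hc : IsColimit c) {T A : C} (t : T ⟶ c.pt) [Mono t] (u : T ⟶ A)
    (h : ∀ (j : J) (S : C) (s : S ⟶ T) (s₁ : S ⟶ D.obj j),
      s ≫ t = s₁ ≫ c.ι.app j → s ≫ u = 0) :
    u = 0 := by
  let q := cokernel.π t
  let α : D ⟶ (Functor.const J).obj (cokernel t) :=
    { app j := c.ι.app j ≫ q
      naturality j j' f := by
        dsimp
        rw [Category.comp_id, ← Category.assoc, c.w] }
  let S : ShortComplex (J ⥤ C) := ShortComplex.mk (kernel.ι α) α (kernel.condition α)
  have hS : S.Exact := ShortComplex.exact_kernel α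
  let f : colimit (kernel α) ⟶ c.pt :=
    colimit.desc (kernel α) (Cocone.mk c.pt (kernel.ι α ≫ c.ι))
  have hf : ∀ j, colimit.ι (kernel α) j ≫ f = (kernel.ι α).app j ≫ c.ι.app j := by
    intro j
    simp [f]
  have hg : ∀ j, c.ι.app j ≫ q = S.g.app j ≫ (constCocone J (cokernel t)).ι.app j := by
    intro j
    exact (Category.comp_id _).symm
  have hex := colim.exact_mapShortComplex (S := S) hS (colimit.isColimit (kernel α))
    hc (isColimitConstCocone J (cokernel t)) f q hf hg
  have hfq : f ≫ q = 0 := (colim.mapShortComplex S (colimit.isColimit (kernel α)) c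
    (constCocone J (cokernel t)) f q hf hg).zero
  -- `t` is the kernel of `q`
  let f' : colimit (kernel α) ⟶ T := Abelian.monoLift t f hfq
  have hf' : f' ≫ t = f := Abelian.monoLift_comp t f hfq
  have hepi : Epi f' := by
    rw [epi_iff_surjective_up_to_refinements]
    intro Z z
    obtain ⟨Z', π, hπ, x₁, hx₁⟩ := hex.exact_up_to_refinements (z ≫ t)
      (by
        have h0 : (z ≫ t) ≫ q = 0 := by
          dsimp [q]; rw [Category.assoc, cokernel.condition, comp_zero]
        exact h0)
    refine ⟨Z', π, hπ, x₁, ?_⟩
    have hx₁' : π ≫ z ≫ t = x₁ ≫ f := hx₁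
    rw [← cancel_mono t, Category.assoc, hx₁', Category.assoc, hf']
    rfl
  rw [← cancel_epi f', comp_zero]
  apply colimit.hom_ext
  intro j
  rw [comp_zero, ← Category.assoc]
  apply h j _ (colimit.ι (kernel α) j ≫ f') ((kernel.ι α).app j)
  rw [Category.assoc, hf', hf]

end Groth.Agent.Helper29.GabC
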