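import Mathlib
import Groth.Agent.Lib.Helper29.GabB
import Groth.Agent.Lib.Helper29.GabC
import Groth.Prelude.Def_W4c5qcohlocdualityLoc

set_option autoImplicit false
universe w v u
open CategoryTheory CategoryTheory.Limits

namespace Groth.Agent.Helper29.GabD

open Groth.Agent.Helper29.GabA Groth.Agent.Helper29.GabB Groth.Agent.Helper29.GabC

variable {C : Type u} [Category.{v} C] [Abelian C] [IsGrothendieckAbelian.{w} C]
variable {P : ObjectProperty C}

/-- `TT P` is closed under (small) filtered colimits. -/
lemma TT_of_isColimit_filtered {J : Type w} [SmallCategory J] [IsFiltered J] {D : J ⥤ C}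
    {c : Cocone D} (hc : IsColimit c) (hD : ∀ j, TT P (D.obj j)) : TT P c.pt := by
  intro T A t u ht hu
  have : Mono t := ht
  by_contra hcon
  apply hu
  apply jointly_epi hc t u
  intro j S s s₁ hs
  by_contra hsu
  apply hcon
  refine TT_gen (hD j) s₁ (s ≫ u) ?_ hsu
  have h1 : kernel.ι s₁ ≫ s = 0 := by
    rw [← cancel_mono t, Category.assoc, hs, kernel.condition_assoc, zero_comp, zero_comp]
  rw [← Category.assoc, h1, zero_comp]

open CoproductsFromFiniteFiltered in
/-- `TT P` is closed under finite subcoproducts. -/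
lemma TT_liftToFinsetObj {α : Type w} (F : Discrete α ⥤ C) (hF : ∀ a, TT P (F.obj a))
    (s : Finset (Discrete α)) : TT P ((liftToFinsetObj F).obj s) := by
  classical
  induction s using Finset.induction_on with
  | empty =>
    apply TT_of_isZero
    rw [IsZero.iff_id_eq_zero]
    dsimp [liftToFinsetObj]
    apply Sigma.hom_ext
    rintro ⟨x, hx⟩
    simp at hx
  | insert a s ha ih =>
    refine TT_of_jointly_epi
      ((liftToFinsetObj F).map (homOfLE (Finset.subset_insert a s)))
      (Sigma.ι (fun x : (insert a s : Finset (Discrete α)) => F.obj x)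
        ⟨a, Finset.mem_insert_self a s⟩) ?_ ih (hF a)
    intro A g h₁ h₂
    dsimp [liftToFinsetObj] at g h₁ h₂ ⊢
    apply Sigma.hom_ext
    rintro ⟨x, hx⟩
    refine Eq.trans ?_ (comp_zero).symm
    rcases Finset.mem_insert.mp hx with rfl | hxs
    · exact h₂
    · have := congrArg (fun k => Sigma.ι (fun y : (s : Finset (Discrete α)) => F.obj y)
        ⟨x, hxs⟩ ≫ k) h₁
      simp only [Sigma.ι_desc_assoc] at this
      exact this.trans comp_zero

open CoproductsFromFiniteFiltered in
lemma TT_closedUnderCoproducts (α : Type w) :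
    (TT P).IsClosedUnderColimitsOfShape (Discrete α) := by
  apply ObjectProperty.IsClosedUnderColimitsOfShape.mk'
  rintro _ ⟨F, hF⟩
  have h1 : TT P (colimit (liftToFinsetObj F)) :=
    TT_of_isColimit_filtered (colimit.isColimit (liftToFinsetObj F))
      (fun s => TT_liftToFinsetObj F hF s)
  let e : colimit (liftToFinsetObj F) ≅ colimit F :=
    IsColimit.coconePointUniqueUpToIso (liftToFinsetColimitCocone F).isColimit
      (colimit.isColimit F)
  exact (TT P).prop_of_iso e h1

lemma TT_isLocalizing : GabLoc.IsLocalizing.{w} (TT P) where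
  isSerreClass := inferInstance
  isClosedUnderCoproducts := TT_closedUnderCoproducts

lemma TT_coprod {α : Type w} (X : α → C) (hX : ∀ a, TT P (X a)) : TT P (∐ X) := by
  have := TT_closedUnderCoproducts (P := P) α
  exact (TT P).prop_colimit (Discrete.functor X) (fun a => hX a.as)

lemma locClosure_le_TT [P.IsClosedUnderSubobjects] : GabLoc.locClosure.{w} P ≤ TT P :=
  fun _ hX => hX (TT P) TT_isLocalizing le_TT

end Groth.Agent.Helper29.GabD
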