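import Mathlib
import Groth.Agent.Lib.Helper29.GabD

set_option autoImplicit false
universe w v u
open CategoryTheory CategoryTheory.Limits

namespace Groth.Agent.Helper29.GabE

open Groth.Agent.Helper29.GabA Groth.Agent.Helper29.GabB Groth.Agent.Helper29.GabC
  Groth.Agent.Helper29.GabD

variable {C : Type u} [Category.{v} C] [Abelian C] [IsGrothendieckAbelian.{w} C]
variable {P : ObjectProperty C}

omit [IsGrothendieckAbelian.{w} C] in
lemma shortExact_pullback' {A B C' W : C} (i : A ⟶ B) (p : B ⟶ C') (hp : i ≫ p = 0)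
    (hS : (ShortComplex.mk i p hp).ShortExact) (h : W ⟶ C') :
    (ShortComplex.mk (pullback.lift i (0 : A ⟶ W) (by rw [hp, zero_comp]) : A ⟶ pullback p h)
      (pullback.snd p h) (by rw [pullback.lift_snd])).ShortExact :=
  shortExact_pullback hS h

omit [IsGrothendieckAbelian.{w} C] in
lemma aux_zero {Y N' X' Pb : C} (c : N' ⟶ X') (y : Y ⟶ X') (f : Pb ⟶ N') (g : Pb ⟶ Y)
    (cond : f ≫ c = g ≫ y) (σ : Y ⟶ Pb) (hsg : σ ≫ g = 𝟙 Y) (h0 : σ ≫ f = 0) : y = 0 := by
  calc y = (σ ≫ g) ≫ y := by rw [hsg, Category.id_comp]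
    _ = 0 := by rw [Category.assoc, ← cond, ← Category.assoc, h0, zero_comp]

/-- Every object has a largest subobject in `TT P`, through which every map from an object
of `TT P` factors. -/
lemma exists_largest (N : C) : ∃ (T : C) (ι : T ⟶ N), Mono ι ∧ TT P T ∧
    ∀ ⦃W : C⦄ (h : W ⟶ N), TT P W → ∃ h' : W ⟶ T, h' ≫ ι = h := by
  let I₀ := {s : Subobject N // TT P (s : C)}
  let e := equivShrink.{w} I₀
  let F : Shrink.{w} I₀ → C := fun i => ((e.symm i).1 : C)
  have hU : TT P (∐ F) := TT_coprod F (fun i => (e.symm i).2)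
  let d : ∐ F ⟶ N := Sigma.desc (fun i => (e.symm i).1.arrow)
  refine ⟨Abelian.image d, Abelian.image.ι d, inferInstance,
    TT_of_epi (Abelian.factorThruImage d) hU, ?_⟩
  intro W h hW
  have hI : TT P (Abelian.image h) := TT_of_epi (Abelian.factorThruImage h) hW
  let s : Subobject N := Subobject.mk (Abelian.image.ι h)
  have hs : TT P (s : C) :=
    (TT P).prop_of_iso (Subobject.underlyingIso (Abelian.image.ι h)).symm hI
  have key : ∀ (y : I₀), ∃ k : (y.1 : C) ⟶ Abelian.image d,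
      k ≫ Abelian.image.ι d = y.1.arrow := by
    intro y
    obtain ⟨i, hi⟩ := e.symm.surjective y
    subst hi
    refine ⟨Sigma.ι F i ≫ Abelian.factorThruImage d, ?_⟩
    rw [Category.assoc, Abelian.image.fac]
    exact Sigma.ι_desc _ _
  obtain ⟨k, hk⟩ := key ⟨s, hs⟩
  refine ⟨Abelian.factorThruImage h ≫ (Subobject.underlyingIso (Abelian.image.ι h)).inv ≫ k,
    ?_⟩
  rw [Category.assoc, Category.assoc, hk]
  dsimp only [s]
  rw [Subobject.underlyingIso_arrow, Abelian.image.fac]

theorem isClosedFor_TT [P.IsClosedUnderSubobjects] {M : C} (hM : GabLoc.IsClosedFor P M) :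
    GabLoc.IsClosedFor (TT P) M := by
  have h5 : ∀ ⦃X : C⦄, TT P X → ∀ f : X ⟶ M, f = 0 := by
    intro X hX f
    by_contra hf
    obtain ⟨Y, y, hY, hy⟩ := TT_hp hX f hf
    exact hy (hM.1 hY y)
  refine ⟨h5, ?_⟩
  intro N X i p hp hX hS
  have hmi : Mono i := hS.mono_f
  have hep : Epi p := hS.epi_g
  obtain ⟨T, ι, hι, hT, hfac⟩ := exists_largest (P := P) N
  -- (b) `ι ≫ p` is mono
  have hb : Mono (ι ≫ p) := by
    apply Preadditive.mono_of_kernel_zero
    have hK : TT P (kernel (ι ≫ p)) := TT_of_mono (kernel.ι (ι ≫ p)) hT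
    have h1 : (kernel.ι (ι ≫ p) ≫ ι) ≫ p = 0 := by
      rw [Category.assoc, kernel.condition]
    obtain ⟨l, hl⟩ := hS.exact.lift' _ h1
    have hl0 : l = 0 := h5 hK l
    rw [← cancel_mono ι, zero_comp]
    have hl' : l ≫ i = kernel.ι (ι ≫ p) ≫ ι := hl
    rw [← hl', hl0, zero_comp]
  -- (c) no nonzero maps from `TT P` to `N / T`
  have hc : ∀ ⦃W : C⦄, TT P W → ∀ h : W ⟶ cokernel ι, h = 0 := by
    intro W hW h
    have hS' := shortExact_pullback' _ _ _ (shortExact_cokernel ι) h
    have hW' : TT P (pullback (cokernel.π ι) h) := TT_of_shortExact hS' hT hW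
    obtain ⟨h', hh'⟩ := hfac (pullback.fst (cokernel.π ι) h) hW'
    have h2 : pullback.snd (cokernel.π ι) h ≫ h = 0 := by
      rw [← pullback.condition, ← hh', Category.assoc, cokernel.condition, comp_zero]
    have : Epi (pullback.snd (cokernel.π ι) h) := inferInstance
    rw [← cancel_epi (pullback.snd (cokernel.π ι) h), h2, comp_zero]
  -- (d) `i ≫ ρ` is an isomorphism
  have hm : Mono (i ≫ cokernel.π ι) := by
    apply Preadditive.mono_of_cancel_zero
    intro K k hk
    have h1 : (k ≫ i) ≫ cokernel.π ι = 0 := by rw [Category.assoc]; exact hk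
    obtain ⟨l, hl⟩ := (shortExact_cokernel ι).exact.lift' _ h1
    have hl' : l ≫ ι = k ≫ i := hl
    have hl0 : l = 0 := by
      rw [← cancel_mono (ι ≫ p), zero_comp, ← Category.assoc, hl', Category.assoc, hp,
        comp_zero]
    rw [← cancel_mono i, zero_comp, ← hl', hl0, zero_comp]
  have he : Epi (i ≫ cokernel.π ι) := by
    apply Preadditive.epi_of_cokernel_zero
    by_contra hne
    -- the cokernel is a quotient of `X`
    have h1 : i ≫ (cokernel.π ι ≫ cokernel.π (i ≫ cokernel.π ι)) = 0 := by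
      rw [← Category.assoc, cokernel.condition]
    have hX' : TT P (cokernel (i ≫ cokernel.π ι)) := by
      have : Epi (hS.exact.desc _ h1) := by
        have h2 : p ≫ hS.exact.desc _ h1 = cokernel.π ι ≫ cokernel.π (i ≫ cokernel.π ι) :=
          hS.exact.g_desc _ h1
        have : Epi (p ≫ hS.exact.desc _ h1) := by rw [h2]; infer_instance
        exact epi_of_epi p _
      exact TT_of_epi (hS.exact.desc _ h1) hX
    have hid : 𝟙 (cokernel (i ≫ cokernel.π ι)) ≠ 0 := by
      intro h0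
      apply hne
      rw [← Category.comp_id (cokernel.π (i ≫ cokernel.π ι)), h0, comp_zero]
    obtain ⟨Y, y, hY, hy⟩ := TT_hp hX' _ hid
    have hS₁ := shortExact_pullback' _ _ _ (shortExact_cokernel (i ≫ cokernel.π ι)) y
    have hsplit := hM.2 _ _ _ hY hS₁
    obtain ⟨⟨r, hr⟩⟩ := hsplit
    let spl := ShortComplex.Splitting.ofExactOfRetraction _ hS₁.exact r hr hS₁.epi_g
    have hsg : spl.s ≫ pullback.snd (cokernel.π (i ≫ cokernel.π ι)) y = 𝟙 Y := spl.s_g
    have h0 : spl.s ≫ pullback.fst (cokernel.π (i ≫ cokernel.π ι)) y = 0 :=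
      hc (le_TT _ hY) _
    exact hy (aux_zero _ y _ _ pullback.condition spl.s hsg h0)
  have hiso : IsIso (i ≫ cokernel.π ι) := isIso_of_mono_of_epi _
  exact ⟨⟨cokernel.π ι ≫ inv (i ≫ cokernel.π ι), by
    rw [← Category.assoc, IsIso.hom_inv_id]⟩⟩

end Groth.Agent.Helper29.GabE
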