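import Mathlib
import Groth.Agent.Lib.Helper29.GabE

set_option autoImplicit false
universe w v u
open CategoryTheory CategoryTheory.Limits

namespace Groth.Agent.Helper29.GabF

open Groth.Agent.Helper29.GabA Groth.Agent.Helper29.GabB Groth.Agent.Helper29.GabC
  Groth.Agent.Helper29.GabD Groth.Agent.Helper29.GabE

variable {C : Type u} [Category.{v} C] [Abelian C]

lemma le_locClosure (P : ObjectProperty C) : P ≤ GabLoc.locClosure.{w} P :=
  fun X hX _ _ hPQ => hPQ X hX

lemma isClosedFor_anti {P Q : ObjectProperty C} (h : P ≤ Q) {M : C}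
    (hM : GabLoc.IsClosedFor Q M) : GabLoc.IsClosedFor P M :=
  ⟨fun _ hY f => hM.1 (h _ hY) f, fun _ _ i p hp hY hS => hM.2 i p hp (h _ hY) hS⟩

variable [IsGrothendieckAbelian.{w} C]

/-- Core: if `P` is closed under subobjects and `M` is `P`-closed then `M` is closed for the
localizing closure of `P`. -/
theorem isClosedFor_locClosure (P : ObjectProperty C) [P.IsClosedUnderSubobjects] {M : C}
    (hM : GabLoc.IsClosedFor P M) : GabLoc.IsClosedFor (GabLoc.locClosure.{w} P) M :=
  isClosedFor_anti locClosure_le_TT (isClosedFor_TT hM)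

theorem main17644 (P : ObjectProperty C) [P.IsClosedUnderSubobjects] (M : C) :
    GabLoc.IsClosedFor (GabLoc.locClosure.{w} P) M ↔ GabLoc.IsClosedFor P M :=
  ⟨isClosedFor_anti (le_locClosure P), isClosedFor_locClosure P⟩

theorem main17645 (Q S : ObjectProperty C) (hQ : GabLoc.IsLocalizing.{w} Q)
    (hS : GabLoc.IsLocalizing.{w} S) (M : C) (hMQ : GabLoc.IsClosedFor Q M)
    (hMS : GabLoc.IsClosedFor S M) :
    GabLoc.IsClosedFor (GabLoc.locClosure.{w} (Q ⊔ S)) M := by
  have := hQ.isSerreClass
  have := hS.isSerreClass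
  have : (Q ⊔ S).IsClosedUnderSubobjects :=
    ⟨fun f _ h => h.elim (fun h => Or.inl (Q.prop_of_mono f h))
      (fun h => Or.inr (S.prop_of_mono f h))⟩
  apply isClosedFor_locClosure
  refine ⟨?_, ?_⟩
  · intro Y hY f
    rcases hY with hY | hY
    · exact hMQ.1 hY f
    · exact hMS.1 hY f
  · intro N Y i p hp hY hS'
    rcases hY with hY | hY
    · exact hMQ.2 i p hp hY hS'
    · exact hMS.2 i p hp hY hS'

end Groth.Agent.Helper29.GabF
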