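import Mathlib
import Groth.Agent.Lib.Helper29.GabF

set_option autoImplicit false
universe w v u
open CategoryTheory CategoryTheory.Limits

namespace Groth.Agent.Helper29.GabG

open Groth.Agent.Helper29.GabA Groth.Agent.Helper29.GabB Groth.Agent.Helper29.GabC
  Groth.Agent.Helper29.GabD Groth.Agent.Helper29.GabE Groth.Agent.Helper29.GabF

variable {C : Type u} [Category.{v} C] [Abelian C] [IsGrothendieckAbelian.{w} C]
variable (P : ObjectProperty C)

/-- abbreviation for the class of subquotients of coproducts of objects of `P`. -/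
abbrev SQ : ObjectProperty C := GabLoc.subquotCoprod.{w} P

variable {P}

lemma SQ_of_mono {A A' : C} (j : A' ⟶ A) [Mono j] (hA : SQ.{w} P A) : SQ.{w} P A' := by
  obtain ⟨J, X, hX, B, i, p, hi, hp⟩ := hA
  have : Mono i := hi
  have : Epi p := hp
  exact ⟨J, X, hX, pullback p j, pullback.fst p j ≫ i, pullback.snd p j,
    mono_comp _ _, inferInstance⟩

lemma SQ_of_epi {A A' : C} (q : A ⟶ A') [Epi q] (hA : SQ.{w} P A) : SQ.{w} P A' := by
  obtain ⟨J, X, hX, B, i, p, hi, hp⟩ := hA
  have : Epi p := hp
  exact ⟨J, X, hX, B, i, p ≫ q, hi, epi_comp _ _⟩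

lemma le_SQ : P ≤ SQ.{w} P := by
  intro X hX
  refine ⟨PUnit.{w+1}, fun _ => X, fun _ => hX, X, Sigma.ι (fun _ : PUnit.{w+1} => X) ⟨⟩,
    𝟙 X, ?_, inferInstance⟩
  exact mono_of_mono_fac (Sigma.ι_desc (fun _ : PUnit.{w+1} => 𝟙 X) ⟨⟩)

lemma SQ_of_isZero {A : C} (hA : IsZero A) : SQ.{w} P A := by
  refine ⟨PEmpty.{w+1}, fun e => e.elim, fun e => e.elim, A, 0, 𝟙 A, ?_, inferInstance⟩
  constructor
  intro Z g h _
  exact hA.eq_of_tgt _ _

instance : (SQ.{w} P).IsClosedUnderSubobjects where
  prop_of_mono f _ h := SQ_of_mono f h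

instance : (SQ.{w} P).IsClosedUnderQuotients where
  prop_of_epi f _ h := SQ_of_epi f h

omit [IsGrothendieckAbelian.{w} C] in
lemma locClosure_mono {P P' : ObjectProperty C} (h : P ≤ P') :
    GabLoc.locClosure.{w} P ≤ GabLoc.locClosure.{w} P' :=
  fun X hX Q hQ hP' => hX Q hQ (h.trans hP')

lemma TT_SQ_of_locClosure {X : C} (hX : GabLoc.locClosure.{w} P X) : TT (SQ.{w} P) X :=
  locClosure_le_TT _ (locClosure_mono le_SQ _ hX)

/-- The key step: a proper subobject of an object of `TT (SQ P)` can be enlarged by a map in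
`monoModSubquot P`. -/
lemma exists_larger_subobject {X : C} (hX : TT (SQ.{w} P) X) (A : Subobject X) (hA : A ≠ ⊤) :
    ∃ (A' : Subobject X) (h : A < A'),
      GabLoc.monoModSubquot.{w} P (Subobject.ofLE A A' h.le) := by
  have hπ : cokernel.π A.arrow ≠ 0 := by
    intro h0
    have : Epi A.arrow := Preadditive.epi_of_cokernel_zero h0
    have : IsIso A.arrow := isIso_of_mono_of_epi _
    exact hA ((Subobject.isIso_arrow_iff_eq_top A).1 this)
  have hQ : TT (SQ.{w} P) (cokernel A.arrow) := TT_of_epi (cokernel.π A.arrow) hX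
  have hid : 𝟙 (cokernel A.arrow) ≠ 0 := by
    intro h0
    apply hπ
    rw [← Category.comp_id (cokernel.π A.arrow), h0, comp_zero]
  obtain ⟨Y, y, hY, hy⟩ := TT_hp hQ _ hid
  have hI : SQ.{w} P (Abelian.image y) := SQ_of_epi (Abelian.factorThruImage y) hY
  have hι : Abelian.image.ι y ≠ 0 := by
    intro h0
    apply hy
    rw [← Abelian.image.fac y, h0, comp_zero]
  have hS := shortExact_pullback' A.arrow (cokernel.π A.arrow) (cokernel.condition _)
    (shortExact_cokernel A.arrow) (Abelian.image.ι y)
  have hmono : Mono (pullback.fst (cokernel.π A.arrow) (Abelian.image.ι y)) := inferInstance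
  have hepi : Epi (pullback.snd (cokernel.π A.arrow) (Abelian.image.ι y)) := inferInstance
  have hle : A ≤ Subobject.mk (pullback.fst (cokernel.π A.arrow) (Abelian.image.ι y)) :=
    Subobject.le_mk_of_comm (pullback.lift A.arrow 0 (by rw [cokernel.condition, zero_comp]))
      (pullback.lift_fst _ _ _)
  have hne : A ≠ Subobject.mk (pullback.fst (cokernel.π A.arrow) (Abelian.image.ι y)) := by
    intro heq
    have hle' : Subobject.mk (pullback.fst (cokernel.π A.arrow) (Abelian.image.ι y)) ≤ A :=
      heq.symm.le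
    apply hι
    have h1 : pullback.fst (cokernel.π A.arrow) (Abelian.image.ι y) ≫ cokernel.π A.arrow = 0 := by
      rw [← Subobject.ofMkLE_arrow hle', Category.assoc, cokernel.condition, comp_zero]
    rw [← cancel_epi (pullback.snd (cokernel.π A.arrow) (Abelian.image.ι y)),
      ← pullback.condition, h1, comp_zero]
  refine ⟨_, lt_of_le_of_ne hle hne, inferInstance, ?_⟩
  -- the cokernel is a quotient of the image `I`
  set p' := pullback.fst (cokernel.π A.arrow) (Abelian.image.ι y) with hp'
  set c := cokernel.π (Subobject.ofLE A (Subobject.mk p') hle) with hc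
  have h2 : pullback.lift A.arrow (0 : (A : C) ⟶ Abelian.image y)
      (by rw [cokernel.condition, zero_comp]) ≫ (Subobject.underlyingIso p').inv =
      Subobject.ofLE A (Subobject.mk p') hle := by
    rw [← cancel_mono (Subobject.mk p').arrow, Category.assoc, Subobject.underlyingIso_arrow,
      Subobject.ofLE_arrow, hp', pullback.lift_fst]
  have h3 : pullback.lift A.arrow (0 : (A : C) ⟶ Abelian.image y)
      (by rw [cokernel.condition, zero_comp]) ≫ ((Subobject.underlyingIso p').inv ≫ c) = 0 := by
    rw [← Category.assoc, h2, hc, cokernel.condition]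
  have hS' := hS
  have : Epi (hS.exact.desc ((Subobject.underlyingIso p').inv ≫ c) h3) := by
    have h4 : pullback.snd (cokernel.π A.arrow) (Abelian.image.ι y) ≫
        hS.exact.desc ((Subobject.underlyingIso p').inv ≫ c) h3 =
        (Subobject.underlyingIso p').inv ≫ c := hS.exact.g_desc _ h3
    have : Epi (pullback.snd (cokernel.π A.arrow) (Abelian.image.ι y) ≫
        hS.exact.desc ((Subobject.underlyingIso p').inv ≫ c) h3) := by
      rw [h4]; infer_instance
    exact epi_of_epi (pullback.snd (cokernel.π A.arrow) (Abelian.image.ι y)) _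
  exact SQ_of_epi (hS.exact.desc ((Subobject.underlyingIso p').inv ≫ c) h3) hI

end Groth.Agent.Helper29.GabG
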