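import Mathlib
import Groth.Agent.Lib.Helper29.GabG

set_option autoImplicit false
universe w v u
open CategoryTheory CategoryTheory.Limits

namespace Groth.Agent.Helper29.GabH

open Groth.Agent.Helper29.GabA Groth.Agent.Helper29.GabB Groth.Agent.Helper29.GabC
  Groth.Agent.Helper29.GabD Groth.Agent.Helper29.GabE Groth.Agent.Helper29.GabF
  Groth.Agent.Helper29.GabG

variable {C : Type u} [Category.{v} C] [Abelian C] [IsGrothendieckAbelian.{w} C]
variable {P : ObjectProperty C} {X : C} (hX : TT (SQ.{w} P) X)

open scoped Classical in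
/-- a larger subobject, as given by `exists_larger_subobject`, or `⊤`. -/
noncomputable def largerSubobject (A : Subobject X) : Subobject X :=
  if hA : A = ⊤ then ⊤ else (exists_larger_subobject hX A hA).choose

@[simp]
lemma largerSubobject_top : largerSubobject hX (⊤ : Subobject X) = ⊤ := dif_pos rfl

lemma lt_largerSubobject (A : Subobject X) (hA : A ≠ ⊤) :
    A < largerSubobject hX A := by
  dsimp only [largerSubobject]
  rw [dif_neg hA]
  exact (exists_larger_subobject hX A hA).choose_spec.choose

lemma le_largerSubobject (A : Subobject X) :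
    A ≤ largerSubobject hX A := by
  by_cases hA : A = ⊤
  · subst hA
    simp only [largerSubobject_top, le_refl]
  · exact (lt_largerSubobject hX A hA).le

lemma monoModSubquot_of_isIso {A B : C} (f : A ⟶ B) [IsIso f] :
    GabLoc.monoModSubquot.{w} P f :=
  ⟨inferInstance, SQ_of_isZero (isZero_cokernel_of_epi f)⟩

lemma monoModSubquot_arrow_iso {A B A' B' : C} {f : A ⟶ B} {f' : A' ⟶ B'}
    (e : Arrow.mk f ≅ Arrow.mk f') (hf : GabLoc.monoModSubquot.{w} P f) :
    GabLoc.monoModSubquot.{w} P f' := by
  obtain ⟨hm, hq⟩ := hf
  have : Mono f := hm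
  have hw : e.inv.left ≫ f = f' ≫ e.inv.right := Arrow.w e.inv
  have hmono : Mono f' := by
    have : Mono (f' ≫ e.inv.right) := by rw [← hw]; infer_instance
    exact mono_of_mono f' e.inv.right
  refine ⟨hmono, ?_⟩
  -- cokernel f' is a quotient of cokernel f
  have hw' : e.hom.left ≫ f' = f ≫ e.hom.right := Arrow.w e.hom
  have h1 : f ≫ (e.hom.right ≫ cokernel.π f') = 0 := by
    rw [← Category.assoc, ← hw', Category.assoc, cokernel.condition, comp_zero]
  have : Epi (cokernel.desc f (e.hom.right ≫ cokernel.π f') h1) := by
    have : Epi (cokernel.π f ≫ cokernel.desc f (e.hom.right ≫ cokernel.π f') h1) := by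
      rw [cokernel.π_desc]; infer_instance
    exact epi_of_epi (cokernel.π f) _
  exact SQ_of_epi (cokernel.desc f (e.hom.right ≫ cokernel.π f') h1) hq

lemma mem_ofLE_largerSubobject (A : Subobject X) :
    GabLoc.monoModSubquot.{w} P (Subobject.ofLE _ _ (le_largerSubobject hX A)) := by
  by_cases hA : A = ⊤
  · subst hA
    have : IsIso (Subobject.ofLE _ _ (le_largerSubobject hX (⊤ : Subobject X))) := by
      have h1 := (Subobject.isIso_arrow_iff_eq_top (largerSubobject hX (⊤ : Subobject X))).2
        (by simp)
      have h2 : IsIso ((⊤ : Subobject X).arrow) := inferInstance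
      have h3 : Subobject.ofLE _ _ (le_largerSubobject hX (⊤ : Subobject X)) ≫
          (largerSubobject hX (⊤ : Subobject X)).arrow = (⊤ : Subobject X).arrow :=
        Subobject.ofLE_arrow _
      exact IsIso.of_isIso_fac_right h3
    exact monoModSubquot_of_isIso _
  · refine monoModSubquot_arrow_iso ?_
      (exists_larger_subobject hX A hA).choose_spec.choose_spec
    exact Arrow.isoMk (Iso.refl _)
      (Subobject.isoOfEq _ _ ((by simp [largerSubobject, dif_neg hA]))) (by
        dsimp
        rw [Category.id_comp, ← cancel_mono (Subobject.arrow _)]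
        simp)

end Groth.Agent.Helper29.GabH
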