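import Mathlib
import Groth.Agent.Lib.Helper29.GabI

set_option autoImplicit false
universe w v u
open CategoryTheory CategoryTheory.Limits

namespace Groth.Agent.Helper29.GabJ

open Groth.Agent.Helper29.GabA Groth.Agent.Helper29.GabB Groth.Agent.Helper29.GabC
  Groth.Agent.Helper29.GabD Groth.Agent.Helper29.GabE Groth.Agent.Helper29.GabF
  Groth.Agent.Helper29.GabG Groth.Agent.Helper29.GabH Groth.Agent.Helper29.GabI

variable {C : Type u} [Category.{v} C] [Abelian C] [IsGrothendieckAbelian.{w} C]
variable {P : ObjectProperty C}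

/-- a localizing class is closed under small colimits. -/
lemma prop_of_isColimit {Q : ObjectProperty C} (hQ : GabLoc.IsLocalizing.{w} Q)
    {K : Type w} [SmallCategory K] {D : K ⥤ C} {c : Cocone D} (hc : IsColimit c)
    (hD : ∀ k, Q (D.obj k)) : Q c.pt := by
  have := hQ.isSerreClass
  have := hQ.isClosedUnderCoproducts K
  have h1 : Q (∐ D.obj) := Q.prop_colimit (Discrete.functor D.obj) (fun k => hD k.as)
  have : Epi (Sigma.desc (fun k => c.ι.app k)) := by
    constructor
    intro Z g₁ g₂ h
    apply hc.hom_ext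
    intro k
    have := congrArg (fun m => Sigma.ι D.obj k ≫ m) h
    simpa using this
  exact Q.prop_of_epi (Sigma.desc (fun k => c.ι.app k)) h1

lemma SQ_le {Q : ObjectProperty C} (hQ : GabLoc.IsLocalizing.{w} Q) (hPQ : P ≤ Q) :
    SQ.{w} P ≤ Q := by
  have := hQ.isSerreClass
  rintro A ⟨J, X, hX, B, i, p, hi, hp⟩
  have : Mono i := hi
  have : Epi p := hp
  have := hQ.isClosedUnderCoproducts J
  have h1 : Q (∐ X) := Q.prop_colimit (Discrete.functor X) (fun k => hPQ _ (hX k.as))
  exact Q.prop_of_epi p (Q.prop_of_mono i h1)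

open ZeroObject in
theorem backward {X : C}
    (h : MorphismProperty.transfiniteCompositions.{w} (GabLoc.monoModSubquot.{w} P)
      (0 : (0 : C) ⟶ X)) : GabLoc.locClosure.{w} P X := by
  intro Q hQ hPQ
  have hSerre := hQ.isSerreClass
  rw [MorphismProperty.transfiniteCompositions_iff] at h
  obtain ⟨J, _, _, _, _, ⟨t⟩⟩ := h
  have key : ∀ j : J, Q (t.F.obj j) := by
    intro j
    induction j using SuccOrder.limitRecOn with
    | isMin a ha =>
      have : a = ⊥ := ha.eq_bot
      subst this
      exact Q.prop_of_iso t.isoBot.symm (Q.prop_of_isZero (isZero_zero C))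
    | succ a ha ih =>
      obtain ⟨hm, hq⟩ := t.map_mem a ha
      have : Mono (t.F.map (homOfLE (Order.le_succ a))) := hm
      exact Q.prop_X₂_of_shortExact (shortExact_cokernel (t.F.map (homOfLE (Order.le_succ a))))
        ih (SQ_le hQ hPQ _ hq)
    | isSuccLimit a ha ih =>
      have hc := t.F.isColimitOfIsWellOrderContinuous a ha
      exact prop_of_isColimit hQ hc (fun k => ih k.1 k.2)
  exact prop_of_isColimit hQ t.isColimit key

open ZeroObject in
theorem main17648 (P : ObjectProperty C) (X : C) :
    GabLoc.locClosure.{w} P X ↔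
      MorphismProperty.transfiniteCompositions.{w} (GabLoc.monoModSubquot.{w} P)
        (0 : (0 : C) ⟶ X) :=
  ⟨forward, backward⟩

end Groth.Agent.Helper29.GabJ
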