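import Mathlib

set_option autoImplicit false
universe u

namespace Groth.Agent.Helper29.GalSpecA

open TensorProduct

variable (K F L : Type u) [Field K] [Field F] [Algebra K F] [Field L] [Algebra K L]

/-- The action of `Gal(L/K)` on `F ⊗[K] L` through the second factor. -/
noncomputable def act : Gal(L/K) →* ((F ⊗[K] L) ≃ₐ[F] (F ⊗[K] L)) where
  toFun γ := Algebra.TensorProduct.congr AlgEquiv.refl γ
  map_one' := by
    apply AlgEquiv.ext
    intro x
    induction x using TensorProduct.induction_on with
    | zero => simp
    | tmul a b => simp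
    | add x y hx hy => simp only [map_add, hx, hy]
  map_mul' γ δ := by
    apply AlgEquiv.ext
    intro x
    induction x using TensorProduct.induction_on with
    | zero => simp
    | tmul a b => simp
    | add x y hx hy => simp only [map_add, hx, hy]

@[simp] lemma act_tmul (γ : Gal(L/K)) (a : F) (b : L) :
    act K F L γ (a ⊗ₜ b) = a ⊗ₜ γ b := by
  simp [act]

lemma act_apply (γ : Gal(L/K)) (x : F ⊗[K] L) :
    act K F L γ x = Algebra.TensorProduct.map (AlgHom.id K F) (γ : L →ₐ[K] L) x := by
  induction x using TensorProduct.induction_on with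
  | zero => simp
  | tmul a b => simp
  | add x y hx hy => simp only [map_add, hx, hy]

/-- Invariants: an element fixed by all of `Gal(L/K)` comes from `F`. -/
lemma invariant [IsGalois K L] (t : F ⊗[K] L) (ht : ∀ γ : Gal(L/K), act K F L γ t = t) :
    ∃ f : F, algebraMap F (F ⊗[K] L) f = t := by
  classical
  let b := Module.Basis.ofVectorSpace K F
  let e := TensorProduct.equivFinsuppOfBasisLeft (N := L) b
  have key : ∀ (γ : Gal(L/K)) (x : F ⊗[K] L) i, e (act K F L γ x) i = γ (e x i) := by
    intro γ x i
    induction x using TensorProduct.induction_on with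
    | zero => simp
    | tmul a c =>
      simp only [act_tmul, e, TensorProduct.equivFinsuppOfBasisLeft_apply_tmul_apply]
      rw [Algebra.smul_def, Algebra.smul_def, map_mul, AlgEquiv.commutes]
    | add x y hx hy => simp only [map_add, Finsupp.add_apply, hx, hy]
  have hfix : ∀ i, ∃ k : K, algebraMap K L k = e t i := by
    intro i
    have := (InfiniteGalois.mem_range_algebraMap_iff_fixed (k := K) (K := L) (e t i)).2
      (fun γ => by rw [← key, ht])
    exact this
  choose k hk using hfix
  have hk0 : ∀ i, k i ≠ 0 → i ∈ (e t).support := by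
    intro i hi
    rw [Finsupp.mem_support_iff]
    intro h0
    apply hi
    have : algebraMap K L (k i) = 0 := by rw [hk, h0]
    exact (map_eq_zero_iff _ (algebraMap K L).injective).1 this
  let c : _ →₀ K := Finsupp.onFinset (e t).support k hk0
  refine ⟨b.repr.symm c, ?_⟩
  apply e.injective
  ext i
  rw [Algebra.TensorProduct.algebraMap_apply]
  simp only [Algebra.algebraMap_self, RingHom.id_apply, e,
    TensorProduct.equivFinsuppOfBasisLeft_apply_tmul_apply, LinearEquiv.apply_symm_apply]
  rw [Algebra.smul_def, mul_one]
  exact hk i

end Groth.Agent.Helper29.GalSpecA
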