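import Mathlib
import Groth.Agent.Lib.Helper29.GalSpecA

set_option autoImplicit false
universe u

namespace Groth.Agent.Helper29.GalSpecB

open TensorProduct Groth.Agent.Helper29.GalSpecA
open scoped Pointwise

section
variable (K F L : Type u) [Field K] [Field F] [Algebra K F] [Field L] [Algebra K L]

/-- the action as a `MulSemiringAction`. -/
@[reducible] noncomputable def msa : MulSemiringAction Gal(L/K) (F ⊗[K] L) :=
  MulSemiringAction.compHom (F ⊗[K] L) (act K F L)

attribute [local instance] msa

lemma smul_def (γ : Gal(L/K)) (x : F ⊗[K] L) : γ • x = act K F L γ x := rfl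

instance : SMulCommClass Gal(L/K) F (F ⊗[K] L) :=
  ⟨fun γ f x => by
    rw [smul_def, smul_def]
    exact map_smul (act K F L γ) f x⟩

lemma stab_open [Algebra.IsIntegral K L] (x : F ⊗[K] L) :
    IsOpen (MulAction.stabilizer Gal(L/K) x : Set Gal(L/K)) := by
  have key : ∃ U : Subgroup Gal(L/K), IsOpen (U : Set Gal(L/K)) ∧
      U ≤ MulAction.stabilizer Gal(L/K) x := by
    induction x using TensorProduct.induction_on with
    | zero =>
      refine ⟨⊤, by simp, ?_⟩
      intro γ _
      rw [MulAction.mem_stabilizer_iff, smul_zero]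
    | tmul a b =>
      refine ⟨MulAction.stabilizer Gal(L/K) b, stabilizer_isOpen_of_isIntegral b, ?_⟩
      intro γ hγ
      rw [MulAction.mem_stabilizer_iff] at hγ ⊢
      rw [smul_def, act_tmul]
      congr 1
    | add x y hx hy =>
      obtain ⟨U, hU, hUx⟩ := hx
      obtain ⟨V, hV, hVy⟩ := hy
      refine ⟨U ⊓ V, ?_, ?_⟩
      · rw [Subgroup.coe_inf]
        exact hU.inter hV
      · intro γ hγ
        have h1 := hUx hγ.1
        have h2 := hVy hγ.2
        rw [MulAction.mem_stabilizer_iff] at h1 h2 ⊢
        rw [smul_add, h1, h2]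
  obtain ⟨U, hU, hUx⟩ := key
  exact Subgroup.isOpen_mono hUx hU

lemma transitive [IsGalois K L] (P Q : Ideal (F ⊗[K] L)) [P.IsPrime] [Q.IsPrime] :
    ∃ γ : L ≃ₐ[K] L,
      Q = P.comap (Algebra.TensorProduct.map (AlgHom.id K F) (γ : L →ₐ[K] L)) := by
  let _ : TopologicalSpace (F ⊗[K] L) := ⊥
  have : DiscreteTopology (F ⊗[K] L) := ⟨rfl⟩
  have : ContinuousSMul Gal(L/K) (F ⊗[K] L) :=
    continuousSMul_iff_stabilizer_isOpen.2 (stab_open K F L)
  have : Algebra.IsInvariant F (F ⊗[K] L) Gal(L/K) :=
    ⟨fun t ht => invariant K F L t ht⟩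
  have hP : P.under F = ⊥ := by
    rcases Ideal.eq_bot_or_top (P.under F) with h | h
    · exact h
    · exact absurd h (Ideal.IsPrime.ne_top (Ideal.IsPrime.under F P))
  have hQ : Q.under F = ⊥ := by
    rcases Ideal.eq_bot_or_top (Q.under F) with h | h
    · exact h
    · exact absurd h (Ideal.IsPrime.ne_top (Ideal.IsPrime.under F Q))
  obtain ⟨g, hg⟩ := Algebra.IsInvariant.exists_smul_of_under_eq_of_profinite
    (A := F) (B := F ⊗[K] L) (G := Gal(L/K)) P Q (hP.trans hQ.symm)
  refine ⟨g⁻¹, ?_⟩
  rw [hg]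
  ext x
  rw [Ideal.mem_pointwise_smul_iff_inv_smul_mem, Ideal.mem_comap, smul_def, act_apply]

end

lemma finite_spec (K B L : Type u) [Field K] [CommRing B] [IsDomain B] [Algebra K B]
    [Algebra.FiniteType K B] [Field L] [Algebra K L] [Algebra.IsIntegral K L] :
    Finite (PrimeSpectrum (FractionRing B ⊗[K] L)) := by
  have : Algebra.EssFiniteType B (FractionRing B) :=
    Algebra.EssFiniteType.of_isLocalization (FractionRing B) (nonZeroDivisors B)
  have : Algebra.EssFiniteType K (FractionRing B) :=
    Algebra.EssFiniteType.comp K B (FractionRing B)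
  have : IsNoetherianRing (L ⊗[K] FractionRing B) :=
    Algebra.EssFiniteType.isNoetherianRing L _
  have : IsNoetherianRing (FractionRing B ⊗[K] L) :=
    isNoetherianRing_of_ringEquiv _
      (Algebra.TensorProduct.comm K L (FractionRing B)).toRingEquiv
  have : Ring.KrullDimLE 0 (FractionRing B ⊗[K] L) := by
    rw [Ring.krullDimLE_zero_iff]
    intro I hI
    apply Ideal.isMaximal_of_isIntegral_of_isMaximal_comap (R := FractionRing B) I
    have : I.comap (algebraMap (FractionRing B) (FractionRing B ⊗[K] L)) = ⊥ := by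
      rcases Ideal.eq_bot_or_top
        (I.comap (algebraMap (FractionRing B) (FractionRing B ⊗[K] L))) with h | h
      · exact h
      · exact absurd h (Ideal.IsPrime.ne_top (Ideal.IsPrime.comap _))
    rw [this]
    exact Ideal.bot_isMaximal
  have : IsArtinianRing (FractionRing B ⊗[K] L) :=
    IsNoetherianRing.isArtinianRing_of_krullDimLE_zero
  infer_instance

theorem main (K B L : Type u) [Field K]
    [CommRing B] [IsDomain B] [Algebra K B] [Algebra.FiniteType K B] [Field L] [Algebra K L]
    [IsGalois K L] :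
    Finite (PrimeSpectrum (TensorProduct K (FractionRing B) L)) ∧
      ∀ P Q : PrimeSpectrum (TensorProduct K (FractionRing B) L), ∃ γ : L ≃ₐ[K] L,
        Q.asIdeal = P.asIdeal.comap
          (Algebra.TensorProduct.map (AlgHom.id K (FractionRing B)) (γ : L →ₐ[K] L)) := by
  refine ⟨finite_spec K B L, fun P Q => ?_⟩
  exact transitive K (FractionRing B) L P.asIdeal Q.asIdeal

end Groth.Agent.Helper29.GalSpecB
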