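import Mathlib

/-!
# Chain maps out of a complex concentrated in one degree
-/

set_option autoImplicit false
universe v u
open CategoryTheory CategoryTheory.Limits

namespace Groth.Agent.Helper29.GamA

variable {𝒜 : Type u} [Category.{v} 𝒜] [Abelian 𝒜]

open HomologicalComplex CochainComplex.HomComplex

/-- the complex with `X` in degree `p` -/
noncomputable abbrev sgn (p : ℤ) (X : 𝒜) : CochainComplex 𝒜 ℤ :=
  (CochainComplex.singleFunctor 𝒜 p).obj X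

/-- the chain map out of a single complex given by a cycle -/
noncomputable def ζn {X : 𝒜} {K : CochainComplex 𝒜 ℤ} (p : ℤ) (z : X ⟶ K.X p)
    (hz : z ≫ K.d p (p + 1) = 0) : sgn p X ⟶ K :=
  Cocycle.homOf (Cocycle.fromSingleMk z (add_zero p) (p + 1) rfl hz)

lemma ofHom_ζn {X : 𝒜} {K : CochainComplex 𝒜 ℤ} (p : ℤ) (z : X ⟶ K.X p)
    (hz : z ≫ K.d p (p + 1) = 0) :
    Cochain.ofHom (ζn p z hz) = Cochain.fromSingleMk z (add_zero p) := by
  unfold ζn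
  simp

lemma eq_ζn {X : 𝒜} {K : CochainComplex 𝒜 ℤ} (p : ℤ) (g : sgn p X ⟶ K) :
    ∃ (z : X ⟶ K.X p) (hz : z ≫ K.d p (p + 1) = 0), g = ζn p z hz := by
  obtain ⟨f, hf, h⟩ := Cocycle.fromSingleMk_surjective (Cocycle.ofHom g) p (add_zero p) (p + 1) rfl
  refine ⟨f, hf, ?_⟩
  unfold ζn
  rw [h, Cocycle.homOf_ofHom_eq_self]

lemma ζn_comp {X : 𝒜} {K L : CochainComplex 𝒜 ℤ} (p : ℤ) (z : X ⟶ K.X p)
    (hz : z ≫ K.d p (p + 1) = 0) (φ : K ⟶ L) :
    ζn p z hz ≫ φ = ζn p (z ≫ φ.f p)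
      (by rw [Category.assoc, φ.comm, ← Category.assoc, hz, zero_comp]) := by
  apply (Cochain.ofHom_injective)
  rw [Cochain.ofHom_comp, ofHom_ζn, ofHom_ζn, Cochain.fromSingleMk_postcomp]

lemma ζn_zero {X : 𝒜} {K : CochainComplex 𝒜 ℤ} (p : ℤ) :
    ζn p (0 : X ⟶ K.X p) (by rw [zero_comp]) = 0 := by
  apply (Cochain.ofHom_injective)
  rw [ofHom_ζn, Cochain.ofHom_zero, Cochain.fromSingleMk_zero]

/-- homotopies between maps out of a single complex -/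
lemma homotopy_iff {X : 𝒜} {K : CochainComplex 𝒜 ℤ} (p q : ℤ) (hq : q + 1 = p)
    (z z' : X ⟶ K.X p) (hz : z ≫ K.d p (p + 1) = 0) (hz' : z' ≫ K.d p (p + 1) = 0) :
    Nonempty (Homotopy (ζn p z hz) (ζn p z' hz')) ↔ ∃ y : X ⟶ K.X q, z = y ≫ K.d q p + z' := by
  constructor
  · rintro ⟨ho⟩
    obtain ⟨γ, hγ⟩ := Cochain.equivHomotopy _ _ ho
    obtain ⟨y, rfl⟩ := Cochain.fromSingleMk_surjective γ q (by omega)
    refine ⟨y, ?_⟩
    rw [ofHom_ζn, ofHom_ζn, Cochain.δ_fromSingleMk _ _ _ p (add_zero p),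
      ← Cochain.fromSingleMk_add] at hγ
    exact (Cochain.fromSingleEquiv (add_zero p)).symm.injective hγ
  · rintro ⟨y, hy⟩
    refine ⟨(Cochain.equivHomotopy _ _).symm ⟨Cochain.fromSingleMk y (by omega), ?_⟩⟩
    rw [ofHom_ζn, ofHom_ζn, Cochain.δ_fromSingleMk _ _ _ p (add_zero p),
      ← Cochain.fromSingleMk_add, hy]

/-- null-homotopies of maps out of a single complex -/
lemma homotopy_zero_iff {X : 𝒜} {K : CochainComplex 𝒜 ℤ} (p q : ℤ) (hq : q + 1 = p)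
    (z : X ⟶ K.X p) (hz : z ≫ K.d p (p + 1) = 0) :
    Nonempty (Homotopy (ζn p z hz) 0) ↔ ∃ y : X ⟶ K.X q, z = y ≫ K.d q p := by
  have h := homotopy_iff p q hq z 0 hz (by rw [zero_comp])
  rw [ζn_zero] at h
  simpa using h

end Groth.Agent.Helper29.GamA
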