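import Mathlib

/-!
# Elementwise criterion for quasi-isomorphisms of complexes of abelian groups
-/

set_option autoImplicit false
universe u
open CategoryTheory

namespace Groth.Agent.Helper29.GamB

variable {S₁ S₂ : ShortComplex AddCommGrpCat.{u}} (φ : S₁ ⟶ S₂)

theorem g_τ₂ (x : S₁.X₂) : S₂.g (φ.τ₂ x) = φ.τ₃ (S₁.g x) := by
  have := congrArg (fun f => f.hom x) φ.comm₂₃
  exact this

theorem τ₂_f (x : S₁.X₁) : φ.τ₂ (S₁.f x) = S₂.f (φ.τ₁ x) := by
  have := congrArg (fun f => f.hom x) φ.comm₁₂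
  exact this.symm

/-- restriction of `τ₂` to kernels -/
noncomputable def kerMap : AddMonoidHom.ker S₁.g.hom →+ AddMonoidHom.ker S₂.g.hom :=
  (φ.τ₂.hom.comp (AddMonoidHom.ker S₁.g.hom).subtype).codRestrict _ (by
    intro x
    rw [AddMonoidHom.mem_ker]
    change S₂.g (φ.τ₂ x.1) = 0
    rw [g_τ₂]
    have : S₁.g x.1 = 0 := x.2
    rw [this, map_zero])

@[simp] theorem kerMap_coe (x : AddMonoidHom.ker S₁.g.hom) :
    ((kerMap φ x : AddMonoidHom.ker S₂.g.hom) : S₂.X₂) = φ.τ₂ x.1 := rfl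

/-- the induced map on homology groups -/
noncomputable def homMap : (AddMonoidHom.ker S₁.g.hom ⧸ AddMonoidHom.range S₁.abToCycles) →+
    (AddMonoidHom.ker S₂.g.hom ⧸ AddMonoidHom.range S₂.abToCycles) :=
  QuotientAddGroup.map _ _ (kerMap φ) (by
    rintro _ ⟨x, rfl⟩
    refine ⟨φ.τ₁ x, ?_⟩
    apply Subtype.ext
    change S₂.f (φ.τ₁ x) = φ.τ₂ (S₁.f x)
    rw [τ₂_f])

/-- the left homology map data -/
noncomputable def mapData : ShortComplex.LeftHomologyMapData φ S₁.abLeftHomologyData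
    S₂.abLeftHomologyData where
  φK := AddCommGrpCat.ofHom (kerMap φ)
  φH := AddCommGrpCat.ofHom (homMap φ)
  commi := by
    ext x
    rfl
  commf' := by
    ext x
    apply Subtype.ext
    change φ.τ₂ (S₁.f x) = S₂.f (φ.τ₁ x)
    rw [τ₂_f]
  commπ := by
    ext x
    rfl

theorem quasiIso_iff_bijective : ShortComplex.QuasiIso φ ↔ Function.Bijective (homMap φ) := by
  rw [(mapData φ).quasiIso_iff]
  change IsIso (AddCommGrpCat.ofHom (homMap φ)) ↔ _
  rw [ConcreteCategory.isIso_iff_bijective]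
  rfl

theorem shortComplex_quasiIso_of_elements
    (hinj : ∀ x : S₁.X₂, S₁.g x = 0 → (∃ y, S₂.f y = φ.τ₂ x) → ∃ z, S₁.f z = x)
    (hsurj : ∀ y : S₂.X₂, S₂.g y = 0 → ∃ x : S₁.X₂, S₁.g x = 0 ∧ ∃ w, S₂.f w = y - φ.τ₂ x) :
    ShortComplex.QuasiIso φ := by
  rw [quasiIso_iff_bijective]
  constructor
  · rw [injective_iff_map_eq_zero]
    intro q hq
    obtain ⟨xk, rfl⟩ := QuotientAddGroup.mk_surjective q
    have h0 : (QuotientAddGroup.mk (kerMap φ xk) :
        AddMonoidHom.ker S₂.g.hom ⧸ AddMonoidHom.range S₂.abToCycles) = 0 := hq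
    rw [QuotientAddGroup.eq_zero_iff] at h0
    obtain ⟨y, hy⟩ := h0
    obtain ⟨z, hz⟩ := hinj xk.1 xk.2 ⟨y, congrArg Subtype.val hy⟩
    rw [QuotientAddGroup.eq_zero_iff]
    exact ⟨z, Subtype.ext hz⟩
  · intro q
    obtain ⟨yk, rfl⟩ := QuotientAddGroup.mk_surjective q
    obtain ⟨x, hx, w, hw⟩ := hsurj yk.1 yk.2
    refine ⟨QuotientAddGroup.mk ⟨x, hx⟩, ?_⟩
    change (QuotientAddGroup.mk (kerMap φ ⟨x, hx⟩) :
        AddMonoidHom.ker S₂.g.hom ⧸ AddMonoidHom.range S₂.abToCycles) = QuotientAddGroup.mk yk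
    rw [eq_comm, QuotientAddGroup.eq]
    refine ⟨-w, Subtype.ext ?_⟩
    change S₂.f (-w) = -yk.1 + φ.τ₂ x
    rw [map_neg, hw]
    abel

variable {ι : Type*} {c : ComplexShape ι} {E F : HomologicalComplex AddCommGrpCat.{u} c}
  (f : E ⟶ F)

theorem quasiIsoAt_of_elements (i j k : ι) (hi : c.prev j = i) (hk : c.next j = k)
    (hinj : ∀ x : E.X j, E.d j k x = 0 → (∃ y : F.X i, F.d i j y = f.f j x) →
      ∃ z : E.X i, E.d i j z = x)
    (hsurj : ∀ y : F.X j, F.d j k y = 0 →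
      ∃ x : E.X j, E.d j k x = 0 ∧ ∃ w : F.X i, F.d i j w = y - f.f j x) :
    QuasiIsoAt f j := by
  rw [quasiIsoAt_iff' f i j k hi hk]
  exact shortComplex_quasiIso_of_elements _ hinj hsurj

end Groth.Agent.Helper29.GamB
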