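import Mathlib
import Groth.Prelude.Def_DCoh2
import Groth.Prelude.Def_DCoh4
import Groth.Agent.Lib.Helper17.MT26
import Groth.Agent.Lib.Helper5.LFD4
import Groth.Agent.Lib.Helper5.LRes1

/-!
# The structure sheaf as a test object for global sections
-/

set_option autoImplicit false
universe u
open CategoryTheory CategoryTheory.Limits AlgebraicGeometry Opposite

attribute [local instance] HasDerivedCategory.standard

namespace Groth.Agent.Helper29.GamC

variable (Y : Scheme.{u})

/-- the test object -/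
noncomputable abbrev 𝒪 : Y.Modules := Coh.structureModule Y

/-- sections over the whole space as morphisms out of the structure sheaf -/
noncomputable def hat (M : Y.Modules) : (DCoh.gammaAb Y).obj M ≃+ (𝒪 Y ⟶ M) :=
  Groth.Agent.Helper17.MT.hatEquiv Y.sheaf (X₀ := (⊤ : Y.Opens)) isTerminalTop
    (M : ModSite.Mod Y.sheaf)

lemma hat_comp {M N : Y.Modules} (p : M ⟶ N) (x : (DCoh.gammaAb Y).obj M) :
    hat Y M x ≫ p = hat Y N ((DCoh.gammaAb Y).map p x) :=
  Groth.Agent.Helper17.MT.hat_comp Y.sheaf (X₀ := (⊤ : Y.Opens)) isTerminalTop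
    (M := (M : ModSite.Mod Y.sheaf)) (M' := (N : ModSite.Mod Y.sheaf)) x p

lemma isFlat_𝒪 : FlatMod.IsFlat (𝒪 Y) :=
  Groth.Agent.Helper5.KRes.isFlat_of_iso
    (coproductUniqueIso (fun _ : Fin 1 => Coh.structureModule Y))
    (Groth.Agent.Helper5.LDer.isFlat_freeMod 1)

lemma isKFlat_sgn (n : ℤ) :
    DCoh.IsKFlat ((CochainComplex.singleFunctor Y.Modules n).obj (𝒪 Y)) :=
  Groth.Agent.Helper5.LFD.isKFlat_single _ (isFlat_𝒪 Y) n

end Groth.Agent.Helper29.GamC
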