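import Mathlib
import Groth.Agent.Lib.Helper29.LRAdj
import Groth.Agent.Lib.Helper11.KI1

/-!
# Morphisms from a K-flat complex to the direct image of a K-injective complex
-/

set_option autoImplicit false
universe u
open CategoryTheory CategoryTheory.Limits AlgebraicGeometry

attribute [local instance] HasDerivedCategory.standard

namespace Groth.Agent.Helper29.GamD

open Groth.Agent.Helper29.LRAdj

variable {X Y : Scheme.{u}} (f : X ⟶ Y) [DCoh.HasLpull f] [DCoh.HasRpush f]

/-- the quotient functor to the homotopy category -/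
noncomputable abbrev quo (Z : Scheme.{u}) :
    CochainComplex Z.Modules ℤ ⥤ HomotopyCategory Z.Modules (ComplexShape.up ℤ) :=
  HomotopyCategory.quotient Z.Modules (ComplexShape.up ℤ)

lemma adj_unit_fac (S : HomotopyCategory Y.Modules (ComplexShape.up ℤ)) :
    (adj f).unit.app (DerivedCategory.Qh.obj S) ≫ (DCoh.Rpush f).map ((α f).app S) =
      DerivedCategory.Qh.map ((adjK f).unit.app S) ≫ (β f).app ((pullK f).obj S) :=
  (adjK f).derivedη_fac_app (HomotopyCategory.quasiIso Y.Modules (ComplexShape.up ℤ)) (α f) (β f) S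

/-- the key compatibility between the two adjunctions -/
lemma key (S : HomotopyCategory Y.Modules (ComplexShape.up ℤ))
    (B : HomotopyCategory X.Modules (ComplexShape.up ℤ)) (ψ : (pullK f).obj S ⟶ B) :
    DerivedCategory.Qh.map ((adjK f).homEquiv S B ψ) ≫ (β f).app B =
      (adj f).homEquiv _ _ ((α f).app S ≫ DerivedCategory.Qh.map ψ) := by
  rw [Adjunction.homEquiv_unit, Adjunction.homEquiv_unit, Functor.map_comp, Functor.map_comp,
    ← Category.assoc ((adj f).unit.app _), adj_unit_fac, Category.assoc, Category.assoc]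
  congr 1
  exact ((β f).naturality ψ)

theorem Qh_map_bijective (S : CochainComplex Y.Modules ℤ) (hS : DCoh.IsKFlat S)
    (B : CochainComplex X.Modules ℤ) [B.IsKInjective] :
    Function.Bijective (fun φ : (quo Y).obj S ⟶ (pushK f).obj ((quo X).obj B) =>
      DerivedCategory.Qh.map φ) := by
  haveI hα : IsIso ((α f).app ((quo Y).obj S)) := Groth.Agent.Helper5.LDer.isIso_LpullCounit f S hS
  haveI hβ : IsIso ((β f).app ((quo X).obj B)) :=
    Groth.Agent.Helper11.KI.isIso_unit.{u+1} _ (DCoh.Rpush f) (β f) B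
  have h1 : Function.Bijective (fun ψ : (pullK f).obj ((quo Y).obj S) ⟶ (quo X).obj B =>
      DerivedCategory.Qh.map ψ) :=
    CochainComplex.IsKInjective.Qh_map_bijective _ B
  have h2 : Function.Bijective (fun s : DerivedCategory.Qh.obj ((pullK f).obj ((quo Y).obj S)) ⟶
      DerivedCategory.Qh.obj ((quo X).obj B) => (α f).app ((quo Y).obj S) ≫ s) :=
    ⟨fun a b h => (cancel_epi _).1 h, fun t => ⟨inv ((α f).app ((quo Y).obj S)) ≫ t, by simp⟩⟩
  have h3 : Function.Bijective (fun t : DerivedCategory.Qh.obj ((quo Y).obj S) ⟶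
      (DCoh.Rpush f).obj (DerivedCategory.Qh.obj ((quo X).obj B)) =>
      t ≫ inv ((β f).app ((quo X).obj B))) :=
    ⟨fun a b h => (cancel_mono _).1 h, fun t => ⟨t ≫ (β f).app ((quo X).obj B), by simp⟩⟩
  have hcomp := h3.comp (((adj f).homEquiv _ _).bijective.comp (h2.comp (h1.comp
    ((adjK f).homEquiv ((quo Y).obj S) ((quo X).obj B)).symm.bijective)))
  have heq : (fun φ : (quo Y).obj S ⟶ (pushK f).obj ((quo X).obj B) =>
      DerivedCategory.Qh.map φ) =
      (fun t : DerivedCategory.Qh.obj ((quo Y).obj S) ⟶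
        (DCoh.Rpush f).obj (DerivedCategory.Qh.obj ((quo X).obj B)) =>
        t ≫ inv ((β f).app ((quo X).obj B))) ∘
      ⇑((adj f).homEquiv _ _) ∘
      (fun s : DerivedCategory.Qh.obj ((pullK f).obj ((quo Y).obj S)) ⟶
        DerivedCategory.Qh.obj ((quo X).obj B) => (α f).app ((quo Y).obj S) ≫ s) ∘
      (fun ψ : (pullK f).obj ((quo Y).obj S) ⟶ (quo X).obj B => DerivedCategory.Qh.map ψ) ∘
      ⇑((adjK f).homEquiv ((quo Y).obj S) ((quo X).obj B)).symm := by
    funext φ
    simp only [Function.comp_apply]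
    rw [← key, Equiv.apply_symm_apply, Category.assoc, IsIso.hom_inv_id, Category.comp_id]
  rw [heq]
  exact hcomp

end Groth.Agent.Helper29.GamD
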