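import Mathlib

/-!
# Two abstract tools: a vanishing step for Mayer–Vietoris type triangles, and an induction
principle over quasi-compact opens relative to a basis of affine opens stable under basic opens.
-/

set_option autoImplicit false
universe u
open CategoryTheory CategoryTheory.Limits AlgebraicGeometry Pretriangulated TopologicalSpace

namespace Groth.Agent.Helper29.PerfVanA

section Tri

variable {C : Type*} [Category C] [Preadditive C] [HasZeroObject C] [HasShift C ℤ]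
  [∀ n : ℤ, (shiftFunctor C n).Additive] [Pretriangulated C]

/-- vanishing step: in a distinguished triangle `R₁ ⟶ A ⊞ B ⟶ D ⟶ R₁⟦1⟧`, if all maps from `Y` to
`A`, to `B` and all maps from `Y⟦1⟧` to `D` vanish, then all maps from `Y` to `R₁` vanish. -/
theorem hom_eq_zero_of_triangle {Y R₁ A B D : C} [HasBinaryBiproduct A B]
    (a : R₁ ⟶ A ⊞ B) (b : A ⊞ B ⟶ D) (c : D ⟶ R₁⟦(1 : ℤ)⟧)
    (hT : Triangle.mk a b c ∈ distTriang C)
    (hA : ∀ g : Y ⟶ A, g = 0) (hB : ∀ g : Y ⟶ B, g = 0) (hD : ∀ g : Y⟦(1 : ℤ)⟧ ⟶ D, g = 0)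
    (g : Y ⟶ R₁) : g = 0 := by
  have h1 : g ≫ a = 0 := by
    apply biprod.hom_ext
    · rw [hA ((g ≫ a) ≫ biprod.fst), zero_comp]
    · rw [hB ((g ≫ a) ≫ biprod.snd), zero_comp]
  obtain ⟨h, hh⟩ := Triangle.coyoneda_exact₁ _ hT (g⟦(1 : ℤ)⟧') (by
    change g⟦(1 : ℤ)⟧' ≫ a⟦(1 : ℤ)⟧' = 0
    rw [← Functor.map_comp, h1, Functor.map_zero])
  have hh' : g⟦(1 : ℤ)⟧' = 0 := by
    refine hh.trans ?_
    have h0 : h = 0 := hD h
    rw [h0]
    exact zero_comp
  exact (shiftFunctor C (1 : ℤ)).map_injective (hh'.trans (Functor.map_zero _ _ _).symm)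

end Tri

section IP

variable {X : Scheme.{u}}

theorem compact_open_induction_basis {B : Set X.Opens} (hB : Opens.IsBasis B)
    (hBc : ∀ V ∈ B, IsCompact (V : Set X)) {P : X.Opens → Prop} (h₀ : P ⊥)
    (hstep : ∀ (S V : X.Opens), IsCompact (S : Set X) → V ∈ B → P S → P (S ⊔ V))
    (S : X.Opens) (hS : IsCompact (S : Set X)) : P S := by
  obtain ⟨Us, hUs, hfin, rfl⟩ := hB.exists_finite_of_isCompact hS
  suffices H : ∀ (Us : Set X.Opens) (hf : Us.Finite), Us ⊆ B →
      IsCompact ((sSup Us : X.Opens) : Set X) ∧ P (sSup Us) from (H Us hfin hUs).2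
  intro Us hf
  refine Set.Finite.induction_on (motive := fun Us _ => Us ⊆ B →
      IsCompact ((sSup Us : X.Opens) : Set X) ∧ P (sSup Us)) Us hf ?_ ?_
  · intro _
    rw [sSup_empty]
    exact ⟨by simp, h₀⟩
  · intro V Us' _ _ ih hsub
    rw [Set.insert_subset_iff] at hsub
    obtain ⟨hc, hp⟩ := ih hsub.2
    rw [sSup_insert, sup_comm]
    refine ⟨?_, hstep _ _ hc hsub.1 hp⟩
    rw [Opens.coe_sup]
    exact hc.union (hBc V hsub.1)

variable (𝓑 : Set X.Opens) (haff : ∀ U ∈ 𝓑, IsAffineOpen U)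
  (hbasic : ∀ U ∈ 𝓑, ∀ f : Γ(X, U), X.basicOpen f ∈ 𝓑)
  (P : X.Opens → Prop) (h0 : P ⊥) (h1 : ∀ U ∈ 𝓑, P U)
  (h2 : ∀ U V : X.Opens, IsCompact (U : Set X) → IsCompact (V : Set X) → P U → P V →
    P (U ⊓ V) → P (U ⊔ V))

/-- the union of the basic opens of a finite set of functions -/
noncomputable def bUnion {U : X.Opens} (s : Finset Γ(X, U)) : X.Opens := ⨆ f ∈ s, X.basicOpen f

lemma bUnion_insert [DecidableEq (X.Opens)] {U : X.Opens} [DecidableEq Γ(X, U)] (f : Γ(X, U))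
    (s : Finset Γ(X, U)) : bUnion (insert f s) = X.basicOpen f ⊔ bUnion s := by
  unfold bUnion
  rw [Finset.iSup_insert]

include haff in
lemma isCompact_bUnion {U : X.Opens} (hU : U ∈ 𝓑) (s : Finset Γ(X, U)) :
    IsCompact ((bUnion s : X.Opens) : Set X) := by
  unfold bUnion
  have : (((⨆ f ∈ s, X.basicOpen f : X.Opens)) : Set X) = ⋃ f ∈ s, (X.basicOpen f : Set X) := by
    simp
  rw [this]
  exact s.isCompact_biUnion (fun f _ => ((haff U hU).basicOpen f).isCompact)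

lemma basicOpen_inf_bUnion {U : X.Opens} [DecidableEq Γ(X, U)] (f : Γ(X, U))
    (s : Finset Γ(X, U)) :
    X.basicOpen f ⊓ bUnion s = bUnion (s.image (fun g => f * g)) := by
  unfold bUnion
  rw [inf_iSup₂_eq, Finset.iSup_finset_image]
  congr 1
  funext g
  congr 1
  funext _
  exact (Scheme.basicOpen_mul X f g).symm

include haff hbasic h0 h1 h2 in
theorem stepA {U : X.Opens} (hU : U ∈ 𝓑) : ∀ (n : ℕ) (s : Finset Γ(X, U)), s.card ≤ n →
    P (bUnion s) := by
  classical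
  intro n
  induction n with
  | zero =>
    intro s hs
    have : s = ∅ := Finset.card_eq_zero.mp (Nat.le_zero.mp hs)
    subst this
    unfold bUnion
    simpa using h0
  | succ n ih =>
    intro s hs
    rcases s.eq_empty_or_nonempty with rfl | ⟨f, hf⟩
    · unfold bUnion
      simpa using h0
    · obtain ⟨s', hfs', rfl⟩ : ∃ s', f ∉ s' ∧ s = insert f s' :=
        ⟨s.erase f, Finset.notMem_erase f s, (Finset.insert_erase hf).symm⟩
      rw [Finset.card_insert_of_notMem hfs'] at hs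
      rw [bUnion_insert]
      refine h2 _ _ ((haff U hU).basicOpen f).isCompact (isCompact_bUnion 𝓑 haff hU s')
        (h1 _ (hbasic U hU f)) (ih s' (by omega)) ?_
      rw [basicOpen_inf_bUnion]
      exact ih _ (Finset.card_image_le.trans (by omega))

include haff hbasic h0 h1 h2 in
theorem stepB [QuasiSeparatedSpace X] (S U : X.Opens) (hS : IsCompact (S : Set X)) (hU : U ∈ 𝓑)
    (hPS : P S) : P (S ⊔ U) := by
  classical
  have hUa := haff U hU
  have hSU : IsCompact ((S ⊓ U : X.Opens) : Set X) :=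
    QuasiSeparatedSpace.inter_isCompact (α := X) _ _ S.isOpen hS U.isOpen hUa.isCompact
  have hx : ∀ x : (S ⊓ U : X.Opens), ∃ f : Γ(X, U),
      X.basicOpen f ≤ S ⊓ U ∧ x.1 ∈ X.basicOpen f :=
    fun x => hUa.exists_basicOpen_le ⟨x.1, x.2⟩ x.2.2
  choose fx hfx1 hfx2 using hx
  obtain ⟨t, ht⟩ := hSU.elim_finite_subcover
    (fun x : (S ⊓ U : X.Opens) => (X.basicOpen (fx x) : Set X))
    (fun x => (X.basicOpen (fx x)).isOpen)
    (fun x hx => Set.mem_iUnion.2 ⟨⟨x, hx⟩, hfx2 ⟨x, hx⟩⟩)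
  have hV : bUnion (t.image fx) = S ⊓ U := by
    unfold bUnion
    rw [Finset.iSup_finset_image]
    apply le_antisymm
    · exact iSup₂_le fun x _ => hfx1 x
    · intro x hx
      obtain ⟨y, hy⟩ := Set.mem_iUnion.1 (ht hx)
      obtain ⟨hyt, hy'⟩ := Set.mem_iUnion.1 hy
      exact Opens.mem_iSup.2 ⟨y, Opens.mem_iSup.2 ⟨hyt, hy'⟩⟩
  have h3 : P (S ⊓ U) := by
    rw [← hV]
    exact stepA 𝓑 haff hbasic P h0 h1 h2 hU _ _ le_rfl
  exact h2 S U hS hUa.isCompact hPS (h1 U hU) h3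

include haff hbasic h0 h1 h2 in
/-- the induction principle -/
theorem induction [QuasiSeparatedSpace X] (hcov : ∀ x : X, ∃ U ∈ 𝓑, x ∈ U)
    (W : X.Opens) (hW : IsCompact (W : Set X)) : P W := by
  have hB : Opens.IsBasis 𝓑 := by
    rw [Opens.isBasis_iff_nbhd]
    intro O x hxO
    obtain ⟨U, hU, hxU⟩ := hcov x
    obtain ⟨f, hf1, hf2⟩ := (haff U hU).exists_basicOpen_le (V := O) ⟨x, hxO⟩ hxU
    exact ⟨X.basicOpen f, hbasic U hU f, hf2, hf1⟩
  exact compact_open_induction_basis hB (fun V hV => (haff V hV).isCompact) h0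
    (fun S V hS hV hPS => stepB 𝓑 haff hbasic P h0 h1 h2 S V hS hV hPS) W hW

end IP

end Groth.Agent.Helper29.PerfVanA
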