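import Mathlib
import Groth.Prelude.Def_DCoh3
import Groth.Prelude.Def_CxOX
import Groth.Agent.Lib.Helper29.PerfVanA
import Groth.Agent.Lib.Helper29.OpenMVC
import Groth.Agent.Lib.Helper9.OpenAdj5
import Groth.Agent.Lib.Helper24.AffHom1

/-!
# Vanishing of maps out of an object `K` into `Rj_*` of restrictions: Mayer–Vietoris step
-/

set_option autoImplicit false
universe u
open CategoryTheory CategoryTheory.Limits AlgebraicGeometry Pretriangulated TopologicalSpace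

attribute [local instance] HasDerivedCategory.standard

namespace Groth.Agent.Helper29.PerfVanB

open Groth.Agent.Helper29.PerfVanA

instance hasRpush {Y X : Scheme.{u}} (j : Y ⟶ X) : DCoh.HasRpush j :=
  Groth.Agent.Helper11.KI.hasRightDerivedFunctor (DCoh.pushKh j)

/-- `restrictD` of a composite -/
noncomputable def restrictDComp {Z Y X : Scheme.{u}} (f : Z ⟶ Y) (g : Y ⟶ X) [IsOpenImmersion f]
    [IsOpenImmersion g] : DCoh.restrictD (f ≫ g) ≅ DCoh.restrictD g ⋙ DCoh.restrictD f :=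
  Groth.Agent.Helper24.AffHom.mapDComp (Scheme.Modules.restrictFunctor g)
    (Scheme.Modules.restrictFunctor f) (Scheme.Modules.restrictFunctor (f ≫ g))
    (Scheme.Modules.restrictFunctorComp f g).symm

/-- the derived category of an empty scheme is trivial -/
theorem isZero_of_isEmpty (Y : Scheme.{u}) [IsEmpty Y] (M : DCoh.D Y) : IsZero M := by
  apply Groth.Agent.Helper9.SuppD.isZero_of_homology
  intro n
  apply Groth.Agent.Helper9.SuppD.isZero_of_subsingleton_sections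
  intro V
  exact Groth.Agent.Helper9.SuppD.subsingleton_sections_of_stalks _ V
    (fun x _ => (IsEmpty.false x).elim)

instance additive_Rpush {Y X : Scheme.{u}} (j : Y ⟶ X) [IsOpenImmersion j] :
    (DCoh.Rpush j).Additive := by
  obtain ⟨adj⟩ := Groth.Agent.Helper9.OpenAdj5.nonempty_adjD j
  exact adj.right_adjoint_additive

variable {X : Scheme.{u}}

/-- the vanishing property for the open `W`, with bound `a` -/
def Van (K : DCoh.D X) (a : ℤ) (W : X.Opens) : Prop :=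
  ∀ (m : ℤ) (L : DCoh.D X), DCoh.IsQCohD L → L.IsLE (a - m) →
    ∀ (Y : Scheme.{u}) (j : Y ⟶ X) [IsOpenImmersion j], j.opensRange = W →
    ∀ (M : DCoh.D Y), Nonempty (M ≅ (DCoh.restrictD j).obj L) →
    ∀ g : K⟦m⟧ ⟶ (DCoh.Rpush j).obj M, g = 0

lemma Van.mono {K : DCoh.D X} {a a' : ℤ} {W : X.Opens} (h : Van K a W) (haa : a' ≤ a) :
    Van K a' W := by
  intro m L hL hLE Y j _ hj M hM g
  haveI := hLE
  exact h m L hL (DerivedCategory.TStructure.t.isLE_of_le L (a' - m) (a - m) (by omega)) Y j hj M hM g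

theorem van_bot (K : DCoh.D X) (a : ℤ) : Van K a ⊥ := by
  intro m L _ _ Y j _ hj M _ g
  haveI : IsEmpty Y := by
    refine ⟨fun y => ?_⟩
    have : j.base y ∈ (j.opensRange : Set X) := ⟨y, rfl⟩
    rw [hj] at this
    exact this
  exact ((DCoh.Rpush j).map_isZero (isZero_of_isEmpty Y M)).eq_of_tgt _ _

theorem van_sup (K : DCoh.D X) {a₁ a₂ a₃ : ℤ} {U V : X.Opens} (hU : Van K a₁ U) (hV : Van K a₂ V)
    (hUV : Van K a₃ (U ⊓ V)) : Van K (min (min a₁ a₂) (a₃ - 1)) (U ⊔ V) := by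
  intro m L hL hLE Y j _ hj M ⟨eM⟩ g
  haveI := hLE
  have hL1 : L.IsLE (a₁ - m) :=
    DerivedCategory.TStructure.t.isLE_of_le L (min (min a₁ a₂) (a₃ - 1) - m) _ (by omega)
  have hL2 : L.IsLE (a₂ - m) :=
    DerivedCategory.TStructure.t.isLE_of_le L (min (min a₁ a₂) (a₃ - 1) - m) _ (by omega)
  have hL3 : L.IsLE (a₃ - (m + 1)) :=
    DerivedCategory.TStructure.t.isLE_of_le L (min (min a₁ a₂) (a₃ - 1) - m) _ (by omega)
  let U' : Y.Opens := j ⁻¹ᵁ U
  let V' : Y.Opens := j ⁻¹ᵁ V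
  have hUV' : U' ⊔ V' = ⊤ := by
    change j ⁻¹ᵁ U ⊔ j ⁻¹ᵁ V = ⊤
    rw [← Scheme.Hom.preimage_sup, ← hj, Scheme.Hom.preimage_opensRange]
  have hr : ∀ O : X.Opens, O ≤ U ⊔ V → ((j ⁻¹ᵁ O).ι ≫ j).opensRange = O := by
    intro O hO
    rw [Scheme.Hom.opensRange_comp, Scheme.Opens.opensRange_ι,
      Scheme.Hom.image_preimage_eq_opensRange_inf, hj]
    exact inf_eq_right.mpr hO
  have hiso : ∀ O' : Y.Opens, Nonempty ((DCoh.restrictD O'.ι).obj M ≅
      (DCoh.restrictD (O'.ι ≫ j)).obj L) := fun O' =>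
    ⟨(DCoh.restrictD O'.ι).mapIso eM ≪≫ ((restrictDComp O'.ι j).app L).symm⟩
  obtain ⟨a, b, c, hT⟩ := Groth.Agent.Helper29.OpenMVC.main6511 j U' V' hUV' M
  refine hom_eq_zero_of_triangle a b c hT ?_ ?_ ?_ g
  · intro g'
    exact hU m L hL hL1 _ (U'.ι ≫ j) (hr U le_sup_left) _ (hiso U') g'
  · intro g'
    exact hV m L hL hL2 _ (V'.ι ≫ j) (hr V le_sup_right) _ (hiso V') g'
  · intro g'
    have hr3 : ((U' ⊓ V').ι ≫ j).opensRange = U ⊓ V := by
      have : U' ⊓ V' = j ⁻¹ᵁ (U ⊓ V) := rfl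
      rw [this]
      exact hr (U ⊓ V) (inf_le_left.trans le_sup_left)
    have h0 := hUV (m + 1) L hL hL3 _ ((U' ⊓ V').ι ≫ j) hr3 _ (hiso (U' ⊓ V'))
      ((shiftFunctorAdd' (DCoh.D X) m 1 (m + 1) rfl).hom.app K ≫ g')
    exact (cancel_epi ((shiftFunctorAdd' (DCoh.D X) m 1 (m + 1) rfl).hom.app K)).1
      (h0.trans comp_zero.symm)

/-- from the vanishing property for `⊤` to the vanishing of maps `K ⟶ L` -/
theorem van_top (K : DCoh.D X) (a : ℤ) (h : Van K a ⊤) (L : DCoh.D X) (hL : DCoh.IsQCohD L)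
    (hLE : L.IsLE a) (φ : K ⟶ L) : φ = 0 := by
  obtain ⟨adj⟩ := Groth.Agent.Helper9.OpenAdj5.nonempty_adjD (⊤ : X.Opens).ι
  haveI : IsIso (adj.unit.app L) :=
    Groth.Agent.Helper9.OpenAdj.isIso_unit_app_of_isZero_restrictD (⊤ : X.Opens).ι adj L ⊥
      (by simp) (Groth.Agent.Helper9.SuppD.isZero_restrictD_of_stalks L ⊥ (fun _ _ hx => hx.elim))
  haveI : L.IsLE (a - 0) := by simpa using hLE
  have h0 := h 0 L hL inferInstance _ (⊤ : X.Opens).ι (Scheme.Opens.opensRange_ι _)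
    ((DCoh.restrictD (⊤ : X.Opens).ι).obj L) ⟨Iso.refl _⟩
    ((shiftFunctorZero (DCoh.D X) ℤ).hom.app K ≫ φ ≫ adj.unit.app L)
  have h1 : φ ≫ adj.unit.app L = 0 :=
    (cancel_epi ((shiftFunctorZero (DCoh.D X) ℤ).hom.app K)).1 (h0.trans comp_zero.symm)
  exact (cancel_mono (adj.unit.app L)).1 (h1.trans zero_comp.symm)

/-- reduction of the vanishing property to maps in `D(Y)` -/
theorem van_of_restrict (K : DCoh.D X) (a : ℤ) (W : X.Opens)
    (h : ∀ (m : ℤ) (L : DCoh.D X), DCoh.IsQCohD L → L.IsLE (a - m) →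
      ∀ (Y : Scheme.{u}) (j : Y ⟶ X) [IsOpenImmersion j], j.opensRange = W →
      ∀ (M : DCoh.D Y), Nonempty (M ≅ (DCoh.restrictD j).obj L) →
      ∀ g : (DCoh.restrictD j).obj (K⟦m⟧) ⟶ M, g = 0) : Van K a W := by
  intro m L hL hLE Y j _ hj M hM g
  obtain ⟨adj⟩ := Groth.Agent.Helper9.OpenAdj5.nonempty_adjD j
  have h0 := h m L hL hLE Y j hj M hM ((adj.homEquiv _ _).symm g)
  have h1 : g = adj.homEquiv _ _ ((adj.homEquiv _ _).symm g) := (Equiv.apply_symm_apply _ _).symm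
  rw [h1, h0, Adjunction.homEquiv_unit, Functor.map_zero, comp_zero]

end Groth.Agent.Helper29.PerfVanB
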