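import Mathlib
import Groth.Agent.Lib.Helper29.GamA
import Groth.Agent.Lib.Helper29.GamB
import Groth.Agent.Lib.Helper29.GamC
import Groth.Agent.Lib.Helper29.GamD
import Groth.Agent.Lib.Helper29.OpenRes
import Groth.Agent.Lib.Helper29.PerfVanB

/-!
# The direct image of a K-injective complex is acyclic for global sections
-/

set_option autoImplicit false
universe u
open CategoryTheory CategoryTheory.Limits AlgebraicGeometry Opposite

attribute [local instance] HasDerivedCategory.standard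

namespace Groth.Agent.Helper29.GamE

open Groth.Agent.Helper29.GamA Groth.Agent.Helper29.GamC Groth.Agent.Helper29.GamD
  Groth.Agent.Helper29.LRAdj Groth.Agent.Helper11.KI

variable {X Y : Scheme.{u}} (f : X ⟶ Y)

/-- termwise direct image of complexes -/
noncomputable abbrev pushCx : CochainComplex X.Modules ℤ ⥤ CochainComplex Y.Modules ℤ :=
  (Scheme.Modules.pushforward f).mapHomologicalComplex (ComplexShape.up ℤ)

/-- termwise global sections of complexes -/
noncomputable abbrev gammaCx (Y : Scheme.{u}) :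
    CochainComplex Y.Modules ℤ ⥤ CochainComplex AddCommGrpCat.{u} ℤ :=
  (DCoh.gammaAb Y).mapHomologicalComplex (ComplexShape.up ℤ)

section Elements

lemma hat_d_eq_zero (T : CochainComplex Y.Modules ℤ) (n : ℤ) (x : (DCoh.gammaAb Y).obj (T.X n))
    (hx : (DCoh.gammaAb Y).map (T.d n (n + 1)) x = 0) : hat Y _ x ≫ T.d n (n + 1) = 0 := by
  rw [hat_comp, hx, map_zero]

lemma eq_of_hat_eq (M : Y.Modules) (x y : (DCoh.gammaAb Y).obj M) (h : hat Y M x = hat Y M y) :
    x = y := (hat Y M).injective h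

end Elements

theorem quasiIso_gamma [DCoh.HasLpull f] [DCoh.HasRpush f]
    (B : CochainComplex X.Modules ℤ) [B.IsKInjective]
    (J : CochainComplex Y.Modules ℤ) [J.IsKInjective]
    (c : (pushCx f).obj B ⟶ J) [QuasiIso c] :
    QuasiIso ((gammaCx Y).map c) := by
  rw [quasiIso_iff]
  intro n
  let C := (pushCx f).obj B
  let S : CochainComplex Y.Modules ℤ := sgn n (𝒪 Y)
  have hS : DCoh.IsKFlat S := isKFlat_sgn Y n
  have hbC := GamD.Qh_map_bijective f S hS B
  have hbJ : Function.Bijective (fun φ : (GamD.quo Y).obj S ⟶ (GamD.quo Y).obj J =>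
      DerivedCategory.Qh.map φ) := CochainComplex.IsKInjective.Qh_map_bijective _ J
  haveI hc : IsIso (DerivedCategory.Qh.map ((GamD.quo Y).map c)) :=
    Localization.inverts _ (WK Y.Modules) _
      ((HomotopyCategory.quotient_map_mem_quasiIso_iff c).2
        ((HomologicalComplex.mem_quasiIso_iff c).2 inferInstance))
  refine GamB.quasiIsoAt_of_elements ((gammaCx Y).map c) (n - 1) n (n + 1) (by simp) (by simp)
    ?_ ?_
  · -- injectivity
    intro x hx ⟨y, hy⟩
    have hx' : (DCoh.gammaAb Y).map (C.d n (n + 1)) x = 0 := hx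
    have hy' : (DCoh.gammaAb Y).map (J.d (n - 1) n) y = (DCoh.gammaAb Y).map (c.f n) x := hy
    let z₀ := hat Y _ x
    have hz₀ : z₀ ≫ C.d n (n + 1) = 0 := hat_d_eq_zero C n x hx'
    let g' : S ⟶ C := ζn n z₀ hz₀
    have h1 : Nonempty (Homotopy (g' ≫ c) 0) := by
      rw [ζn_comp, homotopy_zero_iff n (n - 1) (by omega)]
      refine ⟨hat Y _ y, ?_⟩
      rw [hat_comp, hat_comp, hy']
    have h2 : (GamD.quo Y).map g' ≫ (GamD.quo Y).map c = 0 := by
      rw [← Functor.map_comp]
      exact (HomotopyCategory.quotient_map_eq_zero_iff _).2 h1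
    have h3 : DerivedCategory.Qh.map ((GamD.quo Y).map g') = 0 := by
      have := congrArg (fun t => DerivedCategory.Qh.map t) h2
      simp only [Functor.map_comp, Functor.map_zero] at this
      exact (cancel_mono (DerivedCategory.Qh.map ((GamD.quo Y).map c))).1
        (this.trans zero_comp.symm)
    have h4 : (GamD.quo Y).map g' = 0 := by
      apply hbC.1
      change DerivedCategory.Qh.map ((GamD.quo Y).map g') = DerivedCategory.Qh.map 0
      rw [h3, Functor.map_zero]
    obtain ⟨y₁, hy₁⟩ := (homotopy_zero_iff n (n - 1) (by omega) z₀ hz₀).1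
      ((HomotopyCategory.quotient_map_eq_zero_iff _).1 h4)
    refine ⟨(hat Y _).symm y₁, ?_⟩
    apply eq_of_hat_eq
    change hat Y _ ((DCoh.gammaAb Y).map (C.d (n - 1) n) ((hat Y _).symm y₁)) = z₀
    rw [← hat_comp, AddEquiv.apply_symm_apply, hy₁]
  · -- surjectivity
    intro (y : (DCoh.gammaAb Y).obj (J.X n)) hy
    have hy' : (DCoh.gammaAb Y).map (J.d n (n + 1)) y = 0 := hy
    let w₀ := hat Y _ y
    have hw₀ : w₀ ≫ J.d n (n + 1) = 0 := hat_d_eq_zero J n y hy'
    let g : S ⟶ J := ζn n w₀ hw₀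
    let t : DerivedCategory.Qh.obj ((GamD.quo Y).obj S) ⟶
        DerivedCategory.Qh.obj ((GamD.quo Y).obj C) :=
      DerivedCategory.Qh.map ((GamD.quo Y).map g) ≫
        inv (DerivedCategory.Qh.map ((GamD.quo Y).map c))
    obtain ⟨γ, hγ⟩ := hbC.2 t
    obtain ⟨g', hg'⟩ := (GamD.quo Y).map_surjective (X := S) (Y := C) γ
    obtain ⟨z₀, hz₀, rfl⟩ := eq_ζn n g'
    have h1 : (GamD.quo Y).map (ζn n z₀ hz₀ ≫ c) = (GamD.quo Y).map g := by
      apply hbJ.1
      change DerivedCategory.Qh.map ((GamD.quo Y).map (ζn n z₀ hz₀ ≫ c)) =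
        DerivedCategory.Qh.map ((GamD.quo Y).map g)
      rw [Functor.map_comp, Functor.map_comp]
      have hγ' : DerivedCategory.Qh.map ((GamD.quo Y).map (ζn n z₀ hz₀)) =
        DerivedCategory.Qh.map ((GamD.quo Y).map g) ≫
          inv (DerivedCategory.Qh.map ((GamD.quo Y).map c)) := by
        rw [hg']
        exact hγ
      rw [hγ', Category.assoc, IsIso.inv_hom_id, Category.comp_id]
    have h2 : Nonempty (Homotopy (ζn n z₀ hz₀ ≫ c) g) :=
      ⟨HomotopyCategory.homotopyOfEq _ _ h1⟩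
    rw [ζn_comp, homotopy_iff n (n - 1) (by omega)] at h2
    obtain ⟨y₁, hy₁⟩ := h2
    refine ⟨(hat Y _).symm z₀, ?_, -(hat Y _).symm y₁, ?_⟩
    · apply eq_of_hat_eq
      change hat Y _ ((DCoh.gammaAb Y).map (C.d n (n + 1)) ((hat Y _).symm z₀)) = hat Y _ 0
      rw [← hat_comp, AddEquiv.apply_symm_apply, hz₀, map_zero]
    · apply eq_of_hat_eq
      change hat Y _ ((DCoh.gammaAb Y).map (J.d (n - 1) n) (-(hat Y _).symm y₁)) =
        hat Y _ (y - (DCoh.gammaAb Y).map (c.f n) ((hat Y _).symm z₀))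
      rw [map_neg, map_neg, map_sub, ← hat_comp, ← hat_comp, AddEquiv.apply_symm_apply,
        AddEquiv.apply_symm_apply, hy₁]
      change _ = w₀ - _
      abel

/-- the unit of `RΓ` is an isomorphism on direct images of K-injective complexes -/
theorem isIso_unit_push [DCoh.HasRΓ Y] (B : CochainComplex X.Modules ℤ) [B.IsKInjective] :
    IsIso ((OpenMVC.βΓ Y).app ((quo Y.Modules).obj ((pushCx f).obj B))) := by
  haveI : DCoh.HasLpull f := Groth.Agent.Helper5.LDer.hasLpull f
  obtain ⟨J, hJ, i, hi⟩ := exists_res ((quo Y.Modules).obj ((pushCx f).obj B))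
  haveI := hJ
  obtain ⟨c, rfl⟩ := (quo Y.Modules).map_surjective i
  haveI : QuasiIso c := (HomotopyCategory.quotient_map_mem_quasiIso_iff c).1 hi
  have hq := quasiIso_gamma f B J c
  have nat := (OpenMVC.βΓ Y).naturality ((quo Y.Modules).map c)
  haveI h1 : IsIso ((DCoh.gammaKh Y).map ((quo Y.Modules).map c)) := by
    change IsIso (DerivedCategory.Qh.map ((quo AddCommGrpCat.{u}).map ((gammaCx Y).map c)))
    exact Localization.inverts _ (WK AddCommGrpCat.{u}) _
      ((HomotopyCategory.quotient_map_mem_quasiIso_iff _).2 hq)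
  haveI h2 : IsIso ((OpenMVC.βΓ Y).app ((quo Y.Modules).obj J)) :=
    isIso_unit.{u+1} _ (DCoh.RΓ Y) (OpenMVC.βΓ Y) J
  haveI h3 : IsIso ((DerivedCategory.Qh ⋙ DCoh.RΓ Y).map ((quo Y.Modules).map c)) := by
    haveI : IsIso (DerivedCategory.Qh.map ((quo Y.Modules).map c)) :=
      Localization.inverts _ (WK Y.Modules) _ hi
    change IsIso ((DCoh.RΓ Y).map (DerivedCategory.Qh.map ((quo Y.Modules).map c)))
    infer_instance
  have heq : (OpenMVC.βΓ Y).app ((quo Y.Modules).obj ((pushCx f).obj B)) =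
      ((DCoh.gammaKh Y).map ((quo Y.Modules).map c) ≫ (OpenMVC.βΓ Y).app ((quo Y.Modules).obj J)) ≫
        inv ((DerivedCategory.Qh ⋙ DCoh.RΓ Y).map ((quo Y.Modules).map c)) := by
    rw [nat, Category.assoc, IsIso.hom_inv_id, Category.comp_id]
  rw [heq]
  infer_instance

theorem main11124 (B : CochainComplex X.Modules ℤ)
    [B.IsKInjective] (U : Y.Opens) [DCoh.HasRΓ (U : Scheme.{u})] :
    IsIso (((DCoh.gammaKh (U : Scheme.{u})).totalRightDerivedUnit DerivedCategory.Qh
      (HomotopyCategory.quasiIso (U : Scheme.{u}).Modules (ComplexShape.up ℤ))).app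
      ((HomotopyCategory.quotient (U : Scheme.{u}).Modules (ComplexShape.up ℤ)).obj
        ((DCoh.restrictCx U).obj (((Scheme.Modules.pushforward f).mapHomologicalComplex
          (ComplexShape.up ℤ)).obj B)))) := by
  haveI := OpenMVC.isKInjective_restrict (f ⁻¹ᵁ U) B
  have h := isIso_unit_push (f ∣_ U)
    (((OpenMVA.R (f ⁻¹ᵁ U)).mapHomologicalComplex (ComplexShape.up ℤ)).obj B)
  let e : (DCoh.restrictCx U).obj ((pushCx f).obj B) ≅ (pushCx (f ∣_ U)).obj
      (((OpenMVA.R (f ⁻¹ᵁ U)).mapHomologicalComplex (ComplexShape.up ℤ)).obj B) :=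
    (NatIso.mapHomologicalComplex (OpenRes.γ f U) (ComplexShape.up ℤ)).app B
  exact (NatTrans.isIso_app_iff_of_iso (OpenMVC.βΓ (U : Scheme.{u}))
    ((quo (U : Scheme.{u}).Modules).mapIso e)).2 h

end Groth.Agent.Helper29.GamE
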