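import Mathlib
import Groth.Agent.Lib.Helper29.GamE

/-!
# `RΓ(Y, Rf_* E) ≅ RΓ(X, E)`
-/

set_option autoImplicit false
universe u
open CategoryTheory CategoryTheory.Limits AlgebraicGeometry Opposite

attribute [local instance] HasDerivedCategory.standard

namespace Groth.Agent.Helper29.GamF

open Groth.Agent.Helper29.GamE Groth.Agent.Helper29.LRAdj Groth.Agent.Helper11.KI
  Groth.Agent.Helper29.OpenMVC

variable {X Y : Scheme.{u}} (f : X ⟶ Y)

/-- `Γ(Y, f_* M) = Γ(X, M)` -/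
noncomputable def gammaPush : Scheme.Modules.pushforward f ⋙ DCoh.gammaAb Y ≅ DCoh.gammaAb X :=
  NatIso.ofComponents (fun M => Iso.refl _) (fun {M N} g => by
    refine (Category.comp_id ((Scheme.Modules.pushforward f ⋙ DCoh.gammaAb Y).map g)).trans ?_
    exact (Category.id_comp ((DCoh.gammaAb X).map g)).symm)

/-- the two underived functors on `K(O_X)` -/
noncomputable def φ : DCoh.gammaKh X ≅ pushK f ⋙ DCoh.gammaKh Y :=
  Functor.isoWhiskerRight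
    (Functor.mapHomotopyCategoryCompIso (gammaPush f) (ComplexShape.up ℤ)).symm
    DerivedCategory.Qh ≪≫ Functor.associator _ _ _

section

variable [DCoh.HasRpush f] [DCoh.HasRΓ X] [DCoh.HasRΓ Y]

/-- the unit for `E ↦ RΓ(Y, Rf_* E)` -/
noncomputable def α₂ : pushK f ⋙ DCoh.gammaKh Y ⟶
    DerivedCategory.Qh ⋙ (DCoh.Rpush f ⋙ DCoh.RΓ Y) :=
  Functor.whiskerLeft (pushK f) (βΓ Y) ≫ (Functor.associator _ _ _).inv ≫
    Functor.whiskerRight (β f) (DCoh.RΓ Y) ≫ (Functor.associator _ _ _).hom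

instance : (DCoh.Rpush f ⋙ DCoh.RΓ Y).IsRightDerivedFunctor (α₂ f) (WK X.Modules) := by
  apply isRightDerivedFunctor_of_isIso.{u+1}
  intro I _
  haveI h1 : IsIso ((βΓ Y).app ((pushK f).obj ((quo X.Modules).obj I))) := isIso_unit_push f I
  haveI h2 : IsIso ((β f).app ((quo X.Modules).obj I)) :=
    isIso_unit.{u+1} _ (DCoh.Rpush f) (β f) I
  simp only [α₂, NatTrans.comp_app, Functor.whiskerLeft_app, Functor.associator_inv_app,
    Functor.whiskerRight_app, Functor.associator_hom_app, Category.id_comp, Category.comp_id]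
  infer_instance

theorem part1 : Nonempty (DCoh.Rpush f ⋙ DCoh.RΓ Y ≅ DCoh.RΓ X) :=
  ⟨(Functor.rightDerivedNatIso _ _ (βΓ X) (α₂ f) (WK X.Modules) (φ f)).symm⟩

end

theorem main6509 (V : Y.Opens)
    [DCoh.HasRpush f] [DCoh.HasRΓ X] [DCoh.HasRΓ Y]
    [DCoh.HasRΓ (V : Scheme.{u})] [DCoh.HasRΓ (f ⁻¹ᵁ V : Scheme.{u})]
    [PreservesFiniteLimits (Scheme.Modules.restrictFunctor V.ι)]
    [PreservesFiniteLimits (Scheme.Modules.restrictFunctor (f ⁻¹ᵁ V).ι)] :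
    Nonempty (DCoh.Rpush f ⋙ DCoh.RΓ Y ≅ DCoh.RΓ X) ∧
    Nonempty (DCoh.restrictD (f ⁻¹ᵁ V).ι ⋙ DCoh.RΓ (f ⁻¹ᵁ V : Scheme.{u}) ≅
      DCoh.Rpush f ⋙ DCoh.restrictD V.ι ⋙ DCoh.RΓ (V : Scheme.{u})) := by
  refine ⟨part1 f, ?_⟩
  obtain ⟨e1⟩ := OpenRes.main6508 f V
  obtain ⟨e2⟩ := part1 (f ∣_ V)
  exact ⟨(Functor.isoWhiskerLeft (DCoh.restrictD (f ⁻¹ᵁ V).ι) e2).symm ≪≫
    (Functor.associator _ _ _).symm ≪≫ (Functor.isoWhiskerRight e1 (DCoh.RΓ (V : Scheme.{u}))).symm ≪≫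
    Functor.associator _ _ _⟩

end Groth.Agent.Helper29.GamF
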