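import Mathlib
import Groth.Agent.Lib.Helper13.QCoh

/-!
# Gabber's closure construction: small quasi-coherent systems of submodules containing a section
-/

set_option autoImplicit false
universe u
open CategoryTheory CategoryTheory.Limits AlgebraicGeometry Opposite TopologicalSpace

namespace Groth.Agent.Helper29.GbrA

variable {X : Scheme.{u}}

/-- restriction of sections of a module -/
noncomputable abbrev rs (F : X.Modules) {U V : X.Opens} (h : V ≤ U) (t : Γ(F, U)) : Γ(F, V) :=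
  F.presheaf.map (homOfLE h).op t

/-- restriction of functions -/
noncomputable abbrev rr {U V : X.Opens} (h : V ≤ U) (a : Γ(X, U)) : Γ(X, V) :=
  X.presheaf.map (homOfLE h).op a

lemma rs_rs (F : X.Modules) {U V W : X.Opens} (h₁ : V ≤ U) (h₂ : W ≤ V) (t : Γ(F, U)) :
    rs F h₂ (rs F h₁ t) = rs F (h₂.trans h₁) t := by
  show (F.presheaf.map (homOfLE h₁).op ≫ F.presheaf.map (homOfLE h₂).op) t = _
  rw [← Functor.map_comp]
  rfl

lemma rs_self (F : X.Modules) {U : X.Opens} (h : U ≤ U) (t : Γ(F, U)) : rs F h t = t := by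
  have : (homOfLE h).op = 𝟙 (op U) := rfl
  show F.presheaf.map (homOfLE h).op t = t
  rw [this, F.presheaf.map_id]
  rfl

lemma rs_smul (F : X.Modules) {U V : X.Opens} (h : V ≤ U) (a : Γ(X, U)) (t : Γ(F, U)) :
    rs F h (a • t) = rr h a • rs F h t :=
  Scheme.Modules.map_smul F (homOfLE h) a t

lemma rs_add (F : X.Modules) {U V : X.Opens} (h : V ≤ U) (t t' : Γ(F, U)) :
    rs F h (t + t') = rs F h t + rs F h t' := map_add _ _ _

lemma rs_sub (F : X.Modules) {U V : X.Opens} (h : V ≤ U) (t t' : Γ(F, U)) :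
    rs F h (t - t') = rs F h t - rs F h t' := map_sub _ _ _

lemma rs_zero (F : X.Modules) {U V : X.Opens} (h : V ≤ U) : rs F h (0 : Γ(F, U)) = 0 := map_zero _

lemma rr_pow {U V : X.Opens} (h : V ≤ U) (a : Γ(X, U)) (n : ℕ) : rr h (a ^ n) = rr h a ^ n :=
  map_pow _ _ _

lemma app_rs {F G : X.Modules} (φ : F ⟶ G) {U V : X.Opens} (h : V ≤ U) (t : Γ(F, U)) :
    φ.app V (rs F h t) = rs G h (φ.app U t) := by
  have := φ.mapPresheaf.naturality (homOfLE h).op
  exact congrArg (fun ψ => ψ t) this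

variable (X) in
/-- the index type of the generating sections: it only depends on `X` -/
inductive Idx : Type u
  | base : Idx
  | down (U : X.affineOpens) (i : Idx) : Idx
  | up (U : X.affineOpens) (r : Γ(X, U.1)) (i : Idx) : Idx

/-- the affine open on which the section lives -/
def dom (U₀ : X.affineOpens) : Idx X → X.affineOpens
  | .base => U₀
  | .down U _ => U
  | .up U _ _ => U

variable (F : X.Modules) [F.IsQuasicoherent]

/-- exponent for the lift -/
noncomputable def liftPow (U : X.affineOpens) (r : Γ(X, U.1)) (s : Γ(F, X.basicOpen r)) : ℕ :=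
  (Groth.Agent.Helper13.QCoh.exists_pow_smul_eq_res F U.2 r s).choose

/-- a lift of `r ^ n • s` -/
noncomputable def liftSec (U : X.affineOpens) (r : Γ(X, U.1)) (s : Γ(F, X.basicOpen r)) :
    Γ(F, U.1) :=
  (Groth.Agent.Helper13.QCoh.exists_pow_smul_eq_res F U.2 r s).choose_spec.choose

lemma liftSec_spec (U : X.affineOpens) (r : Γ(X, U.1)) (s : Γ(F, X.basicOpen r)) :
    rs F (X.basicOpen_le r) (liftSec F U r s) =
      (rr (X.basicOpen_le r) r) ^ (liftPow F U r s) • s :=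
  (Groth.Agent.Helper13.QCoh.exists_pow_smul_eq_res F U.2 r s).choose_spec.choose_spec

open Classical in
/-- the generating sections -/
noncomputable def sec (U₀ : X.affineOpens) (s₀ : Γ(F, U₀.1)) :
    (i : Idx X) → Γ(F, (dom U₀ i).1)
  | .base => s₀
  | .down U i => if h : U.1 ≤ (dom U₀ i).1 then rs F h (sec U₀ s₀ i) else 0
  | .up U r i =>
    if h : (dom U₀ i).1 = X.basicOpen r then liftSec F U r (rs F h.ge (sec U₀ s₀ i)) else 0

lemma sec_down (U₀ : X.affineOpens) (s₀ : Γ(F, U₀.1)) (U : X.affineOpens) (i : Idx X)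
    (h : U.1 ≤ (dom U₀ i).1) :
    sec F U₀ s₀ (.down U i) = rs F h (sec F U₀ s₀ i) := by
  simp only [sec]
  rw [dif_pos h] <;> rfl

lemma sec_up (U₀ : X.affineOpens) (s₀ : Γ(F, U₀.1)) (U : X.affineOpens) (r : Γ(X, U.1))
    (i : Idx X) (h : (dom U₀ i).1 = X.basicOpen r) :
    sec F U₀ s₀ (.up U r i) = liftSec F U r (rs F h.ge (sec F U₀ s₀ i)) := by
  simp only [sec]
  rw [dif_pos h] <;> rfl

/-- the generating set over an open -/
def gen (U₀ : X.affineOpens) (s₀ : Γ(F, U₀.1)) (U : X.Opens) : Set Γ(F, U) :=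
  {t | ∃ (i : Idx X) (h : U ≤ (dom U₀ i).1), rs F h (sec F U₀ s₀ i) = t}

/-- the submodule generated -/
noncomputable def MU (U₀ : X.affineOpens) (s₀ : Γ(F, U₀.1)) (U : X.Opens) :
    Submodule Γ(X, U) Γ(F, U) :=
  Submodule.span _ (gen F U₀ s₀ U)

variable (U₀ : X.affineOpens) (s₀ : Γ(F, U₀.1))

lemma base_mem : s₀ ∈ MU F U₀ s₀ U₀.1 :=
  Submodule.subset_span ⟨.base, le_rfl, rs_self F _ _⟩

lemma sec_mem (i : Idx X) : sec F U₀ s₀ i ∈ MU F U₀ s₀ (dom U₀ i).1 :=
  Submodule.subset_span ⟨i, le_rfl, rs_self F _ _⟩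

lemma rs_mem {U V : X.Opens} (h : V ≤ U) {t : Γ(F, U)} (ht : t ∈ MU F U₀ s₀ U) :
    rs F h t ∈ MU F U₀ s₀ V := by
  induction ht using Submodule.span_induction with
  | mem x hx =>
    obtain ⟨i, h', rfl⟩ := hx
    exact Submodule.subset_span ⟨i, h.trans h', (rs_rs F h' h _).symm⟩
  | zero => rw [rs_zero]; exact Submodule.zero_mem _
  | add x y _ _ hx hy => rw [rs_add]; exact Submodule.add_mem _ hx hy
  | smul a x _ hx => rw [rs_smul]; exact Submodule.smul_mem _ _ hx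

lemma sec_up_down (U : X.affineOpens) (r : Γ(X, U.1)) (i : Idx X)
    (h : X.basicOpen r ≤ (dom U₀ i).1) :
    rs F (X.basicOpen_le r)
      (sec F U₀ s₀ (.up U r (.down ⟨X.basicOpen r, U.2.basicOpen r⟩ i))) =
      (rr (X.basicOpen_le r) r) ^ (liftPow F U r (rs F h (sec F U₀ s₀ i))) •
        rs F h (sec F U₀ s₀ i) := by
  have e1 : rs F (le_of_eq rfl : X.basicOpen r ≤
      (dom U₀ (.down ⟨X.basicOpen r, U.2.basicOpen r⟩ i)).1)
      (sec F U₀ s₀ (.down ⟨X.basicOpen r, U.2.basicOpen r⟩ i)) = rs F h (sec F U₀ s₀ i) :=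
    (rs_self F _ _).trans (sec_down F U₀ s₀ ⟨X.basicOpen r, U.2.basicOpen r⟩ i h)
  have e2 := sec_up F U₀ s₀ U r (.down ⟨X.basicOpen r, U.2.basicOpen r⟩ i) rfl
  rw [e2]
  have e3 := liftSec_spec F U r (rs F h (sec F U₀ s₀ i))
  rw [← e1] at e3 ⊢
  exact e3

/-- (d1) for the system -/
theorem exists_pow_smul_mem (U : X.affineOpens) (r : Γ(X, U.1)) {s : Γ(F, X.basicOpen r)}
    (hs : s ∈ MU F U₀ s₀ (X.basicOpen r)) :
    ∃ (n : ℕ) (t : Γ(F, U.1)), t ∈ MU F U₀ s₀ U.1 ∧
      rs F (X.basicOpen_le r) t = (rr (X.basicOpen_le r) r) ^ n • s := by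
  induction hs using Submodule.span_induction with
  | mem x hx =>
    obtain ⟨i, h, rfl⟩ := hx
    exact ⟨_, _, sec_mem F U₀ s₀ (.up U r (.down ⟨X.basicOpen r, U.2.basicOpen r⟩ i)),
      sec_up_down F U₀ s₀ U r i h⟩
  | zero => exact ⟨0, 0, Submodule.zero_mem _, by rw [rs_zero, smul_zero]⟩
  | add x y _ _ hx hy =>
    obtain ⟨n, t, ht, e⟩ := hx
    obtain ⟨m, t', ht', e'⟩ := hy
    refine ⟨n + m, r ^ m • t + r ^ n • t', Submodule.add_mem _ (Submodule.smul_mem _ _ ht)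
      (Submodule.smul_mem _ _ ht'), ?_⟩
    rw [rs_add, rs_smul, rs_smul, e, e', smul_add, rr_pow, rr_pow, smul_smul, smul_smul,
      ← pow_add, ← pow_add, add_comm m n]
  | smul a x _ hx =>
    obtain ⟨n, t, ht, e⟩ := hx
    haveI := U.2.isLocalization_basicOpen r
    obtain ⟨⟨b, ⟨_, m, rfl⟩⟩, hb⟩ := IsLocalization.surj (Submonoid.powers r) a
    have hb' : a * (rr (X.basicOpen_le r) r) ^ m = rr (X.basicOpen_le r) b := by
      simpa [RingHom.algebraMap_toAlgebra] using hb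
    refine ⟨m + n, b • t, Submodule.smul_mem _ _ ht, ?_⟩
    rw [rs_smul, e, ← hb', smul_smul, smul_smul, pow_add]
    congr 1
    ring

/-- locality of the system on an affine open -/
theorem mem_of_locally (U : X.affineOpens) (t : Γ(F, U.1))
    (h : ∀ y ∈ U.1, ∃ r : Γ(X, U.1), y ∈ X.basicOpen r ∧
      rs F (X.basicOpen_le r) t ∈ MU F U₀ s₀ (X.basicOpen r)) :
    t ∈ MU F U₀ s₀ U.1 := by
  let I : Ideal Γ(X, U.1) :=
    { carrier := {a | a • t ∈ MU F U₀ s₀ U.1}
      add_mem' := fun {a b} ha hb => by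
        show (a + b) • t ∈ MU F U₀ s₀ U.1
        rw [add_smul]
        exact Submodule.add_mem _ ha hb
      zero_mem' := by
        show (0 : Γ(X, U.1)) • t ∈ MU F U₀ s₀ U.1
        rw [zero_smul]
        exact Submodule.zero_mem _
      smul_mem' := fun c a ha => by
        show (c • a) • t ∈ MU F U₀ s₀ U.1
        rw [smul_assoc]
        exact Submodule.smul_mem _ _ ha }
  have hI : Ideal.span (I : Set Γ(X, U.1)) = ⊤ := by
    rw [← U.2.self_le_iSup_basicOpen_iff]
    intro y hy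
    obtain ⟨r, hyr, hr⟩ := h y hy
    obtain ⟨n, t', ht', e⟩ := exists_pow_smul_mem F U₀ s₀ U r hr
    have h0 : rs F (X.basicOpen_le r) (t' - r ^ n • t) = 0 := by
      rw [rs_sub, rs_smul, e, rr_pow, sub_self]
    obtain ⟨m, hm⟩ := Groth.Agent.Helper13.QCoh.exists_pow_smul_eq_zero F U.2 r _ h0
    have hmem : r ^ (m + n + 1) ∈ I := by
      show r ^ (m + n + 1) • t ∈ MU F U₀ s₀ U.1
      rw [smul_sub, sub_eq_zero, smul_smul, ← pow_add] at hm
      rw [pow_succ', mul_smul, ← hm]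
      exact Submodule.smul_mem _ _ (Submodule.smul_mem _ _ ht')
    have hy' : y ∈ X.basicOpen (r ^ (m + n + 1)) := by
      rw [X.basicOpen_pow r (Nat.succ_pos _)]
      exact hyr
    exact Opens.mem_iSup.2 ⟨⟨_, hmem⟩, hy'⟩
  rw [Ideal.span_eq, Ideal.eq_top_iff_one] at hI
  have h1 : (1 : Γ(X, U.1)) • t ∈ MU F U₀ s₀ U.1 := hI
  rwa [one_smul] at h1

end Groth.Agent.Helper29.GbrA
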