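import Mathlib
import Groth.Agent.Lib.Helper29.GbrA
import Groth.Agent.Lib.Helper13.SubSheaf2
import Groth.Agent.Lib.Helper6.QcohLocal

/-!
# Gabber's construction: the quasi-coherent subsheaf generated by a small system
-/

set_option autoImplicit false
universe u
open CategoryTheory CategoryTheory.Limits AlgebraicGeometry Opposite TopologicalSpace
open Groth.Agent.Helper29.GbrA Groth.Agent.Helper13.FinType

namespace Groth.Agent.Helper29.GbrB

variable {X : Scheme.{u}} (F : X.Modules) [F.IsQuasicoherent] (U₀ : X.affineOpens)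
  (s₀ : Γ(F, U₀.1))

/-- the submodule of sections which lie in the system on every affine open -/
noncomputable def GsubObj (V : X.Opens) : Submodule Γ(X, V) Γ(F, V) where
  carrier := {t | ∀ (U : X.affineOpens) (h : U.1 ≤ V), rs F h t ∈ MU F U₀ s₀ U.1}
  add_mem' := fun {a b} ha hb U h => by
    rw [rs_add]
    exact Submodule.add_mem _ (ha U h) (hb U h)
  zero_mem' := fun U h => by
    rw [rs_zero]
    exact Submodule.zero_mem _
  smul_mem' := fun c a ha U h => by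
    rw [rs_smul]
    exact Submodule.smul_mem _ _ (ha U h)

lemma mem_GsubObj {V : X.Opens} (t : Γ(F, V)) :
    t ∈ GsubObj F U₀ s₀ V ↔ ∀ (U : X.affineOpens) (h : U.1 ≤ V), rs F h t ∈ MU F U₀ s₀ U.1 :=
  Iff.rfl

lemma rs_mem_GsubObj {V W : X.Opens} (h : W ≤ V) {t : Γ(F, V)} (ht : t ∈ GsubObj F U₀ s₀ V) :
    rs F h t ∈ GsubObj F U₀ s₀ W := by
  intro U hU
  rw [rs_rs]
  exact ht U (hU.trans h)

lemma mem_GsubObj_affine (U : X.affineOpens) (t : Γ(F, U.1)) :
    t ∈ GsubObj F U₀ s₀ U.1 ↔ t ∈ MU F U₀ s₀ U.1 := by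
  constructor
  · intro h
    have := h U le_rfl
    rwa [rs_self] at this
  · intro h U' hU'
    exact rs_mem F U₀ s₀ hU' h

/-- the local family of submodules -/
noncomputable def Gsub : PresheafOfModules.Submodule F.val where
  obj V := GsubObj F U₀ s₀ V.unop
  map := by
    intro V W f t ht
    exact rs_mem_GsubObj F U₀ s₀ (leOfHom f.unop) ht

lemma isLocalSub_Gsub : IsLocalSub F (Gsub F U₀ s₀) := by
  intro V t h U hU
  apply mem_of_locally F U₀ s₀ U
  intro y hy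
  obtain ⟨W, hW, hyW, hmem⟩ := h y (hU hy)
  obtain ⟨r, hr, hyr⟩ := U.2.exists_basicOpen_le (V := W) ⟨y, hyW⟩ hy
  refine ⟨r, hyr, ?_⟩
  have h1 := hmem ⟨X.basicOpen r, U.2.basicOpen r⟩ hr
  have h2 : rs F hr (F.presheaf.map (homOfLE hW).op t) = rs F (X.basicOpen_le r) (rs F hU t) := by
    show rs F hr (rs F hW t) = _
    rw [rs_rs, rs_rs]
  rw [← h2]
  exact h1

/-- the quasi-coherent subsheaf -/
noncomputable def Fsub : X.Modules := subsheaf F (Gsub F U₀ s₀) (isLocalSub_Gsub F U₀ s₀)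

/-- the inclusion -/
noncomputable def ι : Fsub F U₀ s₀ ⟶ F := subsheafι F (Gsub F U₀ s₀) (isLocalSub_Gsub F U₀ s₀)

lemma ι_injective (V : X.Opens) : Function.Injective ((ι F U₀ s₀).app V) :=
  subsheafι_app_injective F _ _ V

instance : Mono (ι F U₀ s₀) :=
  (Groth.Agent.Helper13.QCoh.mono_iff_app_injective _).2 (ι_injective F U₀ s₀)

lemma ι_mem (U : X.affineOpens) (s : Γ(Fsub F U₀ s₀, U.1)) :
    (ι F U₀ s₀).app U.1 s ∈ MU F U₀ s₀ U.1 :=
  (mem_GsubObj_affine F U₀ s₀ U _).1 (subsheafι_app_mem F _ _ U.1 s)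

lemma exists_of_mem_MU (U : X.affineOpens) (t : Γ(F, U.1)) (ht : t ∈ MU F U₀ s₀ U.1) :
    ∃ s : Γ(Fsub F U₀ s₀, U.1), (ι F U₀ s₀).app U.1 s = t :=
  exists_of_mem F _ _ U.1 t ((mem_GsubObj_affine F U₀ s₀ U t).2 ht)

lemma rr_self {U : X.Opens} (h : U ≤ U) (a : Γ(X, U)) : rr h a = a := by
  have : (homOfLE h).op = 𝟙 (op U) := rfl
  show X.presheaf.map (homOfLE h).op a = a
  rw [this, X.presheaf.map_id]
  rfl

instance isQuasicoherent_Fsub : (Fsub F U₀ s₀).IsQuasicoherent := by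
  refine Groth.Agent.Helper6.QcohLocal.isQuasicoherent_of_affineOpens (Fsub F U₀ s₀)
    (fun i : X.affineOpens => i.1) (fun i => i.2) ?_ ?_ ?_
  · intro x
    obtain ⟨_, ⟨U, hU, rfl⟩, hxU, -⟩ :=
      X.isBasis_affineOpens.exists_subset_of_mem_open (show x ∈ ((⊤ : X.Opens) : Set X) from trivial)
        (⊤ : X.Opens).2
    exact ⟨⟨U, hU⟩, hxU⟩
  · intro i r W U' hU' hW hWr s
    subst hU' hWr
    have h1 := ι_mem F U₀ s₀ ⟨X.basicOpen r, i.2.basicOpen r⟩ s
    obtain ⟨n, t₀, ht₀, e⟩ := exists_pow_smul_mem F U₀ s₀ i r h1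
    obtain ⟨t, ht⟩ := exists_of_mem_MU F U₀ s₀ i t₀ ht₀
    refine ⟨n, t, ?_⟩
    apply ι_injective F U₀ s₀
    rw [Scheme.Modules.Hom.app_smul]
    have h3 := app_rs (ι F U₀ s₀) hW t
    refine Eq.trans ?_ h3.symm
    rw [ht, e]
  · intro i r W U' hU' hW hWr t ht
    subst hU' hWr
    have h0 : rs F (X.basicOpen_le r) ((ι F U₀ s₀).app i.1 t) = 0 := by
      rw [← app_rs (ι F U₀ s₀) (X.basicOpen_le r) t]
      have : rs (Fsub F U₀ s₀) (X.basicOpen_le r) t = 0 := ht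
      rw [this, map_zero]
    obtain ⟨n, hn⟩ := Groth.Agent.Helper13.QCoh.exists_pow_smul_eq_zero F i.2 r _ h0
    refine ⟨n, ?_⟩
    apply ι_injective F U₀ s₀
    rw [Scheme.Modules.Hom.app_smul, map_zero]
    have h5 : X.presheaf.map (homOfLE (Eq.le (rfl : i.1 = i.1))).op r = r := rr_self _ r
    rw [h5]
    exact hn

end Groth.Agent.Helper29.GbrB
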