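import Mathlib
import Groth.Agent.Lib.Helper29.GbrB

/-!
# The modules representing sections over an open, and generation of the Gabber subsheaf
-/

set_option autoImplicit false
universe u
open CategoryTheory CategoryTheory.Limits AlgebraicGeometry Opposite TopologicalSpace
open Groth.Agent.Helper29.GbrA Groth.Agent.Helper29.GbrB

namespace Groth.Agent.Helper29.GbrC

variable {X : Scheme.{u}}

/-- the `𝒪_X`-module representing sections over `U` (namely `j_! 𝒪_U`) -/
noncomputable def freeSh (U : X.Opens) : X.Modules :=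
  (PresheafOfModules.sheafification (𝟙 X.ringCatSheaf.obj)).obj
    ((PresheafOfModules.free X.ringCatSheaf.obj).obj (yoneda.obj U))

/-- morphisms out of `freeSh U` are sections over `U` -/
noncomputable def secEquiv (U : X.Opens) (N : X.Modules) : (freeSh U ⟶ N) ≃ Γ(N, U) :=
  ((PresheafOfModules.sheafificationAdjunction (𝟙 X.ringCatSheaf.obj)).homEquiv
    ((PresheafOfModules.free X.ringCatSheaf.obj).obj (yoneda.obj U)) N).trans
    PresheafOfModules.freeYonedaEquiv

lemma secEquiv_comp (U : X.Opens) {N N' : X.Modules} (φ : freeSh U ⟶ N) (g : N ⟶ N') :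
    secEquiv U N' (φ ≫ g) = g.app U (secEquiv U N φ) := by
  have h1 := (PresheafOfModules.sheafificationAdjunction
    (𝟙 X.ringCatSheaf.obj)).homEquiv_naturality_right φ g
  exact (congrArg PresheafOfModules.freeYonedaEquiv h1).trans rfl

lemma secEquiv_zero (U : X.Opens) (N : X.Modules) : secEquiv U N 0 = 0 := by
  have h := secEquiv_comp U (0 : freeSh U ⟶ N) (0 : N ⟶ N)
  rw [comp_zero] at h
  rw [h]
  rfl

/-- a morphism vanishing on all sections over affine opens is zero -/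
theorem hom_eq_zero_of_affine {M N : X.Modules} (g : M ⟶ N)
    (h : ∀ (U : X.affineOpens) (t : Γ(M, U.1)), g.app U.1 t = 0) : g = 0 := by
  apply Scheme.Modules.hom_ext
  intro V
  ext t
  show g.app V t = 0
  have hc : ∀ y : V, ∃ U : X.affineOpens, y.1 ∈ U.1 ∧ U.1 ≤ V := fun y => by
    obtain ⟨_, ⟨U, hU, rfl⟩, hyU, hUV⟩ :=
      X.isBasis_affineOpens.exists_subset_of_mem_open y.2 V.2
    exact ⟨⟨U, hU⟩, hyU, hUV⟩
  apply TopCat.Sheaf.eq_of_locally_eq' ⟨N.presheaf, N.isSheaf⟩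
    (fun y : V => (hc y).choose.1) V (fun y => homOfLE (hc y).choose_spec.2)
  · intro y hy
    exact Opens.mem_iSup.2 ⟨⟨y, hy⟩, (hc ⟨y, hy⟩).choose_spec.1⟩
  · intro y
    show rs N (hc y).choose_spec.2 (g.app V t) = rs N (hc y).choose_spec.2 0
    rw [rs_zero, ← app_rs]
    exact h _ _

theorem hom_ext_affine {M N : X.Modules} (f g : M ⟶ N)
    (h : ∀ (U : X.affineOpens) (t : Γ(M, U.1)), f.app U.1 t = g.app U.1 t) : f = g := by
  rw [← sub_eq_zero]
  apply hom_eq_zero_of_affine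
  intro U t
  rw [Scheme.Modules.Hom.sub_app]
  show f.app U.1 t - g.app U.1 t = 0
  rw [h, sub_self]

section Gen

variable (F : X.Modules) [F.IsQuasicoherent] (U₀ : X.affineOpens) (s₀ : Γ(F, U₀.1))

/-- the fixed object (depending only on `X` and `U₀`) of which all the Gabber subsheaves are
quotients -/
noncomputable abbrev Gfix (U₀ : X.affineOpens) : X.Modules :=
  ∐ fun i : Idx X => freeSh (dom U₀ i).1

/-- the generating sections, in the subsheaf -/
noncomputable def sec' (i : Idx X) : Γ(Fsub F U₀ s₀, (dom U₀ i).1) :=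
  (exists_of_mem_MU F U₀ s₀ (dom U₀ i) _ (sec_mem F U₀ s₀ i)).choose

lemma ι_sec' (i : Idx X) : (ι F U₀ s₀).app _ (sec' F U₀ s₀ i) = sec F U₀ s₀ i :=
  (exists_of_mem_MU F U₀ s₀ (dom U₀ i) _ (sec_mem F U₀ s₀ i)).choose_spec

/-- the canonical map from the fixed object -/
noncomputable def π : Gfix U₀ ⟶ Fsub F U₀ s₀ :=
  Sigma.desc (fun i => (secEquiv _ _).symm (sec' F U₀ s₀ i))

lemma app_sec'_eq_zero {N : X.Modules} (g : Fsub F U₀ s₀ ⟶ N) (hg : π F U₀ s₀ ≫ g = 0)
    (i : Idx X) : g.app _ (sec' F U₀ s₀ i) = 0 := by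
  have h1 : (secEquiv (dom U₀ i).1 _).symm (sec' F U₀ s₀ i) ≫ g = 0 := by
    have h3 : Sigma.ι (fun i : Idx X => freeSh (dom U₀ i).1) i ≫ π F U₀ s₀ =
        (secEquiv (dom U₀ i).1 _).symm (sec' F U₀ s₀ i) := Sigma.ι_desc _ _
    rw [← h3, Category.assoc, hg, comp_zero]
  have h2 := secEquiv_comp _ ((secEquiv (dom U₀ i).1 _).symm (sec' F U₀ s₀ i)) g
  rw [h1, secEquiv_zero, Equiv.apply_symm_apply] at h2
  exact h2.symm

theorem epi_π : Epi (π F U₀ s₀) := by
  apply Preadditive.epi_of_cancel_zero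
  intro N g hg
  apply hom_eq_zero_of_affine
  intro U t
  -- the submodule of sections killed by `g`
  let T : Submodule Γ(X, U.1) Γ(F, U.1) :=
    { carrier := {x | ∃ t : Γ(Fsub F U₀ s₀, U.1), (ι F U₀ s₀).app U.1 t = x ∧ g.app U.1 t = 0}
      add_mem' := by
        rintro _ _ ⟨a, rfl, ha⟩ ⟨b, rfl, hb⟩
        exact ⟨a + b, map_add _ _ _, by rw [map_add, ha, hb, add_zero]⟩
      zero_mem' := ⟨0, map_zero _, map_zero _⟩
      smul_mem' := by
        rintro c _ ⟨a, rfl, ha⟩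
        exact ⟨c • a, Scheme.Modules.Hom.app_smul _ _ _, by
          rw [Scheme.Modules.Hom.app_smul, ha, smul_zero]⟩ }
  have hT : MU F U₀ s₀ U.1 ≤ T := by
    apply Submodule.span_le.2
    rintro _ ⟨i, h, rfl⟩
    refine ⟨rs (Fsub F U₀ s₀) h (sec' F U₀ s₀ i), ?_, ?_⟩
    · rw [app_rs, ι_sec']
    · rw [app_rs, app_sec'_eq_zero F U₀ s₀ g hg i, rs_zero]
  obtain ⟨t', ht', h0⟩ := hT (ι_mem F U₀ s₀ U t)
  rw [← ι_injective F U₀ s₀ U.1 ht']
  exact h0

end Gen

end Groth.Agent.Helper29.GbrC
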