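import Mathlib
import Groth.Prelude.Def_QCohCat
import Groth.Agent.Lib.Helper13.QCohKer
import Groth.Agent.Lib.Helper13.QCohExt
import Groth.Agent.Lib.Helper13.QCohLocal
import Groth.Agent.Lib.Helper18.QCohBiprod

/-!
# The category `QCoh(X)`: abelian, cocomplete, inclusion preserves colimits; well-poweredness from
a small separating family
-/

set_option autoImplicit false
universe u
open CategoryTheory CategoryTheory.Limits AlgebraicGeometry

namespace Groth.Agent.Helper29.GenB

variable (X : Scheme.{u})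

instance : (QCohCat.isQCoh X).IsClosedUnderIsomorphisms :=
  ⟨fun e h => (SheafOfModules.isQuasicoherent X.ringCatSheaf).prop_of_iso e h⟩

section Colim

variable {J : Type u} [SmallCategory J]

/-- (after helper24's `HoCo12`) -/
theorem essImage_tilde_colimit {R : CommRingCat.{u}} (E : J ⥤ (Spec R).Modules)
    (hE : ∀ j, IsIso (E.obj j).fromTildeΓ) (c : Cocone E) (hc : IsColimit c) :
    IsIso c.pt.fromTildeΓ := by
  rw [isIso_fromTildeΓ_iff]
  let N : J ⥤ ModuleCat.{u} R := E ⋙ moduleSpecΓFunctor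
  let α : N ⋙ tilde.functor R ⟶ E := Functor.whiskerLeft E (tilde.adjunction (R := R)).counit
  haveI : ∀ j, IsIso (α.app j) := fun j => by
    change IsIso (E.obj j).fromTildeΓ
    exact hE j
  haveI : IsIso α := NatIso.isIso_of_isIso_app α
  haveI : PreservesColimitsOfSize.{u, u} (tilde.functor R) :=
    (tilde.adjunction (R := R)).leftAdjoint_preservesColimits
  have h₁ : IsColimit ((tilde.functor R).mapCocone (colimit.cocone N)) :=
    isColimitOfPreserves _ (colimit.isColimit N)
  have h₂ : IsColimit ((Cocone.precompose α).obj c) :=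
    (IsColimit.precomposeHomEquiv (asIso α) c).symm hc
  exact ⟨colimit N, ⟨IsColimit.coconePointUniqueUpToIso h₁ h₂⟩⟩

variable {X} in
/-- small colimits of quasi-coherent modules are quasi-coherent -/
theorem isQuasicoherent_colimit (K : J ⥤ X.Modules)
    (hK : ∀ j, (K.obj j).IsQuasicoherent) (c : Cocone K) (hc : IsColimit c) :
    c.pt.IsQuasicoherent := by
  apply Groth.Agent.Helper13.QCohLocal.isQuasicoherent_of_restrict_fromSpec
  intro U
  haveI : IsOpenImmersion U.2.fromSpec := IsAffineOpen.isOpenImmersion_fromSpec U.2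
  let G := Scheme.Modules.restrictFunctor U.2.fromSpec
  haveI : G.IsLeftAdjoint := (Scheme.Modules.restrictAdjunction U.2.fromSpec).isLeftAdjoint
  have hE : ∀ j, ((K ⋙ G).obj j).IsQuasicoherent := fun j =>
    haveI := hK j
    inferInstanceAs (((K.obj j).restrict U.2.fromSpec).IsQuasicoherent)
  have h3 : IsIso (G.mapCocone c).pt.fromTildeΓ :=
    essImage_tilde_colimit (K ⋙ G) (fun j => (isQuasicoherent_iff_isIso_fromTildeΓ _).mp (hE j))
      (G.mapCocone c) (isColimitOfPreserves G hc)
  exact (isQuasicoherent_iff_isIso_fromTildeΓ _).mpr h3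

instance closedColim : (QCohCat.isQCoh X).IsClosedUnderColimitsOfShape J := by
  apply ObjectProperty.IsClosedUnderColimitsOfShape.mk'
  rintro _ ⟨F, hF⟩
  exact isQuasicoherent_colimit F hF _ (colimit.isColimit F)

end Colim

instance : HasColimitsOfSize.{u, u} (QCohCat.QCoh X) := ⟨fun J _ => inferInstance⟩

instance : PreservesColimitsOfSize.{u, u} (QCohCat.isQCoh X).ι := ⟨fun {J} _ => inferInstance⟩

instance : (QCohCat.isQCoh X).ContainsZero := by
  obtain ⟨Z, hZ⟩ : ∃ Z : X.Modules, IsZero Z := ⟨_, (HasZeroObject.zero (C := X.Modules)).choose_spec⟩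
  refine ⟨⟨Z, hZ, ?_⟩⟩
  -- the zero object is the colimit of the empty diagram
  let c : Cocone (Functor.empty.{u} X.Modules) := ⟨Z, ⟨fun j => j.as.elim, fun j => j.as.elim⟩⟩
  have hc : IsColimit c := ⟨fun s => 0, fun s j => j.as.elim, fun s m _ => hZ.eq_of_src _ _⟩
  exact isQuasicoherent_colimit (X := X) (Functor.empty.{u} X.Modules) (fun j => j.as.elim) c hc

variable {X} in
lemma isQCoh_kernel {M N : X.Modules} (f : M ⟶ N) (k : KernelFork f) (hk : IsLimit k)
    (hM : QCohCat.isQCoh X M) (hN : QCohCat.isQCoh X N) : QCohCat.isQCoh X k.pt := by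
  haveI : M.IsQuasicoherent := hM
  haveI : N.IsQuasicoherent := hN
  exact (QCohCat.isQCoh X).prop_of_iso (IsLimit.conePointUniqueUpToIso (kernelIsKernel f) hk)
    (Groth.Agent.Helper13.QCohLocal.isQuasicoherent_kernel f)

variable {X} in
lemma isQCoh_cokernel {M N : X.Modules} (f : M ⟶ N) (k : CokernelCofork f) (hk : IsColimit k)
    (hM : QCohCat.isQCoh X M) (hN : QCohCat.isQCoh X N) : QCohCat.isQCoh X k.pt := by
  haveI : M.IsQuasicoherent := hM
  haveI : N.IsQuasicoherent := hN
  exact (QCohCat.isQCoh X).prop_of_iso (IsColimit.coconePointUniqueUpToIso (cokernelIsCokernel f) hk)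
    (Groth.Agent.Helper13.QCohLocal.isQuasicoherent_cokernel f)

instance : (QCohCat.isQCoh X).IsClosedUnderKernels := ⟨by
  rintro _ ⟨f, k, hk, hf⟩
  exact isQCoh_kernel f k hk hf.1 hf.2⟩

instance : (QCohCat.isQCoh X).IsClosedUnderCokernels := ⟨by
  rintro _ ⟨f, k, hk, hf⟩
  exact isQCoh_cokernel f k hk hf.1 hf.2⟩

instance : (QCohCat.isQCoh X).IsClosedUnderBinaryProducts := by
  apply ObjectProperty.IsClosedUnderLimitsOfShape.mk'
  rintro _ ⟨F, hF⟩
  haveI : (F.obj ⟨WalkingPair.left⟩).IsQuasicoherent := hF _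
  haveI : (F.obj ⟨WalkingPair.right⟩).IsQuasicoherent := hF _
  have h1 : (F.obj ⟨WalkingPair.left⟩ ⊞ F.obj ⟨WalkingPair.right⟩).IsQuasicoherent :=
    Groth.Agent.Helper18.QCohBiprod.isQuasicoherent_biprod _ _
  have e : (F.obj ⟨WalkingPair.left⟩ ⊞ F.obj ⟨WalkingPair.right⟩) ≅ limit F :=
    (biprod.isoProd _ _) ≪≫ (HasLimit.isoOfNatIso (diagramIsoPair F)).symm
  exact (QCohCat.isQCoh X).prop_of_iso e h1

instance : (QCohCat.isQCoh X).IsClosedUnderFiniteProducts :=
  ObjectProperty.IsClosedUnderFiniteProducts.mk'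

noncomputable instance : Abelian (QCohCat.QCoh X) := inferInstance

/-- a small separating family makes `QCoh(X)` well-powered and well-copowered -/
theorem wellPowered_of_isSeparating {P : ObjectProperty (QCohCat.QCoh X)}
    [ObjectProperty.Small.{u} P] (hP : P.IsSeparating) : WellPowered.{u} (QCohCat.QCoh X) :=
  wellPowered_of_isDetecting hP.isDetecting

theorem wellPowered_op_of_isSeparating {P : ObjectProperty (QCohCat.QCoh X)}
    [ObjectProperty.Small.{u} P] (hP : P.IsSeparating) : WellPowered.{u} (QCohCat.QCoh X)ᵒᵖ := by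
  haveI := wellPowered_of_isSeparating X hP
  infer_instance

/-- SAFT for `QCoh(X)` -/
theorem isLeftAdjoint_of_isSeparating {P : ObjectProperty (QCohCat.QCoh X)}
    [ObjectProperty.Small.{u} P] (hP : P.IsSeparating) {D : Type*} [Category.{u} D]
    (F : QCohCat.QCoh X ⥤ D) [PreservesColimitsOfSize.{u, u} F] : F.IsLeftAdjoint := by
  haveI := wellPowered_op_of_isSeparating X hP
  exact isLeftAdjoint_of_preservesColimits_of_isSeparating hP F

end Groth.Agent.Helper29.GenB
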