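import Mathlib
import Groth.Agent.Lib.Helper29.GbrC
import Groth.Agent.Lib.Helper29.GenB
import Groth.Agent.Lib.Helper29.ShModGA

/-!
# Gabber's theorem: `QCoh(X)` has a small separating family, for any scheme `X`.
Consequences: the coherator exists (S7417), `QCoh(X)` has enough injectives (S7445).
-/

set_option autoImplicit false
universe u
open CategoryTheory CategoryTheory.Limits AlgebraicGeometry Opposite TopologicalSpace
open Groth.Agent.Helper29.GbrA Groth.Agent.Helper29.GbrB Groth.Agent.Helper29.GbrC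

namespace Groth.Agent.Helper29.GbrD

theorem iso_cokernel_of_epi {C : Type*} [Category C] [Abelian C] {G P : C} (π : G ⟶ P) [Epi π] :
    Nonempty (cokernel (Subobject.mk (kernel.ι π)).arrow ≅ P) := by
  have h1 : (Subobject.mk (kernel.ι π)).arrow =
      (Subobject.underlyingIso (kernel.ι π)).hom ≫ kernel.ι π :=
    (Subobject.underlyingIso_hom_comp_eq_mk (kernel.ι π)).symm
  have hcok : IsColimit (CokernelCofork.ofπ π (kernel.condition π)) :=
    Abelian.epiIsCokernelOfKernel (KernelFork.ofι (kernel.ι π) (kernel.condition π))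
      (kernelIsKernel π)
  let e1 : cokernel (kernel.ι π) ≅ P :=
    IsColimit.coconePointUniqueUpToIso (cokernelIsCokernel (kernel.ι π)) hcok
  exact ⟨(cokernelIsoOfEq h1) ≪≫ cokernelEpiComp _ _ ≪≫ e1⟩

variable (X : Scheme.{u})

instance : IsGrothendieckAbelian.{u} X.Modules := Groth.Agent.Helper29.ShModGA.main0484 _ _

/-- the index type: quotients of the fixed objects -/
abbrev Idx2 : Type (u + 1) := Σ U₀ : X.affineOpens, Subobject (Gfix U₀)

instance : Small.{u} (Idx2 X) := by
  unfold Idx2
  infer_instance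

/-- the quotient object -/
noncomputable def quo (t : Idx2 X) : X.Modules := cokernel t.2.arrow

/-- the small family of quasi-coherent modules -/
noncomputable def fam : {t : Idx2 X // QCohCat.isQCoh X (quo X t)} → QCohCat.QCoh X :=
  fun t => ⟨quo X t.1, t.2⟩

instance : ObjectProperty.Small.{u} (ObjectProperty.ofObj (fam X)) := inferInstance

/-- **Gabber**: `QCoh(X)` has a small separating family. -/
theorem isSeparating_fam : (ObjectProperty.ofObj (fam X)).IsSeparating := by
  intro M N f g h
  apply ObjectProperty.hom_ext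
  apply hom_ext_affine
  intro U₀ s₀
  haveI : M.obj.IsQuasicoherent := M.property
  haveI := epi_π M.obj U₀ s₀
  obtain ⟨e⟩ := iso_cokernel_of_epi (π M.obj U₀ s₀)
  have hq : QCohCat.isQCoh X (quo X ⟨U₀, Subobject.mk (kernel.ι (π M.obj U₀ s₀))⟩) :=
    (QCohCat.isQCoh X).prop_of_iso e.symm (isQuasicoherent_Fsub M.obj U₀ s₀)
  have h2 := h (fam X ⟨⟨U₀, Subobject.mk (kernel.ι (π M.obj U₀ s₀))⟩, hq⟩)
    (ObjectProperty.ofObj_apply _ _)
    (ObjectProperty.homMk (e.hom ≫ ι M.obj U₀ s₀))
  have h3 := congrArg (fun z => z.hom) h2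
  simp only [ObjectProperty.FullSubcategory.comp_hom] at h3
  have h4 : ι M.obj U₀ s₀ ≫ f.hom = ι M.obj U₀ s₀ ≫ g.hom := by
    rw [← cancel_epi e.hom]
    simpa using h3
  obtain ⟨s', hs'⟩ := exists_of_mem_MU M.obj U₀ s₀ U₀ s₀ (base_mem M.obj U₀ s₀)
  rw [← hs']
  have h5 := congrArg (fun z => z.app U₀.1 s') h4
  exact h5

/-- **S7417**: the coherator exists. -/
theorem isLeftAdjoint_ι : ((QCohCat.isQCoh X).ι).IsLeftAdjoint :=
  Groth.Agent.Helper29.GenB.isLeftAdjoint_of_isSeparating X (isSeparating_fam X) _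

/-- **S7445** -/
theorem enoughInjectives : EnoughInjectives (QCohCat.QCoh X) := by
  haveI := isLeftAdjoint_ι X
  haveI : ((QCohCat.isQCoh X).ι).PreservesMonomorphisms :=
    (QCohCat.isQCoh X).preservesMonomorphisms_ι_of_isNormalEpiCategory
  exact EnoughInjectives.of_adjunction (Adjunction.ofIsLeftAdjoint (QCohCat.isQCoh X).ι)

end Groth.Agent.Helper29.GbrD
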