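import Mathlib

/-!
# Finitely presentable objects are quotients of finite copowers of a separator
-/

set_option autoImplicit false
universe u v
open CategoryTheory CategoryTheory.Limits

namespace Groth.Agent.Helper29.GenA

variable {C : Type v} [Category.{u} C] [Abelian C] [HasColimitsOfSize.{u, u} C]

section

variable (G P : C)

/-- the map from the finite sub-coproduct -/
noncomputable def piS (S : Finset (G ⟶ P)) : (∐ fun _ : S => G) ⟶ P :=
  Sigma.desc (fun f : S => f.1)

lemma piS_le {S T : Finset (G ⟶ P)} (h : S ≤ T) :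
    piS G P S ≫ cokernel.π (piS G P T) = 0 := by
  apply Sigma.hom_ext
  intro f
  have h1 : Sigma.ι (fun _ : S => G) f ≫ piS G P S = f.1 := by
    simp [piS]
  have h2 : Sigma.ι (fun _ : T => G) ⟨f.1, h f.2⟩ ≫ piS G P T = f.1 := by
    simp [piS]
  rw [← Category.assoc, h1, comp_zero, ← h2, Category.assoc, cokernel.condition, comp_zero]

/-- the functor of cokernels -/
noncomputable def Q : Finset (G ⟶ P) ⥤ C where
  obj S := cokernel (piS G P S)
  map {S T} h := cokernel.desc (piS G P S) (cokernel.π (piS G P T)) (piS_le G P (leOfHom h))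
  map_id S := by
    apply coequalizer.hom_ext
    simp
  map_comp f g := by
    apply coequalizer.hom_ext
    simp

/-- the projection to the cokernel, typed into `Q` -/
noncomputable def qS (S : Finset (G ⟶ P)) : P ⟶ (Q G P).obj S := cokernel.π (piS G P S)

lemma qS_map {S T : Finset (G ⟶ P)} (h : S ⟶ T) :
    qS G P S ≫ (Q G P).map h = qS G P T := by
  simp [Q, qS]

lemma comp_qS (S : Finset (G ⟶ P)) (f : G ⟶ P) (hf : f ∈ S) : f ≫ qS G P S = 0 := by
  have h2 : Sigma.ι (fun _ : S => G) ⟨f, hf⟩ ≫ piS G P S = f := by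
    simp [piS]
  calc f ≫ qS G P S = (Sigma.ι (fun _ : S => G) ⟨f, hf⟩ ≫ piS G P S) ≫ qS G P S := by rw [h2]
    _ = 0 := by
      rw [Category.assoc]
      show _ ≫ piS G P S ≫ cokernel.π (piS G P S) = 0
      rw [cokernel.condition, comp_zero]

theorem exists_epi_of_isFinitelyPresentable (hG : IsSeparator G) [IsFinitelyPresentable.{u} P] :
    ∃ S : Finset (G ⟶ P), Epi (piS G P S) := by
  classical
  have hc : IsColimit (colimit.cocone (Q G P)) := colimit.isColimit _
  -- the canonical map to the colimit is zero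
  have hepi : Epi (Sigma.desc fun f : G ⟶ P => f) := (isSeparator_iff_epi G).1 hG P
  have h0 : qS G P ∅ ≫ colimit.ι (Q G P) ∅ = 0 := by
    rw [← cancel_epi (Sigma.desc fun f : G ⟶ P => f)]
    apply Sigma.hom_ext
    intro f
    rw [comp_zero, comp_zero, ← Category.assoc, ← Category.assoc, Sigma.ι_desc]
    have hle : (∅ : Finset (G ⟶ P)) ≤ {f} := Finset.empty_subset _
    have h1 : qS G P ∅ ≫ colimit.ι (Q G P) ∅ = qS G P {f} ≫ colimit.ι (Q G P) {f} := by
      rw [← colimit.w (Q G P) (homOfLE hle), ← Category.assoc, qS_map]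
    rw [Category.assoc, h1, ← Category.assoc, comp_qS G P {f} f (Finset.mem_singleton_self f),
      zero_comp]
  obtain ⟨T, a, b, hab⟩ := IsFinitelyPresentable.exists_eq_of_isColimit hc
    (qS G P ∅) (0 : P ⟶ (Q G P).obj ∅) (by
      show qS G P ∅ ≫ colimit.ι (Q G P) ∅ = 0 ≫ colimit.ι (Q G P) ∅
      rw [h0, zero_comp])
  refine ⟨T, ?_⟩
  rw [qS_map, zero_comp] at hab
  exact Abelian.epi_of_cokernel_π_eq_zero _ hab

end

end Groth.Agent.Helper29.GenA
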