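import Mathlib
import Groth.Agent.Lib.Helper29.GenA
import Groth.Agent.Lib.Helper29.GenB
import Groth.Agent.Lib.Helper29.ShModGA
import Groth.Agent.Lib.Helper4.FPExt11

/-!
# A small separating family of `QCoh(X)` for quasi-compact quasi-separated `X`
-/

set_option autoImplicit false
universe u
open CategoryTheory CategoryTheory.Limits AlgebraicGeometry

namespace Groth.Agent.Helper29.GenC

section Abstract

variable {C : Type (u + 1)} [Category.{u} C] [Abelian C] [HasColimitsOfSize.{u, u} C]
  [WellPowered.{u} C]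

/-- the index type: quotients of finite copowers of `G` -/
abbrev Idx (G : C) : Type (u + 1) := Σ n : ℕ, Subobject (∐ fun _ : Fin n => G)

instance (G : C) : Small.{u} (Idx G) := by
  unfold Idx
  infer_instance

/-- the quotient object -/
noncomputable def quo (G : C) (t : Idx G) : C := cokernel t.2.arrow

theorem exists_iso_quo (G : C) (hG : IsSeparator G) (P : C) [IsFinitelyPresentable.{u} P] :
    ∃ t : Idx G, Nonempty (quo G t ≅ P) := by
  classical
  obtain ⟨S, hS⟩ := Groth.Agent.Helper29.GenA.exists_epi_of_isFinitelyPresentable G P hG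
  let n := S.card
  let e : Fin n ≃ S := S.equivFin.symm
  let r : (∐ fun _ : Fin n => G) ≅ ∐ fun _ : S => G := Sigma.reindex e (fun _ : S => G)
  let π : (∐ fun _ : Fin n => G) ⟶ P := r.hom ≫ Groth.Agent.Helper29.GenA.piS G P S
  haveI : Epi π := epi_comp _ _
  let K : Subobject (∐ fun _ : Fin n => G) := Subobject.mk (kernel.ι π)
  refine ⟨⟨n, K⟩, ⟨?_⟩⟩
  have h1 : K.arrow = (Subobject.underlyingIso (kernel.ι π)).hom ≫ kernel.ι π :=
    (Subobject.underlyingIso_hom_comp_eq_mk (kernel.ι π)).symm
  have hcok : IsColimit (CokernelCofork.ofπ π (kernel.condition π)) :=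
    Abelian.epiIsCokernelOfKernel (KernelFork.ofι (kernel.ι π) (kernel.condition π))
      (kernelIsKernel π)
  let e1 : cokernel (kernel.ι π) ≅ P :=
    IsColimit.coconePointUniqueUpToIso (cokernelIsCokernel (kernel.ι π)) hcok
  exact (cokernelIsoOfEq h1) ≪≫ cokernelEpiComp _ _ ≪≫ e1

end Abstract

variable (X : Scheme.{u}) [CompactSpace X] [QuasiSeparatedSpace X]

instance : IsGrothendieckAbelian.{u} X.Modules := Groth.Agent.Helper29.ShModGA.main0484 _ _

/-- a separator of `X.Modules` -/
noncomputable abbrev G₀ : X.Modules := separator X.Modules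

/-- the small family of quasi-coherent modules -/
noncomputable def fam : {t : Idx (G₀ X) // QCohCat.isQCoh X (quo (G₀ X) t)} → QCohCat.QCoh X :=
  fun t => ⟨quo (G₀ X) t.1, t.2⟩

instance : ObjectProperty.Small.{u} (ObjectProperty.ofObj (fam X)) := inferInstance

theorem isSeparating_fam : (ObjectProperty.ofObj (fam X)).IsSeparating := by
  intro M N f g h
  obtain ⟨M₀, hM⟩ := M
  haveI : M₀.IsQuasicoherent := hM
  obtain ⟨I, _, _, D, c, hc, hfp, hpt⟩ := Groth.Agent.Helper4.FPExt.exists_filtered_colimit_fp M₀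
  subst hpt
  apply ObjectProperty.hom_ext
  apply hc.hom_ext
  intro i
  haveI := hfp i
  haveI : IsFinitelyPresentable.{u} (D.obj i) :=
    Groth.Agent.Helper4.FPExt.isFinitelyPresentable_of_isFinitePresentation (D.obj i)
  obtain ⟨t, ⟨e⟩⟩ := exists_iso_quo (G₀ X) (isSeparator_separator X.Modules) (D.obj i)
  have hq : QCohCat.isQCoh X (quo (G₀ X) t) := by
    have h1 : (D.obj i).IsQuasicoherent := inferInstance
    exact (QCohCat.isQCoh X).prop_of_iso e.symm h1
  have h2 := h (fam X ⟨t, hq⟩) (ObjectProperty.ofObj_apply _ _)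
    (ObjectProperty.homMk (e.hom ≫ c.ι.app i))
  have h3 := congrArg (fun z => z.hom) h2
  simp only [ObjectProperty.FullSubcategory.comp_hom] at h3
  rw [← cancel_epi e.hom]
  simpa using h3

/-- **S11121** -/
theorem main {A : Type*} [Category.{u} A] (F : QCohCat.QCoh X ⥤ A)
    [PreservesColimitsOfSize.{u, u} F] : F.IsLeftAdjoint :=
  Groth.Agent.Helper29.GenB.isLeftAdjoint_of_isSeparating X (isSeparating_fam X) F

end Groth.Agent.Helper29.GenC
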