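import Mathlib
import Groth.Agent.Lib.Helper2.GenericFreeMain
import Groth.Agent.Lib.Helper2.GenericFreeBase

set_option autoImplicit false

namespace Groth.Agent.Helper29.GenEx

open TensorProduct Groth.Agent.Helper2.GenericFree

universe u

section lemmas

variable {R : Type*} [CommRing R] {f : R} {A : Type*} [CommRing A] [Algebra R A]

/-- `f ^ k` acts injectively on `A ⊗ M` when `f` is a unit in `A`. -/
theorem eq_zero_of_pow_smul (hf : IsUnit (algebraMap R A f))
    {M : Type*} [AddCommGroup M] [Module R M] (k : ℕ) (ξ : A ⊗[R] M)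
    (h : f ^ k • ξ = 0) : ξ = 0 := by
  have h1 : (algebraMap R A f ^ k) • ξ = 0 := by
    rw [← map_pow, algebraMap_smul]; exact h
  exact ((hf.pow k).smul_eq_zero).mp h1

theorem tmul_eq_zero_of_pow_smul (hf : IsUnit (algebraMap R A f))
    {M : Type*} [AddCommGroup M] [Module R M] (a : A) (x : M) (k : ℕ)
    (hx : f ^ k • x = 0) : a ⊗ₜ[R] x = 0 := by
  apply eq_zero_of_pow_smul hf k
  rw [← TensorProduct.tmul_smul, hx, TensorProduct.tmul_zero]

/-- a surjection with `f`-power-torsion kernel stays injective after `A ⊗ -`. -/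
theorem lTensor_injective_of_torsion_ker (hf : IsUnit (algebraMap R A f))
    {C Z : Type*} [AddCommGroup C] [Module R C] [AddCommGroup Z] [Module R Z]
    (g : C →ₗ[R] Z) (hg : Function.Surjective g)
    (hker : ∀ c, g c = 0 → ∃ k : ℕ, f ^ k • c = 0) :
    Function.Injective (g.lTensor A) := by
  have hex : Function.Exact ((LinearMap.ker g).subtype.lTensor A) (g.lTensor A) :=
    lTensor_exact A (LinearMap.exact_subtype_ker_map g) hg
  have hall : ∀ η : A ⊗[R] (LinearMap.ker g), η = 0 := by
    intro η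
    induction η using TensorProduct.induction_on with
    | zero => rfl
    | tmul a n =>
      obtain ⟨k, hk⟩ := hker n n.2
      exact tmul_eq_zero_of_pow_smul hf a n k (Subtype.ext hk)
    | add x y hx hy => rw [hx, hy, add_zero]
  rw [injective_iff_map_eq_zero]
  intro ξ hξ
  obtain ⟨η, rfl⟩ := (hex ξ).mp hξ
  rw [hall η, map_zero]

/-- a short exact sequence whose cokernel is flat after inverting `f` stays left exact after
`A ⊗ -`. -/
theorem lTensor_injective_of_flat_localized (hf : IsUnit (algebraMap R A f))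
    {Z H D : Type*} [AddCommGroup Z] [Module R Z] [AddCommGroup H] [Module R H]
    [AddCommGroup D] [Module R D]
    (j : Z →ₗ[R] H) (π : H →ₗ[R] D) (hj : Function.Injective j) (hπ : Function.Surjective π)
    (hex : Function.Exact j π)
    [Module.Flat R (LocalizedModule (Submonoid.powers f) D)] :
    Function.Injective (j.lTensor A) := by
  set S := Submonoid.powers f with hS
  let mZ := LocalizedModule.mkLinearMap S Z
  let mH := LocalizedModule.mkLinearMap S H
  let mD := LocalizedModule.mkLinearMap S D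
  let jf := IsLocalizedModule.map S mZ mH j
  let πf := IsLocalizedModule.map S mH mD π
  have h1 : Function.Injective (jf.lTensor A) :=
    LinearMap.lTensor_injective_of_exact_of_flat πf
      (IsLocalizedModule.map_surjective S mH mD π hπ) jf
      (IsLocalizedModule.map_injective S mZ mH j hj)
      (IsLocalizedModule.map_exact S mZ mH mD j π hex) A
  have h2 : jf.lTensor A ∘ₗ mZ.lTensor A = mH.lTensor A ∘ₗ j.lTensor A := by
    rw [← LinearMap.lTensor_comp, ← LinearMap.lTensor_comp, IsLocalizedModule.map_comp]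
  -- `A ⊗ Z → A ⊗ Z_f` is injective
  have hid : IsLocalizedModule S (LinearMap.id : A →ₗ[R] A) := by
    refine ⟨?_, fun y => ⟨(y, 1), by simp⟩, fun {x y} hxy => ⟨1, by simpa using hxy⟩⟩
    rintro ⟨_, k, rfl⟩
    have : IsUnit (algebraMap R A (f ^ k)) := by rw [map_pow]; exact hf.pow k
    rw [Module.End.isUnit_iff]
    constructor
    · intro a b hab
      have hab' : (f ^ k) • a = (f ^ k) • b := hab
      rw [Algebra.smul_def, Algebra.smul_def] at hab'
      exact this.mul_left_cancel hab'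
    · intro b
      obtain ⟨w, hw⟩ := this
      refine ⟨(↑w⁻¹ : A) * b, ?_⟩
      change (f ^ k) • ((↑w⁻¹ : A) * b) = b
      rw [Algebra.smul_def, ← hw, ← mul_assoc, Units.mul_inv, one_mul]
  have h3 : IsLocalizedModule S (mZ.lTensor A) :=
    inferInstanceAs (IsLocalizedModule S (TensorProduct.map (LinearMap.id : A →ₗ[R] A) mZ))
  have h4 : Function.Injective (mZ.lTensor A) := by
    rw [injective_iff_map_eq_zero]
    intro ξ hξ
    obtain ⟨⟨_, k, rfl⟩, hc⟩ := (IsLocalizedModule.eq_zero_iff S (mZ.lTensor A)).mp hξ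
    exact eq_zero_of_pow_smul hf k ξ hc
  have h5 : Function.Injective (jf.lTensor A ∘ₗ mZ.lTensor A) := h1.comp h4
  rw [h2] at h5
  exact Function.Injective.of_comp h5

end lemmas

/-- an element whose image in `Frac R ⊗ M` vanishes is torsion -/
theorem torsion_of_tmul_eq_zero {R : Type*} [CommRing R] [IsDomain R]
    {M : Type*} [AddCommGroup M] [Module R M] (x : M)
    (h : (1 : FractionRing R) ⊗ₜ[R] x = 0) : ∃ r : R, r ≠ 0 ∧ r • x = 0 := by
  have h1 : TensorProduct.mk R (FractionRing R) M 1 x = 0 := h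
  obtain ⟨c, hc⟩ := (IsLocalizedModule.eq_zero_iff (nonZeroDivisors R)
    (TensorProduct.mk R (FractionRing R) M 1)).mp h1
  exact ⟨c, nonZeroDivisors.ne_zero c.2, hc⟩

theorem main4801 {R B : Type u} [CommRing R] [IsDomain R]
    [CommRing B] [Algebra R B] [Algebra.FiniteType R B]
    {F G H : Type u} [AddCommGroup F] [Module B F] [Module R F] [IsScalarTower R B F]
    [Module.Finite B F]
    [AddCommGroup G] [Module B G] [Module R G] [IsScalarTower R B G] [Module.Finite B G]
    [AddCommGroup H] [Module B H] [Module R H] [IsScalarTower R B H] [Module.Finite B H]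
    (u : F →ₗ[B] G) (v : G →ₗ[B] H)
    (hgen : Function.Exact ((u.restrictScalars R).baseChange (FractionRing R))
      ((v.restrictScalars R).baseChange (FractionRing R))) :
    ∃ f : R, f ≠ 0 ∧ ∀ p : PrimeSpectrum R, f ∉ p.asIdeal →
      Function.Exact ((u.restrictScalars R).baseChange p.asIdeal.ResidueField)
        ((v.restrictScalars R).baseChange p.asIdeal.ResidueField) := by
  classical
  set K := FractionRing R with hK
  set uR := u.restrictScalars R with huR
  set vR := v.restrictScalars R with hvR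
  set I : Submodule B G := LinearMap.range u with hI
  set H1 : Submodule B H := LinearMap.range (v ∘ₗ u) with hH1
  let v' : G →ₗ[B] (H ⧸ H1) := H1.mkQ ∘ₗ v
  have hv'u : ∀ x, v' (u x) = 0 := by
    intro x
    change H1.mkQ (v (u x)) = 0
    rw [Submodule.mkQ_apply, Submodule.Quotient.mk_eq_zero]
    exact ⟨x, rfl⟩
  let vbar : (G ⧸ I) →ₗ[B] (H ⧸ H1) := I.liftQ v' (by
    rintro _ ⟨x, rfl⟩
    exact hv'u x)
  have hvbar : ∀ x : G, vbar (I.mkQ x) = H1.mkQ (v x) := fun x => rfl
  set Z : Submodule B (H ⧸ H1) := LinearMap.range vbar with hZ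
  -- generic freeness
  obtain ⟨f1, hf1, g1⟩ := exists_gfree (R := R) B H1
  obtain ⟨f2, hf2, g2⟩ := exists_gfree (R := R) B (G ⧸ I)
  obtain ⟨f3, hf3, g3⟩ := exists_gfree (R := R) B ((H ⧸ H1) ⧸ Z)
  -- torsion facts
  have hK1 : ∀ x : F, (1 : K) ⊗ₜ[R] (v (u x)) = 0 := by
    intro x
    have := hgen.apply_apply_eq_zero ((1 : K) ⊗ₜ[R] x)
    rw [LinearMap.baseChange_tmul, LinearMap.baseChange_tmul] at this
    exact this
  have h1 : ∀ x : F, ∃ k : ℕ, f1 ^ k • v (u x) = 0 := by
    intro x
    obtain ⟨r, hr, hrx⟩ := torsion_of_tmul_eq_zero (v (u x)) (hK1 x)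
    let y : H1 := ⟨v (u x), ⟨x, rfl⟩⟩
    have hy : r • y = 0 := Subtype.ext hrx
    obtain ⟨k, hk⟩ := g1.pow_smul_eq_zero_of_torsion y r hr hy
    exact ⟨k, congrArg Subtype.val hk⟩
  have h2 : ∀ c : G ⧸ I, vbar c = 0 → ∃ k : ℕ, f2 ^ k • c = 0 := by
    intro c hc
    obtain ⟨x, rfl⟩ := I.mkQ_surjective c
    rw [hvbar, Submodule.mkQ_apply, Submodule.Quotient.mk_eq_zero] at hc
    obtain ⟨y, hy⟩ := hc
    have hvxy : v (x - u y) = 0 := by
      rw [map_sub]; exact sub_eq_zero.mpr hy.symm
    have h3 : (vR.baseChange K) ((1 : K) ⊗ₜ[R] (x - u y)) = 0 := by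
      rw [LinearMap.baseChange_tmul]
      change (1 : K) ⊗ₜ[R] v (x - u y) = 0
      rw [hvxy, TensorProduct.tmul_zero]
    obtain ⟨ζ, hζ⟩ := (hgen _).mp h3
    have h4 : ((I.mkQ.restrictScalars R).baseChange K) ((uR.baseChange K) ζ) = 0 := by
      rw [← LinearMap.comp_apply, ← LinearMap.baseChange_comp]
      have : (I.mkQ.restrictScalars R) ∘ₗ uR = 0 := by
        ext z
        change I.mkQ (u z) = 0
        rw [Submodule.mkQ_apply, Submodule.Quotient.mk_eq_zero]
        exact ⟨z, rfl⟩
      rw [this, LinearMap.baseChange_zero, LinearMap.zero_apply]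
    rw [hζ, LinearMap.baseChange_tmul] at h4
    have h5 : (1 : K) ⊗ₜ[R] (I.mkQ x) = 0 := by
      have h6 : I.mkQ (x - u y) = I.mkQ x := by
        rw [map_sub, sub_eq_self, Submodule.mkQ_apply, Submodule.Quotient.mk_eq_zero]
        exact ⟨y, rfl⟩
      rw [← h6]; exact h4
    obtain ⟨r, hr, hrx⟩ := torsion_of_tmul_eq_zero (I.mkQ x) h5
    exact g2.pow_smul_eq_zero_of_torsion (I.mkQ x) r hr hrx
  have hfree3 := g3.free_localizedModule
  have hflat3 : Module.Flat R (LocalizedModule (Submonoid.powers f3) ((H ⧸ H1) ⧸ Z)) :=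
    Module.Flat.trans R (Localization.Away f3) _
  refine ⟨f1 * f2 * f3, mul_ne_zero (mul_ne_zero hf1 hf2) hf3, fun p hp => ?_⟩
  set κ := p.asIdeal.ResidueField with hκ
  have hunit : ∀ g : R, g ∉ p.asIdeal → IsUnit (algebraMap R κ g) := by
    intro g hg
    rw [isUnit_iff_ne_zero, Ne, Ideal.algebraMap_residueField_eq_zero]
    exact hg
  have hp1 : f1 ∉ p.asIdeal := fun h => hp (Ideal.mul_mem_right _ _ (Ideal.mul_mem_right _ _ h))
  have hp2 : f2 ∉ p.asIdeal := fun h => hp (Ideal.mul_mem_right _ _ (Ideal.mul_mem_left _ _ h))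
  have hp3 : f3 ∉ p.asIdeal := fun h => hp (Ideal.mul_mem_left _ _ h)
  have hu1 := hunit f1 hp1
  have hu2 := hunit f2 hp2
  have hu3 := hunit f3 hp3
  -- reformulate with lTensor
  have hcoe_u : ⇑(uR.baseChange κ) = ⇑(uR.lTensor κ) := by
    rw [LinearMap.baseChange_eq_ltensor]
  have hcoe_v : ⇑(vR.baseChange κ) = ⇑(vR.lTensor κ) := by
    rw [LinearMap.baseChange_eq_ltensor]
  rw [hcoe_u, hcoe_v]
  -- the R-linear maps
  let qI : G →ₗ[R] (G ⧸ I) := I.mkQ.restrictScalars R
  let qH : H →ₗ[R] (H ⧸ H1) := H1.mkQ.restrictScalars R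
  let vbarR : (G ⧸ I) →ₗ[R] (H ⧸ H1) := vbar.restrictScalars R
  let gR : (G ⧸ I) →ₗ[R] Z := vbar.rangeRestrict.restrictScalars R
  let jR : Z →ₗ[R] (H ⧸ H1) := Z.subtype.restrictScalars R
  let πR : (H ⧸ H1) →ₗ[R] ((H ⧸ H1) ⧸ Z) := Z.mkQ.restrictScalars R
  have hg_inj : Function.Injective (gR.lTensor κ) := by
    refine lTensor_injective_of_torsion_ker hu2 gR ?_ ?_
    · exact vbar.surjective_rangeRestrict
    · intro c hc
      apply h2
      have : (vbar.rangeRestrict c : H ⧸ H1) = 0 := congrArg Subtype.val hc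
      exact this
  have hj_inj : Function.Injective (jR.lTensor κ) := by
    refine lTensor_injective_of_flat_localized hu3 jR πR Z.injective_subtype
      Z.mkQ_surjective ?_
    exact LinearMap.exact_subtype_mkQ Z
  have hvbar_inj : Function.Injective (vbarR.lTensor κ) := by
    have : vbarR = jR ∘ₗ gR := by ext c; rfl
    rw [this, LinearMap.lTensor_comp]
    exact hj_inj.comp hg_inj
  have hexq : Function.Exact (uR.lTensor κ) (qI.lTensor κ) :=
    lTensor_exact κ (LinearMap.exact_map_mkQ_range u) I.mkQ_surjective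
  intro ξ
  constructor
  · intro hξ
    apply (hexq ξ).mp
    apply hvbar_inj
    rw [map_zero, ← LinearMap.comp_apply, ← LinearMap.lTensor_comp]
    have : vbarR ∘ₗ qI = qH ∘ₗ vR := by ext x; rfl
    rw [this, LinearMap.lTensor_comp, LinearMap.comp_apply, hξ, map_zero]
  · rintro ⟨ζ, rfl⟩
    rw [← LinearMap.comp_apply, ← LinearMap.lTensor_comp]
    induction ζ using TensorProduct.induction_on with
    | zero => rw [map_zero]
    | tmul a x =>
      rw [LinearMap.lTensor_tmul]
      obtain ⟨k, hk⟩ := h1 x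
      exact tmul_eq_zero_of_pow_smul hu1 a _ k hk
    | add x y hx hy => rw [map_add, hx, hy, add_zero]

end Groth.Agent.Helper29.GenEx
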