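import Mathlib

/-!
# Generic injectivity passes to subfunctors (helper29)
-/

namespace Groth.Agent.Helper29.GenInj

universe u

section Mod

variable {A : Type*} [CommRing A] {F : Type*} [AddCommGroup F] [Module A F]

/-- If the quotient `F ⧸ K'` is free after localizing at the prime `P`, then
`K' ∩ P F ⊆ P K'` after multiplying by some `s ∉ P`. -/
theorem exists_smul_mem (P : Ideal A) [P.IsPrime] (K' : Submodule A F)
    (hfree : Module.Free (Localization.AtPrime P) (LocalizedModule P.primeCompl (F ⧸ K')))
    (x : F) (hxK : x ∈ K') (hx : x ∈ P • (⊤ : Submodule A F)) :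
    ∃ s ∉ P, s • x ∈ P • K' := by
  classical
  let S := P.primeCompl
  let π : LocalizedModule S F →ₗ[Localization S] LocalizedModule S (F ⧸ K') :=
    LocalizedModule.map S K'.mkQ
  have hπ : Function.Surjective π := LocalizedModule.map_surjective S _ K'.mkQ_surjective
  have hproj : Module.Projective (Localization S) (LocalizedModule S (F ⧸ K')) :=
    Module.Projective.of_free
  obtain ⟨σ, hσ⟩ := Module.projective_lifting_property π LinearMap.id hπ
  let r : LocalizedModule S F →ₗ[Localization S] LocalizedModule S F :=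
    LinearMap.id - σ ∘ₗ π
  have hπr : ∀ z, π (r z) = 0 := by
    intro z
    have := LinearMap.congr_fun hσ (π z)
    simp only [LinearMap.comp_apply, LinearMap.id_apply] at this
    simp only [r, LinearMap.sub_apply, LinearMap.id_apply, LinearMap.comp_apply, map_sub, this,
      sub_self]
  -- exactness by hand
  have hex : ∀ z : LocalizedModule S F, π z = 0 → ∃ k ∈ K', ∃ s : S, z = LocalizedModule.mk k s := by
    intro z
    induction z using LocalizedModule.induction_on with
    | h y s =>
      intro hz
      rw [LocalizedModule.map_mk, ← LocalizedModule.zero_mk s, LocalizedModule.mk_eq] at hz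
      obtain ⟨t, ht⟩ := hz
      simp only [Submonoid.smul_def, smul_zero] at ht
      rw [← map_smul, ← map_smul] at ht
      have hmem : (t : A) • (s : A) • y ∈ K' := (Submodule.Quotient.mk_eq_zero K').mp ht
      refine ⟨(t : A) • (s : A) • y, hmem, t * s * s, ?_⟩
      have : (t : A) • (s : A) • y = (t * s) • y := by
        rw [Submonoid.smul_def, Submonoid.coe_mul, mul_smul]
      rw [this, LocalizedModule.mk_cancel_common_left]
  have key : ∀ y ∈ P • (⊤ : Submodule A F), ∃ n ∈ P • K', ∃ s : S,
      r (LocalizedModule.mkLinearMap S F y) = LocalizedModule.mk n s := by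
    intro y hy
    refine Submodule.smul_induction_on hy ?_ ?_
    · intro a ha y _
      obtain ⟨k, hk, s, hks⟩ := hex _ (hπr (LocalizedModule.mkLinearMap S F y))
      refine ⟨a • k, Submodule.smul_mem_smul ha hk, s, ?_⟩
      rw [map_smul, LinearMap.map_smul_of_tower, hks, LocalizedModule.smul'_mk]
    · intro y y' ⟨n, hn, s, h⟩ ⟨n', hn', s', h'⟩
      refine ⟨s' • n + s • n', ?_, s * s', ?_⟩
      · exact add_mem (Submodule.smul_mem _ _ hn) (Submodule.smul_mem _ _ hn')
      · rw [map_add, map_add, h, h', LocalizedModule.mk_add_mk]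
  obtain ⟨n, hn, s, hns⟩ := key x hx
  have hrx : r (LocalizedModule.mkLinearMap S F x) = LocalizedModule.mk x 1 := by
    have h0 : π (LocalizedModule.mkLinearMap S F x) = 0 := by
      rw [LocalizedModule.mkLinearMap_apply, LocalizedModule.map_mk]
      have : K'.mkQ x = 0 := (Submodule.Quotient.mk_eq_zero K').mpr hxK
      rw [this, LocalizedModule.zero_mk]
    rw [LocalizedModule.mkLinearMap_apply] at h0
    simp only [r, LinearMap.sub_apply, LinearMap.id_apply, LinearMap.comp_apply,
      LocalizedModule.mkLinearMap_apply, h0, map_zero, sub_zero]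
  rw [hrx, LocalizedModule.mk_eq] at hns
  obtain ⟨t, ht⟩ := hns
  refine ⟨(t * s : S), (t * s).2, ?_⟩
  have : ((t * s : S) : A) • x = t • s • x := by
    rw [Submonoid.coe_mul, mul_smul]
    rfl
  rw [this, ht, one_smul]
  exact Submodule.smul_mem _ _ hn

end Mod

section Generic

variable {A : Type*} [CommRing A] [IsDomain A] (Q : Type*) [AddCommGroup Q] [Module A Q]

theorem bot_mem_freeLocus :
    (⟨⊥, Ideal.isPrime_bot⟩ : PrimeSpectrum A) ∈ Module.freeLocus A Q := by
  rw [Module.mem_freeLocus]
  have h1 : IsFractionRing A (Localization.AtPrime (⊥ : Ideal A)) := by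
    simpa [Ideal.primeCompl_bot] using Localization.isLocalization (M := (⊥ : Ideal A).primeCompl)
  let _ : Field (Localization.AtPrime (⊥ : Ideal A)) := IsFractionRing.toField A
  exact Module.Free.of_divisionRing _ _

end Generic

open CategoryTheory

theorem main {A : Type u} [CommRing A] [IsNoetherianRing A] [IsDomain A]
    (F K : ModuleCat.{u} A ⥤ ModuleCat.{u} A) [F.Additive] [F.Linear A] [K.Additive] [K.Linear A]
    (ι : K ⟶ F) (hι : ∀ X : ModuleCat.{u} A, Function.Injective (ι.app X).hom)
    (hfin : Module.Finite A (F.obj (ModuleCat.of A A)))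
    (hGI : ∃ U : Set (PrimeSpectrum A), IsOpen U ∧ Dense U ∧ ∀ u ∈ U, Algebra.FiniteType A u.asIdeal.ResidueField →
        ∀ m : F.obj (ModuleCat.of A A),
          (F.map (ModuleCat.ofHom (Algebra.linearMap A u.asIdeal.ResidueField))).hom m = 0 →
            ∃ s ∉ u.asIdeal, s • m ∈ u.asIdeal • (⊤ : Submodule A (F.obj (ModuleCat.of A A)))) :
    ∃ U : Set (PrimeSpectrum A), IsOpen U ∧ Dense U ∧ ∀ u ∈ U, Algebra.FiniteType A u.asIdeal.ResidueField →
        ∀ m : K.obj (ModuleCat.of A A),
          (K.map (ModuleCat.ofHom (Algebra.linearMap A u.asIdeal.ResidueField))).hom m = 0 →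
            ∃ s ∉ u.asIdeal, s • m ∈ u.asIdeal • (⊤ : Submodule A (K.obj (ModuleCat.of A A))) := by
  obtain ⟨U, hUo, hUd, hU⟩ := hGI
  let j : K.obj (ModuleCat.of A A) →ₗ[A] F.obj (ModuleCat.of A A) := (ι.app (ModuleCat.of A A)).hom
  let K' : Submodule A (F.obj (ModuleCat.of A A)) := LinearMap.range j
  have hfQ : Module.Finite A (F.obj (ModuleCat.of A A) ⧸ K') := inferInstance
  have hfpQ : Module.FinitePresentation A (F.obj (ModuleCat.of A A) ⧸ K') :=
    Module.finitePresentation_of_finite A _
  let V := Module.freeLocus A (F.obj (ModuleCat.of A A) ⧸ K')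
  have hVo : IsOpen V := Module.isOpen_freeLocus
  have hVd : Dense V := hVo.dense ⟨_, bot_mem_freeLocus _⟩
  refine ⟨U ∩ V, hUo.inter hVo, hUd.inter_of_isOpen_right hVd hVo, ?_⟩
  rintro u ⟨huU, huV⟩ hft m hm
  have hnat : (F.map (ModuleCat.ofHom (Algebra.linearMap A u.asIdeal.ResidueField))).hom (j m) =
      (ι.app _).hom ((K.map (ModuleCat.ofHom (Algebra.linearMap A u.asIdeal.ResidueField))).hom m) := by
    have := congrArg (fun g => g.hom m)
      (ι.naturality (ModuleCat.ofHom (Algebra.linearMap A u.asIdeal.ResidueField)))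
    exact this.symm
  obtain ⟨s, hs, hsm⟩ := hU u huU hft (j m) (by rw [hnat, hm, map_zero])
  have huV' : Module.Free (Localization.AtPrime u.asIdeal)
      (LocalizedModule u.asIdeal.primeCompl (F.obj (ModuleCat.of A A) ⧸ K')) := huV
  obtain ⟨s', hs', h'⟩ := exists_smul_mem u.asIdeal K' huV' (s • j m)
    (K'.smul_mem s ⟨m, rfl⟩) hsm
  refine ⟨s' * s, fun h => (u.2.mem_or_mem h).elim hs' hs, ?_⟩
  have hmap : u.asIdeal • K' = Submodule.map j (u.asIdeal • ⊤) := by
    rw [Submodule.map_smul'', Submodule.map_top]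
  rw [hmap] at h'
  obtain ⟨m', hm', hjm'⟩ := h'
  have : m' = (s' * s) • m := hι _ (by
    show j m' = j ((s' * s) • m)
    rw [hjm', map_smul, mul_smul])
  rw [← this]
  exact hm'

end Groth.Agent.Helper29.GenInj
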