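import Mathlib
import Groth.Prelude.Def_StGerb
import Groth.Agent.Lib.Helper19.StkElem

/-!
# Automorphisms over the identity in a stack in groupoids: gluing and separatedness (helper29)

Uses helper19's elementary form of the stack condition (`StkElem`).
-/

set_option autoImplicit false
set_option backward.isDefEq.respectTransparency false

universe v u

open CategoryTheory Opposite

namespace Groth.Agent.Helper29.GerbA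

open FibCat Stk Groth.Agent.Helper19.FibLib Groth.Agent.Helper19.StkElem

variable {C : Type u} [Category.{v} C] {𝒮 : BasedCategory.{v, max u v} C}

/-- the pullback of an automorphism over the identity along a morphism. -/
theorem existsUnique_pull (h𝒮 : IsFibGrpd 𝒮.p) {z y : 𝒮.obj} (φ : z ⟶ y) (b : y ⟶ y)
    (hb : 𝒮.p.IsHomLift (𝟙 (𝒮.p.obj y)) b) :
    ∃! β : z ⟶ z, 𝒮.p.IsHomLift (𝟙 (𝒮.p.obj z)) β ∧ β ≫ φ = φ ≫ b := by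
  have h2 : 𝒮.p.IsHomLift (𝒮.p.map φ) (φ ≫ b) := by
    have : 𝒮.p.IsHomLift (𝒮.p.map φ ≫ 𝟙 _) (φ ≫ b) := inferInstance
    simpa using this
  exact existsUnique_fac h𝒮 (𝒮.p.map φ) φ (𝟙 _) (𝒮.p.map φ) (by simp) (φ ≫ b)

/-- right cancellation for morphisms over the identity. -/
theorem cancel_vert (h𝒮 : IsFibGrpd 𝒮.p) {z y : 𝒮.obj} (φ : z ⟶ y) {s t : z ⟶ z}
    (hs : 𝒮.p.IsHomLift (𝟙 (𝒮.p.obj z)) s) (ht : 𝒮.p.IsHomLift (𝟙 (𝒮.p.obj z)) t)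
    (h : s ≫ φ = t ≫ φ) : s = t :=
  hom_ext_of_comp_eq h𝒮 (𝒮.p.map φ) φ (𝟙 (𝒮.p.obj z)) h

theorem isIso_vert (h𝒮 : IsFibGrpd 𝒮.p) {z : 𝒮.obj} (s : z ⟶ z)
    (hs : 𝒮.p.IsHomLift (𝟙 (𝒮.p.obj z)) s) : IsIso s :=
  isIso_of_isHomLift h𝒮 (𝟙 (𝒮.p.obj z)) s

/-- an automorphism over the identity as an element of `Gerb.AutO`. -/
noncomputable def mkAut (h𝒮 : IsFibGrpd 𝒮.p) {z : 𝒮.obj} (s : z ⟶ z)
    (hs : 𝒮.p.IsHomLift (𝟙 (𝒮.p.obj z)) s) : Gerb.AutO z :=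
  haveI : IsIso s := isIso_vert h𝒮 s hs
  { hom := ⟨s, hs⟩
    inv := ⟨inv s, inferInstance⟩
    hom_inv_id := Subtype.ext (IsIso.hom_inv_id s)
    inv_hom_id := Subtype.ext (IsIso.inv_hom_id s) }

@[simp] theorem mkAut_hom (h𝒮 : IsFibGrpd 𝒮.p) {z : 𝒮.obj} (s : z ⟶ z)
    (hs : 𝒮.p.IsHomLift (𝟙 (𝒮.p.obj z)) s) : (mkAut h𝒮 s hs).hom.1 = s := rfl

theorem aut_lift {z : 𝒮.obj} (α : Gerb.AutO z) : 𝒮.p.IsHomLift (𝟙 (𝒮.p.obj z)) α.hom.1 := α.hom.2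

theorem aut_ext {z : 𝒮.obj} {α β : Gerb.AutO z} (h : α.hom.1 = β.hom.1) : α = β :=
  Iso.ext (Subtype.ext h)

theorem aut_mul_hom {z : 𝒮.obj} (α β : Gerb.AutO z) : (α * β).hom.1 = β.hom.1 ≫ α.hom.1 := rfl

theorem aut_one_hom {z : 𝒮.obj} : (1 : Gerb.AutO z).hom.1 = 𝟙 z := rfl

theorem comm_vert (h𝒮 : IsFibGrpd 𝒮.p)
    (hcomm : ∀ (x : 𝒮.obj) (α β : Gerb.AutO x), α * β = β * α) {z : 𝒮.obj} (s t : z ⟶ z)
    (hs : 𝒮.p.IsHomLift (𝟙 (𝒮.p.obj z)) s) (ht : 𝒮.p.IsHomLift (𝟙 (𝒮.p.obj z)) t) :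
    s ≫ t = t ≫ s := by
  have := congrArg (fun γ : Gerb.AutO z => γ.hom.1) (hcomm z (mkAut h𝒮 t ht) (mkAut h𝒮 s hs))
  exact this

/-- the pullback of `a` along `ψ` depends only on the image of `ψ` in the base (commutative case). -/
theorem pull_indep (h𝒮 : IsFibGrpd 𝒮.p)
    (hcomm : ∀ (x : 𝒮.obj) (α β : Gerb.AutO x), α * β = β * α) {z x : 𝒮.obj} (ψ ψ' : z ⟶ x)
    (hψ : 𝒮.p.map ψ = 𝒮.p.map ψ') (a : x ⟶ x) (β β' : z ⟶ z)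
    (hβ : 𝒮.p.IsHomLift (𝟙 (𝒮.p.obj z)) β) (hβ' : 𝒮.p.IsHomLift (𝟙 (𝒮.p.obj z)) β')
    (e : β ≫ ψ = ψ ≫ a) (e' : β' ≫ ψ' = ψ' ≫ a) : β = β' := by
  have l' : 𝒮.p.IsHomLift (𝒮.p.map ψ) ψ' := by rw [hψ]; infer_instance
  obtain ⟨τ, ⟨hτ, hτψ⟩, -⟩ := existsUnique_fac h𝒮 (𝒮.p.map ψ) ψ (𝟙 _) (𝒮.p.map ψ) (by simp) ψ'
  have hτiso : IsIso τ := isIso_vert h𝒮 τ hτ
  have h1 : (β' ≫ τ) ≫ ψ = (τ ≫ β) ≫ ψ := by
    rw [Category.assoc, hτψ, e', ← hτψ, Category.assoc, Category.assoc, e]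
  have l1 : 𝒮.p.IsHomLift (𝟙 (𝒮.p.obj z)) (β' ≫ τ) := by
    have : 𝒮.p.IsHomLift (𝟙 (𝒮.p.obj z) ≫ 𝟙 (𝒮.p.obj z)) (β' ≫ τ) := inferInstance
    simpa using this
  have l2 : 𝒮.p.IsHomLift (𝟙 (𝒮.p.obj z)) (τ ≫ β) := by
    have : 𝒮.p.IsHomLift (𝟙 (𝒮.p.obj z) ≫ 𝟙 (𝒮.p.obj z)) (τ ≫ β) := inferInstance
    simpa using this
  have h2 : β' ≫ τ = τ ≫ β := cancel_vert h𝒮 ψ l1 l2 h1
  rw [comm_vert h𝒮 hcomm τ β hτ hβ] at h2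
  exact ((cancel_mono τ).1 h2).symm

section Glue

variable (J : GrothendieckTopology C)

/-- the standard cocone of an object over a sieve, through a chart. -/
theorem exists_chart_cocone (h𝒮 : IsFibGrpd 𝒮.p) (y : 𝒮.obj) (R : Sieve (𝒮.p.obj y)) :
    ∃ (Ψ : sieveCat R ⥤ᵇ 𝒮) (_ : Cocone Ψ y), True := by
  obtain ⟨Φ, θ, hθ⟩ := Groth.Agent.Helper19.YonLib.exists_chart_of_obj h𝒮 y rfl
  exact ⟨_, (chartCocone (R := R) Φ).postcomp θ.hom hθ, trivial⟩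

theorem mem_of_lift {y : 𝒮.obj} (R : Sieve (𝒮.p.obj y)) {V : C} (g : V ⟶ 𝒮.p.obj y) (hg : R g)
    {z : 𝒮.obj} (φ : z ⟶ y) (hφ : 𝒮.p.IsHomLift g φ) : R (𝒮.p.map φ) := by
  rw [IsHomLift.fac' 𝒮.p g φ]
  have : eqToHom (IsHomLift.codomain_eq 𝒮.p g φ).symm = 𝟙 _ := rfl
  rw [this, Category.comp_id]
  exact R.downward_closed hg _

/-- separatedness: automorphisms over the identity which agree on a covering sieve are equal. -/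
theorem vert_ext_of_cover (hS : Stk.IsStack J 𝒮) {y : 𝒮.obj} (R : Sieve (𝒮.p.obj y))
    (hR : R ∈ J (𝒮.p.obj y)) (b₁ b₂ : y ⟶ y)
    (h₁ : 𝒮.p.IsHomLift (𝟙 (𝒮.p.obj y)) b₁) (h₂ : 𝒮.p.IsHomLift (𝟙 (𝒮.p.obj y)) b₂)
    (h : ∀ {z : 𝒮.obj} (φ : z ⟶ y), R (𝒮.p.map φ) → φ ≫ b₁ = φ ≫ b₂) : b₁ = b₂ := by
  have h𝒮 := hS.1
  have hU : Uniq R 𝒮 := uniq_of_isStackFor h𝒮 (hS.2 R hR)
  obtain ⟨Ψ, c, -⟩ := exists_chart_cocone h𝒮 y R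
  obtain ⟨g, -, huniq⟩ := hU Ψ y y c (c.postcomp b₁ h₁)
  have e1 : b₁ = g := huniq b₁ ⟨h₁, fun a => rfl⟩
  have e2 : b₂ = g := by
    refine huniq b₂ ⟨h₂, fun a => ?_⟩
    have := c.lift a
    exact (h (c.lam a) (mem_of_lift R a.obj.hom a.property (c.lam a) (c.lift a))).symm
  rw [e1, e2]

/-- gluing: a compatible family of automorphisms on a covering sieve comes from an automorphism. -/
theorem exists_glue (hS : Stk.IsStack J 𝒮) {y : 𝒮.obj} (R : Sieve (𝒮.p.obj y))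
    (hR : R ∈ J (𝒮.p.obj y))
    (β : ∀ {z : 𝒮.obj} (φ : z ⟶ y), R (𝒮.p.map φ) → (z ⟶ z))
    (hβ : ∀ {z : 𝒮.obj} (φ : z ⟶ y) (h : R (𝒮.p.map φ)), 𝒮.p.IsHomLift (𝟙 (𝒮.p.obj z)) (β φ h))
    (compat : ∀ {z' z : 𝒮.obj} (χ : z' ⟶ z) (φ : z ⟶ y) (h : R (𝒮.p.map φ))
      (h' : R (𝒮.p.map (χ ≫ φ))), β (χ ≫ φ) h' ≫ χ = χ ≫ β φ h) :
    ∃ b : y ⟶ y, 𝒮.p.IsHomLift (𝟙 (𝒮.p.obj y)) b ∧
      ∀ {z : 𝒮.obj} (φ : z ⟶ y) (h : R (𝒮.p.map φ)), β φ h ≫ φ = φ ≫ b := by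
  have h𝒮 := hS.1
  have hU : Uniq R 𝒮 := uniq_of_isStackFor h𝒮 (hS.2 R hR)
  obtain ⟨Ψ, c, -⟩ := exists_chart_cocone h𝒮 y R
  have hβcongr : ∀ {z : 𝒮.obj} (φ φ' : z ⟶ y) (e : φ = φ') (h : R (𝒮.p.map φ))
      (h' : R (𝒮.p.map φ')), β φ h = β φ' h' := by
    intro z φ φ' e h h'
    subst e
    rfl
  have hmem : ∀ a : (sieveCat R).obj, R (𝒮.p.map (c.lam a)) := fun a =>
    mem_of_lift R a.obj.hom a.property (c.lam a) (c.lift a)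
  let c' : Cocone Ψ y :=
    { base := rfl
      lam := fun a => β (c.lam a) (hmem a) ≫ c.lam a
      lift := fun a => by
        have := c.lift a
        have := hβ (c.lam a) (hmem a)
        have h : 𝒮.p.IsHomLift (𝟙 _ ≫ a.obj.hom) (β (c.lam a) (hmem a) ≫ c.lam a) := by
          have e : 𝒮.p.obj (Ψ.obj a) = a.obj.left := IsHomLift.domain_eq 𝒮.p a.obj.hom (c.lam a)
          have : 𝒮.p.IsHomLift (𝟙 a.obj.left) (β (c.lam a) (hmem a)) := by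
            have h0 := hβ (c.lam a) (hmem a)
            rw [e] at h0
            exact h0
          infer_instance
        simpa using h
      nat := fun {a b} m => by
        have hm : R (𝒮.p.map (Ψ.map m ≫ c.lam b)) := by
          rw [c.nat m]
          exact hmem a
        have e1 := compat (Ψ.map m) (c.lam b) (hmem b) hm
        have e2 : β (Ψ.map m ≫ c.lam b) hm = β (c.lam a) (hmem a) :=
          hβcongr _ _ (c.nat m) _ _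
        rw [← Category.assoc, ← e1, e2, Category.assoc, c.nat m] }
  obtain ⟨b, ⟨hb1, hb2⟩, -⟩ := hU Ψ y y c c'
  refine ⟨b, hb1, ?_⟩
  intro z φ h
  let a : (sieveCat R).obj := ⟨Over.mk (𝒮.p.map φ), h⟩
  have la : 𝒮.p.IsHomLift (𝒮.p.map φ) (c.lam a) := c.lift a
  obtain ⟨χ, ⟨hχ, hχφ⟩, -⟩ := existsUnique_fac h𝒮 (𝒮.p.map φ) (c.lam a) (𝟙 _) (𝒮.p.map φ)
    (by simp) φ
  have hm : R (𝒮.p.map (χ ≫ c.lam a)) := by
    rw [hχφ]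
    exact h
  have e1 := compat χ (c.lam a) (hmem a) hm
  have e2 : β (χ ≫ c.lam a) hm = β φ h := hβcongr _ _ hχφ _ _
  have e3 : c.lam a ≫ b = β (c.lam a) (hmem a) ≫ c.lam a := hb2 a
  calc β φ h ≫ φ = β (χ ≫ c.lam a) hm ≫ χ ≫ c.lam a := by rw [e2, hχφ]
    _ = χ ≫ β (c.lam a) (hmem a) ≫ c.lam a := by rw [← Category.assoc, e1, Category.assoc]
    _ = χ ≫ c.lam a ≫ b := by rw [e3]
    _ = φ ≫ b := by rw [← Category.assoc, hχφ]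

end Glue

end Groth.Agent.Helper29.GerbA
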