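import Mathlib
import Groth.Prelude.Def_StGerb
import Groth.Agent.Lib.Helper29.GerbA

/-!
# The sheaf of central automorphisms of a stack in groupoids (helper29)
-/

set_option autoImplicit false
set_option backward.isDefEq.respectTransparency false

universe v u

open CategoryTheory Opposite

namespace Groth.Agent.Helper29.GerbB

open FibCat Stk Groth.Agent.Helper19.FibLib Groth.Agent.Helper19.StkElem Groth.Agent.Helper29.GerbA

variable {C : Type u} [Category.{v} C] (𝒮 : BasedCategory.{v, max u v} C)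

theorem aut_hom_inv {z : 𝒮.obj} (α : Gerb.AutO z) : α.hom.1 ≫ α.inv.1 = 𝟙 z :=
  congrArg Subtype.val α.hom_inv_id

theorem aut_inv_hom {z : 𝒮.obj} (α : Gerb.AutO z) : α.inv.1 ≫ α.hom.1 = 𝟙 z :=
  congrArg Subtype.val α.inv_hom_id

theorem aut_inv_hom' {z : 𝒮.obj} (α : Gerb.AutO z) : (α⁻¹).hom.1 = α.inv.1 := rfl

/-- the group of central sections over `U`: families of automorphisms of all objects over objects
mapping to `U`, natural along all morphisms of `𝒮`. -/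
def secSubgroup (U : C) : Subgroup (∀ (x : 𝒮.obj) (_ : 𝒮.p.obj x ⟶ U), Gerb.AutO x) where
  carrier := {α | ∀ {x' x : 𝒮.obj} (φ : x' ⟶ x) (f : 𝒮.p.obj x ⟶ U),
    (α x' (𝒮.p.map φ ≫ f)).hom.1 ≫ φ = φ ≫ (α x f).hom.1}
  mul_mem' := by
    intro a b ha hb x' x φ f
    change ((b x' (𝒮.p.map φ ≫ f)).hom.1 ≫ (a x' (𝒮.p.map φ ≫ f)).hom.1) ≫ φ =
      φ ≫ ((b x f).hom.1 ≫ (a x f).hom.1)
    rw [Category.assoc, ha φ f, ← Category.assoc, hb φ f, Category.assoc]
  one_mem' := by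
    intro x' x φ f
    change 𝟙 x' ≫ φ = φ ≫ 𝟙 x
    simp
  inv_mem' := by
    intro a ha x' x φ f
    change (a x' (𝒮.p.map φ ≫ f)).inv.1 ≫ φ = φ ≫ (a x f).inv.1
    have h := ha φ f
    calc (a x' (𝒮.p.map φ ≫ f)).inv.1 ≫ φ
        = (a x' (𝒮.p.map φ ≫ f)).inv.1 ≫ (φ ≫ (a x f).hom.1) ≫ (a x f).inv.1 := by
          rw [Category.assoc, aut_hom_inv, Category.comp_id]
      _ = φ ≫ (a x f).inv.1 := by
          rw [← h, Category.assoc, ← Category.assoc, ← Category.assoc, aut_inv_hom,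
            Category.id_comp]

variable {𝒮}

theorem sec_nat {U : C} (α : secSubgroup 𝒮 U) {x' x : 𝒮.obj} (φ : x' ⟶ x) (f : 𝒮.p.obj x ⟶ U) :
    (α.1 x' (𝒮.p.map φ ≫ f)).hom.1 ≫ φ = φ ≫ (α.1 x f).hom.1 := α.2 φ f

theorem sec_ext {U : C} {α β : secSubgroup 𝒮 U}
    (h : ∀ (x : 𝒮.obj) (f : 𝒮.p.obj x ⟶ U), (α.1 x f).hom.1 = (β.1 x f).hom.1) : α = β := by
  apply Subtype.ext
  funext x f
  exact aut_ext (h x f)

/-- restriction of central sections. -/
def secRes {U' U : C} (g : U' ⟶ U) : secSubgroup 𝒮 U →* secSubgroup 𝒮 U' where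
  toFun α := ⟨fun x f => α.1 x (f ≫ g), fun {x' x} φ f => by
    have := α.2 φ (f ≫ g)
    rw [← Category.assoc] at this
    exact this⟩
  map_one' := rfl
  map_mul' _ _ := rfl

@[simp] theorem secRes_apply {U' U : C} (g : U' ⟶ U) (α : secSubgroup 𝒮 U) (x : 𝒮.obj)
    (f : 𝒮.p.obj x ⟶ U') : (secRes g α).1 x f = α.1 x (f ≫ g) := rfl

variable (𝒮)

/-- the presheaf of central sections. -/
def secPsh : Cᵒᵖ ⥤ GrpCat.{max u v} where
  obj U := GrpCat.of (secSubgroup 𝒮 U.unop)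
  map g := GrpCat.ofHom (secRes g.unop)
  map_id U := by
    ext α x f
    change (α.1 x (f ≫ 𝟙 _)).hom.1 = (α.1 x f).hom.1
    rw [Category.comp_id]
  map_comp g h := by
    ext α x f
    change (α.1 x (f ≫ (h.unop ≫ g.unop))).hom.1 = (α.1 x ((f ≫ h.unop) ≫ g.unop)).hom.1
    rw [Category.assoc]

theorem secPsh_comm (hcomm : ∀ (x : 𝒮.obj) (α β : Gerb.AutO x), α * β = β * α) (U : C)
    (a b : (secPsh 𝒮).obj (op U)) : a * b = b * a := by
  apply Subtype.ext
  funext x f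
  exact hcomm x _ _

end Groth.Agent.Helper29.GerbB
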