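import Mathlib
import Groth.Prelude.Def_StGerb
import Groth.Agent.Lib.Helper29.GerbB

/-!
# The presheaf of central automorphisms of a stack in groupoids is a sheaf (helper29)
-/

set_option autoImplicit false
set_option backward.isDefEq.respectTransparency false

universe v u

open CategoryTheory Opposite

namespace Groth.Agent.Helper29.GerbC

open FibCat Stk Groth.Agent.Helper19.FibLib Groth.Agent.Helper19.StkElem Groth.Agent.Helper29.GerbA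
  Groth.Agent.Helper29.GerbB

variable {C : Type u} [Category.{v} C] {𝒮 : BasedCategory.{v, max u v} C}
  (J : GrothendieckTopology C)

theorem sec_glue (hS : Stk.IsStack J 𝒮) {U : C} (R : Sieve U) (hR : R ∈ J U)
    (s : ∀ {V : C} (g : V ⟶ U), R g → secSubgroup 𝒮 V)
    (hs : ∀ {V W : C} (g : V ⟶ U) (h : W ⟶ V) (hg : R g),
      s (h ≫ g) (R.downward_closed hg h) = secRes h (s g hg)) :
    ∃! t : secSubgroup 𝒮 U, ∀ {V : C} (g : V ⟶ U) (hg : R g), secRes g t = s g hg := by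
  have h𝒮 := hS.1
  have hscongr : ∀ {V : C} (g g' : V ⟶ U) (e : g = g') (hg : R g) (hg' : R g'),
      s g hg = s g' hg' := by
    intro V g g' e hg hg'
    subst e
    rfl
  have key : ∀ (y : 𝒮.obj) (f : 𝒮.p.obj y ⟶ U), ∃ b : y ⟶ y,
      𝒮.p.IsHomLift (𝟙 (𝒮.p.obj y)) b ∧
      ∀ {z : 𝒮.obj} (φ : z ⟶ y) (h : R (𝒮.p.map φ ≫ f)),
        ((s (𝒮.p.map φ ≫ f) h).1 z (𝟙 _)).hom.1 ≫ φ = φ ≫ b := by
    intro y f
    have hRf : R.pullback f ∈ J (𝒮.p.obj y) := J.pullback_stable f hR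
    refine exists_glue J hS (R.pullback f) hRf
      (fun {z} φ h => ((s (𝒮.p.map φ ≫ f) h).1 z (𝟙 _)).hom.1) (fun φ h => aut_lift _) ?_
    intro z' z χ φ h h'
    have e0 : 𝒮.p.map (χ ≫ φ) ≫ f = 𝒮.p.map χ ≫ (𝒮.p.map φ ≫ f) := by
      rw [Functor.map_comp, Category.assoc]
    have e1 : s (𝒮.p.map (χ ≫ φ) ≫ f) h' = secRes (𝒮.p.map χ) (s (𝒮.p.map φ ≫ f) h) := by
      rw [← hs (𝒮.p.map φ ≫ f) (𝒮.p.map χ) h]
      exact hscongr _ _ e0 _ _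
    change ((s (𝒮.p.map (χ ≫ φ) ≫ f) h').1 z' (𝟙 _)).hom.1 ≫ χ =
      χ ≫ ((s (𝒮.p.map φ ≫ f) h).1 z (𝟙 _)).hom.1
    rw [e1, secRes_apply, Category.id_comp]
    have := sec_nat (s (𝒮.p.map φ ≫ f) h) χ (𝟙 _)
    rw [Category.comp_id] at this
    exact this
  choose b hb1 hb2 using key
  have hnat : ∀ {y' y : 𝒮.obj} (φ₀ : y' ⟶ y) (f : 𝒮.p.obj y ⟶ U),
      b y' (𝒮.p.map φ₀ ≫ f) ≫ φ₀ = φ₀ ≫ b y f := by
    intro y' y φ₀ f
    obtain ⟨b'', ⟨hb''1, hb''2⟩, -⟩ := existsUnique_pull h𝒮 φ₀ (b y f) (hb1 y f)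
    have hbb : b y' (𝒮.p.map φ₀ ≫ f) = b'' := by
      refine vert_ext_of_cover J hS (R.pullback (𝒮.p.map φ₀ ≫ f)) (J.pullback_stable _ hR) _ _
        (hb1 _ _) hb''1 ?_
      intro z χ hχ
      have hχ0 : R (𝒮.p.map χ ≫ 𝒮.p.map φ₀ ≫ f) := hχ
      have h1 := hb2 y' (𝒮.p.map φ₀ ≫ f) χ hχ0
      have hχ' : R (𝒮.p.map (χ ≫ φ₀) ≫ f) := by
        rw [Functor.map_comp, Category.assoc]
        exact hχ0
      have h2 := hb2 y f (χ ≫ φ₀) hχ'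
      have e : s (𝒮.p.map (χ ≫ φ₀) ≫ f) hχ' = s (𝒮.p.map χ ≫ 𝒮.p.map φ₀ ≫ f) hχ0 :=
        hscongr _ _ (by rw [Functor.map_comp, Category.assoc]) _ _
      rw [e] at h2
      have l0 := aut_lift ((s (𝒮.p.map χ ≫ 𝒮.p.map φ₀ ≫ f) hχ0).1 z (𝟙 _))
      have h3 : (χ ≫ b'') ≫ φ₀ =
          (((s (𝒮.p.map χ ≫ 𝒮.p.map φ₀ ≫ f) hχ0).1 z (𝟙 _)).hom.1 ≫ χ) ≫ φ₀ := by
        rw [Category.assoc, hb''2, Category.assoc, h2, Category.assoc]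
      have l1 : 𝒮.p.IsHomLift (𝒮.p.map χ) (χ ≫ b'') := by
        have : 𝒮.p.IsHomLift (𝒮.p.map χ ≫ 𝟙 _) (χ ≫ b'') := inferInstance
        simpa using this
      have l2 : 𝒮.p.IsHomLift (𝒮.p.map χ)
          (((s (𝒮.p.map χ ≫ 𝒮.p.map φ₀ ≫ f) hχ0).1 z (𝟙 _)).hom.1 ≫ χ) := by
        have : 𝒮.p.IsHomLift (𝟙 _ ≫ 𝒮.p.map χ)
          (((s (𝒮.p.map χ ≫ 𝒮.p.map φ₀ ≫ f) hχ0).1 z (𝟙 _)).hom.1 ≫ χ) := inferInstance
        simpa using this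
      have h4 : χ ≫ b'' = ((s (𝒮.p.map χ ≫ 𝒮.p.map φ₀ ≫ f) hχ0).1 z (𝟙 _)).hom.1 ≫ χ :=
        hom_ext_of_comp_eq h𝒮 (𝒮.p.map φ₀) φ₀ (𝒮.p.map χ) h3
      rw [← h1, h4]
    rw [hbb]
    exact hb''2
  let t : secSubgroup 𝒮 U := ⟨fun y f => mkAut h𝒮 (b y f) (hb1 y f), fun φ₀ f => hnat φ₀ f⟩
  have ht : ∀ {V : C} (g : V ⟶ U) (hg : R g), secRes g t = s g hg := by
    intro V g hg
    apply sec_ext
    intro y f'
    change b y (f' ≫ g) = ((s g hg).1 y f').hom.1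
    refine vert_ext_of_cover J hS (R.pullback (f' ≫ g)) (J.pullback_stable _ hR) _ _
      (hb1 _ _) (aut_lift _) ?_
    intro z φ hφ
    have hφ0 : R (𝒮.p.map φ ≫ f' ≫ g) := hφ
    have h1 := hb2 y (f' ≫ g) φ hφ0
    have e : s (𝒮.p.map φ ≫ f' ≫ g) hφ0 = secRes (𝒮.p.map φ ≫ f') (s g hg) := by
      rw [← hs g (𝒮.p.map φ ≫ f') hg]
      exact hscongr _ _ (Category.assoc _ _ _).symm _ _
    rw [e, secRes_apply, Category.id_comp] at h1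
    rw [← h1]
    exact sec_nat (s g hg) φ f'
  refine ⟨t, fun g hg => ht g hg, ?_⟩
  intro t' ht'
  apply sec_ext
  intro y f
  change (t'.1 y f).hom.1 = b y f
  refine vert_ext_of_cover J hS (R.pullback f) (J.pullback_stable _ hR) _ _ (aut_lift _)
    (hb1 _ _) ?_
  intro z φ hφ
  have hφ0 : R (𝒮.p.map φ ≫ f) := hφ
  have h1 := hb2 y f φ hφ0
  have e : (s (𝒮.p.map φ ≫ f) hφ0).1 z (𝟙 _) = t'.1 z (𝒮.p.map φ ≫ f) := by
    rw [← ht' (𝒮.p.map φ ≫ f) hφ0, secRes_apply, Category.id_comp]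
  rw [e] at h1
  rw [← h1]
  exact (sec_nat t' φ f).symm

theorem isSheaf_secPsh (hS : Stk.IsStack J 𝒮) : Presheaf.IsSheaf J (secPsh 𝒮) := by
  rw [Presheaf.isSheaf_iff_isSheaf_forget J (secPsh 𝒮) (forget GrpCat), isSheaf_iff_isSheaf_of_type]
  intro U R hR x hx
  have hx' := (Presieve.compatible_iff_sieveCompatible x).1 hx
  obtain ⟨t, ht, huniq⟩ := sec_glue J hS R hR (fun g hg => x g hg) (fun g h hg => hx' g h hg)
  exact ⟨t, fun V g hg => ht g hg, fun t' ht' => huniq t' (fun g hg => ht' g hg)⟩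

end Groth.Agent.Helper29.GerbC
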