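import Mathlib
import Groth.Prelude.Def_StGerb
import Groth.Agent.Lib.Helper29.GerbC

/-!
# A gerbe with commutative automorphism groups is banded by its sheaf of central automorphisms
(helper29)
-/

set_option autoImplicit false
set_option backward.isDefEq.respectTransparency false

universe v u

open CategoryTheory Opposite

namespace Groth.Agent.Helper29.GerbD

open FibCat Stk Groth.Agent.Helper19.FibLib Groth.Agent.Helper19.StkElem Groth.Agent.Helper29.GerbA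
  Groth.Agent.Helper29.GerbB Groth.Agent.Helper29.GerbC

variable {C : Type u} [Category.{v} C] {𝒮 : BasedCategory.{v, max u v} C}
  (J : GrothendieckTopology C)

theorem isHomLift_id_eqToHom {A B : C} (e : A = B) : (𝟭 C).IsHomLift (𝟙 A) (eqToHom e) := by
  subst e
  rw [eqToHom_refl]
  exact IsHomLift.id rfl

/-- in a gerbe, every object `y` maps locally to any object `x` over a given morphism of the
base. -/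
theorem exists_local_map (hG : Gerb.IsGerbe J 𝒮) (x y : 𝒮.obj) (f : 𝒮.p.obj y ⟶ 𝒮.p.obj x) :
    ∃ R ∈ J (𝒮.p.obj y), ∀ {z : 𝒮.obj} (φ : z ⟶ y), R (𝒮.p.map φ) →
      ∃ ψ : z ⟶ x, 𝒮.p.map ψ = 𝒮.p.map φ ≫ f := by
  have h𝒮 : IsFibGrpd 𝒮.p := hG.1.1
  obtain ⟨xf, lam, hlam⟩ := h𝒮.exists_lift (x := x) f
  have e : 𝒮.p.obj xf = 𝒮.p.obj y := IsHomLift.domain_eq 𝒮.p f lam
  have hb : (FibCat.selfOver C).p.IsHomLift (𝟙 (𝒮.p.obj y))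
      (eqToHom e.symm : 𝒮.p.obj y ⟶ 𝒮.p.obj xf) := isHomLift_id_eqToHom e.symm
  obtain ⟨R, hR, H⟩ := hG.2.2 y xf (eqToHom e.symm) hb
  refine ⟨R, hR, ?_⟩
  intro z φ hφ
  obtain ⟨x₀, φ₀, ψ₀, h1, h2, -⟩ := H (𝒮.p.map φ) hφ
  obtain ⟨χ, ⟨hχ, hχφ⟩, -⟩ := existsUnique_fac h𝒮 (𝒮.p.map φ) φ₀ (𝟙 (𝒮.p.obj z)) (𝒮.p.map φ)
    (by simp) φ
  refine ⟨χ ≫ ψ₀ ≫ lam, ?_⟩
  have h3 : 𝒮.p.IsHomLift (𝟙 (𝒮.p.obj z) ≫ 𝒮.p.map φ ≫ f) (χ ≫ ψ₀ ≫ lam) := inferInstance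
  have h4 := IsHomLift.eq_of_isHomLift 𝒮.p (𝟙 (𝒮.p.obj z) ≫ 𝒮.p.map φ ≫ f) (χ ≫ ψ₀ ≫ lam)
  rw [← h4, Category.id_comp]

/-- `b` is the automorphism of `y` induced by the automorphism `a` of `x`, along `f`. -/
def IsPullOf (x : 𝒮.obj) (a : x ⟶ x) (y : 𝒮.obj) (f : 𝒮.p.obj y ⟶ 𝒮.p.obj x) (b : y ⟶ y) : Prop :=
  ∀ {z : 𝒮.obj} (φ : z ⟶ y) (ψ : z ⟶ x), 𝒮.p.map ψ = 𝒮.p.map φ ≫ f → ∀ β : z ⟶ z,
    𝒮.p.IsHomLift (𝟙 (𝒮.p.obj z)) β → β ≫ ψ = ψ ≫ a → β ≫ φ = φ ≫ b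

theorem isPullOf_unique (hG : Gerb.IsGerbe J 𝒮) {x : 𝒮.obj} {a : x ⟶ x}
    (ha : 𝒮.p.IsHomLift (𝟙 (𝒮.p.obj x)) a) {y : 𝒮.obj} {f : 𝒮.p.obj y ⟶ 𝒮.p.obj x}
    {b₁ b₂ : y ⟶ y} (h₁ : 𝒮.p.IsHomLift (𝟙 (𝒮.p.obj y)) b₁)
    (h₂ : 𝒮.p.IsHomLift (𝟙 (𝒮.p.obj y)) b₂) (p₁ : IsPullOf x a y f b₁) (p₂ : IsPullOf x a y f b₂) :
    b₁ = b₂ := by
  have h𝒮 : IsFibGrpd 𝒮.p := hG.1.1
  obtain ⟨R, hR, H⟩ := exists_local_map J hG x y f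
  refine vert_ext_of_cover J hG.1 R hR b₁ b₂ h₁ h₂ ?_
  intro z φ hφ
  obtain ⟨ψ, hψ⟩ := H φ hφ
  obtain ⟨β, ⟨hβ1, hβ2⟩, -⟩ := existsUnique_pull h𝒮 ψ a ha
  rw [← p₁ φ ψ hψ β hβ1 hβ2, ← p₂ φ ψ hψ β hβ1 hβ2]

theorem isPullOf_self (h𝒮 : IsFibGrpd 𝒮.p)
    (hcomm : ∀ (x : 𝒮.obj) (α β : Gerb.AutO x), α * β = β * α) {x : 𝒮.obj} {a : x ⟶ x}
    (ha : 𝒮.p.IsHomLift (𝟙 (𝒮.p.obj x)) a) : IsPullOf x a x (𝟙 _) a := by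
  intro z φ ψ hψ β hβ e
  obtain ⟨β₂, ⟨hβ21, hβ22⟩, -⟩ := existsUnique_pull h𝒮 φ a ha
  rw [Category.comp_id] at hψ
  have := pull_indep h𝒮 hcomm ψ φ hψ a β β₂ hβ hβ21 e hβ22
  rw [this]
  exact hβ22

theorem isPullOf_comp (h𝒮 : IsFibGrpd 𝒮.p) {x : 𝒮.obj} {a : x ⟶ x} {y' y : 𝒮.obj}
    (φ₀ : y' ⟶ y) {f : 𝒮.p.obj y ⟶ 𝒮.p.obj x} {b : y ⟶ y} (hb : IsPullOf x a y f b)
    {b'' : y' ⟶ y'} (hb'' : 𝒮.p.IsHomLift (𝟙 (𝒮.p.obj y')) b'') (e : b'' ≫ φ₀ = φ₀ ≫ b) :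
    IsPullOf x a y' (𝒮.p.map φ₀ ≫ f) b'' := by
  intro z φ ψ hψ β hβ e₁
  have hψ' : 𝒮.p.map ψ = 𝒮.p.map (φ ≫ φ₀) ≫ f := by
    rw [hψ, Functor.map_comp, Category.assoc]
  have h1 := hb (φ ≫ φ₀) ψ hψ' β hβ e₁
  have h2 : (β ≫ φ) ≫ φ₀ = (φ ≫ b'') ≫ φ₀ := by
    rw [Category.assoc, h1, Category.assoc, Category.assoc, e]
  have l1 : 𝒮.p.IsHomLift (𝒮.p.map φ) (β ≫ φ) := by
    have : 𝒮.p.IsHomLift (𝟙 _ ≫ 𝒮.p.map φ) (β ≫ φ) := inferInstance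
    simpa using this
  have l2 : 𝒮.p.IsHomLift (𝒮.p.map φ) (φ ≫ b'') := by
    have : 𝒮.p.IsHomLift (𝒮.p.map φ ≫ 𝟙 _) (φ ≫ b'') := inferInstance
    simpa using this
  exact hom_ext_of_comp_eq h𝒮 (𝒮.p.map φ₀) φ₀ (𝒮.p.map φ) h2

theorem exists_isPullOf (hG : Gerb.IsGerbe J 𝒮)
    (hcomm : ∀ (x : 𝒮.obj) (α β : Gerb.AutO x), α * β = β * α) {x : 𝒮.obj} {a : x ⟶ x}
    (ha : 𝒮.p.IsHomLift (𝟙 (𝒮.p.obj x)) a) (y : 𝒮.obj) (f : 𝒮.p.obj y ⟶ 𝒮.p.obj x) :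
    ∃ b : y ⟶ y, 𝒮.p.IsHomLift (𝟙 (𝒮.p.obj y)) b ∧ IsPullOf x a y f b := by
  have h𝒮 : IsFibGrpd 𝒮.p := hG.1.1
  obtain ⟨R, hR, H⟩ := exists_local_map J hG x y f
  have hpull : ∀ {z : 𝒮.obj} (ψ : z ⟶ x), ∃ β : z ⟶ z,
      𝒮.p.IsHomLift (𝟙 (𝒮.p.obj z)) β ∧ β ≫ ψ = ψ ≫ a := fun ψ =>
    (existsUnique_pull h𝒮 ψ a ha).exists
  obtain ⟨b, hb1, hb2⟩ := exists_glue J hG.1 R hR
    (fun {z} φ h => (hpull (H φ h).choose).choose)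
    (fun φ h => (hpull (H φ h).choose).choose_spec.1) (by
      intro z' z χ φ h h'
      have hψ := (H φ h).choose_spec
      have hψ' := (H (χ ≫ φ) h').choose_spec
      have hβ := (hpull (H φ h).choose).choose_spec
      have hβ' := (hpull (H (χ ≫ φ) h').choose).choose_spec
      obtain ⟨β'', ⟨hβ''1, hβ''2⟩, -⟩ := existsUnique_pull h𝒮 χ _ hβ.1
      have e1 : β'' ≫ (χ ≫ (H φ h).choose) = (χ ≫ (H φ h).choose) ≫ a := by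
        rw [← Category.assoc, hβ''2, Category.assoc, hβ.2, Category.assoc]
      have e2 : 𝒮.p.map (χ ≫ (H φ h).choose) = 𝒮.p.map (H (χ ≫ φ) h').choose := by
        rw [hψ', Functor.map_comp, Functor.map_comp, hψ, Category.assoc]
      have := pull_indep h𝒮 hcomm _ _ e2 a β'' _ hβ''1 hβ'.1 e1 hβ'.2
      rw [← this]
      exact hβ''2)
  refine ⟨b, hb1, ?_⟩
  intro z φ ψ hψ β₁ hβ₁ e₁
  obtain ⟨b₁, ⟨hb₁1, hb₁2⟩, -⟩ := existsUnique_pull h𝒮 φ b hb1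
  have hRφ : R.pullback (𝒮.p.map φ) ∈ J (𝒮.p.obj z) := J.pullback_stable _ hR
  have key : β₁ = b₁ := by
    refine vert_ext_of_cover J hG.1 (R.pullback (𝒮.p.map φ)) hRφ β₁ b₁ hβ₁ hb₁1 ?_
    intro w χ hχ
    have hχ' : R (𝒮.p.map (χ ≫ φ)) := by
      rw [Functor.map_comp]
      exact hχ
    have g1 := hb2 (χ ≫ φ) hχ'
    have hψ'' := (H (χ ≫ φ) hχ').choose_spec
    have hβ := (hpull (H (χ ≫ φ) hχ').choose).choose_spec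
    -- (β(χ≫φ) ≫ χ) ≫ φ = (χ ≫ b₁) ≫ φ
    have g2 : ((hpull (H (χ ≫ φ) hχ').choose).choose ≫ χ) ≫ φ = (χ ≫ b₁) ≫ φ := by
      rw [Category.assoc, g1, Category.assoc, Category.assoc, hb₁2]
    have l1 : 𝒮.p.IsHomLift (𝒮.p.map χ) ((hpull (H (χ ≫ φ) hχ').choose).choose ≫ χ) := by
      have := hβ.1
      have : 𝒮.p.IsHomLift (𝟙 _ ≫ 𝒮.p.map χ) ((hpull (H (χ ≫ φ) hχ').choose).choose ≫ χ) :=
        inferInstance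
      simpa using this
    have l2 : 𝒮.p.IsHomLift (𝒮.p.map χ) (χ ≫ b₁) := by
      have : 𝒮.p.IsHomLift (𝒮.p.map χ ≫ 𝟙 _) (χ ≫ b₁) := inferInstance
      simpa using this
    have g3 : (hpull (H (χ ≫ φ) hχ').choose).choose ≫ χ = χ ≫ b₁ :=
      hom_ext_of_comp_eq h𝒮 (𝒮.p.map φ) φ (𝒮.p.map χ) g2
    obtain ⟨γ, ⟨hγ1, hγ2⟩, -⟩ := existsUnique_pull h𝒮 χ β₁ hβ₁
    have e3 : γ ≫ (χ ≫ ψ) = (χ ≫ ψ) ≫ a := by
      rw [← Category.assoc, hγ2, Category.assoc, e₁, Category.assoc]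
    have e4 : 𝒮.p.map (χ ≫ ψ) = 𝒮.p.map (H (χ ≫ φ) hχ').choose := by
      rw [hψ'', Functor.map_comp, Functor.map_comp, hψ, Category.assoc]
    have := pull_indep h𝒮 hcomm _ _ e4 a γ _ hγ1 hβ.1 e3 hβ.2
    rw [← hγ2, this, g3]
  rw [key]
  exact hb₁2

/-- evaluation of a central section at an object. -/
def evHom (x : 𝒮.obj) : secSubgroup 𝒮 (𝒮.p.obj x) →* Gerb.AutO x where
  toFun α := α.1 x (𝟙 _)
  map_one' := rfl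
  map_mul' _ _ := rfl

theorem evHom_injective (hG : Gerb.IsGerbe J 𝒮) (x : 𝒮.obj) : Function.Injective (evHom x) := by
  have h𝒮 : IsFibGrpd 𝒮.p := hG.1.1
  rw [injective_iff_map_eq_one]
  intro α hα
  have hα' : (α.1 x (𝟙 _)).hom.1 = 𝟙 x := congrArg (fun γ : Gerb.AutO x => γ.hom.1) hα
  apply sec_ext
  intro y f
  change (α.1 y f).hom.1 = 𝟙 y
  obtain ⟨R, hR, H⟩ := exists_local_map J hG x y f
  refine vert_ext_of_cover J hG.1 R hR _ _ (aut_lift _) inferInstance ?_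
  intro z φ hφ
  obtain ⟨ψ, hψ⟩ := H φ hφ
  have n1 := sec_nat α φ f
  have n2 := sec_nat α ψ (𝟙 _)
  rw [Category.comp_id, hψ, hα', Category.comp_id] at n2
  have l0 := aut_lift (α.1 z (𝒮.p.map φ ≫ f))
  have n3 : (α.1 z (𝒮.p.map φ ≫ f)).hom.1 = 𝟙 z := by
    refine cancel_vert h𝒮 ψ l0 inferInstance ?_
    rw [n2, Category.id_comp]
  rw [n3, Category.id_comp] at n1
  rw [← n1, Category.comp_id]

theorem evHom_surjective (hG : Gerb.IsGerbe J 𝒮)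
    (hcomm : ∀ (x : 𝒮.obj) (α β : Gerb.AutO x), α * β = β * α) (x : 𝒮.obj) :
    Function.Surjective (evHom x) := by
  have h𝒮 : IsFibGrpd 𝒮.p := hG.1.1
  intro a₀
  have ha := aut_lift a₀
  choose b hb1 hb2 using fun (y : 𝒮.obj) (f : 𝒮.p.obj y ⟶ 𝒮.p.obj x) =>
    exists_isPullOf J hG hcomm ha y f
  have hnat : ∀ {y' y : 𝒮.obj} (φ₀ : y' ⟶ y) (f : 𝒮.p.obj y ⟶ 𝒮.p.obj x),
      b y' (𝒮.p.map φ₀ ≫ f) ≫ φ₀ = φ₀ ≫ b y f := by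
    intro y' y φ₀ f
    obtain ⟨b'', ⟨hb''1, hb''2⟩, -⟩ := existsUnique_pull h𝒮 φ₀ (b y f) (hb1 y f)
    have h1 : IsPullOf x a₀.hom.1 y' (𝒮.p.map φ₀ ≫ f) b'' :=
      isPullOf_comp h𝒮 φ₀ (hb2 y f) hb''1 hb''2
    have h2 := isPullOf_unique J hG ha (hb1 y' _) hb''1 (hb2 y' _) h1
    rw [h2]
    exact hb''2
  refine ⟨⟨fun y f => mkAut h𝒮 (b y f) (hb1 y f), fun φ₀ f => hnat φ₀ f⟩, ?_⟩
  apply aut_ext
  change b x (𝟙 _) = a₀.hom.1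
  exact isPullOf_unique J hG ha (hb1 x _) ha (hb2 x _) (isPullOf_self h𝒮 hcomm ha)

/-- the banding of a gerbe with commutative automorphism groups by its central sections. -/
noncomputable def banding (hG : Gerb.IsGerbe J 𝒮)
    (hcomm : ∀ (x : 𝒮.obj) (α β : Gerb.AutO x), α * β = β * α) :
    Gerb.Banding 𝒮 (secPsh 𝒮) where
  iso x := MulEquiv.ofBijective (evHom x) ⟨evHom_injective J hG x, evHom_surjective J hG hcomm x⟩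
  natural {x' x} φ a := by
    change ((secRes (𝒮.p.map φ) a).1 x' (𝟙 _)).hom.1 ≫ φ = φ ≫ (a.1 x (𝟙 _)).hom.1
    rw [secRes_apply, Category.id_comp]
    have := sec_nat a φ (𝟙 _)
    rw [Category.comp_id] at this
    exact this

theorem main (hG : Gerb.IsGerbe J 𝒮)
    (hcomm : ∀ (x : 𝒮.obj) (α β : Gerb.AutO x), α * β = β * α) :
    ∃ G : Sheaf J GrpCat.{max u v}, (∀ (U : C) (a b : G.obj.obj (op U)), a * b = b * a) ∧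
      Nonempty (Gerb.Banding 𝒮 G.obj) :=
  ⟨⟨secPsh 𝒮, isSheaf_secPsh J hG.1⟩, fun U a b => secPsh_comm 𝒮 hcomm U a b,
    ⟨banding J hG hcomm⟩⟩

end Groth.Agent.Helper29.GerbD
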