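import Mathlib
import Groth.Prelude.Def_SGA4a

set_option autoImplicit false
universe w v u
open CategoryTheory CategoryTheory.Limits Opposite

namespace Groth.Agent.Helper29.GirA

variable {E : Type v} [Category.{u} E]

section Cofan

variable {X : E} {ι : Type w} {Y : ι → E} {s : ∀ i, Y i ⟶ X}

/-- pulled-back cofan of a universal colimit cofan is a colimit -/
lemma pullback_cofan_isColimit (huniv : IsUniversalColimit (Cofan.mk X s)) {Z : E} (g : Z ⟶ X)
    (P : ι → E) (p₁ : ∀ i, P i ⟶ Y i) (p₂ : ∀ i, P i ⟶ Z)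
    (hP : ∀ i, IsPullback (p₁ i) (p₂ i) (s i) g) :
    Nonempty (IsColimit (Cofan.mk Z p₂)) := by
  refine huniv (Cofan.mk Z p₂) (Discrete.natTrans fun i => p₁ i.as) g ?_ (.of_discrete _) ?_
  · ext ⟨i⟩
    simpa using (hP i).w
  · rintro ⟨i⟩
    exact (hP i).flip

/-- pulled-back cofan of a universal colimit cofan is again universal -/
lemma pullback_cofan_isUniversal (huniv : IsUniversalColimit (Cofan.mk X s)) {Z : E} (g : Z ⟶ X)
    (P : ι → E) (p₁ : ∀ i, P i ⟶ Y i) (p₂ : ∀ i, P i ⟶ Z)
    (hP : ∀ i, IsPullback (p₁ i) (p₂ i) (s i) g) :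
    IsUniversalColimit (Cofan.mk Z p₂) := by
  intro F' c' α f hα hα' hc'
  refine huniv c' (α ≫ Discrete.natTrans fun i => p₁ i.as) (f ≫ g) ?_ ?_ ?_
  · ext ⟨i⟩
    have h1 := congrArg (fun t => t.app ⟨i⟩) hα
    simp only [NatTrans.comp_app, Functor.const_map_app] at h1
    simp only [NatTrans.comp_app, Category.assoc, Functor.const_map_app]
    have h2 : p₁ i ≫ s i = p₂ i ≫ g := (hP i).w
    have h3 : α.app ⟨i⟩ ≫ p₂ i = c'.ι.app ⟨i⟩ ≫ f := h1
    calc α.app ⟨i⟩ ≫ p₁ i ≫ s i = (α.app ⟨i⟩ ≫ p₂ i) ≫ g := by rw [h2, Category.assoc]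
      _ = c'.ι.app ⟨i⟩ ≫ f ≫ g := by rw [h3, Category.assoc]
  · exact NatTrans.Equifibered.of_discrete _
  · rintro ⟨i⟩
    exact (hc' ⟨i⟩).paste_vert (hP i).flip

/-- an object mapping to two different summands of a universal coproduct has at most one map to
any object -/
lemma hom_unique_of_two (huniv : IsUniversalColimit (Cofan.mk X s))
    [∀ (i : ι) (Z : E) (g : Z ⟶ X), HasPullback (s i) g] {Z : E} {i j : ι} (hij : i ≠ j)
    (a : Z ⟶ Y i) (b : Z ⟶ Y j) (hab : a ≫ s i = b ≫ s j) {W : E} (f g : Z ⟶ W) : f = g := by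
  classical
  let h : Z ⟶ X := a ≫ s i
  obtain ⟨hc⟩ := pullback_cofan_isColimit huniv h (fun k => pullback (s k) h)
    (fun k => pullback.fst _ _) (fun k => pullback.snd _ _)
    (fun k => IsPullback.of_hasPullback _ _)
  let σi : Z ⟶ pullback (s i) h := pullback.lift a (𝟙 Z) (by simp [h])
  let σj : Z ⟶ pullback (s j) h := pullback.lift b (𝟙 Z) (by simp [h, hab])
  have hi : σi ≫ pullback.snd (s i) h = 𝟙 Z := pullback.lift_snd _ _ _
  have hj : σj ≫ pullback.snd (s j) h = 𝟙 Z := pullback.lift_snd _ _ _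
  let F : ∀ k, pullback (s k) h ⟶ W := fun k =>
    if k = j then pullback.snd (s k) h ≫ g else pullback.snd (s k) h ≫ f
  let d : Z ⟶ W := Cofan.IsColimit.desc hc F
  have hd : ∀ k, pullback.snd (s k) h ≫ d = F k := fun k => Cofan.IsColimit.fac hc F k
  have e1 : d = f := by
    have h1 := hd i
    simp only [F, if_neg hij] at h1
    calc d = σi ≫ pullback.snd (s i) h ≫ d := by rw [← Category.assoc, hi, Category.id_comp]
    _ = σi ≫ pullback.snd (s i) h ≫ f := by rw [h1]
    _ = f := by rw [← Category.assoc, hi, Category.id_comp]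
  have e2 : d = g := by
    have h1 := hd j
    simp only [F, if_true] at h1
    calc d = σj ≫ pullback.snd (s j) h ≫ d := by rw [← Category.assoc, hj, Category.id_comp]
    _ = σj ≫ pullback.snd (s j) h ≫ g := by rw [h1]
    _ = g := by rw [← Category.assoc, hj, Category.id_comp]
  exact e1.symm.trans e2

end Cofan

/-- if every object over `Z` is "initial", the empty sieve covers `Z` canonically -/
lemma bot_mem_canonical {Z : E}
    (H : ∀ ⦃Z' : E⦄ (_ : Z' ⟶ Z) (W : E), Nonempty (Unique (Z' ⟶ W))) :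
    (⊥ : Sieve Z) ∈ Sheaf.canonicalTopology E Z := by
  refine Sheaf.mem_finestTopology_of_forall_isSheafFor ?_
  rintro _ ⟨W, rfl⟩ Z' g
  obtain ⟨hu⟩ := H g W
  intro x _
  refine ⟨(default : Z' ⟶ W), ?_, fun y _ => Subsingleton.elim _ _⟩
  intro V f hf
  exact hf.elim

/-- a universal colimit cofan generates a canonical covering sieve -/
lemma ofArrows_mem_canonical {X : E} {ι : Type w} {Y : ι → E} {s : ∀ i, Y i ⟶ X}
    (huniv : IsUniversalColimit (Cofan.mk X s))
    [∀ (i : ι) (Z : E) (g : Z ⟶ X), HasPullback (s i) g] :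
    Sieve.ofArrows Y s ∈ Sheaf.canonicalTopology E X := by
  refine Sheaf.mem_finestTopology_of_forall_isSheafFor ?_
  rintro _ ⟨W, rfl⟩ Z g
  have e : ((Sieve.ofArrows Y s).pullback g) = Sieve.generate (Presieve.ofArrows
      (fun i => pullback (s i) g) (fun i => pullback.snd (s i) g)) := by
    rw [Presieve.ofArrows_pullback, Sieve.pullbackArrows_comm]
  rw [e, ← Presieve.isSheafFor_iff_generate, Presieve.isSheafFor_arrows_iff]
  intro x _
  obtain ⟨hc⟩ := pullback_cofan_isColimit huniv g _ (fun k => pullback.fst (s k) g)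
    (fun k => pullback.snd (s k) g) (fun k => IsPullback.of_hasPullback _ _)
  refine ⟨Cofan.IsColimit.desc hc x, fun i => ?_, fun t ht => ?_⟩
  · exact Cofan.IsColimit.fac hc x i
  · refine Cofan.IsColimit.hom_ext hc _ _ (fun i => ?_)
    rw [Cofan.IsColimit.fac]
    exact ht i

/-- a universal effective epimorphism generates a covering sieve for the canonical topology -/
lemma cover_of_universal [HasPullbacks E] {X B : E} (π : X ⟶ B)
    (hue : ∀ (B' : E) (g : B' ⟶ B), EffectiveEpi (pullback.snd π g)) :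
    Sieve.generate (Presieve.singleton π) ∈ Sheaf.canonicalTopology E B := by
  apply Sheaf.mem_finestTopology_of_forall_isSheafFor
  rintro _ ⟨W, rfl⟩ Y f
  rw [← Sieve.pullbackArrows_comm, ← Presieve.isSheafFor_iff_generate, Presieve.pullback_singleton]
  haveI := hue Y f
  exact Presieve.IsSheafFor.singleton_of_isRepresentable_of_effectiveEpi _ _

end Groth.Agent.Helper29.GirA
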