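import Mathlib
import Groth.Prelude.Def_SGA4a
import Groth.Agent.Lib.Helper29.GirA

set_option autoImplicit false
universe w v u
open CategoryTheory CategoryTheory.Limits Opposite

namespace Groth.Agent.Helper29.GirB

open Groth.Agent.Helper29.GirA

variable {E : Type v} [Category.{u} E] [HasFiniteLimits E]

/-- the kernel pair of a morphism is an equivalence relation -/
lemma kernelPair_isEquivRel {B X : E} (e : B ⟶ X) :
    SGA4.IsEquivRel (pullback.fst e e) (pullback.snd e e) := by
  intro T
  have key : ∀ a b : T ⟶ B, (∃ f : T ⟶ pullback e e, f ≫ pullback.fst e e = a ∧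
      f ≫ pullback.snd e e = b) ↔ a ≫ e = b ≫ e := by
    intro a b
    constructor
    · rintro ⟨f, rfl, rfl⟩
      rw [Category.assoc, Category.assoc, pullback.condition]
    · intro h
      exact ⟨pullback.lift a b h, pullback.lift_fst _ _ _, pullback.lift_snd _ _ _⟩
  refine ⟨?_, ?_⟩
  · intro f g h
    simp only [Prod.mk.injEq] at h
    exact pullback.hom_ext h.1 h.2
  · refine ⟨fun a => (key a a).2 rfl, fun {a b} h => (key b a).2 ((key a b).1 h).symm,
      fun {a b c} h₁ h₂ => (key a c).2 (((key a b).1 h₁).trans ((key b c).1 h₂))⟩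

variable (hc : ∀ (R A : E) (p₁ p₂ : R ⟶ A), SGA4.IsEquivRel p₁ p₂ →
  SGA4.IsEffectiveUniversalEquivRel p₁ p₂)

include hc in
/-- regular image factorisation -/
lemma exists_image {B X : E} (e : B ⟶ X) :
    ∃ (U : E) (q : B ⟶ U) (m : U ⟶ X), q ≫ m = e ∧ Mono m ∧
      ∀ (B' : E) (g : B' ⟶ U), EffectiveEpi (pullback.snd q g) := by
  obtain ⟨U, q, hpb, hpo, hue⟩ := hc _ _ _ _ (kernelPair_isEquivRel e)
  refine ⟨U, q, hpo.desc e e pullback.condition, hpo.inl_desc _ _ _, ?_, hue⟩
  set m := hpo.desc e e pullback.condition with hm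
  have hqm : q ≫ m = e := hpo.inl_desc _ _ _
  constructor
  intro T a b hab
  have h1 := hue T a
  have h2 := hue (pullback q a) (pullback.snd q a ≫ b)
  have c1 : pullback.fst q a ≫ q = pullback.snd q a ≫ a := pullback.condition
  have c2 : pullback.fst q (pullback.snd q a ≫ b) ≫ q =
      pullback.snd q (pullback.snd q a ≫ b) ≫ pullback.snd q a ≫ b := pullback.condition
  have h3 : (pullback.snd q (pullback.snd q a ≫ b) ≫ pullback.fst q a) ≫ e =
      pullback.fst q (pullback.snd q a ≫ b) ≫ e := by
    rw [← hqm, Category.assoc, reassoc_of% c1, hab, reassoc_of% c2]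
  have h4 : (pullback.snd q (pullback.snd q a ≫ b) ≫ pullback.fst q a) ≫ q =
      pullback.fst q (pullback.snd q a ≫ b) ≫ q := by
    have := hpb.w
    calc (pullback.snd q (pullback.snd q a ≫ b) ≫ pullback.fst q a) ≫ q
        = (pullback.lift _ _ h3 ≫ pullback.fst e e) ≫ q := by rw [pullback.lift_fst]
      _ = (pullback.lift _ _ h3 ≫ pullback.snd e e) ≫ q := by
          rw [Category.assoc, hpb.w, ← Category.assoc]
      _ = _ := by rw [pullback.lift_snd]
  rw [← cancel_epi (pullback.snd q a), ← cancel_epi (pullback.snd q (pullback.snd q a ≫ b)),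
    ← c2, ← h4, Category.assoc, c1]

/-- a mono through which every map from a detecting family factors is an isomorphism -/
lemma isIso_of_detecting {P : ObjectProperty E} (hP : P.IsDetecting) {U X : E} (m : U ⟶ X)
    [Mono m] (h : ∀ (G : E) (_ : P G) (g : G ⟶ X), ∃ g' : G ⟶ U, g' ≫ m = g) : IsIso m :=
  (hP.isIso_iff_of_mono m).2 (fun G hG g => h G hG g)

end Groth.Agent.Helper29.GirB
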