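import Mathlib
import Groth.Prelude.Def_SGA4a
import Groth.Agent.Lib.Helper29.GirB

set_option autoImplicit false
universe w v u
open CategoryTheory CategoryTheory.Limits Opposite

namespace Groth.Agent.Helper29.GirC

open Groth.Agent.Helper29.GirA Groth.Agent.Helper29.GirB

variable {E : Type v} [Category.{u} E]

/-- index type for the small family of generators -/
abbrev Idx (P : ObjectProperty E) [ObjectProperty.Small.{u} P] : Type u :=
  Shrink.{u} (Subtype P)

/-- the generators -/
noncomputable def gen (P : ObjectProperty E) [ObjectProperty.Small.{u} P] (i : Idx P) : E :=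
  ((equivShrink.{u} (Subtype P)).symm i).1

lemma gen_prop (P : ObjectProperty E) [ObjectProperty.Small.{u} P] (i : Idx P) : P (gen P i) :=
  ((equivShrink.{u} (Subtype P)).symm i).2

lemma exists_gen (P : ObjectProperty E) [ObjectProperty.Small.{u} P] {G : E} (hG : P G) :
    ∃ i : Idx P, gen P i = G := by
  obtain ⟨i, hi⟩ := (equivShrink.{u} (Subtype P)).symm.surjective ⟨G, hG⟩
  exact ⟨i, congrArg Subtype.val hi⟩

variable [HasFiniteLimits E]
variable (hb : SGA4.HasDisjointUniversalCoproducts.{v, u} E)
variable (hc : ∀ (R A : E) (p₁ p₂ : R ⟶ A), SGA4.IsEquivRel p₁ p₂ →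
  SGA4.IsEffectiveUniversalEquivRel p₁ p₂)
variable {P : ObjectProperty E} [ObjectProperty.Small.{u} P] (hP : P.IsDetecting)

local notation "K" => Sheaf.canonicalTopology E

/-- a universal colimit cofan is canonically covering (unbundled form) -/
lemma cofan_cover {ι : Type u} {X : ι → E} (c : Cofan X) (huniv : IsUniversalColimit c) :
    Sieve.ofArrows X c.inj ∈ K c.pt := by
  have h1 : IsUniversalColimit (Cofan.mk c.pt c.inj) :=
    IsUniversalColimit.of_iso huniv (Cofan.ext (Iso.refl _) (by simp))
  exact ofArrows_mem_canonical h1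

/-- pulled back cofan is canonically covering -/
lemma pullback_cofan_cover {ι : Type u} {X : ι → E} (c : Cofan X) (huniv : IsUniversalColimit c)
    {Y : E} (k : Y ⟶ c.pt) :
    Sieve.ofArrows (fun i => pullback (c.inj i) k) (fun i => pullback.snd (c.inj i) k) ∈ K Y := by
  have h1 : IsUniversalColimit (Cofan.mk c.pt c.inj) :=
    IsUniversalColimit.of_iso huniv (Cofan.ext (Iso.refl _) (by simp))
  have h2 := pullback_cofan_isUniversal h1 k (fun i => pullback (c.inj i) k)
    (fun i => pullback.fst _ _) (fun i => pullback.snd _ _)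
    (fun i => IsPullback.of_hasPullback _ _)
  exact ofArrows_mem_canonical h2

include hb hc hP in
/-- the maps from generators form a canonical covering of every object -/
lemma generators_cover (X : E) :
    Sieve.ofArrows (fun k : (Σ i : Idx P, (gen P i ⟶ X)) => gen P k.1) (fun k => k.2) ∈ K X := by
  obtain ⟨c, hcol, hdisj, huniv⟩ := hb (Σ i : Idx P, (gen P i ⟶ X)) (fun k => gen P k.1)
  let e : c.pt ⟶ X := Cofan.IsColimit.desc hcol (fun k => k.2)
  have he : ∀ k, c.inj k ≫ e = k.2 := fun k => Cofan.IsColimit.fac hcol _ k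
  obtain ⟨U, q, m, hqm, hmono, hue⟩ := exists_image hc e
  have hiso : IsIso m := by
    apply isIso_of_detecting hP m
    intro G hG g
    obtain ⟨i, rfl⟩ := exists_gen P hG
    exact ⟨c.inj ⟨i, g⟩ ≫ q, by rw [Category.assoc, hqm, he]⟩
  have hSq := cover_of_universal q hue
  have hSe : Sieve.generate (Presieve.singleton e) ∈ K X := by
    refine (K).superset_covering ?_ ((K).pullback_stable (inv m) hSq)
    intro Y h hh
    obtain ⟨Z, k, f, hf, hkf⟩ := hh
    obtain ⟨⟩ := hf
    refine ⟨_, k, e, Presieve.singleton.mk, ?_⟩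
    rw [← hqm, ← Category.assoc, hkf, Category.assoc, IsIso.inv_hom_id, Category.comp_id]
  refine (K).transitive hSe _ ?_
  intro Y h hh
  obtain ⟨Z, k, f, hf, hkf⟩ := hh
  obtain ⟨⟩ := hf
  refine (K).superset_covering ?_ (pullback_cofan_cover c huniv k)
  intro W t ht
  obtain ⟨Z', a, _, ⟨j⟩, rfl⟩ := ht
  change Sieve.ofArrows _ _ ((a ≫ pullback.snd (c.inj j) k) ≫ h)
  have : (a ≫ pullback.snd (c.inj j) k) ≫ h = (a ≫ pullback.fst (c.inj j) k) ≫ j.2 := by
    rw [← hkf, Category.assoc, Category.assoc, ← he j, pullback.condition_assoc]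
  rw [this]
  exact Sieve.downward_closed _ (Sieve.ofArrows_mk _ _ j) _

end Groth.Agent.Helper29.GirC
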