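import Mathlib
import Groth.Prelude.Def_SGA4a
import Groth.Agent.Lib.Helper29.GirC

set_option autoImplicit false
universe w v u
open CategoryTheory CategoryTheory.Limits Opposite

namespace Groth.Agent.Helper29.GirD

open Groth.Agent.Helper29.GirA Groth.Agent.Helper29.GirB Groth.Agent.Helper29.GirC

variable {E : Type v} [Category.{u} E] [HasFiniteLimits E]

local notation "K" => Sheaf.canonicalTopology E

/-- a canonical sheaf takes a disjoint universal coproduct to a product (existence part) -/
lemma coprod_sections {F : Eᵒᵖ ⥤ Type u} (hF : Presheaf.IsSheaf K F) {ι : Type u} {X : ι → E}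
    (c : Cofan X) (hcol : IsColimit c) [CoproductDisjoint X] (huniv : IsUniversalColimit c)
    (x : ∀ i, F.obj (op (X i))) : ∃ t : F.obj (op c.pt), ∀ i, F.map (c.inj i).op t = x i := by
  have hcov := cofan_cover c huniv
  have hsh := ((isSheaf_iff_isSheaf_of_type K F).1 hF) _ hcov
  change Presieve.IsSheafFor F (Sieve.generate (Presieve.ofArrows X c.inj)).arrows at hsh
  rw [← Presieve.isSheafFor_iff_generate, Presieve.isSheafFor_arrows_iff] at hsh
  have h1 : IsUniversalColimit (Cofan.mk c.pt c.inj) :=
    IsUniversalColimit.of_iso huniv (Cofan.ext (Iso.refl _) (by simp))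
  have compat : Presieve.Arrows.Compatible F c.inj x := by
    intro i j Z gi gj h
    by_cases hij : i = j
    · subst hij
      have : Mono (c.inj i) := CoproductDisjoint.mono_inj hcol i
      rw [(cancel_mono _).mp h]
    · have I : IsInitial (pullback (c.inj i) (c.inj j)) :=
        IsInitial.ofCoproductDisjointOfIsColimit hij hcol
      have hbot : (⊥ : Sieve Z) ∈ K Z := by
        refine bot_mem_canonical ?_
        intro Z' g W
        exact ⟨{ default := (g ≫ pullback.lift gi gj h) ≫ I.to W
                 uniq := fun f => hom_unique_of_two h1 hij (g ≫ gi) (g ≫ gj)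
                    (by simp only [Category.assoc]; rw [show gi ≫ c.inj i = gj ≫ c.inj j from h])
                    _ _ }⟩
      have := Types.isTerminalEquivUnique _
        (Sheaf.isTerminalOfBotCover (⟨F, hF⟩ : Sheaf K (Type u)) Z hbot)
      exact Subsingleton.elim _ _
  obtain ⟨t, ht, _⟩ := hsh x compat
  exact ⟨t, ht⟩

end Groth.Agent.Helper29.GirD
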