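import Mathlib
import Groth.Prelude.Def_SGA4a
import Groth.Agent.Lib.Helper29.GirD

set_option autoImplicit false
universe w v u
open CategoryTheory CategoryTheory.Limits Opposite

namespace Groth.Agent.Helper29.GirE

open Groth.Agent.Helper29.GirA Groth.Agent.Helper29.GirB Groth.Agent.Helper29.GirC
  Groth.Agent.Helper29.GirD

variable {E : Type v} [Category.{u} E] [HasFiniteLimits E]
variable (hb : SGA4.HasDisjointUniversalCoproducts.{v, u} E)
variable (hc : ∀ (R A : E) (p₁ p₂ : R ⟶ A), SGA4.IsEquivRel p₁ p₂ →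
  SGA4.IsEffectiveUniversalEquivRel p₁ p₂)
variable {P : ObjectProperty E} [ObjectProperty.Small.{u} P] (hP : P.IsDetecting)

local notation "K" => Sheaf.canonicalTopology E

/-- the sieve generated by a monomorphism is closed for the canonical topology -/
lemma mono_sieve_closed {U X : E} (m : U ⟶ X) [Mono m] {Y : E} (h : Y ⟶ X)
    (hcov : (Sieve.generate (Presieve.singleton m)).pullback h ∈ K Y) :
    ∃ h' : Y ⟶ U, h' ≫ m = h := by
  have hU : Presieve.IsSheafFor (yoneda.obj U)
      ((Sieve.generate (Presieve.singleton m)).pullback h).arrows :=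
    Sheaf.isSheaf_yoneda_obj U _ hcov
  have hX : Presieve.IsSheafFor (yoneda.obj X)
      ((Sieve.generate (Presieve.singleton m)).pullback h).arrows :=
    Sheaf.isSheaf_yoneda_obj X _ hcov
  have hfac : ∀ ⦃Z : E⦄ (f : Z ⟶ Y), (Sieve.generate (Presieve.singleton m)).pullback h f →
      ∃ f' : Z ⟶ U, f' ≫ m = f ≫ h := by
    intro Z f hf
    obtain ⟨W, k, g, hg, hkg⟩ := hf
    obtain ⟨⟩ := hg
    exact ⟨k, hkg⟩
  choose l hl using hfac
  let x : Presieve.FamilyOfElements (yoneda.obj U)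
      ((Sieve.generate (Presieve.singleton m)).pullback h).arrows := fun Z f hf => l f hf
  have hx : x.Compatible := by
    intro Y₁ Y₂ Z g₁ g₂ f₁ f₂ h₁ h₂ w
    change g₁ ≫ l f₁ h₁ = g₂ ≫ l f₂ h₂
    rw [← cancel_mono m, Category.assoc, Category.assoc, hl, hl, ← Category.assoc,
      ← Category.assoc, w]
  obtain ⟨t, ht, _⟩ := hU x hx
  refine ⟨t, ?_⟩
  apply hX.isSeparatedFor.ext
  intro Z f hf
  change f ≫ t ≫ m = f ≫ h
  have h3 : f ≫ t = l f hf := ht f hf
  rw [← Category.assoc, h3, hl]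

include hb hc hP in
/-- a sieve which is closed for the canonical topology is generated by a monomorphism:
closed subfunctors of representables are representable -/
lemma closed_sieve_representable {X : E} (S : Sieve X)
    (hS : ∀ ⦃Y : E⦄ (h : Y ⟶ X), S.pullback h ∈ K Y → S h) :
    ∃ (U : E) (m : U ⟶ X), Mono m ∧ ∀ ⦃Y : E⦄ (h : Y ⟶ X), S h ↔ ∃ h' : Y ⟶ U, h' ≫ m = h := by
  obtain ⟨c, hcol, hdisj, huniv⟩ := hb (Σ i : Idx P, {g : gen P i ⟶ X // S g})
    (fun k => gen P k.1)
  let e : c.pt ⟶ X := Cofan.IsColimit.desc hcol (fun k => k.2.1)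
  have he : ∀ k, c.inj k ≫ e = k.2.1 := fun k => Cofan.IsColimit.fac hcol _ k
  obtain ⟨U, q, m, hqm, hmono, hue⟩ := exists_image hc e
  have hke : ∀ ⦃Y : E⦄ (k : Y ⟶ c.pt), S (k ≫ e) := by
    intro Y k
    apply hS
    refine (K).superset_covering ?_ (pullback_cofan_cover c huniv k)
    intro W t ht
    obtain ⟨Z', a, _, ⟨j⟩, rfl⟩ := ht
    change S ((a ≫ pullback.snd (c.inj j) k) ≫ k ≫ e)
    have : (a ≫ pullback.snd (c.inj j) k) ≫ k ≫ e = (a ≫ pullback.fst (c.inj j) k) ≫ j.2.1 := by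
      rw [Category.assoc, Category.assoc, ← he j, pullback.condition_assoc]
    rw [this]
    exact S.downward_closed j.2.2 _
  have hSm : S m := by
    apply hS
    refine (K).superset_covering ?_ (cover_of_universal q hue)
    intro Y h hh
    obtain ⟨Z, k, f, hf, hkf⟩ := hh
    obtain ⟨⟩ := hf
    change S (h ≫ m)
    rw [← hkf, Category.assoc, hqm]
    exact hke k
  refine ⟨U, m, hmono, ?_⟩
  intro Y h
  constructor
  · intro hh
    apply mono_sieve_closed m h
    refine (K).superset_covering ?_ (generators_cover hb hc hP Y)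
    intro W t ht
    obtain ⟨Z', a, _, ⟨j⟩, rfl⟩ := ht
    obtain ⟨i, g⟩ := j
    change Sieve.generate (Presieve.singleton m) ((a ≫ g) ≫ h)
    have hgS : S (g ≫ h) := S.downward_closed hh g
    refine ⟨_, a ≫ c.inj ⟨i, ⟨g ≫ h, hgS⟩⟩ ≫ q, m, Presieve.singleton.mk, ?_⟩
    rw [Category.assoc, Category.assoc, hqm, he, Category.assoc]
  · rintro ⟨h', rfl⟩
    exact S.downward_closed hSm h'

end Groth.Agent.Helper29.GirE
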