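import Mathlib
import Groth.Prelude.Def_SGA4a
import Groth.Agent.Lib.Helper29.GirE

set_option autoImplicit false
universe w v u
open CategoryTheory CategoryTheory.Limits Opposite

namespace Groth.Agent.Helper29.GirF

open Groth.Agent.Helper29.GirA Groth.Agent.Helper29.GirB Groth.Agent.Helper29.GirC
  Groth.Agent.Helper29.GirD Groth.Agent.Helper29.GirE

variable {E : Type v} [Category.{u} E] [HasFiniteLimits E]
variable (hb : SGA4.HasDisjointUniversalCoproducts.{v, u} E)
variable (hc : ∀ (R A : E) (p₁ p₂ : R ⟶ A), SGA4.IsEquivRel p₁ p₂ →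
  SGA4.IsEffectiveUniversalEquivRel p₁ p₂)
variable {P : ObjectProperty E} [ObjectProperty.Small.{u} P] (hP : P.IsDetecting)

local notation "K" => Sheaf.canonicalTopology E

include hb hc hP in
/-- every sheaf for the canonical topology is representable (elementwise form) -/
lemma exists_representation (F : Eᵒᵖ ⥤ Type u) (hF : Presheaf.IsSheaf K F) :
    ∃ (Q : E) (ζ : F.obj (op Q)),
      (∀ ⦃T : E⦄ (g₁ g₂ : T ⟶ Q), F.map g₁.op ζ = F.map g₂.op ζ → g₁ = g₂) ∧
      (∀ ⦃T : E⦄ (s : F.obj (op T)), Sieve.ofArrows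
          (fun k : (Σ i : Idx P, (gen P i ⟶ T)) => gen P k.1) (fun k => k.2) ≤
        { arrows := fun Z f => ∃ y : Z ⟶ Q, F.map y.op ζ = F.map f.op s
          downward_closed := by
            rintro Y Z f ⟨y, hy⟩ g
            exact ⟨g ≫ y, by rw [op_comp, op_comp, F.map_comp, F.map_comp]; simp [hy]⟩ }) := by
  have hFs := (isSheaf_iff_isSheaf_of_type K F).1 hF
  -- step 1: cover `F` by a coproduct of generators
  obtain ⟨c, hcol, hdisj, huniv⟩ := hb (Σ i : Idx P, F.obj (op (gen P i))) (fun k => gen P k.1)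
  obtain ⟨ξ, hξ⟩ := coprod_sections hF c hcol huniv (fun k => k.2)
  -- step 2: the kernel pair of `ξ` as a closed sieve on `A ⨯ A`
  let S : Sieve (c.pt ⨯ c.pt) :=
    { arrows := fun Z h => F.map (h ≫ prod.fst).op ξ = F.map (h ≫ prod.snd).op ξ
      downward_closed := by
        intro Y Z f hf g
        simp only [Category.assoc, op_comp, F.map_comp] at hf ⊢
        simp only [types_comp_apply] at hf ⊢
        rw [hf] }
  have hSclosed : ∀ ⦃Y : E⦄ (h : Y ⟶ c.pt ⨯ c.pt), S.pullback h ∈ K Y → S h := by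
    intro Y h hcov
    apply (hFs _ hcov).isSeparatedFor.ext
    intro Z f hf
    have hf' : F.map ((f ≫ h) ≫ prod.fst).op ξ = F.map ((f ≫ h) ≫ prod.snd).op ξ := hf
    simp only [Category.assoc, op_comp, F.map_comp, types_comp_apply] at hf' ⊢
    exact hf'
  obtain ⟨R₀, m, hmono, hm⟩ := closed_sieve_representable hb hc hP S hSclosed
  have hER : SGA4.IsEquivRel (m ≫ prod.fst) (m ≫ prod.snd) := by
    intro T
    have key : ∀ a b : T ⟶ c.pt, (∃ f : T ⟶ R₀, f ≫ (m ≫ prod.fst) = a ∧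
        f ≫ (m ≫ prod.snd) = b) ↔ F.map a.op ξ = F.map b.op ξ := by
      intro a b
      have h1 : S (prod.lift a b) ↔ F.map a.op ξ = F.map b.op ξ := by
        change F.map (prod.lift a b ≫ prod.fst).op ξ = F.map (prod.lift a b ≫ prod.snd).op ξ ↔ _
        rw [prod.lift_fst, prod.lift_snd]
      rw [← h1, hm]
      constructor
      · rintro ⟨f, rfl, rfl⟩
        refine ⟨f, ?_⟩
        apply Limits.prod.hom_ext
        · rw [prod.lift_fst, Category.assoc]
        · rw [prod.lift_snd, Category.assoc]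
      · rintro ⟨f, hf⟩
        refine ⟨f, ?_, ?_⟩
        · rw [← Category.assoc, hf, prod.lift_fst]
        · rw [← Category.assoc, hf, prod.lift_snd]
    refine ⟨?_, ?_⟩
    · intro f g h
      simp only [Prod.mk.injEq] at h
      rw [← cancel_mono m]
      apply Limits.prod.hom_ext
      · rw [Category.assoc, Category.assoc]; exact h.1
      · rw [Category.assoc, Category.assoc]; exact h.2
    · refine ⟨fun a => (key a a).2 rfl, fun {a b} h => (key b a).2 ((key a b).1 h).symm,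
        fun {a b c} h₁ h₂ => (key a c).2 (((key a b).1 h₁).trans ((key b c).1 h₂))⟩
  obtain ⟨Q, π, hpb, hpo, hue⟩ := hc _ _ _ _ hER
  -- step 3: descend `ξ` to `ζ ∈ F(Q)`
  have hcovπ := cover_of_universal π hue
  have hshπ := hFs _ hcovπ
  rw [← Presieve.isSheafFor_iff_generate, Presieve.isSheafFor_singleton] at hshπ
  have hkey : ∀ ⦃Z : E⦄ (a b : Z ⟶ c.pt), a ≫ π = b ≫ π → F.map a.op ξ = F.map b.op ξ := by
    intro Z a b hab
    have h1 : S (prod.lift a b) ↔ F.map a.op ξ = F.map b.op ξ := by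
      change F.map (prod.lift a b ≫ prod.fst).op ξ = F.map (prod.lift a b ≫ prod.snd).op ξ ↔ _
      rw [prod.lift_fst, prod.lift_snd]
    rw [← h1, hm]
    refine ⟨hpb.lift a b hab, ?_⟩
    apply Limits.prod.hom_ext
    · rw [prod.lift_fst, Category.assoc, hpb.lift_fst]
    · rw [prod.lift_snd, Category.assoc, hpb.lift_snd]
  obtain ⟨ζ, hζ, _⟩ := hshπ ξ (fun {Z} a b hab => hkey a b hab)
  have hζ' : F.map π.op ζ = ξ := hζ
  refine ⟨Q, ζ, ?_, ?_⟩
  · -- injectivity
    intro T g₁ g₂ hg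
    have h1 := hue T g₁
    have h2 := hue (pullback π g₁) (pullback.snd π g₁ ≫ g₂)
    have c1 : pullback.fst π g₁ ≫ π = pullback.snd π g₁ ≫ g₁ := pullback.condition
    have c2 : pullback.fst π (pullback.snd π g₁ ≫ g₂) ≫ π =
        pullback.snd π (pullback.snd π g₁ ≫ g₂) ≫ pullback.snd π g₁ ≫ g₂ := pullback.condition
    have h3 : F.map (pullback.snd π (pullback.snd π g₁ ≫ g₂) ≫ pullback.fst π g₁).op ξ =
        F.map (pullback.fst π (pullback.snd π g₁ ≫ g₂)).op ξ := by
      rw [← hζ']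
      have e1 : ∀ {Z : E} (a : Z ⟶ c.pt), F.map a.op (F.map π.op ζ) = F.map (a ≫ π).op ζ := by
        intro Z a
        rw [op_comp, F.map_comp]; rfl
      rw [e1, e1, c2, Category.assoc, c1]
      have e2 : ∀ {Z : E} (a : Z ⟶ T) (g : T ⟶ Q), F.map (a ≫ g).op ζ =
          F.map a.op (F.map g.op ζ) := by
        intro Z a g
        rw [op_comp, F.map_comp]; rfl
      rw [← Category.assoc, e2, hg, ← e2, Category.assoc]
    have h4 : S (prod.lift (pullback.snd π (pullback.snd π g₁ ≫ g₂) ≫ pullback.fst π g₁)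
        (pullback.fst π (pullback.snd π g₁ ≫ g₂))) := by
      change F.map (prod.lift _ _ ≫ prod.fst).op ξ = F.map (prod.lift _ _ ≫ prod.snd).op ξ
      rw [prod.lift_fst, prod.lift_snd]
      exact h3
    obtain ⟨l, hl⟩ := (hm _).1 h4
    have h5 : (pullback.snd π (pullback.snd π g₁ ≫ g₂) ≫ pullback.fst π g₁) ≫ π =
        pullback.fst π (pullback.snd π g₁ ≫ g₂) ≫ π := by
      have e1 : pullback.snd π (pullback.snd π g₁ ≫ g₂) ≫ pullback.fst π g₁ =
          l ≫ m ≫ prod.fst := by rw [← Category.assoc, hl, prod.lift_fst]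
      have e2 : pullback.fst π (pullback.snd π g₁ ≫ g₂) = l ≫ m ≫ prod.snd := by
        rw [← Category.assoc, hl, prod.lift_snd]
      have hw : (m ≫ prod.fst) ≫ π = (m ≫ prod.snd) ≫ π := hpb.w
      rw [e1, e2]
      calc (l ≫ m ≫ prod.fst) ≫ π = l ≫ (m ≫ prod.fst) ≫ π := by simp only [Category.assoc]
        _ = l ≫ (m ≫ prod.snd) ≫ π := by rw [hw]
        _ = (l ≫ m ≫ prod.snd) ≫ π := by simp only [Category.assoc]
    rw [← cancel_epi (pullback.snd π g₁),
      ← cancel_epi (pullback.snd π (pullback.snd π g₁ ≫ g₂)), ← c2, ← h5, Category.assoc, c1]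
  · -- local surjectivity
    intro T s W t ht
    obtain ⟨Z', a, _, ⟨j⟩, rfl⟩ := ht
    obtain ⟨i, g⟩ := j
    refine ⟨a ≫ c.inj ⟨i, F.map g.op s⟩ ≫ π, ?_⟩
    have e1 : F.map (c.inj ⟨i, F.map g.op s⟩ ≫ π).op ζ = F.map g.op s := by
      rw [op_comp, F.map_comp]
      change F.map (c.inj ⟨i, F.map g.op s⟩).op (F.map π.op ζ) = _
      rw [hζ']
      exact hξ ⟨i, F.map g.op s⟩
    rw [op_comp, F.map_comp]
    change F.map a.op (F.map (c.inj ⟨i, F.map g.op s⟩ ≫ π).op ζ) = F.map (a ≫ g).op s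
    rw [e1, op_comp, F.map_comp]
    rfl

end Groth.Agent.Helper29.GirF
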