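import Mathlib
import Groth.Prelude.Def_SGA4a
import Groth.Agent.Lib.Helper29.GirF

set_option autoImplicit false
universe w v u
open CategoryTheory CategoryTheory.Limits Opposite

namespace Groth.Agent.Helper29.GirG

open Groth.Agent.Helper29.GirA Groth.Agent.Helper29.GirB Groth.Agent.Helper29.GirC
  Groth.Agent.Helper29.GirD Groth.Agent.Helper29.GirE Groth.Agent.Helper29.GirF

variable {E : Type v} [Category.{u} E] [HasFiniteLimits E]
variable (hb : SGA4.HasDisjointUniversalCoproducts.{v, u} E)
variable (hc : ∀ (R A : E) (p₁ p₂ : R ⟶ A), SGA4.IsEquivRel p₁ p₂ →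
  SGA4.IsEffectiveUniversalEquivRel p₁ p₂)
variable {P : ObjectProperty E} [ObjectProperty.Small.{u} P] (hP : P.IsDetecting)

local notation "K" => Sheaf.canonicalTopology E

include hb hc hP in
lemma essSurj_yoneda : (K).yoneda.EssSurj := by
  constructor
  intro F
  obtain ⟨Q, ζ, hinj, hsurj⟩ := exists_representation hb hc hP F.obj F.property
  let η : (K).yoneda.obj Q ⟶ F := (K).yonedaEquiv.symm ζ
  have hη : ∀ (T : E) (y : T ⟶ Q), η.hom.app (op T) y = F.obj.map y.op ζ := by
    intro T y
    exact GrothendieckTopology.yonedaEquiv_symm_app_apply _ ζ _ y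
  have h1 : Sheaf.IsLocallyInjective η := by
    rw [Sheaf.isLocallyInjective_iff_injective]
    rintro ⟨T⟩ (y₁ : T ⟶ Q) (y₂ : T ⟶ Q) h
    rw [hη, hη] at h
    exact hinj y₁ y₂ h
  have h2 : Sheaf.IsLocallySurjective η := by
    constructor
    intro T s
    refine (K).superset_covering ?_ (generators_cover hb hc hP T)
    intro W t ht
    obtain ⟨y, hy⟩ := hsurj s _ ht
    exact ⟨y, by rw [hη]; exact hy⟩
  have : IsIso η := (Sheaf.isLocallyBijective_iff_isIso η).1 ⟨h1, h2⟩
  exact ⟨Q, ⟨asIso η⟩⟩

/-- the small category of generators -/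
abbrev GenCat (P : ObjectProperty E) [ObjectProperty.Small.{u} P] : Type u :=
  InducedCategory E (gen P)

include hb hc hP in
lemma isCoverDense : (inducedFunctor (gen P)).IsCoverDense K := by
  constructor
  intro X
  refine (K).superset_covering ?_ (generators_cover hb hc hP X)
  intro W t ht
  obtain ⟨Z', a, _, ⟨j⟩, rfl⟩ := ht
  obtain ⟨i, g⟩ := j
  exact ⟨⟨i, a, g, rfl⟩⟩

include hb hc hP in
theorem giraud : SGA4.IsTopos.{v, u} E := by
  have h1 := essSurj_yoneda hb hc hP
  have : (K).yoneda.IsEquivalence := { }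
  have h2 := isCoverDense hb hc hP
  let e₂ : E ≌ Sheaf K (Type u) := (K).yoneda.asEquivalence
  let e₁ := (inducedFunctor (gen P)).sheafInducedTopologyEquivOfIsCoverDense K (Type u)
  exact ⟨GenCat P, inferInstance, (inducedFunctor (gen P)).inducedTopology K,
    ⟨e₂.trans e₁.symm⟩⟩

end Groth.Agent.Helper29.GirG
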