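import Mathlib

namespace Groth.Agent.Helper29.GlA

universe u

variable {A : Type u} [CommRing A]

/-- A finitely generated ideal mapping to zero in the localization at a prime is killed by a
single element outside the prime. -/
theorem exists_kill (p : Ideal A) [p.IsPrime] (T : Ideal A) (hT : T.FG)
    (h : ∀ t ∈ T, algebraMap A (Localization.AtPrime p) t = 0) :
    ∃ u : A, u ∉ p ∧ ∀ t ∈ T, u * t = 0 := by
  classical
  obtain ⟨s, rfl⟩ := hT
  have h1 : ∀ t : A, ∃ u : A, u ∉ p ∧ (t ∈ s → u * t = 0) := by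
    intro t
    by_cases ht : t ∈ s
    · have h0 := h t (Ideal.subset_span ht)
      rw [IsLocalization.map_eq_zero_iff p.primeCompl] at h0
      obtain ⟨⟨u, hu⟩, hu2⟩ := h0
      exact ⟨u, hu, fun _ => hu2⟩
    · exact ⟨1, fun h1 => (Ideal.ne_top_iff_one p).mp (Ideal.IsPrime.ne_top ‹_›) h1,
        fun h' => absurd h' ht⟩
  choose u hu1 hu2 using h1
  refine ⟨∏ t ∈ s, u t, ?_, ?_⟩
  · intro hmem
    rw [Ideal.IsPrime.prod_mem_iff] at hmem
    obtain ⟨t, _, ht⟩ := hmem
    exact hu1 t ht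
  · intro t ht
    refine Submodule.span_induction (p := fun t _ => (∏ t ∈ s, u t) * t = 0) ?_ ?_ ?_ ?_ ht
    · intro x hx
      rw [← Finset.prod_erase_mul s u hx, mul_assoc, hu2 x hx, mul_zero]
    · exact mul_zero _
    · intro x y _ _ hx hy
      rw [mul_add, hx, hy, add_zero]
    · intro a x _ hx
      rw [smul_eq_mul, mul_left_comm, hx, mul_zero]

/-- An ideal not contained in any maximal ideal is the unit ideal. -/
theorem ideal_eq_top (J : Ideal A) (h : ∀ m' : Ideal A, m'.IsMaximal → ∃ s ∈ J, s ∉ m') :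
    J = ⊤ := by
  by_contra hJ
  obtain ⟨m', hm', hle⟩ := Ideal.exists_le_maximal J hJ
  obtain ⟨s, hs, hs'⟩ := h m' hm'
  exact hs' (hle hs)

/-- A power of a maximal ideal is not contained in a different prime. -/
theorem exists_pow_not_mem (m₀ : Ideal A) [hm₀ : m₀.IsMaximal] (p : Ideal A) [hp : p.IsPrime]
    (hne : p ≠ m₀) (n : ℕ) : ∃ w ∈ m₀ ^ n, w ∉ p := by
  by_contra hcon
  push Not at hcon
  have h1 : m₀ ^ n ≤ p := fun w hw => hcon w hw
  have h2 : m₀ ≤ p := Ideal.IsPrime.le_of_pow_le h1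
  exact hne (hm₀.eq_of_le hp.ne_top h2).symm

/-- A power of an intersection of finitely many maximal ideals is not contained in a prime
different from all of them. -/
theorem exists_iInf_pow_not_mem {r : ℕ} (m : Fin r → Ideal A) (hm : ∀ i, (m i).IsMaximal)
    (p : Ideal A) [hp : p.IsPrime] (hne : ∀ i, p ≠ m i) (n : ℕ) :
    ∃ w ∈ (⨅ i, m i) ^ n, w ∉ p := by
  by_contra hcon
  push Not at hcon
  have h1 : (⨅ i, m i) ^ n ≤ p := fun w hw => hcon w hw
  have h2 : (⨅ i, m i) ≤ p := Ideal.IsPrime.le_of_pow_le h1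
  rw [← Finset.inf_univ_eq_iInf, Ideal.IsPrime.inf_le' hp] at h2
  obtain ⟨i, _, hi⟩ := h2
  exact hne i ((hm i).eq_of_le hp.ne_top hi).symm

end Groth.Agent.Helper29.GlA
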