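import Mathlib
import Groth.Agent.Lib.Helper29.GlA

namespace Groth.Agent.Helper29.GlB

open Groth.Agent.Helper29.GlA

universe u

variable (A : Type u) [CommRing A] {r : ℕ} (m : Fin r → Ideal A) [hm : ∀ i, (m i).IsMaximal]
  (B : Fin r → Type u) [∀ i, CommRing (B i)] [∀ i, Algebra (Localization.AtPrime (m i)) (B i)]
  [∀ i, Algebra A (B i)] [∀ i, IsScalarTower A (Localization.AtPrime (m i)) (B i)]

/-- The primes of `A` different from all the `m i`. -/
abbrev Q : Type u := {p : PrimeSpectrum A // ∀ i, p.asIdeal ≠ m i}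

/-- The big product ring. -/
abbrev P : Type u := (∀ i, B i) × (∀ p : Q A m, Localization.AtPrime p.1.asIdeal)

/-- The intersection of the marked maximal ideals. -/
abbrev II : Ideal A := ⨅ i, m i

/-- The glued algebra. -/
def C : Subalgebra A (P A m B) where
  carrier := {c | ∃ N : ℕ, ∀ y ∈ (II A m) ^ N, y • c ∈ (⊥ : Subalgebra A (P A m B))}
  mul_mem' := by
    rintro c c' ⟨N, hN⟩ ⟨N', hN'⟩
    refine ⟨N + N', fun y hy => ?_⟩
    rw [pow_add] at hy
    refine Submodule.mul_induction_on hy ?_ ?_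
    · intro y₁ hy₁ y₂ hy₂
      have : (y₁ * y₂) • (c * c') = (y₁ • c) * (y₂ • c') := by
        rw [smul_mul_smul_comm]
      rw [this]
      exact Subalgebra.mul_mem _ (hN y₁ hy₁) (hN' y₂ hy₂)
    · intro x y hx hy
      rw [add_smul]
      exact Subalgebra.add_mem _ hx hy
  add_mem' := by
    rintro c c' ⟨N, hN⟩ ⟨N', hN'⟩
    refine ⟨N + N', fun y hy => ?_⟩
    rw [smul_add]
    exact Subalgebra.add_mem _
      (hN y (Ideal.pow_le_pow_right (Nat.le_add_right N N') hy))
      (hN' y (Ideal.pow_le_pow_right (Nat.le_add_left N' N) hy))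
  algebraMap_mem' := by
    intro a
    refine ⟨0, fun y _ => ?_⟩
    rw [Algebra.mem_bot]
    exact ⟨y * a, by rw [map_mul, Algebra.smul_def]⟩

theorem mem_C (c : P A m B) :
    c ∈ C A m B ↔ ∃ N : ℕ, ∀ y ∈ (II A m) ^ N, y • c ∈ (⊥ : Subalgebra A (P A m B)) := Iff.rfl


theorem isUnit_algebraMap (j : Fin r) (w : A) (hw : w ∉ m j) : IsUnit (algebraMap A (B j) w) := by
  rw [IsScalarTower.algebraMap_apply A (Localization.AtPrime (m j)) (B j)]
  exact (IsLocalization.map_units (Localization.AtPrime (m j)) (⟨w, hw⟩ : (m j).primeCompl)).map _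

theorem isUnit_algebraMap' (p : Ideal A) [p.IsPrime] (w : A) (hw : w ∉ p) :
    IsUnit (algebraMap A (Localization.AtPrime p) w) :=
  IsLocalization.map_units (Localization.AtPrime p) (⟨w, hw⟩ : p.primeCompl)

/-- The auxiliary ideal `(m i)^n * ker (A → B i)` is killed by an element outside `m i`. -/
theorem exists_kill_T [IsNoetherianRing A] (i : Fin r) (n : ℕ)
    (hker : ∀ x : A, algebraMap A (B i) x = 0 → ∀ z ∈ (m i) ^ n,
      algebraMap A (Localization.AtPrime (m i)) (z * x) = 0) :
    ∃ u : A, u ∉ m i ∧ ∀ z ∈ (m i) ^ n, ∀ x : A, algebraMap A (B i) x = 0 → u * (z * x) = 0 := by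
  set Kc : Ideal A := RingHom.ker (algebraMap A (B i)) with hKc
  have hfg : ((m i) ^ n * Kc).FG := IsNoetherian.noetherian _
  have h0 : ∀ t ∈ (m i) ^ n * Kc, algebraMap A (Localization.AtPrime (m i)) t = 0 := by
    intro t ht
    refine Submodule.mul_induction_on ht ?_ ?_
    · intro z hz x hx
      exact hker x (RingHom.mem_ker.mp hx) z hz
    · intro x y hx hy
      rw [map_add, hx, hy, add_zero]
  obtain ⟨u, hu, hu2⟩ := exists_kill (m i) _ hfg h0
  exact ⟨u, hu, fun z hz x hx => hu2 _ (Ideal.mul_mem_mul hz (RingHom.mem_ker.mpr hx))⟩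

theorem smul_eq_zero_of_component [IsNoetherianRing A] (hinj : Function.Injective m)
    (i : Fin r) (n : ℕ)
    (hker : ∀ x : A, algebraMap A (B i) x = 0 → ∀ z ∈ (m i) ^ n,
      algebraMap A (Localization.AtPrime (m i)) (z * x) = 0)
    (c : P A m B) (hc : c ∈ C A m B) (hci : c.1 i = 0) : ∃ t : A, t ∉ m i ∧ t • c = 0 := by
  classical
  obtain ⟨N, hN⟩ := hc
  obtain ⟨s, hs, hs2⟩ := exists_kill_T A m B i n hker
  -- (*)
  have hstar : ∀ z ∈ (m i) ^ n, ∀ y ∈ (II A m) ^ N, (s * z * y) • c = 0 := by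
    intro z hz y hy
    have h1 := hN y hy
    rw [Algebra.mem_bot] at h1
    obtain ⟨a, ha⟩ := h1
    have ha1 : algebraMap A (B i) a = 0 := by
      have := congrArg (fun q : P A m B => q.1 i) ha
      simp only [Prod.smul_fst, Pi.smul_apply, hci, smul_zero] at this
      exact this
    have h2 := hs2 z hz a ha1
    rw [mul_smul, ← ha, ← mul_assoc] at *
    rw [Algebra.smul_def, ← map_mul, h2, map_zero]
  -- t'
  have hT : ¬ (∏ j ∈ Finset.univ.erase i, (m j) ^ N) ≤ m i := by
    intro hle
    rw [Ideal.IsPrime.prod_le inferInstance] at hle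
    obtain ⟨j, hj, hle⟩ := hle
    have h2 : m j ≤ m i := Ideal.IsPrime.le_of_pow_le hle
    have h3 : m j = m i := (hm j).eq_of_le (hm i).ne_top h2
    exact (Finset.ne_of_mem_erase hj) (hinj h3)
  obtain ⟨t', ht', ht'i⟩ := SetLike.not_le_iff_exists.mp hT
  have hI : ∀ z' ∈ (m i) ^ N, z' * t' ∈ (II A m) ^ N := by
    intro z' hz'
    have h1 : z' * t' ∈ (m i) ^ N * ∏ j ∈ Finset.univ.erase i, (m j) ^ N :=
      Ideal.mul_mem_mul hz' ht'
    rw [Finset.mul_prod_erase Finset.univ (fun j => (m j) ^ N) (Finset.mem_univ i),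
      Finset.prod_pow] at h1
    refine Ideal.pow_right_mono ?_ N h1
    exact Ideal.prod_le_inf.trans (Finset.inf_univ_eq_iInf m).le
  refine ⟨s * t', ?_, ?_⟩
  · intro hmem
    rcases (Ideal.IsPrime.mul_mem_iff_mem_or_mem (inferInstance : (m i).IsPrime)).mp hmem with h | h
    · exact hs h
    · exact ht'i h
  · set e : P A m B := (s * t') • c with he
    have hwe : ∀ w ∈ (m i) ^ (n + N), w • e = 0 := by
      intro w hw
      rw [pow_add] at hw
      refine Submodule.mul_induction_on hw ?_ ?_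
      · intro z hz z' hz'
        have := hstar z hz (z' * t') (hI z' hz')
        rw [he, smul_smul]
        have h3 : z * z' * (s * t') = s * z * (z' * t') := by ring
        rw [h3]
        exact this
      · intro x y hx hy
        rw [add_smul, hx, hy, add_zero]
    refine Prod.ext ?_ ?_
    · funext j
      by_cases hji : j = i
      · subst hji
        simp only [he, Prod.smul_fst, Pi.smul_apply, hci, smul_zero, Prod.fst_zero, Pi.zero_apply]
      · have hne : m j ≠ m i := fun h => hji (hinj h)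
        obtain ⟨w, hw, hwj⟩ := exists_pow_not_mem (m i) (m j) hne (n + N)
        have h1 := congrArg (fun q : P A m B => q.1 j) (hwe w hw)
        simp only [Prod.smul_fst, Pi.smul_apply, Prod.fst_zero, Pi.zero_apply] at h1
        rw [Algebra.smul_def] at h1
        exact (isUnit_algebraMap A m B j w hwj).mul_right_eq_zero.mp h1
    · funext p
      obtain ⟨w, hw, hwp⟩ := exists_pow_not_mem (m i) p.1.asIdeal (p.2 i) (n + N)
      have h1 := congrArg (fun q : P A m B => q.2 p) (hwe w hw)
      simp only [Prod.smul_snd, Pi.smul_apply, Prod.snd_zero, Pi.zero_apply] at h1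
      rw [Algebra.smul_def] at h1
      exact (isUnit_algebraMap' A p.1.asIdeal w hwp).mul_right_eq_zero.mp h1

end Groth.Agent.Helper29.GlB
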