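import Mathlib
import Groth.Agent.Lib.Helper29.GlA
import Groth.Agent.Lib.Helper29.GlB

namespace Groth.Agent.Helper29.GlC

open Groth.Agent.Helper29.GlA Groth.Agent.Helper29.GlB

universe u

variable (A : Type u) [CommRing A] {r : ℕ} (m : Fin r → Ideal A) [hm : ∀ i, (m i).IsMaximal]
  (B : Fin r → Type u) [∀ i, CommRing (B i)] [∀ i, Algebra (Localization.AtPrime (m i)) (B i)]
  [∀ i, Algebra A (B i)] [∀ i, IsScalarTower A (Localization.AtPrime (m i)) (B i)]

theorem exists_lift [IsNoetherianRing A] (hinj : Function.Injective m) (i : Fin r) (n : ℕ)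
    (hker : ∀ x : A, algebraMap A (B i) x = 0 → ∀ z ∈ (m i) ^ n,
      algebraMap A (Localization.AtPrime (m i)) (z * x) = 0)
    (hcoker : ∀ z ∈ (m i) ^ n, ∀ b : B i, ∃ α : Localization.AtPrime (m i),
      algebraMap _ (B i) α = z • b)
    (b : B i) : ∃ c ∈ C A m B, ∃ s : A, s ∉ m i ∧ c.1 i = s • b := by
  classical
  obtain ⟨Y, hY⟩ : ((m i) ^ n).FG := IsNoetherian.noetherian _
  have hYmem : ∀ y ∈ Y, y ∈ (m i) ^ n := fun y hy => hY ▸ Ideal.subset_span hy
  -- fractions α_y
  have h1 : ∀ y : A, ∃ α : Localization.AtPrime (m i), y ∈ Y → algebraMap _ (B i) α = y • b := by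
    intro y
    by_cases hy : y ∈ Y
    · obtain ⟨α, hα⟩ := hcoker y (hYmem y hy) b
      exact ⟨α, fun _ => hα⟩
    · exact ⟨0, fun h => absurd h hy⟩
  choose α hα using h1
  obtain ⟨⟨s₀, hs₀⟩, hs₀'⟩ := IsLocalization.exist_integer_multiples (m i).primeCompl Y α
  have h2 : ∀ y : A, ∃ a : A, y ∈ Y → algebraMap A (Localization.AtPrime (m i)) a = s₀ • α y := by
    intro y
    by_cases hy : y ∈ Y
    · obtain ⟨a, ha⟩ := hs₀' y hy
      exact ⟨a, fun _ => ha⟩
    · exact ⟨0, fun h => absurd h hy⟩
  choose a' ha' using h2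
  have ha'B : ∀ y ∈ Y, algebraMap A (B i) (a' y) = (s₀ * y) • b := by
    intro y hy
    rw [IsScalarTower.algebraMap_apply A (Localization.AtPrime (m i)) (B i), ha' y hy,
      Algebra.smul_def, map_mul, hα y hy, ← IsScalarTower.algebraMap_apply, ← Algebra.smul_def,
      smul_smul]
  obtain ⟨u, hu, hu2⟩ := exists_kill_T A m B i n hker
  -- defects
  have hdef : ∀ y ∈ Y, ∀ y' ∈ Y, ∀ z ∈ (m i) ^ n,
      z * (u * a' y * y' - u * a' y' * y) = 0 := by
    intro y hy y' hy' z hz
    have hx : algebraMap A (B i) (a' y * y' - a' y' * y) = 0 := by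
      rw [map_sub, map_mul, map_mul, ha'B y hy, ha'B y' hy', Algebra.smul_def, Algebra.smul_def,
        map_mul, map_mul]
      ring
    have := hu2 z hz _ hx
    calc z * (u * a' y * y' - u * a' y' * y) = u * (z * (a' y * y' - a' y' * y)) := by ring
      _ = 0 := this
  -- choice of y(p)
  have hyp : ∀ p : PrimeSpectrum A, p.asIdeal ≠ m i → ∃ y ∈ Y, y ∉ p.asIdeal := by
    intro p hp
    by_contra hcon
    push Not at hcon
    have hle : (m i) ^ n ≤ p.asIdeal := by
      rw [← hY, Ideal.span_le]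
      exact fun y hy => hcon y hy
    obtain ⟨w, hw, hwp⟩ := exists_pow_not_mem (m i) p.asIdeal hp n
    exact hwp (hle hw)
  choose yp hypY hypp using hyp
  let αp : ∀ (p : PrimeSpectrum A) (hp : p.asIdeal ≠ m i), Localization.AtPrime p.asIdeal :=
    fun p hp => IsLocalization.mk' (Localization.AtPrime p.asIdeal) (u * a' (yp p hp))
      (⟨yp p hp, hypp p hp⟩ : p.asIdeal.primeCompl)
  have hαp : ∀ (p : PrimeSpectrum A) (hp : p.asIdeal ≠ m i), ∀ y ∈ Y,
      algebraMap A (Localization.AtPrime p.asIdeal) y * αp p hp =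
        algebraMap A (Localization.AtPrime p.asIdeal) (u * a' y) := by
    intro p hp y hy
    show algebraMap A (Localization.AtPrime p.asIdeal) y * IsLocalization.mk' _ _ _ = _
    rw [IsLocalization.mul_mk'_eq_mk'_of_mul, IsLocalization.mk'_eq_iff_eq_mul, ← map_mul,
      ← sub_eq_zero, ← map_sub, IsLocalization.map_eq_zero_iff p.asIdeal.primeCompl]
    refine ⟨⟨yp p hp, hypp p hp⟩, ?_⟩
    have := hdef (yp p hp) (hypY p hp) y hy (yp p hp) (hYmem _ (hypY p hp))
    show yp p hp * (y * (u * a' (yp p hp)) - u * a' y * yp p hp) = 0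
    calc yp p hp * (y * (u * a' (yp p hp)) - u * a' y * yp p hp)
        = yp p hp * (u * a' (yp p hp) * y - u * a' y * yp p hp) := by ring
      _ = 0 := this
  -- the element c
  let pj : Fin r → PrimeSpectrum A := fun j => ⟨m j, inferInstance⟩
  let c1 : ∀ j, B j := Function.update
    (fun j => if h : m j ≠ m i then
      algebraMap (Localization.AtPrime (m j)) (B j) (αp (pj j) h) else 0) i ((u * s₀) • b)
  let c : P A m B := (c1, fun p => αp p.1 (p.2 i))
  have hc1i : c.1 i = (u * s₀) • b := by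
    show c1 i = _
    simp only [c1, Function.update_self]
  have hc1j : ∀ j (h : m j ≠ m i), c.1 j =
      algebraMap (Localization.AtPrime (m j)) (B j) (αp (pj j) h) := by
    intro j h
    have hji : j ≠ i := fun h' => h (by rw [h'])
    show c1 j = _
    simp only [c1, Function.update_of_ne hji, dif_pos h]
  have hYc : ∀ y ∈ Y, y • c = algebraMap A (P A m B) (u * a' y) := by
    intro y hy
    refine Prod.ext ?_ ?_
    · funext j
      show y • c.1 j = algebraMap A (B j) (u * a' y)
      by_cases hji : j = i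
      · subst hji
        rw [hc1i, map_mul, ha'B y hy, smul_smul, ← Algebra.smul_def, smul_smul]
        congr 1
        ring
      · have hne : m j ≠ m i := fun h => hji (hinj h)
        rw [hc1j j hne, Algebra.smul_def,
          IsScalarTower.algebraMap_apply A (Localization.AtPrime (m j)) (B j), ← map_mul,
          hαp (pj j) hne y hy, ← IsScalarTower.algebraMap_apply]
    · funext p
      show y • αp p.1 (p.2 i) = algebraMap A (Localization.AtPrime p.1.asIdeal) (u * a' y)
      rw [Algebra.smul_def, hαp p.1 (p.2 i) y hy]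
  have hmc : ∀ y ∈ (m i) ^ n, y • c ∈ (⊥ : Subalgebra A (P A m B)) := by
    intro y hy
    rw [← hY] at hy
    refine Submodule.span_induction (p := fun y _ => y • c ∈ (⊥ : Subalgebra A (P A m B)))
      ?_ ?_ ?_ ?_ hy
    · intro y hy
      rw [hYc y hy]
      exact Subalgebra.algebraMap_mem _ _
    · rw [zero_smul]; exact Subalgebra.zero_mem _
    · intro x y _ _ hx hy
      rw [add_smul]; exact Subalgebra.add_mem _ hx hy
    · intro a x _ hx
      rw [smul_eq_mul, mul_smul]; exact Subalgebra.smul_mem _ hx a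
  refine ⟨c, ⟨n, fun y hy => hmc y (Ideal.pow_right_mono (iInf_le m i) n hy)⟩, u * s₀, ?_, hc1i⟩
  intro hmem
  rcases (Ideal.IsPrime.mul_mem_iff_mem_or_mem (inferInstance : (m i).IsPrime)).mp hmem with h | h
  · exact hu h
  · exact hs₀ h

end Groth.Agent.Helper29.GlC
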