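import Mathlib
import Groth.Agent.Lib.Helper29.GlA
import Groth.Agent.Lib.Helper29.GlB
import Groth.Agent.Lib.Helper29.GlC

namespace Groth.Agent.Helper29.GlD

open Groth.Agent.Helper29.GlA Groth.Agent.Helper29.GlB Groth.Agent.Helper29.GlC TensorProduct

universe u

variable (A : Type u) [CommRing A] {r : ℕ} (m : Fin r → Ideal A) [hm : ∀ i, (m i).IsMaximal]
  (B : Fin r → Type u) [∀ i, CommRing (B i)] [∀ i, Algebra (Localization.AtPrime (m i)) (B i)]
  [∀ i, Algebra A (B i)] [∀ i, IsScalarTower A (Localization.AtPrime (m i)) (B i)]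

/-- The projection of the glued algebra to the `i`-th factor. -/
noncomputable def proj (i : Fin r) : C A m B →ₐ[A] B i :=
  ((Pi.evalAlgHom A B i).comp (AlgHom.fst A (∀ i, B i) _)).comp (C A m B).val

theorem proj_apply (i : Fin r) (c : C A m B) : proj A m B i c = c.1.1 i := rfl

theorem isLocalizedModule_proj [IsNoetherianRing A] (hinj : Function.Injective m) (i : Fin r)
    (n : ℕ)
    (hker : ∀ x : A, algebraMap A (B i) x = 0 → ∀ z ∈ (m i) ^ n,
      algebraMap A (Localization.AtPrime (m i)) (z * x) = 0)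
    (hcoker : ∀ z ∈ (m i) ^ n, ∀ b : B i, ∃ α : Localization.AtPrime (m i),
      algebraMap _ (B i) α = z • b) :
    IsLocalizedModule (m i).primeCompl (proj A m B i).toLinearMap where
  map_units := by
    intro s
    rw [Module.End.isUnit_iff]
    have hu := isUnit_algebraMap A m B i s.1 s.2
    have h1 : ⇑(algebraMap A (Module.End A (B i)) s) = fun b => algebraMap A (B i) s * b := by
      funext b
      rw [Module.algebraMap_end_apply, Algebra.smul_def]
    rw [h1]
    exact IsUnit.isUnit_iff_mulLeft_bijective.mp hu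
  surj := by
    intro b
    obtain ⟨c, hc, s, hs, hcs⟩ := exists_lift A m B hinj i n hker hcoker b
    refine ⟨(⟨c, hc⟩, ⟨s, hs⟩), ?_⟩
    show s • b = c.1 i
    exact hcs.symm
  exists_of_eq := by
    intro c₁ c₂ h
    have h0 : (c₁ - c₂ : C A m B).1.1 i = 0 := by
      have h' : c₁.1.1 i = c₂.1.1 i := h
      show c₁.1.1 i - c₂.1.1 i = 0
      rw [h', sub_self]
    obtain ⟨t, ht, ht2⟩ := smul_eq_zero_of_component A m B hinj i n hker _ (c₁ - c₂).2 h0
    refine ⟨⟨t, ht⟩, Subtype.ext ?_⟩
    show t • c₁.1 = t • c₂.1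
    have : t • (c₁.1 - c₂.1) = 0 := ht2
    rwa [smul_sub, sub_eq_zero] at this

theorem nonempty_algEquiv [IsNoetherianRing A] (hinj : Function.Injective m) (i : Fin r)
    (n : ℕ)
    (hker : ∀ x : A, algebraMap A (B i) x = 0 → ∀ z ∈ (m i) ^ n,
      algebraMap A (Localization.AtPrime (m i)) (z * x) = 0)
    (hcoker : ∀ z ∈ (m i) ^ n, ∀ b : B i, ∃ α : Localization.AtPrime (m i),
      algebraMap _ (B i) α = z • b) :
    Nonempty ((Localization.AtPrime (m i)) ⊗[A] (C A m B) ≃ₐ[Localization.AtPrime (m i)] B i) := by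
  haveI := isLocalizedModule_proj A m B hinj i n hker hcoker
  have hbc : IsBaseChange (Localization.AtPrime (m i)) (proj A m B i).toLinearMap :=
    IsLocalizedModule.isBaseChange (m i).primeCompl _ _
  let Φ : Localization.AtPrime (m i) ⊗[A] C A m B →ₐ[Localization.AtPrime (m i)] B i :=
    Algebra.TensorProduct.lift (Algebra.ofId _ _) (proj A m B i) (fun _ _ => Commute.all _ _)
  have hΦ : ⇑Φ = ⇑hbc.equiv := by
    funext x
    induction x using TensorProduct.induction_on with
    | zero => simp
    | tmul s c =>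
      rw [IsBaseChange.equiv_tmul]
      simp [Φ, Algebra.smul_def]
    | add x y hx hy => simp [hx, hy]
  exact ⟨AlgEquiv.ofBijective Φ (hΦ ▸ hbc.equiv.bijective)⟩

theorem smul_mem_bot [IsNoetherianRing A] (hinj : Function.Injective m) (n : ℕ)
    (hker : ∀ i, ∀ x : A, algebraMap A (B i) x = 0 → ∀ z ∈ (m i) ^ n,
      algebraMap A (Localization.AtPrime (m i)) (z * x) = 0)
    (y : A) (hy : ∀ j, ∀ b : B j, ∃ α : Localization.AtPrime (m j), algebraMap _ (B j) α = y • b)
    (c : P A m B) (hc : c ∈ C A m B) : y • c ∈ (⊥ : Subalgebra A (P A m B)) := by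
  let J : Ideal A :=
    { carrier := {s | s • (y • c) ∈ (⊥ : Subalgebra A (P A m B))}
      add_mem' := fun {s t} hs ht => by
        show (s + t) • (y • c) ∈ (⊥ : Subalgebra A (P A m B))
        rw [add_smul]; exact Subalgebra.add_mem _ hs ht
      zero_mem' := by
        show (0 : A) • (y • c) ∈ (⊥ : Subalgebra A (P A m B))
        rw [zero_smul]; exact Subalgebra.zero_mem _
      smul_mem' := fun a s hs => by
        show (a • s) • (y • c) ∈ (⊥ : Subalgebra A (P A m B))
        rw [smul_eq_mul, mul_smul]; exact Subalgebra.smul_mem _ hs a }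
  have hJ : J = ⊤ := by
    apply ideal_eq_top
    intro m' hm'
    by_cases hex : ∃ j, m' = m j
    · obtain ⟨j, rfl⟩ := hex
      obtain ⟨α, hα⟩ := hy j (c.1 j)
      obtain ⟨⟨a, ⟨s, hs⟩⟩, has⟩ := IsLocalization.surj (m j).primeCompl α
      have he : (s • (y • c) - algebraMap A (P A m B) a) ∈ C A m B :=
        Subalgebra.sub_mem _ (Subalgebra.smul_mem _ (Subalgebra.smul_mem _ hc y) s)
          (Subalgebra.algebraMap_mem _ a)
      have hej : (s • (y • c) - algebraMap A (P A m B) a).1 j = 0 := by
        show s • (y • c.1 j) - algebraMap A (B j) a = 0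
        rw [← hα, Algebra.smul_def,
          IsScalarTower.algebraMap_apply A (Localization.AtPrime (m j)) (B j), ← map_mul,
          mul_comm]
        have has' : α * algebraMap A (Localization.AtPrime (m j)) s =
          algebraMap A (Localization.AtPrime (m j)) a := has
        rw [has', ← IsScalarTower.algebraMap_apply, sub_self]
      obtain ⟨t, ht, ht2⟩ := smul_eq_zero_of_component A m B hinj j n (hker j) _ he hej
      refine ⟨t * s, ?_, ?_⟩
      · show (t * s) • (y • c) ∈ (⊥ : Subalgebra A (P A m B))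
        rw [smul_sub, sub_eq_zero] at ht2
        rw [mul_smul, ht2]
        exact Subalgebra.smul_mem _ (Subalgebra.algebraMap_mem _ _) t
      · intro hmem
        rcases (Ideal.IsPrime.mul_mem_iff_mem_or_mem
          (inferInstance : (m j).IsPrime)).mp hmem with h | h
        · exact ht h
        · exact hs h
    · push Not at hex
      obtain ⟨N, hN⟩ := hc
      haveI := hm'.isPrime
      obtain ⟨w, hw, hwm⟩ := exists_iInf_pow_not_mem m hm m' hex N
      refine ⟨w, ?_, hwm⟩
      show w • (y • c) ∈ (⊥ : Subalgebra A (P A m B))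
      rw [smul_comm]
      exact Subalgebra.smul_mem _ (hN w hw) y
  have h1 : (1 : A) ∈ J := hJ ▸ Submodule.mem_top
  have h2 : (1 : A) • (y • c) ∈ (⊥ : Subalgebra A (P A m B)) := h1
  rwa [one_smul] at h2

theorem mul_eq_zero_of_ker (y x : A) (hx : algebraMap A (P A m B) x = 0)
    (hy : ∀ j, ∀ x : A, algebraMap A (B j) x = 0 →
      algebraMap A (Localization.AtPrime (m j)) (y * x) = 0) : y * x = 0 := by
  apply eq_zero_of_localization
  intro J hJ
  by_cases hex : ∃ j, J = m j
  · obtain ⟨j, rfl⟩ := hex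
    exact hy j x (congrArg (fun q : P A m B => q.1 j) hx)
  · push Not at hex
    have h1 : algebraMap A (Localization.AtPrime J) x = 0 :=
      congrArg (fun q : P A m B => q.2 ⟨⟨J, hJ.isPrime⟩, hex⟩) hx
    rw [map_mul, h1, mul_zero]

end Groth.Agent.Helper29.GlD
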