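import Mathlib
import Groth.Agent.Lib.Helper29.GlA
import Groth.Agent.Lib.Helper29.GlB
import Groth.Agent.Lib.Helper29.GlC
import Groth.Agent.Lib.Helper29.GlD

namespace Groth.Agent.Helper29.GlE

open Groth.Agent.Helper29.GlA Groth.Agent.Helper29.GlB Groth.Agent.Helper29.GlC
  Groth.Agent.Helper29.GlD TensorProduct

universe u

variable (A : Type u) [CommRing A] {r : ℕ} (m : Fin r → Ideal A) [hm : ∀ i, (m i).IsMaximal]
  (B : Fin r → Type u) [∀ i, CommRing (B i)] [∀ i, Algebra (Localization.AtPrime (m i)) (B i)]
  [∀ i, Algebra A (B i)] [∀ i, IsScalarTower A (Localization.AtPrime (m i)) (B i)]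

theorem finite_C [IsNoetherianRing A] (hinj : Function.Injective m) (n : ℕ)
    (hker : ∀ i, ∀ x : A, algebraMap A (B i) x = 0 → ∀ z ∈ (m i) ^ n,
      algebraMap A (Localization.AtPrime (m i)) (z * x) = 0)
    (hcoker : ∀ i, ∀ z ∈ (m i) ^ n, ∀ b : B i, ∃ α : Localization.AtPrime (m i),
      algebraMap _ (B i) α = z • b)
    (hfin : ∀ i, Module.Finite (Localization.AtPrime (m i)) (B i)) :
    Module.Finite A (C A m B) := by
  classical
  have hG : ∀ i, ∃ G : Finset (B i),
      Submodule.span (Localization.AtPrime (m i)) (G : Set (B i)) = ⊤ := fun i => (hfin i).fg_top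
  choose G hG using hG
  have hl := fun i b => exists_lift A m B hinj i n (hker i) (hcoker i) b
  choose cl hcl sl hsl hcsl using hl
  let gens : Set (P A m B) := {1} ∪ ⋃ i, (cl i) '' (G i : Set (B i))
  have hgens : gens.Finite :=
    (Set.finite_singleton _).union (Set.finite_iUnion fun i => (Finset.finite_toSet _).image _)
  let C' : Submodule A (P A m B) := Submodule.span A gens
  have hC'fg : C'.FG := Submodule.fg_span hgens
  have hle1 : C' ≤ Subalgebra.toSubmodule (C A m B) := by
    rw [Submodule.span_le]
    rintro x (hx | hx)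
    · rw [Set.mem_singleton_iff] at hx
      rw [hx]
      exact Subalgebra.one_mem _
    · rw [Set.mem_iUnion] at hx
      obtain ⟨i, b, _, rfl⟩ := hx
      exact hcl i b
  have hbot : ∀ x ∈ (⊥ : Subalgebra A (P A m B)), x ∈ C' := by
    intro x hx
    rw [Algebra.mem_bot] at hx
    obtain ⟨a, rfl⟩ := hx
    rw [Algebra.algebraMap_eq_smul_one]
    exact Submodule.smul_mem _ _ (Submodule.subset_span (Or.inl rfl))
  have hle2 : Subalgebra.toSubmodule (C A m B) ≤ C' := by
    intro c hc
    have hc' : c ∈ C A m B := hc
    let J : Ideal A :=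
      { carrier := {s | s • c ∈ C'}
        add_mem' := fun {s t} hs ht => by
          show (s + t) • c ∈ C'
          rw [add_smul]; exact Submodule.add_mem _ hs ht
        zero_mem' := by
          show (0 : A) • c ∈ C'
          rw [zero_smul]; exact Submodule.zero_mem _
        smul_mem' := fun a s hs => by
          show (a • s) • c ∈ C'
          rw [smul_eq_mul, mul_smul]; exact Submodule.smul_mem _ a hs }
    have hJ : J = ⊤ := by
      apply ideal_eq_top
      intro m' hm'
      by_cases hex : ∃ j, m' = m j
      · obtain ⟨j, rfl⟩ := hex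
        have hcj : c.1 j ∈ Submodule.span (Localization.AtPrime (m j)) (G j : Set (B j)) := by
          rw [hG j]; trivial
        rw [Submodule.mem_span_finset] at hcj
        obtain ⟨f, _, hf⟩ := hcj
        let lam : B j → Localization.AtPrime (m j) := fun b =>
          f b * IsLocalization.mk' (Localization.AtPrime (m j)) (1 : A)
            (⟨sl j b, hsl j b⟩ : (m j).primeCompl)
        have hlam : ∀ b, lam b * algebraMap A (Localization.AtPrime (m j)) (sl j b) = f b := by
          intro b
          show f b * IsLocalization.mk' _ _ _ * _ = _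
          rw [mul_assoc]
          have := IsLocalization.mk'_spec (Localization.AtPrime (m j)) (1 : A)
            (⟨sl j b, hsl j b⟩ : (m j).primeCompl)
          simp only [map_one] at this
          rw [this, mul_one]
        obtain ⟨⟨u, hu⟩, hu'⟩ :=
          IsLocalization.exist_integer_multiples (m j).primeCompl (G j) lam
        have h2 : ∀ b : B j, ∃ a : A, b ∈ G j →
            algebraMap A (Localization.AtPrime (m j)) a = u • lam b := by
          intro b
          by_cases hb : b ∈ G j
          · obtain ⟨a, ha⟩ := hu' b hb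
            exact ⟨a, fun _ => ha⟩
          · exact ⟨0, fun h => absurd h hb⟩
        choose a ha using h2
        have he : (u • c - ∑ b ∈ G j, a b • cl j b) ∈ C A m B :=
          Subalgebra.sub_mem _ (Subalgebra.smul_mem _ hc' u)
            (Subalgebra.sum_mem _ fun b _ => Subalgebra.smul_mem _ (hcl j b) _)
        have hej : (u • c - ∑ b ∈ G j, a b • cl j b).1 j = 0 := by
          have h3 : (u • c - ∑ b ∈ G j, a b • cl j b).1 j =
              u • c.1 j - ∑ b ∈ G j, a b • (cl j b).1 j := by
            simp only [Prod.fst_sub, Prod.smul_fst, Prod.fst_sum, Pi.sub_apply, Pi.smul_apply,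
              Finset.sum_apply]
          rw [h3, sub_eq_zero, ← hf, Finset.smul_sum]
          refine Finset.sum_congr rfl fun b hb => ?_
          rw [hcsl j b, smul_smul, ← algebraMap_smul (Localization.AtPrime (m j)) (a b * sl j b) b,
            map_mul, ha b hb, Algebra.smul_def u (lam b), mul_assoc, hlam b,
            ← algebraMap_smul (Localization.AtPrime (m j)) u (f b • b), smul_smul]
        obtain ⟨t, ht, ht2⟩ := smul_eq_zero_of_component A m B hinj j n (hker j) _ he hej
        refine ⟨t * u, ?_, ?_⟩
        · show (t * u) • c ∈ C'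
          rw [smul_sub, sub_eq_zero] at ht2
          rw [mul_smul, ht2]
          refine Submodule.smul_mem _ _ (Submodule.sum_mem _ fun b hb => Submodule.smul_mem _ _ ?_)
          exact Submodule.subset_span (Or.inr (Set.mem_iUnion.mpr ⟨j, b, hb, rfl⟩))
        · intro hmem
          rcases (Ideal.IsPrime.mul_mem_iff_mem_or_mem
            (inferInstance : (m j).IsPrime)).mp hmem with h | h
          · exact ht h
          · exact hu h
      · push Not at hex
        obtain ⟨N, hN⟩ := hc'
        haveI := hm'.isPrime
        obtain ⟨w, hw, hwm⟩ := exists_iInf_pow_not_mem m hm m' hex N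
        exact ⟨w, hbot _ (hN w hw), hwm⟩
    have h1 : (1 : A) ∈ J := hJ ▸ Submodule.mem_top
    have h2 : (1 : A) • c ∈ C' := h1
    rwa [one_smul] at h2
  have heq : Subalgebra.toSubmodule (C A m B) = C' := le_antisymm hle2 hle1
  have hfg : (Subalgebra.toSubmodule (C A m B)).FG := heq ▸ hC'fg
  exact Module.Finite.iff_fg.mpr hfg

end Groth.Agent.Helper29.GlE
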