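import Mathlib

set_option autoImplicit false
universe w' w v₁ v₂ v₃ u₁ u₂ u₃
open CategoryTheory CategoryTheory.Limits Opposite

namespace Groth.Agent.Helper29.GlueA

variable {A : Type u₁} [Category.{v₁} A] {B : Type u₂} [Category.{v₂} B]
  {T : Type u₃} [Category.{v₃} T] {L : A ⥤ T} {R : B ⥤ T}

instance preservesLimitsOfShape_fst {J : Type w} [Category.{w'} J] [HasLimitsOfShape J A]
    [HasLimitsOfShape J B] [PreservesLimitsOfShape J R] :
    PreservesLimitsOfShape J (Comma.fst L R) where
  preservesLimit {F} :=
    preservesLimit_of_preserves_limit_cone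
      (Comma.coneOfPreservesIsLimit F (limit.isLimit _) (limit.isLimit _))
      (limit.isLimit _)

instance preservesLimitsOfShape_snd {J : Type w} [Category.{w'} J] [HasLimitsOfShape J A]
    [HasLimitsOfShape J B] [PreservesLimitsOfShape J R] :
    PreservesLimitsOfShape J (Comma.snd L R) where
  preservesLimit {F} :=
    preservesLimit_of_preserves_limit_cone
      (Comma.coneOfPreservesIsLimit F (limit.isLimit _) (limit.isLimit _))
      (limit.isLimit _)

instance preservesFiniteLimits_fst [HasFiniteLimits A] [HasFiniteLimits B]
    [PreservesFiniteLimits R] : PreservesFiniteLimits (Comma.fst L R) where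
  preservesFiniteLimits _ _ _ := inferInstance

instance preservesFiniteLimits_snd [HasFiniteLimits A] [HasFiniteLimits B]
    [PreservesFiniteLimits R] : PreservesFiniteLimits (Comma.snd L R) where
  preservesFiniteLimits _ _ _ := inferInstance

section

variable {W X Y Z : Comma L R} {f : W ⟶ X} {g : W ⟶ Y} {h : X ⟶ Z} {k : Y ⟶ Z}

lemma isPullback_left [HasPullbacks A] [HasPullbacks B]
    [PreservesLimitsOfShape WalkingCospan R] (sq : IsPullback f g h k) :
    IsPullback f.left g.left h.left k.left := sq.map (Comma.fst L R)

lemma isPullback_right [HasPullbacks A] [HasPullbacks B]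
    [PreservesLimitsOfShape WalkingCospan R] (sq : IsPullback f g h k) :
    IsPullback f.right g.right h.right k.right := sq.map (Comma.snd L R)

lemma isPullback_of_left_right [PreservesLimitsOfShape WalkingCospan R] (w : f ≫ h = g ≫ k)
    (hl : IsPullback f.left g.left h.left k.left)
    (hr : IsPullback f.right g.right h.right k.right) : IsPullback f g h k := by
  refine ⟨⟨w⟩, ⟨Comma.fstSndJointlyReflectLimit ?_ ?_⟩⟩
  · exact (isLimitMapConePullbackConeEquiv (Comma.fst L R) w).symm hl.isLimit
  · exact (isLimitMapConePullbackConeEquiv (Comma.snd L R) w).symm hr.isLimit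

lemma isPushout_of_left_right [PreservesColimitsOfShape WalkingSpan L] (w : f ≫ h = g ≫ k)
    (hl : IsPushout f.left g.left h.left k.left)
    (hr : IsPushout f.right g.right h.right k.right) : IsPushout f g h k := by
  refine ⟨⟨w⟩, ⟨Comma.fstSndJointlyReflectColimit ?_ ?_⟩⟩
  · exact (isColimitMapCoconePushoutCoconeEquiv (Comma.fst L R) w).symm hl.isColimit
  · exact (isColimitMapCoconePushoutCoconeEquiv (Comma.snd L R) w).symm hr.isColimit

end

lemma mono_of_left_right {X Y : Comma L R} (f : X ⟶ Y) [Mono f.left] [Mono f.right] : Mono f := by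
  constructor
  intro Z a b hab
  ext
  · exact (cancel_mono f.left).1 (congrArg CommaMorphism.left hab)
  · exact (cancel_mono f.right).1 (congrArg CommaMorphism.right hab)

lemma epi_of_left_right {X Y : Comma L R} (f : X ⟶ Y) [Epi f.left] [Epi f.right] : Epi f := by
  constructor
  intro Z a b hab
  ext
  · exact (cancel_epi f.left).1 (congrArg CommaMorphism.left hab)
  · exact (cancel_epi f.right).1 (congrArg CommaMorphism.right hab)

lemma isIso_of_left_right {X Y : Comma L R} (f : X ⟶ Y) [IsIso f.left] [IsIso f.right] :
    IsIso f := by
  have : f = (Comma.isoMk (asIso f.left) (asIso f.right) f.w).hom := by ext <;> rfl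
  rw [this]
  infer_instance

/-- an object of the comma category with initial components is initial, when `L` maps the
left component to an initial object -/
noncomputable def isInitialOfLeftRight {X : Comma L R} (hl : IsInitial X.left)
    (hl' : IsInitial (L.obj X.left)) (hr : IsInitial X.right) : IsInitial X :=
  IsInitial.ofUniqueHom
    (fun Y => { left := hl.to _, right := hr.to _, w := hl'.hom_ext _ _ })
    (fun Y m => by
      ext
      · exact hl.hom_ext _ _
      · exact hr.hom_ext _ _)

end Groth.Agent.Helper29.GlueA
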