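import Mathlib
import Groth.Prelude.Def_SGA4a
import Groth.Agent.Lib.Helper29.GlueA
import Groth.Agent.Lib.Helper29.CanCopC

set_option autoImplicit false
universe u
open CategoryTheory CategoryTheory.Limits Opposite

namespace Groth.Agent.Helper29.GlueB

open Groth.Agent.Helper29.GlueA Groth.Agent.Helper29.CanCopC

variable {C D : Type u} [SmallCategory C] [SmallCategory D] (J : GrothendieckTopology C)
  (K : GrothendieckTopology D) (ρ : Sheaf J (Type u) ⥤ Sheaf K (Type u))

/-- the glued category -/
abbrev Glue := Comma (𝟭 (Sheaf K (Type u))) ρ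

/-- fast path for instance resolution -/
noncomputable local instance (priority := 10000) shColimJ :
    HasColimitsOfSize.{u, u} (Sheaf J (Type u)) := Sheaf.instHasColimitsOfSize

/-- fast path for instance resolution -/
noncomputable local instance (priority := 10000) shColimK :
    HasColimitsOfSize.{u, u} (Sheaf K (Type u)) := Sheaf.instHasColimitsOfSize

instance glueHasColimits : HasColimitsOfSize.{u, u} (Glue J K ρ) := inferInstance

variable [PreservesFiniteLimits ρ]

instance glueHasFiniteLimits : HasFiniteLimits (Glue J K ρ) := inferInstance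

variable {J K ρ}

theorem vk_glue {ι : Type u} {F : Discrete ι ⥤ Glue J K ρ} (c : Cocone F) (hc : IsColimit c) :
    IsVanKampenColimit c := by
  intro F' c' α f h hα
  have h1 := vk_of_isColimit K ((Comma.fst _ _).mapCocone c)
    (isColimitOfPreserves (Comma.fst _ _) hc) ((Comma.fst _ _).mapCocone c')
    (Functor.whiskerRight α (Comma.fst _ _)) ((Comma.fst _ _).map f)
    (by refine NatTrans.ext (funext fun j => ?_); simpa using! (Comma.fst _ _).congr_map (NatTrans.congr_app h j))
    (hα.whiskerRight (Comma.fst _ _))
  have h2 := vk_of_isColimit J ((Comma.snd _ _).mapCocone c)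
    (isColimitOfPreserves (Comma.snd _ _) hc) ((Comma.snd _ _).mapCocone c')
    (Functor.whiskerRight α (Comma.snd _ _)) ((Comma.snd _ _).map f)
    (by refine NatTrans.ext (funext fun j => ?_); simpa using! (Comma.snd _ _).congr_map (NatTrans.congr_app h j))
    (hα.whiskerRight (Comma.snd _ _))
  constructor
  · rintro ⟨hc'⟩ j
    have p1 := h1.1 ⟨isColimitOfPreserves (Comma.fst _ _) hc'⟩ j
    have p2 := h2.1 ⟨isColimitOfPreserves (Comma.snd _ _) hc'⟩ j
    exact isPullback_of_left_right (NatTrans.congr_app h j).symm p1 p2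
  · intro H
    have q1 := h1.2 (fun j => (H j).map (Comma.fst _ _))
    have q2 := h2.2 (fun j => (H j).map (Comma.snd _ _))
    exact ⟨Comma.fstSndJointlyReflectColimit q1.some q2.some⟩

variable (J K ρ)

theorem hb_glue : SGA4.HasDisjointUniversalCoproducts.{u + 1, u} (Glue J K ρ) := by
  intro ι X
  let c : Cofan X := colimit.cocone (Discrete.functor X)
  have hc : IsColimit c := colimit.isColimit _
  have vk : IsVanKampenColimit c := vk_glue c hc
  refine ⟨c, hc, ?_, vk.isUniversal⟩
  haveI hmono : ∀ i, Mono (c.inj i) := fun i => mono_of_cofan_isVanKampen vk ⟨i⟩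
  refine CoproductDisjoint.of_cofan hc
    (fun {i j} _ => (IsPullback.of_hasPullback (c.inj i) (c.inj j)).cone)
    (fun {i j} _ => (IsPullback.of_hasPullback (c.inj i) (c.inj j)).isLimit)
    (fun {i j} hij => ?_)
  have hp1 : IsPullback (initial.to _) (initial.to _) (c.inj i) (c.inj j) :=
    isPullback_initial_to_of_cofan_isVanKampen vk ⟨i⟩ ⟨j⟩
      (fun h => hij (congrArg Discrete.as h))
  have hp2 := IsPullback.of_hasPullback (c.inj i) (c.inj j)
  have e : pullback (c.inj i) (c.inj j) ≅ ⊥_ _ := hp2.isoIsPullback _ _ hp1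
  exact initialIsInitial.ofIso e.symm

end Groth.Agent.Helper29.GlueB
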