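import Mathlib
import Groth.Prelude.Def_SGA4a
import Groth.Agent.Lib.Helper29.GlueB
import Groth.Agent.Lib.Helper29.CoprodVKC

set_option autoImplicit false
universe u
open CategoryTheory CategoryTheory.Limits Opposite

namespace Groth.Agent.Helper29.GlueC

open Groth.Agent.Helper29.GlueA Groth.Agent.Helper29.GlueB Groth.Agent.Helper29.CoprodVKC
  Groth.Agent.Helper29.ShQBase

section General

variable {C D : Type*} [Category C] [Category D]

lemma jointlyMono_map [HasBinaryProducts C] [HasBinaryProducts D] (F : C ⥤ D)
    [PreservesLimitsOfShape (Discrete WalkingPair) F] [F.PreservesMonomorphisms]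
    {R X : C} (p₁ p₂ : R ⟶ X) [JointlyMono₂ p₁ p₂] : JointlyMono₂ (F.map p₁) (F.map p₂) := by
  have hm : Mono (prod.lift p₁ p₂) := ⟨fun f g h => JointlyMono₂.right_cancellation f g
    (by have := h =≫ prod.fst; rw [Category.assoc, Category.assoc, prod.lift_fst] at this; exact this)
    (by have := h =≫ prod.snd; rw [Category.assoc, Category.assoc, prod.lift_snd] at this; exact this)⟩
  have hm' : Mono (F.map (prod.lift p₁ p₂)) := inferInstance
  constructor
  intro Y f g h1 h2
  rw [← cancel_mono (F.map (prod.lift p₁ p₂)), ← cancel_mono (prodComparison F X X)]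
  apply Limits.prod.hom_ext
  · simp only [Category.assoc, prodComparison_fst, ← F.map_comp, prod.lift_fst]
    exact h1
  · simp only [Category.assoc, prodComparison_snd, ← F.map_comp, prod.lift_snd]
    exact h2

/-- the image of an equivalence relation under a finite-limit-preserving functor -/
noncomputable def erMap [HasBinaryProducts C] [HasBinaryProducts D] (F : C ⥤ D)
    [PreservesLimitsOfShape (Discrete WalkingPair) F] [F.PreservesMonomorphisms]
    [PreservesLimitsOfShape WalkingCospan F]
    {R X : C} {p₁ p₂ : R ⟶ X} (er : EquivalenceRelation p₁ p₂) :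
    EquivalenceRelation (F.map p₁) (F.map p₂) :=
  haveI : JointlyMono₂ p₁ p₂ := er.toJointlyMono₂
  haveI : JointlyMono₂ (F.map p₁) (F.map p₂) := jointlyMono_map F p₁ p₂
  { __ := er.toReflexiveRelation.map F
    __ := er.toSymmetricRelation.map F
    __ := er.toTransitiveRelation.map F }

end General

variable {C D : Type u} [SmallCategory C] [SmallCategory D] {J : GrothendieckTopology C}
  {K : GrothendieckTopology D} {ρ : Sheaf J (Type u) ⥤ Sheaf K (Type u)}
  [PreservesFiniteLimits ρ]

lemma effectiveEpi_glue {Y Z : Glue J K ρ} (φ : Y ⟶ Z) [Epi φ.left] [Epi φ.right] :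
    EffectiveEpi φ := by
  haveI : Epi φ := epi_of_left_right φ
  have kp := IsPullback.of_hasPullback φ φ
  have kl := isPullback_left kp
  have kr := isPullback_right kp
  haveI : IsRegularEpi φ.left := IsRegularEpiCategory.regularEpiOfEpi _
  haveI : IsRegularEpi φ.right := IsRegularEpiCategory.regularEpiOfEpi _
  have hreg : IsRegularEpi φ := by
    refine IsRegularEpi.of_epi_of_exists (fun W g hg => ?_)
    have hgl : (pullback.fst φ φ).left ≫ g.left = (pullback.snd φ φ).left ≫ g.left :=
      congrArg CommaMorphism.left hg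
    have hgr : (pullback.fst φ φ).right ≫ g.right = (pullback.snd φ φ).right ≫ g.right :=
      congrArg CommaMorphism.right hg
    have hl : ∀ {T : Sheaf K (Type u)} (a b : T ⟶ Y.left), a ≫ φ.left = b ≫ φ.left →
        a ≫ g.left = b ≫ g.left := by
      intro T a b hab
      have e1 := kl.lift_fst a b hab
      have e2 := kl.lift_snd a b hab
      calc a ≫ g.left = (kl.lift a b hab ≫ (pullback.fst φ φ).left) ≫ g.left := by rw [e1]
        _ = (kl.lift a b hab ≫ (pullback.snd φ φ).left) ≫ g.left := by
            rw [Category.assoc, hgl, Category.assoc]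
        _ = b ≫ g.left := by rw [e2]
    have hr : ∀ {T : Sheaf J (Type u)} (a b : T ⟶ Y.right), a ≫ φ.right = b ≫ φ.right →
        a ≫ g.right = b ≫ g.right := by
      intro T a b hab
      have e1 := kr.lift_fst a b hab
      have e2 := kr.lift_snd a b hab
      calc a ≫ g.right = (kr.lift a b hab ≫ (pullback.fst φ φ).right) ≫ g.right := by rw [e1]
        _ = (kr.lift a b hab ≫ (pullback.snd φ φ).right) ≫ g.right := by
            rw [Category.assoc, hgr, Category.assoc]
        _ = b ≫ g.right := by rw [e2]
    let ul : Z.left ⟶ W.left := EffectiveEpi.desc φ.left g.left hl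
    let ur : Z.right ⟶ W.right := EffectiveEpi.desc φ.right g.right hr
    have hul : φ.left ≫ ul = g.left := EffectiveEpi.fac φ.left g.left hl
    have hur : φ.right ≫ ur = g.right := EffectiveEpi.fac φ.right g.right hr
    refine ⟨{ left := ul, right := ur, w := ?_ }, ?_⟩
    · rw [← cancel_epi φ.left]
      have w1 := φ.w
      have w2 := g.w
      simp only [Functor.id_map] at w1 w2 ⊢
      rw [← Category.assoc, hul, w2, ← Category.assoc, w1, Category.assoc, ← ρ.map_comp, hur]
    · apply CommaMorphism.ext
      · exact hul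
      · exact hur
  exact (IsRegularEpi.getStruct φ).effectiveEpi

theorem hc_glue (R X : Glue J K ρ) (p₁ p₂ : R ⟶ X) (h : SGA4.IsEquivRel p₁ p₂) :
    SGA4.IsEffectiveUniversalEquivRel p₁ p₂ := by
  let er := equivRelOf h
  let el := sheafUniversallyEffective (erMap (Comma.fst (𝟭 (Sheaf K (Type u))) ρ) er)
  let er' := sheafUniversallyEffective (erMap (Comma.snd (𝟭 (Sheaf K (Type u))) ρ) er)
  have hkl : IsPullback p₁.left p₂.left el.π el.π := el.isKernelPair
  have hkr : IsPullback p₁.right p₂.right er'.π er'.π := er'.isKernelPair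
  have hpl : IsPushout p₁.left p₂.left el.π el.π := el.isPushout
  have hpr : IsPushout p₁.right p₂.right er'.π er'.π := er'.isPushout
  have hcoeq : p₁.left ≫ (X.hom ≫ ρ.map er'.π) = p₂.left ≫ (X.hom ≫ ρ.map er'.π) := by
    have w1 := p₁.w
    have w2 := p₂.w
    simp only [Functor.id_map] at w1 w2
    rw [← Category.assoc, w1, ← Category.assoc, w2, Category.assoc, Category.assoc,
      ← ρ.map_comp, ← ρ.map_comp, hkr.w]
  let q : el.B ⟶ ρ.obj er'.B := hpl.desc (X.hom ≫ ρ.map er'.π) (X.hom ≫ ρ.map er'.π) hcoeq
  have hq : el.π ≫ q = X.hom ≫ ρ.map er'.π := hpl.inl_desc _ _ _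
  let Q : Glue J K ρ := { left := el.B, right := er'.B, hom := q }
  let π : X ⟶ Q := { left := el.π, right := er'.π, w := by simpa using hq }
  have w : p₁ ≫ π = p₂ ≫ π := by
    apply CommaMorphism.ext
    · exact hkl.w
    · exact hkr.w
  refine ⟨Q, π, isPullback_of_left_right w hkl hkr, isPushout_of_left_right w hpl hpr, ?_⟩
  intro B' g
  have kp := (IsPullback.of_hasPullback π g).flip
  have kl := isPullback_left kp
  have kr := isPullback_right kp
  haveI : IsRegularEpi el.π := inferInstance
  haveI : IsRegularEpi er'.π := inferInstance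
  haveI : Epi (pullback.snd π g).left := sheaf_epi_of_isPullback K el.π _ _ _ kl
  haveI : Epi (pullback.snd π g).right := sheaf_epi_of_isPullback J er'.π _ _ _ kr
  exact effectiveEpi_glue _

end Groth.Agent.Helper29.GlueC
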