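import Mathlib

set_option autoImplicit false
universe u
open CategoryTheory CategoryTheory.Limits Opposite

namespace Groth.Agent.Helper29.LPShA

variable {C : Type u} [SmallCategory C]

instance yoneda_presentable (κ : Cardinal.{u}) [Fact κ.IsRegular] (X : C) :
    IsCardinalPresentable (yoneda.obj X) κ where
  preservesColimitOfShape J _ _ := by
    let e : (coyoneda.obj (op (yoneda.obj X))) ≅ (evaluation Cᵒᵖ (Type u)).obj (op X) :=
      NatIso.ofComponents (fun P ↦ Equiv.toIso yonedaEquiv)
    exact preservesColimitsOfShape_of_natIso e.symm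

variable (J : GrothendieckTopology C)

/-- index type of covering sieves -/
abbrev CovIdx : Type u := Σ X : C, {S : Sieve X // S ∈ J X}

/-- the small class of morphisms `S.functor ⟶ yoneda X` for covering sieves -/
def WJ : MorphismProperty (Cᵒᵖ ⥤ Type u) :=
  MorphismProperty.ofHoms (fun i : CovIdx J => i.2.1.functorInclusion)

instance : MorphismProperty.IsSmall.{u} (WJ J) := by
  unfold WJ
  infer_instance

lemma isLocal_eq : (WJ J).isLocal = Presheaf.IsSheaf J := by
  ext P
  rw [isSheaf_iff_isSheaf_of_type]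
  constructor
  · intro h X S hS
    rw [Presieve.isSheafFor_iff_yonedaSheafCondition]
    intro f
    have := h _ (MorphismProperty.ofHoms.mk (⟨X, S, hS⟩ : CovIdx J))
    exact this.existsUnique f
  · rintro h _ _ _ ⟨⟨X, S, hS⟩⟩
    have := (Presieve.isSheafFor_iff_yonedaSheafCondition).1 (h S hS)
    rw [Function.bijective_iff_existsUnique]
    exact this

lemma exists_kappa (κ₀ : Cardinal.{u}) : ∃ (κ : Cardinal.{u}) (_ : Fact κ.IsRegular), κ₀ ≤ κ ∧
    ∀ ⦃X Y : Cᵒᵖ ⥤ Type u⦄ (f : X ⟶ Y), WJ J f →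
      IsCardinalPresentable X κ ∧ IsCardinalPresentable Y κ := by
  have hp : ∀ i : CovIdx J, ∃ (κ : Cardinal.{u}) (_ : Fact κ.IsRegular),
      IsCardinalPresentable i.2.1.functor κ := fun i =>
    (inferInstance : IsPresentable.{u} i.2.1.functor).exists_cardinal
  choose κi hκi hpi using hp
  let κ : Cardinal.{u} := Order.succ (max (max κ₀ Cardinal.aleph0) (⨆ i, κi i))
  have hreg : Fact κ.IsRegular :=
    ⟨Cardinal.isRegular_succ (le_max_of_le_left (le_max_right _ _))⟩
  refine ⟨κ, hreg, ((le_max_left _ _).trans (le_max_left _ _)).trans (Order.le_succ _), ?_⟩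
  rintro _ _ _ ⟨i⟩
  refine ⟨?_, inferInstance⟩
  have hle : κi i ≤ κ :=
    ((le_ciSup (Cardinal.bddAbove_of_small) i).trans (le_max_right _ _)).trans (Order.le_succ _)
  haveI := hκi i
  haveI := hpi i
  exact isCardinalPresentable_of_le _ hle

lemma accessible_of_eq {E : Type (u + 1)} [Category.{u} E] {P Q : ObjectProperty E} (h : P = Q)
    {κ : Cardinal.{u}} [Fact κ.IsRegular] (hP : P.ι.IsCardinalAccessible κ) :
    Q.ι.IsCardinalAccessible κ := by
  subst h
  exact hP

theorem sheaf_locallyPresentable (κ₀ : Cardinal.{u}) :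
    ∃ (κ : Cardinal.{u}) (_ : Fact κ.IsRegular), κ₀ ≤ κ ∧
      IsCardinalLocallyPresentable (Sheaf J (Type u)) κ := by
  obtain ⟨κ, hκ, hle, hW⟩ := exists_kappa J κ₀
  refine ⟨κ, hκ, hle, ?_⟩
  have h1 := MorphismProperty.isCardinalAccessible_ι_isLocal (WJ J) κ hW
  have h2 : (sheafToPresheaf J (Type u)).IsCardinalAccessible κ :=
    accessible_of_eq (isLocal_eq J) h1
  exact (sheafificationAdjunction J (Type u)).isCardinalLocallyPresentable κ

end Groth.Agent.Helper29.LPShA
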