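import Mathlib
import Groth.Prelude.Def_SGA4a
import Groth.Agent.Lib.Helper29.LPShA
import Groth.Agent.Lib.Helper29.CanShH

set_option autoImplicit false
universe u
open CategoryTheory CategoryTheory.Limits Opposite

namespace Groth.Agent.Helper29.LPShB

open Groth.Agent.Helper29.LPShA Groth.Agent.Helper29.CanShB Groth.Agent.Helper29.CanShH

variable {C D : Type u} [SmallCategory C] [SmallCategory D] (J : GrothendieckTopology C)
  (K : GrothendieckTopology D) (ρ : Sheaf J (Type u) ⥤ Sheaf K (Type u)) [ρ.IsAccessible.{u}]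

/-- there is a small set `P` of sheaves such that for each sheaf `A`, the images under the
accessible functor `ρ` of all morphisms `A₀ ⟶ A` with `A₀ ∈ P` are jointly locally surjective. -/
theorem exists_small_cover :
    ∃ (P : ObjectProperty (Sheaf J (Type u))) (_ : ObjectProperty.Small.{u} P),
      ∀ A : Sheaf J (Type u),
        JLS (fun i : (Σ A₀ : Subtype P, (A₀.1 ⟶ A)) => ρ.map i.2) := by
  obtain ⟨κ₀, hκ₀, hρ⟩ := Functor.IsAccessible.exists_cardinal (F := ρ)
  obtain ⟨κ, hκ, hle, hLP⟩ := sheaf_locallyPresentable J κ₀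
  haveI : ρ.IsCardinalAccessible κ := Functor.isCardinalAccessible_of_le ρ hle
  obtain ⟨P, hPs, hP⟩ := HasCardinalFilteredGenerator.exists_small_generator (Sheaf J (Type u)) κ
  refine ⟨P, hPs, fun A => ?_⟩
  obtain ⟨I, _, _, ⟨pres⟩⟩ := hP.exists_colimitsOfShape A
  have := Functor.preservesColimitsOfShape_of_isCardinalAccessible ρ κ I
  have hcol := isColimitOfPreserves ρ pres.isColimit
  have hepi : SGA4.IsEpiFamily (fun i : I => ρ.map (pres.ι.app i)) := by
    intro Z a b h
    exact hcol.hom_ext h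
  have hjls := jls_of_isEpiFamily hepi
  intro U x
  obtain ⟨R, hR, h⟩ := hjls U x
  refine ⟨R, hR, fun V g hg => ?_⟩
  obtain ⟨i, y, hy⟩ := h g hg
  exact ⟨⟨⟨pres.diag.obj i, pres.prop_diag_obj i⟩, pres.ι.app i⟩, y, hy⟩

end Groth.Agent.Helper29.LPShB
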