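import Mathlib
import Groth.Prelude.Def_SGA4a
import Groth.Agent.Lib.Helper29.GlueC
import Groth.Agent.Lib.Helper29.LPShB
import Groth.Agent.Lib.Helper29.GirG

set_option autoImplicit false
universe u
open CategoryTheory CategoryTheory.Limits Opposite

namespace Groth.Agent.Helper29.GlueD

open Groth.Agent.Helper29.GlueA Groth.Agent.Helper29.GlueB Groth.Agent.Helper29.GlueC
  Groth.Agent.Helper29.CanShB Groth.Agent.Helper29.CanShH Groth.Agent.Helper29.LPShB

variable {C D : Type u} [SmallCategory C] [SmallCategory D] (J : GrothendieckTopology C)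
  (K : GrothendieckTopology D) (ρ : Sheaf J (Type u) ⥤ Sheaf K (Type u))

/-- fast path for instance resolution -/
noncomputable local instance (priority := 10000) shColimJ :
    HasColimitsOfSize.{u, u} (Sheaf J (Type u)) := Sheaf.instHasColimitsOfSize

/-- fast path for instance resolution -/
noncomputable local instance (priority := 10000) shColimK :
    HasColimitsOfSize.{u, u} (Sheaf K (Type u)) := Sheaf.instHasColimitsOfSize

/-- generators of the first kind: `(∅, ε c, !)` -/
noncomputable def gen1 (c : C) : Glue J K ρ :=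
  { left := ⊥_ _, right := (ε J).obj c, hom := initial.to _ }

/-- generators of the second kind: `(ε d, A₀, ψ)` -/
noncomputable def gen2 (d : D) (A₀ : Sheaf J (Type u)) (ψ : (ε K).obj d ⟶ ρ.obj A₀) :
    Glue J K ρ :=
  { left := (ε K).obj d, right := A₀, hom := ψ }

variable (P₀ : ObjectProperty (Sheaf J (Type u)))

/-- index type of the generating family -/
abbrev Idx := C ⊕ (Σ (d : D) (A₀ : Subtype P₀), ((ε K).obj d ⟶ ρ.obj A₀.1))

/-- the generating family -/
noncomputable def genFam : Idx J K ρ P₀ → Glue J K ρ :=
  Sum.elim (gen1 J K ρ) (fun t => gen2 J K ρ t.1 t.2.1.1 t.2.2)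

instance [ObjectProperty.Small.{u} P₀] : Small.{u} (Idx J K ρ P₀) := by
  unfold Idx
  infer_instance

variable {J K ρ P₀}

lemma isIso_of_bijective {E : Type u} [SmallCategory E] {L : GrothendieckTopology E}
    {X Y : Sheaf L (Type u)} (f : X ⟶ Y)
    (h : ∀ c : E, Function.Bijective (f.hom.app (op c))) : IsIso f := by
  rw [← ObjectProperty.isIso_hom_iff]
  haveI : ∀ U : Eᵒᵖ, IsIso (f.hom.app U) := by
    rintro ⟨c⟩
    rw [isIso_iff_bijective]
    exact h c
  exact NatIso.isIso_of_isIso_app f.hom

lemma injective_of_isIso {E : Type u} [SmallCategory E] {L : GrothendieckTopology E}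
    {X Y : Sheaf L (Type u)} (f : X ⟶ Y) [IsIso f] (c : E) :
    Function.Injective (f.hom.app (op c)) := by
  intro a b hab
  have h1 : (f ≫ inv f).hom.app (op c) a = (f ≫ inv f).hom.app (op c) b := by
    rw [comp_app_apply, comp_app_apply, hab]
  rw [IsIso.hom_inv_id] at h1
  exact h1

theorem detecting
    (hP₀ : ∀ A : Sheaf J (Type u),
      JLS (fun i : (Σ A₀ : Subtype P₀, (A₀.1 ⟶ A)) => ρ.map i.2)) :
    (ObjectProperty.ofObj (genFam J K ρ P₀)).IsDetecting := by
  intro X Y φ hφ
  -- the right component is an isomorphism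
  haveI hr : IsIso φ.right := by
    apply isIso_of_bijective
    intro c
    constructor
    · intro x₁ x₂ hx
      let h₁ : gen1 J K ρ c ⟶ X :=
        { left := initial.to _, right := hat x₁, w := initial.hom_ext _ _ }
      let h₂ : gen1 J K ρ c ⟶ X :=
        { left := initial.to _, right := hat x₂, w := initial.hom_ext _ _ }
      have e : h₁ ≫ φ = h₂ ≫ φ := by
        apply CommaMorphism.ext
        · exact initial.hom_ext _ _
        · change hat x₁ ≫ φ.right = hat x₂ ≫ φ.right
          rw [hat_comp, hat_comp, hx]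
      have := (hφ (gen1 J K ρ c) (ObjectProperty.ofObj_apply (genFam J K ρ P₀) (Sum.inl c))
        (h₂ ≫ φ)).unique e rfl
      have h3 : hat x₁ = hat x₂ := congrArg CommaMorphism.right this
      exact (secEquiv c X.right).symm.injective h3
    · intro y
      let h : gen1 J K ρ c ⟶ Y :=
        { left := initial.to _, right := hat y, w := initial.hom_ext _ _ }
      obtain ⟨h', hh', -⟩ := hφ (gen1 J K ρ c)
        (ObjectProperty.ofObj_apply (genFam J K ρ P₀) (Sum.inl c)) h
      let r : (ε J).obj c ⟶ X.right := h'.right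
      have hr' : r ≫ φ.right = hat y := congrArg CommaMorphism.right hh'
      refine ⟨secEquiv c _ r, ?_⟩
      rw [← secEquiv_comp, hr', secEquiv_hat]
  haveI hρr : IsIso (ρ.map φ.right) := inferInstance
  -- the left component is an isomorphism
  haveI hl : IsIso φ.left := by
    refine (Sheaf.isLocallyBijective_iff_isIso φ.left).1 ⟨?_, ?_⟩
    · rw [Sheaf.isLocallyInjective_iff_injective]
      rintro ⟨d⟩ x₁ x₂ hx
      -- the images in `ρ X.right` agree
      have hs : X.hom.hom.app (op d) x₁ = X.hom.hom.app (op d) x₂ := by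
        apply injective_of_isIso (ρ.map φ.right) d
        have w := φ.w
        simp only [Functor.id_map] at w
        have e1 : ∀ x, (ρ.map φ.right).hom.app (op d) (X.hom.hom.app (op d) x) =
            Y.hom.hom.app (op d) (φ.left.hom.app (op d) x) := by
          intro x
          rw [← comp_app_apply, ← comp_app_apply, w]
        rw [e1, e1, hx]
      obtain ⟨S, hS, hS'⟩ := hP₀ X.right d (X.hom.hom.app (op d) x₁)
      have hXl : Presieve.IsSheaf K X.left.obj := (isSheaf_iff_isSheaf_of_type _ _).1 X.left.property
      apply (hXl.isSeparated S hS).ext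
      intro d' g hg
      obtain ⟨⟨A₀, a⟩, t, ht⟩ := hS' g hg
      have key : ∀ x, X.hom.hom.app (op d) x = X.hom.hom.app (op d) x₁ →
          hat (X.left.obj.map g.op x) ≫ X.hom = hat t ≫ ρ.map a := by
        intro x hx'
        rw [hat_comp, hat_comp, ht, ← hx']
        congr 1
        exact ConcreteCategory.congr_hom (X.hom.hom.naturality g.op) x
      let h₁ : gen2 J K ρ d' A₀.1 (hat t) ⟶ X :=
        { left := hat (X.left.obj.map g.op x₁), right := a, w := by
            simp only [Functor.id_map]
            exact key x₁ rfl }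
      let h₂ : gen2 J K ρ d' A₀.1 (hat t) ⟶ X :=
        { left := hat (X.left.obj.map g.op x₂), right := a, w := by
            simp only [Functor.id_map]
            exact key x₂ hs.symm }
      have e : h₁ ≫ φ = h₂ ≫ φ := by
        apply CommaMorphism.ext
        · change hat (X.left.obj.map g.op x₁) ≫ φ.left = hat (X.left.obj.map g.op x₂) ≫ φ.left
          rw [hat_comp, hat_comp]
          congr 1
          have n1 := ConcreteCategory.congr_hom (φ.left.hom.naturality g.op) x₁
          have n2 := ConcreteCategory.congr_hom (φ.left.hom.naturality g.op) x₂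
          dsimp at n1 n2
          rw [n1, n2, hx]
        · rfl
      have := (hφ (gen2 J K ρ d' A₀.1 (hat t)) (ObjectProperty.ofObj_apply (genFam J K ρ P₀)
        (Sum.inr ⟨d', A₀, hat t⟩)) (h₂ ≫ φ)).unique e rfl
      have h3 : hat (X.left.obj.map g.op x₁) = hat (X.left.obj.map g.op x₂) :=
        congrArg CommaMorphism.left this
      exact (secEquiv d' X.left).symm.injective h3
    · constructor
      intro d y
      obtain ⟨S, hS, hS'⟩ := hP₀ Y.right d (Y.hom.hom.app (op d) y)
      refine K.superset_covering ?_ hS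
      intro d' g hg
      obtain ⟨⟨A₀, a⟩, t, ht⟩ := hS' g hg
      let h : gen2 J K ρ d' A₀.1 (hat t) ⟶ Y :=
        { left := hat (Y.left.obj.map g.op y), right := a, w := by
            simp only [Functor.id_map]
            change hat (Y.left.obj.map g.op y) ≫ Y.hom = hat t ≫ ρ.map a
            rw [hat_comp, hat_comp, ht]
            congr 1
            exact ConcreteCategory.congr_hom (Y.hom.hom.naturality g.op) y }
      obtain ⟨h', hh', -⟩ := hφ (gen2 J K ρ d' A₀.1 (hat t))
        (ObjectProperty.ofObj_apply (genFam J K ρ P₀) (Sum.inr ⟨d', A₀, hat t⟩)) h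
      let r : (ε K).obj d' ⟶ X.left := h'.left
      have hr' : r ≫ φ.left = hat (Y.left.obj.map g.op y) := congrArg CommaMorphism.left hh'
      refine ⟨secEquiv d' _ r, ?_⟩
      rw [← secEquiv_comp, hr', secEquiv_hat]
  exact isIso_of_left_right φ

variable (J K ρ)

theorem glue_isTopos [PreservesFiniteLimits ρ] [ρ.IsAccessible.{u}] :
    SGA4.IsTopos.{u + 1, u} (Glue J K ρ) := by
  obtain ⟨P₀, hPs, hP₀⟩ := exists_small_cover J K ρ
  haveI := hPs
  exact Groth.Agent.Helper29.GirG.giraud (hb_glue J K ρ) (hc_glue (J := J) (K := K) (ρ := ρ))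
    (detecting hP₀)

end Groth.Agent.Helper29.GlueD
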