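import Mathlib
import Groth.Prelude.Def_DeRham

/-!
# de Rham cohomology of `G_m = Spec k[T, T⁻¹]` (helper29)
-/

open exteriorPower LaurentPolynomial

namespace Groth.Agent.Helper29.GmDR

universe u

noncomputable section

variable (k : Type u) [Field k]

/-- Laurent polynomials -/
abbrev L := LaurentPolynomial k

/-- `d/dT` -/
def ddT : L k →ₗ[k] L k :=
  (Finsupp.linearCombination k (fun n : ℤ => (n : k) • (T (n - 1) : L k))) ∘ₗ
    (AddMonoidAlgebra.coeffLinearEquiv k).toLinearMap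

theorem ddT_CT (a : k) (n : ℤ) : ddT k (C a * T n) = (a * (n : k)) • (T (n - 1) : L k) := by
  rw [← single_eq_C_mul_T]
  show Finsupp.linearCombination k _ (Finsupp.single n a) = _
  rw [Finsupp.linearCombination_single, smul_smul]

theorem ddT_T (n : ℤ) : ddT k (T n) = (n : k) • (T (n - 1) : L k) := by
  have := ddT_CT k 1 n
  rwa [map_one, one_mul, one_mul] at this

/-- antiderivative (away from `T⁻¹`) -/
def intT : L k →ₗ[k] L k :=
  (Finsupp.linearCombination k (fun n : ℤ => ((n + 1 : ℤ) : k)⁻¹ • (T (n + 1) : L k))) ∘ₗ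
    (AddMonoidAlgebra.coeffLinearEquiv k).toLinearMap

theorem intT_CT (a : k) (n : ℤ) :
    intT k (C a * T n) = (a * ((n + 1 : ℤ) : k)⁻¹) • (T (n + 1) : L k) := by
  rw [← single_eq_C_mul_T]
  show Finsupp.linearCombination k _ (Finsupp.single n a) = _
  rw [Finsupp.linearCombination_single, smul_smul]

/-- coefficient of `T⁻¹` -/
def cm1 : L k →ₗ[k] k :=
  (Finsupp.lapply (-1)) ∘ₗ (AddMonoidAlgebra.coeffLinearEquiv k).toLinearMap

theorem cm1_CT (a : k) (n : ℤ) : cm1 k (C a * T n) = if n = -1 then a else 0 := by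
  rw [← single_eq_C_mul_T]
  show (Finsupp.single n a) (-1) = _
  rw [Finsupp.single_apply]

theorem cm1_ddT (f : L k) : cm1 k (ddT k f) = 0 := by
  induction f using LaurentPolynomial.induction_on' with
  | add p q hp hq => rw [map_add, map_add, hp, hq, add_zero]
  | C_mul_T n a =>
    rw [ddT_CT, smul_eq_C_mul, cm1_CT]
    split_ifs with h
    · have : n = 0 := by omega
      subst this
      simp
    · rfl

theorem ddT_intT [CharZero k] (g : L k) :
    ddT k (intT k g) = g - C (cm1 k g) * T (-1) := by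
  induction g using LaurentPolynomial.induction_on' with
  | add p q hp hq =>
    simp only [map_add, hp, hq, add_mul]
    ring
  | C_mul_T n a =>
    rw [intT_CT, smul_eq_C_mul, ddT_CT, cm1_CT]
    by_cases h : n = -1
    · subst h
      simp
    · have h1 : ((n + 1 : ℤ) : k) ≠ 0 := Int.cast_ne_zero.2 (by omega)
      rw [if_neg h, map_zero, zero_mul, sub_zero, mul_assoc, inv_mul_cancel₀ h1, mul_one,
        add_sub_cancel_right, smul_eq_C_mul]

theorem ddT_mul (f g : L k) : ddT k (f * g) = f • ddT k g + g • ddT k f := by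
  induction f using LaurentPolynomial.induction_on' with
  | add p q hp hq =>
    rw [add_mul, map_add, hp, hq, map_add, add_smul, smul_add]
    abel
  | C_mul_T n a =>
    induction g using LaurentPolynomial.induction_on' with
    | add p q hp hq =>
      rw [mul_add, map_add, hp, hq, map_add, add_smul, smul_add]
      abel
    | C_mul_T m b =>
      have e : (C a * T n * (C b * T m) : L k) = C (a * b) * T (n + m) := by
        rw [map_mul, T_add]
        ring
      have h1 : (T (n + m - 1) : L k) = T n * T (m - 1) := by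
        rw [← T_add]
        congr 1
        ring
      have h2 : (T (n + m - 1) : L k) = T m * T (n - 1) := by
        rw [← T_add]
        congr 1
        ring
      rw [e, ddT_CT, ddT_CT, ddT_CT, smul_eq_mul, smul_eq_mul, smul_eq_C_mul, smul_eq_C_mul,
        smul_eq_C_mul]
      have r1 : (C a * T n * (C (b * (m : k)) * T (m - 1)) : L k) =
          C a * C (b * (m : k)) * (T n * T (m - 1)) := by ring
      have r2 : (C b * T m * (C (a * (n : k)) * T (n - 1)) : L k) =
          C b * C (a * (n : k)) * (T m * T (n - 1)) := by ring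
      rw [r1, r2, ← h1, ← h2, Int.cast_add]
      simp only [map_mul, map_add]
      ring

/-- `d/dT` as a derivation -/
def der : Derivation k (L k) (L k) := Derivation.mk' (ddT k) (ddT_mul k)

theorem der_apply (f : L k) : der k f = ddT k f := rfl

/-- the `L`-linear map `Ω → L`, `df ↦ f'` -/
def ell : Ω[L k⁄k] →ₗ[L k] L k := (der k).liftKaehlerDifferential

theorem ell_D (f : L k) : ell k (KaehlerDifferential.D k (L k) f) = ddT k f :=
  (der k).liftKaehlerDifferential_comp_D f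

/-- `dT` -/
def dT : Ω[L k⁄k] := KaehlerDifferential.D k (L k) (T 1)

/-- `f ↦ f' dT` -/
def D2 : Derivation k (L k) (Ω[L k⁄k]) :=
  (LinearMap.toSpanSingleton (L k) (Ω[L k⁄k]) (dT k)).compDer (der k)

theorem D2_apply (f : L k) : D2 k f = ddT k f • dT k := rfl

theorem ddT_T1 : ddT k (T 1) = 1 := by
  rw [ddT_T]
  simp

theorem D_T1 : KaehlerDifferential.D k (L k) (T 1) = D2 k (T 1) := by
  rw [D2_apply, ddT_T1, one_smul]
  rfl

theorem D_Tm1 : KaehlerDifferential.D k (L k) (T (-1)) = D2 k (T (-1)) := by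
  have h : (T (-1) : L k) * T 1 = 1 := by
    rw [← T_add]
    exact T_zero
  rw [Derivation.leibniz_of_mul_eq_one _ h, D2_apply, ddT_T, T_pow]
  have e : ((2 : ℕ) : ℤ) * -1 = -1 - 1 := by norm_num
  rw [e, Int.cast_neg, Int.cast_one, neg_smul, neg_smul, one_smul, neg_smul]
  rfl

theorem D_pow_eq (D1 D2' : Derivation k (L k) (Ω[L k⁄k])) (a : L k) (h : D1 a = D2' a)
    (m : ℕ) : D1 (a ^ m) = D2' (a ^ m) := by
  rw [Derivation.leibniz_pow, Derivation.leibniz_pow, h]

theorem D_eq (f : L k) : KaehlerDifferential.D k (L k) f = ddT k f • dT k := by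
  rw [← D2_apply]
  induction f using LaurentPolynomial.induction_on' with
  | add p q hp hq => rw [map_add, map_add, hp, hq]
  | C_mul_T n a =>
    rw [← smul_eq_C_mul, Derivation.map_smul, Derivation.map_smul]
    congr 1
    obtain ⟨m, rfl | rfl⟩ := Int.eq_nat_or_neg n
    · have e : (T (m : ℤ) : L k) = T 1 ^ m := by rw [T_pow, mul_one]
      rw [e]
      exact D_pow_eq k _ _ _ (D_T1 k) m
    · have e : (T (-(m : ℤ)) : L k) = T (-1) ^ m := by rw [T_pow, mul_neg_one]
      rw [e]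
      exact D_pow_eq k _ _ _ (D_Tm1 k) m

theorem span_dT : Submodule.span (L k) ({dT k} : Set (Ω[L k⁄k])) = ⊤ := by
  rw [eq_top_iff, ← KaehlerDifferential.span_range_derivation k (L k), Submodule.span_le]
  rintro _ ⟨f, rfl⟩
  rw [D_eq]
  exact Submodule.smul_mem _ _ (Submodule.subset_span rfl)

theorem ell_dT : ell k (dT k) = 1 := by
  rw [dT, ell_D, ddT_T1]

theorem eq_ell_smul (ω : Ω[L k⁄k]) : ω = ell k ω • dT k := by
  have hω : ω ∈ Submodule.span (L k) ({dT k} : Set (Ω[L k⁄k])) := by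
    rw [span_dT]
    trivial
  obtain ⟨g, rfl⟩ := Submodule.mem_span_singleton.1 hω
  rw [map_smul, ell_dT, smul_eq_mul, mul_one]

/-- forms of degree `≥ 2` vanish -/
theorem ext_zero (p : ℕ) (hp : 2 ≤ p) (x : ↥(⋀[L k]^p (Ω[L k⁄k]))) : x = 0 := by
  have hx : x ∈ Submodule.span (L k)
      (ιMulti (L k) p '' {a | Set.range a ⊆ ({dT k} : Set (Ω[L k⁄k]))}) := by
    rw [exteriorPower.ιMulti_span_of_span (L k) p _ (span_dT k)]
    trivial
  induction hx using Submodule.span_induction with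
  | mem x hx =>
    obtain ⟨a, ha, rfl⟩ := hx
    have h0 : a ⟨0, by omega⟩ = dT k := ha ⟨_, rfl⟩
    have h1 : a ⟨1, by omega⟩ = dT k := ha ⟨_, rfl⟩
    exact (ιMulti (L k) p).map_eq_zero_of_eq a (h0.trans h1.symm) (by simp [Fin.ext_iff])
  | zero => rfl
  | add x y _ _ hx hy => rw [hx, hy, add_zero]
  | smul a x _ hx => rw [hx, smul_zero]

/-- `⋀¹Ω → L`, `f dT ↦ f` -/
def Φ : ↥(⋀[L k]^1 (Ω[L k⁄k])) →ₗ[L k] L k :=
  ell k ∘ₗ (oneEquiv (L k) (Ω[L k⁄k])).toLinearMap

theorem Φ_apply (η : ↥(⋀[L k]^1 (Ω[L k⁄k]))) :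
    Φ k η = ell k (oneEquiv (L k) (Ω[L k⁄k]) η) := rfl

theorem Φ_injective : Function.Injective (Φ k) := by
  rw [← LinearMap.ker_eq_bot, LinearMap.ker_eq_bot']
  intro η h
  rw [Φ_apply] at h
  have := eq_ell_smul k (oneEquiv (L k) (Ω[L k⁄k]) η)
  rw [h, zero_smul] at this
  exact (LinearEquiv.map_eq_zero_iff _).1 this

theorem Φ_gen (b₀ : L k) (b : Fin 1 → L k) :
    Φ k (DeRham.gen (KaehlerDifferential.D k (L k)) 1 b₀ b) = b₀ * ddT k (b 0) := by
  unfold DeRham.gen
  rw [map_smul, Φ_apply, oneEquiv_ιMulti, ell_D, smul_eq_mul]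

theorem Φ_d0
    (d : ∀ p : ℕ, ↥(⋀[L k]^p (Ω[L k⁄k])) →ₗ[k] ↥(⋀[L k]^(p + 1) (Ω[L k⁄k])))
    (hd : DeRham.IsDiff (KaehlerDifferential.D k (L k)) d) (x : ↥(⋀[L k]^0 (Ω[L k⁄k]))) :
    Φ k (d 0 x) = ddT k (zeroEquiv (L k) (Ω[L k⁄k]) x) := by
  have hz : ∀ b₀ : L k, zeroEquiv (L k) (Ω[L k⁄k])
      (DeRham.gen (KaehlerDifferential.D k (L k)) 0 b₀ Fin.elim0) = b₀ := by
    intro b₀
    unfold DeRham.gen
    rw [map_smul, zeroEquiv_ιMulti, smul_eq_mul, mul_one]
  obtain ⟨b₀, rfl⟩ : ∃ b₀ : L k, x = DeRham.gen (KaehlerDifferential.D k (L k)) 0 b₀ Fin.elim0 := by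
    refine ⟨zeroEquiv (L k) (Ω[L k⁄k]) x, ?_⟩
    apply (zeroEquiv (L k) (Ω[L k⁄k])).injective
    rw [hz]
  rw [hz, hd.1 0, Φ_apply, oneEquiv_ιMulti, Fin.cons_zero, ell_D]

/-- the residue -/
def res : ↥(⋀[L k]^1 (Ω[L k⁄k])) →ₗ[k] k :=
  cm1 k ∘ₗ (Φ k).restrictScalars k

theorem res_apply (η : ↥(⋀[L k]^1 (Ω[L k⁄k]))) : res k η = cm1 k (Φ k η) := rfl

theorem main [CharZero k]
    (d : ∀ p : ℕ, ↥(⋀[L k]^p (Ω[L k⁄k])) →ₗ[k] ↥(⋀[L k]^(p + 1) (Ω[L k⁄k])))
    (hd : DeRham.IsDiff (KaehlerDifferential.D k (L k)) d) :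
    DeRham.cocycles d 1 = ⊤ ∧
    IsCompl (DeRham.coboundaries d 1)
      (Submodule.span k {DeRham.gen (KaehlerDifferential.D k (L k)) 1
        (T (-1)) (fun _ => T 1)}) ∧
    DeRham.gen (KaehlerDifferential.D k (L k)) 1
        (T (-1)) (fun _ => T 1) ∉ DeRham.coboundaries d 1 ∧
    ∀ i : ℕ, DeRham.cocycles d (i + 2) ≤ DeRham.coboundaries d (i + 2) := by
  have hres0' : res k (DeRham.gen (KaehlerDifferential.D k (L k)) 1
        (T (-1)) (fun _ => T 1)) = 1 := by
    rw [res_apply, Φ_gen, ddT_T1, mul_one]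
    have := cm1_CT k 1 (-1)
    rwa [map_one, one_mul, if_pos rfl] at this
  generalize DeRham.gen (KaehlerDifferential.D k (L k)) 1
        (T (-1)) (fun _ => T 1) = g₀ at hres0' ⊢
  have hres0 : res k g₀ = 1 := hres0'
  have hcob : ∀ η : ↥(⋀[L k]^1 (Ω[L k⁄k])), η ∈ DeRham.coboundaries d 1 ↔ res k η = 0 := by
    intro η
    constructor
    · intro h
      obtain ⟨x, rfl⟩ := h
      rw [res_apply]
      exact (congrArg (cm1 k) (Φ_d0 k d hd x)).trans (cm1_ddT k _)
    · intro h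
      rw [res_apply] at h
      have h2 := ddT_intT k (Φ k η)
      rw [h, map_zero, zero_mul, sub_zero] at h2
      refine ⟨(zeroEquiv (L k) (Ω[L k⁄k])).symm (intT k (Φ k η)), ?_⟩
      apply Φ_injective k
      refine (Φ_d0 k d hd _).trans ?_
      rw [LinearEquiv.apply_symm_apply, h2]
  refine ⟨?_, ?_, ?_, ?_⟩
  · rw [eq_top_iff]
    intro x _
    exact LinearMap.mem_ker.2 (ext_zero k (1 + 1) (by norm_num) (d 1 x))
  · constructor
    · rw [Submodule.disjoint_def]
      intro x hx hx'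
      obtain ⟨c, rfl⟩ := Submodule.mem_span_singleton.1 hx'
      have := (hcob _).1 hx
      rw [map_smul, hres0, smul_eq_mul, mul_one] at this
      rw [this, zero_smul]
    · rw [Submodule.codisjoint_iff_exists_add_eq]
      intro ω
      refine ⟨ω - res k ω • g₀, res k ω • g₀, (hcob _).2 ?_,
        Submodule.smul_mem _ _ (Submodule.subset_span rfl), sub_add_cancel _ _⟩
      rw [map_sub, map_smul, hres0, smul_eq_mul, mul_one, sub_self]
  · intro h
    have := (hcob _).1 h
    rw [hres0] at this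
    exact one_ne_zero this
  · intro i x _
    rw [ext_zero k (i + 2) (by omega) x]
    exact zero_mem _

end

end Groth.Agent.Helper29.GmDR
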