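import Mathlib
import Groth.Prelude.Def_GLin

set_option autoImplicit false
universe u v w

namespace Groth.Agent.Helper29.GmDiag

open TensorProduct LaurentPolynomial

variable {k : Type u} [Field k] {ι : Type w}

/-- limit lemma: if `Φ X_i = v_i T^{ρ_i}` with `ρ_i > 0` on the support of `v` and `Φ F` is the
constant `c`, then `F(0) = c`. -/
theorem eval_zero_of_pos_weights (v : ι → k) (ρ : ι → ℤ) (hρ : ∀ i, v i ≠ 0 → 0 < ρ i)
    (Φ : MvPolynomial ι k →ₐ[k] k[T;T⁻¹]) (hΦ : ∀ i, Φ (MvPolynomial.X i) = C (v i) * T (ρ i))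
    (F : MvPolynomial ι k) (c : k) (hF : Φ F = C c) : MvPolynomial.eval (0 : ι → k) F = c := by
  classical
  let h : MvPolynomial ι k →ₐ[k] Polynomial k := MvPolynomial.aeval
    (fun i => if v i = 0 then 0 else Polynomial.C (v i) * Polynomial.X ^ (ρ i).toNat)
  have h1 : (Polynomial.toLaurentAlg (R := k)).comp h = Φ := by
    apply MvPolynomial.algHom_ext
    intro i
    rw [AlgHom.comp_apply, MvPolynomial.aeval_X, hΦ]
    split_ifs with hv
    · rw [hv]; simp
    · rw [Polynomial.toLaurentAlg_apply, Polynomial.toLaurent_C_mul_X_pow,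
        Int.toNat_of_nonneg (hρ i hv).le]
  have h2 : (Polynomial.aeval (0 : k)).comp h = MvPolynomial.aeval (0 : ι → k) := by
    apply MvPolynomial.algHom_ext
    intro i
    rw [AlgHom.comp_apply, MvPolynomial.aeval_X, MvPolynomial.aeval_X]
    split_ifs with hv
    · simp
    · have : (ρ i).toNat ≠ 0 := by have := hρ i hv; omega
      simp [this]
  have h3 : h F = Polynomial.C c := by
    apply Polynomial.toLaurent_injective
    rw [Polynomial.toLaurent_C, ← hF, ← h1]
    rfl
  have h4 := congrArg (fun φ => φ F) h2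
  simp only [AlgHom.comp_apply] at h4
  rw [h3, Polynomial.aeval_C] at h4
  rw [← MvPolynomial.aeval_eq_eval, ← h4]
  rfl

section Coact

variable [HopfRep.Comod k k[T;T⁻¹] (MvPolynomial ι k)]
  [GLin.IsCoactAlg k k[T;T⁻¹] (MvPolynomial ι k)]
  (r : ι → ℤ)
  (hr : ∀ i : ι, HopfRep.Comod.coact (k := k) (A := k[T;T⁻¹])
      (MvPolynomial.X i : MvPolynomial ι k) =
    (MvPolynomial.X i : MvPolynomial ι k) ⊗ₜ[k] (T (r i) : k[T;T⁻¹]))

include hr

theorem orbitHom_X (v : ι → k) (i : ι) :
    GLin.orbitHom k k[T;T⁻¹] (GLin.vecPt k ι v) (MvPolynomial.X i) = C (v i) * T (r i) := by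
  unfold GLin.orbitHom
  simp only [AlgHom.comp_apply, GLin.coactAlgHom_apply]
  rw [hr i]
  simp [LaurentPolynomial.smul_eq_C_mul]

omit hr in
theorem orbitHom_of_mem_invariants (v : ι → k) (F : MvPolynomial ι k)
    (hF : F ∈ GLin.invariants k k[T;T⁻¹] (MvPolynomial ι k)) :
    GLin.orbitHom k k[T;T⁻¹] (GLin.vecPt k ι v) F = C (MvPolynomial.eval v F) := by
  rw [GLin.mem_invariants_iff] at hF
  unfold GLin.orbitHom
  simp only [AlgHom.comp_apply, GLin.coactAlgHom_apply]
  rw [hF]
  simp [LaurentPolynomial.smul_eq_C_mul, MvPolynomial.aeval_eq_eval]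

theorem coact_pow_mul_pow (i j : ι) (a b : ℕ) :
    HopfRep.Comod.coact (k := k) (A := k[T;T⁻¹])
      ((MvPolynomial.X i : MvPolynomial ι k) ^ a * MvPolynomial.X j ^ b) =
    ((MvPolynomial.X i : MvPolynomial ι k) ^ a * MvPolynomial.X j ^ b) ⊗ₜ[k]
      (T (a * r i + b * r j) : k[T;T⁻¹]) := by
  have h := map_mul (GLin.coactAlgHom k k[T;T⁻¹] (MvPolynomial ι k))
    ((MvPolynomial.X i : MvPolynomial ι k) ^ a) (MvPolynomial.X j ^ b)
  rw [map_pow, map_pow] at h
  simp only [GLin.coactAlgHom_apply] at h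
  rw [h, hr i, hr j, Algebra.TensorProduct.tmul_pow, Algebra.TensorProduct.tmul_pow,
    Algebra.TensorProduct.tmul_mul_tmul, LaurentPolynomial.T_pow, LaurentPolynomial.T_pow,
    ← LaurentPolynomial.T_add]

theorem semistable_iff (v : ι → k) :
    GLin.IsSemistableVec k k[T;T⁻¹] v ↔ ∃ i j : ι, v i ≠ 0 ∧ v j ≠ 0 ∧ r i ≤ 0 ∧ 0 ≤ r j := by
  constructor
  · intro hss
    by_contra hne
    apply hss
    intro F hF d hd hhom
    by_contra hFv
    have hΨ := orbitHom_of_mem_invariants v F hF
    have h0 : MvPolynomial.eval (0 : ι → k) F = 0 := by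
      rw [MvPolynomial.eval_zero, MvPolynomial.constantCoeff_eq]
      apply hhom.coeff_eq_zero
      simpa using hd.ne
    -- either all weights on the support are positive, or all negative
    by_cases hall : ∀ i, v i ≠ 0 → 0 < r i
    · have := eval_zero_of_pos_weights v r hall _ (orbitHom_X r hr v) F _ hΨ
      exact hFv (this.symm.trans h0)
    · push Not at hall
      obtain ⟨i₀, hi₀, hri₀⟩ := hall
      have hneg : ∀ j, v j ≠ 0 → 0 < -r j := by
        intro j hj
        by_contra hcon
        exact hne ⟨i₀, j, hi₀, hj, hri₀, by omega⟩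
      have hΦ : ∀ i, ((LaurentPolynomial.invert (R := k)).toAlgHom.comp
          (GLin.orbitHom k k[T;T⁻¹] (GLin.vecPt k ι v))) (MvPolynomial.X i) =
          C (v i) * T (-r i) := by
        intro i
        rw [AlgHom.comp_apply, orbitHom_X r hr]
        simp
      have hΦF : ((LaurentPolynomial.invert (R := k)).toAlgHom.comp
          (GLin.orbitHom k k[T;T⁻¹] (GLin.vecPt k ι v))) F = C (MvPolynomial.eval v F) := by
        rw [AlgHom.comp_apply, hΨ]
        simp
      have := eval_zero_of_pos_weights v (fun i => -r i) hneg _ hΦ F _ hΦF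
      exact hFv (this.symm.trans h0)
  · rintro ⟨i, j, hi, hj, hri, hrj⟩ hnull
    by_cases h0 : r i = 0
    · -- F = X i
      have hinv : (MvPolynomial.X i : MvPolynomial ι k) ∈
          GLin.invariants k k[T;T⁻¹] (MvPolynomial ι k) := by
        rw [GLin.mem_invariants_iff, hr i, h0, LaurentPolynomial.T_zero]
      have := hnull _ hinv 1 Nat.one_pos (MvPolynomial.isHomogeneous_X k i)
      rw [MvPolynomial.eval_X] at this
      exact hi this
    · have hinv : ((MvPolynomial.X i : MvPolynomial ι k) ^ (r j).toNat *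
          MvPolynomial.X j ^ (-r i).toNat) ∈
          GLin.invariants k k[T;T⁻¹] (MvPolynomial ι k) := by
        rw [GLin.mem_invariants_iff, coact_pow_mul_pow r hr]
        have : ((r j).toNat : ℤ) * r i + ((-r i).toNat : ℤ) * r j = 0 := by
          rw [Int.toNat_of_nonneg hrj, Int.toNat_of_nonneg (by omega)]
          ring
        rw [this, LaurentPolynomial.T_zero]
      have hpos : 0 < (r j).toNat + (-r i).toNat := by omega
      have hhom : ((MvPolynomial.X i : MvPolynomial ι k) ^ (r j).toNat *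
          MvPolynomial.X j ^ (-r i).toNat).IsHomogeneous ((r j).toNat + (-r i).toNat) := by
        have h1 := (MvPolynomial.isHomogeneous_X k i).pow (r j).toNat
        have h2 := (MvPolynomial.isHomogeneous_X k j).pow (-r i).toNat
        simpa using h1.mul h2
      have := hnull _ hinv _ hpos hhom
      rw [map_mul, map_pow, map_pow, MvPolynomial.eval_X, MvPolynomial.eval_X] at this
      exact (mul_ne_zero (pow_ne_zero _ hi) (pow_ne_zero _ hj)) this

end Coact

end Groth.Agent.Helper29.GmDiag
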