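import Mathlib
import Groth.Prelude.Def_GLin
import Groth.Agent.Lib.Helper29.GmDiag

set_option autoImplicit false
universe u v w

namespace Groth.Agent.Helper29.GmStable

open TensorProduct LaurentPolynomial

variable {k : Type u} [Field k] {ι : Type w}

/-- generation lemma: a subalgebra containing the images of `T` and `T⁻¹` contains everything -/
theorem mem_of_T_mem {B : Type*} [CommRing B] [Algebra k B] (S : Subalgebra k B)
    (π : k[T;T⁻¹] →ₐ[k] B) (h1 : π (T 1) ∈ S) (h2 : π (T (-1)) ∈ S) (p : k[T;T⁻¹]) :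
    π p ∈ S := by
  induction p using LaurentPolynomial.induction_on' with
  | add p q hp hq => rw [map_add]; exact S.add_mem hp hq
  | C_mul_T n a =>
    rw [map_mul]
    refine S.mul_mem ?_ ?_
    · rw [LaurentPolynomial.C_eq_algebraMap, AlgHom.commutes]
      exact S.algebraMap_mem a
    · obtain ⟨m, rfl | rfl⟩ := n.eq_nat_or_neg
      · have : (T (m : ℤ) : k[T;T⁻¹]) = T 1 ^ m := by rw [T_pow, mul_one]
        rw [this, map_pow]
        exact S.pow_mem h1 m
      · have : (T (-(m : ℤ)) : k[T;T⁻¹]) = T (-1) ^ m := by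
          rw [T_pow]; congr 1; ring
        rw [this, map_pow]
        exact S.pow_mem h2 m

theorem isIntegral_of_weights (Φ : MvPolynomial ι k →ₐ[k] k[T;T⁻¹]) (v : ι → k) (ρ : ι → ℤ)
    (hΦ : ∀ i, Φ (MvPolynomial.X i) = C (v i) * T (ρ i)) (i j : ι) (hi : v i ≠ 0)
    (hj : v j ≠ 0) (hρi : ρ i < 0) (hρj : 0 < ρ j) :
    Φ.toRingHom.IsIntegral := by
  let _ : Algebra (MvPolynomial ι k) k[T;T⁻¹] := Φ.toRingHom.toAlgebra
  have : IsScalarTower k (MvPolynomial ι k) k[T;T⁻¹] :=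
    IsScalarTower.of_algebraMap_eq (fun a => (Φ.commutes a).symm)
  have hT : ∀ l, v l ≠ 0 → IsIntegral (MvPolynomial ι k) (T (ρ l) : k[T;T⁻¹]) := by
    intro l hl
    have : (T (ρ l) : k[T;T⁻¹]) = algebraMap (MvPolynomial ι k) k[T;T⁻¹]
        (MvPolynomial.C (v l)⁻¹ * MvPolynomial.X l) := by
      show _ = Φ (MvPolynomial.C (v l)⁻¹ * MvPolynomial.X l)
      rw [map_mul, hΦ, ← MvPolynomial.algebraMap_eq, AlgHom.commutes,
        ← LaurentPolynomial.C_eq_algebraMap, ← mul_assoc, ← map_mul, inv_mul_cancel₀ hl,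
        map_one, one_mul]
    rw [this]
    exact isIntegral_algebraMap
  have h1 : IsIntegral (MvPolynomial ι k) (T 1 : k[T;T⁻¹]) := by
    apply IsIntegral.of_pow (n := (ρ j).toNat) (by omega)
    rw [T_pow, mul_one, Int.toNat_of_nonneg hρj.le]
    exact hT j hj
  have h2 : IsIntegral (MvPolynomial ι k) (T (-1) : k[T;T⁻¹]) := by
    apply IsIntegral.of_pow (n := (-ρ i).toNat) (by omega)
    rw [T_pow, Int.toNat_of_nonneg (by omega)]
    have : -ρ i * -1 = ρ i := by ring
    rw [this]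
    exact hT i hi
  intro p
  have := mem_of_T_mem ((integralClosure (MvPolynomial ι k) k[T;T⁻¹]).restrictScalars k)
    (AlgHom.id k _) h1 h2 p
  exact this

theorem finite_quotient_of_T_sub_one_mem (I : Ideal k[T;T⁻¹]) (n : ℕ) (hn : 0 < n)
    (hI : (T (n : ℤ) - 1 : k[T;T⁻¹]) ∈ I) : Module.Finite k (k[T;T⁻¹] ⧸ I) := by
  let π : k[T;T⁻¹] →ₐ[k] (k[T;T⁻¹] ⧸ I) := Ideal.Quotient.mkₐ k I
  have hpow : (π (T 1)) ^ n = 1 := by
    rw [← map_pow, T_pow, mul_one]
    have := Ideal.Quotient.eq.mpr hI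
    rw [map_one] at this
    exact this
  have hint : IsIntegral k (π (T 1)) :=
    IsIntegral.of_pow hn (by rw [hpow]; exact isIntegral_one)
  have h1 : π (T 1) ∈ Algebra.adjoin k {π (T 1)} := Algebra.subset_adjoin rfl
  have h2 : π (T (-1)) ∈ Algebra.adjoin k {π (T 1)} := by
    have hc : ((n - 1 : ℕ) : ℤ) = (n : ℤ) - 1 := by omega
    have : π (T (-1)) = π (T 1) ^ (n - 1) := by
      calc π (T (-1)) = π (T (-1)) * π (T 1) ^ n := by rw [hpow, mul_one]
        _ = π (T (-1) * T 1 ^ n) := by rw [map_mul, map_pow]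
        _ = π (T 1 ^ (n - 1)) := by
            congr 1
            rw [T_pow, T_pow, ← T_add, hc]
            congr 1
            ring
        _ = π (T 1) ^ (n - 1) := map_pow _ _ _
    rw [this]
    exact Subalgebra.pow_mem _ h1 _
  have htop : (Algebra.adjoin k {π (T 1)}) = ⊤ := by
    rw [eq_top_iff]
    rintro x -
    obtain ⟨p, rfl⟩ := Ideal.Quotient.mkₐ_surjective k I x
    exact mem_of_T_mem _ π h1 h2 p
  rw [Module.finite_def, ← Algebra.top_toSubmodule, ← htop]
  exact hint.fg_adjoin_singleton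

theorem not_finite_quotient_bot : ¬ Module.Finite k (k[T;T⁻¹] ⧸ (⊥ : Ideal k[T;T⁻¹])) := by
  intro hfin
  let π : k[T;T⁻¹] →ₐ[k] (k[T;T⁻¹] ⧸ (⊥ : Ideal k[T;T⁻¹])) := Ideal.Quotient.mkₐ k ⊥
  obtain ⟨p, hp, hp0⟩ := IsIntegral.of_finite k (π (T 1))
  rw [← Polynomial.aeval_def, Polynomial.aeval_algHom_apply] at hp0
  have h1 : Polynomial.aeval (T 1 : k[T;T⁻¹]) p = Polynomial.toLaurent p := by
    have := Polynomial.aeval_algHom_apply (Polynomial.toLaurentAlg (R := k)) Polynomial.X p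
    rw [Polynomial.aeval_X_left_apply, Polynomial.toLaurentAlg_apply,
      Polynomial.toLaurentAlg_apply, Polynomial.toLaurent_X] at this
    exact this
  rw [h1] at hp0
  have h2 : Polynomial.toLaurent p ∈ (⊥ : Ideal k[T;T⁻¹]) :=
    Ideal.Quotient.eq_zero_iff_mem.mp hp0
  rw [Ideal.mem_bot, Polynomial.toLaurent_eq_zero] at h2
  exact hp.ne_zero h2

theorem not_isClosed_of_nonneg_weights (v : ι → k) (ρ : ι → ℤ) (hρ : ∀ i, v i ≠ 0 → 0 ≤ ρ i)
    (j : ι) (hj : v j ≠ 0) (hρj : 0 < ρ j)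
    (Φ : MvPolynomial ι k →ₐ[k] k[T;T⁻¹]) (hΦ : ∀ i, Φ (MvPolynomial.X i) = C (v i) * T (ρ i)) :
    ¬ IsClosed (Set.range (PrimeSpectrum.comap Φ.toRingHom)) := by
  classical
  intro hcl
  let h : MvPolynomial ι k →ₐ[k] Polynomial k := MvPolynomial.aeval
    (fun i => if v i = 0 then 0 else Polynomial.C (v i) * Polynomial.X ^ (ρ i).toNat)
  have h1 : (Polynomial.toLaurentAlg (R := k)).comp h = Φ := by
    apply MvPolynomial.algHom_ext
    intro i
    rw [AlgHom.comp_apply, MvPolynomial.aeval_X, hΦ]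
    split_ifs with hv
    · rw [hv]; simp
    · rw [Polynomial.toLaurentAlg_apply, Polynomial.toLaurent_C_mul_X_pow,
        Int.toNat_of_nonneg (hρ i hv)]
  let y : MvPolynomial ι k →ₐ[k] k := (Polynomial.aeval (0 : k)).comp h
  let P : PrimeSpectrum (MvPolynomial ι k) := ⟨RingHom.ker y, RingHom.ker_isPrime y⟩
  have hP : P ∈ closure (Set.range (PrimeSpectrum.comap Φ.toRingHom)) := by
    rw [PrimeSpectrum.closure_range_comap, PrimeSpectrum.mem_zeroLocus]
    intro F hF
    have hF' : Φ F = 0 := hF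
    show F ∈ RingHom.ker y
    rw [RingHom.mem_ker]
    have hF0 : h F = 0 := by
      apply Polynomial.toLaurent_injective
      rw [map_zero]
      have := congrArg (fun φ => φ F) h1
      simp only [AlgHom.comp_apply] at this
      rw [Polynomial.toLaurentAlg_apply] at this
      rw [this]
      exact hF'
    show (Polynomial.aeval (0 : k)) (h F) = 0
    rw [hF0, map_zero]
  rw [hcl.closure_eq] at hP
  obtain ⟨q, hq⟩ := hP
  have hX : (MvPolynomial.X j : MvPolynomial ι k) ∈ P.asIdeal := by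
    show MvPolynomial.X j ∈ RingHom.ker y
    rw [RingHom.mem_ker]
    show (Polynomial.aeval (0 : k)) (h (MvPolynomial.X j)) = 0
    rw [MvPolynomial.aeval_X, if_neg hj]
    have : (ρ j).toNat ≠ 0 := by omega
    simp [this]
  rw [← hq] at hX
  have hmem : Φ (MvPolynomial.X j) ∈ q.asIdeal := hX
  rw [hΦ] at hmem
  have hunit : IsUnit (C (v j) * T (ρ j) : k[T;T⁻¹]) :=
    (IsUnit.map C (isUnit_iff_ne_zero.mpr hj)).mul (isUnit_T _)
  exact q.isPrime.ne_top (Ideal.eq_top_of_isUnit_mem _ hmem hunit)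

theorem range_comap_invert_comp (Ψ : MvPolynomial ι k →ₐ[k] k[T;T⁻¹]) :
    Set.range (PrimeSpectrum.comap
      ((LaurentPolynomial.invert (R := k)).toAlgHom.comp Ψ).toRingHom) =
    Set.range (PrimeSpectrum.comap Ψ.toRingHom) := by
  have hinv : ∀ q : PrimeSpectrum k[T;T⁻¹],
      PrimeSpectrum.comap (LaurentPolynomial.invert (R := k)).toAlgHom.toRingHom
        (PrimeSpectrum.comap (LaurentPolynomial.invert (R := k)).toAlgHom.toRingHom q) = q := by
    intro q
    apply PrimeSpectrum.ext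
    ext x
    simp only [PrimeSpectrum.comap_asIdeal, Ideal.mem_comap]
    have : (LaurentPolynomial.invert (R := k)) ((LaurentPolynomial.invert (R := k)) x) = x :=
      LaurentPolynomial.involutive_invert x
    simp [this]
  ext P
  constructor
  · rintro ⟨q, rfl⟩
    exact ⟨PrimeSpectrum.comap (LaurentPolynomial.invert (R := k)).toAlgHom.toRingHom q, rfl⟩
  · rintro ⟨q, rfl⟩
    refine ⟨PrimeSpectrum.comap (LaurentPolynomial.invert (R := k)).toAlgHom.toRingHom q, ?_⟩
    show PrimeSpectrum.comap Ψ.toRingHom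
      (PrimeSpectrum.comap (LaurentPolynomial.invert (R := k)).toAlgHom.toRingHom
        (PrimeSpectrum.comap (LaurentPolynomial.invert (R := k)).toAlgHom.toRingHom q)) = _
    rw [hinv]

section Coact

variable [HopfRep.Comod k k[T;T⁻¹] (MvPolynomial ι k)]
  [GLin.IsCoactAlg k k[T;T⁻¹] (MvPolynomial ι k)]
  (r : ι → ℤ)
  (hr : ∀ i : ι, HopfRep.Comod.coact (k := k) (A := k[T;T⁻¹])
      (MvPolynomial.X i : MvPolynomial ι k) =
    (MvPolynomial.X i : MvPolynomial ι k) ⊗ₜ[k] (T (r i) : k[T;T⁻¹]))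

include hr

theorem T_sub_one_mem_stabIdeal (v : ι → k) (j : ι) (hj : v j ≠ 0) :
    (T (r j) - 1 : k[T;T⁻¹]) ∈ GLin.stabIdeal k k[T;T⁻¹] (GLin.vecPt k ι v) := by
  have hmem : (MvPolynomial.X j - MvPolynomial.C (v j) : MvPolynomial ι k) ∈
      RingHom.ker (GLin.vecPt k ι v) := by
    rw [RingHom.mem_ker, map_sub, MvPolynomial.aeval_X, MvPolynomial.aeval_C]
    simp
  have h := Ideal.mem_map_of_mem (GLin.orbitHom k k[T;T⁻¹] (GLin.vecPt k ι v)) hmem
  rw [map_sub, GmDiag.orbitHom_X r hr, ← MvPolynomial.algebraMap_eq, AlgHom.commutes,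
    ← C_eq_algebraMap] at h
  have h' := Ideal.mul_mem_left _ (C (v j)⁻¹ : k[T;T⁻¹]) h
  have e : (C (v j)⁻¹ : k[T;T⁻¹]) * (C (v j) * T (r j) - C (v j)) = T (r j) - 1 := by
    rw [mul_sub, ← mul_assoc, ← map_mul, inv_mul_cancel₀ hj, map_one, one_mul]
  rw [e] at h'
  exact h'

theorem stabIdeal_eq_bot_of_zero_weights (v : ι → k) (hz : ∀ l, v l ≠ 0 → r l = 0) :
    GLin.stabIdeal k k[T;T⁻¹] (GLin.vecPt k ι v) = ⊥ := by
  have hΨ : GLin.orbitHom k k[T;T⁻¹] (GLin.vecPt k ι v) =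
      (Algebra.ofId k k[T;T⁻¹]).comp (GLin.vecPt k ι v) := by
    apply MvPolynomial.algHom_ext
    intro l
    rw [GmDiag.orbitHom_X r hr, AlgHom.comp_apply, MvPolynomial.aeval_X, Algebra.ofId_apply,
      ← C_eq_algebraMap]
    by_cases hl : v l = 0
    · rw [hl]; simp
    · rw [hz l hl, T_zero, mul_one]
  unfold GLin.stabIdeal
  rw [Ideal.map_eq_bot_iff_le_ker]
  intro F hF
  rw [RingHom.mem_ker] at hF ⊢
  rw [hΨ, AlgHom.comp_apply, hF, map_zero]

theorem stable_iff (v : ι → k) :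
    GLin.IsStableVec k k[T;T⁻¹] v ↔ ∃ i j : ι, v i ≠ 0 ∧ v j ≠ 0 ∧ r i < 0 ∧ 0 < r j := by
  constructor
  · rintro ⟨hcl, hfin⟩
    by_contra hne
    by_cases hpos : ∃ j, v j ≠ 0 ∧ 0 < r j
    · obtain ⟨j, hj, hrj⟩ := hpos
      have hnn : ∀ i, v i ≠ 0 → 0 ≤ r i := by
        intro i hi
        by_contra hc
        exact hne ⟨i, j, hi, hj, by omega, hrj⟩
      exact not_isClosed_of_nonneg_weights v r hnn j hj hrj _ (GmDiag.orbitHom_X r hr v) hcl
    · by_cases hneg : ∃ i, v i ≠ 0 ∧ r i < 0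
      · obtain ⟨i, hi, hri⟩ := hneg
        have hnn : ∀ l, v l ≠ 0 → 0 ≤ -r l := by
          intro l hl
          by_contra hc
          exact hpos ⟨l, hl, by omega⟩
        have hΦ : ∀ l, ((LaurentPolynomial.invert (R := k)).toAlgHom.comp
            (GLin.orbitHom k k[T;T⁻¹] (GLin.vecPt k ι v))) (MvPolynomial.X l) =
            C (v l) * T (-r l) := by
          intro l
          rw [AlgHom.comp_apply, GmDiag.orbitHom_X r hr]
          simp
        refine not_isClosed_of_nonneg_weights v (fun l => -r l) hnn i hi (by omega) _ hΦ ?_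
        rw [range_comap_invert_comp]
        exact hcl
      · have hz : ∀ l, v l ≠ 0 → r l = 0 := by
          intro l hl
          by_contra hc
          rcases lt_or_gt_of_ne hc with h | h
          · exact hneg ⟨l, hl, h⟩
          · exact hpos ⟨l, hl, h⟩
        have hbot := stabIdeal_eq_bot_of_zero_weights r hr v hz
        have hfin' : Module.Finite k (k[T;T⁻¹] ⧸ GLin.stabIdeal k k[T;T⁻¹] (GLin.vecPt k ι v)) :=
          hfin
        rw [hbot] at hfin'
        exact not_finite_quotient_bot hfin'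
  · rintro ⟨i, j, hi, hj, hri, hrj⟩
    refine ⟨?_, ?_⟩
    · have hint := isIntegral_of_weights (GLin.orbitHom k k[T;T⁻¹] (GLin.vecPt k ι v)) v r
        (GmDiag.orbitHom_X r hr v) i j hi hj hri hrj
      have hcm := PrimeSpectrum.isClosedMap_comap_of_isIntegral _ hint
      show IsClosed (Set.range (PrimeSpectrum.comap
        (GLin.orbitHom k k[T;T⁻¹] (GLin.vecPt k ι v)).toRingHom))
      rw [← Set.image_univ]
      exact hcm _ isClosed_univ
    · show Module.Finite k (k[T;T⁻¹] ⧸ GLin.stabIdeal k k[T;T⁻¹] (GLin.vecPt k ι v))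
      refine finite_quotient_of_T_sub_one_mem _ (r j).toNat (by omega) ?_
      rw [Int.toNat_of_nonneg hrj.le]
      exact T_sub_one_mem_stabIdeal r hr v j hj

end Coact

end Groth.Agent.Helper29.GmStable
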