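import Mathlib
import Groth.Agent.Lib.Helper29.GrFin

/-!
# Graded duals: basic lemmas (helper29)
-/

namespace Groth.Agent.Helper29.GrDualLib

universe u

open Groth.Agent.Helper29.GrK Groth.Agent.Helper29.GrFin

section Glue

variable {M : Type u} [AddCommGroup M] {τ : Type u} [SetLike τ M] [AddSubgroupClass τ M]
  (ℳ : ℤ → τ) [DirectSum.Decomposition ℳ] {N : Type u} [AddCommGroup N]

/-- Glue additive maps defined on the pieces. -/
noncomputable def glue (φ : ∀ n : ℤ, ℳ n →+ N) : M →+ N :=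
  (DirectSum.toAddMonoid φ).comp (DirectSum.decomposeAddEquiv ℳ).toAddMonoidHom

theorem glue_of_mem (φ : ∀ n : ℤ, ℳ n →+ N) {n : ℤ} {x : M} (hx : x ∈ ℳ n) :
    glue ℳ φ x = φ n ⟨x, hx⟩ := by
  show DirectSum.toAddMonoid φ (DirectSum.decompose ℳ x) = _
  rw [DirectSum.decompose_of_mem ℳ hx, DirectSum.toAddMonoid_of]

end Glue

section Dual

variable {k : Type u} [Field k] {R : Type u} [CommRing R] [Algebra k R]
  (𝒜 : ℤ → Submodule k R) [GradedAlgebra 𝒜]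
  {M : Type u} [AddCommGroup M] [Module R M] [Module k M] [IsScalarTower k R M]
  {τ : Type u} [SetLike τ M] [AddSubgroupClass τ M]
  (ℳ : ℤ → τ) [DirectSum.Decomposition ℳ] [SetLike.GradedSMul 𝒜 ℳ]
  {D : Type u} [AddCommGroup D] [Module R D] [Module k D] [IsScalarTower k R D]
  {τ' : Type u} [SetLike τ' D] [AddSubgroupClass τ' D]
  (𝒟 : ℤ → τ') [DirectSum.Decomposition 𝒟] [SetLike.GradedSMul 𝒜 𝒟]
  (β : D →ₗ[k] M →ₗ[k] k) (hD : GrSeg.IsGDual R ℳ 𝒟 β)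

include hD in
theorem pair_eq_proj {n : ℤ} {d : D} (hd : d ∈ 𝒟 n) (x : M) :
    β d x = β d (proj ℳ (-n) x) := by
  refine DirectSum.Decomposition.inductionOn ℳ ?_ ?_ ?_ x
  · rw [proj_zero]
  · rintro i ⟨y, hy⟩
    show β d y = β d (proj ℳ (-n) y)
    by_cases h : i = -n
    · subst h; rw [proj_of_mem_same ℳ hy]
    · rw [proj_of_mem_ne ℳ hy h, map_zero, hD.vanish n d hd i h y hy]
  · intro y y' h h'
    rw [map_add, h, h', proj_add, map_add]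

include hD in
theorem pair_eq_proj_left {m : ℤ} {x : M} (hx : x ∈ ℳ m) (d : D) :
    β d x = β (proj 𝒟 (-m) d) x := by
  refine DirectSum.Decomposition.inductionOn 𝒟 ?_ ?_ ?_ d
  · rw [proj_zero]
  · rintro i ⟨e, he⟩
    show β e x = β (proj 𝒟 (-m) e) x
    by_cases h : i = -m
    · subst h; rw [proj_of_mem_same 𝒟 he]
    · rw [proj_of_mem_ne 𝒟 he h, map_zero, LinearMap.zero_apply]
      exact hD.vanish i e he m (fun h' => h (by omega)) x hx
  · intro e e' h h'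
    rw [map_add, LinearMap.add_apply, h, h', proj_add, map_add, LinearMap.add_apply]

include 𝒜 hD in
/-- Right nondegeneracy. -/
theorem eq_zero_of_pair_right {x : M} (h : ∀ d : D, β d x = 0) : x = 0 := by
  apply eq_zero_of_proj_eq_zero ℳ
  intro i
  by_contra hy
  obtain ⟨g0, hg0⟩ := LinearMap.exists_leftInverse_of_injective
    (LinearMap.toSpanSingleton k M (proj ℳ i x)) (LinearMap.ker_toSpanSingleton k hy)
  have hg01 : g0 (proj ℳ i x) = 1 := by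
    have := LinearMap.congr_fun hg0 1
    simpa using this
  obtain ⟨d, hd, hdg⟩ := hD.exists_eq (-i) (g0 ∘ₗ projL 𝒜 ℳ i)
  have h1 := pair_eq_proj ℳ 𝒟 β hD hd x
  rw [neg_neg] at h1
  have h2 := hdg (proj ℳ i x) (by rw [neg_neg]; exact proj_mem ℳ i x)
  rw [LinearMap.comp_apply, projL_apply, proj_proj_same, hg01] at h2
  rw [h d, h2] at h1
  exact zero_ne_one h1

include hD in
/-- Left nondegeneracy. -/
theorem eq_zero_of_pair_left {d : D} (h : ∀ x : M, β d x = 0) : d = 0 := by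
  apply eq_zero_of_proj_eq_zero 𝒟
  intro n
  apply hD.eq_zero n _ (proj_mem 𝒟 n d)
  intro x hx
  have := pair_eq_proj_left ℳ 𝒟 β hD hx d
  rw [neg_neg] at this
  rw [← this, h x]

/-- The restricted pairing `D_n × M_m → k`. -/
noncomputable def delta (n m : ℤ) : pieceK 𝒜 𝒟 n →ₗ[k] Module.Dual k (pieceK 𝒜 ℳ m) :=
  β.domRestrict₁₂ (pieceK 𝒜 𝒟 n) (pieceK 𝒜 ℳ m)

theorem delta_apply (n m : ℤ) (d : pieceK 𝒜 𝒟 n) (x : pieceK 𝒜 ℳ m) :
    delta 𝒜 ℳ 𝒟 β n m d x = β d.1 x.1 := rfl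

include hD in
theorem delta_injective (m : ℤ) : Function.Injective (delta 𝒜 ℳ 𝒟 β (-m) m) := by
  rw [← LinearMap.ker_eq_bot, LinearMap.ker_eq_bot']
  rintro ⟨d, hd⟩ h
  have hd' : d ∈ 𝒟 (-m) := hd
  have h0 : d = 0 := by
    apply hD.eq_zero (-m) d hd'
    intro x hx
    rw [neg_neg] at hx
    exact LinearMap.congr_fun h ⟨x, hx⟩
  exact Subtype.ext h0

include hD in
theorem delta_surjective (m : ℤ) : Function.Surjective (delta 𝒜 ℳ 𝒟 β (-m) m) := by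
  intro φ
  obtain ⟨d, hd, hdφ⟩ := hD.exists_eq (-m)
    (φ ∘ₗ (LinearMap.codRestrict (pieceK 𝒜 ℳ m) (projL 𝒜 ℳ m) (fun x => proj_mem ℳ m x)))
  refine ⟨⟨d, hd⟩, ?_⟩
  apply LinearMap.ext
  rintro ⟨x, hx⟩
  have hx' : x ∈ ℳ (-(-m)) := by rw [neg_neg]; exact hx
  have h1 := hdφ x hx'
  show β d x = φ ⟨x, hx⟩
  rw [h1, LinearMap.comp_apply]
  congr 1
  exact Subtype.ext (proj_of_mem_same ℳ hx)

include hD in
/-- Every functional on `D_{-m}` is represented by an element of `M_m` when `M_m` is finite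
dimensional. -/
theorem exists_repr (m : ℤ) [Module.Finite k (pieceK 𝒜 ℳ m)] (φ : D →ₗ[k] k) :
    ∃ y, y ∈ ℳ m ∧ ∀ d, d ∈ 𝒟 (-m) → β d y = φ d := by
  let δ := LinearEquiv.ofBijective (delta 𝒜 ℳ 𝒟 β (-m) m)
    ⟨delta_injective 𝒜 ℳ 𝒟 β hD m, delta_surjective 𝒜 ℳ 𝒟 β hD m⟩
  let ψ : Module.Dual k (Module.Dual k (pieceK 𝒜 ℳ m)) :=
    (φ ∘ₗ (pieceK 𝒜 𝒟 (-m)).subtype) ∘ₗ δ.symm.toLinearMap
  let y := (Module.evalEquiv k (pieceK 𝒜 ℳ m)).symm ψ
  refine ⟨y.1, y.2, fun d hd => ?_⟩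
  have h1 : Module.evalEquiv k (pieceK 𝒜 ℳ m) y = ψ := LinearEquiv.apply_symm_apply _ _
  have h2 := LinearMap.congr_fun h1 (δ ⟨d, hd⟩)
  have h3 : ψ (δ ⟨d, hd⟩) = φ d := by
    show φ ((δ.symm (δ ⟨d, hd⟩) : pieceK 𝒜 𝒟 (-m)) : D) = φ d
    rw [LinearEquiv.symm_apply_apply]
  rw [h3] at h2
  rw [← h2]
  rfl

end Dual

end Groth.Agent.Helper29.GrDualLib
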