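import Mathlib
import Groth.Agent.Lib.Helper29.GrDualLib

/-!
# Graded duals: dual maps (helper29)
-/

namespace Groth.Agent.Helper29.GrDualMap

universe u

open Groth.Agent.Helper29.GrK Groth.Agent.Helper29.GrFin Groth.Agent.Helper29.GrDualLib

section ProjMap

variable {R : Type u} [CommRing R]
  {F : Type u} [AddCommGroup F] [Module R F] {τF : Type u} [SetLike τF F] [AddSubgroupClass τF F]
  (ℱ : ℤ → τF) [DirectSum.Decomposition ℱ]
  {M : Type u} [AddCommGroup M] [Module R M] {τM : Type u} [SetLike τM M] [AddSubgroupClass τM M]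
  (ℳ : ℤ → τM) [DirectSum.Decomposition ℳ]

theorem proj_map {f : F →ₗ[R] M} (hf : GrLC.IsGrHom ℱ ℳ f) (n : ℤ) (x : F) :
    f (proj ℱ n x) = proj ℳ n (f x) := by
  refine DirectSum.Decomposition.inductionOn ℱ ?_ ?_ ?_ x
  · rw [proj_zero, map_zero, proj_zero]
  · rintro i ⟨y, hy⟩
    show f (proj ℱ n y) = proj ℳ n (f y)
    by_cases h : i = n
    · subst h
      rw [proj_of_mem_same ℱ hy, proj_of_mem_same ℳ (hf i y hy)]
    · rw [proj_of_mem_ne ℱ hy h, proj_of_mem_ne ℳ (hf i y hy) h, map_zero]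
  · intro y y' h h'
    rw [proj_add, map_add, h, h', map_add, proj_add]

end ProjMap

section DualMap

variable {k : Type u} [Field k] {R : Type u} [CommRing R] [Algebra k R]
  (𝒜 : ℤ → Submodule k R) [GradedAlgebra 𝒜]
  {F : Type u} [AddCommGroup F] [Module R F] [Module k F] [IsScalarTower k R F]
  (ℱ : ℤ → AddSubgroup F) [DirectSum.Decomposition ℱ] [SetLike.GradedSMul 𝒜 ℱ]
  {M : Type u} [AddCommGroup M] [Module R M] [Module k M] [IsScalarTower k R M]
  (ℳ : ℤ → AddSubgroup M) [DirectSum.Decomposition ℳ] [SetLike.GradedSMul 𝒜 ℳ]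
  {DM : Type u} [AddCommGroup DM] [Module R DM] [Module k DM] [IsScalarTower k R DM]
  (𝒟M : ℤ → AddSubgroup DM) [DirectSum.Decomposition 𝒟M] [SetLike.GradedSMul 𝒜 𝒟M]
  (βM : DM →ₗ[k] M →ₗ[k] k) (hDM : GrSeg.IsGDual R ℳ 𝒟M βM)
  {DF : Type u} [AddCommGroup DF] [Module R DF] [Module k DF] [IsScalarTower k R DF]
  (𝒟F : ℤ → AddSubgroup DF) [DirectSum.Decomposition 𝒟F] [SetLike.GradedSMul 𝒜 𝒟F]
  (βF : DF →ₗ[k] F →ₗ[k] k) (hDF : GrSeg.IsGDual R ℱ 𝒟F βF)
  {f : F →ₗ[R] M} {g : DM →ₗ[R] DF} (hg : GrSeg.IsGDualMap βM βF f g)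

include hDM hg in
theorem dualMap_injective (hf : Function.Surjective f) : Function.Injective g := by
  refine (injective_iff_map_eq_zero g).mpr fun d hd => ?_
  apply eq_zero_of_pair_left ℳ 𝒟M βM hDM
  intro y
  obtain ⟨x, rfl⟩ := hf y
  rw [← hg d x, hd, map_zero, LinearMap.zero_apply]

include 𝒜 hDM hDF hg in
theorem dualMap_isGrHom (hfgr : GrLC.IsGrHom ℱ ℳ f) : GrLC.IsGrHom 𝒟M 𝒟F g := by
  intro n d hd
  apply mem_of_forall_proj_eq_zero 𝒜 𝒟F
  intro i hi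
  apply hDF.eq_zero i _ (proj_mem 𝒟F i (g d))
  intro x hx
  have h1 := pair_eq_proj_left ℱ 𝒟F βF hDF hx (g d)
  rw [neg_neg] at h1
  rw [← h1, hg d x]
  exact hDM.vanish n d hd (-i) (fun h => hi (by omega)) (f x) (hfgr (-i) x hx)

end DualMap

end Groth.Agent.Helper29.GrDualMap
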