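import Mathlib
import Groth.Agent.Lib.Helper29.GrDualMap

/-!
# Graded duals: minimal surjections dualize to essential injections (helper29)
-/

namespace Groth.Agent.Helper29.GrDual51

universe u

open Groth.Agent.Helper29.GrK Groth.Agent.Helper29.GrFin Groth.Agent.Helper29.GrDualLib
  Groth.Agent.Helper29.GrDualMap

theorem main (k : Type u) [Field k] (R : Type u) [CommRing R] [Algebra k R] (𝒜 : ℤ → Submodule k R) [GradedAlgebra 𝒜] (hposR : ∀ n : ℤ, n < 0 → 𝒜 n = ⊥) (h0R : 𝒜 0 = Submodule.span k {(1 : R)}) [Algebra.FiniteType k R] (mR : HomogeneousIdeal 𝒜) (hmR : mR.toIdeal = Ideal.span (⋃ n ∈ Set.Ioi (0 : ℤ), (𝒜 n : Set R))) (F : Type u) [AddCommGroup F] [Module R F] [Module k F] [IsScalarTower k R F] (ℱ : ℤ → AddSubgroup F) [DirectSum.Decomposition ℱ] [SetLike.GradedSMul 𝒜 ℱ] [Module.Finite R F] (M : Type u) [AddCommGroup M] [Module R M] [Module k M] [IsScalarTower k R M] (ℳ : ℤ → AddSubgroup M) [DirectSum.Decomposition ℳ] [SetLike.GradedSMul 𝒜 ℳ] [Module.Finite R M] (f : F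 →ₗ[R] M) (hf : Function.Surjective f) (hfgr : GrLC.IsGrHom ℱ ℳ f) (DM : Type u) [AddCommGroup DM] [Module R DM] [Module k DM] [IsScalarTower k R DM] (𝒟M : ℤ → AddSubgroup DM) [DirectSum.Decomposition 𝒟M] [SetLike.GradedSMul 𝒜 𝒟M] (βM : DM →ₗ[k] M →ₗ[k] k) (hDM : GrSeg.IsGDual R ℳ 𝒟M βM) (DF : Type u) [AddCommGroup DF] [Module R DF] [Module k DF] [IsScalarTower k R DF] (𝒟F : ℤ → AddSubgroup DF) [DirectSum.Decomposition 𝒟F] [SetLike.GradedSMul 𝒜 𝒟F] (βF : DF →ₗ[k] F →ₗ[k] k) (hDF : GrSeg.IsGDual R ℱ 𝒟F βF) (g : DM →ₗ[R] DF) (hg : GrSeg.IsGDualMap βM βF f g) : LinearMap.ker f ≤ mR.toIdeal • (⊤ : Submodule R F) ↔ GrLC.IsStarEss 𝒟M 𝒟F g := by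
  classical
  have hginj := dualMap_injective ℳ 𝒟M βM hDM βF hg hf
  have hggr := dualMap_isGrHom 𝒜 ℱ ℳ 𝒟M βM hDM 𝒟F βF hDF hg hfgr
  have hmem : ∀ (c : ℤ), 0 < c → ∀ a ∈ 𝒜 c, a ∈ mR.toIdeal := by
    intro c hc a ha
    rw [hmR]
    apply Ideal.subset_span
    simp only [Set.mem_iUnion]
    exact ⟨c, hc, ha⟩
  constructor
  · intro hker
    refine ⟨hginj, hggr, ?_⟩
    intro P hP hPne
    obtain ⟨n0, hn0⟩ := exists_lower_bound 𝒜 ℱ hposR
    have hbdd : ∀ i e, e ∈ 𝒟F i → e ≠ 0 → i ≤ -n0 := by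
      intro i e he hne
      by_contra hlt
      push Not at hlt
      apply hne
      apply hDF.eq_zero i e he
      intro x hx
      rw [hn0 (-i) (by omega) x hx, map_zero]
    let S : ℤ → Prop := fun i => ∃ e, e ∈ P ∧ e ∈ 𝒟F i ∧ e ≠ 0
    have hSne : ∃ i, S i := by
      obtain ⟨p, hpP, hp0⟩ := (Submodule.ne_bot_iff P).mp hPne
      by_contra hno
      push Not at hno
      apply hp0
      apply eq_zero_of_proj_eq_zero 𝒟F
      intro i
      by_contra hpi
      exact hno i ⟨proj 𝒟F i p, hP i hpP, proj_mem 𝒟F i p, hpi⟩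
    have hSbdd : ∃ b, ∀ z, S z → z ≤ b := ⟨-n0, fun z ⟨e, _, he, hne⟩ => hbdd z e he hne⟩
    obtain ⟨i, ⟨e, heP, he, hene⟩, hmax⟩ := Int.exists_greatest_of_bdd hSbdd hSne
    have hkill : ∀ c : ℤ, 0 < c → ∀ a ∈ 𝒜 c, a • e = 0 := by
      intro c hc a ha
      by_contra hne
      have := hmax (c + i) ⟨a • e, P.smul_mem a heP, smul_mem 𝒜 𝒟F ha he, hne⟩
      omega
    have hkill' : ∀ a ∈ mR.toIdeal, a • e = 0 := by
      intro a ha
      rw [hmR] at ha
      refine Submodule.span_induction (p := fun a _ => a • e = 0) ?_ ?_ ?_ ?_ ha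
      · intro a ha
        simp only [Set.mem_iUnion] at ha
        obtain ⟨c, hc, ha⟩ := ha
        exact hkill c hc a ha
      · exact zero_smul _ _
      · intro a b _ _ ha hb
        rw [add_smul, ha, hb, add_zero]
      · intro r a _ ha
        rw [smul_eq_mul, mul_smul, ha, smul_zero]
    have hvan : ∀ x ∈ mR.toIdeal • (⊤ : Submodule R F), βF e x = 0 := by
      intro x hx
      refine Submodule.smul_induction_on hx ?_ ?_
      · intro a ha y _
        rw [← hDF.map_smul, hkill' a ha, map_zero, LinearMap.zero_apply]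
      · intro y y' h h'
        rw [map_add, h, h', add_zero]
    obtain ⟨s, hs⟩ := (f.restrictScalars k).exists_rightInverse_of_surjective
      (LinearMap.range_eq_top.mpr hf)
    have hs' : ∀ y, f (s y) = y := fun y => LinearMap.congr_fun hs y
    let lam : M →ₗ[k] k := (βF e) ∘ₗ s
    have hlam : ∀ x, lam (f x) = βF e x := by
      intro x
      show βF e (s (f x)) = βF e x
      rw [← sub_eq_zero, ← map_sub]
      apply hvan
      apply hker
      rw [LinearMap.mem_ker, map_sub, hs', sub_self]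
    obtain ⟨d, hd, hdlam⟩ := hDM.exists_eq i lam
    have hgd : g d = e := by
      rw [← sub_eq_zero]
      apply hDF.eq_zero i _ (sub_mem (hggr i d hd) he)
      intro x hx
      rw [map_sub, LinearMap.sub_apply, hg d x, hdlam (f x) (hfgr (-i) x hx), hlam, sub_self]
    intro hbot
    apply hene
    have : e ∈ P ⊓ LinearMap.range g := ⟨heP, ⟨d, hgd⟩⟩
    rw [hbot] at this
    exact (Submodule.mem_bot R).mp this
  · intro hess
    have hom : ∀ (n : ℤ) (xn : F), xn ∈ ℱ n → f xn = 0 →
        xn ∈ mR.toIdeal • (⊤ : Submodule R F) := by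
      intro n xn hxnmem hxn
      by_contra hnot
      let W : Submodule k F := (mR.toIdeal • (⊤ : Submodule R F)).restrictScalars k
      have hxW : W.mkQ xn ≠ 0 := by
        intro h0
        rw [Submodule.mkQ_apply, Submodule.Quotient.mk_eq_zero] at h0
        exact hnot h0
      obtain ⟨g0, hg0⟩ := LinearMap.exists_leftInverse_of_injective
        (LinearMap.toSpanSingleton k (F ⧸ W) (W.mkQ xn)) (LinearMap.ker_toSpanSingleton k hxW)
      have hg01 : g0 (W.mkQ xn) = 1 := by
        have := LinearMap.congr_fun hg0 1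
        simpa using this
      let lam : F →ₗ[k] k := g0 ∘ₗ W.mkQ
      have hlamW : ∀ y ∈ mR.toIdeal • (⊤ : Submodule R F), lam y = 0 := by
        intro y hy
        show g0 (W.mkQ y) = 0
        have : W.mkQ y = 0 := by
          rw [Submodule.mkQ_apply, Submodule.Quotient.mk_eq_zero]; exact hy
        rw [this, map_zero]
      obtain ⟨e, he, helam⟩ := hDF.exists_eq (-n) lam
      have hex : βF e xn = 1 := by
        rw [helam xn (by rw [neg_neg]; exact hxnmem)]
        exact hg01
      have hene : e ≠ 0 := by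
        intro h0
        rw [h0, map_zero, LinearMap.zero_apply] at hex
        exact zero_ne_one hex
      have hkill : ∀ c : ℤ, 0 < c → ∀ a ∈ 𝒜 c, a • e = 0 := by
        intro c hc a ha
        apply hDF.eq_zero (c + -n) _ (smul_mem 𝒜 𝒟F ha he)
        intro y hy
        rw [hDF.map_smul]
        have hay : a • y ∈ ℱ (-(-n)) := by
          have := smul_mem 𝒜 ℱ ha hy
          have h2 : c + -(c + -n) = -(-n) := by ring
          rwa [h2] at this
        rw [helam (a • y) hay]
        exact hlamW _ (Submodule.smul_mem_smul (hmem c hc a ha) Submodule.mem_top)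
      have hr0 : ∀ r : R, r • e = proj 𝒜 0 r • e := by
        intro r
        refine DirectSum.Decomposition.inductionOn 𝒜 ?_ ?_ ?_ r
        · rw [proj_zero]
        · rintro c ⟨a, ha⟩
          show a • e = proj 𝒜 0 a • e
          rcases lt_trichotomy c 0 with hc | hc | hc
          · have h1 : a ∈ (⊥ : Submodule k R) := by rw [← hposR c hc]; exact ha
            rw [(Submodule.mem_bot k).mp h1, proj_zero]
          · subst hc; rw [proj_of_mem_same 𝒜 ha]
          · rw [hkill c hc a ha, proj_of_mem_ne 𝒜 ha (ne_of_gt hc), zero_smul]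
        · intro a b h h'
          rw [add_smul, h, h', proj_add, add_smul]
      let P : Submodule R DF := Submodule.span R {e}
      have hPhom : P.IsHomogeneous 𝒟F := by
        intro j p hp
        obtain ⟨r, rfl⟩ := Submodule.mem_span_singleton.mp hp
        show proj 𝒟F j (r • e) ∈ P
        rw [proj_smul_of_mem 𝒜 𝒟F he]
        exact Submodule.smul_mem _ _ (Submodule.mem_span_singleton_self e)
      have hPne : P ≠ ⊥ := by
        intro h
        have : e ∈ P := Submodule.mem_span_singleton_self e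
        rw [h] at this
        exact hene ((Submodule.mem_bot R).mp this)
      have hmeet := hess.essential P hPhom hPne
      obtain ⟨q, hq, hq0⟩ := (Submodule.ne_bot_iff _).mp hmeet
      obtain ⟨hqP, ⟨d, hdq⟩⟩ := hq
      obtain ⟨r, hrq⟩ := Submodule.mem_span_singleton.mp hqP
      have hr0mem : proj 𝒜 0 r ∈ Submodule.span k {(1 : R)} := h0R ▸ proj_mem 𝒜 0 r
      obtain ⟨c, hc⟩ := Submodule.mem_span_singleton.mp hr0mem
      have hqc : q = c • e := by
        rw [← hrq, hr0 r, ← hc, smul_assoc, one_smul]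
      have hc0 : c ≠ 0 := by
        intro h; apply hq0; rw [hqc, h, zero_smul]
      have he_eq : e = g (algebraMap k R c⁻¹ • d) := by
        rw [g.map_smul, hdq, hqc, algebraMap_smul, smul_smul, inv_mul_cancel₀ hc0, one_smul]
      have : βF e xn = 0 := by
        rw [he_eq, hg, hxn, map_zero]
      rw [hex] at this
      exact one_ne_zero this
    intro x hx
    obtain ⟨s, hs⟩ := sum_proj ℱ x
    rw [hs]
    refine Submodule.sum_mem _ fun n _ => hom n _ (proj_mem ℱ n x) ?_
    rw [proj_map ℱ ℳ hfgr, LinearMap.mem_ker.mp hx, proj_zero]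

end Groth.Agent.Helper29.GrDual51
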