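import Mathlib
import Groth.Agent.Lib.Helper29.GrDualMap

/-!
# The graded dual `R^*` is the *injective hull of `R/m` (helper29)
-/

namespace Groth.Agent.Helper29.GrDual52

universe u

open Groth.Agent.Helper29.GrK Groth.Agent.Helper29.GrFin Groth.Agent.Helper29.GrDualLib
  Groth.Agent.Helper29.GrDualMap

section

variable {k : Type u} [Field k] {R : Type u} [CommRing R] [Algebra k R]
  (𝒜 : ℤ → Submodule k R) [GradedAlgebra 𝒜]

theorem proj_zero_mul_mem (hposR : ∀ n : ℤ, n < 0 → 𝒜 n = ⊥) {a : R}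
    (ha : a ∈ Ideal.span (⋃ n ∈ Set.Ioi (0 : ℤ), (𝒜 n : Set R))) (r : R) :
    proj 𝒜 0 (r * a) = 0 := by
  revert r
  refine Submodule.span_induction (p := fun a _ => ∀ r, proj 𝒜 0 (r * a) = 0) ?_ ?_ ?_ ?_ ha
  · intro a ha r
    simp only [Set.mem_iUnion] at ha
    obtain ⟨c, hc, ha⟩ := ha
    have hc' : (0 : ℤ) < c := hc
    show proj 𝒜 0 (r • a) = 0
    have h2 : proj 𝒜 (0 - c) r ∈ (⊥ : Submodule k R) := by
      rw [← hposR (0 - c) (by omega)]; exact proj_mem 𝒜 _ r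
    rw [proj_smul_of_mem 𝒜 𝒜 ha 0 r, (Submodule.mem_bot k).mp h2, zero_smul]
  · intro r; rw [mul_zero, proj_zero]
  · intro a b _ _ ha hb r; rw [mul_add, proj_add, ha, hb, add_zero]
  · intro s a _ ha r; rw [smul_eq_mul, ← mul_assoc]; exact ha (r * s)

variable {D : Type u} [AddCommGroup D] [Module R D] [Module k D] [IsScalarTower k R D]
  (𝒟 : ℤ → AddSubgroup D) [DirectSum.Decomposition 𝒟] [SetLike.GradedSMul 𝒜 𝒟]
  (β : D →ₗ[k] R →ₗ[k] k) (hD : GrSeg.IsGDual R 𝒜 𝒟 β)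

include hD in
theorem deg0_eq_zero (h0R : 𝒜 0 = Submodule.span k {(1 : R)}) {q : D} (hq : q ∈ 𝒟 0)
    (h : β q 1 = 0) : q = 0 := by
  apply hD.eq_zero 0 q hq
  intro x hx
  rw [neg_zero, h0R] at hx
  obtain ⟨c, rfl⟩ := Submodule.mem_span_singleton.mp hx
  rw [map_smul, h, smul_zero]

include hD in
theorem starInj_aux
    {A : Type u} [AddCommGroup A] [Module R A] [Module k A] [IsScalarTower k R A]
    (𝒢A : ℤ → AddSubgroup A) [DirectSum.Decomposition 𝒢A] [SetLike.GradedSMul 𝒜 𝒢A]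
    {B : Type u} [AddCommGroup B] [Module R B] [Module k B] [IsScalarTower k R B]
    (𝒢B : ℤ → AddSubgroup B) [DirectSum.Decomposition 𝒢B] [SetLike.GradedSMul 𝒜 𝒢B]
    (f : A →ₗ[R] B) (hf : GrLC.IsGrHom 𝒢A 𝒢B f) (hinj : Function.Injective f)
    (g : A →ₗ[R] D) (hg : GrLC.IsGrHom 𝒢A 𝒟 g) :
    ∃ h : B →ₗ[R] D, GrLC.IsGrHom 𝒢B 𝒟 h ∧ h ∘ₗ f = g := by
  classical
  let lamA : A →ₗ[k] k := (β.flip 1) ∘ₗ (g.restrictScalars k)
  have hlamA : ∀ a, lamA a = β (g a) 1 := fun a => rfl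
  obtain ⟨s, hs⟩ := LinearMap.exists_leftInverse_of_injective (f.restrictScalars k)
    (LinearMap.ker_eq_bot.mpr hinj)
  have hs' : ∀ a, s (f a) = a := fun a => LinearMap.congr_fun hs a
  let μ : B →ₗ[k] k := lamA ∘ₗ s ∘ₗ projL 𝒜 𝒢B 0
  have hμ : ∀ b, μ b = lamA (s (proj 𝒢B 0 b)) := fun b => rfl
  have h1mem : (1 : R) ∈ 𝒜 0 := SetLike.one_mem_graded 𝒜
  have hμf : ∀ a, μ (f a) = β (g a) 1 := by
    intro a
    rw [hμ, ← proj_map 𝒢A 𝒢B hf, hs', hlamA, proj_map 𝒢A 𝒟 hg]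
    have := pair_eq_proj_left 𝒜 𝒟 β hD h1mem (g a)
    rw [neg_zero] at this
    exact this.symm
  have hμvan : ∀ m : ℤ, m ≠ 0 → ∀ b, b ∈ 𝒢B m → μ b = 0 := by
    intro m hm b hb
    rw [hμ, proj_of_mem_ne 𝒢B hb hm, map_zero, map_zero]
  let Ψ : B →ₗ[k] Module.Dual k R := LinearMap.mk₂ k (fun b r => μ (r • b))
    (fun b b' r => by rw [smul_add, map_add])
    (fun c b r => by rw [smul_comm, map_smul])
    (fun b r r' => by rw [add_smul, map_add])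
    (fun c b r => by rw [smul_assoc, map_smul])
  have hΨ : ∀ b r, Ψ b r = μ (r • b) := fun b r => rfl
  let Θ : D →ₗ[k] Module.Dual k R := β
  have hΘ : Function.Injective Θ := by
    refine (injective_iff_map_eq_zero Θ).mpr fun d hd => ?_
    exact eq_zero_of_pair_left 𝒜 𝒟 β hD (fun x => LinearMap.congr_fun hd x)
  have key : ∀ (j : ℤ) (b : B), b ∈ 𝒢B j → ∃ d, d ∈ 𝒟 j ∧ Θ d = Ψ b := by
    intro j b hb
    obtain ⟨d, hd, hdφ⟩ := hD.exists_eq j (Ψ b)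
    refine ⟨d, hd, ?_⟩
    apply LinearMap.ext
    intro r
    show β d r = Ψ b r
    refine DirectSum.Decomposition.inductionOn 𝒜 ?_ ?_ ?_ r
    · rw [map_zero, map_zero]
    · rintro i ⟨r, hr⟩
      show β d r = Ψ b r
      by_cases hi : i = -j
      · subst hi; exact hdφ r hr
      · rw [hD.vanish j d hd i hi r hr, hΨ,
          hμvan (i + j) (fun h => hi (by omega)) (r • b) (smul_mem 𝒜 𝒢B hr hb)]
    · intro r r' h h'
      rw [map_add, map_add, h, h']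
  have hrange : ∀ b : B, Ψ b ∈ LinearMap.range Θ := by
    intro b
    refine DirectSum.Decomposition.inductionOn 𝒢B ?_ ?_ ?_ b
    · rw [map_zero]; exact zero_mem _
    · rintro n ⟨b, hb⟩
      obtain ⟨y, -, hy⟩ := key n b hb
      exact ⟨y, hy⟩
    · intro x x' h h'
      rw [map_add]; exact add_mem h h'
  let eΘ := LinearEquiv.ofInjective Θ hΘ
  let h₀ : B →ₗ[k] D := eΘ.symm.toLinearMap ∘ₗ (Ψ.codRestrict (LinearMap.range Θ) hrange)
  have hh₀ : ∀ b, Θ (h₀ b) = Ψ b := by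
    intro b
    have := LinearEquiv.apply_symm_apply eΘ (Ψ.codRestrict (LinearMap.range Θ) hrange b)
    exact congrArg Subtype.val this
  have hpair : ∀ b r, β (h₀ b) r = μ (r • b) := fun b r => LinearMap.congr_fun (hh₀ b) r
  have hsmul : ∀ (t : R) (b : B), h₀ (t • b) = t • h₀ b := by
    intro t b
    rw [← sub_eq_zero]
    apply eq_zero_of_pair_left 𝒜 𝒟 β hD
    intro r
    rw [map_sub, LinearMap.sub_apply, hpair, hD.map_smul, hpair, smul_eq_mul, mul_smul,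
      smul_comm, sub_self]
  have hgr : ∀ n b, b ∈ 𝒢B n → h₀ b ∈ 𝒟 n := by
    intro n b hb
    obtain ⟨y, hy, hyΘ⟩ := key n b hb
    have : h₀ b = y := hΘ ((hh₀ b).trans hyΘ.symm)
    rw [this]; exact hy
  let h : B →ₗ[R] D := { toFun := h₀, map_add' := h₀.map_add, map_smul' := hsmul }
  refine ⟨h, hgr, ?_⟩
  apply LinearMap.ext
  intro a
  rw [← sub_eq_zero]
  apply eq_zero_of_pair_left 𝒜 𝒟 β hD
  intro r
  show β (h₀ (f a) - g a) r = 0
  rw [map_sub, LinearMap.sub_apply, hpair, ← f.map_smul, hμf, g.map_smul, hD.map_smul,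
    smul_eq_mul, mul_one, sub_self]

include hD in
theorem essential_aux (hposR : ∀ n : ℤ, n < 0 → 𝒜 n = ⊥)
    (h0R : 𝒜 0 = Submodule.span k {(1 : R)}) (mR : HomogeneousIdeal 𝒜)
    (hmR : mR.toIdeal = Ideal.span (⋃ n ∈ Set.Ioi (0 : ℤ), (𝒜 n : Set R)))
    (e : (R ⧸ mR.toIdeal) →ₗ[R] D) (he : Function.Injective e)
    (hegr : GrLC.IsGrHom (GrLC.quotGr 𝒜 mR) 𝒟 e)
    (P : Submodule R D) (hP : P.IsHomogeneous 𝒟) (hPne : P ≠ ⊥) :
    P ⊓ LinearMap.range e ≠ ⊥ := by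
  classical
  obtain ⟨p, hpP, hp0⟩ := (Submodule.ne_bot_iff P).mp hPne
  have h10 : (1 : R) ≠ 0 := by
    intro h
    apply hp0
    rw [← one_smul R p, h, zero_smul]
  obtain ⟨a, hpa⟩ : ∃ a, proj 𝒟 a p ≠ 0 := by
    by_contra hno
    push Not at hno
    exact hp0 (eq_zero_of_proj_eq_zero 𝒟 hno)
  have hpaP : proj 𝒟 a p ∈ P := hP a hpP
  have hpamem : proj 𝒟 a p ∈ 𝒟 a := proj_mem 𝒟 a p
  obtain ⟨r, hr, hrp⟩ : ∃ r, r ∈ 𝒜 (-a) ∧ β (proj 𝒟 a p) r ≠ 0 := by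
    by_contra hno
    push Not at hno
    exact hpa (hD.eq_zero a _ hpamem hno)
  obtain ⟨q, hqdef⟩ : ∃ q, q = r • proj 𝒟 a p := ⟨_, rfl⟩
  have hqP : q ∈ P := by rw [hqdef]; exact P.smul_mem r hpaP
  have hq0 : q ∈ 𝒟 0 := by
    have := smul_mem 𝒜 𝒟 hr hpamem
    rw [neg_add_cancel] at this
    rw [hqdef]; exact this
  have hq1 : β q 1 ≠ 0 := by
    rw [hqdef, hD.map_smul, smul_eq_mul, mul_one]
    exact hrp
  have h1not : (1 : R) ∉ mR.toIdeal := by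
    intro h1
    rw [hmR] at h1
    have := proj_zero_mul_mem 𝒜 hposR h1 1
    rw [mul_one, proj_of_mem_same 𝒜 (SetLike.one_mem_graded 𝒜)] at this
    exact h10 this
  obtain ⟨e1, he1def⟩ : ∃ e1, e1 = e (Ideal.Quotient.mk mR.toIdeal 1) := ⟨_, rfl⟩
  have he1mem : e1 ∈ 𝒟 0 := by
    rw [he1def]
    apply hegr 0
    exact AddSubgroup.mem_map.mpr ⟨1, SetLike.one_mem_graded 𝒜, rfl⟩
  have he1ne : e1 ≠ 0 := by
    intro h
    rw [he1def] at h
    have h2 : Ideal.Quotient.mk mR.toIdeal 1 = 0 := he (by rw [map_zero]; exact h)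
    exact h1not (Ideal.Quotient.eq_zero_iff_mem.mp h2)
  have he11 : β e1 1 ≠ 0 := fun h => he1ne (deg0_eq_zero 𝒜 𝒟 β hD h0R he1mem h)
  obtain ⟨c, hcdef⟩ : ∃ c : k, c = β q 1 / β e1 1 := ⟨_, rfl⟩
  have hqc : q = c • e1 := by
    rw [← sub_eq_zero]
    apply deg0_eq_zero 𝒜 𝒟 β hD h0R (sub_mem hq0 (ksmul_mem 𝒜 𝒟 c he1mem))
    rw [map_sub, LinearMap.sub_apply, β.map_smul c e1, LinearMap.smul_apply, smul_eq_mul,
      hcdef, div_mul_cancel₀ _ he11, sub_self]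
  have hqne : q ≠ 0 := by
    intro h
    rw [h, map_zero, LinearMap.zero_apply] at hq1
    exact hq1 rfl
  have hqrange : q ∈ LinearMap.range e := by
    refine ⟨algebraMap k R c • Ideal.Quotient.mk mR.toIdeal 1, ?_⟩
    rw [e.map_smul, algebraMap_smul, hqc, he1def]
  intro hbot
  apply hqne
  have : q ∈ P ⊓ LinearMap.range e := ⟨hqP, hqrange⟩
  rw [hbot] at this
  exact (Submodule.mem_bot R).mp this

end

theorem main (k : Type u) [Field k] (R : Type u) [CommRing R] [Algebra k R] (𝒜 : ℤ → Submodule k R) [GradedAlgebra 𝒜] (hposR : ∀ n : ℤ, n < 0 → 𝒜 n = ⊥) (h0R : 𝒜 0 = Submodule.span k {(1 : R)}) [Algebra.FiniteType k R] (mR : HomogeneousIdeal 𝒜) (hmR : mR.toIdeal = Ideal.span (⋃ n ∈ Set.Ioi (0 : ℤ), (𝒜 n : Set R))) (D : Type u) [AddCommGroup D] [Module R D] [Module k D] [IsScalarTower k R D] (𝒟 : ℤ → AddSubgroup D) [DirectSum.Decomposition 𝒟] [SetLike.GradedSMul 𝒜 𝒟] (β : D →ₗ[k] R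 →ₗ[k] k) (hD : GrSeg.IsGDual R 𝒜 𝒟 β) (e : (R ⧸ mR.toIdeal) →ₗ[R] D) (he : Function.Injective e) (hegr : GrLC.IsGrHom (GrLC.quotGr 𝒜 mR) 𝒟 e) : GrLC.IsStarInjHull 𝒜 (GrLC.quotGr 𝒜 mR) 𝒟 e := by
  refine ⟨⟨he, hegr, essential_aux 𝒜 𝒟 β hD hposR h0R mR hmR e he hegr⟩, ?_⟩
  intro A B f hf hinj g hg
  let _iA : Module k A.carrier := Module.compHom A.carrier (algebraMap k R)
  let _iB : Module k B.carrier := Module.compHom B.carrier (algebraMap k R)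
  have hA : IsScalarTower k R A.carrier := ⟨fun c r a => by
    show (c • r) • a = algebraMap k R c • (r • a)
    rw [Algebra.smul_def, mul_smul]⟩
  have hB : IsScalarTower k R B.carrier := ⟨fun c r a => by
    show (c • r) • a = algebraMap k R c • (r • a)
    rw [Algebra.smul_def, mul_smul]⟩
  exact starInj_aux 𝒜 𝒟 β hD A.gr B.gr f hf hinj g hg

end Groth.Agent.Helper29.GrDual52
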