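import Mathlib
import Groth.Agent.Lib.Helper29.GrDualMap

/-!
# Graded duals: Noetherian / Artinian duality (helper29)
-/

namespace Groth.Agent.Helper29.GrDualArt

universe u

open Groth.Agent.Helper29.GrK Groth.Agent.Helper29.GrFin Groth.Agent.Helper29.GrDualLib

section Util

variable {k : Type u} [Field k] {V : Type u} [AddCommGroup V] [Module k V]

theorem exists_functional_of_notMem (W : Submodule k V) {x : V} (hx : x ∉ W) :
    ∃ φ : V →ₗ[k] k, (∀ w ∈ W, φ w = 0) ∧ φ x = 1 := by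
  have hxW : W.mkQ x ≠ 0 := by
    intro h0
    rw [Submodule.mkQ_apply, Submodule.Quotient.mk_eq_zero] at h0
    exact hx h0
  obtain ⟨g0, hg0⟩ := LinearMap.exists_leftInverse_of_injective
    (LinearMap.toSpanSingleton k (V ⧸ W) (W.mkQ x)) (LinearMap.ker_toSpanSingleton k hxW)
  have hg01 : g0 (W.mkQ x) = 1 := by
    have := LinearMap.congr_fun hg0 1
    simpa using this
  refine ⟨g0 ∘ₗ W.mkQ, ?_, hg01⟩
  intro w hw
  show g0 (W.mkQ w) = 0
  have : W.mkQ w = 0 := by rw [Submodule.mkQ_apply, Submodule.Quotient.mk_eq_zero]; exact hw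
  rw [this, map_zero]

end Util

section Low

variable {M : Type u} [AddCommGroup M] {τ : Type u} [SetLike τ M] [AddSubgroupClass τ M]
  (ℳ : ℤ → τ) [DirectSum.Decomposition ℳ]

theorem exists_low (x : M) : ∃ m0 : ℤ, ∀ i < m0, proj ℳ i x = 0 := by
  refine DirectSum.Decomposition.inductionOn ℳ ?_ ?_ ?_ x
  · exact ⟨0, fun i _ => proj_zero ℳ i⟩
  · rintro i ⟨y, hy⟩
    exact ⟨i, fun j hj => proj_of_mem_ne ℳ hy (by omega)⟩
  · rintro y y' ⟨m, hm⟩ ⟨m', hm'⟩
    refine ⟨min m m', fun i hi => ?_⟩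
    rw [proj_add, hm i (lt_of_lt_of_le hi (min_le_left _ _)),
      hm' i (lt_of_lt_of_le hi (min_le_right _ _)), add_zero]

end Low

section Hom

variable {k : Type u} [Field k] {R : Type u} [CommRing R] [Algebra k R]
  (𝒜 : ℤ → Submodule k R) [GradedAlgebra 𝒜]
  {D : Type u} [AddCommGroup D] [Module R D] [Module k D] [IsScalarTower k R D]
  {τ' : Type u} [SetLike τ' D] [AddSubgroupClass τ' D]
  (𝒟 : ℤ → τ') [DirectSum.Decomposition 𝒟] [SetLike.GradedSMul 𝒜 𝒟]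

theorem proj_smul' {c : ℤ} {r : R} (hr : r ∈ 𝒜 c) (j : ℤ) (x : D) :
    proj 𝒟 j (r • x) = r • proj 𝒟 (j - c) x := by
  have h := proj_smul 𝒜 𝒟 hr (j - c) x
  rwa [add_sub_cancel] at h

theorem bot_isHomogeneous : (⊥ : Submodule R D).IsHomogeneous 𝒟 := by
  intro i m hm
  rw [(Submodule.mem_bot R).mp hm]
  show proj 𝒟 i 0 ∈ (⊥ : Submodule R D)
  rw [proj_zero]; exact zero_mem _

theorem sup_isHomogeneous {N N' : Submodule R D} (h : N.IsHomogeneous 𝒟)
    (h' : N'.IsHomogeneous 𝒟) : (N ⊔ N').IsHomogeneous 𝒟 := by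
  intro i m hm
  obtain ⟨a, ha, b, hb, rfl⟩ := Submodule.mem_sup.mp hm
  show proj 𝒟 i (a + b) ∈ N ⊔ N'
  rw [proj_add]
  exact Submodule.add_mem_sup (h i ha) (h' i hb)

include 𝒜 in
theorem span_singleton_isHomogeneous {n : ℤ} {e : D} (he : e ∈ 𝒟 n) :
    (Submodule.span R {e}).IsHomogeneous 𝒟 := by
  intro j p hp
  obtain ⟨r, rfl⟩ := Submodule.mem_span_singleton.mp hp
  show proj 𝒟 j (r • e) ∈ Submodule.span R {e}
  rw [proj_smul_of_mem 𝒜 𝒟 he]
  exact Submodule.smul_mem _ _ (Submodule.mem_span_singleton_self e)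

end Hom

section Art

variable {k : Type u} [Field k] {R : Type u} [CommRing R] [Algebra k R]
  (𝒜 : ℤ → Submodule k R) [GradedAlgebra 𝒜]
  {M : Type u} [AddCommGroup M] [Module R M] [Module k M] [IsScalarTower k R M]
  {τ : Type u} [SetLike τ M] [AddSubgroupClass τ M]
  (ℳ : ℤ → τ) [DirectSum.Decomposition ℳ] [SetLike.GradedSMul 𝒜 ℳ]
  {D : Type u} [AddCommGroup D] [Module R D] [Module k D] [IsScalarTower k R D]
  {τ' : Type u} [SetLike τ' D] [AddSubgroupClass τ' D]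
  (𝒟 : ℤ → τ') [DirectSum.Decomposition 𝒟] [SetLike.GradedSMul 𝒜 𝒟]
  (β : D →ₗ[k] M →ₗ[k] k) (hD : GrSeg.IsGDual R ℳ 𝒟 β)

/-- The condition defining `Phi`. -/
def PhiCond (L : Submodule R D) (x : M) : Prop :=
  ∀ (n : ℤ) (d : D), d ∈ L → (∀ j < n, proj 𝒟 j d = 0) → β (proj 𝒟 n d) x = 0

include 𝒜 hD in
theorem phiCond_smul (L : Submodule R D) {x : M} (hx : PhiCond 𝒟 β L x) (r : R) :
    PhiCond 𝒟 β L (r • x) := by
  refine DirectSum.Decomposition.inductionOn 𝒜 ?_ ?_ ?_ r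
  · intro n d _ _; rw [zero_smul, map_zero]
  · rintro c ⟨r, hr⟩
    intro n d hd hlow
    show β (proj 𝒟 n d) (r • x) = 0
    rw [← hD.map_smul, ← proj_smul 𝒜 𝒟 hr n d]
    apply hx (c + n) (r • d) (L.smul_mem r hd)
    intro j hj
    rw [proj_smul' 𝒜 𝒟 hr, hlow (j - c) (by omega), smul_zero]
  · intro r r' h h' n d hd hlow
    rw [add_smul, map_add, h n d hd hlow, h' n d hd hlow, add_zero]

/-- The orthogonal of the associated graded (lowest forms) of `L`. -/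
def Phi (L : Submodule R D) : Submodule R M where
  carrier := {x | PhiCond 𝒟 β L x}
  add_mem' := by
    intro x y hx hy n d hd hlow
    rw [map_add, hx n d hd hlow, hy n d hd hlow, add_zero]
  zero_mem' := by intro n d _ _; rw [map_zero]
  smul_mem' := fun r _ hx => phiCond_smul 𝒜 ℳ 𝒟 β hD L hx r

include hD in
theorem le_of_Phi_le (N : ℤ) (hN : ∀ n, N < n → ∀ d, d ∈ 𝒟 n → d = 0)
    (hfin : ∀ n, Module.Finite k (pieceK 𝒜 ℳ n))
    {L L' : Submodule R D} (hLL' : L ≤ L') (hΦ : Phi 𝒜 ℳ 𝒟 β hD L ≤ Phi 𝒜 ℳ 𝒟 β hD L') :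
    L' ≤ L := by
  have P : ∀ (j : ℕ) (d' : D), d' ∈ L' → (∀ i < N + 1 - j, proj 𝒟 i d' = 0) → d' ∈ L := by
    intro j
    induction j with
    | zero =>
      intro d' _ hlow
      have : d' = 0 := by
        apply eq_zero_of_proj_eq_zero 𝒟
        intro i
        by_cases hi : i < N + 1 - ((0 : ℕ) : ℤ)
        · exact hlow i hi
        · exact hN i (by omega) _ (proj_mem 𝒟 i d')
      rw [this]; exact zero_mem _
    | succ j ih =>
      intro d' hd' hlow
      obtain ⟨n, hn⟩ : ∃ n : ℤ, n = N - j := ⟨_, rfl⟩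
      have hlow' : ∀ i < n, proj 𝒟 i d' = 0 := fun i hi => hlow i (by push_cast; omega)
      let V : Submodule k D :=
        { carrier := {v | ∃ d, d ∈ L ∧ (∀ i < n, proj 𝒟 i d = 0) ∧ proj 𝒟 n d = v}
          add_mem' := by
            rintro v v' ⟨d, hd, hl, rfl⟩ ⟨e, he, hl', rfl⟩
            exact ⟨d + e, L.add_mem hd he,
              fun i hi => by rw [proj_add, hl i hi, hl' i hi, add_zero], proj_add 𝒟 n d e⟩
          zero_mem' := ⟨0, L.zero_mem, fun i _ => proj_zero 𝒟 i, proj_zero 𝒟 n⟩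
          smul_mem' := by
            rintro c v ⟨d, hd, hl, rfl⟩
            refine ⟨c • d, ?_, fun i hi => by rw [proj_ksmul 𝒜 𝒟, hl i hi, smul_zero],
              proj_ksmul 𝒜 𝒟 c n d⟩
            rw [← algebraMap_smul R c d]; exact L.smul_mem _ hd }
      have hV : proj 𝒟 n d' ∈ V := by
        by_contra hnot
        obtain ⟨φ, hφV, hφ1⟩ := exists_functional_of_notMem V hnot
        have := hfin (-n)
        obtain ⟨x, hx, hxφ⟩ := exists_repr 𝒜 ℳ 𝒟 β hD (-n) φ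
        rw [neg_neg] at hxφ
        have hxΦ : x ∈ Phi 𝒜 ℳ 𝒟 β hD L := by
          intro m d hd hl
          by_cases hm : m = n
          · subst hm
            rw [hxφ _ (proj_mem 𝒟 m d)]
            exact hφV _ ⟨d, hd, hl, rfl⟩
          · exact hD.vanish m _ (proj_mem 𝒟 m d) (-n) (fun h => hm (by omega)) x hx
        have h1 := hΦ hxΦ n d' hd' hlow'
        rw [hxφ _ (proj_mem 𝒟 n d'), hφ1] at h1
        exact one_ne_zero h1
      obtain ⟨d, hd, hl, hdn⟩ := hV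
      have hsub : d' - d ∈ L := by
        apply ih (d' - d) (L'.sub_mem hd' (hLL' hd))
        intro i hi
        rw [proj_sub 𝒜 𝒟]
        by_cases hin : i < n
        · rw [hlow' i hin, hl i hin, sub_self]
        · have : i = n := by omega
          rw [this, hdn, sub_self]
      have := L.add_mem hsub hd
      rwa [sub_add_cancel] at this
  intro d' hd'
  obtain ⟨m0, hm0⟩ := exists_low 𝒟 d'
  apply P (N + 1 - m0).toNat d' hd'
  intro i hi
  apply hm0 i
  have := Int.self_le_toNat (N + 1 - m0)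
  omega

include hD in
theorem isArtinian_dual [IsNoetherian R M] (N : ℤ) (hN : ∀ n, N < n → ∀ d, d ∈ 𝒟 n → d = 0)
    (hfin : ∀ n, Module.Finite k (pieceK 𝒜 ℳ n)) : IsArtinian R D := by
  have : WellFoundedGT (Submodule R M) := isNoetherian_iff'.mp inferInstance
  have hanti : StrictAnti (Phi 𝒜 ℳ 𝒟 β hD) := by
    intro L L' hlt
    rw [lt_iff_le_not_ge] at hlt ⊢
    refine ⟨fun x hx n d hd hlow => hx n d (hlt.1 hd) hlow, fun hle => hlt.2 ?_⟩
    exact le_of_Phi_le 𝒜 ℳ 𝒟 β hD N hN hfin hlt.1 hle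
  exact hanti.wellFoundedLT

include hD in
theorem isArtinian_dual_of_finite [Algebra.FiniteType k R] [Module.Finite R M]
    (hposR : ∀ n : ℤ, n < 0 → 𝒜 n = ⊥) (h0R : 𝒜 0 = Submodule.span k {(1 : R)}) :
    IsArtinian R D := by
  have hR : IsNoetherianRing R := Algebra.FiniteType.isNoetherianRing k R
  have hM : IsNoetherian R M := isNoetherian_of_isNoetherianRing_of_finite R M
  obtain ⟨n0, hn0⟩ := exists_lower_bound 𝒜 ℳ hposR
  refine isArtinian_dual 𝒜 ℳ 𝒟 β hD (-n0) ?_ (fun n => module_piece_finite 𝒜 ℳ hposR h0R n)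
  intro n hn d hd
  apply hD.eq_zero n d hd
  intro x hx
  rw [hn0 (-n) (by omega) x hx, map_zero]

include hD in
theorem flip_isGDual (hfin : ∀ n, Module.Finite k (pieceK 𝒜 ℳ n)) :
    GrSeg.IsGDual R 𝒟 ℳ β.flip where
  map_smul r x d := by
    show β d (r • x) = β (r • d) x
    rw [hD.map_smul]
  vanish n x hx m hm d hd := by
    show β d x = 0
    exact hD.vanish m d hd n (fun h => hm (by omega)) x hx
  eq_zero n x hx h := by
    apply eq_zero_of_pair_right 𝒜 ℳ 𝒟 β hD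
    intro d
    rw [pair_eq_proj_left ℳ 𝒟 β hD hx d]
    exact h _ (proj_mem 𝒟 (-n) d)
  exists_eq n φ := by
    have := hfin n
    obtain ⟨y, hy, hyd⟩ := exists_repr 𝒜 ℳ 𝒟 β hD n φ
    exact ⟨y, hy, fun d hd => hyd d hd⟩

/-- The condition defining `liftSub`. -/
def LiftCond (n : ℤ) (V : Submodule k M) (x : M) : Prop :=
  (∀ j < n, proj ℳ j x = 0) ∧ proj ℳ n x ∈ V

theorem liftCond_add (n : ℤ) (V : Submodule k M) {x y : M} (hx : LiftCond ℳ n V x)
    (hy : LiftCond ℳ n V y) : LiftCond ℳ n V (x + y) :=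
  ⟨fun j hj => by rw [proj_add, hx.1 j hj, hy.1 j hj, add_zero],
    by rw [proj_add]; exact V.add_mem hx.2 hy.2⟩

theorem liftCond_zero (n : ℤ) (V : Submodule k M) : LiftCond ℳ n V 0 :=
  ⟨fun j _ => proj_zero ℳ j, by rw [proj_zero]; exact V.zero_mem⟩

theorem liftCond_smul (hposR : ∀ n : ℤ, n < 0 → 𝒜 n = ⊥)
    (h0R : 𝒜 0 = Submodule.span k {(1 : R)}) (n : ℤ) (V : Submodule k M) {x : M}
    (hx : LiftCond ℳ n V x) (r : R) : LiftCond ℳ n V (r • x) := by
  refine DirectSum.Decomposition.inductionOn 𝒜 ?_ ?_ ?_ r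
  · rw [zero_smul]; exact liftCond_zero ℳ n V
  · rintro c ⟨r, hr⟩
    show LiftCond ℳ n V (r • x)
    rcases lt_trichotomy c 0 with hc | hc | hc
    · have h1 : r ∈ (⊥ : Submodule k R) := by rw [← hposR c hc]; exact hr
      rw [(Submodule.mem_bot k).mp h1, zero_smul]; exact liftCond_zero ℳ n V
    · subst hc
      rw [h0R] at hr
      obtain ⟨a, rfl⟩ := Submodule.mem_span_singleton.mp hr
      rw [smul_assoc, one_smul]
      exact ⟨fun j hj => by rw [proj_ksmul 𝒜 ℳ, hx.1 j hj, smul_zero],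
        by rw [proj_ksmul 𝒜 ℳ]; exact V.smul_mem a hx.2⟩
    · exact ⟨fun j hj => by rw [proj_smul' 𝒜 ℳ hr, hx.1 (j - c) (by omega), smul_zero],
        by rw [proj_smul' 𝒜 ℳ hr, hx.1 (n - c) (by omega), smul_zero]; exact V.zero_mem⟩
  · intro r r' h h'
    rw [add_smul]; exact liftCond_add ℳ n V h h'

/-- Lift of a subspace of the degree-`n` piece to an `R`-submodule: `V + M_{> n}`. -/
def liftSub (hposR : ∀ n : ℤ, n < 0 → 𝒜 n = ⊥)
    (h0R : 𝒜 0 = Submodule.span k {(1 : R)}) (n : ℤ) (V : Submodule k M) : Submodule R M where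
  carrier := {x | LiftCond ℳ n V x}
  add_mem' := fun hx hy => liftCond_add ℳ n V hx hy
  zero_mem' := liftCond_zero ℳ n V
  smul_mem' := fun r _ hx => liftCond_smul 𝒜 ℳ hposR h0R n V hx r

theorem piece_finite_of_artinian [IsArtinian R M] (hposR : ∀ n : ℤ, n < 0 → 𝒜 n = ⊥)
    (h0R : 𝒜 0 = Submodule.span k {(1 : R)}) (n : ℤ) : Module.Finite k (pieceK 𝒜 ℳ n) := by
  have aux : ∀ V V' : Submodule k (pieceK 𝒜 ℳ n),
      liftSub 𝒜 ℳ hposR h0R n (V.map (pieceK 𝒜 ℳ n).subtype) ≤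
        liftSub 𝒜 ℳ hposR h0R n (V'.map (pieceK 𝒜 ℳ n).subtype) → V ≤ V' := by
    intro V V' h v hv
    have hvmem : (v : M) ∈ ℳ n := v.2
    have h1 : (v : M) ∈ liftSub 𝒜 ℳ hposR h0R n (V.map (pieceK 𝒜 ℳ n).subtype) := by
      refine ⟨fun j hj => proj_of_mem_ne ℳ hvmem (by omega), ?_⟩
      rw [proj_of_mem_same ℳ hvmem]
      exact ⟨v, hv, rfl⟩
    have h2 := (h h1).2
    rw [proj_of_mem_same ℳ hvmem] at h2
    obtain ⟨w, hw, hwv⟩ := h2
    have : w = v := Subtype.ext hwv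
    rw [← this]; exact hw
  have hmono : StrictMono (fun V : Submodule k (pieceK 𝒜 ℳ n) =>
      liftSub 𝒜 ℳ hposR h0R n (V.map (pieceK 𝒜 ℳ n).subtype)) := by
    apply Monotone.strictMono_of_injective
    · intro V V' h x hx
      exact ⟨hx.1, Submodule.map_mono h hx.2⟩
    · intro V V' h
      exact le_antisymm (aux V V' (le_of_eq h)) (aux V' V (le_of_eq h.symm))
  have : IsArtinian k (pieceK 𝒜 ℳ n) := hmono.wellFoundedLT
  exact (IsSemisimpleModule.finite_tfae.out 0 2).mpr this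

/-- The orthogonal of a submodule of the dual. -/
def perp (N : Submodule R D) : Submodule R M where
  carrier := {x | ∀ d ∈ N, β d x = 0}
  add_mem' := by intro x y hx hy d hd; rw [map_add, hx d hd, hy d hd, add_zero]
  zero_mem' := by intro d _; rw [map_zero]
  smul_mem' := by
    intro r x hx d hd
    rw [← hD.map_smul]; exact hx _ (N.smul_mem r hd)

include hD in
theorem finite_dual_of_artinian [IsArtinian R M]
    (hfin : ∀ n, Module.Finite k (pieceK 𝒜 ℳ n)) : Module.Finite R D := by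
  classical
  let 𝒮 : Set (Submodule R M) :=
    {K | ∃ N : Submodule R D, N.FG ∧ N.IsHomogeneous 𝒟 ∧ K = perp ℳ 𝒟 β hD N}
  have hne : 𝒮.Nonempty :=
    ⟨perp ℳ 𝒟 β hD ⊥, ⊥, Submodule.fg_bot, bot_isHomogeneous 𝒟, rfl⟩
  obtain ⟨K0, ⟨N0, hfg, hhom, rfl⟩, hmin⟩ := IsArtinian.set_has_minimal 𝒮 hne
  have htop : N0 = ⊤ := by
    by_contra hnt
    obtain ⟨d, hd⟩ : ∃ d, d ∉ N0 := by
      by_contra h; push Not at h; exact hnt (eq_top_iff.mpr fun x _ => h x)
    obtain ⟨n, hn⟩ : ∃ n, proj 𝒟 n d ∉ N0 := by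
      by_contra h; push Not at h
      apply hd
      obtain ⟨s, hs⟩ := sum_proj 𝒟 d
      rw [hs]; exact Submodule.sum_mem _ fun i _ => h i
    obtain ⟨d0, hd0⟩ : ∃ d0, d0 = proj 𝒟 n d := ⟨_, rfl⟩
    rw [← hd0] at hn
    have hd0mem : d0 ∈ 𝒟 n := by rw [hd0]; exact proj_mem 𝒟 n d
    obtain ⟨φ, hφV, hφ1⟩ := exists_functional_of_notMem (N0.restrictScalars k) hn
    have := hfin (-n)
    obtain ⟨x, hx, hxφ⟩ := exists_repr 𝒜 ℳ 𝒟 β hD (-n) φ
    rw [neg_neg] at hxφ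
    have hxN0 : x ∈ perp ℳ 𝒟 β hD N0 := by
      intro e he
      rw [pair_eq_proj_left ℳ 𝒟 β hD hx e, neg_neg, hxφ _ (proj_mem 𝒟 n e)]
      exact hφV _ (hhom n he)
    have hN1 : perp ℳ 𝒟 β hD (N0 ⊔ Submodule.span R {d0}) ∈ 𝒮 :=
      ⟨N0 ⊔ Submodule.span R {d0}, hfg.sup (Submodule.fg_span_singleton d0),
        sup_isHomogeneous 𝒟 hhom (span_singleton_isHomogeneous 𝒜 𝒟 hd0mem), rfl⟩
    apply hmin _ hN1
    rw [lt_iff_le_not_ge]
    refine ⟨fun y hy e he => hy e ((le_sup_left : N0 ≤ N0 ⊔ Submodule.span R {d0}) he),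
      fun hle => ?_⟩
    have h1 := hle hxN0 d0 ((le_sup_right : Submodule.span R {d0} ≤ N0 ⊔ Submodule.span R {d0})
      (Submodule.mem_span_singleton_self d0))
    rw [hxφ _ hd0mem, hφ1] at h1
    exact one_ne_zero h1
  rw [Module.finite_def, ← htop]
  exact hfg

end Art

end Groth.Agent.Helper29.GrDualArt
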