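import Mathlib
import Groth.Agent.Lib.Helper29.GrDualArt

/-!
# Artinian graded modules embed in finite sums of shifted `R^*` (helper29)
-/

namespace Groth.Agent.Helper29.GrDual60

universe u

open Groth.Agent.Helper29.GrK Groth.Agent.Helper29.GrFin Groth.Agent.Helper29.GrDualLib
  Groth.Agent.Helper29.GrDualArt

section

variable {k : Type u} [Field k] {R : Type u} [CommRing R] [Algebra k R]
  (𝒜 : ℤ → Submodule k R) [GradedAlgebra 𝒜]
  {D : Type u} [AddCommGroup D] [Module R D] [Module k D] [IsScalarTower k R D]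
  (𝒟 : ℤ → AddSubgroup D) [DirectSum.Decomposition 𝒟] [SetLike.GradedSMul 𝒜 𝒟]
  (β : D →ₗ[k] R →ₗ[k] k) (hD : GrSeg.IsGDual R 𝒜 𝒟 β)

include hD in
theorem exists_hom_of_functional
    {B : Type u} [AddCommGroup B] [Module R B] [Module k B] [IsScalarTower k R B]
    (𝒢B : ℤ → AddSubgroup B) [DirectSum.Decomposition 𝒢B] [SetLike.GradedSMul 𝒜 𝒢B]
    (s : ℤ) (μ : B →ₗ[k] k) (hμvan : ∀ m : ℤ, m ≠ -s → ∀ b, b ∈ 𝒢B m → μ b = 0) :
    ∃ h : B →ₗ[R] D, (∀ j b, b ∈ 𝒢B j → h b ∈ 𝒟 (j + s)) ∧ ∀ b r, β (h b) r = μ (r • b) := by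
  classical
  let Ψ : B →ₗ[k] Module.Dual k R := LinearMap.mk₂ k (fun b r => μ (r • b))
    (fun b b' r => by rw [smul_add, map_add])
    (fun c b r => by rw [smul_comm, map_smul])
    (fun b r r' => by rw [add_smul, map_add])
    (fun c b r => by rw [smul_assoc, map_smul])
  have hΨ : ∀ b r, Ψ b r = μ (r • b) := fun b r => rfl
  let Θ : D →ₗ[k] Module.Dual k R := β
  have hΘ : Function.Injective Θ := by
    refine (injective_iff_map_eq_zero Θ).mpr fun d hd => ?_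
    exact eq_zero_of_pair_left 𝒜 𝒟 β hD (fun x => LinearMap.congr_fun hd x)
  have key : ∀ (j : ℤ) (b : B), b ∈ 𝒢B j → ∃ d, d ∈ 𝒟 (j + s) ∧ Θ d = Ψ b := by
    intro j b hb
    obtain ⟨d, hd, hdφ⟩ := hD.exists_eq (j + s) (Ψ b)
    refine ⟨d, hd, ?_⟩
    apply LinearMap.ext
    intro r
    show β d r = Ψ b r
    refine DirectSum.Decomposition.inductionOn 𝒜 ?_ ?_ ?_ r
    · rw [map_zero, map_zero]
    · rintro i ⟨r, hr⟩
      show β d r = Ψ b r
      by_cases hi : i = -(j + s)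
      · subst hi; exact hdφ r hr
      · rw [hD.vanish (j + s) d hd i hi r hr, hΨ,
          hμvan (i + j) (fun h => hi (by omega)) (r • b) (smul_mem 𝒜 𝒢B hr hb)]
    · intro r r' h h'
      rw [map_add, map_add, h, h']
  have hrange : ∀ b : B, Ψ b ∈ LinearMap.range Θ := by
    intro b
    refine DirectSum.Decomposition.inductionOn 𝒢B ?_ ?_ ?_ b
    · rw [map_zero]; exact zero_mem _
    · rintro n ⟨b, hb⟩
      obtain ⟨y, -, hy⟩ := key n b hb
      exact ⟨y, hy⟩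
    · intro x x' h h'
      rw [map_add]; exact add_mem h h'
  let eΘ := LinearEquiv.ofInjective Θ hΘ
  let h₀ : B →ₗ[k] D := eΘ.symm.toLinearMap ∘ₗ (Ψ.codRestrict (LinearMap.range Θ) hrange)
  have hh₀ : ∀ b, Θ (h₀ b) = Ψ b := by
    intro b
    have := LinearEquiv.apply_symm_apply eΘ (Ψ.codRestrict (LinearMap.range Θ) hrange b)
    exact congrArg Subtype.val this
  have hpair : ∀ b r, β (h₀ b) r = μ (r • b) := fun b r => LinearMap.congr_fun (hh₀ b) r
  have hsmul : ∀ (t : R) (b : B), h₀ (t • b) = t • h₀ b := by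
    intro t b
    rw [← sub_eq_zero]
    apply eq_zero_of_pair_left 𝒜 𝒟 β hD
    intro r
    rw [map_sub, LinearMap.sub_apply, hpair, hD.map_smul, hpair, smul_eq_mul, mul_smul,
      smul_comm, sub_self]
  have hgr : ∀ n b, b ∈ 𝒢B n → h₀ b ∈ 𝒟 (n + s) := by
    intro n b hb
    obtain ⟨y, hy, hyΘ⟩ := key n b hb
    have : h₀ b = y := hΘ ((hh₀ b).trans hyΘ.symm)
    rw [this]; exact hy
  exact ⟨{ toFun := h₀, map_add' := h₀.map_add, map_smul' := hsmul }, hgr, hpair⟩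

end

theorem main (k : Type u) [Field k] (R : Type u) [CommRing R] [Algebra k R] (𝒜 : ℤ → Submodule k R) [GradedAlgebra 𝒜] (hposR : ∀ n : ℤ, n < 0 → 𝒜 n = ⊥) (h0R : 𝒜 0 = Submodule.span k {(1 : R)}) [Algebra.FiniteType k R] (D : Type u) [AddCommGroup D] [Module R D] [Module k D] [IsScalarTower k R D] (𝒟 : ℤ → AddSubgroup D) [DirectSum.Decomposition 𝒟] [SetLike.GradedSMul 𝒜 𝒟] (β : D →ₗ[k] R →ₗ[k] k) (hD : GrSeg.IsGDual R 𝒜 𝒟 β) (M : Type u) [AddCommGroup M] [Module R M] [Module k M] [IsScalarTower k R M] (ℳ : ℤ → AddSubgroup M) [DirectSum.Decomposition ℳ] [SetLike.GradedSMul 𝒜 ℳ] : IsArtinian R M ↔ ∃ (t : ℕ) (sh : Fin t → ℤ) (f : M →ₗ[R] (Fin t → D)), Function.Injective f ∧ ∀ (i : Fin t) (g : ℤ) (x : M), x ∈ ℳ g → f x i ∈ 𝒟 (g + sh i) := by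
  classical
  constructor
  · intro hart
    let 𝒦 : Set (Submodule R M) := {K | ∃ (t : ℕ) (sh : Fin t → ℤ) (f : M →ₗ[R] (Fin t → D)),
      (∀ (i : Fin t) (g : ℤ) (x : M), x ∈ ℳ g → f x i ∈ 𝒟 (g + sh i)) ∧ K = LinearMap.ker f}
    have hne : 𝒦.Nonempty :=
      ⟨⊤, 0, Fin.elim0, 0, fun i => i.elim0, by rw [LinearMap.ker_zero]⟩
    obtain ⟨K0, ⟨t, sh, f, hfgr, rfl⟩, hmin⟩ := IsArtinian.set_has_minimal 𝒦 hne
    refine ⟨t, sh, f, ?_, hfgr⟩
    rw [← LinearMap.ker_eq_bot]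
    by_contra hK
    obtain ⟨x, hxK, hx0⟩ := (Submodule.ne_bot_iff _).mp hK
    obtain ⟨n, hn⟩ : ∃ n, proj ℳ n x ≠ 0 := by
      by_contra h; push Not at h; exact hx0 (eq_zero_of_proj_eq_zero ℳ h)
    obtain ⟨lam, hlam⟩ : ∃ lam : M →ₗ[k] k, lam (proj ℳ n x) = 1 := by
      obtain ⟨g0, hg0⟩ := LinearMap.exists_leftInverse_of_injective
        (LinearMap.toSpanSingleton k M (proj ℳ n x)) (LinearMap.ker_toSpanSingleton k hn)
      exact ⟨g0, by have := LinearMap.congr_fun hg0 1; simpa using this⟩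
    let μ : M →ₗ[k] k := lam ∘ₗ projL 𝒜 ℳ n
    have hμvan : ∀ m : ℤ, m ≠ -(-n) → ∀ b, b ∈ ℳ m → μ b = 0 := by
      intro m hm b hb
      show lam (proj ℳ n b) = 0
      rw [proj_of_mem_ne ℳ hb (by omega), map_zero]
    obtain ⟨h, hhgr, hhpair⟩ := exists_hom_of_functional 𝒜 𝒟 β hD ℳ (-n) μ hμvan
    have hhx : h x ≠ 0 := by
      intro h0
      have h1 := hhpair x 1
      rw [h0, map_zero, LinearMap.zero_apply, one_smul] at h1
      have h2 : μ x = 1 := hlam
      rw [h2] at h1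
      exact zero_ne_one h1
    let F : Fin (t + 1) → (M →ₗ[R] D) := Fin.cons h (fun i => LinearMap.proj i ∘ₗ f)
    let f' : M →ₗ[R] (Fin (t + 1) → D) := LinearMap.pi F
    have hf'0 : ∀ y, f' y 0 = h y := fun y => rfl
    have hf's : ∀ y (i : Fin t), f' y i.succ = f y i := fun y i => by
      show F i.succ y = f y i
      simp only [F, Fin.cons_succ]
      rfl
    have hK' : LinearMap.ker f' ∈ 𝒦 := by
      refine ⟨t + 1, Fin.cons (-n) sh, f', ?_, rfl⟩
      intro i g y hy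
      refine Fin.cases ?_ ?_ i
      · rw [hf'0, Fin.cons_zero]; exact hhgr g y hy
      · intro i; rw [hf's, Fin.cons_succ]; exact hfgr i g y hy
    apply hmin _ hK'
    rw [lt_iff_le_not_ge]
    constructor
    · intro y hy
      rw [LinearMap.mem_ker] at hy ⊢
      funext i
      have := congrFun hy i.succ
      rw [hf's] at this
      exact this
    · intro hle
      have h1 := hle hxK
      rw [LinearMap.mem_ker] at h1
      have h0 := congrFun h1 0
      rw [hf'0] at h0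
      exact hhx h0
  · rintro ⟨t, sh, f, hinj, -⟩
    have hDart : IsArtinian R D := isArtinian_dual_of_finite 𝒜 𝒜 𝒟 β hD hposR h0R
    exact isArtinian_of_injective f hinj

end Groth.Agent.Helper29.GrDual60
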