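import Mathlib
import Groth.Agent.Lib.Helper29.GrDualLib

/-!
# Graded duals: morphisms `M^* → F^*` are dual maps (helper29)
-/

namespace Groth.Agent.Helper29.GrDual62

universe u

open Groth.Agent.Helper29.GrK Groth.Agent.Helper29.GrFin Groth.Agent.Helper29.GrDualLib

theorem main (k : Type u) [Field k] (R : Type u) [CommRing R] [Algebra k R] (𝒜 : ℤ → Submodule k R) [GradedAlgebra 𝒜] (hposR : ∀ n : ℤ, n < 0 → 𝒜 n = ⊥) (h0R : 𝒜 0 = Submodule.span k {(1 : R)}) [Algebra.FiniteType k R] (F : Type u) [AddCommGroup F] [Module R F] [Module k F] [IsScalarTower k R F] (ℱ : ℤ → AddSubgroup F) [DirectSum.Decomposition ℱ] [SetLike.GradedSMul 𝒜 ℱ] [Module.Finite R F] (M : Type u) [AddCommGroup M] [Module R M] [Module k M] [IsScalarTower k R M] (ℳ : ℤ → AddSubgroup M) [DirectSum.Decomposition ℳ] [SetLike.GradedSMul 𝒜 ℳ] [Module.Finite R M] (DM : Type u) [AddCommGroup DM] [Module R DM] [Module k DM] [IsScalarTower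 k R DM] (𝒟M : ℤ → AddSubgroup DM) [DirectSum.Decomposition 𝒟M] [SetLike.GradedSMul 𝒜 𝒟M] (βM : DM →ₗ[k] M →ₗ[k] k) (hDM : GrSeg.IsGDual R ℳ 𝒟M βM) (DF : Type u) [AddCommGroup DF] [Module R DF] [Module k DF] [IsScalarTower k R DF] (𝒟F : ℤ → AddSubgroup DF) [DirectSum.Decomposition 𝒟F] [SetLike.GradedSMul 𝒜 𝒟F] (βF : DF →ₗ[k] F →ₗ[k] k) (hDF : GrSeg.IsGDual R ℱ 𝒟F βF) (g : DM →ₗ[R] DF) (hg : GrLC.IsGrHom 𝒟M 𝒟F g) : ∃! f : F →ₗ[R] M, GrLC.IsGrHom ℱ ℳ f ∧ GrSeg.IsGDualMap βM βF f g := by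
  classical
  let Θ : M →ₗ[k] Module.Dual k DM := βM.flip
  let Ψ : F →ₗ[k] Module.Dual k DM := (LinearMap.lcomp k k (g.restrictScalars k)) ∘ₗ βF.flip
  have hΘ : Function.Injective Θ := by
    refine (injective_iff_map_eq_zero Θ).mpr fun y hy => ?_
    exact eq_zero_of_pair_right 𝒜 ℳ 𝒟M βM hDM (fun d => LinearMap.congr_fun hy d)
  have key : ∀ (n : ℤ) (x : F), x ∈ ℱ n → ∃ y, y ∈ ℳ n ∧ Θ y = Ψ x := by
    intro n x hx
    have : Module.Finite k (pieceK 𝒜 ℳ n) := module_piece_finite 𝒜 ℳ hposR h0R n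
    obtain ⟨y, hy, hyd⟩ := exists_repr 𝒜 ℳ 𝒟M βM hDM n (Ψ x)
    refine ⟨y, hy, ?_⟩
    apply LinearMap.ext
    intro d
    show βM d y = βF (g d) x
    refine DirectSum.Decomposition.inductionOn 𝒟M ?_ ?_ ?_ d
    · simp
    · rintro j ⟨e, he⟩
      show βM e y = βF (g e) x
      by_cases hj : j = -n
      · subst hj; exact hyd e he
      · rw [hDM.vanish j e he n (fun h => hj (by omega)) y hy,
            hDF.vanish j (g e) (hg j e he) n (fun h => hj (by omega)) x hx]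
    · intro e e' h h'
      rw [map_add, LinearMap.add_apply, h, h', map_add, map_add, LinearMap.add_apply]
  have hrange : ∀ x : F, Ψ x ∈ LinearMap.range Θ := by
    intro x
    refine DirectSum.Decomposition.inductionOn ℱ ?_ ?_ ?_ x
    · rw [map_zero]; exact zero_mem _
    · rintro n ⟨x, hx⟩
      obtain ⟨y, -, hy⟩ := key n x hx
      exact ⟨y, hy⟩
    · intro x x' h h'
      rw [map_add]; exact add_mem h h'
  let eΘ := LinearEquiv.ofInjective Θ hΘ
  let f₀ : F →ₗ[k] M := eΘ.symm.toLinearMap ∘ₗ (Ψ.codRestrict (LinearMap.range Θ) hrange)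
  have hf₀ : ∀ x, Θ (f₀ x) = Ψ x := by
    intro x
    have := LinearEquiv.apply_symm_apply eΘ (Ψ.codRestrict (LinearMap.range Θ) hrange x)
    exact congrArg Subtype.val this
  have hpair : ∀ d x, βM d (f₀ x) = βF (g d) x := fun d x => LinearMap.congr_fun (hf₀ x) d
  have hsmul : ∀ (r : R) (x : F), f₀ (r • x) = r • f₀ x := by
    intro r x
    rw [← sub_eq_zero]
    apply eq_zero_of_pair_right 𝒜 ℳ 𝒟M βM hDM
    intro d
    rw [map_sub, hpair, ← hDM.map_smul, hpair, ← hDF.map_smul, g.map_smul, sub_self]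
  have hgr : ∀ n x, x ∈ ℱ n → f₀ x ∈ ℳ n := by
    intro n x hx
    obtain ⟨y, hy, hyΘ⟩ := key n x hx
    have : f₀ x = y := hΘ ((hf₀ x).trans hyΘ.symm)
    rw [this]; exact hy
  let f : F →ₗ[R] M := { toFun := f₀, map_add' := f₀.map_add, map_smul' := hsmul }
  refine ⟨f, ⟨hgr, fun d x => (hpair d x).symm⟩, ?_⟩
  rintro f' ⟨-, hf'⟩
  ext x
  rw [← sub_eq_zero]
  apply eq_zero_of_pair_right 𝒜 ℳ 𝒟M βM hDM
  intro d
  rw [map_sub, ← hf' d x]
  show βF (g d) x - βM d (f₀ x) = 0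
  rw [hpair, sub_self]

end Groth.Agent.Helper29.GrDual62
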