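import Mathlib
import Groth.Prelude.Def_GrLC

/-!
# Graded modules over a graded "Laurent ring" `K[T, T⁻¹]` are graded free (helper29)
-/

open DirectSum

namespace Groth.Agent.Helper29.GrFree

universe u

variable {R : Type u} [CommRing R] (𝒜 : ℤ → AddSubgroup R) [GradedRing 𝒜]
  {M : Type u} [AddCommGroup M] [Module R M] (ℳ : ℤ → AddSubgroup M)
  [DirectSum.Decomposition ℳ] [SetLike.GradedSMul 𝒜 ℳ]

theorem comp_smul (a : R) {m : M} {r : ℤ} (hm : m ∈ ℳ r) :
    ∀ N : ℤ, ((decompose ℳ (a • m)) N : M) = ((decompose 𝒜 a) (N - r) : R) • m := by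
  refine DirectSum.Decomposition.inductionOn 𝒜 ?_ ?_ ?_ a
  · intro N
    simp
  · intro i a N
    have ham : (a : R) • m ∈ ℳ (i + r) := by
      have := SetLike.GradedSMul.smul_mem (A := 𝒜) (B := ℳ) a.2 hm
      rwa [vadd_eq_add] at this
    by_cases h : N = i + r
    · subst h
      rw [decompose_of_mem_same ℳ ham, add_sub_cancel_right, decompose_of_mem_same 𝒜 a.2]
    · rw [decompose_of_mem_ne ℳ ham (Ne.symm h),
        decompose_of_mem_ne 𝒜 a.2 (show i ≠ N - r by omega), zero_smul]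
  · intro a a' ha ha' N
    rw [add_smul, decompose_add, decompose_add, DirectSum.add_apply, DirectSum.add_apply,
      AddSubgroup.coe_add, AddSubgroup.coe_add, add_smul, ha, ha']

theorem inv_mem {d : ℤ} (T : Rˣ) (hT : (T : R) ∈ 𝒜 d) : ((T⁻¹ : Rˣ) : R) ∈ 𝒜 (-d) := by
  classical
  set u : R := ((T⁻¹ : Rˣ) : R) with hu
  have hTu : (T : R) * u = 1 := Units.mul_inv T
  have huT : u * (T : R) = 1 := Units.inv_mul T
  have hzero : ∀ n : ℤ, n ≠ -d → ((decompose 𝒜 u) n : R) = 0 := by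
    intro n hn
    have h1 := DirectSum.coe_decompose_mul_add_of_left_mem 𝒜 (b := u) (j := n) hT
    rw [hTu, decompose_of_mem_ne 𝒜 (SetLike.GradedOne.one_mem : (1 : R) ∈ 𝒜 0)
      (show (0 : ℤ) ≠ d + n by omega)] at h1
    calc ((decompose 𝒜 u) n : R) = u * ((T : R) * (decompose 𝒜 u) n) := by
          rw [← mul_assoc, huT, one_mul]
      _ = 0 := by rw [← h1, mul_zero]
  have hdec : decompose 𝒜 u = DirectSum.of (fun i => 𝒜 i) (-d) (decompose 𝒜 u (-d)) := by
    refine DFinsupp.ext fun i => ?_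
    by_cases h : i = -d
    · subst h
      rw [DirectSum.of_eq_same]
    · rw [DirectSum.of_eq_of_ne _ _ _ h]
      exact Subtype.ext (hzero i h)
  have h2 : u = ((decompose 𝒜 u) (-d) : R) := by
    conv_lhs => rw [← (decompose 𝒜).symm_apply_apply u, hdec, decompose_symm_of]
  rw [h2]
  exact SetLike.coe_mem _

theorem zpow_mem {d : ℤ} (T : Rˣ) (hT : (T : R) ∈ 𝒜 d) (j : ℤ) :
    ((T ^ j : Rˣ) : R) ∈ 𝒜 (j * d) := by
  induction j using Int.induction_on with
  | zero =>
    rw [zpow_zero, Units.val_one, zero_mul]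
    exact SetLike.GradedOne.one_mem
  | succ i ih =>
    rw [zpow_add_one, Units.val_mul]
    have h := SetLike.GradedMul.mul_mem ih hT
    have e : ((i : ℤ) + 1) * d = (i : ℤ) * d + d := by ring
    rw [e]
    exact h
  | pred i ih =>
    rw [zpow_sub_one, Units.val_mul]
    have h := SetLike.GradedMul.mul_mem ih (inv_mem 𝒜 T hT)
    have e : (-(i : ℤ) - 1) * d = -(i : ℤ) * d + -d := by ring
    rw [e]
    exact h

theorem eq_zero_of_mul_eq {d q t : ℤ} (hd : 0 < d) (h : q * d = t) (h1 : -d < t) (h2 : t < d) :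
    t = 0 := by
  rcases lt_trichotomy q 0 with hq | hq | hq
  · have h3 : q * d ≤ -1 * d := Int.mul_le_mul_of_nonneg_right (by omega) hd.le
    linarith
  · subst hq
    rw [zero_mul] at h
    exact h.symm
  · have h3 : 1 * d ≤ q * d := Int.mul_le_mul_of_nonneg_right (by omega) hd.le
    linarith

theorem main (h0 : IsField (GrLC.deg0 𝒜))
    (d : ℤ) (hd : 0 < d) (T : Rˣ) (hT : (T : R) ∈ 𝒜 d)
    (hA : ∀ (n : ℤ) (x : R), x ∈ 𝒜 n → x ≠ 0 →
      ∃ j : ℤ, ∃ a ∈ 𝒜 0, j * d = n ∧ x = a * ((T ^ j : Rˣ) : R)) :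
    ∃ (κ : Type u) (b : Module.Basis κ R M), ∀ i : κ, SetLike.IsHomogeneousElem ℳ (b i) := by
  classical
  let _ : Field ↥(GrLC.deg0 𝒜) := h0.toField
  let K := ↥(GrLC.deg0 𝒜)
  let V : ℤ → Submodule K M := fun r => GrLC.comp 𝒜 ℳ r
  let B : ∀ r : ℤ, Module.Basis (Module.Basis.ofVectorSpaceIndex K (V r)) K (V r) :=
    fun r => Module.Basis.ofVectorSpace K (V r)
  let κ := Σ r : Set.Ico (0 : ℤ) d, Module.Basis.ofVectorSpaceIndex K (V (r : ℤ))
  let b₀ : κ → M := fun x => ((B (x.1 : ℤ) x.2 : V (x.1 : ℤ)) : M)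
  have hb₀ : ∀ x : κ, b₀ x ∈ ℳ (x.1 : ℤ) := fun x => (B (x.1 : ℤ) x.2).2
  have hli : LinearIndependent R b₀ := by
    rw [linearIndependent_iff']
    intro s g hsum x₀ hx₀
    have hcomp : ∀ n : ℤ, ((decompose 𝒜 (g x₀)) n : R) = 0 := by
      intro n
      by_contra hne
      let N : ℤ := n + (x₀.1 : ℤ)
      let πN : M →+ M := (AddSubgroup.subtype (ℳ N)).comp
        ((DFinsupp.evalAddMonoidHom N).comp (decomposeAddEquiv ℳ).toAddMonoidHom)
      have hπ : ∀ m, πN m = ((decompose ℳ m) N : M) := fun m => rfl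
      let c : κ → R := fun x => ((decompose 𝒜 (g x)) (N - (x.1 : ℤ)) : R)
      have hcmem : ∀ x : κ, c x ∈ 𝒜 (N - (x.1 : ℤ)) := fun x => SetLike.coe_mem _
      have hrel : ∑ x ∈ s, c x • b₀ x = 0 := by
        have h1 := congrArg πN hsum
        rw [map_sum, map_zero] at h1
        rw [← h1]
        refine Finset.sum_congr rfl fun x _ => ?_
        rw [hπ, comp_smul 𝒜 ℳ (g x) (hb₀ x) N]
      have hNn : N - (x₀.1 : ℤ) = n := by
        show n + (x₀.1 : ℤ) - (x₀.1 : ℤ) = n
        ring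
      have hc₀ : c x₀ ≠ 0 := by
        show ((decompose 𝒜 (g x₀)) (N - (x₀.1 : ℤ)) : R) ≠ 0
        rw [hNn]
        exact hne
      obtain ⟨j₀, -, -, hj₀, -⟩ := hA (N - (x₀.1 : ℤ)) (c x₀) (hcmem x₀) hc₀
      rw [hNn] at hj₀
      have hzero : ∀ x : κ, (x.1 : ℤ) ≠ (x₀.1 : ℤ) → c x = 0 := by
        intro x hx
        by_contra hcx
        obtain ⟨j, -, -, hj, -⟩ := hA (N - (x.1 : ℤ)) (c x) (hcmem x) hcx
        have h1 : (j - j₀) * d = (x₀.1 : ℤ) - (x.1 : ℤ) := by
          rw [sub_mul, hj, hj₀]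
          show n + (x₀.1 : ℤ) - (x.1 : ℤ) - n = _
          ring
        have hx1 := x.1.2
        have hx2 := x₀.1.2
        rw [Set.mem_Ico] at hx1 hx2
        have := eq_zero_of_mul_eq hd h1 (by omega) (by omega)
        omega
      set t : R := ((T ^ (-j₀) : Rˣ) : R) with ht
      have htmem : t ∈ 𝒜 (-j₀ * d) := zpow_mem 𝒜 T hT (-j₀)
      have hrel2 : ∑ x ∈ s, (t * c x) • b₀ x = 0 := by
        have : ∑ x ∈ s, (t * c x) • b₀ x = t • ∑ x ∈ s, c x • b₀ x := by
          rw [Finset.smul_sum]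
          exact Finset.sum_congr rfl fun x _ => mul_smul _ _ _
        rw [this, hrel, smul_zero]
      have hamem : ∀ i : Module.Basis.ofVectorSpaceIndex K (V (x₀.1 : ℤ)),
          t * c ⟨x₀.1, i⟩ ∈ 𝒜 0 := by
        intro i
        have h1 := SetLike.GradedMul.mul_mem htmem (hcmem ⟨x₀.1, i⟩)
        have e : -j₀ * d + (N - (x₀.1 : ℤ)) = 0 := by
          rw [hNn, ← hj₀]
          ring
        rw [e] at h1
        exact h1
      let a : Module.Basis.ofVectorSpaceIndex K (V (x₀.1 : ℤ)) → K := fun i => ⟨t * c ⟨x₀.1, i⟩, hamem i⟩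
      let ι₀ : Module.Basis.ofVectorSpaceIndex K (V (x₀.1 : ℤ)) → κ := fun i => ⟨x₀.1, i⟩
      have hι₀ : Function.Injective ι₀ := by
        intro a₁ a₂ h
        have h' : (⟨x₀.1, a₁⟩ : κ) = ⟨x₀.1, a₂⟩ := h
        cases h'
        rfl
      have hinj : Set.InjOn ι₀ (ι₀ ⁻¹' (s : Set κ)) := hι₀.injOn
      have hsum' : ∑ i ∈ s.preimage ι₀ hinj, a i • B (x₀.1 : ℤ) i = 0 := by
        apply Subtype.ext
        rw [Submodule.coe_sum, Submodule.coe_zero]
        have h1 := Finset.sum_preimage ι₀ s hinj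
          (fun x => (t * c x) • b₀ x) (by
            intro x _ hx
            have hx' : (x.1 : ℤ) ≠ (x₀.1 : ℤ) := by
              intro h
              apply hx
              obtain ⟨r, i⟩ := x
              have hr : r = x₀.1 := Subtype.ext h
              subst hr
              exact ⟨i, rfl⟩
            show (t * c x) • b₀ x = 0
            rw [hzero x hx', mul_zero, zero_smul])
        rw [hrel2] at h1
        exact h1
      have hx₀' : x₀.2 ∈ s.preimage ι₀ hinj := by
        rw [Finset.mem_preimage]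
        exact hx₀
      have ha0 := linearIndependent_iff'.1 (B (x₀.1 : ℤ)).linearIndependent _ a hsum' x₀.2 hx₀'
      have h3 : t * c x₀ = 0 := congrArg Subtype.val ha0
      apply hc₀
      calc c x₀ = ((T ^ j₀ : Rˣ) : R) * (t * c x₀) := by
            rw [← mul_assoc, ht, ← Units.val_mul, ← zpow_add, add_neg_cancel, zpow_zero,
              Units.val_one, one_mul]
        _ = 0 := by rw [h3, mul_zero]
    have h4 : decompose 𝒜 (g x₀) = 0 := DFinsupp.ext fun n => Subtype.ext (hcomp n)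
    exact (decompose 𝒜).injective (h4.trans (decompose_zero 𝒜).symm)
  have hsp : ⊤ ≤ Submodule.span R (Set.range b₀) := by
    intro m _
    refine DirectSum.Decomposition.inductionOn ℳ ?_ ?_ ?_ m
    · exact zero_mem _
    · intro n m
      have hr : n % d ∈ Set.Ico (0 : ℤ) d := ⟨Int.emod_nonneg n hd.ne', Int.emod_lt_of_pos n hd⟩
      have hdiv := Int.emod_add_mul_ediv n d
      let m' : M := ((T ^ (-(n / d)) : Rˣ) : R) • (m : M)
      have hm' : m' ∈ ℳ (n % d) := by
        have h1 := SetLike.GradedSMul.smul_mem (A := 𝒜) (B := ℳ) (zpow_mem 𝒜 T hT (-(n / d))) m.2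
        rw [vadd_eq_add] at h1
        have e : -(n / d) * d + n = n % d := by
          rw [neg_mul]
          linarith [mul_comm d (n / d)]
        rw [e] at h1
        exact h1
      have hmm : (m : M) = ((T ^ (n / d) : Rˣ) : R) • m' := by
        show (m : M) = ((T ^ (n / d) : Rˣ) : R) • (((T ^ (-(n / d)) : Rˣ) : R) • (m : M))
        rw [smul_smul, ← Units.val_mul, ← zpow_add, add_neg_cancel, zpow_zero, Units.val_one,
          one_smul]
      rw [hmm]
      apply Submodule.smul_mem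
      let v : V (n % d) := ⟨m', hm'⟩
      have hv := (B (n % d)).linearCombination_repr v
      have h5 : m' = ∑ i ∈ ((B (n % d)).repr v).support,
          (((B (n % d)).repr v i : K) : R) • b₀ ⟨⟨n % d, hr⟩, i⟩ := by
        have h7 := congrArg Subtype.val hv
        rw [Finsupp.linearCombination_apply, Finsupp.sum, Submodule.coe_sum] at h7
        exact h7.symm.trans (Finset.sum_congr rfl fun i _ => rfl)
      rw [h5]
      exact Submodule.sum_mem _ fun i _ =>
        Submodule.smul_mem _ _ (Submodule.subset_span ⟨_, rfl⟩)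
    · intro m m' h h'
      exact Submodule.add_mem _ h h'
  refine ⟨κ, Module.Basis.mk hli hsp, fun x => ⟨(x.1 : ℤ), ?_⟩⟩
  rw [Module.Basis.mk_apply]
  exact hb₀ x

end Groth.Agent.Helper29.GrFree
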