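import Mathlib

/-!
# Graded Nakayama: finitely generated graded projective modules over a connected graded
`k`-algebra are graded free
-/

namespace Groth.Agent.Helper29.GrNakLib

universe u

open DirectSum

section Proj

variable {M : Type*} [AddCommGroup M] {τ : Type*} [SetLike τ M] [AddSubmonoidClass τ M]
  (ℳ : ℤ → τ) [DirectSum.Decomposition ℳ]

/-- The degree-`m` component of `x`. -/
def proj (m : ℤ) (x : M) : M := ((DirectSum.decompose ℳ x) m : M)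

theorem proj_mem (m : ℤ) (x : M) : proj ℳ m x ∈ ℳ m := SetLike.coe_mem _

theorem proj_add (m : ℤ) (x y : M) : proj ℳ m (x + y) = proj ℳ m x + proj ℳ m y := by
  unfold proj
  rw [DirectSum.decompose_add, DirectSum.add_apply]
  rfl

theorem proj_zero (m : ℤ) : proj ℳ m (0 : M) = 0 := by
  unfold proj
  rw [DirectSum.decompose_zero, DirectSum.zero_apply]
  rfl

/-- `proj` as an additive hom. -/
def projHom (m : ℤ) : M →+ M where
  toFun := proj ℳ m
  map_zero' := proj_zero ℳ m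
  map_add' := proj_add ℳ m

theorem proj_sum {ι : Type*} (s : Finset ι) (f : ι → M) (m : ℤ) :
    proj ℳ m (∑ i ∈ s, f i) = ∑ i ∈ s, proj ℳ m (f i) :=
  map_sum (projHom ℳ m) f s

theorem proj_sub (m : ℤ) (x y : M) : proj ℳ m (x - y) = proj ℳ m x - proj ℳ m y :=
  map_sub (projHom ℳ m) x y

theorem proj_of_mem_same {m : ℤ} {x : M} (hx : x ∈ ℳ m) : proj ℳ m x = x :=
  DirectSum.decompose_of_mem_same ℳ hx

theorem proj_of_mem_ne {i m : ℤ} {x : M} (hx : x ∈ ℳ i) (h : i ≠ m) : proj ℳ m x = 0 :=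
  DirectSum.decompose_of_mem_ne ℳ hx h

theorem sum_proj (x : M) : ∃ s : Finset ℤ, x = ∑ i ∈ s, proj ℳ i x := by
  classical
  exact ⟨_, (DirectSum.sum_support_decompose ℳ x).symm⟩

theorem eq_zero_of_proj_eq_zero {x : M} (h : ∀ i, proj ℳ i x = 0) : x = 0 := by
  obtain ⟨s, hs⟩ := sum_proj ℳ x
  rw [hs]
  exact Finset.sum_eq_zero fun i _ => h i

/-- `x` has no components in degrees `< n`. -/
def InJM (n : ℤ) (x : M) : Prop := ∀ e : ℤ, e < n → proj ℳ e x = 0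

theorem inJM_zero (n : ℤ) : InJM ℳ n (0 : M) := fun e _ => proj_zero ℳ e

theorem inJM_add {n : ℤ} {x y : M} (hx : InJM ℳ n x) (hy : InJM ℳ n y) : InJM ℳ n (x + y) :=
  fun e he => by rw [proj_add, hx e he, hy e he, add_zero]

theorem inJM_sum {ι : Type*} (s : Finset ι) (f : ι → M) {n : ℤ} (h : ∀ i ∈ s, InJM ℳ n (f i)) :
    InJM ℳ n (∑ i ∈ s, f i) := fun e he => by
  rw [proj_sum]
  exact Finset.sum_eq_zero fun i hi => h i hi e he

end Proj

section Smul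

variable {R : Type*} [CommRing R] {σ : Type*} [SetLike σ R] [AddSubmonoidClass σ R]
  (𝒜 : ℤ → σ) [GradedRing 𝒜]
  {M : Type*} [AddCommGroup M] [Module R M] {τ : Type*} [SetLike τ M] [AddSubmonoidClass τ M]
  (ℳ : ℤ → τ) [DirectSum.Decomposition ℳ] [SetLike.GradedSMul 𝒜 ℳ]

omit [AddSubmonoidClass σ R] [GradedRing 𝒜] [AddSubmonoidClass τ M] [Decomposition ℳ] in
theorem smul_mem {c m : ℤ} {r : R} (hr : r ∈ 𝒜 c) {x : M} (hx : x ∈ ℳ m) :
    r • x ∈ ℳ (c + m) := by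
  have h2 := SetLike.GradedSMul.smul_mem (A := 𝒜) (B := ℳ) hr hx
  rwa [vadd_eq_add] at h2

omit [AddSubmonoidClass σ R] [GradedRing 𝒜] in
theorem proj_smul {c : ℤ} {r : R} (hr : r ∈ 𝒜 c) (m : ℤ) (x : M) :
    proj ℳ (c + m) (r • x) = r • proj ℳ m x := by
  refine DirectSum.Decomposition.inductionOn ℳ ?_ ?_ ?_ x
  · rw [smul_zero, proj_zero, proj_zero, smul_zero]
  · intro i y
    by_cases h : i = m
    · subst h
      rw [proj_of_mem_same ℳ (smul_mem 𝒜 ℳ hr y.2), proj_of_mem_same ℳ y.2]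
    · have h' : c + i ≠ c + m := fun h'' => h (by omega)
      rw [proj_of_mem_ne ℳ (smul_mem 𝒜 ℳ hr y.2) h', proj_of_mem_ne ℳ y.2 h, smul_zero]
  · intro y y' hy hy'
    rw [smul_add, proj_add, proj_add, hy, hy', smul_add]

omit [AddSubmonoidClass σ R] [GradedRing 𝒜] in
theorem proj_smul' {c : ℤ} {r : R} (hr : r ∈ 𝒜 c) (e : ℤ) (x : M) :
    proj ℳ e (r • x) = r • proj ℳ (e - c) x := by
  have := proj_smul 𝒜 ℳ hr (e - c) x
  rwa [add_sub_cancel] at this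

theorem proj_smul_general (r : R) (x : M) (e : ℤ) :
    ∃ S : Finset ℤ, proj ℳ e (r • x) = ∑ c ∈ S, proj 𝒜 c r • proj ℳ (e - c) x := by
  obtain ⟨S, hS⟩ := sum_proj 𝒜 r
  refine ⟨S, ?_⟩
  have h1 : r • x = ∑ c ∈ S, proj 𝒜 c r • x := by
    conv_lhs => rw [hS, Finset.sum_smul]
  rw [h1, proj_sum]
  exact Finset.sum_congr rfl fun c _ => proj_smul' 𝒜 ℳ (proj_mem 𝒜 c r) e x

theorem inJM_smul {a b : ℤ} {r : R} {x : M} (hr : InJM 𝒜 a r) (hx : InJM ℳ b x) :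
    InJM ℳ (a + b) (r • x) := by
  intro e he
  obtain ⟨S, hS⟩ := proj_smul_general 𝒜 ℳ r x e
  rw [hS]
  apply Finset.sum_eq_zero
  intro c _
  by_cases hc : c < a
  · rw [hr c hc, zero_smul]
  · rw [hx (e - c) (by omega), smul_zero]

theorem inJM_of_neg (hneg : ∀ i : ℤ, i < 0 → ∀ x ∈ 𝒜 i, x = 0) (r : R) : InJM 𝒜 0 r :=
  fun c hc => hneg c hc _ (proj_mem 𝒜 c r)

/-- The ideal of elements with no components in degrees `< n`. -/
def Jid (hneg : ∀ i : ℤ, i < 0 → ∀ x ∈ 𝒜 i, x = 0) (n : ℤ) : Ideal R where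
  carrier := {r | InJM 𝒜 n r}
  zero_mem' := inJM_zero 𝒜 n
  add_mem' := fun hx hy => inJM_add 𝒜 hx hy
  smul_mem' := fun a r hr => by
    have := inJM_smul 𝒜 𝒜 (inJM_of_neg 𝒜 hneg a) hr
    rwa [zero_add] at this

theorem mem_Jid (hneg : ∀ i : ℤ, i < 0 → ∀ x ∈ 𝒜 i, x = 0) (n : ℤ) (r : R) :
    r ∈ Jid 𝒜 hneg n ↔ InJM 𝒜 n r := Iff.rfl

theorem Jid_mul_le (hneg : ∀ i : ℤ, i < 0 → ∀ x ∈ 𝒜 i, x = 0) (a b : ℤ) :
    Jid 𝒜 hneg a * Jid 𝒜 hneg b ≤ Jid 𝒜 hneg (a + b) := by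
  rw [Ideal.mul_le]
  intro r hr s hs
  exact inJM_smul 𝒜 𝒜 hr hs

theorem exists_lower_bound (hneg : ∀ i : ℤ, i < 0 → ∀ x ∈ 𝒜 i, x = 0) [Module.Finite R M] :
    ∃ n0 : ℤ, ∀ x : M, InJM ℳ n0 x := by
  classical
  obtain ⟨s, hs⟩ := (Module.finite_def.mp ‹Module.Finite R M› : (⊤ : Submodule R M).FG)
  let S : Finset ℤ := s.biUnion (fun g => (DirectSum.decompose ℳ g).support)
  obtain ⟨n0, hn0⟩ : ∃ n0 : ℤ, ∀ i ∈ S, n0 ≤ i := by
    by_cases hne : S.Nonempty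
    · exact ⟨S.min' hne, fun i hi => Finset.min'_le S i hi⟩
    · rw [Finset.not_nonempty_iff_eq_empty] at hne
      exact ⟨0, fun i hi => by rw [hne] at hi; simp at hi⟩
  have hg : ∀ g ∈ s, InJM ℳ n0 g := by
    intro g hg e he
    by_contra hne
    have hmem : e ∈ S := by
      refine Finset.mem_biUnion.mpr ⟨g, hg, ?_⟩
      rw [DFinsupp.mem_support_iff]
      intro h0
      apply hne
      show ((DirectSum.decompose ℳ g) e : M) = 0
      rw [h0]
      rfl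
    exact absurd (hn0 e hmem) (not_le.mpr he)
  refine ⟨n0, fun x => ?_⟩
  have hx : x ∈ Submodule.span R (s : Set M) := by rw [hs]; trivial
  induction hx using Submodule.span_induction with
  | mem y hy => exact hg y hy
  | zero => exact inJM_zero ℳ n0
  | add y z _ _ hy hz => exact inJM_add ℳ hy hz
  | smul r y _ hy =>
    have := inJM_smul 𝒜 ℳ (inJM_of_neg 𝒜 hneg r) hy
    rwa [zero_add] at this

end Smul

end Groth.Agent.Helper29.GrNakLib
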