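import Mathlib
import Groth.Agent.Lib.Helper29.GrNakLib

/-!
# Finitely generated graded projective modules over a connected graded algebra are graded free
-/

namespace Groth.Agent.Helper29.GrNakMain

universe u

open DirectSum Groth.Agent.Helper29.GrNakLib

theorem main {k : Type u} [Field k] {R : Type u} [CommRing R] [Algebra k R]
    {σ : Type u} [SetLike σ R] [AddSubmonoidClass σ R] (𝒜 : ℤ → σ) [GradedRing 𝒜]
    (hneg : ∀ i : ℤ, i < 0 → ∀ x ∈ 𝒜 i, x = 0)
    (h0 : ∀ x ∈ 𝒜 0, ∃ c : k, algebraMap k R c = x)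
    {M : Type u} [AddCommGroup M] [Module R M] [Module.Finite R M]
    {τ : Type u} [SetLike τ M] [AddSubmonoidClass τ M] (ℳ : ℤ → τ) [DirectSum.Decomposition ℳ]
    [SetLike.GradedSMul 𝒜 ℳ] (hproj : Module.Projective R M) :
    ∃ (ι : Type u) (b : Module.Basis ι R M), ∀ i : ι, SetLike.IsHomogeneousElem ℳ (b i) := by
  classical
  obtain ⟨I, hI⟩ : ∃ I : Ideal R, I = Jid 𝒜 hneg 1 := ⟨_, rfl⟩
  have hImem : ∀ r : R, r ∈ I ↔ InJM 𝒜 1 r := fun r => by rw [hI]; exact Iff.rfl
  let V := M ⧸ (I • (⊤ : Submodule R M))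
  let mkV : M →ₗ[R] V := Submodule.mkQ _
  let _ : Module k V := Module.compHom V (algebraMap k R)
  have hsmulV : ∀ (c : k) (v : V), c • v = algebraMap k R c • v := fun _ _ => rfl
  have hIV : ∀ a ∈ I, ∀ v : V, a • v = 0 := by
    intro a ha v
    obtain ⟨w, rfl⟩ := Submodule.mkQ_surjective _ v
    rw [← map_smul, Submodule.mkQ_apply, Submodule.Quotient.mk_eq_zero]
    exact Submodule.smul_mem_smul ha Submodule.mem_top
  -- the residue map `R → k`
  let κ : R → k := fun r =>
    if h : proj 𝒜 0 r = 0 then 0 else Classical.choose (h0 _ (proj_mem 𝒜 0 r))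
  have hκ : ∀ r : R, algebraMap k R (κ r) = proj 𝒜 0 r := by
    intro r
    by_cases h : proj 𝒜 0 r = 0
    · simp only [κ, h, dif_pos, map_zero]
    · simp only [κ, h, dif_neg, not_false_eq_true]
      exact Classical.choose_spec (h0 _ (proj_mem 𝒜 0 r))
  have hκ0 : κ 0 = 0 := by
    simp only [κ, proj_zero, dif_pos]
  have hsubI : ∀ r : R, r - proj 𝒜 0 r ∈ I := by
    intro r
    rw [hImem]
    intro c hc
    rcases lt_or_eq_of_le (show c ≤ 0 by omega) with h | h
    · exact hneg c h _ (proj_mem 𝒜 c _)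
    · subst h
      rw [proj_sub, proj_of_mem_same 𝒜 (proj_mem 𝒜 0 r), sub_self]
  have hκV : ∀ (r : R) (v : V), r • v = κ r • v := by
    intro r v
    rw [hsmulV, hκ, ← sub_eq_zero, ← sub_smul]
    exact hIV _ (hsubI r) v
  -- spanning set of homogeneous images
  let S : Set V := {v | ∃ x : M, SetLike.IsHomogeneousElem ℳ x ∧ mkV x = v}
  have hS : Submodule.span k S = ⊤ := by
    rw [eq_top_iff]
    rintro v -
    obtain ⟨x, rfl⟩ := Submodule.mkQ_surjective _ v
    obtain ⟨T, hT⟩ := sum_proj ℳ x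
    rw [hT, map_sum]
    exact Submodule.sum_mem _
      (fun i _ => Submodule.subset_span ⟨proj ℳ i x, ⟨i, proj_mem ℳ i x⟩, rfl⟩)
  obtain ⟨b, hbS, hbspan, hbli⟩ := exists_linearIndependent k S
  rw [hS] at hbspan
  have hm : ∀ i : b, ∃ x : M, SetLike.IsHomogeneousElem ℳ x ∧ mkV x = (i : V) := fun i => hbS i.2
  choose m hmh hmV using hm
  obtain ⟨π, hπ⟩ : ∃ π : (b →₀ R) →ₗ[R] M, π = Finsupp.linearCombination R m := ⟨_, rfl⟩
  obtain ⟨N, hNdef⟩ : ∃ N : Submodule R M, N = LinearMap.range π := ⟨_, rfl⟩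
  have hN : N = Submodule.span R (Set.range m) := by
    rw [hNdef, hπ]; exact Finsupp.range_linearCombination R
  have hmN : ∀ i, m i ∈ N := fun i => by rw [hN]; exact Submodule.subset_span ⟨i, rfl⟩
  -- Step 2a
  have hP : ∀ v : V, v ∈ Submodule.span k b → ∃ y ∈ N, v = mkV y := by
    intro v hv
    induction hv using Submodule.span_induction with
    | mem v hv => exact ⟨m ⟨v, hv⟩, hmN _, (hmV ⟨v, hv⟩).symm⟩
    | zero => exact ⟨0, zero_mem _, (map_zero _).symm⟩
    | add v w _ _ hv hw =>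
      obtain ⟨y, hy, hvy⟩ := hv
      obtain ⟨z, hz, hwz⟩ := hw
      exact ⟨y + z, add_mem hy hz, by rw [hvy, hwz, map_add]⟩
    | smul c v _ hv =>
      obtain ⟨y, hy, hvy⟩ := hv
      exact ⟨algebraMap k R c • y, Submodule.smul_mem _ _ hy, by rw [hvy, hsmulV, map_smul]⟩
  have h2a : (⊤ : Submodule R M) ≤ N ⊔ I • ⊤ := by
    rintro x -
    obtain ⟨y, hy, hxy⟩ := hP (mkV x) (by rw [hbspan]; trivial)
    have hd : x - y ∈ I • (⊤ : Submodule R M) := by
      rw [← Submodule.Quotient.mk_eq_zero, Submodule.Quotient.mk_sub, sub_eq_zero]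
      exact hxy
    have : x = y + (x - y) := by abel
    rw [this]
    exact Submodule.add_mem_sup hy hd
  -- Step 2b
  have hIN : I • N ≤ N := Submodule.smul_le_right
  have h2b : ∀ n : ℕ, (⊤ : Submodule R M) ≤ N ⊔ (Jid 𝒜 hneg ((n : ℤ) + 1)) • ⊤ := by
    intro n
    induction n with
    | zero =>
      have : ((0 : ℕ) : ℤ) + 1 = 1 := by norm_num
      rw [this, ← hI]
      exact h2a
    | succ n ih =>
      have h1 : I • (⊤ : Submodule R M) ≤ I • (N ⊔ (Jid 𝒜 hneg ((n : ℤ) + 1)) • ⊤) :=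
        Submodule.smul_mono le_rfl ih
      have h2 : I • (N ⊔ (Jid 𝒜 hneg ((n : ℤ) + 1)) • (⊤ : Submodule R M)) ≤
          N ⊔ (Jid 𝒜 hneg (((n + 1 : ℕ) : ℤ) + 1)) • ⊤ := by
        rw [Submodule.smul_sup]
        apply sup_le_sup hIN
        rw [← Submodule.mul_smul]
        apply Submodule.smul_mono_left
        rw [hI]
        have := Jid_mul_le 𝒜 hneg 1 ((n : ℤ) + 1)
        have he : (1 : ℤ) + ((n : ℤ) + 1) = ((n + 1 : ℕ) : ℤ) + 1 := by push_cast; ring
        rwa [he] at this
      calc (⊤ : Submodule R M) ≤ N ⊔ I • ⊤ := h2a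
        _ ≤ N ⊔ (N ⊔ (Jid 𝒜 hneg (((n + 1 : ℕ) : ℤ) + 1)) • ⊤) :=
          sup_le_sup le_rfl (h1.trans h2)
        _ = N ⊔ (Jid 𝒜 hneg (((n + 1 : ℕ) : ℤ) + 1)) • ⊤ := by rw [← sup_assoc, sup_idem]
  -- Step 2c
  obtain ⟨n0, hn0⟩ : ∃ n0 : ℤ, ∀ x : M, InJM ℳ n0 x := exists_lower_bound 𝒜 ℳ hneg
  have h2c : ∀ (n : ℤ) (z : M), z ∈ (Jid 𝒜 hneg n) • (⊤ : Submodule R M) →
      InJM ℳ (n + n0) z := by
    intro n z hz
    refine Submodule.smul_induction_on hz ?_ ?_
    · intro r hr w _
      exact inJM_smul 𝒜 ℳ hr (hn0 w)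
    · intro x y hx hy
      exact inJM_add ℳ hx hy
  -- Step 2d
  have h2d : ∀ y ∈ Submodule.span R (Set.range m), ∀ e, proj ℳ e y ∈ N := by
    intro y hy
    induction hy using Submodule.span_induction with
    | mem y hy =>
      obtain ⟨i, rfl⟩ := hy
      intro e
      obtain ⟨d, hd⟩ := hmh i
      by_cases hde : d = e
      · subst hde; rw [proj_of_mem_same ℳ hd]; exact hmN i
      · rw [proj_of_mem_ne ℳ hd hde]; exact zero_mem _
    | zero => intro e; rw [proj_zero]; exact zero_mem _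
    | add y z _ _ hy hz => intro e; rw [proj_add]; exact add_mem (hy e) (hz e)
    | smul r y _ hy =>
      intro e
      obtain ⟨T, hT⟩ := proj_smul_general 𝒜 ℳ r y e
      rw [hT]
      exact Submodule.sum_mem _ (fun c _ => Submodule.smul_mem _ _ (hy (e - c)))
  -- Step 2e
  have h2e : N = ⊤ := by
    rw [eq_top_iff]
    rintro x -
    obtain ⟨T, hT⟩ := sum_proj ℳ x
    rw [hT]
    refine Submodule.sum_mem _ (fun e _ => ?_)
    obtain ⟨n, hn⟩ : ∃ n : ℕ, e < ((n : ℤ) + 1) + n0 := ⟨(e - n0).toNat, by omega⟩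
    have hx := h2b n (Submodule.mem_top : x ∈ ⊤)
    obtain ⟨y, hy, z, hz, hxyz⟩ := Submodule.mem_sup.mp hx
    rw [← hxyz, proj_add, h2c _ z hz e hn, add_zero]
    exact h2d y (hN ▸ hy) e
  -- Step 3
  have hπsurj : Function.Surjective π := by
    rw [← LinearMap.range_eq_top, ← hNdef, h2e]
  obtain ⟨s, hs⟩ := Module.projective_lifting_property π LinearMap.id hπsurj
  have h3a : ∀ x : b →₀ R, π x = 0 → ∀ i, x i ∈ I := by
    intro x hx i
    let c' : b →₀ k := x.mapRange κ hκ0
    have hsum : Finsupp.linearCombination k (Subtype.val : b → V) c' = 0 := by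
      rw [Finsupp.linearCombination_apply,
        Finsupp.sum_mapRange_index (by intro a; exact zero_smul _ _)]
      have h1 : mkV (π x) = x.sum (fun i r => κ r • (i : V)) := by
        rw [hπ, Finsupp.linearCombination_apply, map_finsuppSum]
        apply Finsupp.sum_congr
        intro i _
        rw [map_smul, hmV, hκV]
      rw [← h1, hx, map_zero]
    have hc0 : c' = 0 := linearIndependent_iff.mp hbli c' hsum
    have hci : κ (x i) = 0 := by
      have := DFunLike.congr_fun hc0 i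
      simpa [c'] using this
    have hp0 : proj 𝒜 0 (x i) = 0 := by rw [← hκ (x i), hci, map_zero]
    rw [hImem]
    intro c hc
    rcases lt_or_eq_of_le (show c ≤ 0 by omega) with h | h
    · exact hneg c h _ (proj_mem 𝒜 c _)
    · subst h; exact hp0
  let p : (b →₀ R) →ₗ[R] (b →₀ R) := LinearMap.id - s ∘ₗ π
  have hπp : ∀ x, π (p x) = 0 := by
    intro x
    have := LinearMap.congr_fun hs (π x)
    simp only [LinearMap.comp_apply, LinearMap.id_apply] at this
    simp only [p, LinearMap.sub_apply, LinearMap.id_apply, LinearMap.comp_apply, map_sub]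
    rw [this, sub_self]
  have hpker : ∀ x, π x = 0 → p x = x := by
    intro x hx
    simp only [p, LinearMap.sub_apply, LinearMap.id_apply, LinearMap.comp_apply, hx, map_zero,
      sub_zero]
  have hpp : ∀ x, p (p x) = p x := fun x => hpker _ (hπp x)
  let P : b → b → R := fun i j => p (Finsupp.single j 1) i
  have hP1 : ∀ i j, InJM 𝒜 1 (P i j) := fun i j => (hImem _).mp (h3a _ (hπp _) i)
  have hPP : ∀ i j, P i j = ∑ l ∈ (p (Finsupp.single j 1)).support, P l j * P i l := by
    intro i j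
    have h2 : p (Finsupp.single j 1) =
        ∑ l ∈ (p (Finsupp.single j 1)).support, P l j • Finsupp.single l (1 : R) := by
      conv_lhs => rw [← Finsupp.sum_single (p (Finsupp.single j 1))]
      unfold Finsupp.sum
      apply Finset.sum_congr rfl
      intro l _
      rw [Finsupp.smul_single, smul_eq_mul, mul_one]
    have h3 : p (Finsupp.single j 1) = p (∑ l ∈ (p (Finsupp.single j 1)).support,
        P l j • Finsupp.single l (1 : R)) := by
      rw [← h2, hpp]
    show p (Finsupp.single j 1) i = _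
    conv_lhs => rw [h3]
    rw [map_sum, Finsupp.finsetSum_apply]
    apply Finset.sum_congr rfl
    intro l _
    rw [map_smul, Finsupp.smul_apply, smul_eq_mul]
  have hPn : ∀ n : ℕ, ∀ i j, InJM 𝒜 ((n : ℤ) + 1) (P i j) := by
    intro n
    induction n with
    | zero =>
      intro i j
      have : ((0 : ℕ) : ℤ) + 1 = 1 := by norm_num
      rw [this]
      exact hP1 i j
    | succ n ih =>
      intro i j
      rw [hPP i j]
      apply inJM_sum
      intro l _
      have := inJM_smul 𝒜 𝒜 (ih l j) (hP1 i l)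
      have he : ((n : ℤ) + 1) + 1 = ((n + 1 : ℕ) : ℤ) + 1 := by push_cast; ring
      rw [he, smul_eq_mul] at this
      exact this
  have hP0 : ∀ i j, P i j = 0 := fun i j =>
    eq_zero_of_proj_eq_zero 𝒜 (fun c => hPn c.toNat i j c (by omega))
  have hp0 : ∀ x, p x = 0 := by
    have : p = 0 := by
      apply Finsupp.lhom_ext'
      intro j
      apply LinearMap.ext_ring
      ext i
      simpa using hP0 i j
    intro x; rw [this]; rfl
  have hπinj : Function.Injective π := by
    rw [← LinearMap.ker_eq_bot, LinearMap.ker_eq_bot']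
    intro x hx
    rw [← hpker x hx, hp0]
  have hli : LinearIndependent R m := by
    rw [hπ] at hπinj
    exact hπinj
  have hspan : ⊤ ≤ Submodule.span R (Set.range m) := by rw [← hN, h2e]
  exact ⟨b, Module.Basis.mk hli hspan, fun i => by rw [Module.Basis.mk_apply]; exact hmh i⟩

end Groth.Agent.Helper29.GrNakMain
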