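import Groth.Agent.Lib.Helper29.H12ComodQuot
import Mathlib.Order.CompactlyGenerated.Basic
import Mathlib.LinearAlgebra.Span.Basic
import Mathlib.Algebra.Module.Submodule.Lattice

/-!
Lattice of subcomodules and a relative version of "sum of simples is a direct sum" (helper12).
-/

set_option autoImplicit false
universe u v w

open scoped TensorProduct

namespace Groth.Agent.Helper29.H12Copy

section Lattice

variable {α : Type*} [CompleteLattice α] [IsModularLattice α] [IsCompactlyGenerated α]

/-- Relative version of `exists_sSupIndep_isCompl_sSup_atoms`: the "atoms" are taken from a given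
set `A` of `P`-simple elements, `P` being a predicate closed under `⊓`, `⊔`, `sSup`. -/
theorem exists_subset_sSupIndep_isCompl (P : α → Prop)
    (hPinf : ∀ x y, P x → P y → P (x ⊓ y)) (hPsup : ∀ x y, P x → P y → P (x ⊔ y))
    (hPsSup : ∀ s : Set α, (∀ x ∈ s, P x) → P (sSup s))
    (A : Set α) (hA : ∀ a ∈ A, P a ∧ ∀ x, P x → x ≤ a → x = ⊥ ∨ x = a) (hAtop : sSup A = ⊤)
    (b : α) (hb : P b) :
    ∃ s ⊆ A, sSupIndep s ∧ IsCompl b (sSup s) := by
  have zorn := zorn_subset
    (S := {s : Set α | sSupIndep s ∧ Disjoint b (sSup s) ∧ s ⊆ A})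
    fun c hc1 hc2 =>
      ⟨⋃₀ c,
        ⟨iSupIndep_sUnion_of_directed hc2.directedOn fun s hs => (hc1 hs).1, ?_,
          fun a ⟨s, sc, as⟩ => (hc1 sc).2.2 as⟩,
        fun _ => Set.subset_sUnion_of_mem⟩
  swap
  · rw [sSup_sUnion, ← sSup_image, DirectedOn.disjoint_sSup_right]
    · rintro _ ⟨s, hs, rfl⟩
      exact (hc1 hs).2.1
    · rw [directedOn_image]
      exact hc2.directedOn.mono @fun s t => sSup_le_sSup
  simp_rw [maximal_subset_iff] at zorn
  obtain ⟨s, ⟨s_ind, b_inf_Sup_s, s_sub⟩, s_max⟩ := zorn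
  refine ⟨s, s_sub, s_ind, b_inf_Sup_s, ?_⟩
  rw [codisjoint_iff, eq_top_iff, ← hAtop, sSup_le_iff]
  intro a ha
  have hPs : P (sSup s) := hPsSup s fun x hx => (hA x (s_sub hx)).1
  have hPx : P (a ⊓ (b ⊔ sSup s)) := hPinf _ _ (hA a ha).1 (hPsup _ _ hb hPs)
  rcases (hA a ha).2 _ hPx inf_le_left with con | con
  swap
  · exact inf_eq_left.mp con
  refine (le_sSup ?_).trans le_sup_right
  rw [← disjoint_iff] at con
  have a_dis_Sup_s : Disjoint a (sSup s) := con.mono_right le_sup_right
  rw [s_max ⟨fun x hx => ?_, ?_, fun x hx => ?_⟩ Set.subset_union_left]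
  · exact Set.mem_union_right _ (Set.mem_singleton _)
  · rw [sSup_union, sSup_singleton]
    exact b_inf_Sup_s.disjoint_sup_right_of_disjoint_sup_left con.symm
  · rw [Set.mem_union, Set.mem_singleton_iff] at hx
    obtain rfl | xa := eq_or_ne x a
    · simp only [Set.mem_singleton, Set.insert_sdiff_of_mem, Set.union_singleton]
      exact con.mono_right ((sSup_le_sSup Set.sdiff_subset).trans le_sup_right)
    · have h : (s ∪ {a}) \ {x} = s \ {x} ∪ {a} := by
        simp only [Set.union_singleton]
        rw [Set.insert_sdiff_of_notMem]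
        rw [Set.mem_singleton_iff]
        exact Ne.symm xa
      rw [h, sSup_union, sSup_singleton]
      apply
        (s_ind (hx.resolve_right xa)).disjoint_sup_right_of_disjoint_sup_left
          (a_dis_Sup_s.mono_right _).symm
      rw [← sSup_insert, Set.insert_sdiff_singleton, Set.insert_eq_of_mem (hx.resolve_right xa)]
  · rw [Set.mem_union, Set.mem_singleton_iff] at hx
    obtain hx | rfl := hx
    · exact s_sub hx
    · exact ha

end Lattice

section Subcomod

variable {k : Type u} [Field k] {C : Type v} [AddCommGroup C] [Module k C] [Coalgebra k C]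
variable {V : Type w} [AddCommGroup V] [Module k V] [HopfRep.Comod k C V]

omit [Coalgebra k C] in
theorem range_rTensor_subtype_mono {W W' : Submodule k V} (h : W ≤ W') :
    LinearMap.range (W.subtype.rTensor C) ≤ LinearMap.range (W'.subtype.rTensor C) := by
  have : W.subtype = W'.subtype ∘ₗ Submodule.inclusion h := by ext x; rfl
  rw [this, LinearMap.rTensor_comp]
  exact LinearMap.range_comp_le_range _ _

theorem isSubcomod_inf {W₁ W₂ : Submodule k V} (h₁ : HopfRep.IsSubcomod (k := k) (A := C) W₁)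
    (h₂ : HopfRep.IsSubcomod (k := k) (A := C) W₂) :
    HopfRep.IsSubcomod (k := k) (A := C) (W₁ ⊓ W₂) := by
  intro w hw
  apply mem_range_rTensor_of_slice_mem (Module.Basis.ofVectorSpace k C)
  intro i
  exact ⟨slice_mem_of_mem_range W₁ _ _ (h₁ w hw.1), slice_mem_of_mem_range W₂ _ _ (h₂ w hw.2)⟩

theorem isSubcomod_sSup (s : Set (Submodule k V))
    (hs : ∀ W ∈ s, HopfRep.IsSubcomod (k := k) (A := C) W) :
    HopfRep.IsSubcomod (k := k) (A := C) (sSup s) := by
  intro w hw
  rw [sSup_eq_iSup'] at hw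
  refine Submodule.iSup_induction (p := fun W : s => (W : Submodule k V))
    (motive := fun w => HopfRep.Comod.coact (k := k) (A := C) w ∈
      LinearMap.range ((sSup s).subtype.rTensor C)) hw ?_ ?_ ?_
  · intro W x hx
    exact range_rTensor_subtype_mono (le_sSup W.2) (hs W.1 W.2 x hx)
  · rw [map_zero]; exact zero_mem _
  · intro x y hx hy
    rw [map_add]; exact add_mem hx hy

theorem isSubcomod_sup {W₁ W₂ : Submodule k V} (h₁ : HopfRep.IsSubcomod (k := k) (A := C) W₁)
    (h₂ : HopfRep.IsSubcomod (k := k) (A := C) W₂) :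
    HopfRep.IsSubcomod (k := k) (A := C) (W₁ ⊔ W₂) := by
  rw [← sSup_pair]
  apply isSubcomod_sSup
  rintro W (rfl | rfl)
  · exact h₁
  · exact h₂

end Subcomod

end Groth.Agent.Helper29.H12Copy
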