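import Groth.Agent.Lib.Helper29.H12Comod
import Mathlib.LinearAlgebra.Basis.VectorSpace
import Mathlib.LinearAlgebra.TensorProduct.RightExactness

/-!
Quotient comodules (helper12).
-/

set_option autoImplicit false
universe u v w w'

open scoped TensorProduct

namespace Groth.Agent.Helper29.H12Copy

section General

variable {k : Type u} [CommRing k] {C : Type v} [AddCommGroup C] [Module k C]
variable {V : Type w} [AddCommGroup V] [Module k V] {V' : Type w'} [AddCommGroup V'] [Module k V']

theorem slice_rTensor (f : V →ₗ[k] V') (l : C →ₗ[k] k) (x : V ⊗[k] C) :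
    slice l (f.rTensor C x) = f (slice l x) := by
  induction x using TensorProduct.induction_on with
  | zero => simp
  | tmul v c => simp
  | add a b ha hb => simp only [map_add, ha, hb]

theorem range_rTensor_bot (W : Submodule k V) (hW : W = ⊥) (x : V ⊗[k] C)
    (hx : x ∈ LinearMap.range (W.subtype.rTensor C)) : x = 0 := by
  subst hW
  obtain ⟨y, rfl⟩ := hx
  induction y using TensorProduct.induction_on with
  | zero => simp
  | tmul w c =>
    have : (w : V) = 0 := (Submodule.mem_bot k).1 w.2
    simp [this]
  | add a b ha hb => rw [map_add, ha, hb, add_zero]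

theorem mem_range_rTensor_top (x : V ⊗[k] C) :
    x ∈ LinearMap.range ((⊤ : Submodule k V).subtype.rTensor C) := by
  have hs : Function.Surjective ((⊤ : Submodule k V).subtype.rTensor C) :=
    LinearMap.rTensor_surjective C (fun v => ⟨⟨v, trivial⟩, rfl⟩)
  exact hs x

theorem assoc_rTensor_rTensor (f : V →ₗ[k] V') (y : (V ⊗[k] C) ⊗[k] C) :
    TensorProduct.assoc k V' C C ((f.rTensor C).rTensor C y) =
      f.rTensor (C ⊗[k] C) (TensorProduct.assoc k V C C y) := by
  induction y using TensorProduct.induction_on with
  | zero => simp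
  | tmul z c =>
    induction z using TensorProduct.induction_on with
    | zero => simp
    | tmul w c' => simp
    | add a b ha hb => simp only [TensorProduct.add_tmul, map_add, ha, hb]
  | add a b ha hb => simp only [map_add, ha, hb]

end General

section Field

variable {k : Type u} [Field k] {C : Type v} [AddCommGroup C] [Module k C]
variable {V : Type w} [AddCommGroup V] [Module k V] {V' : Type w'} [AddCommGroup V'] [Module k V']

theorem mem_range_rTensor_comap (f : V →ₗ[k] V') (W' : Submodule k V') (x : V ⊗[k] C)
    (hx : f.rTensor C x ∈ LinearMap.range (W'.subtype.rTensor C)) :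
    x ∈ LinearMap.range ((W'.comap f).subtype.rTensor C) := by
  apply mem_range_rTensor_of_slice_mem (Module.Basis.ofVectorSpace k C)
  intro i
  rw [Submodule.mem_comap, ← slice_rTensor]
  exact slice_mem_of_mem_range W' _ _ hx

end Field

section Quot

variable {k : Type u} [CommRing k] {C : Type v} [AddCommGroup C] [Module k C] [Coalgebra k C]
variable {V : Type w} [AddCommGroup V] [Module k V] [HopfRep.Comod k C V]

theorem le_ker_of_isSubcomod (W : Submodule k V)
    (hW : HopfRep.IsSubcomod (k := k) (A := C) W) :
    W ≤ LinearMap.ker ((W.mkQ.rTensor C) ∘ₗ HopfRep.Comod.coact (k := k) (A := C)) := by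
  intro w hw
  obtain ⟨y, hy⟩ := hW w hw
  rw [LinearMap.mem_ker, LinearMap.comp_apply, ← hy, ← LinearMap.comp_apply,
    ← LinearMap.rTensor_comp]
  have : W.mkQ ∘ₗ W.subtype = 0 := by ext z; simp
  rw [this, LinearMap.rTensor_zero, LinearMap.zero_apply]

/-- coaction on the quotient by a subcomodule -/
noncomputable def quotCoact (W : Submodule k V) (hW : HopfRep.IsSubcomod (k := k) (A := C) W) :
    (V ⧸ W) →ₗ[k] (V ⧸ W) ⊗[k] C :=
  W.liftQ _ (le_ker_of_isSubcomod W hW)

theorem quotCoact_mkQ (W : Submodule k V) (hW : HopfRep.IsSubcomod (k := k) (A := C) W) (v : V) :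
    quotCoact W hW (W.mkQ v) = W.mkQ.rTensor C (HopfRep.Comod.coact (k := k) (A := C) v) := by
  simp [quotCoact]

/-- the quotient comodule -/
@[reducible] noncomputable def quotComod (W : Submodule k V)
    (hW : HopfRep.IsSubcomod (k := k) (A := C) W) : HopfRep.Comod k C (V ⧸ W) where
  coact := quotCoact W hW
  coassoc := by
    apply LinearMap.ext
    intro q
    obtain ⟨v, rfl⟩ := W.mkQ_surjective q
    simp only [LinearMap.comp_apply, LinearEquiv.coe_coe]
    rw [quotCoact_mkQ]
    have h1 : ∀ x : V ⊗[k] C, (quotCoact W hW).rTensor C (W.mkQ.rTensor C x) =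
        (W.mkQ.rTensor C).rTensor C
          ((HopfRep.Comod.coact (k := k) (A := C) : V →ₗ[k] V ⊗[k] C).rTensor C x) := by
      intro x
      induction x using TensorProduct.induction_on with
      | zero => simp
      | tmul w c => simp only [LinearMap.rTensor_tmul, quotCoact_mkQ]
      | add a b ha hb => simp only [map_add, ha, hb]
    rw [h1, assoc_rTensor_rTensor]
    have hco := LinearMap.congr_fun (HopfRep.Comod.coassoc (k := k) (A := C) (V := V)) v
    simp only [LinearMap.comp_apply, LinearEquiv.coe_coe] at hco
    rw [hco, ← LinearMap.comp_apply, ← LinearMap.comp_apply (LinearMap.lTensor _ _),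
      LinearMap.rTensor_comp_lTensor, LinearMap.lTensor_comp_rTensor]
  counit_comp := by
    apply LinearMap.ext
    intro q
    obtain ⟨v, rfl⟩ := W.mkQ_surjective q
    simp only [LinearMap.comp_apply]
    rw [quotCoact_mkQ, ← LinearMap.comp_apply, LinearMap.lTensor_comp_rTensor,
      ← LinearMap.rTensor_comp_lTensor, LinearMap.comp_apply]
    have hcu := LinearMap.congr_fun (HopfRep.Comod.counit_comp (k := k) (A := C) (V := V)) v
    simp only [LinearMap.comp_apply] at hcu
    rw [hcu]
    simp

theorem isSubcomod_bot : HopfRep.IsSubcomod (k := k) (A := C) (⊥ : Submodule k V) := by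
  intro w hw
  rw [Submodule.mem_bot] at hw
  rw [hw, map_zero]
  exact zero_mem _

theorem isSubcomod_top : HopfRep.IsSubcomod (k := k) (A := C) (⊤ : Submodule k V) :=
  fun _ _ => mem_range_rTensor_top _

end Quot

section QuotField

variable {k : Type u} [Field k] {C : Type v} [AddCommGroup C] [Module k C] [Coalgebra k C]
variable {V : Type w} [AddCommGroup V] [Module k V] [HopfRep.Comod k C V]

/-- the preimage in `V` of a subcomodule of a quotient comodule is a subcomodule -/
theorem comap_mkQ_isSubcomod (W : Submodule k V) (hW : HopfRep.IsSubcomod (k := k) (A := C) W)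
    (F' : Submodule k (V ⧸ W))
    (hF' : @HopfRep.IsSubcomod k C _ _ _ _ (V ⧸ W) _ _ (quotComod W hW) F') :
    HopfRep.IsSubcomod (k := k) (A := C) (F'.comap W.mkQ) := by
  intro v hv
  apply mem_range_rTensor_comap W.mkQ F'
  have := hF' (W.mkQ v) hv
  rwa [show @HopfRep.Comod.coact k C _ _ _ _ (V ⧸ W) _ _ (quotComod W hW) (W.mkQ v) =
    quotCoact W hW (W.mkQ v) from rfl, quotCoact_mkQ] at this

end QuotField

end Groth.Agent.Helper29.H12Copy
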