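import Mathlib

set_option autoImplicit false
universe u

namespace Groth.Agent.Helper29.H1Sep

open TensorProduct Algebra Algebra.Extension

attribute [local instance] SMulCommClass.of_commMonoid

section General
variable {R S T : Type u} [CommRing R] [CommRing S] [CommRing T] [Algebra R S] [Algebra R T]
  [Algebra S T] [IsScalarTower R S T]

set_option backward.isDefEq.respectTransparency.types false in
set_option backward.defeqAttrib.useBackward true in
theorem inj_ext {P : Extension.{u} R S} {Q : Extension.{u} R T} (f : P.Hom Q)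
    [alg : Algebra P.Ring Q.Ring] (halg : algebraMap P.Ring Q.Ring = f.toRingHom) [Module.Flat S T]
    (H₂ : Function.Bijective ((f.mapKer halg).liftBaseChange Q.Ring)) :
    Function.Injective ((Extension.H1Cotangent.map f).liftBaseChange T) := by
  rw [injective_iff_map_eq_zero]
  intro x hx
  apply Module.Flat.lTensor_preserves_injective_linearMap _ h1Cotangentι_injective
  apply (Extension.tensorCotangent f halg H₂).injective
  simp only [map_zero]
  rw [← h1Cotangentι.map_zero, ← hx]
  change ((Cotangent.map f).liftBaseChange T ∘ₗ h1Cotangentι.baseChange T) x =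
      (h1Cotangentι ∘ₗ _) x
  congr 1
  ext x
  simp

set_option backward.isDefEq.respectTransparency.types false in
theorem inj_main (Q : Extension.{u} R T) (f : (Generators.self R S).toExtension.Hom Q)
    [alg : Algebra (Generators.self R S).toExtension.Ring Q.Ring]
    (halg : algebraMap (Generators.self R S).toExtension.Ring Q.Ring = f.toRingHom)
    [Module.Flat S T]
    (H₂ : Function.Bijective ((f.mapKer halg).liftBaseChange Q.Ring)) :
    Function.Injective ((Algebra.H1Cotangent.map R R S T).liftBaseChange T) := by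
  have h1 := inj_ext f halg H₂
  have h2 : Extension.H1Cotangent.map f =
      (Extension.H1Cotangent.map Q.defaultHom).restrictScalars S ∘ₗ
        Algebra.H1Cotangent.map R R S T := by
    rw [Algebra.H1Cotangent.map, ← Extension.H1Cotangent.map_comp]
    exact Extension.H1Cotangent.map_eq _ _
  rw [h2, ← LinearMap.liftBaseChange_comp, LinearMap.coe_comp] at h1
  exact Function.Injective.of_comp h1

theorem bij_of_flat_of_ker_le {P : Extension.{u} R S} {Q : Extension.{u} R T} (f : P.Hom Q)
    [alg : Algebra P.Ring Q.Ring] (halg : algebraMap P.Ring Q.Ring = f.toRingHom)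
    [Module.Flat P.Ring Q.Ring] (hker : Q.ker ≤ Ideal.map f.toRingHom P.ker) :
    Function.Bijective ((f.mapKer halg).liftBaseChange Q.Ring) := by
  constructor
  · let μ : Q.Ring ⊗[P.Ring] P.ker →ₗ[P.Ring] Q.Ring :=
      (TensorProduct.rid P.Ring Q.Ring).toLinearMap ∘ₗ (P.ker.subtype.lTensor Q.Ring)
    have hμ : Function.Injective μ :=
      (TensorProduct.rid P.Ring Q.Ring).injective.comp
        (Module.Flat.lTensor_preserves_injective_linearMap _ (Submodule.injective_subtype _))
    have hcomp : ∀ x, (((f.mapKer halg).liftBaseChange Q.Ring x : Q.ker) : Q.Ring) = μ x := by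
      intro x
      induction x using TensorProduct.induction_on with
      | zero => simp
      | tmul b a =>
        rw [LinearMap.liftBaseChange_tmul]
        simp only [μ, LinearMap.coe_comp, LinearEquiv.coe_coe, Function.comp_apply,
          LinearMap.lTensor_tmul, Submodule.subtype_apply, TensorProduct.rid_tmul,
          Submodule.coe_smul, Hom.mapKer_apply_coe, smul_eq_mul, Algebra.smul_def, halg]
        exact mul_comm _ _
      | add x y hx hy => rw [map_add, map_add, Submodule.coe_add, hx, hy]
    intro x y hxy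
    apply hμ
    rw [← hcomp, ← hcomp, hxy]
  · rw [← LinearMap.range_eq_top, LinearMap.range_liftBaseChange, _root_.eq_top_iff]
    have key : ∀ y : Q.Ring, y ∈ Ideal.map f.toRingHom P.ker →
        ∃ hy : y ∈ Q.ker, (⟨y, hy⟩ : Q.ker) ∈
          Submodule.span Q.Ring (LinearMap.range (f.mapKer halg) : Set Q.ker) := by
      intro y hy
      refine Submodule.span_induction (p := fun y _ => ∃ hy : y ∈ Q.ker, (⟨y, hy⟩ : Q.ker) ∈
          Submodule.span Q.Ring (LinearMap.range (f.mapKer halg) : Set Q.ker)) ?_ ?_ ?_ ?_ hy
      · rintro _ ⟨a, ha, rfl⟩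
        exact ⟨(f.mapKer halg ⟨a, ha⟩).2,
          Submodule.subset_span (LinearMap.mem_range_self (f.mapKer halg) ⟨a, ha⟩)⟩
      · exact ⟨Q.ker.zero_mem, Submodule.zero_mem _⟩
      · rintro x y _ _ ⟨hx, hx'⟩ ⟨hy, hy'⟩
        exact ⟨Q.ker.add_mem hx hy, Submodule.add_mem _ hx' hy'⟩
      · rintro a x _ ⟨hx, hx'⟩
        exact ⟨Q.ker.smul_mem a hx, Submodule.smul_mem _ a hx'⟩
    rintro ⟨y, hy⟩ -
    obtain ⟨_, h⟩ := key y (hker hy)
    exact h

end General

section Field
variable {R S T : Type u} [CommRing R] [Field S] [Field T] [Algebra R S] [Algebra R T]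
  [Algebra S T] [IsScalarTower R S T] [FiniteDimensional S T] [Algebra.IsSeparable S T]

theorem surj_part :
    Function.Surjective ((Algebra.H1Cotangent.map R R S T).liftBaseChange T) := by
  have hex := Algebra.H1Cotangent.exact_liftBaseChange_map_of_flat R S T
  have h1 : Algebra.FormallyEtale S T := Algebra.FormallyEtale.of_isSeparable S T
  have h2 : Subsingleton (Algebra.H1Cotangent S T) :=
    Algebra.FormallySmooth.subsingleton_h1Cotangent
  intro y
  exact (hex y).mp (Subsingleton.elim _ _)

theorem inj_part :
    Function.Injective ((Algebra.H1Cotangent.map R R S T).liftBaseChange T) := by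
  classical
  obtain ⟨α, hα⟩ := Field.exists_primitive_element S T
  let P : Extension.{u} R S := (Generators.self R S).toExtension
  let π : P.Ring →+* S := algebraMap P.Ring S
  have hπ : Function.Surjective π := P.algebraMap_surjective
  have hnt : Nontrivial P.Ring := hπ.nontrivial
  have hαint : IsIntegral S α := Algebra.IsIntegral.isIntegral α
  have hg : (minpoly S α).Monic := minpoly.monic hαint
  obtain ⟨G, hGmap, hGdeg, hGmonic⟩ := Polynomial.lifts_and_degree_eq_and_monic (f := π)
    ((Polynomial.mem_lifts _).mpr (Polynomial.map_surjective π hπ _)) hg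
  let i : P.Ring →ₐ[R] T :=
    (IsScalarTower.toAlgHom R S T).comp (IsScalarTower.toAlgHom R P.Ring S)
  have hi : ∀ q : Polynomial P.Ring,
      q.eval₂ (i : P.Ring →+* T) α = Polynomial.aeval α (q.map π) := by
    intro q
    rw [Polynomial.aeval_def, Polynomial.eval₂_map]
    rfl
  have hGα : G.eval₂ (i : P.Ring →+* T) α = 0 := by rw [hi, hGmap, minpoly.aeval]
  let φ : AdjoinRoot G →ₐ[R] T := AdjoinRoot.liftAlgHom G i α hGα
  have hφmk : ∀ q : Polynomial P.Ring,
      φ (AdjoinRoot.mk G q) = Polynomial.aeval α (q.map π) := by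
    intro q
    rw [← hi]
    exact AdjoinRoot.liftAlgHom_mk G i α hGα q
  have hφsurj : Function.Surjective φ := by
    intro t
    have ht : t ∈ Algebra.adjoin S {α} := by
      have h := IntermediateField.adjoin_simple_toSubalgebra_of_isAlgebraic hαint.isAlgebraic
      rw [← h, hα]
      trivial
    rw [Algebra.adjoin_singleton_eq_range_aeval] at ht
    obtain ⟨q, rfl⟩ := ht
    obtain ⟨q', rfl⟩ := Polynomial.map_surjective π hπ q
    exact ⟨AdjoinRoot.mk G q', hφmk q'⟩
  let Q : Extension.{u} R T := Extension.ofSurjective φ hφsurj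
  let f : P.Hom Q :=
    { toRingHom := AdjoinRoot.of G
      toRingHom_algebraMap := fun x => by
        change _ = algebraMap R (AdjoinRoot G) x
        rw [AdjoinRoot.algebraMap_eq']
        rfl
      algebraMap_toRingHom := fun x => AdjoinRoot.liftAlgHom_of G i α hGα x }
  let alg : Algebra P.Ring Q.Ring := (inferInstance : Algebra P.Ring (AdjoinRoot G))
  have halg : algebraMap P.Ring Q.Ring = f.toRingHom := AdjoinRoot.algebraMap_eq G
  have hflat : Module.Flat P.Ring Q.Ring := by
    have : Module.Free P.Ring (AdjoinRoot G) :=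
      Module.Free.of_basis (AdjoinRoot.powerBasis' hGmonic).basis
    exact (inferInstance : Module.Flat P.Ring (AdjoinRoot G))
  have hker : Q.ker ≤ Ideal.map f.toRingHom P.ker := by
    intro y hy
    have hy0 : φ y = 0 := hy
    obtain ⟨r0, rfl⟩ := AdjoinRoot.mk_surjective y
    have hy' : AdjoinRoot.mk G r0 = AdjoinRoot.mk G (r0 %ₘ G) := by
      have := AdjoinRoot.mk_leftInverse hGmonic (AdjoinRoot.mk G r0)
      rw [AdjoinRoot.modByMonicHom_mk] at this
      exact this.symm
    have hdeg : (r0 %ₘ G).degree < G.degree := Polynomial.degree_modByMonic_lt r0 hGmonic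
    rw [hy'] at hy0 ⊢
    rw [hφmk] at hy0
    have hdvd : minpoly S α ∣ (r0 %ₘ G).map π := minpoly.dvd S α hy0
    have hzero : (r0 %ₘ G).map π = 0 := by
      by_contra hne
      have h1 := Polynomial.degree_le_of_dvd hdvd hne
      have h2 : ((r0 %ₘ G).map π).degree ≤ (r0 %ₘ G).degree := Polynomial.degree_map_le
      rw [← hGdeg] at h1
      exact absurd (lt_of_le_of_lt (h1.trans h2) hdeg) (lt_irrefl _)
    have hcoef : (r0 %ₘ G) ∈ Ideal.map (Polynomial.C : P.Ring →+* Polynomial P.Ring) P.ker := by
      rw [Ideal.mem_map_C_iff]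
      intro n
      have := congrArg (fun q => q.coeff n) hzero
      simpa [Polynomial.coeff_map] using this
    have hmem : AdjoinRoot.mk G (r0 %ₘ G) ∈
        Ideal.map (AdjoinRoot.mk G) (Ideal.map Polynomial.C P.ker) :=
      Ideal.mem_map_of_mem _ hcoef
    rw [Ideal.map_map] at hmem
    exact hmem
  have hH₂ := bij_of_flat_of_ker_le f halg hker
  exact inj_main Q f halg hH₂

end Field

theorem main {Λ : Type u} {k : Type u} [CommRing Λ] [Field k] [Algebra Λ k]
    [IsNoetherianRing Λ] [Module.Finite Λ k]
    [Algebra.IsSeparable (↥(algebraMap Λ k).range) k] :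
    letI : Algebra Λ (↥(algebraMap Λ k).range) := (algebraMap Λ k).rangeRestrict.toAlgebra
    letI : IsScalarTower Λ (↥(algebraMap Λ k).range) k :=
      IsScalarTower.of_algebraMap_eq (fun _ ↦ rfl)
    Function.Bijective
      ((Algebra.H1Cotangent.map Λ Λ (↥(algebraMap Λ k).range) k).liftBaseChange k) := by
  letI i1 : Algebra Λ (↥(algebraMap Λ k).range) := (algebraMap Λ k).rangeRestrict.toAlgebra
  letI i2 : IsScalarTower Λ (↥(algebraMap Λ k).range) k :=
    IsScalarTower.of_algebraMap_eq (fun _ ↦ rfl)
  have hfin : Module.Finite (↥(algebraMap Λ k).range) k :=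
    Module.Finite.of_restrictScalars_finite Λ _ k
  have hint : Algebra.IsIntegral (↥(algebraMap Λ k).range) k := inferInstance
  have hfield : IsField (↥(algebraMap Λ k).range) :=
    isField_of_isIntegral_of_isField (R := ↥(algebraMap Λ k).range) (S := k)
      Subtype.val_injective (Field.toIsField k)
  letI : Field (↥(algebraMap Λ k).range) := hfield.toField
  exact ⟨inj_part, surj_part⟩

end Groth.Agent.Helper29.H1Sep
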