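import Mathlib
import Groth.Prelude.Def_HRes
import Groth.Agent.Lib.Helper10.ExtAdj

/-!
# Identity and composition laws for `HRes.pull`
-/

set_option autoImplicit false
universe u
open CategoryTheory CategoryTheory.Limits AlgebraicGeometry Opposite CategoryTheory.Abelian

namespace Groth.Agent.Helper29.HResA

open Groth.Agent.Helper10.ExtAdj

variable (K : Precoverage Scheme.{u})

/-- `toSheafify ≫ (pullConst).inv = toSheafify` whiskered. -/
lemma toSheafify_pullConst_inv {S T : Scheme.{u}} (f : T ⟶ S) (M : AddCommGrpCat.{u + 1}) :
    toSheafify (QuotSh.J K T) ((Functor.const _).obj M) ≫ (HRes.pullConst K f M).inv.hom =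
      Functor.whiskerLeft (Over.map f).op
        (toSheafify (QuotSh.J K S) ((Functor.const _).obj M)) :=
  (Over.map f).toSheafify_pullbackSheafificationCompatibility AddCommGrpCat.{u + 1}
    (QuotSh.J K T) (QuotSh.J K S) ((Functor.const _).obj M)

end Groth.Agent.Helper29.HResA
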