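import Mathlib
import Groth.Prelude.Def_HRes
import Groth.Agent.Lib.Helper10.ExtAdj
import Groth.Agent.Lib.Helper29.HResA

set_option autoImplicit false
universe u
open CategoryTheory CategoryTheory.Limits AlgebraicGeometry Opposite CategoryTheory.Abelian

namespace Groth.Agent.Helper29.HResB

open Groth.Agent.Helper10.ExtAdj Groth.Agent.Helper29.HResA

variable (K : Precoverage Scheme.{u})

lemma pullConst_inv_id (S : Scheme.{u}) (M : AddCommGrpCat.{u + 1}) :
    (HRes.pullConst K (𝟙 S) M).inv ≫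
      (K.toGrothendieck.overMapPullbackId AddCommGrpCat.{u + 1} S).hom.app
        ((constantSheaf (QuotSh.J K S) AddCommGrpCat.{u + 1}).obj M) = 𝟙 _ := by
  apply Sheaf.hom_ext
  apply sheafify_hom_ext _ _ _ ((constantSheaf (QuotSh.J K S) AddCommGrpCat.{u + 1}).obj M).property
  apply NatTrans.ext; funext U
  have h := congr_app (toSheafify_pullConst_inv K (𝟙 S) M) U
  change (toSheafify _ _).app U ≫ (HRes.pullConst K (𝟙 S) M).inv.hom.app U ≫
    ((K.toGrothendieck.overMapPullbackId AddCommGrpCat.{u + 1} S).hom.app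
        ((constantSheaf (QuotSh.J K S) AddCommGrpCat.{u + 1}).obj M)).hom.app U =
    (toSheafify _ _).app U ≫ 𝟙 _
  rw [NatTrans.comp_app] at h
  rw [reassoc_of% h]
  simp
  refine ((toSheafify (QuotSh.J K S) ((Functor.const (Over S)ᵒᵖ).obj M)).naturality
    ((Over.mapId S).inv.app (unop U)).op).symm.trans ?_
  rw [Functor.const_obj_map]
  exact Category.id_comp _

theorem main14708 (S : Scheme.{u}) (F : BigSite.Ab K S) (n : ℕ) (x : BigSite.H K S F n) :
    Sheaf.H.map ((K.toGrothendieck.overMapPullbackId AddCommGrpCat.{u + 1} S).hom.app F) n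
      (HRes.pull K (𝟙 S) F n x) = x := by
  have hnat := ExtMap.naturality
    (ExtMap.ofFunctor (BigSite.pullBig K (𝟙 S) AddCommGrpCat.{u + 1}))
    (ExtMap.id) (K.toGrothendieck.overMapPullbackId AddCommGrpCat.{u + 1} S).hom n x
  change (Ext.mk₀ _).comp x (zero_add n) =
    (x.mapExactFunctor (BigSite.pullBig K (𝟙 S) AddCommGrpCat.{u + 1})).comp (Ext.mk₀ _)
      (add_zero n) at hnat
  rw [HRes.pull_apply, Sheaf.H.map_apply,
    Ext.comp_assoc _ _ _ (zero_add n) (add_zero n) (by omega), ← hnat,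
    ← Ext.comp_assoc _ _ _ (zero_add 0) (zero_add n) (by omega), Ext.mk₀_comp_mk₀]
  have h := pullConst_inv_id K S (AddCommGrpCat.of (ULift.{u + 1} ℤ))
  erw [h]
  exact Ext.mk₀_id_comp x

lemma pullConst_inv_comp {S T T' : Scheme.{u}} (f : T ⟶ S) (g : T' ⟶ T)
    (M : AddCommGrpCat.{u + 1}) :
    (HRes.pullConst K g M).inv ≫
      (BigSite.pullBig K g AddCommGrpCat.{u + 1}).map (HRes.pullConst K f M).inv ≫
      (K.toGrothendieck.overMapPullbackComp AddCommGrpCat.{u + 1} g f).hom.app
        ((constantSheaf (QuotSh.J K S) AddCommGrpCat.{u + 1}).obj M) =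
    (HRes.pullConst K (g ≫ f) M).inv := by
  apply Sheaf.hom_ext
  apply sheafify_hom_ext _ _ _
    ((BigSite.pullBig K (g ≫ f) AddCommGrpCat.{u + 1}).obj
      ((constantSheaf (QuotSh.J K S) AddCommGrpCat.{u + 1}).obj M)).property
  apply NatTrans.ext; funext U
  have hg := congr_app (toSheafify_pullConst_inv K g M) U
  have hf := congr_app (toSheafify_pullConst_inv K f M) (op ((Over.map g).obj (unop U)))
  have hgf := congr_app (toSheafify_pullConst_inv K (g ≫ f) M) U
  rw [NatTrans.comp_app] at hg hf hgf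
  change (toSheafify _ _).app U ≫ (HRes.pullConst K g M).inv.hom.app U ≫
    ((BigSite.pullBig K g AddCommGrpCat.{u + 1}).map (HRes.pullConst K f M).inv).hom.app U ≫
    ((K.toGrothendieck.overMapPullbackComp AddCommGrpCat.{u + 1} g f).hom.app
        ((constantSheaf (QuotSh.J K S) AddCommGrpCat.{u + 1}).obj M)).hom.app U =
    (toSheafify _ _).app U ≫ (HRes.pullConst K (g ≫ f) M).inv.hom.app U
  rw [reassoc_of% hg, hgf]
  simp
  refine ((Category.assoc _ _ _).symm.trans ?_)
  refine (congrArg (· ≫ _) hf).trans ?_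
  refine ((toSheafify (QuotSh.J K S) ((Functor.const (Over S)ᵒᵖ).obj M)).naturality
    ((Over.mapComp g f).hom.app (unop U)).op).symm.trans ?_
  rw [Functor.const_obj_map]
  exact Category.id_comp _

theorem main14709 {S T T' : Scheme.{u}}
    (f : T ⟶ S) (g : T' ⟶ T) (F : BigSite.Ab K S) (n : ℕ) (x : BigSite.H K S F n) :
    HRes.pull K (g ≫ f) F n x =
      Sheaf.H.map ((K.toGrothendieck.overMapPullbackComp AddCommGrpCat.{u + 1} g f).hom.app F) n
        (HRes.pull K g ((BigSite.pullBig K f AddCommGrpCat.{u + 1}).obj F) n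
          (HRes.pull K f F n x)) := by
  haveI : PreservesFiniteLimits (BigSite.pullBig K f AddCommGrpCat.{u + 1} ⋙
      BigSite.pullBig K g AddCommGrpCat.{u + 1}) := comp_preservesFiniteLimits _ _
  haveI : PreservesFiniteColimits (BigSite.pullBig K f AddCommGrpCat.{u + 1} ⋙
      BigSite.pullBig K g AddCommGrpCat.{u + 1}) := comp_preservesFiniteColimits _ _
  have hnat := ExtMap.naturality
    ((ExtMap.ofFunctor (BigSite.pullBig K f AddCommGrpCat.{u + 1})).comp
      (ExtMap.ofFunctor (BigSite.pullBig K g AddCommGrpCat.{u + 1})))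
    (ExtMap.ofFunctor (BigSite.pullBig K (g ≫ f) AddCommGrpCat.{u + 1}))
    (K.toGrothendieck.overMapPullbackComp AddCommGrpCat.{u + 1} g f).hom n x
  change (Ext.mk₀ _).comp (x.mapExactFunctor (BigSite.pullBig K (g ≫ f) AddCommGrpCat.{u + 1}))
      (zero_add n) =
    ((x.mapExactFunctor (BigSite.pullBig K f AddCommGrpCat.{u + 1})).mapExactFunctor
      (BigSite.pullBig K g AddCommGrpCat.{u + 1})).comp (Ext.mk₀ _) (add_zero n) at hnat
  rw [HRes.pull_apply, HRes.pull_apply, HRes.pull_apply, Sheaf.H.map_apply,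
    Ext.mapExactFunctor_comp, Ext.mapExactFunctor_mk₀,
    Ext.comp_assoc _ _ _ (zero_add n) (add_zero n) (by omega),
    Ext.comp_assoc _ _ _ (zero_add n) (add_zero n) (by omega), ← hnat,
    ← Ext.comp_assoc _ _ _ (zero_add 0) (zero_add n) (by omega),
    ← Ext.comp_assoc _ _ _ (zero_add 0) (zero_add n) (by omega),
    Ext.mk₀_comp_mk₀, Ext.mk₀_comp_mk₀]
  have h := pullConst_inv_comp K f g (AddCommGrpCat.of (ULift.{u + 1} ℤ))
  rw [← h, Category.assoc]

end Groth.Agent.Helper29.HResB
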