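import Mathlib

/-!
# Mates for a commutative square of adjunctions, with "constant object" functors (helper29)

Abstract category theory used for base-change coherence of pullbacks on cohomology.
-/

set_option autoImplicit false

open CategoryTheory

namespace Groth.Agent.Helper29.MateA

universe v₁ v₂ v₃ v₄ v₅ u₁ u₂ u₃ u₄ u₅

section TwoStep

variable {ℬ : Type u₁} [Category.{v₁} ℬ] {𝒴 : Type u₂} [Category.{v₂} 𝒴]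
  {𝒯 : Type u₃} [Category.{v₃} 𝒯] {𝒯' : Type u₄} [Category.{v₄} 𝒯']
  {cY : ℬ ⥤ 𝒴} {ΓY : 𝒴 ⥤ ℬ} (kY : cY ⊣ ΓY)
  {cT : ℬ ⥤ 𝒯} {ΓT : 𝒯 ⥤ ℬ} (kT : cT ⊣ ΓT)
  {cT' : ℬ ⥤ 𝒯'} {ΓT' : 𝒯' ⥤ ℬ} (kT' : cT' ⊣ ΓT')
  {La : 𝒴 ⥤ 𝒯} {Ra : 𝒯 ⥤ 𝒴} (aa : La ⊣ Ra)
  {Lb : 𝒯 ⥤ 𝒯'} {Rb : 𝒯' ⥤ 𝒯} (ab : Lb ⊣ Rb)
  (pa : Ra ⋙ ΓY ≅ ΓT) (pb : Rb ⋙ ΓT ≅ ΓT')

/-- the canonical iso `c_Y ⋙ L ≅ c_T` -/
noncomputable def π : cY ⋙ La ≅ cT :=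
  Adjunction.leftAdjointUniq ((kY.comp aa).ofNatIsoRight pa) kT

lemma unit_π_inv (M : ℬ) :
    kT.unit.app M ≫ ΓT.map ((π kY kT aa pa).inv.app M) =
      kY.unit.app M ≫ ΓY.map (aa.unit.app (cY.obj M)) ≫ pa.hom.app (La.obj (cY.obj M)) := by
  have h := Adjunction.unit_leftAdjointUniq_hom_app ((kY.comp aa).ofNatIsoRight pa) kT M
  have h2 : kT.unit.app M ≫ ΓT.map ((π kY kT aa pa).inv.app M) =
      ((kY.comp aa).ofNatIsoRight pa).unit.app M := by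
    rw [← h, Category.assoc, ← ΓT.map_comp]
    change _ ≫ ΓT.map ((π kY kT aa pa).hom.app M ≫ (π kY kT aa pa).inv.app M) = _
    rw [Iso.hom_inv_id_app, ΓT.map_id, Category.comp_id]
  rw [h2]
  simp

lemma two_step (M : ℬ) :
    kT'.unit.app M ≫ ΓT'.map ((π kT kT' ab pb).inv.app M ≫ Lb.map ((π kY kT aa pa).inv.app M)) =
      kY.unit.app M ≫ ΓY.map ((aa.comp ab).unit.app (cY.obj M)) ≫
        pa.hom.app (Rb.obj (Lb.obj (La.obj (cY.obj M)))) ≫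
        pb.hom.app (Lb.obj (La.obj (cY.obj M))) := by
  rw [ΓT'.map_comp, ← Category.assoc, unit_π_inv kT kT' ab pb M]
  simp only [Category.assoc]
  have n1 := pb.hom.naturality (Lb.map ((π kY kT aa pa).inv.app M))
  have n2 := ab.unit.naturality ((π kY kT aa pa).inv.app M)
  simp only [Functor.comp_map, Functor.id_map, Functor.comp_obj, Functor.id_obj] at n1 n2
  rw [← n1]
  rw [← ΓT.map_comp_assoc, ← n2, ΓT.map_comp_assoc, ← Category.assoc (kT.unit.app M),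
    unit_π_inv kY kT aa pa M]
  simp only [Category.assoc]
  have n3 := pa.hom.naturality (ab.unit.app (La.obj (cY.obj M)))
  simp only [Functor.comp_map, Functor.comp_obj, Functor.id_obj] at n3
  rw [← reassoc_of% n3]
  simp [Adjunction.comp_unit_app]

end TwoStep

section Square

variable {ℬ : Type u₁} [Category.{v₁} ℬ] {𝒴 : Type u₂} [Category.{v₂} 𝒴]
  {𝒳 : Type u₃} [Category.{v₃} 𝒳] {𝒳' : Type u₄} [Category.{v₄} 𝒳'] {𝒴' : Type u₅} [Category.{v₅} 𝒴']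
  {L1 : 𝒴 ⥤ 𝒳} {R1 : 𝒳 ⥤ 𝒴} (a1 : L1 ⊣ R1)
  {L2 : 𝒳 ⥤ 𝒳'} {R2 : 𝒳' ⥤ 𝒳} (a2 : L2 ⊣ R2)
  {L3 : 𝒴 ⥤ 𝒴'} {R3 : 𝒴' ⥤ 𝒴} (a3 : L3 ⊣ R3)
  {L4 : 𝒴' ⥤ 𝒳'} {R4 : 𝒳' ⥤ 𝒴'} (a4 : L4 ⊣ R4)
  (σ : R2 ⋙ R1 ≅ R4 ⋙ R3)

/-- the conjugate iso of `σ` -/
noncomputable def θ : L1 ⋙ L2 ≅ L3 ⋙ L4 :=
  Adjunction.leftAdjointUniq (a1.comp a2) ((a3.comp a4).ofNatIsoRight σ.symm)

/-- degree zero base change map -/
noncomputable def bc0 (F : 𝒳) : L3.obj (R1.obj F) ⟶ R4.obj (L2.obj F) :=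
  (a3.homEquiv _ _).symm (R1.map (a2.unit.app F) ≫ σ.hom.app (L2.obj F))

lemma mate_ii (F : 𝒳) :
    (θ a1 a2 a3 a4 σ).inv.app (R1.obj F) ≫ L2.map (a1.counit.app F) =
      L4.map (bc0 a2 a3 σ F) ≫ a4.counit.app (L2.obj F) := by
  have e1 : L2.map (a1.counit.app F) =
      (L1 ⋙ L2).map (R1.map (a2.unit.app F)) ≫ (a1.comp a2).counit.app (L2.obj F) := by
    simp only [Functor.comp_map, Adjunction.comp_counit_app, Functor.comp_obj]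
    rw [← L2.map_comp_assoc, a1.counit_naturality, L2.map_comp_assoc]
    simp
  rw [e1, ← Category.assoc, ← (θ a1 a2 a3 a4 σ).inv.naturality, Category.assoc]
  have e2 := Adjunction.leftAdjointUniq_hom_app_counit
    ((a3.comp a4).ofNatIsoRight σ.symm) (a1.comp a2) (L2.obj F)
  have e3 : (θ a1 a2 a3 a4 σ).inv.app ((R2 ⋙ R1).obj (L2.obj F)) =
      (Adjunction.leftAdjointUniq ((a3.comp a4).ofNatIsoRight σ.symm) (a1.comp a2)).hom.app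
        ((R2 ⋙ R1).obj (L2.obj F)) :=
    Adjunction.leftAdjointUniq_inv_app _ _ _
  have e4 : (θ a1 a2 a3 a4 σ).inv.app (R1.obj ((L2 ⋙ R2).obj F)) ≫
      (a1.comp a2).counit.app (L2.obj F) =
      ((a3.comp a4).ofNatIsoRight σ.symm).counit.app (L2.obj F) :=
    (congrArg (· ≫ (a1.comp a2).counit.app (L2.obj F)) e3).trans e2
  rw [e4]
  simp [bc0, Adjunction.homEquiv_counit]

variable {cY : ℬ ⥤ 𝒴} {ΓY : 𝒴 ⥤ ℬ} (kY : cY ⊣ ΓY)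
  {cX : ℬ ⥤ 𝒳} {ΓX : 𝒳 ⥤ ℬ} (kX : cX ⊣ ΓX)
  {cX' : ℬ ⥤ 𝒳'} {ΓX' : 𝒳' ⥤ ℬ} (kX' : cX' ⊣ ΓX')
  {cY' : ℬ ⥤ 𝒴'} {ΓY' : 𝒴' ⥤ ℬ} (kY' : cY' ⊣ ΓY')
  (p1 : R1 ⋙ ΓY ≅ ΓX) (p2 : R2 ⋙ ΓX ≅ ΓX') (p3 : R3 ⋙ ΓY ≅ ΓY') (p4 : R4 ⋙ ΓY' ≅ ΓX')

lemma mate_i
    (hσ : ∀ G : 𝒳', p1.hom.app (R2.obj G) ≫ p2.hom.app G =
      ΓY.map (σ.hom.app G) ≫ p3.hom.app (R4.obj G) ≫ p4.hom.app G) (M : ℬ) :
    (π kX kX' a2 p2).inv.app M ≫ L2.map ((π kY kX a1 p1).inv.app M) ≫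
        (θ a1 a2 a3 a4 σ).hom.app (cY.obj M) =
      (π kY' kX' a4 p4).inv.app M ≫ L4.map ((π kY kY' a3 p3).inv.app M) := by
  apply (kX'.homEquiv M _).injective
  rw [Adjunction.homEquiv_unit, Adjunction.homEquiv_unit]
  rw [two_step kY kY' kX' a3 a4 p3 p4 M]
  rw [← Category.assoc ((π kX kX' a2 p2).inv.app M), ΓX'.map_comp, ← Category.assoc,
    two_step kY kX kX' a1 a2 p1 p2 M]
  simp only [Category.assoc]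
  have n2 := p2.hom.naturality ((θ a1 a2 a3 a4 σ).hom.app (cY.obj M))
  have n1 := p1.hom.naturality (R2.map ((θ a1 a2 a3 a4 σ).hom.app (cY.obj M)))
  simp only [Functor.comp_map, Functor.comp_obj] at n1 n2
  rw [← n2, ← reassoc_of% n1]
  have hu := Adjunction.unit_leftAdjointUniq_hom_app (a1.comp a2)
    ((a3.comp a4).ofNatIsoRight σ.symm) (cY.obj M)
  have hu' : (a1.comp a2).unit.app (cY.obj M) ≫
      R1.map (R2.map ((θ a1 a2 a3 a4 σ).hom.app (cY.obj M))) =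
      ((a3.comp a4).ofNatIsoRight σ.symm).unit.app (cY.obj M) := hu
  rw [← ΓY.map_comp_assoc, hu']
  rw [hσ]
  simp

end Square

end Groth.Agent.Helper29.MateA
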