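import Mathlib
import Groth.Prelude.Def_EtLim
import Groth.Agent.Lib.Helper10.ExtAdj
import Groth.Agent.Lib.Helper29.MateA

/-!
# Base change coherence of `Hpull` and `HofPush` on small étale sites (helper29)
-/

set_option autoImplicit false
universe u
open CategoryTheory CategoryTheory.Limits AlgebraicGeometry Opposite CategoryTheory.Abelian

namespace Groth.Agent.Helper29.HResC

open Groth.Agent.Helper10.ExtAdj Groth.Agent.Helper29.MateA

lemma map_op_comp5 {C D : Type*} [Category C] [Category D] (P : Cᵒᵖ ⥤ D) {A0 A1 A2 A3 A4 A5 : C}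
    (a : A0 ⟶ A1) (b : A1 ⟶ A2) (c : A2 ⟶ A3) (d : A3 ⟶ A4) (e : A4 ⟶ A5) :
    P.map (a ≫ b ≫ c ≫ d ≫ e).op =
      P.map e.op ≫ P.map d.op ≫ P.map c.op ≫ P.map b.op ≫ P.map a.op := by simp

lemma map_op_comp2 {C D : Type*} [Category C] [Category D] (P : Cᵒᵖ ⥤ D) {A0 A1 A2 : C}
    (a : A0 ⟶ A1) (b : A1 ⟶ A2) : P.map (a ≫ b).op = P.map b.op ≫ P.map a.op := by simp

variable {X Y X' Y' : Scheme.{u}} (f : X ⟶ Y) (g : Y' ⟶ Y) (f' : X' ⟶ Y') (g' : X' ⟶ X)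
  (w : g' ≫ f = f' ≫ g)

/-- `f_* g'_* ≅ g_* f'_*` -/
noncomputable def σ : EtCoh.push g' ⋙ EtCoh.push f ≅ EtCoh.push f' ⋙ EtCoh.push g :=
  EtCoh.pushComp f g' ≪≫ EtCoh.pushCongr w ≪≫ (EtCoh.pushComp g f').symm

lemma baseChange0_eq (F : EtCoh.Ab X) :
    EtCoh.baseChange0 f g f' g' w F =
      bc0 (EtCoh.pullPushAdj g') (EtCoh.pullPushAdj g) (σ f g f' g' w) F := by
  simp [EtCoh.baseChange0, bc0, σ]

lemma pullConstIso_eq : EtCore.pullConstIso f =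
    π (EtCore.constAdj Y) (EtCore.constAdj X) (EtCoh.pullPushAdj f) (EtCore.pushGsecIso f) := rfl

lemma hσ (G : EtCoh.Ab X') :
    (EtCore.pushGsecIso f).hom.app ((EtCoh.push g').obj G) ≫ (EtCore.pushGsecIso g').hom.app G =
      (EtCore.gsec Y).map ((σ f g f' g' w).hom.app G) ≫
        (EtCore.pushGsecIso g).hom.app ((EtCoh.push f').obj G) ≫
        (EtCore.pushGsecIso f').hom.app G := by
  simp [EtCore.pushGsecIso, σ, EtCoh.pushComp, EtCoh.pushCongr]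
  have key : (EtCore.bcTopIso g').inv ≫ (EtCoh.bc g').map (EtCore.bcTopIso f).inv =
      (EtCore.bcTopIso f').inv ≫ (EtCoh.bc f').map (EtCore.bcTopIso g).inv ≫
        (MorphismProperty.Over.pullbackComp (P := EtCoh.etaleMP) (Q := ⊤) f' g).inv.app (EtCoh.top Y) ≫
        (MorphismProperty.Over.pullbackCongr (P := EtCoh.etaleMP) (Q := ⊤) w).inv.app (EtCoh.top Y) ≫
        (MorphismProperty.Over.pullbackComp (P := EtCoh.etaleMP) (Q := ⊤) g' f).hom.app (EtCoh.top Y) :=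
    (IsTerminal.isTerminalObj (EtCoh.bc g') _ (EtCore.bcTopIsTerminal f)).hom_ext _ _
  have := congrArg (fun t => G.obj.map t.op) key
  exact ((map_op_comp2 G.obj _ _).symm.trans this).trans (map_op_comp5 G.obj _ _ _ _ _)

section ExtLemmas

variable {C : Type*} [Category C] [Abelian C] [HasExt.{u + 1} C]

lemma lhs_normal {P Z1 Z W T : C} {q : ℕ} (a : P ⟶ Z1) (b : Z1 ⟶ Z) (x : Ext.{u + 1} Z W q)
    (c : W ⟶ T) :
    (Ext.mk₀ a).comp (((Ext.mk₀ b).comp x (zero_add q)).comp (Ext.mk₀ c) (add_zero q))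
      (zero_add q) =
    (Ext.mk₀ (a ≫ b)).comp (x.comp (Ext.mk₀ c) (add_zero q)) (zero_add q) := by
  rw [Ext.comp_assoc _ _ _ (zero_add q) (add_zero q) (by omega),
    ← Ext.comp_assoc _ _ _ (zero_add 0) (zero_add q) (by omega), Ext.mk₀_comp_mk₀]

lemma rhs_normal {P Z1 Z W V T : C} {q : ℕ} (a : P ⟶ Z1) (b : Z1 ⟶ Z) (x : Ext.{u + 1} Z W q)
    (c : W ⟶ V) (d : V ⟶ T) :
    ((Ext.mk₀ a).comp (((Ext.mk₀ b).comp x (zero_add q)).comp (Ext.mk₀ c) (add_zero q))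
      (zero_add q)).comp (Ext.mk₀ d) (add_zero q) =
    (Ext.mk₀ (a ≫ b)).comp (x.comp (Ext.mk₀ (c ≫ d)) (add_zero q)) (zero_add q) := by
  rw [lhs_normal, Ext.comp_assoc _ _ _ (zero_add q) (add_zero q) (by omega),
    Ext.comp_assoc _ _ _ (add_zero q) (add_zero 0) (by omega), Ext.mk₀_comp_mk₀]

lemma sandwich {P Z12 Z34 W12 W34 T : C} {q : ℕ} (α12 : P ⟶ Z12) (α34 : P ⟶ Z34)
    (θZ : Z12 ⟶ Z34) (θW : W12 ≅ W34) (β12 : W12 ⟶ T) (β34 : W34 ⟶ T)
    (x12 : Ext.{u + 1} Z12 W12 q) (x34 : Ext.{u + 1} Z34 W34 q)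
    (hnat : (Ext.mk₀ θZ).comp x34 (zero_add q) = x12.comp (Ext.mk₀ θW.hom) (add_zero q))
    (hi : α12 ≫ θZ = α34) (hii : θW.inv ≫ β12 = β34) :
    (Ext.mk₀ α12).comp (x12.comp (Ext.mk₀ β12) (add_zero q)) (zero_add q) =
      (Ext.mk₀ α34).comp (x34.comp (Ext.mk₀ β34) (add_zero q)) (zero_add q) := by
  have hβ : β12 = θW.hom ≫ β34 := by rw [← hii, Iso.hom_inv_id_assoc]
  rw [hβ, ← Ext.mk₀_comp_mk₀, ← Ext.comp_assoc _ _ _ (add_zero q) (add_zero 0) (by omega),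
    ← hnat, Ext.comp_assoc _ _ _ (zero_add q) (add_zero q) (by omega),
    ← Ext.comp_assoc _ _ _ (zero_add 0) (zero_add q) (by omega), Ext.mk₀_comp_mk₀, hi]

end ExtLemmas

section Main

lemma Hpull_apply {X Y : Scheme.{u}} (f : X ⟶ Y) [PreservesFiniteLimits (EtCoh.pull f)]
    (G : EtCoh.Ab Y) (n : ℕ) (e : EtCoh.H Y G n) :
    EtCore.Hpull f G n e = (Ext.mk₀ (EtCore.pullConst f ℤ).inv).comp
      (e.mapExactFunctor (EtCoh.pull f)) (zero_add n) := rfl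

lemma HofPush_apply {X Y : Scheme.{u}} (f : X ⟶ Y) [PreservesFiniteLimits (EtCoh.pull f)]
    (F : EtCoh.Ab X) (n : ℕ) (x : EtCoh.H Y ((EtCoh.push f).obj F) n) :
    EtLim.HofPush f F n x = (EtCore.Hpull f ((EtCoh.push f).obj F) n x).comp
      (Ext.mk₀ ((EtCoh.pullPushAdj f).counit.app F)) (add_zero n) := rfl

lemma HF_map_apply {X : Scheme.{u}} {F G : EtCoh.Ab X} (φ : F ⟶ G) (n : ℕ) (x : EtCoh.H X F n) :
    ((EtCoh.HF X n).map φ).hom x = x.comp (Ext.mk₀ φ) (add_zero n) := rfl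

theorem main14389 (F : EtCoh.Ab X) (q : ℕ)
    [PreservesFiniteLimits (EtCoh.pull f)] [PreservesFiniteLimits (EtCoh.pull g)]
    [PreservesFiniteLimits (EtCoh.pull f')] [PreservesFiniteLimits (EtCoh.pull g')]
    (ζ : EtCoh.H Y ((EtCoh.push f).obj F) q) :
    EtCore.Hpull g' F q (EtLim.HofPush f F q ζ) =
      EtLim.HofPush f' ((EtCoh.pull g').obj F) q
        (((EtCoh.HF Y' q).map (EtCoh.baseChange0 f g f' g' w F)).hom
          (EtCore.Hpull g ((EtCoh.push f).obj F) q ζ)) := by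
  haveI : PreservesFiniteLimits (EtCoh.pull f ⋙ EtCoh.pull g') := comp_preservesFiniteLimits _ _
  haveI : PreservesFiniteColimits (EtCoh.pull f ⋙ EtCoh.pull g') :=
    comp_preservesFiniteColimits _ _
  haveI : PreservesFiniteLimits (EtCoh.pull g ⋙ EtCoh.pull f') := comp_preservesFiniteLimits _ _
  haveI : PreservesFiniteColimits (EtCoh.pull g ⋙ EtCoh.pull f') :=
    comp_preservesFiniteColimits _ _
  have hnat := ExtMap.naturality
    ((ExtMap.ofFunctor (EtCoh.pull f)).comp (ExtMap.ofFunctor (EtCoh.pull g')))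
    ((ExtMap.ofFunctor (EtCoh.pull g)).comp (ExtMap.ofFunctor (EtCoh.pull f')))
    (θ (EtCoh.pullPushAdj f) (EtCoh.pullPushAdj g') (EtCoh.pullPushAdj g) (EtCoh.pullPushAdj f')
      (σ f g f' g' w)).hom q ζ
  rw [HofPush_apply, HofPush_apply, HF_map_apply, Hpull_apply, Hpull_apply, Hpull_apply,
    Hpull_apply]
  rw [Ext.mapExactFunctor_comp, Ext.mapExactFunctor_comp, Ext.mapExactFunctor_mk₀,
    Ext.mapExactFunctor_mk₀, Ext.mapExactFunctor_comp, Ext.mapExactFunctor_comp,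
    Ext.mapExactFunctor_mk₀, Ext.mapExactFunctor_mk₀, lhs_normal, rhs_normal]
  refine sandwich _ _ _
    ((θ (EtCoh.pullPushAdj f) (EtCoh.pullPushAdj g') (EtCoh.pullPushAdj g) (EtCoh.pullPushAdj f')
      (σ f g f' g' w)).app ((EtCoh.push f).obj F)) _ _ _ _ hnat ?_ ?_
  · have h := mate_i (EtCoh.pullPushAdj f) (EtCoh.pullPushAdj g') (EtCoh.pullPushAdj g)
      (EtCoh.pullPushAdj f') (σ f g f' g' w) (EtCore.constAdj Y) (EtCore.constAdj X)
      (EtCore.constAdj X') (EtCore.constAdj Y') (EtCore.pushGsecIso f) (EtCore.pushGsecIso g')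
      (EtCore.pushGsecIso g) (EtCore.pushGsecIso f') (hσ f g f' g' w)
      (AddCommGrpCat.of (ULift.{u + 1} ℤ))
    rw [Category.assoc]
    exact h
  · have h := mate_ii (EtCoh.pullPushAdj f) (EtCoh.pullPushAdj g') (EtCoh.pullPushAdj g)
      (EtCoh.pullPushAdj f') (σ f g f' g' w) F
    rw [baseChange0_eq]
    exact h

end Main

end Groth.Agent.Helper29.HResC
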