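import Mathlib
import Groth.Prelude.Def_Dual3
import Groth.Agent.Lib.Helper5.CI4

/-!
# The unit `C ⟶ i_* i^* C` of a closed immersion is an epimorphism; the counit of
`i_* ⊣ Hom(O_Z, -)` is a monomorphism.
-/

set_option autoImplicit false
set_option linter.unusedSectionVars false
universe u

open CategoryTheory CategoryTheory.Limits AlgebraicGeometry Opposite TopologicalSpace

namespace Groth.Agent.Helper29.HomOCntA

open Groth.Agent.Helper5.CI Groth.Agent.Helper5.Sky Groth.Agent.Helper5.StalkCx

section Alg

variable {A B : Type u} [CommRing A] [CommRing B] {φ : A →+* B}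

theorem epi_unit_of_surjective (hφ : Function.Surjective φ) (T : ModuleCat.{u} A) :
    Epi ((ModuleCat.extendRestrictScalarsAdj φ).unit.app T) := by
  rw [ModuleCat.epi_iff_surjective]
  intro z
  obtain ⟨t, ht⟩ := exists_one_tmul hφ T z
  refine ⟨t, ?_⟩
  rw [ht]
  rfl

end Alg

variable {Z X : Scheme.{u}} (i : Z ⟶ X) [IsClosedImmersion i]

theorem epi_unit (C : X.Modules) :
    Epi ((Scheme.Modules.pullbackPushforwardAdjunction i).unit.app C) := by
  apply epi_of_stalks
  intro y
  by_cases hy : y ∈ Set.range i.base
  · obtain ⟨x, rfl⟩ := hy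
    have h := map_unit (Scheme.Modules.pullbackPushforwardAdjunction i) (stalkSkyAdj x)
      (stalkSkyAdj (i.base x)) (ModuleCat.extendRestrictScalarsAdj (φst i x)) (pushSkyNatIso i x) C
    haveI : IsIso (sig (stalkSkyAdj x) (stalkSkyAdj (i.base x)) (pushSkyNatIso i x)
        ((Scheme.Modules.pullback i).obj C)) := isIso_sigma i x _
    haveI := epi_unit_of_surjective (i.stalkMap_surjective x)
      ((DerSch.stalkFunctor X (i.base x)).obj C)
    set g := (sig (stalkSkyAdj x) (stalkSkyAdj (i.base x)) (pushSkyNatIso i x)
          ((Scheme.Modules.pullback i).obj C) ≫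
        (ModuleCat.restrictScalars (φst i x)).map
          ((lam (Scheme.Modules.pullbackPushforwardAdjunction i) (stalkSkyAdj x)
            (stalkSkyAdj (i.base x)) (ModuleCat.extendRestrictScalarsAdj (φst i x))
            (pushSkyNatIso i x)).hom.app C)) with hg
    haveI : IsIso g := by rw [hg]; infer_instance
    have h' : (DerSch.stalkFunctor X (i.base x)).map
        ((Scheme.Modules.pullbackPushforwardAdjunction i).unit.app C) =
        (ModuleCat.extendRestrictScalarsAdj (φst i x)).unit.app
          ((DerSch.stalkFunctor X (i.base x)).obj C) ≫ inv g := by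
      rw [← h, Category.assoc, IsIso.hom_inv_id, Category.comp_id]
    rw [h']
    infer_instance
  · have hZ2 := isZero_stalk_pushforward i ((Scheme.Modules.pullback i).obj C) y hy
    exact ⟨fun a b _ => hZ2.eq_of_src a b⟩

theorem mono_counit [Dual3.HasHomO i] (F : X.Modules) :
    Mono ((Dual3.homOAdj i).counit.app F) := by
  constructor
  intro T a b hab
  haveI := epi_unit i T
  obtain ⟨a', rfl⟩ := ((Scheme.Modules.pullbackPushforwardAdjunction i).homEquiv T _).surjective a
  obtain ⟨b', rfl⟩ := ((Scheme.Modules.pullbackPushforwardAdjunction i).homEquiv T _).surjective b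
  rw [Adjunction.homEquiv_unit, Adjunction.homEquiv_unit, Category.assoc, Category.assoc,
    cancel_epi] at hab
  have h2 : a' = b' := by
    apply ((Dual3.homOAdj i).homEquiv _ _).symm.injective
    rw [Adjunction.homEquiv_counit, Adjunction.homEquiv_counit]
    exact hab
  rw [h2]

end Groth.Agent.Helper29.HomOCntA
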