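import Mathlib
import Groth.Agent.Lib.Helper29.ClExt
import Groth.Agent.Lib.Helper13.TensorUnit
import Groth.Agent.Lib.Helper13.HomShAff
import Groth.Agent.Lib.Helper13.QCohPush
import Groth.Agent.Lib.Helper29.HomOCntA

/-!
# The counit of `i_* ⊣ Hom(O_Z, -)` on sections over an affine open: injective with image the
sections killed by the ideal.
-/

set_option autoImplicit false
set_option linter.unusedSectionVars false
universe u

open CategoryTheory CategoryTheory.Limits AlgebraicGeometry Opposite TopologicalSpace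

namespace Groth.Agent.Helper29.HomOCntB

open Groth.Agent.Helper13.Tensor Groth.Agent.Helper13.HomShAff RefHull Groth.Agent.Lead.HomSh

variable {Z X : Scheme.{u}} (i : Z ⟶ X)

/-- `i_* O_Z` -/
noncomputable abbrev B : X.Modules :=
  (Scheme.Modules.pushforward i).obj (Coh.structureModule Z)

/-- a function on `i⁻¹ V` as a section of `i_* O_Z` over `V` -/
noncomputable def toSec (V : X.Opens) (s : Γ(Z, i ⁻¹ᵁ V)) : Γ(B i, V) := s

lemma smul_toSec (V : X.Opens) (r : Γ(X, V)) (s : Γ(Z, i ⁻¹ᵁ V)) :
    r • toSec i V s = toSec i V (i.app V r * s) := rfl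

/-- `r ↦ r • 1` -/
noncomputable def ell (V : X.Opens) : Γ(X, V) →ₗ[Γ(X, V)] Γ(B i, V) :=
  LinearMap.toSpanSingleton Γ(X, V) Γ(B i, V) (toSec i V 1)

lemma ell_apply (V : X.Opens) (r : Γ(X, V)) : ell i V r = toSec i V (i.app V r) := by
  show r • toSec i V 1 = _
  rw [smul_toSec, mul_one]

lemma ell_surjective (V : X.Opens) (h : Function.Surjective (i.app V)) :
    Function.Surjective (ell i V) := by
  intro s
  obtain ⟨r, hr⟩ := h (show Γ(Z, i ⁻¹ᵁ V) from s)
  exact ⟨r, (ell_apply i V r).trans (congrArg (toSec i V) hr)⟩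

lemma ker_ell (V : X.Opens) : LinearMap.ker (ell i V) = RingHom.ker (i.app V).hom := by
  ext r
  rw [LinearMap.mem_ker, RingHom.mem_ker, ell_apply]
  exact Iff.rfl

/-- for `s` killed by the kernel, a linear map `Γ(i_* O_Z, V) → Γ(F, V)` sending `1` to `s`. -/
lemma exists_lin (F : X.Modules) (V : X.Opens) (h : Function.Surjective (i.app V)) (s : Γ(F, V))
    (hs : ∀ a : Γ(X, V), i.app V a = 0 → a • s = 0) :
    ∃ l : Γ(B i, V) →ₗ[Γ(X, V)] Γ(F, V), l (toSec i V 1) = s := by
  let g : Γ(X, V) →ₗ[Γ(X, V)] Γ(F, V) := LinearMap.toSpanSingleton _ _ s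
  have hle : LinearMap.ker (ell i V) ≤ LinearMap.ker g := by
    intro a ha
    rw [ker_ell] at ha
    rw [LinearMap.mem_ker]
    exact hs a ha
  let e := LinearMap.quotKerEquivOfSurjective (ell i V) (ell_surjective i V h)
  refine ⟨(Submodule.liftQ _ g hle).comp e.symm.toLinearMap, ?_⟩
  have h1 : e.symm (toSec i V 1) = Submodule.Quotient.mk 1 := by
    apply e.injective
    rw [e.apply_symm_apply]
    show _ = ell i V 1
    rw [ell_apply, map_one]
  show Submodule.liftQ _ g hle (e.symm (toSec i V 1)) = s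
  rw [h1, Submodule.liftQ_apply]
  exact one_smul _ _

/-- the global section `1` of `i_* O_Z`. -/
noncomputable def oneSec : (B i).sections :=
  PresheafOfModules.sectionsMk (fun U => (toSec i U.unop 1 : Γ(B i, U.unop)))
    (fun U V f => by
      exact map_one (Z.presheaf.map ((Opens.map i.base).op.map f)).hom)

/-- `q : O_X ⟶ i_* O_Z`. -/
noncomputable def q : Coh.structureModule X ⟶ B i := (B i).unitHomEquiv.symm (oneSec i)

lemma q_app_one (U : X.Opens) :
    (q i).app U (show Γ(Coh.structureModule X, U) from (1 : Γ(X, U))) = toSec i U 1 := by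
  have h := (B i).unitHomEquiv.apply_symm_apply (oneSec i)
  exact congrArg (fun s : (B i).sections => s.val (op U)) h


section Main

variable [IsClosedImmersion i] [Dual3.HasHomO i]

lemma smul_push_eq_zero (G : Z.Modules) (V : X.Opens) (r : Γ(X, V)) (hr : i.app V r = 0)
    (σ : Γ((Scheme.Modules.pushforward i).obj G, V)) : r • σ = 0 := by
  have h : r • σ = ((i.app V r) • (show Γ(G, i ⁻¹ᵁ V) from σ) : Γ(G, i ⁻¹ᵁ V)) := rfl
  rw [h, hr, zero_smul]
  rfl

/-- any map from some `i_* G₀` to `F` factors through the counit. -/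
lemma exists_counit_eq (F : X.Modules) (G₀ : Z.Modules) (P : X.Modules)
    (κ : (Scheme.Modules.pushforward i).obj G₀ ≅ P) (ψ' : P ⟶ F) (U : X.Opens) (t : Γ(P, U)) :
    ∃ σ : Γ((Scheme.Modules.pushforward i).obj ((Dual3.homO i).obj F), U),
      ((Dual3.homOAdj i).counit.app F).app U σ = ψ'.app U t := by
  let β := (Dual3.homOAdj i).homEquiv _ _ (κ.hom ≫ ψ')
  have h : (Scheme.Modules.pushforward i).map β ≫ (Dual3.homOAdj i).counit.app F =
      κ.hom ≫ ψ' := by
    exact ((Dual3.homOAdj i).homEquiv_counit (g := β)).symm.trans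
      (Equiv.symm_apply_apply _ _)
  refine ⟨((Scheme.Modules.pushforward i).map β).app U (κ.inv.app U t), ?_⟩
  have h2 : (κ.inv ≫ (Scheme.Modules.pushforward i).map β ≫ (Dual3.homOAdj i).counit.app F) =
      ψ' := by rw [h, Iso.inv_hom_id_assoc]
  have h3 := congrArg (fun φ : P ⟶ F => φ.app U t) h2
  simpa only [Scheme.Modules.Hom.comp_app, ConcreteCategory.comp_apply] using h3

theorem range_counit (F : X.Modules) (U : X.Opens) (hU : IsAffineOpen U) (s : Γ(F, U)) :
    (∃ σ : Γ((Scheme.Modules.pushforward i).obj ((Dual3.homO i).obj F), U),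
      ((Dual3.homOAdj i).counit.app F).app U σ = s) ↔
      ∀ a : Γ(X, U), i.app U a = 0 → a • s = 0 := by
  constructor
  · rintro ⟨σ, rfl⟩ a ha
    rw [← Scheme.Modules.Hom.app_smul, smul_push_eq_zero i _ U a ha σ, map_zero]
  · intro hs
    haveI : (Coh.structureModule Z).IsQuasicoherent :=
      Groth.Agent.Helper13.QCoh.isQuasicoherent_unit Z
    haveI : (B i).IsQuasicoherent :=
      Groth.Agent.Helper13.QCohPush.isQuasicoherent_pushforward i _
    obtain ⟨l, hl⟩ := exists_lin i F U (i.app_surjective U hU) s hs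
    let N : X.Modules := homSh (B i) F
    let g : Γ(N, U) := (evEquiv (F := B i) (G := F) hU).symm l
    have hg : evalSec g (toSec i U 1) = s := by
      have h1 : evLin U g = l := (evEquiv (F := B i) (G := F) hU).apply_symm_apply l
      rw [← evLin_apply, h1, hl]
    let ψ' : CohB1.tensorMod N (Coh.structureModule X) ⟶ F :=
      Groth.Agent.Helper13.Tensor.map (𝟙 N) (q i) ≫ ev (B i) F
    let κ : (Scheme.Modules.pushforward i).obj
        ((Groth.Agent.Helper29.ClExt.T i (Coh.structureModule Z)).obj F) ≅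
        CohB1.tensorMod N (Coh.structureModule X) :=
      (Groth.Agent.Helper29.ClExt.Θ i (Coh.structureModule Z)).app F ≪≫ (rid N).symm
    obtain ⟨σ, hσ⟩ := exists_counit_eq i F _ _ κ ψ' U
      (tmul N _ g (show Γ(Coh.structureModule X, U) from (1 : Γ(X, U))))
    refine ⟨σ, hσ.trans ?_⟩
    show (ev (B i) F).app U ((Groth.Agent.Helper13.Tensor.map (𝟙 N) (q i)).app U (tmul N _ g _)) = s
    rw [map_app_tmul, q_app_one, ev_app_tmul]
    exact hg

end Main

end Groth.Agent.Helper29.HomOCntB
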