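import Mathlib
import Groth.Agent.Lib.Helper29.HorI
import Groth.Agent.Lib.Helper29.QuillenF

set_option autoImplicit false
set_option linter.unusedSectionVars false
set_option linter.unusedVariables false

namespace Groth.Agent.Helper29.HorJ

open Polynomial LaurentPolynomial TensorProduct HorE HorG HorH HorI QuillenF

universe u

theorem retract_equiv {R : Type*} [CommRing R] {W M Q : Type*} [AddCommGroup W] [Module R W]
    [AddCommGroup M] [Module R M] [AddCommGroup Q] [Module R Q]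
    (f : W →ₗ[R] M) (g : M →ₗ[R] W) (hfg : f ∘ₗ g = LinearMap.id)
    (q : W →ₗ[R] Q) (i : Q →ₗ[R] W) (hqi : q ∘ₗ i = LinearMap.id)
    (a b : W →ₗ[R] W) (hab : a ∘ₗ b = i ∘ₗ q) (hba : b ∘ₗ a = g ∘ₗ f) :
    Nonempty (M ≃ₗ[R] Q) := by
  have hfg' : ∀ x, f (g x) = x := fun x => LinearMap.congr_fun hfg x
  have hqi' : ∀ x, q (i x) = x := fun x => LinearMap.congr_fun hqi x
  have hab' : ∀ x, a (b x) = i (q x) := fun x => LinearMap.congr_fun hab x
  have hba' : ∀ x, b (a x) = g (f x) := fun x => LinearMap.congr_fun hba x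
  refine ⟨LinearEquiv.ofLinearMap (q ∘ₗ a ∘ₗ g) (f ∘ₗ b ∘ₗ i) ?_ ?_⟩
  · apply LinearMap.ext
    intro x
    simp only [LinearMap.comp_apply, LinearMap.id_apply]
    -- q a g f b i x
    rw [← hba', hab', hab', hqi', hqi', hqi']
  · apply LinearMap.ext
    intro x
    simp only [LinearMap.comp_apply, LinearMap.id_apply]
    rw [← hab', hba', hba', hfg', hfg', hfg']


variable {A : Type u} [CommRing A]

/-- the extended module attached to a constant idempotent -/
theorem extended_retract {r : ℕ} (ε₀ : Matrix (Fin r) (Fin r) A) (hε₀ : ε₀ * ε₀ = ε₀) :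
    ∃ (q : (Fin r → A[X]) →ₗ[A[X]] A[X] ⊗[A] (LinearMap.range (Matrix.toLin' ε₀)))
      (i : A[X] ⊗[A] (LinearMap.range (Matrix.toLin' ε₀)) →ₗ[A[X]] (Fin r → A[X])),
      q ∘ₗ i = LinearMap.id ∧ i ∘ₗ q = Matrix.toLin' (ε₀.map (Polynomial.C : A →+* A[X])) := by
  set p : (Fin r → A) →ₗ[A] (Fin r → A) := Matrix.toLin' ε₀ with hp
  have hpp : ∀ v, p (p v) = p v := by
    intro v
    rw [hp, ← LinearMap.comp_apply, ← Matrix.toLin'_mul, hε₀]
  set fP : (Fin r → A) →ₗ[A] LinearMap.range p := p.rangeRestrict with hfP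
  set gP : LinearMap.range p →ₗ[A] (Fin r → A) := (LinearMap.range p).subtype with hgP
  have hfgP : fP ∘ₗ gP = LinearMap.id := by
    apply LinearMap.ext
    rintro ⟨x, y, rfl⟩
    apply Subtype.ext
    exact hpp y
  have hgfP : gP ∘ₗ fP = p := by
    apply LinearMap.ext
    intro v
    rfl
  refine ⟨uMap A[X] fP, cMap A[X] gP, ?_, ?_⟩
  · apply LinearMap.ext
    intro x
    exact u_c A[X] fP gP hfgP x
  · apply LinearMap.ext
    intro v
    rw [LinearMap.comp_apply, c_u, hgfP, hp, LinearMap.toMatrix'_toLin', Matrix.toLin'_apply]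
    rfl

/-- **Horrocks–Quillen**: a finitely generated projective `A[X]`-module which extends to the
projective line is extended from `A`. -/
theorem core {M : Type u} [AddCommGroup M] [Module A[X] M] [Module.Finite A[X] M]
    [Module.Projective A[X] M]
    {N : Type u} [AddCommGroup N] [Module A[X] N] [Module.Finite A[X] N]
    [Module.Projective A[X] N]
    (e : A[T;T⁻¹] ⊗[A[X]] M → A[T;T⁻¹] ⊗[A[X]] N)
    (hadd : ∀ x y, e (x + y) = e x + e y)
    (hsmul : ∀ (b : A[T;T⁻¹]) x, e (b • x) = invert b • e x)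
    (hbij : Function.Bijective e) :
    ∃ (r : ℕ) (ε₀ : Matrix (Fin r) (Fin r) A), ε₀ * ε₀ = ε₀ ∧
      Nonempty (M ≃ₗ[A[X]] A[X] ⊗[A] (LinearMap.range (Matrix.toLin' ε₀))) := by
  obtain ⟨r, f, g, -, -, hfg⟩ := Module.Finite.exists_comp_eq_id_of_projective A[X] M
  obtain ⟨r', f', g', -, -, hfg'⟩ := Module.Finite.exists_comp_eq_id_of_projective A[X] N
  obtain ⟨H, H', h1, h2, h4, h5, h6⟩ := exists_H f g hfg f' g' hfg' e hadd hsmul hbij
  set E := LinearMap.toMatrix' (g ∘ₗ f) with hEdef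
  set E' := LinearMap.toMatrix' (g' ∘ₗ f') with hE'def
  have hgfg : ∀ (f : (Fin r → A[X]) →ₗ[A[X]] M) (g : M →ₗ[A[X]] (Fin r → A[X])),
      f ∘ₗ g = LinearMap.id → (g ∘ₗ f) ∘ₗ (g ∘ₗ f) = g ∘ₗ f := by
    intro f g h
    rw [LinearMap.comp_assoc, ← LinearMap.comp_assoc f g f, h, LinearMap.id_comp]
  have hE : E * E = E := by
    rw [hEdef, ← LinearMap.toMatrix'_comp, hgfg f g hfg]
  have hE' : E' * E' = E' := by
    rw [hE'def, ← LinearMap.toMatrix'_comp]
    congr 1
    rw [LinearMap.comp_assoc, ← LinearMap.comp_assoc f' g' f', hfg', LinearMap.id_comp]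
  obtain ⟨J, K, F, hdat⟩ := exists_datum E E' H H' hE hE' h1 h2 h4 h5 h6
  obtain ⟨a, b, hab, hba⟩ := global_of_datum hdat
  set ε₀ : Matrix (Fin r) (Fin r) A := E.map (evalRingHom (0 : A)) with hε₀def
  have hε₀ : ε₀ * ε₀ = ε₀ := by rw [hε₀def, ← Matrix.map_mul, hE]
  have hconst : (Polynomial.C.comp (evalRingHom (0 : A))).mapMatrix E =
      ε₀.map (Polynomial.C : A →+* A[X]) := by
    apply Matrix.ext
    intro i j
    simp [hε₀def, Matrix.map_apply]
  obtain ⟨q, i, hqi, hiq⟩ := extended_retract ε₀ hε₀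
  refine ⟨r, ε₀, hε₀, ?_⟩
  refine retract_equiv f g hfg q i hqi (Matrix.toLin' a) (Matrix.toLin' b) ?_ ?_
  · rw [← Matrix.toLin'_mul, hab, hconst, hiq]
  · rw [← Matrix.toLin'_mul, hba, hEdef, Matrix.toLin'_toMatrix']

end Groth.Agent.Helper29.HorJ
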