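import Mathlib
import Groth.Agent.Lib.Helper29.HorJ

set_option autoImplicit false
set_option linter.unusedSectionVars false
set_option linter.unusedVariables false

namespace Groth.Agent.Helper29.HorK

open Polynomial LaurentPolynomial TensorProduct HorJ

universe u

variable (A : Type u) [CommRing A]

instance towerL : IsScalarTower A A[X] A[T;T⁻¹] := by
  apply IsScalarTower.of_algebraMap_eq'
  apply RingHom.ext
  intro a
  rw [RingHom.comp_apply, LaurentPolynomial.algebraMap_eq_toLaurent, Polynomial.algebraMap_apply,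
    Algebra.algebraMap_self_apply, toLaurent_C, LaurentPolynomial.C_eq_algebraMap]

variable {A}
variable {P : Type u} [AddCommGroup P] [Module A P]
  {M : Type u} [AddCommGroup M] [Module A[X] M]

/-- `σ ⊗ id` on `A[T;T⁻¹] ⊗[A] P`. -/
noncomputable def tau : A[T;T⁻¹] ⊗[A] P →ₗ[A] A[T;T⁻¹] ⊗[A] P :=
  TensorProduct.map (invert : A[T;T⁻¹] ≃ₐ[A] A[T;T⁻¹]).toLinearMap LinearMap.id

theorem tau_tmul (b : A[T;T⁻¹]) (p : P) : tau (b ⊗ₜ[A] p) = invert b ⊗ₜ[A] p := rfl

theorem tau_smul (b : A[T;T⁻¹]) (x : A[T;T⁻¹] ⊗[A] P) : tau (b • x) = invert b • tau x := by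
  induction x using TensorProduct.induction_on with
  | zero => simp
  | add x y hx hy => rw [smul_add, map_add, hx, hy, map_add, smul_add]
  | tmul b' p =>
    rw [TensorProduct.smul_tmul', tau_tmul, tau_tmul, TensorProduct.smul_tmul', smul_eq_mul,
      smul_eq_mul, map_mul]

theorem tau_tau (x : A[T;T⁻¹] ⊗[A] P) : tau (tau x) = x := by
  induction x using TensorProduct.induction_on with
  | zero => simp
  | add x y hx hy => rw [map_add, map_add, hx, hy]
  | tmul b' p =>
    rw [tau_tmul, tau_tmul]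
    congr 1
    exact involutive_invert b'

/-- the converse direction: an extended module extends to the projective line -/
theorem exists_semilinear (eqv : M ≃ₗ[A[X]] A[X] ⊗[A] P) :
    ∃ e : (A[T;T⁻¹] ⊗[A[X]] M) →ₛₗ[(LaurentPolynomial.invert (R := A)).toRingEquiv.toRingHom]
        (A[T;T⁻¹] ⊗[A[X]] M), Function.Bijective e := by
  let Φ : A[T;T⁻¹] ⊗[A[X]] M ≃ₗ[A[T;T⁻¹]] A[T;T⁻¹] ⊗[A] P :=
    (TensorProduct.AlgebraTensorModule.congr (LinearEquiv.refl A[T;T⁻¹] A[T;T⁻¹]) eqv) ≪≫ₗ
      TensorProduct.AlgebraTensorModule.cancelBaseChange A A[X] A[T;T⁻¹] A[T;T⁻¹] P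
  let e : (A[T;T⁻¹] ⊗[A[X]] M) →ₛₗ[(LaurentPolynomial.invert (R := A)).toRingEquiv.toRingHom]
      (A[T;T⁻¹] ⊗[A[X]] M) :=
    { toFun := fun x => Φ.symm (tau (Φ x))
      map_add' := by
        intro x y
        rw [map_add, map_add, map_add]
      map_smul' := by
        intro b x
        rw [map_smul, tau_smul, map_smul]
        rfl }
  have hee : ∀ x, e (e x) = x := by
    intro x
    show Φ.symm (tau (Φ (Φ.symm (tau (Φ x))))) = x
    rw [LinearEquiv.apply_symm_apply, tau_tau, LinearEquiv.symm_apply_apply]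
  exact ⟨e, Function.bijective_iff_has_inverse.mpr ⟨e, hee, hee⟩⟩

theorem main17853
    (A : Type u) [CommRing A] (M : Type u) [AddCommGroup M] [Module A[X] M]
    [Module.Finite A[X] M] [Module.Projective A[X] M] :
    (∃ (P : Type u) (_ : AddCommGroup P) (_ : Module A P), Nonempty (M ≃ₗ[A[X]] (A[X] ⊗[A] P))) ↔
      ∃ (N : Type u) (_ : AddCommGroup N) (_ : Module A[X] N),
        Module.Finite A[X] N ∧ Module.Projective A[X] N ∧
        ∃ e : (A[T;T⁻¹] ⊗[A[X]] M) →ₛₗ[(LaurentPolynomial.invert (R := A)).toRingEquiv.toRingHom]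
            (A[T;T⁻¹] ⊗[A[X]] N), Function.Bijective e := by
  constructor
  · rintro ⟨P, _, _, ⟨eqv⟩⟩
    exact ⟨M, inferInstance, inferInstance, inferInstance, inferInstance, exists_semilinear eqv⟩
  · rintro ⟨N, _, _, hfin, hproj, e, he⟩
    obtain ⟨r, ε₀, -, ⟨eqv⟩⟩ := core (M := M) (N := N) e e.map_add
      (fun b x => e.map_smulₛₗ b x) he
    exact ⟨LinearMap.range (Matrix.toLin' ε₀), inferInstance, inferInstance, ⟨eqv⟩⟩

end Groth.Agent.Helper29.HorK
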