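import Mathlib
import Groth.Agent.Lib.Helper29.HorJ

set_option autoImplicit false
set_option linter.unusedSectionVars false
set_option linter.unusedVariables false
set_option linter.style.haveILetI false

namespace Groth.Agent.Helper29.HorL

open Polynomial LaurentPolynomial TensorProduct HorJ

universe u

variable {R : Type u} [CommRing R]

theorem free_localized_of_extended (g : R) (Q : Type u) [AddCommGroup Q] [Module R Q]
    (P : Type u) [AddCommGroup P] [Module R[X] P] (eqv : P ≃ₗ[R[X]] R[X] ⊗[R] Q)
    [Module.Free (Localization.Away g) (LocalizedModule.Away g Q)] :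
    Module.Free (Localization.Away (C g : R[X]))
      (LocalizedModule (Submonoid.powers (C g : R[X])) P) := by
  set S' := Localization.Away (C g : R[X]) with hS'
  set Rg := Localization.Away g with hRg
  have hunit : IsUnit (algebraMap R S' g) := by
    have : algebraMap R S' g = algebraMap R[X] S' (C g) := by
      rw [IsScalarTower.algebraMap_apply R R[X] S']
      rfl
    rw [this]
    exact IsLocalization.Away.algebraMap_isUnit (Polynomial.C g)
  letI algRgS' : Algebra Rg S' := (IsLocalization.Away.lift g hunit).toAlgebra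
  haveI : IsScalarTower R Rg S' := by
    apply IsScalarTower.of_algebraMap_eq'
    exact (IsLocalization.Away.lift_comp g hunit).symm
  have e1 : LocalizedModule (Submonoid.powers (C g : R[X])) P ≃ₗ[S'] S' ⊗[R[X]] P :=
    (LocalizedModule.isBaseChange (Submonoid.powers (C g : R[X])) P).equiv.symm
  have e2 : S' ⊗[R[X]] P ≃ₗ[S'] S' ⊗[R[X]] (R[X] ⊗[R] Q) :=
    TensorProduct.AlgebraTensorModule.congr (LinearEquiv.refl S' S') eqv
  have e3 : S' ⊗[R[X]] (R[X] ⊗[R] Q) ≃ₗ[S'] S' ⊗[R] Q :=
    TensorProduct.AlgebraTensorModule.cancelBaseChange R R[X] S' S' Q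
  have e4 : S' ⊗[Rg] (Rg ⊗[R] Q) ≃ₗ[S'] S' ⊗[R] Q :=
    TensorProduct.AlgebraTensorModule.cancelBaseChange R Rg S' S' Q
  have e5 : Rg ⊗[R] Q ≃ₗ[Rg] LocalizedModule.Away g Q :=
    (LocalizedModule.isBaseChange (Submonoid.powers g) Q).equiv
  haveI : Module.Free Rg (Rg ⊗[R] Q) := Module.Free.of_equiv e5.symm
  haveI : Module.Free S' (S' ⊗[Rg] (Rg ⊗[R] Q)) := inferInstance
  exact Module.Free.of_equiv (e4 ≪≫ₗ e3.symm ≪≫ₗ e2.symm ≪≫ₗ e1.symm)

/-- a finitely generated projective module is free on a finite cover by basic opens -/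
theorem exists_free_cover (Q : Type u) [AddCommGroup Q] [Module R Q] [Module.Finite R Q]
    [Module.Projective R Q] :
    ∃ (n : ℕ) (g : Fin n → R), Ideal.span (Set.range g) = ⊤ ∧
      ∀ i, Module.Free (Localization.Away (g i)) (LocalizedModule.Away (g i) Q) := by
  classical
  haveI : Module.FinitePresentation R Q := Module.finitePresentation_of_projective R Q
  set G : Set R := {r | Module.Free (Localization.Away r) (LocalizedModule.Away r Q)} with hG
  have htop : Ideal.span G = ⊤ := by
    by_contra hne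
    obtain ⟨m, hm, hle⟩ := Ideal.exists_le_maximal _ hne
    haveI := hm.isPrime
    haveI : Module.Free (Localization.AtPrime m) (LocalizedModule m.primeCompl Q) :=
      Module.free_of_flat_of_isLocalRing
    obtain ⟨r, hr, hfree, -⟩ := Module.FinitePresentation.exists_free_localizedModule_powers
      m.primeCompl (LocalizedModule.mkLinearMap m.primeCompl Q) (Localization.AtPrime m)
    exact hr (hle (Ideal.subset_span hfree))
  obtain ⟨s', hs'G, hs'top⟩ := (Ideal.span_eq_top_iff_finite G).mp htop
  refine ⟨s'.card, fun i => (s'.equivFin.symm i : R), ?_, ?_⟩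
  · have : Set.range (fun i => (s'.equivFin.symm i : R)) = (s' : Set R) := by
      ext x
      constructor
      · rintro ⟨i, rfl⟩
        exact (s'.equivFin.symm i).2
      · intro hx
        exact ⟨s'.equivFin ⟨x, hx⟩, by simp⟩
    rw [this, hs'top]
  · intro i
    exact hs'G (s'.equivFin.symm i).2


theorem projective_range_of_idempotent {r : ℕ} (ε₀ : Matrix (Fin r) (Fin r) R)
    (hε₀ : ε₀ * ε₀ = ε₀) : Module.Projective R (LinearMap.range (Matrix.toLin' ε₀)) := by
  set p : (Fin r → R) →ₗ[R] (Fin r → R) := Matrix.toLin' ε₀ with hp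
  have hpp : ∀ v, p (p v) = p v := by
    intro v
    rw [hp, ← LinearMap.comp_apply, ← Matrix.toLin'_mul, hε₀]
  refine Module.Projective.of_split (LinearMap.range p).subtype p.rangeRestrict ?_
  apply LinearMap.ext
  rintro ⟨x, y, rfl⟩
  apply Subtype.ext
  exact hpp y

theorem main15499
    (R : Type u) [CommRing R]
    (P : Type u) [AddCommGroup P] [Module R[X] P] [Module.Finite R[X] P]
    [Module.Projective R[X] P]
    (P' : Type u) [AddCommGroup P'] [Module R[X] P'] [Module.Finite R[X] P']
    [Module.Projective R[X] P']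
    (e : R[T;T⁻¹] ⊗[R[X]] P ≃+ R[T;T⁻¹] ⊗[R[X]] P')
    (he : ∀ (a : R[T;T⁻¹]) (m : R[T;T⁻¹] ⊗[R[X]] P),
      e (a • m) = LaurentPolynomial.invert a • e m) :
    ∃ (n : ℕ) (g : Fin n → R), Ideal.span (Set.range g) = ⊤ ∧
      ∀ i, Module.Free (Localization.Away (Polynomial.C (g i) : R[X]))
        (LocalizedModule (Submonoid.powers (Polynomial.C (g i) : R[X])) P) := by
  obtain ⟨r, ε₀, hε₀, ⟨eqv⟩⟩ := core (M := P) (N := P') e e.map_add he e.bijective
  haveI := projective_range_of_idempotent ε₀ hε₀
  obtain ⟨n, g, hg, hfree⟩ := exists_free_cover (R := R) (LinearMap.range (Matrix.toLin' ε₀))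
  refine ⟨n, g, hg, fun i => ?_⟩
  haveI := hfree i
  exact free_localized_of_extended (g i) (LinearMap.range (Matrix.toLin' ε₀)) P eqv

end Groth.Agent.Helper29.HorL
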