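import Mathlib
import Groth.Agent.Lib.Helper24.Horseshoe2

/-!
# Relative horseshoe lemma

Given a monomorphism `i : Y ⟶ Z` and an injective resolution `I` of `Y`, there is an injective
resolution `J` of `Z` and a monomorphism of complexes `I ⟶ J` lying over `i`.
-/

set_option autoImplicit false

universe v u

open CategoryTheory CategoryTheory.Limits

namespace Groth.Agent.Helper29.HsA

variable {C : Type u} [Category.{v} C] [Abelian C]

lemma quasiIso_biprod_map_id {K L M : CochainComplex C ℕ} (α : K ⟶ L) [QuasiIso α] :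
    QuasiIso (biprod.map α (𝟙 M)) := by
  rw [quasiIso_iff]
  intro n
  rw [quasiIsoAt_iff_isIso_homologyMap]
  have hα : IsIso (HomologicalComplex.homologyMap α n) := by
    have := (quasiIso_iff α).mp inferInstance n
    rwa [quasiIsoAt_iff_isIso_homologyMap] at this
  refine ⟨HomologicalComplex.homologyMap (biprod.fst : L ⊞ M ⟶ L) n ≫
      inv (HomologicalComplex.homologyMap α n) ≫
      HomologicalComplex.homologyMap (biprod.inl : K ⟶ K ⊞ M) n +
    HomologicalComplex.homologyMap (biprod.snd : L ⊞ M ⟶ M) n ≫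
      HomologicalComplex.homologyMap (biprod.inr : M ⟶ K ⊞ M) n, ?_, ?_⟩
  · rw [Preadditive.comp_add]
    have h1 : HomologicalComplex.homologyMap (biprod.map α (𝟙 M)) n ≫
        HomologicalComplex.homologyMap (biprod.fst : L ⊞ M ⟶ L) n =
        HomologicalComplex.homologyMap (biprod.fst : K ⊞ M ⟶ K) n ≫
          HomologicalComplex.homologyMap α n := by
      rw [← HomologicalComplex.homologyMap_comp, ← HomologicalComplex.homologyMap_comp,
        biprod.map_fst]
    have h2 : HomologicalComplex.homologyMap (biprod.map α (𝟙 M)) n ≫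
        HomologicalComplex.homologyMap (biprod.snd : L ⊞ M ⟶ M) n =
        HomologicalComplex.homologyMap (biprod.snd : K ⊞ M ⟶ M) n := by
      rw [← HomologicalComplex.homologyMap_comp, biprod.map_snd, Category.comp_id]
    rw [← Category.assoc, h1, Category.assoc, IsIso.hom_inv_id_assoc, ← Category.assoc, h2,
      ← HomologicalComplex.homologyMap_comp, ← HomologicalComplex.homologyMap_comp,
      ← HomologicalComplex.homologyMap_add, biprod.total, HomologicalComplex.homologyMap_id]
  · rw [Preadditive.add_comp]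
    have h1 : HomologicalComplex.homologyMap (biprod.inl : K ⟶ K ⊞ M) n ≫
        HomologicalComplex.homologyMap (biprod.map α (𝟙 M)) n =
        HomologicalComplex.homologyMap α n ≫
          HomologicalComplex.homologyMap (biprod.inl : L ⟶ L ⊞ M) n := by
      rw [← HomologicalComplex.homologyMap_comp, ← HomologicalComplex.homologyMap_comp,
        biprod.inl_map]
    have h2 : HomologicalComplex.homologyMap (biprod.inr : M ⟶ K ⊞ M) n ≫
        HomologicalComplex.homologyMap (biprod.map α (𝟙 M)) n =
        HomologicalComplex.homologyMap (biprod.inr : M ⟶ L ⊞ M) n := by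
      rw [← HomologicalComplex.homologyMap_comp, biprod.inr_map, Category.id_comp]
    rw [Category.assoc, Category.assoc, h1, IsIso.inv_hom_id_assoc, Category.assoc, h2,
      ← HomologicalComplex.homologyMap_comp, ← HomologicalComplex.homologyMap_comp,
      ← HomologicalComplex.homologyMap_add, biprod.total, HomologicalComplex.homologyMap_id]

lemma injective_biprod_X {K L : CochainComplex C ℕ} (n : ℕ) [Injective (K.X n)]
    [Injective (L.X n)] : Injective ((K ⊞ L).X n) := by
  constructor
  intro A B a m hm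
  refine ⟨Injective.factorThru (a ≫ (biprod.fst : K ⊞ L ⟶ K).f n) m ≫
      (biprod.inl : K ⟶ K ⊞ L).f n +
    Injective.factorThru (a ≫ (biprod.snd : K ⊞ L ⟶ L).f n) m ≫
      (biprod.inr : L ⟶ K ⊞ L).f n, ?_⟩
  rw [Preadditive.comp_add, ← Category.assoc, ← Category.assoc, Injective.comp_factorThru,
    Injective.comp_factorThru, Category.assoc, Category.assoc, ← HomologicalComplex.comp_f,
    ← HomologicalComplex.comp_f, ← Preadditive.comp_add, ← HomologicalComplex.add_f_apply,
    biprod.total, HomologicalComplex.id_f, Category.comp_id]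

theorem rel_horseshoe [EnoughInjectives C] {Y Z : C} (i : Y ⟶ Z) [Mono i]
    (I : InjectiveResolution Y) :
    ∃ (J : InjectiveResolution Z) (φ : I.cocomplex ⟶ J.cocomplex), Mono φ ∧
      I.ι ≫ φ = (CochainComplex.single₀ C).map i ≫ J.ι := by
  let S : ShortComplex C := ShortComplex.mk i (cokernel.π i) (cokernel.condition i)
  have hS : S.ShortExact :=
    { exact := ShortComplex.exact_cokernel i, mono_f := ‹Mono i›, epi_g := inferInstanceAs (Epi (cokernel.π i)) }
  obtain ⟨T⟩ := Groth.Agent.Helper24.Horseshoe.horseshoe S hS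
  let I₁ : InjectiveResolution Y := T.I₁
  let I₂ : InjectiveResolution Z := T.I₂
  let f : I₁.cocomplex ⟶ I₂.cocomplex := T.f
  have hf : Mono f := T.shortExact.mono_f
  have hιf : I₁.ι ≫ f = (CochainComplex.single₀ C).map i ≫ I₂.ι := T.ι_f
  let α : I₁.cocomplex ⟶ I.cocomplex := InjectiveResolution.desc (𝟙 Y) I I₁
  have hα : I₁.ι ≫ α = I.ι := by
    have := InjectiveResolution.desc_commutes (𝟙 Y) I I₁
    rw [this, CategoryTheory.Functor.map_id, Category.id_comp]
  haveI : QuasiIso (I₁.ι ≫ α) := by rw [hα]; infer_instance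
  haveI : QuasiIso α := quasiIso_of_comp_left I₁.ι α
  let u : I₁.cocomplex ⟶ I.cocomplex ⊞ I₂.cocomplex := biprod.lift α (-f)
  haveI : Mono u := by
    apply Preadditive.mono_of_cancel_zero
    intro P g hg
    have h1 : g ≫ u ≫ biprod.snd = 0 := by rw [← Category.assoc, hg, zero_comp]
    have h2 : g ≫ f = 0 := by simpa [u] using h1
    exact zero_of_comp_mono f h2
  let q := cokernel.π u
  have hq : α ≫ biprod.inl ≫ q = f ≫ biprod.inr ≫ q := by
    have hu : u = α ≫ biprod.inl + (-f) ≫ biprod.inr := biprod.lift_eq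
    have h0 : u ≫ q = 0 := cokernel.condition u
    have h1 : (α ≫ biprod.inl + (-f) ≫ biprod.inr) ≫ q = 0 := by rw [← hu]; exact h0
    rw [Preadditive.add_comp, Category.assoc, Category.assoc, Preadditive.neg_comp,
      add_neg_eq_zero] at h1
    exact h1
  let SA : ShortComplex (CochainComplex C ℕ) := ShortComplex.mk u q (cokernel.condition u)
  have hSA : SA.ShortExact :=
    { exact := ShortComplex.exact_cokernel u, mono_f := ‹Mono u›, epi_g := inferInstanceAs (Epi (cokernel.π u)) }
  let vv : I₁.cocomplex ⟶ I₁.cocomplex ⊞ I₂.cocomplex := biprod.lift (𝟙 _) (-f)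
  let ww : I₁.cocomplex ⊞ I₂.cocomplex ⟶ I₂.cocomplex := biprod.desc f (𝟙 _)
  have hvw : vv ≫ ww = 0 := by simp [vv, ww]
  let SB : ShortComplex (CochainComplex C ℕ) := ShortComplex.mk vv ww hvw
  have hSB : SB.ShortExact := by
    refine ShortComplex.Splitting.shortExact ⟨biprod.fst, biprod.inr, ?_, ?_, ?_⟩
    · simp [SB, vv]
    · simp [SB, ww]
    · apply biprod.hom_ext' <;> apply biprod.hom_ext <;> simp [SB, vv, ww]
  let φm : SB ⟶ SA :=
    { τ₁ := 𝟙 _
      τ₂ := biprod.map α (𝟙 _)
      τ₃ := biprod.inr ≫ q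
      comm₁₂ := by
        simp only [SB, SA, vv, u]
        rw [Category.id_comp]
        apply biprod.hom_ext <;> simp
      comm₂₃ := by
        apply biprod.hom_ext'
        · simp [SB, SA, ww, hq]
        · simp [SB, SA, ww] }
  haveI : QuasiIso φm.τ₂ := quasiIso_biprod_map_id α
  haveI : QuasiIso φm.τ₁ := inferInstanceAs (QuasiIso (𝟙 I₁.cocomplex))
  have hτ₃ : QuasiIso (biprod.inr ≫ q : I₂.cocomplex ⟶ cokernel u) :=
    HomologicalComplex.HomologySequence.quasiIso_τ₃ φm hSB hSA inferInstance inferInstance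
  have hinj : ∀ n, Injective ((cokernel u).X n) := by
    intro n
    have h := hSA.map_of_exact (HomologicalComplex.eval C (ComplexShape.up ℕ) n)
    haveI : Mono (SA.map (HomologicalComplex.eval C (ComplexShape.up ℕ) n)).f := h.mono_f
    haveI : Epi (SA.map (HomologicalComplex.eval C (ComplexShape.up ℕ) n)).g := h.epi_g
    haveI : Injective (SA.map (HomologicalComplex.eval C (ComplexShape.up ℕ) n)).X₁ :=
      I₁.injective n
    let sp := ShortComplex.Splitting.ofExactOfRetraction _ h.exact
      (Injective.factorThru (𝟙 _) (SA.map (HomologicalComplex.eval C (ComplexShape.up ℕ) n)).f)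
      (by simp) inferInstance
    haveI : Injective (SA.map (HomologicalComplex.eval C (ComplexShape.up ℕ) n)).X₂ :=
      injective_biprod_X (K := I.cocomplex) (L := I₂.cocomplex) n
    exact Retract.injective ⟨sp.s, (SA.map (HomologicalComplex.eval C (ComplexShape.up ℕ) n)).g, sp.s_g⟩
  have hφ : Mono (biprod.inl ≫ q : I.cocomplex ⟶ cokernel u) := by
    apply Preadditive.mono_of_cancel_zero
    intro P g hg
    have hg' : (g ≫ biprod.inl) ≫ SA.g = 0 := by simpa [SA] using hg
    have hy := hSA.exact.lift_f (g ≫ biprod.inl) hg'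
    set y := hSA.exact.lift (g ≫ biprod.inl) hg' with hydef
    have h2 : y ≫ f = 0 := by
      have := congrArg (· ≫ biprod.snd) hy
      simpa [SA, u] using this
    have hy0 : y = 0 := zero_of_comp_mono f h2
    have h3 : g ≫ (biprod.inl : I.cocomplex ⟶ I.cocomplex ⊞ I₂.cocomplex) = 0 := by
      rw [← hy, hy0, zero_comp]
    have := congrArg (· ≫ biprod.fst) h3
    simpa using this
  haveI : QuasiIso (I₂.ι ≫ biprod.inr ≫ q) := by
    haveI := hτ₃
    infer_instance
  refine ⟨{ cocomplex := cokernel u, injective := hinj, ι := I₂.ι ≫ biprod.inr ≫ q },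
    biprod.inl ≫ q, hφ, ?_⟩
  change I.ι ≫ biprod.inl ≫ q = (CochainComplex.single₀ C).map i ≫ I₂.ι ≫ biprod.inr ≫ q
  rw [← hα, Category.assoc, hq, ← Category.assoc, hιf, Category.assoc]

end Groth.Agent.Helper29.HsA
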