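import Mathlib
import Groth.Prelude.Def_SpSeq
import Groth.Agent.Lib.Helper29.HsA

/-!
# Filtered injective resolutions of a finitely filtered object
-/

set_option autoImplicit false

universe v u

open CategoryTheory CategoryTheory.Limits ZeroObject

namespace Groth.Agent.Helper29.HsB

variable {C : Type u} [Category.{v} C] [Abelian C]

/-- the zero resolution of a zero object -/
noncomputable def zeroRes {Y : C} (hY : IsZero Y) : InjectiveResolution Y where
  cocomplex := 0
  injective := fun n =>
    (Functor.map_isZero (HomologicalComplex.eval C (ComplexShape.up ℕ) n)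
      (isZero_zero (CochainComplex C ℕ))).injective
  ι := 0
  quasiIso := by
    have h1 : IsZero ((CochainComplex.single₀ C).obj Y) :=
      Functor.map_isZero (CochainComplex.single₀ C) hY
    haveI : IsIso (0 : (CochainComplex.single₀ C).obj Y ⟶ (0 : CochainComplex C ℕ)) :=
      ⟨0, h1.eq_of_src _ _, (isZero_zero _).eq_of_src _ _⟩
    infer_instance

lemma isZero_step_of_eq_bot (K : SpSeq.FilObj C) (i : ℤ) (h : K.fil i = ⊥) :
    IsZero (K.step i) := by
  unfold SpSeq.FilObj.step
  rw [h]
  exact IsZero.of_iso (isZero_zero C) Subobject.botCoeIsoZero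

lemma isIso_arrow_of_eq_top (K : SpSeq.FilObj C) (i : ℤ) (h : K.fil i = ⊤) :
    IsIso (K.fil i).arrow := (Subobject.isIso_arrow_iff_eq_top _).mpr h

/-- transport a resolution of a full step to a resolution of the object -/
noncomputable def topRes (K : SpSeq.FilObj C) (i : ℤ) (h : K.fil i = ⊤)
    (R : InjectiveResolution (K.step i)) : InjectiveResolution K.obj :=
  haveI := isIso_arrow_of_eq_top K i h
  { cocomplex := R.cocomplex
    injective := R.injective
    ι := (CochainComplex.single₀ C).map (inv (K.fil i).arrow) ≫ R.ι }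

/-- restrict a resolution of the object to a resolution of a full step -/
noncomputable def pullRes (K : SpSeq.FilObj C) (X : InjectiveResolution K.obj) (i : ℤ)
    (h : K.fil i = ⊤) : InjectiveResolution (K.step i) :=
  haveI := isIso_arrow_of_eq_top K i h
  { cocomplex := X.cocomplex
    injective := X.injective
    ι := (CochainComplex.single₀ C).map (K.fil i).arrow ≫ X.ι }

lemma cond_of_mk (K : SpSeq.FilObj C) (X : InjectiveResolution K.obj) (i : ℤ)
    (R : InjectiveResolution (K.step i)) (ψ : R.cocomplex ⟶ X.cocomplex) [Mono ψ]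
    (hψ : R.ι ≫ ψ = (CochainComplex.single₀ C).map (K.fil i).arrow ≫ X.ι) :
    (∀ j : ℕ, Injective ((Subobject.mk ψ : CochainComplex C ℕ).X j)) ∧
      ∃ ι : (CochainComplex.single₀ C).obj (K.step i) ⟶ (Subobject.mk ψ : CochainComplex C ℕ),
        ι ≫ (Subobject.mk ψ).arrow = (CochainComplex.single₀ C).map (K.fil i).arrow ≫ X.ι ∧
          QuasiIso ι := by
  refine ⟨fun j => ?_, R.ι ≫ (Subobject.underlyingIso ψ).inv, ?_, ?_⟩
  · exact Injective.of_iso ((HomologicalComplex.eval C (ComplexShape.up ℕ) j).mapIso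
      (Subobject.underlyingIso ψ).symm) (R.injective j)
  · rw [Category.assoc, Subobject.underlyingIso_arrow, hψ]
  · infer_instance

section Chain

variable [EnoughInjectives C] (K : SpSeq.FilObj C) (b : ℤ)
  (R0 : InjectiveResolution (K.step (b - ((0 : ℕ) : ℤ))))

/-- the chain of resolutions -/
noncomputable def chainR : ∀ k : ℕ, InjectiveResolution (K.step (b - (k : ℤ)))
  | 0 => R0
  | k + 1 => (HsA.rel_horseshoe
      (K.stepLE (p := b - ((k + 1 : ℕ) : ℤ)) (q := b - (k : ℤ)) (by push_cast; omega))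
      (chainR k)).choose

noncomputable def chainφ (k : ℕ) :
    (chainR K b R0 k).cocomplex ⟶ (chainR K b R0 (k + 1)).cocomplex :=
  (HsA.rel_horseshoe
      (K.stepLE (p := b - ((k + 1 : ℕ) : ℤ)) (q := b - (k : ℤ)) (by push_cast; omega))
      (chainR K b R0 k)).choose_spec.choose

instance chainφ_mono (k : ℕ) : Mono (chainφ K b R0 k) :=
  (HsA.rel_horseshoe
      (K.stepLE (p := b - ((k + 1 : ℕ) : ℤ)) (q := b - (k : ℤ)) (by push_cast; omega))
      (chainR K b R0 k)).choose_spec.choose_spec.1

lemma chainφ_comm (k : ℕ) :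
    (chainR K b R0 k).ι ≫ chainφ K b R0 k =
      (CochainComplex.single₀ C).map
        (K.stepLE (p := b - ((k + 1 : ℕ) : ℤ)) (q := b - (k : ℤ)) (by push_cast; omega)) ≫
        (chainR K b R0 (k + 1)).ι :=
  (HsA.rel_horseshoe
      (K.stepLE (p := b - ((k + 1 : ℕ) : ℤ)) (q := b - (k : ℤ)) (by push_cast; omega))
      (chainR K b R0 k)).choose_spec.choose_spec.2

/-- composite maps in the chain -/
noncomputable def Fm (k m : ℕ) (h : k ≤ m) :
    (chainR K b R0 k).cocomplex ⟶ (chainR K b R0 m).cocomplex :=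
  Functor.OfSequence.map (X := fun k => (chainR K b R0 k).cocomplex) (chainφ K b R0) k m h

lemma Fm_refl (k : ℕ) : Fm K b R0 k k le_rfl = 𝟙 _ :=
  Functor.OfSequence.map_id (X := fun k => (chainR K b R0 k).cocomplex) (chainφ K b R0) k

lemma Fm_succ (k : ℕ) : Fm K b R0 k (k + 1) (Nat.le_succ k) = chainφ K b R0 k :=
  Functor.OfSequence.map_le_succ (X := fun k => (chainR K b R0 k).cocomplex) (chainφ K b R0) k

lemma Fm_trans (k m l : ℕ) (h : k ≤ m) (h' : m ≤ l) :
    Fm K b R0 k m h ≫ Fm K b R0 m l h' = Fm K b R0 k l (h.trans h') :=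
  (Functor.OfSequence.map_comp (X := fun k => (chainR K b R0 k).cocomplex)
    (chainφ K b R0) k m l h h').symm

instance Fm_mono (k m : ℕ) (h : k ≤ m) : Mono (Fm K b R0 k m h) := by
  induction m, h using Nat.le_induction with
  | base => rw [Fm_refl]; infer_instance
  | succ m hkm ih =>
    rw [← Fm_trans K b R0 k m (m + 1) hkm (Nat.le_succ m), Fm_succ]
    haveI := ih
    exact mono_comp _ _

lemma Fm_comm (k m : ℕ) (h : k ≤ m) :
    (chainR K b R0 k).ι ≫ Fm K b R0 k m h =
      (CochainComplex.single₀ C).map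
        (K.stepLE (p := b - (m : ℤ)) (q := b - (k : ℤ)) (by omega)) ≫
        (chainR K b R0 m).ι := by
  induction m, h using Nat.le_induction with
  | base =>
    rw [Fm_refl, Category.comp_id]
    have : K.stepLE (p := b - (k : ℤ)) (q := b - (k : ℤ)) le_rfl = 𝟙 _ := Subobject.ofLE_refl _
    rw [this, CategoryTheory.Functor.map_id, Category.id_comp]
  | succ m hkm ih =>
    rw [← Fm_trans K b R0 k m (m + 1) hkm (Nat.le_succ m), Fm_succ, ← Category.assoc, ih,
      Category.assoc, chainφ_comm, ← Category.assoc, ← CategoryTheory.Functor.map_comp]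
    congr 2
    exact Subobject.ofLE_comp_ofLE _ _ _ _ _

lemma mk_Fm_congr (n k k' : ℕ) (h : k ≤ n) (h' : k' ≤ n) (e : k = k') :
    Subobject.mk (Fm K b R0 k n h) = Subobject.mk (Fm K b R0 k' n h') := by
  subst e
  rfl

end Chain

end Groth.Agent.Helper29.HsB
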