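import Mathlib
import Groth.Prelude.Def_SpSeq
import Groth.Agent.Lib.Helper29.HsB

set_option autoImplicit false

universe v u

open CategoryTheory CategoryTheory.Limits ZeroObject

namespace Groth.Agent.Helper29.HsC

open Groth.Agent.Helper29.HsB

variable {C : Type u} [Category.{v} C] [Abelian C]

/-- the per-index condition, for a given subobject `P` of the resolution -/
def Cond (K : SpSeq.FilObj C) (X : InjectiveResolution K.obj) (i : ℤ)
    (P : Subobject X.cocomplex) : Prop :=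
  (∀ j : ℕ, Injective ((P : CochainComplex C ℕ).X j)) ∧
    ∃ ι : (CochainComplex.single₀ C).obj (K.step i) ⟶ (P : CochainComplex C ℕ),
      ι ≫ P.arrow = (CochainComplex.single₀ C).map (K.fil i).arrow ≫ X.ι ∧ QuasiIso ι

lemma cond_mk (K : SpSeq.FilObj C) (X : InjectiveResolution K.obj) (i : ℤ)
    (R : InjectiveResolution (K.step i)) (ψ : R.cocomplex ⟶ X.cocomplex) [Mono ψ]
    (hψ : R.ι ≫ ψ = (CochainComplex.single₀ C).map (K.fil i).arrow ≫ X.ι) :
    Cond K X i (Subobject.mk ψ) := cond_of_mk K X i R ψ hψ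

lemma cond_top (K : SpSeq.FilObj C) (X : InjectiveResolution K.obj) (i : ℤ)
    (h : K.fil i = ⊤) : Cond K X i ⊤ := by
  let ψ : (pullRes K X i h).cocomplex ⟶ X.cocomplex := 𝟙 X.cocomplex
  haveI : IsIso ψ := by change IsIso (𝟙 X.cocomplex); infer_instance
  have e : (⊤ : Subobject X.cocomplex) = Subobject.mk ψ := (Subobject.mk_eq_top_of_isIso ψ).symm
  rw [e]
  refine cond_mk K X i (pullRes K X i h) ψ ?_
  exact Category.comp_id ((CochainComplex.single₀ C).map (K.fil i).arrow ≫ X.ι)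

lemma cond_bot (K : SpSeq.FilObj C) (X : InjectiveResolution K.obj) (i : ℤ)
    (h : K.fil i = ⊥) : Cond K X i ⊥ := by
  have hs := isZero_step_of_eq_bot K i h
  have hz : IsZero (zeroRes hs).cocomplex := isZero_zero (CochainComplex C ℕ)
  let ψ : (zeroRes hs).cocomplex ⟶ X.cocomplex := 0
  haveI : Mono ψ := ⟨fun a b _ => hz.eq_of_tgt a b⟩
  have e : (⊥ : Subobject X.cocomplex) = Subobject.mk ψ :=
    (Subobject.mk_eq_bot_iff_zero.mpr rfl).symm
  rw [e]
  refine cond_mk K X i (zeroRes hs) ψ ?_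
  exact (Functor.map_isZero (CochainComplex.single₀ C) hs).eq_of_src _ _

theorem zero_case (K : SpSeq.FilObj C) (hz : (⊤ : Subobject K.obj) = ⊥) :
    ∃ (X : InjectiveResolution K.obj) (G : ℤ → Subobject X.cocomplex), Antitone G ∧
      (∀ i : ℤ, K.fil i = ⊤ → G i = ⊤) ∧ (∀ i : ℤ, K.fil i = ⊥ → G i = ⊥) ∧
      ∀ i : ℤ, Cond K X i (G i) := by
  have h0 : IsZero K.obj := by
    rw [IsZero.iff_id_eq_zero]
    have h1 : Subobject.mk (𝟙 K.obj) = ⊤ := Subobject.mk_eq_top_of_isIso _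
    rw [hz] at h1
    exact Subobject.mk_eq_bot_iff_zero.mp h1
  have hfil : ∀ i, K.fil i = ⊤ := fun i => le_antisymm le_top (hz ▸ bot_le)
  have hzc : IsZero (zeroRes h0).cocomplex := isZero_zero (CochainComplex C ℕ)
  have htb : (⊤ : Subobject (zeroRes h0).cocomplex) = ⊥ := by
    rw [← Subobject.mk_eq_top_of_isIso (𝟙 (zeroRes h0).cocomplex)]
    rw [Subobject.mk_eq_bot_iff_zero]
    exact hzc.eq_of_src _ _
  exact ⟨zeroRes h0, fun _ => ⊤, fun _ _ _ => le_rfl, fun _ _ => rfl, fun _ _ => htb,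
    fun i => cond_top K _ i (hfil i)⟩

lemma cond_top' (K : SpSeq.FilObj C) (X : InjectiveResolution K.obj) (i : ℤ)
    (P : Subobject X.cocomplex) (hP : P = ⊤) (h : K.fil i = ⊤) : Cond K X i P := by
  subst hP
  exact cond_top K X i h

lemma cond_bot' (K : SpSeq.FilObj C) (X : InjectiveResolution K.obj) (i : ℤ)
    (P : Subobject X.cocomplex) (hP : P = ⊥) (h : K.fil i = ⊥) : Cond K X i P := by
  subst hP
  exact cond_bot K X i h

lemma cond_mk' (K : SpSeq.FilObj C) (X : InjectiveResolution K.obj) (i : ℤ)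
    (R : InjectiveResolution (K.step i)) (ψ : R.cocomplex ⟶ X.cocomplex) (hm : Mono ψ)
    (hψ : R.ι ≫ ψ = (CochainComplex.single₀ C).map (K.fil i).arrow ≫ X.ι)
    (P : Subobject X.cocomplex) (hP : P = Subobject.mk ψ) : Cond K X i P := by
  subst hP
  exact cond_mk K X i R ψ hψ

lemma topRes_ι_comm (K : SpSeq.FilObj C) (i j : ℤ) (h : K.fil i = ⊤) (hij : i ≤ j)
    (R : InjectiveResolution (K.step i)) :
    (CochainComplex.single₀ C).map (K.fil j).arrow ≫ (topRes K i h R).ι =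
      (CochainComplex.single₀ C).map (K.stepLE hij) ≫ R.ι := by
  haveI := isIso_arrow_of_eq_top K i h
  change (CochainComplex.single₀ C).map (K.fil j).arrow ≫
    (CochainComplex.single₀ C).map (inv (K.fil i).arrow) ≫ R.ι = _
  rw [← Category.assoc, ← CategoryTheory.Functor.map_comp]
  congr 2
  rw [IsIso.comp_inv_eq]
  exact (Subobject.ofLE_arrow _).symm

theorem main_case [EnoughInjectives C] (K : SpSeq.FilObj C) (hK : K.IsFinite)
    (hz : (⊤ : Subobject K.obj) ≠ ⊥) :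
    ∃ (X : InjectiveResolution K.obj) (G : ℤ → Subobject X.cocomplex), Antitone G ∧
      (∀ i : ℤ, K.fil i = ⊤ → G i = ⊤) ∧ (∀ i : ℤ, K.fil i = ⊥ → G i = ⊥) ∧
      ∀ i : ℤ, Cond K X i (G i) := by
  classical
  obtain ⟨⟨a0, ha0⟩, ⟨b0, hb0⟩⟩ := hK
  have hlt : ∀ z w, K.fil z = ⊤ → K.fil w = ⊥ → z < w := by
    intro z w hz' hw
    by_contra hcon
    push Not at hcon
    have h1 := K.anti hcon
    rw [hz', hw] at h1
    exact hz (le_antisymm h1 bot_le)
  obtain ⟨a, ha, hamax⟩ := Int.exists_greatest_of_bdd (P := fun z => K.fil z = ⊤)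
    ⟨b0, fun z hz' => (hlt z b0 hz' hb0).le⟩ ⟨a0, ha0⟩
  obtain ⟨b, hb, hbmin⟩ := Int.exists_least_of_bdd (P := fun z => K.fil z = ⊥)
    ⟨a0, fun z hz' => (hlt a0 z ha0 hz').le⟩ ⟨b0, hb0⟩
  have hab : a < b := hlt a b ha hb
  obtain ⟨n, hn⟩ : ∃ n : ℕ, b - (n : ℤ) = a := ⟨(b - a).toNat, by omega⟩
  have hb' : K.fil (b - ((0 : ℕ) : ℤ)) = ⊥ := by simpa using hb
  have hs0 := isZero_step_of_eq_bot K _ hb'
  have htop : K.fil (b - (n : ℤ)) = ⊤ := by rw [hn]; exact ha
  have hfilT : ∀ i, i ≤ a → K.fil i = ⊤ := fun i hi =>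
    le_antisymm le_top (ha ▸ K.anti hi)
  have hfilB : ∀ i, b ≤ i → K.fil i = ⊥ := fun i hi =>
    le_antisymm (hb ▸ K.anti hi) bot_le
  let G : ℤ → Subobject (chainR K b (zeroRes hs0) n).cocomplex := fun i =>
    Subobject.mk (Fm K b (zeroRes hs0) (min (b - i).toNat n) n (min_le_right _ _))
  have hGT : ∀ i, i ≤ a → G i = ⊤ := by
    intro i hi
    have e1 : G i = Subobject.mk (Fm K b (zeroRes hs0) n n le_rfl) :=
      mk_Fm_congr K b (zeroRes hs0) n _ _ _ _ (by omega)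
    rw [e1]
    haveI : IsIso (Fm K b (zeroRes hs0) n n le_rfl) := by rw [Fm_refl]; infer_instance
    exact Subobject.mk_eq_top_of_isIso _
  have hGB : ∀ i, b ≤ i → G i = ⊥ := by
    intro i hi
    have e1 : G i = Subobject.mk (Fm K b (zeroRes hs0) 0 n (Nat.zero_le n)) :=
      mk_Fm_congr K b (zeroRes hs0) n _ _ _ _ (by omega)
    rw [e1]
    have hz0 : IsZero (chainR K b (zeroRes hs0) 0).cocomplex := isZero_zero (CochainComplex C ℕ)
    exact Subobject.mk_eq_bot_iff_zero.mpr (hz0.eq_of_src _ _)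
  refine ⟨topRes K (b - (n : ℤ)) htop (chainR K b (zeroRes hs0) n), G, ?_, ?_, ?_, ?_⟩
  · intro i j hij
    have hle : min (b - j).toNat n ≤ min (b - i).toNat n := by omega
    exact Subobject.mk_le_mk_of_comm (Fm K b (zeroRes hs0) _ _ hle) (Fm_trans K b (zeroRes hs0) _ _ _ hle _)
  · intro i hi
    exact hGT i (hamax i hi)
  · intro i hi
    exact hGB i (hbmin i hi)
  · intro i
    by_cases h1 : i ≤ a
    · exact cond_top' K (topRes K (b - (n : ℤ)) htop (chainR K b (zeroRes hs0) n)) i (G i)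
        (hGT i h1) (hfilT i h1)
    · by_cases h2 : b ≤ i
      · exact cond_bot' K (topRes K (b - (n : ℤ)) htop (chainR K b (zeroRes hs0) n)) i (G i)
          (hGB i h2) (hfilB i h2)
      · obtain ⟨k, hk⟩ : ∃ k : ℕ, i = b - (k : ℤ) := ⟨(b - i).toNat, by omega⟩
        subst hk
        have hkn : k ≤ n := by omega
        have e1 : G (b - (k : ℤ)) = Subobject.mk (Fm K b (zeroRes hs0) k n hkn) :=
          mk_Fm_congr K b (zeroRes hs0) n _ _ _ _ (by omega)
        refine cond_mk' K (topRes K (b - (n : ℤ)) htop (chainR K b (zeroRes hs0) n)) (b - (k : ℤ))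
          (chainR K b (zeroRes hs0) k) (Fm K b (zeroRes hs0) k n hkn)
          (Fm_mono K b (zeroRes hs0) k n hkn) ?_ (G (b - (k : ℤ))) e1
        rw [topRes_ι_comm K (b - (n : ℤ)) (b - (k : ℤ)) htop (by omega)]
        exact Fm_comm K b (zeroRes hs0) k n hkn

end Groth.Agent.Helper29.HsC
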