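import Mathlib
import Groth.Agent.Lib.Helper29.ExtSupp

/-!
# Singular locus of a hypersurface in a smooth scheme via the top exterior power of differentials
-/

namespace Groth.Agent.Helper29.HypSmooth

open TensorProduct KaehlerDifferential

universe u

section Dim

variable (A B R : Type u) [CommRing A] [CommRing B] [CommRing R]
    [Algebra A B] [Algebra B R] [Algebra A R] [IsScalarTower A B R]

theorem algebraMap_g_eq_zero (g : B) (hker : RingHom.ker (algebraMap B R) = Ideal.span {g}) :
    algebraMap B R g = 0 := by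
  rw [← RingHom.mem_ker, hker]; exact Ideal.mem_span_singleton_self g

/-- kernel of `R ⊗_B Ω_B → Ω_R` is spanned by `1 ⊗ dg`. -/
theorem ker_mapBaseChange (g : B) (hsurj : Function.Surjective (algebraMap B R))
    (hker : RingHom.ker (algebraMap B R) = Ideal.span {g}) :
    LinearMap.ker (mapBaseChange A B R) = Submodule.span R {(1 : R) ⊗ₜ[B] D A B g} := by
  have hex := exact_kerCotangentToTensor_mapBaseChange A B R hsurj
  have hg0 := algebraMap_g_eq_zero B R g hker
  apply le_antisymm
  · intro f hf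
    obtain ⟨y, rfl⟩ := (hex f).mp hf
    obtain ⟨⟨x, hx⟩, rfl⟩ := Ideal.toCotangent_surjective _ y
    rw [kerCotangentToTensor_toCotangent]
    have hx' : x ∈ Ideal.span {g} := hker ▸ hx
    obtain ⟨c, rfl⟩ := Ideal.mem_span_singleton'.mp hx'
    simp only
    rw [Derivation.leibniz, TensorProduct.tmul_add, TensorProduct.tmul_smul,
      TensorProduct.tmul_smul]
    have h0 : g • ((1 : R) ⊗ₜ[B] D A B c) = 0 := by
      rw [TensorProduct.smul_tmul', Algebra.smul_def, mul_one, hg0, TensorProduct.zero_tmul]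
    rw [h0, add_zero, ← algebraMap_smul R c ((1 : R) ⊗ₜ[B] D A B g)]
    exact Submodule.smul_mem _ _ (Submodule.mem_span_singleton_self _)
  · rw [Submodule.span_singleton_le_iff_mem, LinearMap.mem_ker, mapBaseChange_tmul, one_smul,
      map_D, hg0, map_zero]

theorem finrank_fiber_kaehler (K : Type u) [Field K] [Algebra R K] [Module.Finite B Ω[B⁄A]]
    (g : B) (hsurj : Function.Surjective (algebraMap B R))
    (hker : RingHom.ker (algebraMap B R) = Ideal.span {g}) :
    (((1 : K) ⊗ₜ[R] ((1 : R) ⊗ₜ[B] D A B g) : K ⊗[R] (R ⊗[B] Ω[B⁄A])) = 0 →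
      Module.finrank K (K ⊗[R] Ω[R⁄A]) = Module.finrank K (K ⊗[R] (R ⊗[B] Ω[B⁄A]))) ∧
    (((1 : K) ⊗ₜ[R] ((1 : R) ⊗ₜ[B] D A B g) : K ⊗[R] (R ⊗[B] Ω[B⁄A])) ≠ 0 →
      Module.finrank K (K ⊗[R] Ω[R⁄A]) < Module.finrank K (K ⊗[R] (R ⊗[B] Ω[B⁄A]))) := by
  set δ : R ⊗[B] Ω[B⁄A] := (1 : R) ⊗ₜ[B] D A B g with hδ
  set v : K ⊗[R] (R ⊗[B] Ω[B⁄A]) := (1 : K) ⊗ₜ[R] δ with hv
  have hkerπ := ker_mapBaseChange A B R g hsurj hker
  have hπsurj : Function.Surjective (mapBaseChange A B R) := mapBaseChange_surjective A B R hsurj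
  let πK : K ⊗[R] (R ⊗[B] Ω[B⁄A]) →ₗ[K] K ⊗[R] Ω[R⁄A] := (mapBaseChange A B R).baseChange K
  have hπKsurj : Function.Surjective πK := by
    have : (πK : _ → _) = (mapBaseChange A B R).lTensor K := by
      ext x; simp [πK, LinearMap.baseChange_eq_ltensor]
    rw [this]; exact LinearMap.lTensor_surjective K hπsurj
  have hkerK : LinearMap.ker πK = Submodule.span K {v} := by
    apply le_antisymm
    · intro x hx
      let f : R →ₗ[R] R ⊗[B] Ω[B⁄A] := LinearMap.toSpanSingleton R _ δ
      have hexact : Function.Exact f (mapBaseChange A B R) := by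
        rw [LinearMap.exact_iff, hkerπ]
        exact (LinearMap.span_singleton_eq_range R _ δ)
      have hexK := lTensor_exact K hexact hπsurj
      have hx' : (mapBaseChange A B R).lTensor K x = 0 := by
        have := LinearMap.mem_ker.mp hx
        simpa [πK, LinearMap.baseChange_eq_ltensor] using this
      obtain ⟨z, rfl⟩ := (hexK x).mp hx'
      have hz : z = (TensorProduct.rid R K z) ⊗ₜ[R] (1 : R) := by
        rw [← TensorProduct.rid_symm_apply, LinearEquiv.symm_apply_apply]
      rw [hz, LinearMap.lTensor_tmul]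
      have : f 1 = δ := by simp [f]
      rw [this]
      have : (TensorProduct.rid R K z) ⊗ₜ[R] δ = (TensorProduct.rid R K z) • v := by
        rw [hv, TensorProduct.smul_tmul', smul_eq_mul, mul_one]
      rw [this]
      exact Submodule.smul_mem _ _ (Submodule.mem_span_singleton_self _)
    · rw [Submodule.span_singleton_le_iff_mem, LinearMap.mem_ker]
      have : mapBaseChange A B R δ = 0 := by
        rw [← LinearMap.mem_ker, hkerπ]; exact Submodule.mem_span_singleton_self _
      simp [πK, hv, this]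
  have hrn := LinearMap.finrank_range_add_finrank_ker πK
  rw [LinearMap.range_eq_top.mpr hπKsurj, finrank_top, hkerK] at hrn
  constructor
  · intro h0
    rw [h0] at hrn
    have : Module.finrank K (Submodule.span K {(0 : K ⊗[R] (R ⊗[B] Ω[B⁄A]))}) = 0 := by
      rw [Submodule.span_zero_singleton, finrank_bot]
    omega
  · intro hne
    rw [finrank_span_singleton hne] at hrn
    omega

end Dim


section Smooth

variable (A B R : Type u) [CommRing A] [CommRing B] [CommRing R]
    [Algebra A B] [Algebra B R] [Algebra A R] [IsScalarTower A B R]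

theorem ker_localRingHom (g : B) (hsurj : Function.Surjective (algebraMap B R))
    (hker : RingHom.ker (algebraMap B R) = Ideal.span {g}) (p : Ideal R) [p.IsPrime] :
    RingHom.ker (Localization.localRingHom (p.comap (algebraMap B R)) p (algebraMap B R) rfl) =
      Ideal.span {algebraMap B (Localization.AtPrime (p.comap (algebraMap B R))) g} := by
  have hg0 : algebraMap B R g = 0 := by
    rw [← RingHom.mem_ker, hker]; exact Ideal.mem_span_singleton_self g
  apply le_antisymm
  · intro x hx
    rw [RingHom.mem_ker] at hx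
    obtain ⟨b, s, rfl⟩ := IsLocalization.exists_mk'_eq (p.comap (algebraMap B R)).primeCompl x
    rw [Localization.localRingHom_mk', IsLocalization.mk'_eq_zero_iff] at hx
    obtain ⟨t, ht⟩ := hx
    obtain ⟨t', ht'⟩ := hsurj t.1
    have ht'q : t' ∈ (p.comap (algebraMap B R)).primeCompl := by
      show t' ∉ p.comap (algebraMap B R)
      rw [Ideal.mem_comap, ht']; exact t.2
    have hmem : t' * b ∈ RingHom.ker (algebraMap B R) := by
      rw [RingHom.mem_ker, map_mul, ht']; exact ht
    rw [hker] at hmem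
    obtain ⟨c, hc⟩ := Ideal.mem_span_singleton'.mp hmem
    have hunit : IsUnit (algebraMap B (Localization.AtPrime (p.comap (algebraMap B R))) t') :=
      IsLocalization.map_units _ (⟨t', ht'q⟩ : (p.comap (algebraMap B R)).primeCompl)
    rw [← Ideal.unit_mul_mem_iff_mem _ hunit, IsLocalization.mul_mk'_eq_mk'_of_mul, ← hc,
      mul_comm c g, ← IsLocalization.mul_mk'_eq_mk'_of_mul]
    exact Ideal.mul_mem_right _ _ (Ideal.mem_span_singleton_self _)
  · rw [Ideal.span_singleton_le_iff_mem, RingHom.mem_ker, Localization.localRingHom_to_map,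
      hg0, map_zero]

theorem isSMulRegular_localization (g : B) (hg : IsSMulRegular B g) (q : Ideal B) [q.IsPrime] :
    IsSMulRegular (Localization.AtPrime q) (algebraMap B (Localization.AtPrime q) g) := by
  intro x y hxy
  simp only [smul_eq_mul] at hxy
  have h0 : algebraMap B (Localization.AtPrime q) g * (x - y) = 0 := by
    rw [mul_sub, hxy, sub_self]
  obtain ⟨b, s, hbs⟩ := IsLocalization.exists_mk'_eq q.primeCompl (x - y)
  rw [← hbs, IsLocalization.mul_mk'_eq_mk'_of_mul, IsLocalization.mk'_eq_zero_iff] at h0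
  obtain ⟨t, ht⟩ := h0
  have h1 : g • ((t : B) * b) = g • 0 := by
    simp only [smul_eq_mul, mul_zero]
    rw [← ht]; ring
  have h2 : (t : B) * b = 0 := hg h1
  have h3 : IsLocalization.mk' (Localization.AtPrime q) b s = 0 := by
    rw [IsLocalization.mk'_eq_zero_iff]; exact ⟨t, h2⟩
  rw [hbs] at h3
  exact sub_eq_zero.mp h3

theorem formallySmooth_iff [Algebra.Smooth A B] (g : B) (hg : IsSMulRegular B g)
    (hsurj : Function.Surjective (algebraMap B R))
    (hker : RingHom.ker (algebraMap B R) = Ideal.span {g}) (p : PrimeSpectrum R) :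
    Algebra.FormallySmooth A (Localization.AtPrime p.asIdeal) ↔
      ((1 : p.asIdeal.ResidueField) ⊗ₜ[B] D A B g : p.asIdeal.ResidueField ⊗[B] Ω[B⁄A]) ≠ 0 := by
  let q : Ideal B := p.asIdeal.comap (algebraMap B R)
  have hq : q.IsPrime := inferInstance
  have hlo : p.asIdeal.LiesOver q := ⟨rfl⟩
  let P := Localization.AtPrime q
  let S := Localization.AtPrime p.asIdeal
  let K := p.asIdeal.ResidueField
  let alg : Algebra P S := Localization.AtPrime.algebraOfLiesOver q p.asIdeal
  have : IsScalarTower A P S := inferInstance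
  have : IsScalarTower B P S := inferInstance
  have : Algebra.FormallyEtale B P := Algebra.FormallyEtale.of_isLocalization q.primeCompl
  have : Algebra.FormallySmooth A P := Algebra.FormallySmooth.comp A B P
  have : Module.Finite B Ω[B⁄A] := inferInstance
  let e₁ : P ⊗[B] Ω[B⁄A] ≃ₗ[P] Ω[P⁄A] := tensorKaehlerEquivOfFormallyEtale A B P
  have : Module.Finite P Ω[P⁄A] := Module.Finite.equiv e₁
  have : Module.Projective P Ω[P⁄A] := inferInstance
  have : Module.Free P Ω[P⁄A] := Module.free_of_flat_of_isLocalRing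
  have h₁ : Function.Surjective (algebraMap P S) :=
    RingHom.surjective_localRingHom_of_surjective (algebraMap B R) hsurj p.asIdeal
  have hk : RingHom.ker (algebraMap P S) = Ideal.span {algebraMap B P g} :=
    ker_localRingHom B R g hsurj hker p.asIdeal
  have h₂ : (RingHom.ker (algebraMap P S)).FG := by
    rw [hk]; exact ⟨{algebraMap B P g}, by simp⟩
  rw [Algebra.FormallySmooth.iff_injective_cotangentComplexBaseChange_residueField P h₁ h₂]
  -- notation
  set I : Ideal P := RingHom.ker (algebraMap P S) with hI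
  set g' : P := algebraMap B P g with hg'
  have hg'I : g' ∈ I := by rw [hk]; exact Ideal.mem_span_singleton_self _
  set g'' : I := ⟨g', hg'I⟩ with hg''
  -- (i) generation
  have hgen : ∀ z : K ⊗[P] I, ∃ c : K, z = c • ((1 : K) ⊗ₜ[P] g'') := by
    intro z
    induction z with
    | zero => exact ⟨0, (zero_smul _ _).symm⟩
    | add x y hx hy =>
      obtain ⟨c, rfl⟩ := hx
      obtain ⟨d, rfl⟩ := hy
      exact ⟨c + d, (add_smul _ _ _).symm⟩
    | tmul a b =>
      obtain ⟨b, hb⟩ := b
      have hb' : b ∈ Ideal.span {g'} := hk ▸ hb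
      obtain ⟨y, rfl⟩ := Ideal.mem_span_singleton'.mp hb'
      refine ⟨y • a, ?_⟩
      have : (⟨y * g', hb⟩ : I) = y • g'' := Subtype.ext (by simp [g''])
      rw [this, TensorProduct.tmul_smul, TensorProduct.smul_tmul', TensorProduct.smul_tmul',
        smul_eq_mul, mul_one]
  -- (ii) nonvanishing of `1 ⊗ g''`
  have hreg : IsSMulRegular P g' := isSMulRegular_localization B g hg q
  let τ : P →ₗ[P] I := LinearMap.toSpanSingleton P I g''
  have hτ : Function.Bijective τ := by
    constructor
    · intro x y hxy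
      have h1 : x * g' = y * g' := by
        have := congrArg Subtype.val hxy
        simpa [τ, g''] using this
      apply hreg
      simp only [smul_eq_mul]
      rw [mul_comm g' x, mul_comm g' y, h1]
    · rintro ⟨b, hb⟩
      have hb' : b ∈ Ideal.span {g'} := hk ▸ hb
      obtain ⟨y, rfl⟩ := Ideal.mem_span_singleton'.mp hb'
      exact ⟨y, Subtype.ext (by simp [τ, g''])⟩
  let τe : P ≃ₗ[P] I := LinearEquiv.ofBijective τ hτ
  let ρ : I →ₗ[P] K := (Algebra.linearMap P K) ∘ₗ τe.symm.toLinearMap
  have hρ : ρ g'' = 1 := by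
    have : τe.symm g'' = 1 := by
      rw [LinearEquiv.symm_apply_eq]
      simp [τe, τ]
    simp [ρ, this]
  let ρK : K ⊗[P] I →ₗ[K] K := LinearMap.liftBaseChange K ρ
  have hρK : ρK ((1 : K) ⊗ₜ[P] g'') = 1 := by simp [ρK, hρ]
  have hne : (1 : K) ⊗ₜ[P] g'' ≠ 0 := fun h0 => by
    rw [h0, map_zero] at hρK; exact zero_ne_one hρK
  -- (iii) image of `1 ⊗ g''`
  have himg : cotangentComplexBaseChange A S P K ((1 : K) ⊗ₜ[P] g'') =
      (1 : K) ⊗ₜ[P] D A P g' := by
    rw [cotangentComplexBaseChange_tmul, one_smul, kerToTensor_apply]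
  -- (v) transfer along base change
  let e : K ⊗[P] Ω[P⁄A] ≃ₗ[K] K ⊗[B] Ω[B⁄A] :=
    (AlgebraTensorModule.congr (LinearEquiv.refl K K) e₁.symm) ≪≫ₗ
      (AlgebraTensorModule.cancelBaseChange B P K K Ω[B⁄A])
  have he : e ((1 : K) ⊗ₜ[P] D A P g') = (1 : K) ⊗ₜ[B] D A B g := by
    simp only [e, LinearEquiv.trans_apply, AlgebraTensorModule.congr_tmul, LinearEquiv.refl_apply,
      e₁, hg', tensorKaehlerEquivOfFormallyEtale_symm_D_algebraMap,
      AlgebraTensorModule.cancelBaseChange_tmul, one_smul]
  rw [← he, Ne, LinearEquiv.map_eq_zero_iff]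
  constructor
  · intro hinj hw
    apply hne
    apply hinj
    rw [himg, hw, map_zero]
  · intro hw
    rw [injective_iff_map_eq_zero]
    intro z hz
    obtain ⟨c, rfl⟩ := hgen z
    rw [map_smul, himg] at hz
    rcases smul_eq_zero.mp hz with hc | hc
    · rw [hc, zero_smul]
    · exact absurd hc hw


theorem main [Algebra.Smooth A B] (n : ℕ)
    (hn : ∀ p : PrimeSpectrum B, Module.rankAtStalk (Ω[B⁄A]) p = n)
    (g : B) (hg : IsSMulRegular B g) (hsurj : Function.Surjective (algebraMap B R))
    (hker : RingHom.ker (algebraMap B R) = Ideal.span {g}) (p : PrimeSpectrum R) :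
    (⋀[R]^n (Ω[R⁄A])).annihilator ≤ p.asIdeal ↔ p ∉ Algebra.smoothLocus A R := by
  have hfinB : Module.Finite B Ω[B⁄A] := inferInstance
  have hftB : Algebra.FiniteType A B := inferInstance
  have hftR : Algebra.FiniteType A R :=
    Algebra.FiniteType.of_surjective (IsScalarTower.toAlgHom A B R) hsurj
  have hfinR : Module.Finite R Ω[R⁄A] := inferInstance
  have hsupp := Module.mem_support_iff_of_finite (R := R) (M := ⋀[R]^n (Ω[R⁄A])) (p := p)
  change Module.annihilator R (⋀[R]^n (Ω[R⁄A])) ≤ p.asIdeal ↔ _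
  rw [← hsupp, ExtSupp.mem_support_exteriorPower_iff]
  have hdim : Module.finrank p.asIdeal.ResidueField
      (p.asIdeal.ResidueField ⊗[R] (R ⊗[B] Ω[B⁄A])) = n := by
    have h1 := Module.rankAtStalk_eq (M := R ⊗[B] Ω[B⁄A]) p
    rw [Module.rankAtStalk_baseChange, hn] at h1
    exact h1.symm
  obtain ⟨h0, h1⟩ := finrank_fiber_kaehler A B R p.asIdeal.ResidueField g hsurj hker
  change _ ↔ ¬ Algebra.FormallySmooth A (Localization.AtPrime p.asIdeal)
  rw [formallySmooth_iff A B R g hg hsurj hker p, not_not]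
  let e₃ := AlgebraTensorModule.cancelBaseChange B R p.asIdeal.ResidueField p.asIdeal.ResidueField
    Ω[B⁄A]
  have he₃ : e₃ ((1 : p.asIdeal.ResidueField) ⊗ₜ[R] ((1 : R) ⊗ₜ[B] D A B g)) =
      (1 : p.asIdeal.ResidueField) ⊗ₜ[B] D A B g := by
    simp only [e₃, AlgebraTensorModule.cancelBaseChange_tmul, one_smul]
  rw [← he₃, LinearEquiv.map_eq_zero_iff]
  constructor
  · intro hle
    by_contra hv
    have := h1 hv
    omega
  · intro hv
    rw [h0 hv, hdim]

end Smooth

end Groth.Agent.Helper29.HypSmooth
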