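import Mathlib

set_option autoImplicit false
universe v

namespace Groth.Agent.Helper29.IndCofA

open CategoryTheory CategoryTheory.Limits

section smul
variable {D : Type*} [Category D] [Preadditive D]

lemma comp_nsmul_id {X Y : D} (x : X ⟶ Y) (k : ℕ) : x ≫ (k • 𝟙 Y) = k • x := by
  rw [Preadditive.comp_nsmul, Category.comp_id]

lemma nsmul_id_comp {X Y : D} (x : X ⟶ Y) (k : ℕ) : (k • 𝟙 X) ≫ x = k • x := by
  rw [Preadditive.nsmul_comp, Category.id_comp]

lemma nsmul_nat {X Y : D} (x : X ⟶ Y) (k : ℕ) : x ≫ (k • 𝟙 Y) = (k • 𝟙 X) ≫ x := by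
  rw [comp_nsmul_id, nsmul_id_comp]

lemma nsmul_id_mul {X : D} (a b : ℕ) : (a • 𝟙 X) ≫ (b • 𝟙 X) = (a * b) • 𝟙 X := by
  rw [comp_nsmul_id, mul_nsmul]

lemma comp_nsmul_id_mul {X Y : D} (x : X ⟶ Y) (a b : ℕ) :
    x ≫ ((a * b) • 𝟙 Y) = (x ≫ (a • 𝟙 Y)) ≫ (b • 𝟙 Y) := by
  rw [Category.assoc, nsmul_id_mul]

end smul

variable {C : Type v} [SmallCategory C] [Abelian C]

instance : (Ind.yoneda (C := C)).Additive := by
  haveI : PreservesBinaryBiproducts (Ind.yoneda (C := C)) :=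
    preservesBinaryBiproducts_of_preservesBinaryProducts _
  exact Functor.additive_of_preservesBinaryBiproducts _

/-- membership in the essential image of yoneda -/
abbrev InC (A : Ind C) : Prop := (Ind.yoneda (C := C)).essImage A

lemma inC_of_iso {A B : Ind C} (e : A ≅ B) (h : InC A) : InC B :=
  Functor.essImage.ofIso e h

lemma yoneda_map_nsmul_id (X : C) (k : ℕ) :
    (Ind.yoneda (C := C)).map (k • 𝟙 X) = k • 𝟙 ((Ind.yoneda (C := C)).obj X) := by
  rw [Functor.map_nsmul, CategoryTheory.Functor.map_id]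

/-- kernels of maps between objects of `C` are in `C`. -/
lemma inC_kernel {A B : Ind C} (hA : InC A) (hB : InC B) (f : A ⟶ B) : InC (kernel f) := by
  obtain ⟨X, ⟨eX⟩⟩ := hA
  obtain ⟨Y, ⟨eY⟩⟩ := hB
  obtain ⟨g, hg⟩ := (Ind.yoneda (C := C)).map_surjective (eX.hom ≫ f ≫ eY.inv)
  refine ⟨kernel g, ⟨?_⟩⟩
  refine (PreservesKernel.iso (Ind.yoneda (C := C)) g) ≪≫ ?_
  refine kernel.mapIso _ _ eX eY ?_
  rw [hg]
  simp

lemma inC_cokernel {A B : Ind C} (hA : InC A) (hB : InC B) (f : A ⟶ B) : InC (cokernel f) := by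
  obtain ⟨X, ⟨eX⟩⟩ := hA
  obtain ⟨Y, ⟨eY⟩⟩ := hB
  obtain ⟨g, hg⟩ := (Ind.yoneda (C := C)).map_surjective (eX.hom ≫ f ≫ eY.inv)
  refine ⟨cokernel g, ⟨?_⟩⟩
  refine (PreservesCokernel.iso (Ind.yoneda (C := C)) g) ≪≫ ?_
  refine cokernel.mapIso _ _ eX eY ?_
  rw [hg]
  simp

/-- separation by torsion: a map out of `A` vanishing on all `A[k]`, `k` ranging over a set of
exponents killing every object of `C`, is zero. -/
lemma tors_ext (S : Set ℕ) (htor : ∀ X : C, ∃ n ∈ S, n • 𝟙 X = 0) {A Q : Ind C} (q : A ⟶ Q)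
    (h : ∀ m ∈ S, kernel.ι (m • 𝟙 A) ≫ q = 0) : q = 0 := by
  apply (Ind.isSeparating_range_yoneda (C := C)) q 0
  rintro G ⟨X⟩ g
  obtain ⟨n, hnS, hn⟩ := htor X
  have h0 : g ≫ (n • 𝟙 A) = 0 := by
    rw [nsmul_nat, ← yoneda_map_nsmul_id, hn, Functor.map_zero, zero_comp]
  rw [comp_zero, ← kernel.lift_ι _ g h0, Category.assoc, h n hnS, comp_zero]

/-- Artinian property transported to `Ind C`: an antitone sequence of subobjects of an object of
`C`, all of which lie in `C`, is eventually constant. -/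
lemma artinian (hart : ∀ X : C, IsArtinianObject X) {T : Ind C} (hT : InC T)
    (S : ℕ → Subobject T) (hS : Antitone S) (hSC : ∀ m, InC (S m : Ind C)) :
    ∃ N : ℕ, ∀ m : ℕ, N ≤ m → S m = S N := by
  obtain ⟨X, ⟨e⟩⟩ := hT
  choose Y hY using hSC
  let eY : ∀ m, (Ind.yoneda (C := C)).obj (Y m) ≅ (S m : Ind C) := fun m => (hY m).some
  let g : ∀ m, Y m ⟶ X := fun m =>
    (Ind.yoneda (C := C)).preimage ((eY m).hom ≫ (S m).arrow ≫ e.inv)
  have hg : ∀ m, (Ind.yoneda (C := C)).map (g m) = (eY m).hom ≫ (S m).arrow ≫ e.inv :=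
    fun m => Functor.map_preimage _ _
  have hmono : ∀ m, Mono (g m) := by
    intro m
    have : Mono ((Ind.yoneda (C := C)).map (g m)) := by
      rw [hg]
      infer_instance
    exact (Ind.yoneda (C := C)).mono_of_mono_map this
  -- comparison
  have hle : ∀ m m', S m ≤ S m' → Subobject.mk (g m) ≤ Subobject.mk (g m') := by
    intro m m' h
    let k : Y m ⟶ Y m' := (Ind.yoneda (C := C)).preimage
      ((eY m).hom ≫ Subobject.ofLE _ _ h ≫ (eY m').inv)
    refine Subobject.mk_le_mk_of_comm k ?_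
    apply (Ind.yoneda (C := C)).map_injective
    rw [Functor.map_comp, hg, hg, Functor.map_preimage]
    simp
  have hle' : ∀ m m', Subobject.mk (g m) ≤ Subobject.mk (g m') → S m ≤ S m' := by
    intro m m' h
    let k : Y m ⟶ Y m' := Subobject.ofMkLEMk _ _ h
    have hk : k ≫ g m' = g m := Subobject.ofMkLEMk_comp h
    refine Subobject.le_of_comm ((eY m).inv ≫ (Ind.yoneda (C := C)).map k ≫ (eY m').hom) ?_
    have := congrArg (fun t => (Ind.yoneda (C := C)).map t) hk
    simp only [Functor.map_comp, hg] at this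
    rw [← cancel_mono e.inv, ← cancel_epi (eY m).hom]
    simpa using this
  let f : ℕ →o (Subobject X)ᵒᵈ :=
    ⟨fun m => OrderDual.toDual (Subobject.mk (g m)), fun m m' h => hle m' m (hS h)⟩
  obtain ⟨N, hN⟩ := antitone_chain_condition_of_isArtinianObject f
  refine ⟨N, fun m hm => le_antisymm (hS hm) ?_⟩
  apply hle'
  have := hN m hm
  exact le_of_eq (congrArg OrderDual.ofDual this)

end Groth.Agent.Helper29.IndCofA
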