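import Mathlib
import Groth.Agent.Lib.Helper29.IndCofA

set_option autoImplicit false
universe v

namespace Groth.Agent.Helper29.IndCofB

open CategoryTheory CategoryTheory.Limits Groth.Agent.Helper29.IndCofA

section general
variable {D : Type*} [Category D] [Abelian D]

/-- multiplication by `p^n` -/
abbrev mu (p : ℕ) (A : D) (n : ℕ) : A ⟶ A := (p ^ n) • 𝟙 A

lemma mu_comp_mu (p : ℕ) (A : D) (a b : ℕ) : mu p A a ≫ mu p A b = mu p A (a + b) := by
  rw [mu, mu, nsmul_id_mul, ← pow_add]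

lemma mu_nat (p : ℕ) {X Y : D} (x : X ⟶ Y) (n : ℕ) : x ≫ mu p Y n = mu p X n ≫ x :=
  nsmul_nat x _

lemma mu_zero (p : ℕ) (A : D) : mu p A 0 = 𝟙 A := by simp [mu]

lemma mu_one (p : ℕ) (A : D) : mu p A 1 = p • 𝟙 A := by simp [mu]

lemma imageSubobject_epi_comp_eq {X' X Y : D} (h : X' ⟶ X) [Epi h] (f : X ⟶ Y) :
    imageSubobject (h ≫ f) = imageSubobject f := by
  haveI : IsIso (Subobject.ofLE _ _ (imageSubobject_comp_le h f)) :=
    isIso_of_mono_of_epi _
  exact Subobject.eq_of_comm (asIso (Subobject.ofLE _ _ (imageSubobject_comp_le h f)))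
    (Subobject.ofLE_arrow _)

lemma epi_mu_of_epi (p : ℕ) (B : D) (h : Epi (p • 𝟙 B)) (n : ℕ) : Epi (mu p B n) := by
  induction n with
  | zero => rw [mu_zero]; infer_instance
  | succ n ih =>
    rw [← mu_comp_mu, mu_one]
    exact epi_comp _ _

end general

variable {C : Type v} [SmallCategory C] [Abelian C]

lemma inC_image {X Y : Ind C} (hX : InC X) (hY : InC Y) (f : X ⟶ Y) : InC (image f) :=
  inC_of_iso (Abelian.imageIsoImage f) (inC_kernel hY (inC_cokernel hX hY f) _)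

lemma inC_imageSubobject {X Y : Ind C} (hX : InC X) (hY : InC Y) (f : X ⟶ Y) :
    InC (imageSubobject f : Ind C) :=
  inC_of_iso (imageSubobjectIso f).symm (inC_image hX hY f)

section engine

variable (p : ℕ) (A : Ind C)

/-- `ψ m : A[p^(m+1)] ⟶ A[p]`, multiplication by `p^m`. -/
noncomputable def psi (m : ℕ) : kernel (mu p A (m + 1)) ⟶ kernel (mu p A 1) :=
  kernel.lift _ (kernel.ι (mu p A (m + 1)) ≫ mu p A m) (by
    rw [Category.assoc, mu_comp_mu, kernel.condition])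

@[reassoc (attr := simp)]
lemma psi_ι (m : ℕ) : psi p A m ≫ kernel.ι (mu p A 1) = kernel.ι (mu p A (m + 1)) ≫ mu p A m :=
  kernel.lift_ι _ _ _

/-- `σ m : A[p^(m+2)] ⟶ A[p^(m+1)]`, multiplication by `p`. -/
noncomputable def sigma (m : ℕ) : kernel (mu p A (m + 2)) ⟶ kernel (mu p A (m + 1)) :=
  kernel.lift _ (kernel.ι (mu p A (m + 2)) ≫ mu p A 1) (by
    rw [Category.assoc, mu_comp_mu, show 1 + (m + 1) = m + 2 by omega, kernel.condition])

lemma sigma_psi (m : ℕ) : sigma p A m ≫ psi p A m = psi p A (m + 1) := by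
  rw [← cancel_mono (kernel.ι (mu p A 1))]
  simp only [Category.assoc, psi_ι]
  rw [sigma, kernel.lift_ι_assoc, Category.assoc, mu_comp_mu, Nat.add_comm 1 m]

/-- the decreasing chain `D m = p^m A[p^(m+1)] ⊆ A[p]`. -/
noncomputable abbrev Dm (m : ℕ) : Subobject (kernel (mu p A 1)) := imageSubobject (psi p A m)

lemma Dm_antitone : Antitone (Dm p A) := by
  apply antitone_nat_of_succ_le
  intro m
  have h := imageSubobject_comp_le (sigma p A m) (psi p A m)
  simp only [sigma_psi] at h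
  exact h

variable {p A}

/-- the key refinement property coming from the stabilisation of `Dm`. -/
lemma refine_of_Dm_eq {N k : ℕ} (h : Dm p A (N + k) = Dm p A N) {W : Ind C} (z : W ⟶ A)
    (hz : z ≫ mu p A (N + 1) = 0) :
    ∃ (W' : Ind C) (π : W' ⟶ W) (_ : Epi π) (w : W' ⟶ A),
      w ≫ mu p A (N + k + 1) = 0 ∧ π ≫ z ≫ mu p A N = w ≫ mu p A (N + k) := by
  let z' : W ⟶ kernel (mu p A (N + 1)) := kernel.lift _ z hz
  let t : W ⟶ (Dm p A (N + k) : Ind C) :=
    z' ≫ factorThruImageSubobject (psi p A N) ≫ Subobject.ofLE _ _ (le_of_eq h.symm)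
  have ht : t ≫ (Dm p A (N + k)).arrow = z' ≫ psi p A N := by
    simp only [t, Category.assoc, Subobject.ofLE_arrow]
    rw [imageSubobject_arrow_comp]
  obtain ⟨W', π, hπ, w', hw'⟩ :=
    surjective_up_to_refinements_of_epi (factorThruImageSubobject (psi p A (N + k))) t
  refine ⟨W', π, hπ, w' ≫ kernel.ι _, ?_, ?_⟩
  · rw [Category.assoc, kernel.condition, comp_zero]
  · have h1 := congrArg (fun u => u ≫ (Dm p A (N + k)).arrow ≫ kernel.ι (mu p A 1)) hw'
    simp only [Category.assoc] at h1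
    rw [reassoc_of% ht, psi_ι] at h1
    rw [imageSubobject_arrow_comp_assoc, psi_ι] at h1
    simp only [z', kernel.lift_ι_assoc] at h1
    rw [h1, Category.assoc]

/-- (H): elements of `B[p]` are divisible by `p^k` in `B = p^N A`. -/
lemma tors_divisible {N : ℕ} (h : ∀ m, N ≤ m → Dm p A m = Dm p A N) (k : ℕ) {W : Ind C}
    (u : W ⟶ image (mu p A N)) (hu : u ≫ mu p (image (mu p A N)) 1 = 0) :
    ∃ (W' : Ind C) (π : W' ⟶ W) (_ : Epi π) (v : W' ⟶ image (mu p A N)),
      π ≫ u = v ≫ mu p (image (mu p A N)) k := by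
  obtain ⟨W₀, π₀, hπ₀, z, hz⟩ :=
    surjective_up_to_refinements_of_epi (factorThruImage (mu p A N)) u
  have hz0 : z ≫ mu p A (N + 1) = 0 := by
    have h1 : z ≫ mu p A (N + 1) =
        (z ≫ factorThruImage (mu p A N)) ≫ image.ι (mu p A N) ≫ mu p A 1 := by
      rw [Category.assoc, image.fac_assoc, mu_comp_mu]
    rw [h1, ← hz]
    simp only [Category.assoc]
    rw [mu_nat p (image.ι (mu p A N)) 1, reassoc_of% hu, zero_comp, comp_zero]
  obtain ⟨W₁, π₁, hπ₁, w, _, hw⟩ := refine_of_Dm_eq (h (N + k) (by omega)) z hz0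
  refine ⟨W₁, π₁ ≫ π₀, epi_comp _ _, w ≫ factorThruImage (mu p A N), ?_⟩
  rw [← cancel_mono (image.ι (mu p A N))]
  simp only [Category.assoc]
  rw [← mu_nat p (image.ι (mu p A N)) k, image.fac_assoc, mu_comp_mu, ← hw, reassoc_of% hz,
    image.fac]

/-- `B[p^j] ⊆ pB` for `B = p^N A`. -/
lemma tors_le_pB {N : ℕ} (h : ∀ m, N ≤ m → Dm p A m = Dm p A N) (j : ℕ) :
    ∀ {W : Ind C} (x : W ⟶ image (mu p A N)), x ≫ mu p (image (mu p A N)) j = 0 →
    ∃ (W' : Ind C) (π : W' ⟶ W) (_ : Epi π) (y : W' ⟶ image (mu p A N)),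
      π ≫ x = y ≫ mu p (image (mu p A N)) 1 := by
  induction j with
  | zero =>
    intro W x hx
    rw [mu_zero, Category.comp_id] at hx
    exact ⟨W, 𝟙 W, inferInstance, 0, by rw [hx, comp_zero, zero_comp]⟩
  | succ j ih =>
    intro W x hx
    have hu : (x ≫ mu p (image (mu p A N)) j) ≫ mu p (image (mu p A N)) 1 = 0 := by
      rw [Category.assoc, mu_comp_mu, hx]
    obtain ⟨W₁, π₁, hπ₁, v, hv⟩ := tors_divisible h (j + 1) _ hu
    have hx' : (π₁ ≫ x - v ≫ mu p (image (mu p A N)) 1) ≫ mu p (image (mu p A N)) j = 0 := by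
      rw [Preadditive.sub_comp, Category.assoc, Category.assoc, mu_comp_mu, hv,
        Nat.add_comm 1 j, sub_self]
    obtain ⟨W₂, π₂, hπ₂, y₂, hy₂⟩ := ih _ hx'
    refine ⟨W₂, π₂ ≫ π₁, epi_comp _ _, π₂ ≫ v + y₂, ?_⟩
    rw [Preadditive.comp_sub] at hy₂
    rw [Preadditive.add_comp, ← hy₂, Category.assoc, Category.assoc]
    abel

end engine

/-- The engine: for `A` of cofinite type, `p^N A` is `p`-divisible for some `N`. -/
theorem exists_divisible (hart : ∀ X : C, IsArtinianObject X) (p : ℕ)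
    (htor : ∀ X : C, ∃ n : ℕ, (p ^ n) • 𝟙 X = 0)
    (A : Ind C) (hA : ∀ n : ℕ, InC (kernel (mu p A n))) :
    ∃ N : ℕ, Epi (p • 𝟙 (image (mu p A N))) := by
  obtain ⟨N, hN⟩ := artinian hart (hA 1) (Dm p A) (Dm_antitone p A)
    (fun m => inC_imageSubobject (hA (m + 1)) (hA 1) _)
  refine ⟨N, ?_⟩
  apply Abelian.epi_of_cokernel_π_eq_zero
  apply tors_ext (Set.range (fun n : ℕ => p ^ n)) (fun X => by
    obtain ⟨n, hn⟩ := htor X
    exact ⟨p ^ n, ⟨n, rfl⟩, hn⟩)
  rintro _ ⟨j, rfl⟩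
  obtain ⟨W', π, hπ, y, hy⟩ := tors_le_pB hN j (kernel.ι (mu p (image (mu p A N)) j))
    (kernel.condition _)
  rw [← cancel_epi π, reassoc_of% hy, mu_one, cokernel.condition, comp_zero, comp_zero]

end Groth.Agent.Helper29.IndCofB
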