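import Mathlib
import Groth.Agent.Lib.Helper29.IndCofB

set_option autoImplicit false
universe v

namespace Groth.Agent.Helper29.IndCofC

open CategoryTheory CategoryTheory.Limits Groth.Agent.Helper29.IndCofA
  Groth.Agent.Helper29.IndCofB

variable {C : Type v} [SmallCategory C] [Abelian C]

lemma imageSubobject_congr {D : Type*} [Category D] [Abelian D] {X Y : D} {f g : X ⟶ Y}
    (h : f = g) : imageSubobject f = imageSubobject g := by
  subst h; rfl

/-- If `p` is epi on `p^N A`, the images of `p^n`, `n ≥ N`, coincide. -/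
lemma image_stable (p : ℕ) (A : Ind C) (N : ℕ) (hN : Epi (p • 𝟙 (image (mu p A N))))
    (n : ℕ) (hn : N ≤ n) : imageSubobject (mu p A n) = imageSubobject (mu p A N) := by
  obtain ⟨j, rfl⟩ := Nat.exists_eq_add_of_le hn
  have h1 : mu p A (N + j) =
      (factorThruImage (mu p A N) ≫ mu p (image (mu p A N)) j) ≫ image.ι (mu p A N) := by
    rw [Category.assoc, ← mu_nat, image.fac_assoc, mu_comp_mu]
  have h2 : mu p A N = factorThruImage (mu p A N) ≫ image.ι (mu p A N) := (image.fac _).symm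
  haveI := epi_mu_of_epi p _ hN j
  rw [imageSubobject_congr h1, imageSubobject_congr h2, imageSubobject_epi_comp_eq,
    imageSubobject_epi_comp_eq]

theorem main14494 (hart : ∀ X : C, IsArtinianObject X) (p : ℕ)
    (htor : ∀ X : C, ∃ n : ℕ, (p ^ n) • 𝟙 X = 0)
    (A : Ind C) (hA : ∀ n : ℕ, (Ind.yoneda (C := C)).essImage (kernel ((p ^ n) • 𝟙 A))) :
    ∃ N : ℕ, ∀ n : ℕ, N ≤ n →
      imageSubobject ((p ^ n) • 𝟙 A) = imageSubobject ((p ^ N) • 𝟙 A) := by
  obtain ⟨N, hN⟩ := exists_divisible hart p htor A hA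
  exact ⟨N, fun n hn => image_stable p A N hN n hn⟩

/-- the map `A[p^(N+n)] ⟶ A[p^N]`, multiplication by `p^n`. -/
noncomputable def phi (p : ℕ) (A : Ind C) (N n : ℕ) :
    kernel (mu p A (N + n)) ⟶ kernel (mu p A N) :=
  kernel.lift _ (kernel.ι (mu p A (N + n)) ≫ mu p A n) (by
    rw [Category.assoc, mu_comp_mu, Nat.add_comm n N, kernel.condition])

@[reassoc (attr := simp)]
lemma phi_ι (p : ℕ) (A : Ind C) (N n : ℕ) :
    phi p A N n ≫ kernel.ι (mu p A N) = kernel.ι (mu p A (N + n)) ≫ mu p A n :=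
  kernel.lift_ι _ _ _

/-- If `p` is epi on `p^N A`, then `A/p^n A` is the cokernel of `A[p^(N+n)] ⟶ A[p^N]`. -/
lemma coker_iso (p : ℕ) (A : Ind C) (N : ℕ) (hN : Epi (p • 𝟙 (image (mu p A N)))) (n : ℕ) :
    Nonempty (cokernel (phi p A N n) ≅ cokernel (mu p A n)) := by
  let q := cokernel.π (mu p A n)
  let g : kernel (mu p A N) ⟶ cokernel (mu p A n) := kernel.ι (mu p A N) ≫ q
  have hzero : phi p A N n ≫ g = 0 := by
    simp only [g, q, phi_ι_assoc, cokernel.condition, comp_zero]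
  let S : ShortComplex (Ind C) := ShortComplex.mk _ _ hzero
  have hexact : S.Exact := by
    rw [ShortComplex.exact_iff_exact_up_to_refinements]
    intro W x hx
    have hx' : (x ≫ kernel.ι (mu p A N)) ≫ cokernel.π (mu p A n) = 0 := by
      rw [Category.assoc]; exact hx
    obtain ⟨W', π, hπ, z, hz⟩ :=
      (CokernelCofork.IsColimit.comp_π_eq_zero_iff_up_to_refinements
        (cokernelIsCokernel (mu p A n)) _).1 hx'
    have hz0 : z ≫ mu p A (N + n) = 0 := by
      rw [Nat.add_comm, ← mu_comp_mu, ← reassoc_of% hz, kernel.condition, comp_zero, comp_zero]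
    refine ⟨W', π, hπ, kernel.lift _ z hz0, ?_⟩
    rw [← cancel_mono (kernel.ι (mu p A N))]
    simp only [S, Category.assoc, phi_ι, kernel.lift_ι_assoc]
    exact hz
  have hepi : Epi g := by
    rw [epi_iff_surjective_up_to_refinements]
    intro W x
    obtain ⟨W₀, π₀, hπ₀, a, ha⟩ := surjective_up_to_refinements_of_epi q x
    haveI := epi_mu_of_epi p _ hN n
    obtain ⟨W₁, π₁, hπ₁, b', hb'⟩ := surjective_up_to_refinements_of_epi
      (mu p (image (mu p A N)) n) (a ≫ factorThruImage (mu p A N))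
    obtain ⟨W₂, π₂, hπ₂, b, hb⟩ := surjective_up_to_refinements_of_epi
      (factorThruImage (mu p A N)) b'
    let a' : W₂ ⟶ A := π₂ ≫ π₁ ≫ a - b ≫ mu p A n
    have ha' : a' ≫ mu p A N = 0 := by
      have h1 : a' ≫ factorThruImage (mu p A N) = 0 := by
        simp only [a', Preadditive.sub_comp, Category.assoc]
        rw [← mu_nat p (factorThruImage (mu p A N)) n, ← reassoc_of% hb, ← hb', sub_self]
      rw [← image.fac (mu p A N), reassoc_of% h1, zero_comp]
    refine ⟨W₂, π₂ ≫ π₁ ≫ π₀, epi_comp _ _, kernel.lift _ a' ha', ?_⟩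
    simp only [g, kernel.lift_ι_assoc, a', Preadditive.sub_comp, Category.assoc, q,
      cokernel.condition, comp_zero, sub_zero]
    rw [ha]
  exact ⟨IsColimit.coconePointUniqueUpToIso (colimit.isColimit _) (hexact.gIsCokernel)⟩

theorem main14492 (hart : ∀ X : C, IsArtinianObject X) (p : ℕ)
    (htor : ∀ X : C, ∃ n : ℕ, (p ^ n) • 𝟙 X = 0)
    (A : Ind C) (hA : ∀ n : ℕ, (Ind.yoneda (C := C)).essImage (kernel ((p ^ n) • 𝟙 A))) (n : ℕ) :
    (Ind.yoneda (C := C)).essImage (cokernel ((p ^ n) • 𝟙 A)) := by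
  obtain ⟨N, hN⟩ := exists_divisible hart p htor A hA
  obtain ⟨e⟩ := coker_iso p A N hN n
  exact inC_of_iso e (inC_cokernel (hA (N + n)) (hA N) _)

end Groth.Agent.Helper29.IndCofC
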