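import Mathlib
import Groth.Agent.Lib.Helper29.IndCofC

set_option autoImplicit false
universe v

namespace Groth.Agent.Helper29.IndCofD

open CategoryTheory CategoryTheory.Limits Groth.Agent.Helper29.IndCofA
  Groth.Agent.Helper29.IndCofB Groth.Agent.Helper29.IndCofC

variable {C : Type v} [SmallCategory C] [Abelian C]

section fact
variable (p : ℕ) {A B : Ind C} (N : ℕ) (e : A ⟶ B) (m : B ⟶ A) [Epi e] [Mono m]
  (hem : e ≫ m = mu p A N)

include hem in
/-- `(p^N A)[p^k]` is the image of `A[p^(k+N)] ⟶ A[p^k]`. -/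
lemma tors_image_iso (k : ℕ) :
    Nonempty (kernel (mu p B k) ≅ image (phi p A k N)) := by
  let j : kernel (mu p B k) ⟶ kernel (mu p A k) :=
    kernel.lift _ (kernel.ι _ ≫ m) (by
      rw [Category.assoc, mu_nat, kernel.condition_assoc, zero_comp])
  have hj : j ≫ kernel.ι _ = kernel.ι _ ≫ m := kernel.lift_ι _ _ _
  haveI : Mono j := mono_of_mono_fac hj
  let ε : kernel (mu p A (k + N)) ⟶ kernel (mu p B k) :=
    kernel.lift _ (kernel.ι _ ≫ e) (by
      have h1 : ((kernel.ι (mu p A (k + N)) ≫ e) ≫ mu p B k) ≫ m = 0 := by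
        simp only [Category.assoc]
        rw [← mu_nat p m k, reassoc_of% hem, mu_comp_mu, Nat.add_comm N k, kernel.condition]
      rw [← cancel_mono m, h1, zero_comp])
  have hε : ε ≫ kernel.ι _ = kernel.ι _ ≫ e := kernel.lift_ι _ _ _
  have hεj : ε ≫ j = phi p A k N := by
    rw [← cancel_mono (kernel.ι (mu p A k)), Category.assoc, hj, reassoc_of% hε, hem, phi_ι]
  haveI : Epi ε := by
    rw [epi_iff_surjective_up_to_refinements]
    intro W x
    obtain ⟨W', π, hπ, z, hz⟩ := surjective_up_to_refinements_of_epi e (x ≫ kernel.ι _)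
    have hz0 : z ≫ mu p A (k + N) = 0 := by
      rw [Nat.add_comm k N, ← mu_comp_mu, ← hem]
      simp only [Category.assoc]
      rw [mu_nat p m k, ← reassoc_of% hz]
      rw [kernel.condition_assoc, zero_comp, comp_zero, comp_zero]
    refine ⟨W', π, hπ, kernel.lift _ z hz0, ?_⟩
    rw [← cancel_mono (kernel.ι (mu p B k)), Category.assoc, Category.assoc, hε,
      kernel.lift_ι_assoc]
    simpa using hz
  haveI : StrongEpi ε := strongEpi_of_epi ε
  exact ⟨image.isoStrongEpiMono ε j hεj⟩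

include hem in
lemma tors_inC (hA : ∀ n : ℕ, InC (kernel (mu p A n))) (k : ℕ) : InC (kernel (mu p B k)) := by
  obtain ⟨i⟩ := tors_image_iso p N e m hem k
  exact inC_of_iso i.symm (inC_image (hA _) (hA _) _)

end fact

/-- objects of `C` are killed by a power of `p` also in `Ind C`. -/
lemma mu_eq_zero_of_inC (p : ℕ) (htor : ∀ X : C, ∃ n : ℕ, (p ^ n) • 𝟙 X = 0) {Q : Ind C}
    (hQ : InC Q) : ∃ k, mu p Q k = 0 := by
  obtain ⟨X, ⟨i⟩⟩ := hQ
  obtain ⟨k, hk⟩ := htor X
  refine ⟨k, ?_⟩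
  rw [← cancel_epi i.hom, mu_nat, mu, ← yoneda_map_nsmul_id, hk, Functor.map_zero, zero_comp,
    comp_zero]

theorem main14496 (p : ℕ)
    (htor : ∀ X : C, ∃ n : ℕ, (p ^ n) • 𝟙 X = 0)
    (A : Ind C) (hA : ∀ n : ℕ, (Ind.yoneda (C := C)).essImage (kernel ((p ^ n) • 𝟙 A))) (N : ℕ)
    (hN : ∀ n : ℕ, N ≤ n → imageSubobject ((p ^ n) • 𝟙 A) = imageSubobject ((p ^ N) • 𝟙 A)) :
    (∀ n : ℕ, (Ind.yoneda (C := C)).essImage
        (kernel ((p ^ n) • 𝟙 ((imageSubobject ((p ^ N) • 𝟙 A) : Subobject A) : Ind C)))) ∧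
      Epi (p • 𝟙 ((imageSubobject ((p ^ N) • 𝟙 A) : Subobject A) : Ind C)) ∧
      (∀ D : Subobject A, Epi (p • 𝟙 (D : Ind C)) → D ≤ imageSubobject ((p ^ N) • 𝟙 A)) ∧
      (∀ (Q : Ind C) (q : A ⟶ Q), Epi q → (Ind.yoneda (C := C)).essImage Q →
        (imageSubobject ((p ^ N) • 𝟙 A)).arrow ≫ q = 0) := by
  let Ds : Subobject A := imageSubobject (mu p A N)
  let e : A ⟶ (Ds : Ind C) := factorThruImageSubobject (mu p A N)
  let m : (Ds : Ind C) ⟶ A := Ds.arrow
  have hem : e ≫ m = mu p A N := imageSubobject_arrow_comp _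
  -- for every `j`, an epi `A ⟶ Ds` with composite `p^(N+j)`
  have hfac : ∀ j : ℕ, ∃ e' : A ⟶ (Ds : Ind C), Epi e' ∧ e' ≫ m = mu p A (N + j) := by
    intro j
    have h := hN (N + j) (by omega)
    refine ⟨factorThruImageSubobject (mu p A (N + j)) ≫ (Subobject.isoOfEq _ _ h).hom,
      epi_comp _ _, ?_⟩
    rw [Category.assoc]
    dsimp only [Subobject.isoOfEq]
    rw [Subobject.ofLE_arrow, imageSubobject_arrow_comp]
  refine ⟨fun n => tors_inC p N e m hem hA n, ?_, ?_, ?_⟩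
  · -- divisibility
    obtain ⟨e', he', hem'⟩ := hfac 1
    suffices h : Epi (mu p (Ds : Ind C) 1) by rwa [mu_one] at h
    rw [epi_iff_surjective_up_to_refinements]
    intro W x
    obtain ⟨W', π, hπ, z, hz⟩ := surjective_up_to_refinements_of_epi e' x
    refine ⟨W', π, hπ, z ≫ e, ?_⟩
    rw [← cancel_mono m, Category.assoc, Category.assoc, Category.assoc, ← mu_nat p m 1,
      reassoc_of% hem, mu_comp_mu, reassoc_of% hz, hem']
  · -- maximality
    intro D hD
    haveI := epi_mu_of_epi p _ hD N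
    obtain ⟨W, π, hπ, y, hy⟩ := surjective_up_to_refinements_of_epi (mu p (D : Ind C) N) (𝟙 _)
    have sq : CommSq (y ≫ D.arrow ≫ e) π m D.arrow := ⟨by
      rw [Category.assoc, Category.assoc, hem, mu_nat p D.arrow N, ← reassoc_of% hy]⟩
    haveI : StrongEpi π := strongEpi_of_epi π
    exact Subobject.le_of_comm sq.lift sq.fac_right
  · -- quotients in `C`
    intro Q q _ hQ
    obtain ⟨k, hk⟩ := mu_eq_zero_of_inC p htor hQ
    obtain ⟨e', he', hem'⟩ := hfac k
    rw [← cancel_epi e', reassoc_of% hem', ← mu_comp_mu, Category.assoc, ← mu_nat p q k, hk,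
      comp_zero, comp_zero, comp_zero]

end Groth.Agent.Helper29.IndCofD
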