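import Mathlib
import Groth.Agent.Lib.Helper29.IndCofD

set_option autoImplicit false
universe v

namespace Groth.Agent.Helper29.IndCofE

open CategoryTheory CategoryTheory.Limits Groth.Agent.Helper29.IndCofA
  Groth.Agent.Helper29.IndCofB Groth.Agent.Helper29.IndCofC Groth.Agent.Helper29.IndCofD

variable {C : Type v} [SmallCategory C] [Abelian C]

/-- the map induced on `p^n`-torsion. -/
noncomputable def tmap (p : ℕ) {A B : Ind C} (f : A ⟶ B) (n : ℕ) :
    kernel (mu p A n) ⟶ kernel (mu p B n) :=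
  kernel.map _ _ f f (mu_nat p f n).symm

@[reassoc (attr := simp)]
lemma tmap_ι (p : ℕ) {A B : Ind C} (f : A ⟶ B) (n : ℕ) :
    tmap p f n ≫ kernel.ι (mu p B n) = kernel.ι (mu p A n) ≫ f := by
  simp [tmap]

lemma cof_of_iso (p : ℕ) {A A' : Ind C} (i : A ≅ A') (hA : ∀ n, InC (kernel (mu p A n))) (n : ℕ) :
    InC (kernel (mu p A' n)) :=
  inC_of_iso (kernel.mapIso _ _ i i (mu_nat p i.hom n).symm) (hA n)

/-- torsion of a kernel is the kernel of the map on torsion. -/
lemma kernel_tors_iso (p : ℕ) {A B : Ind C} (f : A ⟶ B) (n : ℕ) :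
    Nonempty (kernel (mu p (kernel f) n) ≅ kernel (tmap p f n)) := by
  let α : kernel (mu p (kernel f) n) ⟶ kernel (tmap p f n) :=
    kernel.lift _ (tmap p (kernel.ι f) n) (by
      rw [← cancel_mono (kernel.ι (mu p B n))]
      simp)
  let β₀ : kernel (tmap p f n) ⟶ kernel f :=
    kernel.lift _ (kernel.ι _ ≫ kernel.ι (mu p A n)) (by
      rw [Category.assoc, ← tmap_ι, kernel.condition_assoc, zero_comp])
  let β : kernel (tmap p f n) ⟶ kernel (mu p (kernel f) n) :=
    kernel.lift _ β₀ (by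
      rw [← cancel_mono (kernel.ι f)]
      simp only [β₀, Category.assoc, zero_comp]
      rw [← mu_nat p (kernel.ι f) n, kernel.lift_ι_assoc, Category.assoc, kernel.condition,
        comp_zero])
  refine ⟨⟨α, β, ?_, ?_⟩⟩
  · rw [← cancel_mono (kernel.ι (mu p (kernel f) n)), ← cancel_mono (kernel.ι f)]
    simp [α, β, β₀]
  · rw [← cancel_mono (kernel.ι (tmap p f n)), ← cancel_mono (kernel.ι (mu p A n))]
    simp [α, β, β₀]

lemma kernel_cof (p : ℕ) {A B : Ind C} (f : A ⟶ B) (hA : ∀ n, InC (kernel (mu p A n)))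
    (hB : ∀ n, InC (kernel (mu p B n))) (n : ℕ) : InC (kernel (mu p (kernel f) n)) := by
  obtain ⟨i⟩ := kernel_tors_iso p f n
  exact inC_of_iso i.symm (inC_kernel (hA n) (hB n) _)

/-- decomposition `A = A[p^N] + p^n A` when `p^N A` is divisible. -/
lemma decomp (p : ℕ) (A : Ind C) (N : ℕ) (hN : Epi (p • 𝟙 (image (mu p A N)))) (n : ℕ)
    {W : Ind C} (a : W ⟶ A) :
    ∃ (W' : Ind C) (π : W' ⟶ W) (_ : Epi π) (t b : W' ⟶ A),
      t ≫ mu p A N = 0 ∧ π ≫ a = t + b ≫ mu p A n := by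
  haveI := epi_mu_of_epi p _ hN n
  obtain ⟨W₁, π₁, hπ₁, b', hb'⟩ := surjective_up_to_refinements_of_epi
    (mu p (image (mu p A N)) n) (a ≫ factorThruImage (mu p A N))
  obtain ⟨W₂, π₂, hπ₂, b, hb⟩ := surjective_up_to_refinements_of_epi
    (factorThruImage (mu p A N)) b'
  refine ⟨W₂, π₂ ≫ π₁, epi_comp _ _, π₂ ≫ π₁ ≫ a - b ≫ mu p A n, b, ?_, ?_⟩
  · have h1 : (π₂ ≫ π₁ ≫ a - b ≫ mu p A n) ≫ factorThruImage (mu p A N) = 0 := by
      simp only [Preadditive.sub_comp, Category.assoc]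
      rw [← mu_nat p (factorThruImage (mu p A N)) n, ← reassoc_of% hb, ← hb', sub_self]
    rw [← image.fac (mu p A N), reassoc_of% h1, zero_comp]
  · rw [Category.assoc]; abel

section quot
variable (p : ℕ) {K A : Ind C} (i : K ⟶ A) (M n : ℕ)

/-- `A[p^(M+n)] ⟶ A[p^M] ⟶ A[p^M]/K[p^M]` -/
noncomputable abbrev rc : kernel (mu p A (M + n)) ⟶ cokernel (tmap p i M) :=
  phi p A M n ≫ cokernel.π (tmap p i M)

lemma tmap_phi : tmap p i (M + n) ≫ phi p A M n = phi p K M n ≫ tmap p i M := by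
  rw [← cancel_mono (kernel.ι (mu p A M))]
  simp only [Category.assoc, phi_ι, tmap_ι, tmap_ι_assoc, phi_ι_assoc]
  rw [mu_nat p i n]

noncomputable def lam : kernel (mu p K (M + n)) ⟶ kernel (rc p i M n) :=
  kernel.lift _ (tmap p i (M + n)) (by
    rw [rc, reassoc_of% (tmap_phi p i M n), cokernel.condition, comp_zero])

@[reassoc (attr := simp)]
lemma lam_ι : lam p i M n ≫ kernel.ι (rc p i M n) = tmap p i (M + n) := kernel.lift_ι _ _ _

noncomputable def theta0 : kernel (rc p i M n) ⟶ cokernel i :=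
  kernel.ι (rc p i M n) ≫ kernel.ι (mu p A (M + n)) ≫ cokernel.π i

lemma exM {W : Ind C} (x : W ⟶ kernel (mu p A M)) (hx : x ≫ cokernel.π (tmap p i M) = 0) :
    ∃ (W' : Ind C) (π : W' ⟶ W) (_ : Epi π) (s : W' ⟶ kernel (mu p K M)),
      π ≫ x = s ≫ tmap p i M :=
  (CokernelCofork.IsColimit.comp_π_eq_zero_iff_up_to_refinements
    (cokernelIsCokernel (tmap p i M)) x).1 hx

lemma exQ {W : Ind C} (x : W ⟶ A) (hx : x ≫ cokernel.π i = 0) :
    ∃ (W' : Ind C) (π : W' ⟶ W) (_ : Epi π) (s : W' ⟶ K), π ≫ x = s ≫ i :=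
  (CokernelCofork.IsColimit.comp_π_eq_zero_iff_up_to_refinements
    (cokernelIsCokernel i) x).1 hx

lemma theta0_mu : theta0 p i M n ≫ mu p (cokernel i) n = 0 := by
  have h0 : (kernel.ι (rc p i M n) ≫ phi p A M n) ≫ cokernel.π (tmap p i M) = 0 := by
    rw [Category.assoc]; exact kernel.condition (rc p i M n)
  obtain ⟨W', π, hπ, s, hs⟩ := exM p i M _ h0
  have h1 : theta0 p i M n ≫ mu p (cokernel i) n =
      (kernel.ι (rc p i M n) ≫ phi p A M n) ≫ kernel.ι (mu p A M) ≫ cokernel.π i := by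
    simp only [theta0, Category.assoc]
    rw [mu_nat p (cokernel.π i) n, phi_ι_assoc]
  rw [h1, ← cancel_epi π]
  simp only [Category.assoc]
  rw [reassoc_of% hs, tmap_ι_assoc, cokernel.condition, comp_zero, comp_zero,
    comp_zero]

noncomputable def theta : kernel (rc p i M n) ⟶ kernel (mu p (cokernel i) n) :=
  kernel.lift _ (theta0 p i M n) (theta0_mu p i M n)

@[reassoc (attr := simp)]
lemma theta_ι : theta p i M n ≫ kernel.ι (mu p (cokernel i) n) = theta0 p i M n :=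
  kernel.lift_ι _ _ _

lemma lam_theta : lam p i M n ≫ theta p i M n = 0 := by
  rw [← cancel_mono (kernel.ι (mu p (cokernel i) n)), Category.assoc, theta_ι, zero_comp, theta0,
    lam_ι_assoc, tmap_ι_assoc, cokernel.condition, comp_zero]

lemma exact_lam_theta [Mono i] : (ShortComplex.mk _ _ (lam_theta p i M n)).Exact := by
  rw [ShortComplex.exact_iff_exact_up_to_refinements]
  intro W u hu
  dsimp at u hu
  have hu' : (u ≫ kernel.ι (rc p i M n) ≫ kernel.ι (mu p A (M + n))) ≫ cokernel.π i = 0 := by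
    have := congrArg (fun t => t ≫ kernel.ι (mu p (cokernel i) n)) hu
    simp only [Category.assoc, theta_ι, zero_comp, theta0] at this
    simpa only [Category.assoc] using this
  obtain ⟨W', π, hπ, k, hk⟩ := exQ i _ hu'
  have hk0 : k ≫ mu p K (M + n) = 0 := by
    rw [← cancel_mono i, Category.assoc, zero_comp, ← mu_nat p i (M + n), ← reassoc_of% hk]
    rw [kernel.condition, comp_zero, comp_zero, comp_zero]
  refine ⟨W', π, hπ, kernel.lift _ k hk0, ?_⟩
  dsimp
  rw [← cancel_mono (kernel.ι (rc p i M n)), ← cancel_mono (kernel.ι (mu p A (M + n)))]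
  simp only [Category.assoc, lam_ι, tmap_ι, kernel.lift_ι_assoc]
  exact hk

lemma epi_theta [Mono i] (hM : Epi (p • 𝟙 (image (mu p K M)))) : Epi (theta p i M n) := by
  rw [epi_iff_surjective_up_to_refinements]
  intro W x
  obtain ⟨W₀, π₀, hπ₀, a, ha⟩ := surjective_up_to_refinements_of_epi (cokernel.π i)
    (x ≫ kernel.ι _)
  have ha0 : (a ≫ mu p A n) ≫ cokernel.π i = 0 := by
    rw [Category.assoc, ← mu_nat p (cokernel.π i) n, ← reassoc_of% ha]
    rw [kernel.condition, comp_zero, comp_zero]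
  obtain ⟨W₁, π₁, hπ₁, k', hk'⟩ := exQ i _ ha0
  obtain ⟨W₂, π₂, hπ₂, t, k, ht, hk⟩ := decomp p K M hM n k'
  let a' : W₂ ⟶ A := π₂ ≫ π₁ ≫ a - k ≫ i
  have ha'n : a' ≫ mu p A n = t ≫ i := by
    simp only [a', Preadditive.sub_comp, Category.assoc]
    rw [hk', reassoc_of% hk, mu_nat p i n, Preadditive.add_comp, Category.assoc]
    abel
  have ha'0 : a' ≫ mu p A (M + n) = 0 := by
    rw [Nat.add_comm, ← mu_comp_mu, reassoc_of% ha'n, mu_nat p i M, reassoc_of% ht, zero_comp]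
  let a'' : W₂ ⟶ kernel (mu p A (M + n)) := kernel.lift _ a' ha'0
  have ha''r : a'' ≫ phi p A M n = kernel.lift _ t ht ≫ tmap p i M := by
    rw [← cancel_mono (kernel.ι (mu p A M))]
    simp only [a'', Category.assoc, phi_ι, tmap_ι, kernel.lift_ι_assoc]
    exact ha'n
  have ha''0 : a'' ≫ rc p i M n = 0 := by
    rw [rc, reassoc_of% ha''r, cokernel.condition, comp_zero]
  refine ⟨W₂, π₂ ≫ π₁ ≫ π₀, epi_comp _ _, kernel.lift _ a'' ha''0, ?_⟩
  rw [← cancel_mono (kernel.ι (mu p (cokernel i) n))]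
  simp only [Category.assoc, theta_ι, theta0, kernel.lift_ι_assoc, a'', a', Preadditive.sub_comp,
    cokernel.condition, comp_zero, sub_zero]
  rw [ha]

/-- torsion of a quotient by a cofinite-type subobject. -/
lemma quot_tors_inC [Mono i] (hart : ∀ X : C, IsArtinianObject X)
    (htor : ∀ X : C, ∃ n : ℕ, (p ^ n) • 𝟙 X = 0)
    (hK : ∀ n, InC (kernel (mu p K n))) (hA : ∀ n, InC (kernel (mu p A n))) (n : ℕ) :
    InC (kernel (mu p (cokernel i) n)) := by
  obtain ⟨M, hM⟩ := exists_divisible hart p htor K hK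
  have hU : InC (kernel (rc p i M n)) :=
    inC_kernel (hA _) (inC_cokernel (hK M) (hA M) (tmap p i M)) _
  haveI := epi_theta p i M n hM
  have e : cokernel (lam p i M n) ≅ kernel (mu p (cokernel i) n) :=
    IsColimit.coconePointUniqueUpToIso (colimit.isColimit _)
      ((exact_lam_theta p i M n).gIsCokernel)
  exact inC_of_iso e (inC_cokernel (hK _) hU _)

end quot

theorem main14493 (hart : ∀ X : C, IsArtinianObject X) (p : ℕ)
    (htor : ∀ X : C, ∃ n : ℕ, (p ^ n) • 𝟙 X = 0)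
    (A B : Ind C) (hA : ∀ n : ℕ, (Ind.yoneda (C := C)).essImage (kernel ((p ^ n) • 𝟙 A)))
    (hB : ∀ n : ℕ, (Ind.yoneda (C := C)).essImage (kernel ((p ^ n) • 𝟙 B))) (f : A ⟶ B) :
    (∀ n : ℕ, (Ind.yoneda (C := C)).essImage (kernel ((p ^ n) • 𝟙 (kernel f)))) ∧
      (∀ n : ℕ, (Ind.yoneda (C := C)).essImage (kernel ((p ^ n) • 𝟙 (cokernel f)))) := by
  have hK : ∀ n, InC (kernel (mu p (kernel f) n)) := kernel_cof p f hA hB
  refine ⟨hK, ?_⟩
  have hcoim : ∀ n, InC (kernel (mu p (Abelian.coimage f) n)) :=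
    quot_tors_inC p (kernel.ι f) hart htor hK hA
  have hI : ∀ n, InC (kernel (mu p (image f) n)) :=
    cof_of_iso p (Abelian.coimageIsoImage' f) hcoim
  have hQ : ∀ n, InC (kernel (mu p (cokernel (image.ι f)) n)) :=
    quot_tors_inC p (image.ι f) hart htor hI hB
  exact cof_of_iso p (cokernelImageι f) hQ

end Groth.Agent.Helper29.IndCofE
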