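import Mathlib
import Groth.Agent.Lib.Helper29.IndCofE

set_option autoImplicit false
universe v

namespace Groth.Agent.Helper29.IndCofF

open CategoryTheory CategoryTheory.Limits Groth.Agent.Helper29.IndCofA
  Groth.Agent.Helper29.IndCofB Groth.Agent.Helper29.IndCofC Groth.Agent.Helper29.IndCofD
  Groth.Agent.Helper29.IndCofE

lemma coprime_split (n : ℕ) : ∀ N₀ : ℕ, 0 < N₀ →
    ∃ N₁ N₂ j : ℕ, N₀ = N₁ * N₂ ∧ N₁ ∣ n ^ j ∧ Nat.Coprime N₂ n := by
  intro N₀
  induction N₀ using Nat.strong_induction_on with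
  | _ N₀ ih =>
    intro hpos
    by_cases hc : Nat.Coprime N₀ n
    · exact ⟨1, N₀, 0, by simp, by simp, hc⟩
    · obtain ⟨d, hdef⟩ : ∃ d, d = Nat.gcd N₀ n := ⟨_, rfl⟩
      have hd : 1 < d := by
        have h0 : d ≠ 0 := by
          intro h
          rw [hdef, Nat.gcd_eq_zero_iff] at h
          omega
        have h1 : d ≠ 1 := by rw [hdef]; exact hc
        omega
      have hdn : d ∣ n := hdef ▸ Nat.gcd_dvd_right _ _
      obtain ⟨N', hN'⟩ : d ∣ N₀ := hdef ▸ Nat.gcd_dvd_left _ _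
      have hN'pos : 0 < N' := by
        rcases Nat.eq_zero_or_pos N' with h | h
        · rw [h, mul_zero] at hN'; omega
        · exact h
      have hlt : N' < N₀ := by
        calc N' = 1 * N' := (one_mul _).symm
          _ < d * N' := Nat.mul_lt_mul_of_pos_right hd hN'pos
          _ = N₀ := hN'.symm
      obtain ⟨N₁, N₂, j, h1, h2, h3⟩ := ih N' hlt hN'pos
      refine ⟨d * N₁, N₂, j + 1, ?_, ?_, h3⟩
      · rw [hN', h1, mul_assoc]
      · rw [pow_succ']
        exact Nat.mul_dvd_mul hdn h2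

lemma eq_zero_of_coprime_nsmul {G : Type*} [AddCommGroup G] (x : G) (a b : ℕ)
    (h : Nat.Coprime a b) (ha : a • x = 0) (hb : b • x = 0) : x = 0 := by
  have h1 : addOrderOf x ∣ a := addOrderOf_dvd_of_nsmul_eq_zero ha
  have h2 : addOrderOf x ∣ b := addOrderOf_dvd_of_nsmul_eq_zero hb
  have h3 : addOrderOf x ∣ 1 := by
    rw [← Nat.Coprime.gcd_eq_one h]
    exact Nat.dvd_gcd h1 h2
  exact AddMonoid.addOrderOf_eq_one_iff.1 (Nat.dvd_one.1 h3)

variable {C : Type v} [SmallCategory C] [Abelian C]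

/-- separation for general torsion. -/
lemma tors_ext' (htor : ∀ X : C, ∃ N : ℕ, 0 < N ∧ N • 𝟙 X = 0) (n : ℕ) {B Q : Ind C} (q : B ⟶ Q)
    (h1 : ∀ j, kernel.ι (mu n B j) ≫ q = 0) (h2 : (n • 𝟙 B) ≫ q = 0) : q = 0 := by
  apply (Ind.isSeparating_range_yoneda (C := C)) q 0
  rintro G ⟨X⟩ g
  obtain ⟨N₀, hpos, hN₀⟩ := htor X
  obtain ⟨N₁, N₂, j, rfl, hN₁, hcop⟩ := coprime_split n N₀ hpos
  have hg0 : (N₁ * N₂) • g = 0 := by
    rw [← nsmul_id_comp, ← yoneda_map_nsmul_id, hN₀, Functor.map_zero, zero_comp]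
  rw [comp_zero]
  have hcop' : Nat.Coprime N₁ N₂ :=
    Nat.Coprime.coprime_dvd_left hN₁ (Nat.Coprime.pow_left j hcop.symm)
  apply eq_zero_of_coprime_nsmul (g ≫ q) N₁ N₂ hcop'
  · -- `N₁ • (g ≫ q)` is killed by `n` and by `N₂`
    apply eq_zero_of_coprime_nsmul (N₁ • (g ≫ q)) N₂ n hcop
    · rw [← mul_nsmul', mul_comm N₂ N₁, ← Preadditive.nsmul_comp, hg0, zero_comp]
    · have : n • (g ≫ q) = 0 := by
        rw [← Preadditive.nsmul_comp, ← comp_nsmul_id g n, Category.assoc, h2, comp_zero]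
      rw [smul_comm, this, smul_zero]
  · -- `N₂ • g` lands in `B[n^j]`
    obtain ⟨c, hc⟩ := hN₁
    have h0 : (N₂ • g) ≫ mu n B j = 0 := by
      rw [mu, comp_nsmul_id, hc, mul_comm N₁ c, mul_nsmul', ← mul_nsmul' g N₁ N₂, hg0, smul_zero]
    rw [← Preadditive.nsmul_comp, ← kernel.lift_ι _ _ h0, Category.assoc, h1, comp_zero]

/-- The engine for general torsion. -/
theorem exists_divisible' (hart : ∀ X : C, IsArtinianObject X) (p : ℕ)
    (htor : ∀ X : C, ∃ N : ℕ, 0 < N ∧ N • 𝟙 X = 0)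
    (A : Ind C) (hA : ∀ n : ℕ, InC (kernel (mu p A n))) :
    ∃ N : ℕ, Epi (p • 𝟙 (image (mu p A N))) := by
  obtain ⟨N, hN⟩ := artinian hart (hA 1) (Dm p A) (Dm_antitone p A)
    (fun m => inC_imageSubobject (hA (m + 1)) (hA 1) _)
  refine ⟨N, ?_⟩
  apply Abelian.epi_of_cokernel_π_eq_zero
  apply tors_ext' htor p
  · intro j
    obtain ⟨W', π, hπ, y, hy⟩ := tors_le_pB hN j (kernel.ι (mu p (image (mu p A N)) j))
      (kernel.condition _)
    rw [← cancel_epi π, reassoc_of% hy, mu_one, cokernel.condition, comp_zero, comp_zero]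
  · exact cokernel.condition _

/-- torsion of a quotient by a subobject with divisible `p^M K`. -/
lemma quot_tors_inC' (p : ℕ) {K A : Ind C} (i : K ⟶ A) [Mono i] (M : ℕ)
    (hM : Epi (p • 𝟙 (image (mu p K M))))
    (hK : ∀ n, InC (kernel (mu p K n))) (hA : ∀ n, InC (kernel (mu p A n))) (n : ℕ) :
    InC (kernel (mu p (cokernel i) n)) := by
  have hU : InC (kernel (rc p i M n)) :=
    inC_kernel (hA _) (inC_cokernel (hK M) (hA M) (tmap p i M)) _
  haveI := epi_theta p i M n hM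
  have e : cokernel (lam p i M n) ≅ kernel (mu p (cokernel i) n) :=
    IsColimit.coconePointUniqueUpToIso (colimit.isColimit _)
      ((exact_lam_theta p i M n).gIsCokernel)
  exact inC_of_iso e (inC_cokernel (hK _) hU _)

lemma mu_one_eq (n : ℕ) (A : Ind C) : mu n A 1 = n • 𝟙 A := by rw [mu, pow_one]

theorem main14499 (hart : ∀ X : C, IsArtinianObject X)
    (htor : ∀ X : C, ∃ n : ℕ, 0 < n ∧ n • 𝟙 X = 0)
    (A : Ind C) (hA : ∀ n : ℕ, 0 < n → (Ind.yoneda (C := C)).essImage (kernel (n • 𝟙 A))) (n : ℕ)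
    (hn : 0 < n) :
    (Ind.yoneda (C := C)).essImage (cokernel (n • 𝟙 A)) := by
  have hA' : ∀ k, InC (kernel (mu n A k)) := fun k => hA (n ^ k) (pow_pos hn k)
  obtain ⟨N, hN⟩ := exists_divisible' hart n htor A hA'
  obtain ⟨e⟩ := coker_iso n A N hN 1
  exact inC_of_iso (e ≪≫ cokernelIsoOfEq (mu_one_eq n A))
    (inC_cokernel (hA' (N + 1)) (hA' N) _)

theorem main14500 (hart : ∀ X : C, IsArtinianObject X)
    (htor : ∀ X : C, ∃ n : ℕ, 0 < n ∧ n • 𝟙 X = 0)
    (A B : Ind C) (hA : ∀ n : ℕ, 0 < n → (Ind.yoneda (C := C)).essImage (kernel (n • 𝟙 A)))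
    (hB : ∀ n : ℕ, 0 < n → (Ind.yoneda (C := C)).essImage (kernel (n • 𝟙 B))) (f : A ⟶ B) :
    (∀ n : ℕ, 0 < n → (Ind.yoneda (C := C)).essImage (kernel (n • 𝟙 (kernel f)))) ∧
      (∀ n : ℕ, 0 < n → (Ind.yoneda (C := C)).essImage (kernel (n • 𝟙 (cokernel f)))) := by
  have key : ∀ m : ℕ, 0 < m → (∀ k, InC (kernel (mu m (kernel f) k))) ∧
      (∀ k, InC (kernel (mu m (cokernel f) k))) := by
    intro m hm
    have hA' : ∀ k, InC (kernel (mu m A k)) := fun k => hA (m ^ k) (pow_pos hm k)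
    have hB' : ∀ k, InC (kernel (mu m B k)) := fun k => hB (m ^ k) (pow_pos hm k)
    have hK : ∀ k, InC (kernel (mu m (kernel f) k)) := kernel_cof m f hA' hB'
    refine ⟨hK, ?_⟩
    obtain ⟨M₁, hM₁⟩ := exists_divisible' hart m htor (kernel f) hK
    have hcoim : ∀ k, InC (kernel (mu m (Abelian.coimage f) k)) :=
      quot_tors_inC' m (kernel.ι f) M₁ hM₁ hK hA'
    have hI : ∀ k, InC (kernel (mu m (image f) k)) :=
      cof_of_iso m (Abelian.coimageIsoImage' f) hcoim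
    obtain ⟨M₂, hM₂⟩ := exists_divisible' hart m htor (image f) hI
    have hQ : ∀ k, InC (kernel (mu m (cokernel (image.ι f)) k)) :=
      quot_tors_inC' m (image.ι f) M₂ hM₂ hI hB'
    exact cof_of_iso m (cokernelImageι f) hQ
  constructor
  · intro n hn
    exact inC_of_iso (kernelIsoOfEq (mu_one_eq n _)) ((key n hn).1 1)
  · intro n hn
    exact inC_of_iso (kernelIsoOfEq (mu_one_eq n _)) ((key n hn).2 1)

end Groth.Agent.Helper29.IndCofF
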