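import Mathlib
import Groth.Agent.Lib.Helper29.IndCofF

set_option autoImplicit false
universe v

namespace Groth.Agent.Helper29.IndCofG

open CategoryTheory CategoryTheory.Limits Groth.Agent.Helper29.IndCofA
  Groth.Agent.Helper29.IndCofB Groth.Agent.Helper29.IndCofC Groth.Agent.Helper29.IndCofD
  Groth.Agent.Helper29.IndCofE

variable {C : Type v} [SmallCategory C] [Abelian C]

lemma mu_nat_assoc' {D : Type*} [Category D] [Abelian D] (p : ℕ) {X Y Z : D} (x : X ⟶ Y) (n : ℕ)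
    (h : Y ⟶ Z) : x ≫ mu p Y n ≫ h = mu p X n ≫ x ≫ h := by
  rw [← Category.assoc, mu_nat, Category.assoc]

instance mono_tmap (p : ℕ) {A B : Ind C} (i : A ⟶ B) [Mono i] (n : ℕ) : Mono (tmap p i n) :=
  mono_of_mono_fac (tmap_ι p i n)

lemma epi_nsmul_of_iso (p : ℕ) {X Y : Ind C} (i : X ≅ Y) (h : Epi (p • 𝟙 X)) :
    Epi (p • 𝟙 Y) := by
  have : p • 𝟙 Y = i.inv ≫ (p • 𝟙 X) ≫ i.hom := by
    rw [← nsmul_nat i.hom p, Iso.inv_hom_id_assoc]
  rw [this]
  infer_instance

/-- lifting subobject inclusions through refinements. -/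
lemma le_of_refinement {A : Ind C} (X Y : Subobject A) {W : Ind C} (π : W ⟶ (X : Ind C)) [Epi π]
    (g : W ⟶ (Y : Ind C)) (h : π ≫ X.arrow = g ≫ Y.arrow) : X ≤ Y := by
  haveI : StrongEpi π := strongEpi_of_epi π
  have sq : CommSq g π Y.arrow X.arrow := ⟨h.symm⟩
  exact Subobject.le_of_comm sq.lift sq.fac_right

section divpart
variable (p : ℕ) {A : Ind C} (S : Subobject A) (N : ℕ)

/-- `p^N S` as a subobject of `A`. -/
noncomputable abbrev Esub : Subobject A := imageSubobject (mu p (S : Ind C) N ≫ S.arrow)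

lemma Esub_le : Esub p S N ≤ S := imageSubobject_le _ (mu p (S : Ind C) N) rfl

noncomputable abbrev eE : (S : Ind C) ⟶ (Esub p S N : Ind C) :=
  factorThruImageSubobject (mu p (S : Ind C) N ≫ S.arrow)

noncomputable abbrev εE : (Esub p S N : Ind C) ⟶ (S : Ind C) :=
  Subobject.ofLE _ _ (Esub_le p S N)

lemma eE_εE : eE p S N ≫ εE p S N = mu p (S : Ind C) N := by
  rw [← cancel_mono S.arrow, Category.assoc, Subobject.ofLE_arrow, imageSubobject_arrow_comp]

lemma Esub_div (hN : Epi (p • 𝟙 (image (mu p (S : Ind C) N)))) :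
    Epi (p • 𝟙 (Esub p S N : Ind C)) := by
  haveI : StrongEpi (eE p S N) := strongEpi_of_epi _
  exact epi_nsmul_of_iso p (image.isoStrongEpiMono (eE p S N) (εE p S N) (eE_εE p S N)).symm hN

lemma Esub_tors (hS : ∀ n, InC (kernel (mu p (S : Ind C) n))) (k : ℕ) :
    InC (kernel (mu p (Esub p S N : Ind C) k)) :=
  tors_inC p N (eE p S N) (εE p S N) (eE_εE p S N) hS k

/-- maximality among divisible subobjects of `S`. -/
lemma le_Esub (D : Subobject A) (hDS : D ≤ S) (hD : Epi (p • 𝟙 (D : Ind C))) :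
    D ≤ Esub p S N := by
  haveI := epi_mu_of_epi p _ hD N
  obtain ⟨W, π, hπ, y, hy⟩ := surjective_up_to_refinements_of_epi (mu p (D : Ind C) N) (𝟙 _)
  rw [Category.comp_id] at hy
  refine le_of_refinement D (Esub p S N) π (y ≫ Subobject.ofLE D S hDS ≫ eE p S N) ?_
  rw [Category.assoc, Category.assoc, imageSubobject_arrow_comp, mu_nat_assoc',
    Subobject.ofLE_arrow, ← Category.assoc, ← hy]

end divpart

/-- the `p^k`-torsion of a subobject, as a subobject of `A[p^k]`. -/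
noncomputable abbrev Fsub (p : ℕ) {A : Ind C} (D : Subobject A) (k : ℕ) :
    Subobject (kernel (mu p A k)) := Subobject.mk (tmap p D.arrow k)

lemma Fsub_mono (p : ℕ) {A : Ind C} {D' D : Subobject A} (h : D' ≤ D) (k : ℕ) :
    Fsub p D' k ≤ Fsub p D k := by
  refine Subobject.mk_le_mk_of_comm (tmap p (Subobject.ofLE D' D h) k) ?_
  rw [← cancel_mono (kernel.ι (mu p A k))]
  simp only [Category.assoc, tmap_ι, tmap_ι_assoc, Subobject.ofLE_arrow]

lemma Fsub_inC (p : ℕ) {A : Ind C} (D : Subobject A) (k : ℕ)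
    (h : InC (kernel (mu p (D : Ind C) k))) : InC (Fsub p D k : Ind C) :=
  inC_of_iso (Subobject.underlyingIso _).symm h

/-- transfer of torsion elements along an equality of `Fsub`. -/
lemma tors_transfer (p : ℕ) {A : Ind C} {D' D : Subobject A} (k : ℕ)
    (h : Fsub p D k ≤ Fsub p D' k) {W : Ind C} (x : W ⟶ (D : Ind C))
    (hx : x ≫ mu p (D : Ind C) k = 0) :
    ∃ y : W ⟶ (D' : Ind C), y ≫ D'.arrow = x ≫ D.arrow := by
  refine ⟨kernel.lift _ x hx ≫ Subobject.ofMkLEMk _ _ h ≫ kernel.ι _, ?_⟩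
  have h1 := Subobject.ofMkLEMk_comp h
  have h2 := congrArg (fun t => t ≫ kernel.ι (mu p A k)) h1
  simp only [Category.assoc, tmap_ι] at h2
  simp only [Category.assoc]
  rw [h2, kernel.lift_ι_assoc]

/-- two divisible subobjects with the same `p`-torsion coincide. -/
lemma div_eq_of_tors_le (p : ℕ) (htor : ∀ X : C, ∃ n : ℕ, (p ^ n) • 𝟙 X = 0) {A : Ind C}
    (D' D : Subobject A) (hle : D' ≤ D) (hD' : Epi (p • 𝟙 (D' : Ind C)))
    (hF : Fsub p D 1 ≤ Fsub p D' 1) : D' = D := by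
  let j := Subobject.ofLE D' D hle
  have hj : j ≫ D.arrow = D'.arrow := Subobject.ofLE_arrow _
  have claim : ∀ k : ℕ, ∀ {W : Ind C} (x : W ⟶ (D : Ind C)), x ≫ mu p (D : Ind C) k = 0 →
      ∃ (W' : Ind C) (π : W' ⟶ W) (_ : Epi π) (y : W' ⟶ (D' : Ind C)), π ≫ x = y ≫ j := by
    intro k
    induction k with
    | zero =>
      intro W x hx
      rw [mu_zero, Category.comp_id] at hx
      exact ⟨W, 𝟙 W, inferInstance, 0, by rw [hx, comp_zero, zero_comp]⟩
    | succ k ih =>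
      intro W x hx
      have hx1 : (x ≫ mu p (D : Ind C) 1) ≫ mu p (D : Ind C) k = 0 := by
        rw [Category.assoc, mu_comp_mu, Nat.add_comm 1 k, hx]
      obtain ⟨W₁, π₁, hπ₁, y₁, hy₁⟩ := ih _ hx1
      haveI : Epi (mu p (D' : Ind C) 1) := by rw [mu_one]; exact hD'
      obtain ⟨W₂, π₂, hπ₂, y₂, hy₂⟩ :=
        surjective_up_to_refinements_of_epi (mu p (D' : Ind C) 1) y₁
      have hx' : (π₂ ≫ π₁ ≫ x - y₂ ≫ j) ≫ mu p (D : Ind C) 1 = 0 := by
        rw [Preadditive.sub_comp, Category.assoc, Category.assoc, Category.assoc,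
          mu_nat p j 1, ← reassoc_of% hy₂, ← hy₁, sub_self]
      obtain ⟨y₃, hy₃⟩ := tors_transfer p 1 hF _ hx'
      refine ⟨W₂, π₂ ≫ π₁, epi_comp _ _, y₂ + y₃, ?_⟩
      rw [← cancel_mono D.arrow, Preadditive.add_comp, Preadditive.add_comp, Category.assoc,
        Category.assoc y₃, hj, hy₃, Preadditive.sub_comp, Category.assoc, Category.assoc,
        Category.assoc, Category.assoc]
      abel
  have hq : cokernel.π j = 0 := by
    apply tors_ext (Set.range (fun n : ℕ => p ^ n)) (fun X => by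
      obtain ⟨n, hn⟩ := htor X
      exact ⟨p ^ n, ⟨n, rfl⟩, hn⟩)
    rintro _ ⟨k, rfl⟩
    obtain ⟨W', π, hπ, y, hy⟩ := claim k (kernel.ι (mu p (D : Ind C) k)) (kernel.condition _)
    rw [← cancel_epi π, reassoc_of% hy, cokernel.condition, comp_zero, comp_zero]
  haveI : Epi j := Abelian.epi_of_cokernel_π_eq_zero _ hq
  haveI : IsIso j := isIso_of_mono_of_epi j
  exact Subobject.eq_of_comm (asIso j) hj

end Groth.Agent.Helper29.IndCofG
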