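import Mathlib
import Groth.Agent.Lib.Helper29.IndCofG

set_option autoImplicit false
universe v

namespace Groth.Agent.Helper29.IndCofH

open CategoryTheory CategoryTheory.Limits Groth.Agent.Helper29.IndCofA
  Groth.Agent.Helper29.IndCofB Groth.Agent.Helper29.IndCofC Groth.Agent.Helper29.IndCofD
  Groth.Agent.Helper29.IndCofE Groth.Agent.Helper29.IndCofG

variable {C : Type v} [SmallCategory C] [Abelian C]

theorem main14495 (hart : ∀ X : C, IsArtinianObject X) (p : ℕ)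
    (htor : ∀ X : C, ∃ n : ℕ, (p ^ n) • 𝟙 X = 0)
    (A : Ind C) (hA : ∀ n : ℕ, (Ind.yoneda (C := C)).essImage (kernel ((p ^ n) • 𝟙 A)))
    (S : ℕ → Subobject A) (hS : Antitone S)
    (hcof : ∀ m n : ℕ, (Ind.yoneda (C := C)).essImage
      (kernel ((p ^ n) • 𝟙 ((S m : Subobject A) : Ind C)))) :
    ∃ N : ℕ, ∀ m : ℕ, N ≤ m → S m = S N := by
  -- divisible parts
  have hdiv : ∀ m, ∃ N, Epi (p • 𝟙 (image (mu p (S m : Ind C) N))) :=
    fun m => exists_divisible hart p htor _ (hcof m)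
  choose Nm hNm using hdiv
  let E : ℕ → Subobject A := fun m => Esub p (S m) (Nm m)
  have hEdiv : ∀ m, Epi (p • 𝟙 (E m : Ind C)) := fun m => Esub_div p (S m) (Nm m) (hNm m)
  have hEle : ∀ m, E m ≤ S m := fun m => Esub_le p (S m) (Nm m)
  have hEanti : Antitone E := by
    apply antitone_nat_of_succ_le
    intro m
    exact le_Esub p (S m) (Nm m) (E (m + 1)) ((hEle (m + 1)).trans (hS (Nat.le_succ m)))
      (hEdiv (m + 1))
  -- stabilisation of the `p`-torsion of the divisible parts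
  obtain ⟨N₁, hN₁⟩ := artinian hart (hA 1) (fun m => Fsub p (E m) 1)
    (fun m m' h => Fsub_mono p (hEanti h) 1)
    (fun m => Fsub_inC p (E m) 1 (Esub_tors p (S m) (Nm m) (hcof m) 1))
  have hE : ∀ m, N₁ ≤ m → E m = E N₁ := fun m hm =>
    div_eq_of_tors_le p htor (E m) (E N₁) (hEanti hm) (hEdiv m) (le_of_eq (hN₁ m hm).symm)
  -- stabilisation of the `p^k₀`-torsion
  let k₀ := Nm N₁
  obtain ⟨N₂, hN₂⟩ := artinian hart (hA k₀) (fun m => Fsub p (S m) k₀)
    (fun m m' h => Fsub_mono p (hS h) k₀)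
    (fun m => Fsub_inC p (S m) k₀ (hcof m k₀))
  refine ⟨max N₁ N₂, fun m hm => le_antisymm (hS hm) ?_⟩
  set N' := max N₁ N₂ with hN'
  have hN'1 : N₁ ≤ N' := le_max_left _ _
  have hN'2 : N₂ ≤ N' := le_max_right _ _
  have hm1 : N₁ ≤ m := hN'1.trans hm
  have hm2 : N₂ ≤ m := hN'2.trans hm
  -- the element `u : S N' ⟶ E N'` representing multiplication by `p^k₀`
  let ι₁ : (S N' : Ind C) ⟶ (S N₁ : Ind C) := Subobject.ofLE _ _ (hS hN'1)
  let u : (S N' : Ind C) ⟶ (E N' : Ind C) :=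
    ι₁ ≫ eE p (S N₁) (Nm N₁) ≫ Subobject.ofLE (E N₁) (E N') (le_of_eq (hE N' hN'1).symm)
  have hu : u ≫ (E N').arrow = mu p (S N' : Ind C) k₀ ≫ (S N').arrow := by
    simp only [u, Category.assoc, Subobject.ofLE_arrow]
    rw [imageSubobject_arrow_comp, mu_nat_assoc', Subobject.ofLE_arrow]
  haveI := epi_mu_of_epi p _ (hEdiv N') k₀
  obtain ⟨W, π, hπ, b₀, hb₀⟩ :=
    surjective_up_to_refinements_of_epi (mu p (E N' : Ind C) k₀) u
  let b : W ⟶ (S N' : Ind C) := b₀ ≫ Subobject.ofLE _ _ (hEle N')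
  have hb : b ≫ (S N').arrow = b₀ ≫ (E N').arrow := by
    simp only [b, Category.assoc, Subobject.ofLE_arrow]
  have h1 : b ≫ mu p (S N' : Ind C) k₀ ≫ (S N').arrow = π ≫ u ≫ (E N').arrow := by
    calc b ≫ mu p (S N' : Ind C) k₀ ≫ (S N').arrow
        = mu p W k₀ ≫ b ≫ (S N').arrow := mu_nat_assoc' p b k₀ _
      _ = mu p W k₀ ≫ b₀ ≫ (E N').arrow := by rw [hb]
      _ = b₀ ≫ mu p (E N' : Ind C) k₀ ≫ (E N').arrow := (mu_nat_assoc' p b₀ k₀ _).symm
      _ = π ≫ u ≫ (E N').arrow := by rw [← reassoc_of% hb₀]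
  have ht : (π - b) ≫ mu p (S N' : Ind C) k₀ = 0 := by
    rw [← cancel_mono (S N').arrow, zero_comp, Category.assoc, Preadditive.sub_comp, h1, hu,
      sub_self]
  -- transfer the torsion part to `S m`
  have hF : Fsub p (S N') k₀ ≤ Fsub p (S m) k₀ :=
    le_of_eq ((hN₂ N' hN'2).trans (hN₂ m hm2).symm)
  obtain ⟨y, hy⟩ := tors_transfer p k₀ hF (π - b) ht
  -- the divisible part lies in `S m`
  have hEm : E N' ≤ S m := (le_of_eq ((hE N' hN'1).trans (hE m hm1).symm)).trans (hEle m)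
  refine le_of_refinement (S N') (S m) π (y + b₀ ≫ Subobject.ofLE _ _ hEm) ?_
  rw [Preadditive.add_comp, hy, Category.assoc, Subobject.ofLE_arrow, ← hb, Preadditive.sub_comp]
  abel

end Groth.Agent.Helper29.IndCofH
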