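import Mathlib

universe u
open CategoryTheory CategoryTheory.Limits Opposite

namespace Groth.Agent.Helper29.IndKarA

variable {C : Type u} [SmallCategory C] {C' : Type u} [SmallCategory C'] (u : C ⥤ C')

/-- left Kan extension on presheaves -/
noncomputable abbrev L : (Cᵒᵖ ⥤ Type u) ⥤ (C'ᵒᵖ ⥤ Type u) := u.op.lan

/-- restriction of presheaves -/
abbrev R : (C'ᵒᵖ ⥤ Type u) ⥤ (Cᵒᵖ ⥤ Type u) := (Functor.whiskeringLeft Cᵒᵖ C'ᵒᵖ (Type u)).obj u.op

noncomputable abbrev adj : L u ⊣ R u := u.op.lanAdjunction (Type u)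

/-- the comparison `u_! (y Y) ⟶ y (u Y)` -/
noncomputable def a (Y : C) : (L u).obj (yoneda.obj Y) ⟶ yoneda.obj (u.obj Y) :=
  ((adj u).homEquiv _ _).symm (yonedaMap u Y)

lemma homEquiv_a (Y : C) : (adj u).homEquiv _ _ (a u Y) = yonedaMap u Y :=
  Equiv.apply_symm_apply _ _

instance a_isIso (Y : C) : IsIso (a u Y) := by
  apply isIso_of_coyoneda_map_bijective
  intro G'
  -- the composite with the bijections `adj.homEquiv` and `yonedaEquiv` is `yonedaEquiv`
  have key : ∀ ψ : yoneda.obj (u.obj Y) ⟶ G',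
      yonedaEquiv ((adj u).homEquiv _ _ (a u Y ≫ ψ)) = yonedaEquiv ψ := by
    intro ψ
    rw [Adjunction.homEquiv_naturality_right, homEquiv_a]
    change ψ.app (op (u.obj Y)) (u.map (𝟙 Y)) = ψ.app (op (u.obj Y)) (𝟙 (u.obj Y))
    rw [u.map_id]
  constructor
  · intro ψ₁ ψ₂ h
    apply yonedaEquiv.injective
    rw [← key ψ₁, ← key ψ₂]
    exact congrArg _ (congrArg _ h)
  · intro φ
    refine ⟨(yonedaEquiv (X := u.obj Y) (F := G')).symm
      (yonedaEquiv (X := Y) (F := (R u).obj G') ((adj u).homEquiv _ _ φ)), ?_⟩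
    apply ((adj u).homEquiv _ _).injective
    apply (yonedaEquiv (X := Y) (F := (R u).obj G')).injective
    change yonedaEquiv ((adj u).homEquiv _ _ (a u Y ≫ _)) = _
    rw [key, Equiv.apply_symm_apply]

lemma a_naturality {X Y : C} (f : X ⟶ Y) :
    (L u).map (yoneda.map f) ≫ a u Y = a u X ≫ yoneda.map (u.map f) := by
  apply ((adj u).homEquiv _ _).injective
  rw [Adjunction.homEquiv_naturality_left, Adjunction.homEquiv_naturality_right, homEquiv_a,
    homEquiv_a]
  ext Z g
  change u.map (g ≫ f) = u.map g ≫ u.map f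
  exact u.map_comp g f

/-- if `u_!` is bijective on morphisms between representables, `u` is fully faithful -/
lemma map_bijective_of_lan_bijective
    (h : ∀ X Y : C, Function.Bijective
      (fun φ : yoneda.obj X ⟶ yoneda.obj Y => (L u).map φ)) (X Y : C) :
    Function.Bijective (fun f : X ⟶ Y => u.map f) := by
  constructor
  · intro f g hfg
    have hfg' : u.map f = u.map g := hfg
    have h1 : (L u).map (yoneda.map f) ≫ a u Y = (L u).map (yoneda.map g) ≫ a u Y := by
      rw [a_naturality, a_naturality, hfg']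
    have h2 := (cancel_mono (a u Y)).1 h1
    exact yoneda.map_injective ((h X Y).1 h2)
  · intro k
    obtain ⟨φ, hφ⟩ := (h X Y).2 (a u X ≫ yoneda.map k ≫ inv (a u Y))
    have hφ' : (L u).map φ = a u X ≫ yoneda.map k ≫ inv (a u Y) := hφ
    refine ⟨yoneda.preimage φ, ?_⟩
    apply yoneda.map_injective
    rw [← cancel_epi (a u X), ← a_naturality, yoneda.map_preimage, hφ']
    simp

/-- elements of `u_! F` come from elements of `F` -/
lemma exists_of_lan (F : Cᵒᵖ ⥤ Type u) (X' : C') (s : ((L u).obj F).obj (op X')) :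
    ∃ (X : C) (g : X' ⟶ u.obj X) (x : F.obj (op X)),
      ((L u).obj F).map g.op (((adj u).unit.app F).app (op X) x) = s := by
  have hcol := u.op.isPointwiseLeftKanExtensionLeftKanExtensionUnit F (op X')
  obtain ⟨j, y, hy⟩ := Types.jointly_surjective_of_isColimit hcol s
  refine ⟨j.left.unop, j.hom.unop, y, ?_⟩
  rw [Functor.lanAdjunction_unit]
  exact hy

/-- if `y X'` is in the essential image of `u_!`, then `X'` is a retract of some `u X` -/
lemma retract_of_iso (F : Cᵒᵖ ⥤ Type u) (X' : C') (θ : (L u).obj F ≅ yoneda.obj X') :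
    ∃ (X : C) (i : X' ⟶ u.obj X) (r : u.obj X ⟶ X'), i ≫ r = 𝟙 X' := by
  obtain ⟨X, g, x, hx⟩ := exists_of_lan u F X' (θ.inv.app (op X') (𝟙 X'))
  refine ⟨X, g, θ.hom.app (op (u.obj X)) (((adj u).unit.app F).app (op X) x), ?_⟩
  have nat := ConcreteCategory.congr_hom (θ.hom.naturality g.op)
    (((adj u).unit.app F).app (op X) x)
  have h2 : θ.hom.app (op X') (θ.inv.app (op X') (𝟙 X')) = 𝟙 X' := by
    have e1 : θ.inv.app (op X') ≫ θ.hom.app (op X') = 𝟙 _ := by
      rw [← NatTrans.comp_app, θ.inv_hom_id]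
      rfl
    have := ConcreteCategory.congr_hom e1 (𝟙 X' : (yoneda.obj X').obj (op X'))
    exact this
  have h3 : g ≫ θ.hom.app (op (u.obj X)) (((adj u).unit.app F).app (op X) x) =
      θ.hom.app (op X') (((L u).obj F).map g.op (((adj u).unit.app F).app (op X) x)) := nat.symm
  rw [h3, hx, h2]

end Groth.Agent.Helper29.IndKarA
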