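import Mathlib
import Groth.Agent.Lib.Helper29.IndKarA

universe u
open CategoryTheory CategoryTheory.Limits Opposite

namespace Groth.Agent.Helper29.IndKarB

open Groth.Agent.Helper29.IndKarA

variable {C : Type u} [SmallCategory C] {C' : Type u} [SmallCategory C'] (u : C ⥤ C')
  (hr : ∀ X' : C', ∃ (X : C) (i : X' ⟶ u.obj X) (r : u.obj X ⟶ X'), i ≫ r = 𝟙 X')

/-- chosen object of which `X'` is a retract -/
noncomputable def rX (X' : C') : C := (hr X').choose
noncomputable def ri (X' : C') : X' ⟶ u.obj (rX u hr X') := (hr X').choose_spec.choose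
noncomputable def rr (X' : C') : u.obj (rX u hr X') ⟶ X' := (hr X').choose_spec.choose_spec.choose
lemma ri_rr (X' : C') : ri u hr X' ≫ rr u hr X' = 𝟙 X' :=
  (hr X').choose_spec.choose_spec.choose_spec

lemma map_ri_rr (G : C'ᵒᵖ ⥤ Type u) (X' : C') (t : G.obj (op X')) :
    G.map (ri u hr X').op (G.map (rr u hr X').op t) = t := by
  have : G.map (rr u hr X').op ≫ G.map (ri u hr X').op = 𝟙 _ := by
    rw [← G.map_comp, ← op_comp, ri_rr, op_id, G.map_id]
  exact ConcreteCategory.congr_hom this t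

include hr in
lemma faithful_R : (R u).Faithful := by
  constructor
  intro G₁ G₂ α β h
  ext ⟨X'⟩ t
  have hX : α.app (op (u.obj (rX u hr X'))) = β.app (op (u.obj (rX u hr X'))) :=
    congrArg (fun γ => γ.app (op (rX u hr X'))) h
  have na := ConcreteCategory.congr_hom (α.naturality (ri u hr X').op) (G₁.map (rr u hr X').op t)
  have nb := ConcreteCategory.congr_hom (β.naturality (ri u hr X').op) (G₁.map (rr u hr X').op t)
  dsimp at na nb
  rw [map_ri_rr] at na nb
  rw [hX] at na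
  exact na.trans nb.symm

section Full

variable [u.Full] [u.Faithful]

/-- extension of a natural transformation between restrictions -/
noncomputable def ext (G₁ G₂ : C'ᵒᵖ ⥤ Type u) (γ : (R u).obj G₁ ⟶ (R u).obj G₂) : G₁ ⟶ G₂ where
  app X' := G₁.map (rr u hr X'.unop).op ≫ γ.app (op (rX u hr X'.unop)) ≫
    G₂.map (ri u hr X'.unop).op
  naturality := by
    rintro ⟨P⟩ ⟨Q⟩ ⟨m⟩
    -- `m : Q ⟶ P`
    change G₁.map m.op ≫ G₁.map (rr u hr Q).op ≫ γ.app (op (rX u hr Q)) ≫ G₂.map (ri u hr Q).op =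
      (G₁.map (rr u hr P).op ≫ γ.app (op (rX u hr P)) ≫ G₂.map (ri u hr P).op) ≫ G₂.map m.op
    let b : rX u hr Q ⟶ rX u hr P := u.preimage (rr u hr Q ≫ m ≫ ri u hr P)
    have hb : u.map b = rr u hr Q ≫ m ≫ ri u hr P := u.map_preimage _
    have e1 : rr u hr Q ≫ m = u.map b ≫ rr u hr P := by
      rw [hb, Category.assoc, Category.assoc, ri_rr, Category.comp_id]
    have e2 : ri u hr Q ≫ u.map b = m ≫ ri u hr P := by
      rw [hb, ← Category.assoc, ri_rr, Category.id_comp]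
    have nγ : G₁.map (u.map b).op ≫ γ.app (op (rX u hr Q)) =
        γ.app (op (rX u hr P)) ≫ G₂.map (u.map b).op := γ.naturality b.op
    calc G₁.map m.op ≫ G₁.map (rr u hr Q).op ≫ γ.app (op (rX u hr Q)) ≫ G₂.map (ri u hr Q).op
        = G₁.map (rr u hr Q ≫ m).op ≫ γ.app (op (rX u hr Q)) ≫ G₂.map (ri u hr Q).op := by
          rw [op_comp, G₁.map_comp, Category.assoc]
      _ = G₁.map (rr u hr P).op ≫ (G₁.map (u.map b).op ≫ γ.app (op (rX u hr Q))) ≫
            G₂.map (ri u hr Q).op := by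
          rw [e1, op_comp, G₁.map_comp, Category.assoc, Category.assoc]
      _ = G₁.map (rr u hr P).op ≫ γ.app (op (rX u hr P)) ≫
            G₂.map (ri u hr Q ≫ u.map b).op := by
          rw [nγ, op_comp, G₂.map_comp, Category.assoc]
      _ = (G₁.map (rr u hr P).op ≫ γ.app (op (rX u hr P)) ≫ G₂.map (ri u hr P).op) ≫
            G₂.map m.op := by
          rw [e2, op_comp, G₂.map_comp, Category.assoc, Category.assoc]

lemma R_map_ext (G₁ G₂ : C'ᵒᵖ ⥤ Type u) (γ : (R u).obj G₁ ⟶ (R u).obj G₂) :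
    (R u).map (ext u hr G₁ G₂ γ) = γ := by
  ext ⟨X₀⟩ : 2
  change G₁.map (rr u hr (u.obj X₀)).op ≫ γ.app (op (rX u hr (u.obj X₀))) ≫
    G₂.map (ri u hr (u.obj X₀)).op = γ.app (op X₀)
  let r₀ : rX u hr (u.obj X₀) ⟶ X₀ := u.preimage (rr u hr (u.obj X₀))
  let i₀ : X₀ ⟶ rX u hr (u.obj X₀) := u.preimage (ri u hr (u.obj X₀))
  have hr₀ : u.map r₀ = rr u hr (u.obj X₀) := u.map_preimage _
  have hi₀ : u.map i₀ = ri u hr (u.obj X₀) := u.map_preimage _
  have nγ : G₁.map (u.map r₀).op ≫ γ.app (op (rX u hr (u.obj X₀))) =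
      γ.app (op X₀) ≫ G₂.map (u.map r₀).op := γ.naturality r₀.op
  rw [← hr₀, ← hi₀, ← Category.assoc, nγ, Category.assoc, ← G₂.map_comp, ← op_comp, hi₀, hr₀,
    ri_rr, op_id]
  erw [G₂.map_id, Category.comp_id]

include hr in
lemma full_R : (R u).Full := ⟨fun {G₁ G₂} γ => ⟨ext u hr G₁ G₂ γ, R_map_ext u hr G₁ G₂ γ⟩⟩

end Full

end Groth.Agent.Helper29.IndKarB
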