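import Mathlib
import Groth.Agent.Lib.Helper29.IndKarB

universe u
open CategoryTheory CategoryTheory.Limits Opposite

namespace Groth.Agent.Helper29.IndKarC

open Groth.Agent.Helper29.IndKarA Groth.Agent.Helper29.IndKarB

variable {C : Type u} [SmallCategory C] {C' : Type u} [SmallCategory C'] (u : C ⥤ C')
  (hr : ∀ X' : C', ∃ (X : C) (i : X' ⟶ u.obj X) (r : u.obj X ⟶ X'), i ≫ r = 𝟙 X')
  [u.Full] [u.Faithful] (G' : C'ᵒᵖ ⥤ Type u)

/-- the object of `CostructuredArrow yoneda (u^* G')` attached to an element of `G'` -/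
noncomputable def dObj (Z : C') (z : G'.obj (op Z)) : CostructuredArrow yoneda ((R u).obj G') :=
  CostructuredArrow.mk (Y := rX u hr Z)
    (yonedaEquiv.symm (show ((R u).obj G').obj (op (rX u hr Z)) from G'.map (rr u hr Z).op z))

/-- the element of `G'` attached to an object of `CostructuredArrow yoneda (u^* G')` -/
noncomputable def elt (d : CostructuredArrow yoneda ((R u).obj G')) : G'.obj (op (u.obj d.left)) :=
  yonedaEquiv (X := d.left) (F := (R u).obj G') d.hom

/-- the object of `CostructuredArrow yoneda G'` attached to an object of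
`CostructuredArrow yoneda (u^* G')` -/
noncomputable def eObj (d : CostructuredArrow yoneda ((R u).obj G')) :
    CostructuredArrow yoneda G' :=
  CostructuredArrow.mk (Y := u.obj d.left) (yonedaEquiv.symm (elt u G' d))

/-- a morphism to `dObj` -/
noncomputable def mkHom (d : CostructuredArrow yoneda ((R u).obj G')) (Z : C')
    (z : G'.obj (op Z)) (m : u.obj d.left ⟶ Z) (hm : G'.map m.op z = elt u G' d) :
    d ⟶ dObj u hr G' Z z :=
  CostructuredArrow.homMk (u.preimage (m ≫ ri u hr Z) : d.left ⟶ rX u hr Z) (by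
    apply (yonedaEquiv (X := d.left) (F := (R u).obj G')).injective
    refine (yonedaEquiv_naturality (F := (R u).obj G') (X := rX u hr Z)
      (dObj u hr G' Z z).hom (u.preimage (m ≫ ri u hr Z))).symm.trans ?_
    change ((R u).obj G').map (u.preimage (m ≫ ri u hr Z)).op
      (yonedaEquiv (yonedaEquiv.symm _)) = _
    rw [Equiv.apply_symm_apply]
    change G'.map (u.map (u.preimage (m ≫ ri u hr Z))).op (G'.map (rr u hr Z).op z) = elt u G' d
    rw [u.map_preimage, ← hm]
    have : G'.map (rr u hr Z).op ≫ G'.map (m ≫ ri u hr Z).op = G'.map m.op := by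
      rw [← G'.map_comp, ← op_comp, Category.assoc, ri_rr, Category.comp_id]
    exact ConcreteCategory.congr_hom this z)

lemma yonedaEquiv_eObj_hom (d : CostructuredArrow yoneda ((R u).obj G')) :
    yonedaEquiv (eObj u G' d).hom = elt u G' d :=
  Equiv.apply_symm_apply _ _

lemma elt_of_hom {e₁ e₂ : CostructuredArrow yoneda G'} (φ : e₁ ⟶ e₂) :
    G'.map φ.left.op (yonedaEquiv e₂.hom) = yonedaEquiv e₁.hom := by
  rw [yonedaEquiv_naturality, CostructuredArrow.w]

/-- morphisms in `CostructuredArrow yoneda (u^* G')` induce morphisms in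
`CostructuredArrow yoneda G'` -/
noncomputable def eMap {d₁ d₂ : CostructuredArrow yoneda ((R u).obj G')} (f : d₁ ⟶ d₂) :
    eObj u G' d₁ ⟶ eObj u G' d₂ :=
  CostructuredArrow.homMk (u.map f.left : u.obj d₁.left ⟶ u.obj d₂.left) (by
    apply yonedaEquiv.injective
    refine (yonedaEquiv_naturality (eObj u G' d₂).hom (u.map f.left)).symm.trans ?_
    rw [yonedaEquiv_eObj_hom, yonedaEquiv_eObj_hom]
    have := congrArg (yonedaEquiv (X := d₁.left) (F := (R u).obj G')) (CostructuredArrow.w f)
    rw [← yonedaEquiv_naturality] at this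
    exact this)

include hr in
theorem isFiltered_of [IsFiltered (CostructuredArrow yoneda G')] :
    IsFiltered (CostructuredArrow yoneda ((R u).obj G')) := by
  haveI : IsFilteredOrEmpty (CostructuredArrow yoneda ((R u).obj G')) := by
    constructor
    · intro d₁ d₂
      let e := IsFiltered.max (eObj u G' d₁) (eObj u G' d₂)
      let φ₁ : eObj u G' d₁ ⟶ e := IsFiltered.leftToMax _ _
      let φ₂ : eObj u G' d₂ ⟶ e := IsFiltered.rightToMax _ _
      have h₁ : G'.map φ₁.left.op (yonedaEquiv e.hom) = elt u G' d₁ := by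
        rw [elt_of_hom, yonedaEquiv_eObj_hom]
      have h₂ : G'.map φ₂.left.op (yonedaEquiv e.hom) = elt u G' d₂ := by
        rw [elt_of_hom, yonedaEquiv_eObj_hom]
      exact ⟨dObj u hr G' e.left (yonedaEquiv e.hom),
        mkHom u hr G' d₁ e.left (yonedaEquiv e.hom) φ₁.left h₁,
        mkHom u hr G' d₂ e.left (yonedaEquiv e.hom) φ₂.left h₂, trivial⟩
    · intro d₁ d₂ f g
      let e := IsFiltered.coeq (eMap u G' f) (eMap u G' g)
      let h : eObj u G' d₂ ⟶ e := IsFiltered.coeqHom _ _
      have cond : eMap u G' f ≫ h = eMap u G' g ≫ h := IsFiltered.coeq_condition _ _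
      have hm : G'.map h.left.op (yonedaEquiv e.hom) = elt u G' d₂ := by
        rw [elt_of_hom, yonedaEquiv_eObj_hom]
      refine ⟨dObj u hr G' e.left (yonedaEquiv e.hom),
        mkHom u hr G' d₂ e.left (yonedaEquiv e.hom) h.left hm, ?_⟩
      apply CostructuredArrow.hom_ext
      change f.left ≫ u.preimage (h.left ≫ ri u hr e.left) =
        g.left ≫ u.preimage (h.left ≫ ri u hr e.left)
      apply u.map_injective
      rw [u.map_comp, u.map_comp, u.map_preimage]
      have c2 : u.map f.left ≫ h.left = u.map g.left ≫ h.left :=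
        congrArg (fun k => k.left) cond
      rw [← Category.assoc, c2, Category.assoc]
  haveI : Nonempty (CostructuredArrow yoneda ((R u).obj G')) := by
    obtain ⟨e⟩ := IsFiltered.nonempty (C := CostructuredArrow yoneda G')
    exact ⟨dObj u hr G' e.left (yonedaEquiv e.hom)⟩
  exact {}

include hr in
theorem isIndObject_R (h : IsIndObject G') : IsIndObject ((R u).obj G') := by
  haveI := h.isFiltered
  haveI := isFiltered_of u hr G'
  haveI := essentiallySmallSelf (CostructuredArrow yoneda ((R u).obj G'))
  haveI : FinallySmall.{u} (CostructuredArrow yoneda ((R u).obj G')) :=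
    finallySmall_of_essentiallySmall _
  exact isIndObject_of_isFiltered_of_finallySmall _

end Groth.Agent.Helper29.IndKarC
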