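import Mathlib
import Groth.Agent.Lib.Helper29.IndKarC

universe u
open CategoryTheory CategoryTheory.Limits Opposite

namespace Groth.Agent.Helper29.IndKarD

open Groth.Agent.Helper29.IndKarA Groth.Agent.Helper29.IndKarB Groth.Agent.Helper29.IndKarC

variable {C : Type u} [SmallCategory C] {C' : Type u} [SmallCategory C'] (u : C ⥤ C')

theorem main12109 :
    ((∀ (F G : Cᵒᵖ ⥤ Type u), IsIndObject F → IsIndObject G →
        Function.Bijective (fun φ : F ⟶ G =>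
          (u.op.lan : (Cᵒᵖ ⥤ Type u) ⥤ (C'ᵒᵖ ⥤ Type u)).map φ)) ∧
      (∀ G' : C'ᵒᵖ ⥤ Type u, IsIndObject G' →
        ∃ F : Cᵒᵖ ⥤ Type u, IsIndObject F ∧
          Nonempty ((u.op.lan : (Cᵒᵖ ⥤ Type u) ⥤ (C'ᵒᵖ ⥤ Type u)).obj F ≅ G'))) ↔
    ((u.Full ∧ u.Faithful) ∧
      ∀ X' : C', ∃ (X : C) (i : X' ⟶ u.obj X) (r : u.obj X ⟶ X'), i ≫ r = 𝟙 X') := by
  constructor
  · rintro ⟨h1, h2⟩
    have hb := map_bijective_of_lan_bijective u
      (fun X Y => h1 _ _ (isIndObject_yoneda X) (isIndObject_yoneda Y))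
    refine ⟨⟨⟨fun {X Y} f => (hb X Y).2 f⟩, ⟨fun {X Y} => (hb X Y).1⟩⟩, ?_⟩
    intro X'
    obtain ⟨F, -, ⟨θ⟩⟩ := h2 (yoneda.obj X') (isIndObject_yoneda X')
    exact retract_of_iso u F X' θ
  · rintro ⟨⟨hfull, hfaith⟩, hr⟩
    haveI := hfull
    haveI := hfaith
    constructor
    · intro F G _ _
      haveI : IsIso (adj u).unit := inferInstance
      exact ((adj u).fullyFaithfulLOfIsIsoUnit).map_bijective F G
    · intro G' hG'
      haveI := faithful_R u hr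
      haveI := full_R u hr
      exact ⟨(R u).obj G', isIndObject_R u hr G' hG', ⟨asIso ((adj u).counit.app G')⟩⟩

end Groth.Agent.Helper29.IndKarD
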