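import Mathlib

namespace Groth.Agent.Helper29.InjFunA

open CategoryTheory CategoryTheory.Limits ZeroObject

universe u v
variable (A : Type u) [Category.{v} A] [Abelian A] [IsGrothendieckAbelian.{v} A]

/-- the functor `X ↦ (X ⟶ 0)` -/
noncomputable def toZero : A ⥤ Arrow A where
  obj X := Arrow.mk (0 : X ⟶ (0 : A))
  map f := Arrow.homMk f (𝟙 _) (by simp)

/-- chosen functorial factorization data -/
noncomputable def data :
    MorphismProperty.FunctorialFactorizationData (MorphismProperty.monomorphisms A)
      (MorphismProperty.monomorphisms A).rlp :=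
  MorphismProperty.functorialFactorizationData _ _

/-- first injective embedding functor (not zero preserving) -/
noncomputable def Inj0 : A ⥤ A := toZero A ⋙ (data A).Z

/-- the embedding -/
noncomputable def ι0 : 𝟭 A ⟶ Inj0 A :=
  { app := fun X => (data A).i.app ((toZero A).obj X)
    naturality := fun X Y f => by
      exact (data A).i.naturality ((toZero A).map f) }

instance (X : A) : Mono ((ι0 A).app X) :=
  (data A).hi _

instance (X : A) : Injective ((Inj0 A).obj X) := by
  change Injective (IsGrothendieckAbelian.monoMapFactorizationDataRlp (0 : X ⟶ 0)).Z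
  infer_instance


variable {A}

/-- retraction onto `Inj0 0` -/
noncomputable def r (X : A) : (Inj0 A).obj X ⟶ (Inj0 A).obj 0 := (Inj0 A).map (0 : X ⟶ 0)

/-- section from `Inj0 0` -/
noncomputable def s (X : A) : (Inj0 A).obj 0 ⟶ (Inj0 A).obj X := (Inj0 A).map (0 : 0 ⟶ X)

@[reassoc (attr := simp)]
lemma s_r (X : A) : s X ≫ r X = 𝟙 _ := by
  rw [s, r, ← Functor.map_comp]
  have : (0 : (0 : A) ⟶ X) ≫ (0 : X ⟶ 0) = 𝟙 0 := (isZero_zero A).eq_of_src _ _
  rw [this, CategoryTheory.Functor.map_id]

@[reassoc (attr := simp)]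
lemma map_r {X Y : A} (f : X ⟶ Y) : (Inj0 A).map f ≫ r Y = r X := by
  rw [r, r, ← Functor.map_comp, comp_zero]

variable (A)

/-- zero-preserving injective embedding functor -/
noncomputable def Inj : A ⥤ A where
  obj X := kernel (r X)
  map {X Y} f := kernel.map (r X) (r Y) ((Inj0 A).map f) (𝟙 _) (by rw [map_r, Category.comp_id])
  map_id X := by
    ext
    simp
  map_comp f g := by
    ext
    simp

/-- the embedding -/
noncomputable def ι : 𝟭 A ⟶ Inj A where
  app X := kernel.lift (r X) ((ι0 A).app X) (by
    have := (ι0 A).naturality (0 : X ⟶ 0)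
    rw [r, ← this]
    simp)
  naturality X Y f := by
    dsimp only [Inj]
    ext
    have := (ι0 A).naturality f
    simp only [Functor.id_obj, Functor.id_map] at this
    simp [this]

@[reassoc (attr := simp)]
lemma ι_app_kernel_ι (X : A) : (ι A).app X ≫ kernel.ι (r X) = (ι0 A).app X := by
  dsimp only [ι]
  exact kernel.lift_ι _ _ _

instance (X : A) : Mono ((ι A).app X) :=
  mono_of_mono_fac (ι_app_kernel_ι A X)

/-- `Inj X` is a retract of `Inj0 X` -/
noncomputable def retr (X : A) : Retract ((Inj A).obj X) ((Inj0 A).obj X) where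
  i := kernel.ι (r X)
  r := kernel.lift (r X) (𝟙 _ - r X ≫ s X) (by simp)
  retract := by
    dsimp only [Inj]
    ext
    simp

instance (X : A) : Injective ((Inj A).obj X) := (retr A X).injective

lemma isZero_Inj_zero : IsZero ((Inj A).obj 0) := by
  have h : r (0 : A) = 𝟙 _ := by
    rw [r]
    have : (0 : (0 : A) ⟶ 0) = 𝟙 0 := (isZero_zero A).eq_of_src _ _
    rw [this, CategoryTheory.Functor.map_id]
  have : Mono (r (0 : A)) := by rw [h]; infer_instance
  exact isZero_kernel_of_mono _

instance : (Inj A).PreservesZeroMorphisms where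
  map_zero X Y := by
    have : (0 : X ⟶ Y) = (0 : X ⟶ 0) ≫ (0 : 0 ⟶ Y) := by simp
    rw [this, Functor.map_comp]
    rw [(isZero_Inj_zero A).eq_zero_of_tgt ((Inj A).map (0 : X ⟶ 0)), zero_comp]

end Groth.Agent.Helper29.InjFunA
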