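import Mathlib
import Groth.Agent.Lib.Helper29.CoconeB
import Groth.Agent.Lib.Helper29.InjFunA

namespace Groth.Agent.Helper29.InjFunB

open CategoryTheory CategoryTheory.Limits CochainComplex HomComplex
open Groth.Agent.Helper29.CoconeA Groth.Agent.Helper29.CoconeB Groth.Agent.Helper29.InjFunA

universe u v
variable (A : Type u) [Category.{v} A] [Abelian A] [IsGrothendieckAbelian.{v} A]

/-- degreewise injective embedding functor on complexes -/
noncomputable def IC : CochainComplex A ℤ ⥤ CochainComplex A ℤ :=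
  (Inj A).mapHomologicalComplex (ComplexShape.up ℤ)

/-- the embedding of complexes -/
noncomputable def ιC : 𝟭 (CochainComplex A ℤ) ⟶ IC A where
  app M :=
    { f := fun n => (ι A).app (M.X n)
      comm' := fun i j _ => ((ι A).naturality (M.d i j)).symm }
  naturality M M' f := by
    ext n
    exact (ι A).naturality (f.f n)

instance (M : CochainComplex A ℤ) (n : ℤ) : Mono (((ιC A).app M).f n) := by
  change Mono ((ι A).app (M.X n))
  infer_instance

instance (M : CochainComplex A ℤ) : Mono ((ιC A).app M) :=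
  HomologicalComplex.mono_of_mono_f _ inferInstance

/-- the quotient functor -/
noncomputable def QC : CochainComplex A ℤ ⥤ CochainComplex A ℤ where
  obj M := cokernel ((ιC A).app M)
  map {M M'} f := cokernel.map _ _ f ((IC A).map f) ((ιC A).naturality f).symm
  map_id M := by
    rw [← cancel_epi (cokernel.π ((ιC A).app M))]
    simp
  map_comp {M M' M''} f g := by
    rw [← cancel_epi (cokernel.π ((ιC A).app M))]
    simp

/-- the projection -/
noncomputable def πC : IC A ⟶ QC A where
  app M := cokernel.π ((ιC A).app M)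
  naturality M M' f := by
    simp [QC]

/-- the short exact sequence -/
noncomputable def ses (M : CochainComplex A ℤ) : ShortComplex (CochainComplex A ℤ) :=
  ShortComplex.mk ((ιC A).app M) ((πC A).app M) (cokernel.condition _)

lemma ses_shortExact (M : CochainComplex A ℤ) : (ses A M).ShortExact :=
  ShortComplex.ShortExact.mk' (ShortComplex.exact_of_g_is_cokernel _ (cokernelIsCokernel _))
    (inferInstanceAs (Mono ((ιC A).app M))) (inferInstanceAs (Epi (cokernel.π ((ιC A).app M))))


section general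

variable {A}

omit [IsGrothendieckAbelian.{v} A]

/-- functoriality of the cocone along a commutative square -/
noncomputable def coconeMap {K L K' L' : CochainComplex A ℤ} (φ : K ⟶ L) (φ' : K' ⟶ L')
    (a : K ⟶ K') (b : L ⟶ L') (w : φ ≫ b = a ≫ φ') : mappingCocone φ ⟶ mappingCocone φ' :=
  mappingCocone.lift φ' (mappingCocone.fst φ ≫ a)
    ((mappingCocone.snd φ).comp (Cochain.ofHom b) (add_zero _)) (by
      rw [δ_comp_ofHom, δ_snd, Category.assoc, ← w]
      simp)

@[reassoc (attr := simp)]
lemma coconeMap_fst {K L K' L' : CochainComplex A ℤ} (φ : K ⟶ L) (φ' : K' ⟶ L')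
    (a : K ⟶ K') (b : L ⟶ L') (w : φ ≫ b = a ≫ φ') :
    coconeMap φ φ' a b w ≫ mappingCocone.fst φ' = mappingCocone.fst φ ≫ a := by
  simp [coconeMap]

@[simp]
lemma coconeMap_snd {K L K' L' : CochainComplex A ℤ} (φ : K ⟶ L) (φ' : K' ⟶ L')
    (a : K ⟶ K') (b : L ⟶ L') (w : φ ≫ b = a ≫ φ') :
    (Cochain.ofHom (coconeMap φ φ' a b w)).comp (mappingCocone.snd φ') (zero_add _) =
      (mappingCocone.snd φ).comp (Cochain.ofHom b) (add_zero _) := by
  simp [coconeMap]

lemma coconeMap_id {K L : CochainComplex A ℤ} (φ : K ⟶ L) :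
    coconeMap φ φ (𝟙 _) (𝟙 _) (by simp) = 𝟙 _ := by
  refine hom_ext_to φ _ _ ?_ ?_
  · simp
  · simp

lemma coconeMap_comp {K L K' L' K'' L'' : CochainComplex A ℤ} (φ : K ⟶ L) (φ' : K' ⟶ L')
    (φ'' : K'' ⟶ L'')
    (a : K ⟶ K') (b : L ⟶ L') (w : φ ≫ b = a ≫ φ')
    (a' : K' ⟶ K'') (b' : L' ⟶ L'') (w' : φ' ≫ b' = a' ≫ φ'') :
    coconeMap φ φ'' (a ≫ a') (b ≫ b') (by rw [reassoc_of% w, w', Category.assoc]) =
      coconeMap φ φ' a b w ≫ coconeMap φ' φ'' a' b' w' := by
  refine hom_ext_to φ'' _ _ ?_ ?_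
  · simp
  · conv_rhs =>
      rw [Cochain.ofHom_comp, Cochain.comp_assoc_of_first_is_zero_cochain, coconeMap_snd,
        ← Cochain.comp_assoc_of_third_is_zero_cochain, coconeMap_snd,
        Cochain.comp_assoc_of_third_is_zero_cochain, ← Cochain.ofHom_comp]
    rw [coconeMap_snd]

end general


/-- the map part of the functor `N` -/
noncomputable def NMap {M M' : CochainComplex A ℤ} (f : M ⟶ M') :
    mappingCocone ((πC A).app M) ⟶ mappingCocone ((πC A).app M') :=
  coconeMap ((πC A).app M) ((πC A).app M') ((IC A).map f) ((QC A).map f)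
    ((πC A).naturality f).symm

lemma NMap_id (M : CochainComplex A ℤ) : NMap A (𝟙 M) = 𝟙 _ := by
  have h := coconeMap_id ((πC A).app M)
  rw [← h]
  dsimp only [NMap]
  congr 1 <;> simp

lemma NMap_comp {M M' M'' : CochainComplex A ℤ} (f : M ⟶ M') (g : M' ⟶ M'') :
    NMap A (f ≫ g) = NMap A f ≫ NMap A g := by
  have h := coconeMap_comp ((πC A).app M) ((πC A).app M') ((πC A).app M'')
    ((IC A).map f) ((QC A).map f) ((πC A).naturality f).symm
    ((IC A).map g) ((QC A).map g) ((πC A).naturality g).symm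
  dsimp only [NMap]
  rw [← h]
  congr 1 <;> simp

@[reassoc]
lemma NMap_fst {M M' : CochainComplex A ℤ} (f : M ⟶ M') :
    NMap A f ≫ mappingCocone.fst ((πC A).app M') =
      mappingCocone.fst ((πC A).app M) ≫ (IC A).map f :=
  coconeMap_fst _ _ _ _ _

lemma NMap_snd {M M' : CochainComplex A ℤ} (f : M ⟶ M') :
    (Cochain.ofHom (NMap A f)).comp (mappingCocone.snd ((πC A).app M')) (zero_add _) =
      (mappingCocone.snd ((πC A).app M)).comp (Cochain.ofHom ((QC A).map f)) (add_zero _) :=
  coconeMap_snd _ _ _ _ _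

/-- the component of `j` -/
noncomputable def jApp (M : CochainComplex A ℤ) : M ⟶ mappingCocone ((πC A).app M) :=
  liftSES (ses A M)

@[reassoc]
lemma jApp_fst (M : CochainComplex A ℤ) :
    jApp A M ≫ mappingCocone.fst ((πC A).app M) = (ιC A).app M :=
  liftSES_fst (ses A M)

lemma jApp_snd (M : CochainComplex A ℤ) :
    (Cochain.ofHom (jApp A M)).comp (mappingCocone.snd ((πC A).app M)) (zero_add _) = 0 := by
  ext p q hpq
  rw [Cochain.zero_cochain_comp_v, Cochain.ofHom_v]
  exact liftSES_f_snd_v (ses A M) p q hpq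

lemma jApp_naturality {M M' : CochainComplex A ℤ} (f : M ⟶ M') :
    f ≫ jApp A M' = jApp A M ≫ NMap A f := by
  refine hom_ext_to ((πC A).app M') _ _ ?_ ?_
  · have h3 := (ιC A).naturality f
    simp only [Functor.id_map, Functor.id_obj] at h3
    rw [Category.assoc, jApp_fst, Category.assoc, NMap_fst, jApp_fst_assoc]
    exact h3
  · rw [Cochain.ofHom_comp, Cochain.comp_assoc_of_first_is_zero_cochain, jApp_snd,
      Cochain.ofHom_comp, Cochain.comp_assoc_of_first_is_zero_cochain, NMap_snd,
      ← Cochain.comp_assoc_of_third_is_zero_cochain, jApp_snd]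
    simp

/-- the functor `N` -/
noncomputable def N : CochainComplex A ℤ ⥤ CochainComplex A ℤ where
  obj M := mappingCocone ((πC A).app M)
  map f := NMap A f
  map_id M := NMap_id A M
  map_comp f g := NMap_comp A f g

/-- the natural transformation `j` -/
noncomputable def j : 𝟭 (CochainComplex A ℤ) ⟶ N A where
  app M := jApp A M
  naturality _ _ f := jApp_naturality A f


theorem main :
    ∃ (N : CochainComplex A ℤ ⥤ CochainComplex A ℤ) (j : 𝟭 _ ⟶ N),
      ∀ M : CochainComplex A ℤ, (∀ n : ℤ, Mono ((j.app M).f n)) ∧ QuasiIso (j.app M) ∧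
        ∀ n : ℤ, ∃ (I : A) (_ : Injective I) (a : M.X n ⟶ I) (b : I ⟶ (N.obj M).X n),
          Mono b ∧ a ≫ b = (j.app M).f n := by
  refine ⟨N A, j A, fun M => ?_⟩
  have hf : ∀ n : ℤ, ((j A).app M).f n =
      (ι A).app (M.X n) ≫ (mappingCocone.inl ((πC A).app M)).v n n (add_zero n) :=
    fun n => liftSES_f (ses A M) n
  have hmono : ∀ n : ℤ, Mono ((mappingCocone.inl ((πC A).app M)).v n n (add_zero n)) :=
    fun n => mono_of_mono_fac (mappingCocone.inl_v_fst_f ((πC A).app M) n)
  refine ⟨fun n => ?_, quasiIso_liftSES (ses_shortExact A M), fun n => ?_⟩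
  · rw [hf]
    exact @mono_comp _ _ _ _ _ _ inferInstance _ (hmono n)
  · exact ⟨(Inj A).obj (M.X n), inferInstance, (ι A).app (M.X n),
      (mappingCocone.inl ((πC A).app M)).v n n (add_zero n), hmono n, (hf n).symm⟩

end Groth.Agent.Helper29.InjFunB
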