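import Mathlib
import Groth.Prelude.Def_KZero
import Groth.Prelude.Def_SGA6

/-!
# Transport of `K₀` of a triangulated subcategory along a fully faithful triangulated functor
-/

set_option autoImplicit false
universe v' u' v u
open CategoryTheory CategoryTheory.Limits CategoryTheory.Pretriangulated ZeroObject

namespace Groth.Agent.Helper29.K0Transport

section Basic

variable {D : Type u} [Category.{v} D] [Preadditive D] [HasZeroObject D] [HasShift D ℤ]
  [∀ n : ℤ, (shiftFunctor D n).Additive] [Pretriangulated D] (P : ObjectProperty D)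

/-- the class of an object satisfying `P` -/
def cl (X : D) (h : P X) : KZero.K0tr P := QuotientAddGroup.mk (FreeAbelianGroup.of ⟨X, h⟩)

lemma clTr_eq (X : D) (h : P X) : KZero.clTr P X = cl P X h := by
  unfold KZero.clTr
  rw [dif_pos h]
  rfl

lemma cl_triangle (T : Triangle D) (hT : T ∈ distTriang D) (h₁ : P T.obj₁) (h₂ : P T.obj₂)
    (h₃ : P T.obj₃) : cl P T.obj₂ h₂ = cl P T.obj₁ h₁ + cl P T.obj₃ h₃ := by
  have hmem : FreeAbelianGroup.of (⟨T.obj₂, h₂⟩ : Subtype P) - FreeAbelianGroup.of ⟨T.obj₁, h₁⟩ -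
      FreeAbelianGroup.of ⟨T.obj₃, h₃⟩ ∈ KZero.relTr P :=
    AddSubgroup.subset_closure ⟨T, h₁, h₂, h₃, hT, rfl⟩
  have h := (QuotientAddGroup.eq_zero_iff _).2 hmem
  have h' : cl P T.obj₂ h₂ - cl P T.obj₁ h₁ - cl P T.obj₃ h₃ = 0 := h
  have h'' : cl P T.obj₂ h₂ = cl P T.obj₃ h₃ + cl P T.obj₁ h₁ := by
    have := sub_eq_zero.1 h'
    exact sub_eq_iff_eq_add.1 this
  rw [h'', add_comm]

lemma cl_zero (Z : D) (hZ : IsZero Z) (h : P Z) : cl P Z h = 0 := by
  have hd : Triangle.mk (𝟙 Z) (0 : Z ⟶ Z) (0 : Z ⟶ Z⟦(1 : ℤ)⟧) ∈ distTriang D := by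
    refine isomorphic_distinguished _ (contractible_distinguished Z) _
      (Triangle.isoMk _ _ (Iso.refl _) (Iso.refl _) (hZ.iso (isZero_zero D)) ?_ ?_ ?_)
    · exact hZ.eq_of_src _ _
    · exact hZ.eq_of_src _ _
    · exact hZ.eq_of_src _ _
  have := cl_triangle P _ hd h h h
  have h2 : cl P Z h = cl P Z h + cl P Z h := this
  have h3 : cl P Z h + 0 = cl P Z h + cl P Z h := by rw [add_zero]; exact h2
  exact (add_left_cancel h3).symm

lemma cl_iso {X Y : D} (e : X ≅ Y) (hX : P X) (hY : P Y) (Z : D) (hZ : IsZero Z) (h : P Z) :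
    cl P X hX = cl P Y hY := by
  have hd : Triangle.mk e.hom (0 : Y ⟶ Z) (0 : Z ⟶ X⟦(1 : ℤ)⟧) ∈ distTriang D := by
    refine isomorphic_distinguished _ (contractible_distinguished X) _
      (Triangle.isoMk _ _ (Iso.refl _) e.symm (hZ.iso (isZero_zero D)) ?_ ?_ ?_)
    · exact e.hom_inv_id.trans (Category.comp_id (𝟙 X)).symm
    · exact (isZero_zero D).eq_of_tgt _ _
    · exact hZ.eq_of_src _ _
  have h2 : cl P Y hY = cl P X hX + cl P Z h := cl_triangle P _ hd hX hY h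
  rw [h2, cl_zero P Z hZ h, add_zero]

end Basic

section Transport

variable {C : Type u} [Category.{v} C] [Preadditive C] [HasZeroObject C] [HasShift C ℤ]
  [∀ n : ℤ, (shiftFunctor C n).Additive] [Pretriangulated C]
variable {D : Type u'} [Category.{v'} D] [Preadditive D] [HasZeroObject D] [HasShift D ℤ]
  [∀ n : ℤ, (shiftFunctor D n).Additive] [Pretriangulated D]
variable (F : C ⥤ D) [F.CommShift ℤ] [F.IsTriangulated] [F.Full] [F.Faithful]
variable (P : ObjectProperty C) (Q : ObjectProperty D)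

lemma mapTr_cl (h : ∀ X, P X → Q (F.obj X)) (X : C) (hX : P X) :
    SGA6.mapTr F P Q h (cl P X hX) = cl Q (F.obj X) (h X hX) := by
  unfold SGA6.mapTr cl
  rw [QuotientAddGroup.map_mk, FreeAbelianGroup.map_of_apply]
  rfl


/-- the candidate inverse on generators -/
noncomputable def invGen (hQiso : ∀ {X Y : D}, (X ≅ Y) → Q X → Q Y) (hP0 : P 0)
    (hPQ : ∀ X, P X ↔ Q (F.obj X)) (hess : ∀ K, Q K → ∃ M : C, Nonempty (F.obj M ≅ K))
    (K : Subtype Q) : KZero.K0tr P :=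
  cl P (hess K.1 K.2).choose ((hPQ _).2 (hQiso (hess K.1 K.2).choose_spec.some.symm K.2))

lemma invGen_eq (hQiso : ∀ {X Y : D}, (X ≅ Y) → Q X → Q Y) (hP0 : P 0)
    (hPQ : ∀ X, P X ↔ Q (F.obj X)) (hess : ∀ K, Q K → ∃ M : C, Nonempty (F.obj M ≅ K))
    (K : D) (hK : Q K) (M : C) (e : F.obj M ≅ K) (hM : P M) :
    invGen F P Q hQiso hP0 hPQ hess ⟨K, hK⟩ = cl P M hM := by
  unfold invGen
  refine cl_iso P (F.preimageIso ((hess K hK).choose_spec.some ≪≫ e.symm)) _ _ 0 (isZero_zero C) hP0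

lemma invGen_triangle (hQiso : ∀ {X Y : D}, (X ≅ Y) → Q X → Q Y) (hP0 : P 0)
    (hPQ : ∀ X, P X ↔ Q (F.obj X)) (hess : ∀ K, Q K → ∃ M : C, Nonempty (F.obj M ≅ K))
    (T : Triangle D) (hT : T ∈ distTriang D) (h₁ : Q T.obj₁) (h₂ : Q T.obj₂)
    (h₃ : Q T.obj₃) :
    invGen F P Q hQiso hP0 hPQ hess ⟨T.obj₂, h₂⟩ =
      invGen F P Q hQiso hP0 hPQ hess ⟨T.obj₁, h₁⟩ +
        invGen F P Q hQiso hP0 hPQ hess ⟨T.obj₃, h₃⟩ := by
  obtain ⟨M₁, ⟨e₁⟩⟩ := hess _ h₁
  obtain ⟨M₂, ⟨e₂⟩⟩ := hess _ h₂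
  have hM₁ : P M₁ := (hPQ _).2 (hQiso e₁.symm h₁)
  have hM₂ : P M₂ := (hPQ _).2 (hQiso e₂.symm h₂)
  let f : M₁ ⟶ M₂ := F.preimage (e₁.hom ≫ T.mor₁ ≫ e₂.inv)
  obtain ⟨Z, g, h, hd⟩ := distinguished_cocone_triangle f
  have hd' : F.mapTriangle.obj (Triangle.mk f g h) ∈ distTriang D := F.map_distinguished _ hd
  have comm : (F.mapTriangle.obj (Triangle.mk f g h)).mor₁ ≫ e₂.hom = e₁.hom ≫ T.mor₁ := by
    change F.map f ≫ e₂.hom = _
    rw [F.map_preimage]
    simp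
  let eT := isoTriangleOfIso₁₂ _ _ hd' hT e₁ e₂ comm
  let e₃ : F.obj Z ≅ T.obj₃ := Triangle.π₃.mapIso eT
  have hZ : P Z := (hPQ _).2 (hQiso e₃.symm h₃)
  rw [invGen_eq F P Q hQiso hP0 hPQ hess T.obj₁ h₁ M₁ e₁ hM₁,
    invGen_eq F P Q hQiso hP0 hPQ hess T.obj₂ h₂ M₂ e₂ hM₂,
    invGen_eq F P Q hQiso hP0 hPQ hess T.obj₃ h₃ Z e₃ hZ]
  exact cl_triangle P _ hd hM₁ hM₂ hZ

/-- the inverse homomorphism -/
noncomputable def invHom (hQiso : ∀ {X Y : D}, (X ≅ Y) → Q X → Q Y) (hP0 : P 0)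
    (hPQ : ∀ X, P X ↔ Q (F.obj X)) (hess : ∀ K, Q K → ∃ M : C, Nonempty (F.obj M ≅ K)) : KZero.K0tr Q →+ KZero.K0tr P :=
  QuotientAddGroup.lift (KZero.relTr Q) (FreeAbelianGroup.lift (invGen F P Q hQiso hP0 hPQ hess)) (by
    rw [KZero.relTr, AddSubgroup.closure_le]
    rintro x ⟨T, h₁, h₂, h₃, hT, rfl⟩
    change (FreeAbelianGroup.lift (invGen F P Q hQiso hP0 hPQ hess)) _ = 0
    rw [map_sub, map_sub, FreeAbelianGroup.lift_apply_of, FreeAbelianGroup.lift_apply_of,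
      FreeAbelianGroup.lift_apply_of, invGen_triangle F P Q hQiso hP0 hPQ hess T hT h₁ h₂ h₃]
    abel)

lemma inv_cl (hQiso : ∀ {X Y : D}, (X ≅ Y) → Q X → Q Y) (hP0 : P 0)
    (hPQ : ∀ X, P X ↔ Q (F.obj X)) (hess : ∀ K, Q K → ∃ M : C, Nonempty (F.obj M ≅ K))
    (K : D) (hK : Q K) :
    invHom F P Q hQiso hP0 hPQ hess (cl Q K hK) = invGen F P Q hQiso hP0 hPQ hess ⟨K, hK⟩ := by
  unfold invHom cl
  rw [QuotientAddGroup.lift_mk, FreeAbelianGroup.lift_apply_of]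

theorem exists_equiv (hQiso : ∀ {X Y : D}, (X ≅ Y) → Q X → Q Y) (hP0 : P 0)
    (hPQ : ∀ X, P X ↔ Q (F.obj X)) (hess : ∀ K, Q K → ∃ M : C, Nonempty (F.obj M ≅ K)) : ∃ φ : KZero.K0tr P ≃+ KZero.K0tr Q,
    ∀ (X : C) (hX : P X), φ (cl P X hX) = cl Q (F.obj X) ((hPQ X).1 hX) := by
  let m := SGA6.mapTr F P Q (fun X hX => (hPQ X).1 hX)
  have hQ0 : Q (F.obj 0) := (hPQ 0).1 hP0
  have hZ0 : IsZero (F.obj (0 : C)) := F.map_isZero (isZero_zero C)
  have hleft : ∀ x, invHom F P Q hQiso hP0 hPQ hess (m x) = x := by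
    intro x
    induction x using QuotientAddGroup.induction_on with
    | H y =>
      induction y using FreeAbelianGroup.induction_on with
      | zero => simp
      | of X =>
        obtain ⟨X, hX⟩ := X
        change invHom F P Q hQiso hP0 hPQ hess (m (cl P X hX)) = cl P X hX
        rw [mapTr_cl, inv_cl]
        exact invGen_eq F P Q hQiso hP0 hPQ hess _ _ X (Iso.refl _) hX
      | neg X ih =>
        rw [QuotientAddGroup.mk_neg, map_neg, map_neg, ih]
      | add a b ha hb =>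
        rw [QuotientAddGroup.mk_add, map_add, map_add, ha, hb]
  have hright : ∀ y, m (invHom F P Q hQiso hP0 hPQ hess y) = y := by
    intro y
    induction y using QuotientAddGroup.induction_on with
    | H y =>
      induction y using FreeAbelianGroup.induction_on with
      | zero => simp
      | of K =>
        obtain ⟨K, hK⟩ := K
        change m (invHom F P Q hQiso hP0 hPQ hess (cl Q K hK)) = cl Q K hK
        obtain ⟨M, ⟨e⟩⟩ := hess K hK
        have hM : P M := (hPQ _).2 (hQiso e.symm hK)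
        rw [inv_cl, invGen_eq F P Q hQiso hP0 hPQ hess K hK M e hM, mapTr_cl]
        exact cl_iso Q e _ _ _ hZ0 hQ0
      | neg X ih =>
        rw [QuotientAddGroup.mk_neg, map_neg, map_neg, ih]
      | add a b ha hb =>
        rw [QuotientAddGroup.mk_add, map_add, map_add, ha, hb]
  refine ⟨{ toFun := m, invFun := invHom F P Q hQiso hP0 hPQ hess, left_inv := hleft,
            right_inv := hright, map_add' := map_add m }, fun X hX => ?_⟩
  exact mapTr_cl F P Q _ X hX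

end Transport

end Groth.Agent.Helper29.K0Transport
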