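import Mathlib
import Groth.Prelude.Def_DCoh2
import Groth.Agent.Lib.Helper5.COHP2

/-!
# Perfect objects have quasi-coherent cohomology sheaves
-/

set_option autoImplicit false
universe u
open CategoryTheory CategoryTheory.Limits AlgebraicGeometry

attribute [local instance] HasDerivedCategory.standard

namespace Groth.Agent.Helper29.PerfQc

variable {X : Scheme.{u}}

/-- the cohomology of a complex with quasi-coherent terms is quasi-coherent -/
theorem isQuasicoherent_homology (P : CochainComplex X.Modules ℤ)
    (hP : ∀ j : ℤ, (P.X j).IsQuasicoherent) (i : ℤ) : (P.homology i).IsQuasicoherent := by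
  haveI hq : ∀ j : ℤ, (P.X j).IsQuasicoherent := hP
  let eZ : P.cycles i ≅ kernel (P.d i (i + 1)) :=
    IsLimit.conePointUniqueUpToIso (P.cyclesIsKernel i (i + 1) (by simp)) (limit.isLimit _)
  haveI hZq : (P.cycles i).IsQuasicoherent :=
    haveI := Groth.Agent.Helper13.QCohLocal.isQuasicoherent_kernel (P.d i (i + 1))
    Groth.Agent.Helper13.QCohLocal.isQuasicoherent_of_iso eZ.symm
  let eH : P.homology i ≅ cokernel (P.toCycles (i - 1) i) :=
    IsColimit.coconePointUniqueUpToIso (P.homologyIsCokernel (i - 1) i (by simp))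
      (colimit.isColimit _)
  haveI := Groth.Agent.Helper13.QCohLocal.isQuasicoherent_cokernel (P.toCycles (i - 1) i)
  exact Groth.Agent.Helper13.QCohLocal.isQuasicoherent_of_iso eH.symm

/-- a perfect object has quasi-coherent cohomology sheaves -/
theorem isQCohD_of_isPerfect (E : DCoh.D X) (hE : DCoh.IsPerfect E) : DCoh.IsQCohD E := by
  intro i
  apply Groth.Agent.Helper13.Ext.isQuasicoherent_of_forall_exists_restrict
  intro x
  obtain ⟨V, P, hxV, hP, h⟩ := Groth.Agent.Helper5.COHP.exists_local_model E hE x
  obtain ⟨e⟩ := h i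
  refine ⟨V, hxV, ?_⟩
  haveI := isQuasicoherent_homology P
    (fun j => Groth.Agent.Helper5.FPC.isQuasicoherent_of_isFinLocFree _ (hP.2 j)) i
  exact Groth.Agent.Helper13.QCohLocal.isQuasicoherent_of_iso e.symm

end Groth.Agent.Helper29.PerfQc
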