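import Mathlib
import Groth.Prelude.Def_KZero
import Groth.Prelude.Def_DCoh2
import Groth.Agent.Lib.Helper29.K0Transport
import Groth.Agent.Lib.Helper29.PerfQc
import Groth.Agent.Lib.Helper29.QcD
import Groth.Agent.Lib.Helper14.TildeExact
import Groth.Agent.Lib.Helper5.TB5
import Groth.Agent.Lib.Helper5.KPerf4
import Groth.Agent.Lib.Helper5.BP3

/-!
# `K₀(A) ≅ K₀(D_perf(Spec A))`
-/

set_option autoImplicit false
universe u
open CategoryTheory CategoryTheory.Limits AlgebraicGeometry DerivedCategory ZeroObject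

attribute [local instance] HasDerivedCategory.standard

namespace Groth.Agent.Helper29.K0Spec

open Groth.Agent.Helper29.K0Transport Groth.Agent.Helper5.KPerf

theorem main1029 (A : Type u) [CommRing A] :
    ∃ φ : KZero.K0sub (fun M : ModuleCat.{u} A => Module.Finite A M ∧ Module.Projective A M) ≃+
        KZero.K0tr (fun K : DCoh.D (Spec (CommRingCat.of A)) => DCoh.IsPerfect K),
      ∀ (M : ModuleCat.{u} A), Module.Finite A M → Module.Projective A M →
        φ (KZero.clSub (fun M : ModuleCat.{u} A => Module.Finite A M ∧ Module.Projective A M) M) =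
          KZero.clTr (fun K : DCoh.D (Spec (CommRingCat.of A)) => DCoh.IsPerfect K)
            (DCoh.inD (Spec (CommRingCat.of A)) (tilde M)) := by
  haveI : PreservesFiniteLimits (tilde.functor (CommRingCat.of A)) :=
    Groth.Agent.Helper14.tilde_preservesFiniteLimits
  obtain ⟨φ₁, h1, -⟩ := Groth.Agent.Helper5.KPerf.main (R := A)
  let F : Dual.D A ⥤ DCoh.D (Spec (CommRingCat.of A)) := DCoh.tildeD (CommRingCat.of A)
  haveI : F.Full := QcD.full (CommRingCat.of A)
  haveI : F.Faithful := QcD.faithful (CommRingCat.of A)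
  let Qp : ObjectProperty (DCoh.D (Spec (CommRingCat.of A))) := fun K => DCoh.IsPerfect K
  have hPQ : ∀ X : Dual.D A, Perf A X ↔ Qp (F.obj X) := fun X =>
    (Groth.Agent.Helper5.TB.tilde_isPerfect_iff A X).symm
  obtain ⟨φ₂, h2⟩ := exists_equiv F (Perf A) Qp
    (fun e h => Groth.Agent.Helper5.BP.isPerfect_of_iso e h) perf_zero hPQ
    (fun K hK => by
      obtain ⟨M, ⟨e⟩⟩ := (QcD.essImage_iff (CommRingCat.of A) K).1
        (PerfQc.isQCohD_of_isPerfect K hK)
      exact ⟨M, ⟨e⟩⟩)
  refine ⟨φ₁.trans φ₂, fun M hf hp => ?_⟩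
  have hM : Pfp A M := ⟨hf, hp⟩
  have hS : Perf A ((singleFunctor (ModuleCat.{u} A) 0).obj M) := perf_single hM
  change φ₂ (φ₁ (KZero.clSub (Pfp A) M)) = _
  rw [h1 M hM, clTr_eq (Perf A) _ hS, h2]
  let e : F.obj ((singleFunctor (ModuleCat.{u} A) 0).obj M) ≅
      DCoh.inD (Spec (CommRingCat.of A)) (tilde M) :=
    ((tilde.functor (CommRingCat.of A)).mapDerivedCategorySingleFunctor 0).app M
  have hq : Qp (DCoh.inD (Spec (CommRingCat.of A)) (tilde M)) :=
    Groth.Agent.Helper5.BP.isPerfect_of_iso e ((hPQ _).1 hS)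
  have hZ0 : IsZero (F.obj (0 : Dual.D A)) := F.map_isZero (isZero_zero _)
  refine (cl_iso Qp e _ hq _ hZ0 ((hPQ 0).1 perf_zero)).trans ?_
  exact (clTr_eq Qp _ hq).symm

end Groth.Agent.Helper29.K0Spec
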