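import Mathlib
import Groth.Agent.Lib.Helper5.KFAbs2

/-!
# Abstract K-flatness: coproducts of short exact sequences, the cofan of a total complex,
short exact sequences with "flat" cokernel
-/

set_option autoImplicit false
set_option linter.unusedSectionVars false
set_option linter.unusedVariables false

universe w v u

open CategoryTheory CategoryTheory.Limits HomologicalComplex

namespace Groth.Agent.Helper29.KFS

open Groth.Agent.Helper5.KFA

section Coprod

variable {𝒜 : Type u} [Category.{v} 𝒜] [Abelian 𝒜] {I : Type w}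
  [HasColimitsOfShape (Discrete I) 𝒜] [HasExactColimitsOfShape (Discrete I) 𝒜]

/-- the short complex of functors on a discrete category attached to a family of short complexes -/
noncomputable def famSC (S : I → ShortComplex 𝒜) : ShortComplex (Discrete I ⥤ 𝒜) :=
  ShortComplex.mk (Discrete.natTrans (F := Discrete.functor fun i => (S i).X₁)
      (G := Discrete.functor fun i => (S i).X₂) (fun i => (S i.as).f))
    (Discrete.natTrans (F := Discrete.functor fun i => (S i).X₂)
      (G := Discrete.functor fun i => (S i).X₃) (fun i => (S i.as).g))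
    (by ext i; exact (S i.as).zero)

lemma famSC_exact (S : I → ShortComplex 𝒜) (hS : ∀ i, (S i).Exact) : (famSC S).Exact := by
  rw [ShortComplex.exact_iff_isZero_homology, Functor.isZero_iff]
  intro i
  let ev := (evaluation (Discrete I) 𝒜).obj i
  haveI : ev.Additive := ⟨fun {_ _ f g} => rfl⟩
  haveI : PreservesFiniteLimits ev := ⟨fun _ _ _ => inferInstance⟩
  haveI : PreservesFiniteColimits ev := ⟨fun _ _ _ => inferInstance⟩
  haveI : ev.PreservesHomology := inferInstance
  have e := (famSC S).mapHomologyIso ev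
  refine IsZero.of_iso ?_ e.symm
  rw [← ShortComplex.exact_iff_isZero_homology]
  exact hS i.as

lemma famSC_shortExact (S : I → ShortComplex 𝒜) (hS : ∀ i, (S i).ShortExact) :
    (famSC S).ShortExact := by
  haveI : Mono (famSC S).f := by
    haveI : ∀ i : Discrete I, Mono ((famSC S).f.app i) := fun i => (hS i.as).mono_f
    exact NatTrans.mono_of_mono_app _
  haveI : Epi (famSC S).g := by
    haveI : ∀ i : Discrete I, Epi ((famSC S).g.app i) := fun i => (hS i.as).epi_g
    exact NatTrans.epi_of_epi_app _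
  exact ShortComplex.ShortExact.mk (famSC_exact S (fun i => (hS i).exact))

/-- a coproduct of short exact sequences is short exact (AB4) -/
theorem shortExact_of_cofans (S : I → ShortComplex 𝒜) (hS : ∀ i, (S i).ShortExact)
    (c₁ : Cofan fun i => (S i).X₁) (h₁ : IsColimit c₁)
    (c₂ : Cofan fun i => (S i).X₂) (h₂ : IsColimit c₂)
    (c₃ : Cofan fun i => (S i).X₃) (h₃ : IsColimit c₃)
    (F : c₁.pt ⟶ c₂.pt) (G : c₂.pt ⟶ c₃.pt) (hFG : F ≫ G = 0)
    (hF : ∀ i, c₁.inj i ≫ F = (S i).f ≫ c₂.inj i)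
    (hG : ∀ i, c₂.inj i ≫ G = (S i).g ≫ c₃.inj i) :
    (ShortComplex.mk F G hFG).ShortExact := by
  have hc : ((famSC S).map (colim : (Discrete I ⥤ 𝒜) ⥤ 𝒜)).ShortExact := by
    haveI : PreservesFiniteLimits (colim : (Discrete I ⥤ 𝒜) ⥤ 𝒜) := inferInstance
    haveI : PreservesFiniteColimits (colim : (Discrete I ⥤ 𝒜) ⥤ 𝒜) := inferInstance
    exact (famSC_shortExact S hS).map_of_exact _
  let e₁ : colimit (Discrete.functor fun i => (S i).X₁) ≅ c₁.pt :=
    (colimit.isColimit _).coconePointUniqueUpToIso h₁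
  let e₂ : colimit (Discrete.functor fun i => (S i).X₂) ≅ c₂.pt :=
    (colimit.isColimit _).coconePointUniqueUpToIso h₂
  let e₃ : colimit (Discrete.functor fun i => (S i).X₃) ≅ c₃.pt :=
    (colimit.isColimit _).coconePointUniqueUpToIso h₃
  refine ShortComplex.shortExact_of_iso (ShortComplex.isoMk e₁ e₂ e₃ ?_ ?_) hc
  · apply colimit.hom_ext
    intro ⟨i⟩
    change colimit.ι _ _ ≫ e₁.hom ≫ F = colimit.ι _ _ ≫ colimMap _ ≫ e₂.hom
    rw [ι_colimMap_assoc]
    erw [colimit.comp_coconePointUniqueUpToIso_hom_assoc,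
      colimit.comp_coconePointUniqueUpToIso_hom]
    exact hF i
  · apply colimit.hom_ext
    intro ⟨i⟩
    change colimit.ι _ _ ≫ e₂.hom ≫ G = colimit.ι _ _ ≫ colimMap _ ≫ e₃.hom
    rw [ι_colimMap_assoc]
    erw [colimit.comp_coconePointUniqueUpToIso_hom_assoc,
      colimit.comp_coconePointUniqueUpToIso_hom]
    exact hG i

end Coprod

section Tens

variable {𝒜 : Type u} [Category.{v} 𝒜] [Abelian 𝒜] (T : 𝒜 ⥤ 𝒜 ⥤ 𝒜) [T.Additive]
  [∀ X, (T.obj X).Additive]
  [∀ (K₁ K₂ : CochainComplex 𝒜 ℤ),
    HomologicalComplex.HasMapBifunctor K₁ K₂ T (ComplexShape.up ℤ)]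

/-- the index type of the summands of the total complex in degree `n` -/
abbrev Idx (n : ℤ) : Type := {pq : ℤ × ℤ // pq.1 + pq.2 = n}

/-- the cofan of the summands of `(L ⊗ K)^n` -/
noncomputable def cofanTens (L K : CochainComplex 𝒜 ℤ) (n : ℤ) :
    Cofan (fun i : Idx n => (T.obj (L.X i.1.1)).obj (K.X i.1.2)) :=
  Cofan.mk ((tens T L K).X n) (fun i => ι T L K i.1.1 i.1.2 n i.2)

/-- `(L ⊗ K)^n` is the coproduct of its summands -/
noncomputable def isColimitCofanTens (L K : CochainComplex 𝒜 ℤ) (n : ℤ) :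
    IsColimit (cofanTens T L K n) :=
  mkCofanColimit _
    (fun s => mapBifunctorDesc (fun p q h => s.inj (⟨(p, q), h⟩ : Idx n)))
    (fun s i => by
      change ι T L K i.1.1 i.1.2 n i.2 ≫ _ = _
      unfold ι
      rw [ι_mapBifunctorDesc])
    (fun s m hm => by
      apply hom_ext' T
      intro p q hpq
      unfold ι
      rw [ι_mapBifunctorDesc]
      exact hm (⟨(p, q), hpq⟩ : Idx n))

variable [HasCountableCoproducts 𝒜] [CountableAB4 𝒜]

/-- the hypothesis that `A ⊗ S^q` is short exact for all objects `A` and all degrees `q` -/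
def TermwiseExact (S : ShortComplex (CochainComplex 𝒜 ℤ)) : Prop :=
  ∀ (A : 𝒜) (q : ℤ), (ShortComplex.mk ((T.obj A).map (S.f.f q)) ((T.obj A).map (S.g.f q))
    (by rw [← Functor.map_comp, ← HomologicalComplex.comp_f, S.zero, HomologicalComplex.zero_f,
      Functor.map_zero])).ShortExact

theorem shortExact_tensSC_of_termwise (L : CochainComplex 𝒜 ℤ)
    (S : ShortComplex (CochainComplex 𝒜 ℤ)) (hS : TermwiseExact T S) :
    (tensSC T L S).ShortExact := by
  apply HomologicalComplex.shortExact_of_degreewise_shortExact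
  intro n
  haveI : HasExactColimitsOfShape (Discrete (Idx n)) 𝒜 := CountableAB4.ofShape _
  exact shortExact_of_cofans
    (fun i : Idx n => ShortComplex.mk ((T.obj (L.X i.1.1)).map (S.f.f i.1.2))
      ((T.obj (L.X i.1.1)).map (S.g.f i.1.2))
      (by rw [← Functor.map_comp, ← HomologicalComplex.comp_f, S.zero, HomologicalComplex.zero_f,
        Functor.map_zero]))
    (fun i => hS (L.X i.1.1) i.1.2)
    (cofanTens T L S.X₁ n) (isColimitCofanTens T L S.X₁ n)
    (cofanTens T L S.X₂ n) (isColimitCofanTens T L S.X₂ n)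
    (cofanTens T L S.X₃ n) (isColimitCofanTens T L S.X₃ n)
    ((tensL T L S.f).f n) ((tensL T L S.g).f n) _
    (fun i => ι_tensL T L S.f i.1.1 i.1.2 n i.2)
    (fun i => ι_tensL T L S.g i.1.1 i.1.2 n i.2)

/-- two-out-of-three for K-flatness in a short exact sequence which stays exact after tensoring
termwise -/
theorem isKFl_two_out_of_three (S : ShortComplex (CochainComplex 𝒜 ℤ)) (hS : TermwiseExact T S) :
    (IsKFl T S.X₁ → IsKFl T S.X₂ → IsKFl T S.X₃) ∧
    (IsKFl T S.X₁ → IsKFl T S.X₃ → IsKFl T S.X₂) ∧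
    (IsKFl T S.X₂ → IsKFl T S.X₃ → IsKFl T S.X₁) := by
  refine ⟨fun h1 h2 L hL => ?_, fun h1 h3 L hL => ?_, fun h2 h3 L hL => ?_⟩
  · exact (acyclic_of_shortExact _ (shortExact_tensSC_of_termwise T L S hS)).1 (h1 L hL) (h2 L hL)
  · exact (acyclic_of_shortExact _ (shortExact_tensSC_of_termwise T L S hS)).2.1 (h1 L hL) (h3 L hL)
  · exact (acyclic_of_shortExact _ (shortExact_tensSC_of_termwise T L S hS)).2.2 (h2 L hL) (h3 L hL)

end Tens

end Groth.Agent.Helper29.KFS
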