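import Mathlib
import Groth.Prelude.Def_KFlatSite
import Groth.Agent.Lib.Helper29.KFS1
import Groth.Agent.Lib.Helper29.FreeOnRes
import Groth.Agent.Lib.Helper17.MT6

/-!
# K-flat complexes on a ringed site: short exact sequences with flat cokernel
-/

set_option autoImplicit false
set_option linter.unusedSectionVars false
set_option linter.unusedVariables false

universe u

open CategoryTheory CategoryTheory.Limits HomologicalComplex

namespace Groth.Agent.Helper29.KFS

open Groth.Agent.Helper5.KFA Groth.Agent.Helper17.MT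

variable {C : Type u} [SmallCategory C] {J : GrothendieckTopology C} (O : Sheaf J CommRingCat.{u})

instance : HasCountableCoproducts (ModSite.Mod O) := ⟨fun _ _ => inferInstance⟩

instance countableAB4 : CountableAB4 (ModSite.Mod O) := by
  haveI : AB5OfSize.{0, 0} (ModSite.Mod O) := AB5OfSize_shrink.{0, 0, u, u} (ModSite.Mod O)
  haveI : HasFiniteBiproducts (ModSite.Mod O) := Abelian.hasFiniteBiproducts
  haveI : AB4OfSize.{0} (ModSite.Mod O) := AB4.of_AB5 _
  exact ⟨fun α _ => AB4OfSize.ofShape α⟩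

lemma isKFlat_iff (K : CochainComplex (ModSite.Mod O) ℤ) :
    ModSite.IsKFlat K ↔ IsKFl (ModSite.tensorBi O) K := Iff.rfl

variable {O}

theorem termwiseExact_of_flat (S : ShortComplex (CochainComplex (ModSite.Mod O) ℤ))
    (hS : S.ShortExact) (h3 : ∀ n : ℤ, ModSite.IsFlat (S.X₃.X n)) :
    TermwiseExact (ModSite.tensorBi O) S := by
  intro A q
  have hq : (S.map (HomologicalComplex.eval _ _ q)).ShortExact :=
    hS.map_of_exact (HomologicalComplex.eval _ _ q)
  haveI := mono_TL_map_of_isFlat O hq (h3 q) A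
  haveI := hq.epi_g
  have hex : ((S.map (HomologicalComplex.eval _ _ q)).map (TL O A)).Exact :=
    hq.exact.map_of_epi_of_preservesCokernel (TL O A) hq.epi_g inferInstance
  have hepi : Epi ((TL O A).map (S.map (HomologicalComplex.eval _ _ q)).g) := inferInstance
  exact ShortComplex.ShortExact.mk' hex (mono_TL_map_of_isFlat O hq (h3 q) A) hepi

theorem main9057 (S : ShortComplex (CochainComplex (ModSite.Mod O) ℤ)) (hS : S.ShortExact)
    (h3 : ∀ n : ℤ, ModSite.IsFlat (S.X₃.X n)) :
    (ModSite.IsKFlat S.X₁ → ModSite.IsKFlat S.X₂ → ModSite.IsKFlat S.X₃) ∧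
    (ModSite.IsKFlat S.X₁ → ModSite.IsKFlat S.X₃ → ModSite.IsKFlat S.X₂) ∧
    (ModSite.IsKFlat S.X₂ → ModSite.IsKFlat S.X₃ → ModSite.IsKFlat S.X₁) :=
  isKFl_two_out_of_three (ModSite.tensorBi O) S (termwiseExact_of_flat S hS h3)

end Groth.Agent.Helper29.KFS
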