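import Mathlib
import Groth.Agent.Lib.Helper5.KFAbs2
import Groth.Agent.Lib.Helper29.HomColim

/-!
# Abstract K-flatness: colimits of K-flat complexes
-/

set_option autoImplicit false
set_option linter.unusedSectionVars false
set_option linter.unusedVariables false

universe w w' v u

open CategoryTheory CategoryTheory.Limits HomologicalComplex

namespace Groth.Agent.Helper29.KFS

open Groth.Agent.Helper5.KFA

variable {𝒜 : Type u} [Category.{v} 𝒜] [Abelian 𝒜] (T : 𝒜 ⥤ 𝒜 ⥤ 𝒜) [T.Additive]
  [∀ X, (T.obj X).Additive]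
  [∀ (K₁ K₂ : CochainComplex 𝒜 ℤ),
    HomologicalComplex.HasMapBifunctor K₁ K₂ T (ComplexShape.up ℤ)]
  {J : Type w} [Category.{w'} J]

/-- `L ⊗ -` applied to a diagram of complexes -/
noncomputable def tensDiag (L : CochainComplex 𝒜 ℤ) (F : J ⥤ CochainComplex 𝒜 ℤ) :
    J ⥤ CochainComplex 𝒜 ℤ where
  obj j := tens T L (F.obj j)
  map u := tensL T L (F.map u)
  map_id j := by rw [F.map_id]; exact tensL_id T L _
  map_comp u v := by rw [F.map_comp]; exact tensL_comp T L _ _

/-- `L ⊗ -` applied to a cocone -/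
noncomputable def tensCocone (L : CochainComplex 𝒜 ℤ) {F : J ⥤ CochainComplex 𝒜 ℤ}
    (c : Cocone F) : Cocone (tensDiag T L F) where
  pt := tens T L c.pt
  ι := { app := fun j => tensL T L (c.ι.app j)
         naturality := fun j j' u => by
           change tensL T L (F.map u) ≫ tensL T L (c.ι.app j') = tensL T L (c.ι.app j) ≫ 𝟙 _
           rw [Category.comp_id, ← tensL_comp, c.w] }

variable [HasColimitsOfShape J 𝒜] [∀ A : 𝒜, PreservesColimitsOfShape J (T.obj A)]

section

variable (L : CochainComplex 𝒜 ℤ) {F : J ⥤ CochainComplex 𝒜 ℤ} (c : Cocone F) (hc : IsColimit c)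

/-- the colimit cocone `T(L^p, F_j^q) → T(L^p, c^q)` -/
noncomputable def isColimitSummand (p q : ℤ) :
    IsColimit ((T.obj (L.X p)).mapCocone ((eval 𝒜 (ComplexShape.up ℤ) q).mapCocone c)) :=
  isColimitOfPreserves (T.obj (L.X p)) (isColimitOfPreserves (eval 𝒜 (ComplexShape.up ℤ) q) hc)

/-- the cocone on summands induced by a cocone on `(L ⊗ F_j)^n` -/
noncomputable def summandCocone (n : ℤ)
    (t : Cocone (tensDiag T L F ⋙ eval 𝒜 (ComplexShape.up ℤ) n)) (p q : ℤ) (h : p + q = n) :
    Cocone ((F ⋙ eval 𝒜 (ComplexShape.up ℤ) q) ⋙ T.obj (L.X p)) where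
  pt := t.pt
  ι := { app := fun j => ι T L (F.obj j) p q n h ≫ t.ι.app j
         naturality := fun j j' u => by
           change (T.obj (L.X p)).map ((F.map u).f q) ≫ ι T L (F.obj j') p q n h ≫ t.ι.app j' =
             (ι T L (F.obj j) p q n h ≫ t.ι.app j) ≫ 𝟙 _
           rw [Category.comp_id, ← ι_tensL_assoc]
           congr 1
           exact t.w u }

/-- `L ⊗ -` preserves colimits, degreewise -/
noncomputable def isColimitEvalTensCocone (n : ℤ) :
    IsColimit ((eval 𝒜 (ComplexShape.up ℤ) n).mapCocone (tensCocone T L c)) where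
  desc t := mapBifunctorDesc (fun p q h =>
    (isColimitSummand T L c hc p q).desc (summandCocone T L n t p q h))
  fac t j := by
    apply hom_ext' T
    intro p q h
    change ι T L (F.obj j) p q n h ≫ (tensL T L (c.ι.app j)).f n ≫ _ = _
    rw [ι_tensL_assoc]
    unfold ι
    rw [ι_mapBifunctorDesc]
    exact (isColimitSummand T L c hc p q).fac (summandCocone T L n t p q h) j
  uniq t m hm := by
    apply hom_ext' T
    intro p q h
    unfold ι
    rw [ι_mapBifunctorDesc]
    apply (isColimitSummand T L c hc p q).uniq (summandCocone T L n t p q h)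
    intro j
    have e := ι_tensL_assoc T L (c.ι.app j) p q n h (show (tens T L c.pt).X n ⟶ t.pt from m)
    exact e.symm.trans (congrArg (fun x => ι T L (F.obj j) p q n h ≫ x) (hm j))

/-- `L ⊗ -` preserves colimits -/
noncomputable def isColimitTensCocone : IsColimit (tensCocone T L c) :=
  HomologicalComplex.isColimitOfEval _ _ (fun n => isColimitEvalTensCocone T L c hc n)

end

lemma isZero_of_isColimit_of_isZero {ℬ : Type*} [Category ℬ] [HasZeroMorphisms ℬ]
    {G : J ⥤ ℬ} (c : Cocone G) (hc : IsColimit c)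
    (h : ∀ j, IsZero (G.obj j)) : IsZero c.pt := by
  rw [IsZero.iff_id_eq_zero]
  apply hc.hom_ext
  intro j
  exact (h j).eq_of_src _ _

variable [HasExactColimitsOfShape J 𝒜]

/-- a colimit (of a shape with exact colimits) of K-flat complexes is K-flat -/
theorem IsKFl.of_isColimit {F : J ⥤ CochainComplex 𝒜 ℤ} (c : Cocone F) (hc : IsColimit c)
    (hF : ∀ j, IsKFl T (F.obj j)) : IsKFl T c.pt := by
  intro L hL i
  have h1 := isColimitTensCocone T L c hc
  have h2 := isColimitOfPreserves (homologyFunctor 𝒜 (ComplexShape.up ℤ) i) h1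
  exact isZero_of_isColimit_of_isZero _ h2 (fun j => hF j L hL i)

end Groth.Agent.Helper29.KFS
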