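import Mathlib
import Groth.Prelude.Def_KFlatSite
import Groth.Agent.Lib.Helper29.KFS2
import Groth.Agent.Lib.Helper29.KFS3
import Groth.Agent.Lib.Helper17.MT3

/-!
# K-flat complexes on a ringed site: sequential colimits
-/

set_option autoImplicit false
set_option linter.unusedSectionVars false
set_option linter.unusedVariables false

universe u

open CategoryTheory CategoryTheory.Limits HomologicalComplex

namespace Groth.Agent.Helper29.KFS

open Groth.Agent.Helper5.KFA Groth.Agent.Helper17.MT

variable {C : Type u} [SmallCategory C] {J : GrothendieckTopology C} {O : Sheaf J CommRingCat.{u}}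

instance preservesColimitsOfShape_nat_TL (A : ModSite.Mod O) :
    PreservesColimitsOfShape ℕ ((ModSite.tensorBi O).obj A) := by
  haveI : PreservesColimitsOfSize.{0, 0} (TL O A) :=
    preservesColimitsOfSize_shrink.{0, u, 0, u} (TL O A)
  infer_instance

theorem isKFlat_of_isColimit_nat {K : ℕ ⥤ CochainComplex (ModSite.Mod O) ℤ} (c : Cocone K)
    (hc : IsColimit c) (hK : ∀ n : ℕ, ModSite.IsKFlat (K.obj n)) : ModSite.IsKFlat c.pt :=
  IsKFl.of_isColimit (ModSite.tensorBi O) c hc hK

theorem main9059 (K : ℕ ⥤ CochainComplex (ModSite.Mod O) ℤ)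
    (hK : ∀ n : ℕ, ModSite.IsKFlat (K.obj n)) : ModSite.IsKFlat (colimit K) :=
  isKFlat_of_isColimit_nat (colimit.cocone K) (colimit.isColimit K) hK

end Groth.Agent.Helper29.KFS
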