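import Mathlib
import Groth.Prelude.Def_KFlatSite
import Groth.Agent.Lib.Helper29.KFS4
import Groth.Agent.Lib.Helper29.STrunc
import Groth.Agent.Lib.Helper17.MT21
import Groth.Agent.Lib.Helper17.MT17

/-!
# K-flat complexes on a ringed site: bounded above complexes of flat modules
-/

set_option autoImplicit false
set_option linter.unusedSectionVars false
set_option linter.unusedVariables false

universe u

open CategoryTheory CategoryTheory.Limits HomologicalComplex

namespace Groth.Agent.Helper29.KFS

open Groth.Agent.Helper5.KFA Groth.Agent.Helper17.MT Groth.Agent.Helper29.STrunc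

variable {C : Type u} [SmallCategory C] {J : GrothendieckTopology C} {O : Sheaf J CommRingCat.{u}}

theorem isKFlat_of_iso {K K' : CochainComplex (ModSite.Mod O) ℤ} (e : K ≅ K')
    (h : ModSite.IsKFlat K) : ModSite.IsKFlat K' :=
  IsKFl.of_homotopyEquiv (ModSite.tensorBi O) (HomotopyEquiv.ofIso e) h

/-- a complex with zero terms is K-flat -/
theorem isKFlat_of_isZero_X (K : CochainComplex (ModSite.Mod O) ℤ) (hK : ∀ i, IsZero (K.X i)) :
    ModSite.IsKFlat K := by
  intro L hL i
  have hX : ∀ n, IsZero ((tens (ModSite.tensorBi O) L K).X n) := fun n =>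
    isZero_of_isColimit_of_isZero _ (isColimitCofanTens (ModSite.tensorBi O) L K n)
      (fun j => ((ModSite.tensorBi O).obj (L.X j.as.1.1)).map_isZero (hK j.as.1.2))
  rw [← HomologicalComplex.exactAt_iff_isZero_homology]
  exact HomologicalComplex.ExactAt.of_isZero (hX i)

/-- a flat module placed in a single degree is K-flat -/
theorem isKFlat_single (N : ModSite.Mod O) (hN : ModSite.IsFlat N) (n : ℤ) :
    ModSite.IsKFlat ((CochainComplex.singleFunctor (ModSite.Mod O) n).obj N) := by
  have h0 := isKFlat_single_of_isFlat O N hN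
  have h1 : ModSite.IsKFlat (((CochainComplex.singleFunctor (ModSite.Mod O) 0).obj N)⟦-n⟧) :=
    (IsKFl.shift_iff (ModSite.tensorBi O) _ (-n)).mpr h0
  exact isKFlat_of_iso (((CochainComplex.singleFunctors (ModSite.Mod O)).shiftIso (-n) n 0
    (by omega)).app N) h1

/-- a complex concentrated in one degree with flat term is K-flat -/
theorem isKFlat_of_concentrated (K : CochainComplex (ModSite.Mod O) ℤ) (n : ℤ)
    [K.IsStrictlyGE n] [K.IsStrictlyLE n] (hK : ModSite.IsFlat (K.X n)) : ModSite.IsKFlat K := by
  obtain ⟨M, ⟨e⟩⟩ := K.exists_iso_single n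
  have eX : K.X n ≅ M :=
    (HomologicalComplex.eval _ _ n).mapIso e ≪≫
      HomologicalComplex.singleObjXSelf (ComplexShape.up ℤ) n M
  exact isKFlat_of_iso e.symm (isKFlat_single M (isFlat_of_iso O eX hK) n)

/-- bounded complexes of flat modules are K-flat -/
theorem isKFlat_of_bounded : ∀ (n : ℕ) (K : CochainComplex (ModSite.Mod O) ℤ) (a b : ℤ)
    [K.IsStrictlyGE a] [K.IsStrictlyLE b] (_ : b - a < n)
    (_ : ∀ i, ModSite.IsFlat (K.X i)), ModSite.IsKFlat K
  | 0, K, a, b, _, _, hab, _ => by
      apply isKFlat_of_isZero_X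
      intro i
      by_cases h : i < a
      · exact K.isZero_of_isStrictlyGE a i h
      · exact K.isZero_of_isStrictlyLE b i (by omega)
  | n + 1, K, a, b, _, _, hab, hK => by
      haveI := isStrictlyGE_sGT K a
      haveI := isStrictlyLE_sGT K a b
      haveI := isStrictlyLE_qLE K a
      haveI := isStrictlyGE_qLE K a a
      have hflat₁ : ∀ i, ModSite.IsFlat ((sGT K a).X i) :=
        prop_sGT_X K a ModSite.IsFlat (fun e h => isFlat_of_iso O e h)
          (fun A hA => isFlat_of_isZero O A hA) hK
      have hflat₃ : ∀ i, ModSite.IsFlat ((qLE K a).X i) :=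
        prop_qLE_X K a ModSite.IsFlat (fun e h => isFlat_of_iso O e h)
          (fun A hA => isFlat_of_isZero O A hA) hK
      have h1 : ModSite.IsKFlat (sGT K a) :=
        isKFlat_of_bounded n (sGT K a) (a + 1) b (by omega) hflat₁
      have h3 : ModSite.IsKFlat (qLE K a) := isKFlat_of_concentrated (qLE K a) a (hflat₃ a)
      exact (main9057 (STrunc.sc K a) (sc_shortExact K a) hflat₃).2.1 h1 h3

/-- bounded above complexes of flat modules are K-flat -/
theorem main9058 (K : CochainComplex (ModSite.Mod O) ℤ) (b : ℤ) (hb : K.IsStrictlyLE b)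
    (hflat : ∀ n : ℤ, ModSite.IsFlat (K.X n)) : ModSite.IsKFlat K := by
  refine isKFlat_of_isColimit_nat (towerCocone K b) (isColimitTowerCocone K b) (fun n => ?_)
  change ModSite.IsKFlat (sGT K (b - n))
  haveI := isStrictlyGE_sGT K (b - n)
  haveI := isStrictlyLE_sGT K (b - n) b
  exact isKFlat_of_bounded (n + 1) (sGT K (b - n)) (b - n + 1) b (by omega)
    (prop_sGT_X K (b - n) ModSite.IsFlat (fun e h => isFlat_of_iso O e h)
      (fun A hA => isFlat_of_isZero O A hA) hflat)

end Groth.Agent.Helper29.KFS
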