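import Mathlib
import Groth.Prelude.Def_KFlatSite
import Groth.Agent.Lib.Helper29.KFS5
import Groth.Agent.Lib.Helper29.FreeOnRes

/-!
# K-flat resolutions on a ringed site
-/

set_option autoImplicit false
set_option linter.unusedSectionVars false
set_option linter.unusedVariables false

universe v u

open CategoryTheory CategoryTheory.Limits HomologicalComplex

namespace Groth.Agent.Helper29.KFS

open Groth.Agent.Helper5.KFA Groth.Agent.Helper17.MT Groth.Agent.Helper29.STrunc

section Trunc

variable {𝒜 : Type u} [Category.{v} 𝒜] [Abelian 𝒜]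

lemma isIso_ιTruncLE_f (G : CochainComplex 𝒜 ℤ) (m i : ℤ) (hi : i < m) :
    IsIso ((G.ιTruncLE m).f i) := by
  have hj : (ComplexShape.embeddingUpIntLE m).f (m - i).toNat = i := by
    simp [ComplexShape.embeddingUpIntLE]; omega
  have hb : ¬ (ComplexShape.embeddingUpIntLE m).BoundaryLE (m - i).toNat := by
    rw [ComplexShape.boundaryLE_embeddingUpIntLE_iff]; omega
  change IsIso ((G.op.πTruncGE (ComplexShape.embeddingUpIntLE m).op).f i).unop
  haveI : IsIso ((G.op.πTruncGE (ComplexShape.embeddingUpIntLE m).op).f i) := by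
    unfold HomologicalComplex.πTruncGE
    refine ((ComplexShape.embeddingUpIntLE m).op.isIso_liftExtend_f_iff _
      (G.op.restrictionToTruncGE'_hasLift _) hj).mpr ?_
    exact G.op.isIso_restrictionToTruncGE' _ _ (by simpa using hb)
  infer_instance

end Trunc

variable {C : Type u} [SmallCategory C] {J : GrothendieckTopology C} {O : Sheaf J CommRingCat.{u}}

theorem isFlat_of_isColimit_nat {D : ℕ ⥤ ModSite.Mod O} (hD : ∀ n, ModSite.IsFlat (D.obj n))
    (c : Cocone D) (hc : IsColimit c) : ModSite.IsFlat c.pt := by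
  rw [isFlat_iff]
  exact preservesFiniteLimits_flip_obj_pt (ModSite.tensorBi O) c hc (fun i => (hD i).1)

theorem isFlat_coprod_freeOn {ι : Type u} (U : ι → C) :
    ModSite.IsFlat (∐ fun j => ModSite.freeOn O (U j)) :=
  isFlat_sigmaObj O _ (fun j => (main6146 O (U j)).2)

theorem main9060 (G : CochainComplex (ModSite.Mod O) ℤ) :
    ∃ (K : CochainComplex (ModSite.Mod O) ℤ) (q : K ⟶ G), ModSite.IsKFlat K ∧
      (∀ n : ℤ, ModSite.IsFlat (K.X n)) ∧ QuasiIso q ∧ ∀ n : ℤ, Epi (q.f n) := by
  obtain ⟨Kc, π, -, hπ, hbd, hterms, -, c, hc, hcq⟩ := Groth.Agent.Helper29.FreeOnRes.main O G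
  have hflat : ∀ (n : ℕ) (i : ℤ), ModSite.IsFlat ((Kc.obj n).X i) := by
    intro n i
    obtain ⟨ι, U, ⟨e⟩⟩ := hterms n i
    exact isFlat_of_iso O e.symm (isFlat_coprod_freeOn U)
  have hKF : ∀ n : ℕ, ModSite.IsKFlat (Kc.obj n) := by
    intro n
    obtain ⟨b, hb⟩ := hbd n
    exact main9058 (Kc.obj n) b hb (hflat n)
  refine ⟨colimit Kc, c, main9059 Kc hKF, ?_, hcq, ?_⟩
  · intro i
    exact isFlat_of_isColimit_nat (D := Kc ⋙ HomologicalComplex.eval _ _ i) (fun n => hflat n i)
      ((HomologicalComplex.eval _ _ i).mapCocone (colimit.cocone Kc))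
      (isColimitOfPreserves _ (colimit.isColimit Kc))
  · intro i
    have h := congrArg (fun φ => φ.f i) (hc i.toNat)
    simp only [HomologicalComplex.comp_f] at h
    haveI := (hπ i.toNat).2 i
    haveI := isIso_ιTruncLE_f G ((i.toNat : ℤ) + 1) i (by omega)
    haveI : Epi ((colimit.ι Kc i.toNat).f i ≫ c.f i) := by
      rw [h]; infer_instance
    exact epi_of_epi ((colimit.ι Kc i.toNat).f i) (c.f i)

end Groth.Agent.Helper29.KFS
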