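import Mathlib
import Groth.Agent.Lib.Helper5.KFAbs2

/-!
# Abstract K-flatness: K-flat replacement of a morphism from a K-flat complex
-/

set_option autoImplicit false
set_option linter.unusedSectionVars false
set_option linter.unusedVariables false

universe w v u

open CategoryTheory CategoryTheory.Limits HomologicalComplex

namespace Groth.Agent.Helper29.KFS

open Groth.Agent.Helper5.KFA CochainComplex

section Cone

variable {𝒜 : Type u} [Category.{v} 𝒜] [Abelian 𝒜] [HasDerivedCategory.{w} 𝒜]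

/-- the map on mapping cones induced by a square of quasi-isomorphisms is a quasi-isomorphism -/
theorem quasiIso_mappingCone_map {K₁ L₁ K₂ L₂ : CochainComplex 𝒜 ℤ} (φ₁ : K₁ ⟶ L₁)
    (φ₂ : K₂ ⟶ L₂) (a : K₁ ⟶ K₂) (b : L₁ ⟶ L₂) (comm : φ₁ ≫ b = a ≫ φ₂)
    [QuasiIso a] [QuasiIso b] : QuasiIso (mappingCone.map φ₁ φ₂ a b comm) := by
  rw [← DerivedCategory.isIso_Q_map_iff_quasiIso]
  let Φ := DerivedCategory.Q.mapTriangle.map (mappingCone.triangleMap φ₁ φ₂ a b comm)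
  haveI h1 : IsIso Φ.hom₁ := by
    change IsIso (DerivedCategory.Q.map a)
    rw [DerivedCategory.isIso_Q_map_iff_quasiIso]; infer_instance
  haveI h2 : IsIso Φ.hom₂ := by
    change IsIso (DerivedCategory.Q.map b)
    rw [DerivedCategory.isIso_Q_map_iff_quasiIso]; infer_instance
  exact Pretriangulated.isIso₃_of_isIso₁₂ Φ
    (DerivedCategory.mappingCone_triangle_distinguished φ₁)
    (DerivedCategory.mappingCone_triangle_distinguished φ₂) h1 h2

end Cone

section Repl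

variable {𝒜 : Type u} [Category.{v} 𝒜] [Abelian 𝒜] (T : 𝒜 ⥤ 𝒜 ⥤ 𝒜) [T.Additive]
  [∀ X, (T.obj X).Additive]
  [∀ (K₁ K₂ : CochainComplex 𝒜 ℤ),
    HomologicalComplex.HasMapBifunctor K₁ K₂ T (ComplexShape.up ℤ)]

/-- the split short complex `K ⟶ K ⊞ K' ⟶ K'` -/
noncomputable def biprodSC (K K' : CochainComplex 𝒜 ℤ) : ShortComplex (CochainComplex 𝒜 ℤ) :=
  ShortComplex.mk (biprod.inl : K ⟶ K ⊞ K') (biprod.snd : K ⊞ K' ⟶ K') biprod.inl_snd

/-- its degreewise splitting -/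
noncomputable def biprodDSplit (K K' : CochainComplex 𝒜 ℤ) : DSplit (biprodSC K K') where
  r q := (biprod.fst : K ⊞ K' ⟶ K).f q
  s q := (biprod.inr : K' ⟶ K ⊞ K').f q
  f_r q := by
    change (biprod.inl : K ⟶ K ⊞ K').f q ≫ (biprod.fst : K ⊞ K' ⟶ K).f q = 𝟙 _
    rw [← HomologicalComplex.comp_f, biprod.inl_fst, HomologicalComplex.id_f]
  s_g q := by
    change (biprod.inr : K' ⟶ K ⊞ K').f q ≫ (biprod.snd : K ⊞ K' ⟶ K').f q = 𝟙 _
    rw [← HomologicalComplex.comp_f, biprod.inr_snd, HomologicalComplex.id_f]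
  id q := by
    change (biprod.fst : K ⊞ K' ⟶ K).f q ≫ (biprod.inl : K ⟶ K ⊞ K').f q +
      (biprod.snd : K ⊞ K' ⟶ K').f q ≫ (biprod.inr : K' ⟶ K ⊞ K').f q = 𝟙 _
    rw [← HomologicalComplex.comp_f, ← HomologicalComplex.comp_f, ← HomologicalComplex.add_f_apply,
      biprod.total, HomologicalComplex.id_f]

theorem IsKFl.biprod {K K' : CochainComplex 𝒜 ℤ} (hK : IsKFl T K) (hK' : IsKFl T K') :
    IsKFl T (K ⊞ K') := by
  intro L hL
  exact (acyclic_of_shortExact _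
    (shortExact_tensSC T L (biprodSC K K') (biprodDSplit K K'))).2.1 (hK L hL) (hK' L hL)

variable [HasDerivedCategory.{w} 𝒜]

theorem exists_kflat_replacement (P : 𝒜 → Prop) (hPiso : ∀ {A B : 𝒜}, (A ≅ B) → P A → P B)
    (hPbi : ∀ A B : 𝒜, P A → P B → P (A ⊞ B))
    (hres : ∀ G : CochainComplex 𝒜 ℤ, ∃ (M : CochainComplex 𝒜 ℤ) (q : M ⟶ G), IsKFl T M ∧
      (∀ n, P (M.X n)) ∧ QuasiIso q ∧ ∀ n, Epi (q.f n))
    {K L : CochainComplex 𝒜 ℤ} (a : K ⟶ L) (hK : IsKFl T K) :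
    ∃ (N : CochainComplex 𝒜 ℤ) (b : K ⟶ N) (c : N ⟶ L), IsKFl T N ∧ QuasiIso c ∧
      Nonempty (Homotopy a (b ≫ c)) ∧ ((∀ n, P (K.X n)) → ∀ n, P (N.X n)) := by
  obtain ⟨PL, p, hPL, hPLt, hp, hpe⟩ := hres L
  haveI : Epi p := HomologicalComplex.epi_of_epi_f _ hpe
  haveI : Epi (biprod.desc a p) := epi_of_epi_fac (biprod.inr_desc a p)
  let S : ShortComplex (CochainComplex 𝒜 ℤ) :=
    ShortComplex.mk (kernel.ι (biprod.desc a p)) (biprod.desc a p) (kernel.condition _)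
  have hS : S.ShortExact := by
    haveI : Mono S.f := equalizer.ι_mono
    haveI : Epi S.g := inferInstanceAs (Epi (biprod.desc a p))
    exact ShortComplex.ShortExact.mk (ShortComplex.exact_of_f_is_kernel _ (kernelIsKernel _))
  obtain ⟨M, m, hM, hMt, hm, -⟩ := hres (kernel (biprod.desc a p))
  let g : M ⟶ K ⊞ PL := m ≫ S.f
  have comm : g ≫ 𝟙 (K ⊞ PL) = m ≫ S.f := Category.comp_id _
  haveI : QuasiIso (mappingCone.map g S.f m (𝟙 _) comm) := quasiIso_mappingCone_map _ _ _ _ _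
  haveI : QuasiIso (mappingCone.descShortComplex S) := mappingCone.quasiIso_descShortComplex hS
  refine ⟨mappingCone g, biprod.inl ≫ mappingCone.inr g,
    mappingCone.map g S.f m (𝟙 _) comm ≫ mappingCone.descShortComplex S,
    IsKFl.cone T g hM (IsKFl.biprod T hK hPL), inferInstance, ⟨Homotopy.ofEq ?_⟩, ?_⟩
  · have h1 : mappingCone.inr g ≫ mappingCone.map g S.f m (𝟙 _) comm = mappingCone.inr S.f := by
      unfold mappingCone.map
      rw [mappingCone.inr_desc, Category.id_comp]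
    rw [Category.assoc, reassoc_of% h1, mappingCone.inr_descShortComplex]
    exact (biprod.inl_desc a p).symm
  · intro hKt n
    have e1 : (mappingCone g).X n ≅ M.X (n + 1) ⊞ (K ⊞ PL).X n :=
      HomologicalComplex.homotopyCofiber.XIsoBiprod g n (n + 1) rfl
    have e2 : (K ⊞ PL).X n ≅ K.X n ⊞ PL.X n :=
      (HomologicalComplex.eval 𝒜 (ComplexShape.up ℤ) n).mapBiprod K PL
    exact hPiso e1.symm (hPbi _ _ (hMt _) (hPiso e2.symm (hPbi _ _ (hKt n) (hPLt n))))

end Repl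

end Groth.Agent.Helper29.KFS
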