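import Mathlib
import Groth.Prelude.Def_KFlatSite
import Groth.Agent.Lib.Helper29.KFS6
import Groth.Agent.Lib.Helper29.KFS7

/-!
# K-flat replacement of morphisms on a ringed site
-/

set_option autoImplicit false
set_option linter.unusedSectionVars false
set_option linter.unusedVariables false

universe u

open CategoryTheory CategoryTheory.Limits HomologicalComplex

attribute [local instance] HasDerivedCategory.standard

namespace Groth.Agent.Helper29.KFS

open Groth.Agent.Helper5.KFA Groth.Agent.Helper17.MT

variable {C : Type u} [SmallCategory C] {J : GrothendieckTopology C} {O : Sheaf J CommRingCat.{u}}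

theorem isFlat_biprod (A B : ModSite.Mod O) (hA : ModSite.IsFlat A) (hB : ModSite.IsFlat B) :
    ModSite.IsFlat (A ⊞ B) := by
  rw [isFlat_iff]
  haveI : HasFiniteBiproducts (ModSite.Mod O) := Abelian.hasFiniteBiproducts
  haveI : ∀ X : ModSite.Mod O,
      PreservesColimitsOfShape (Discrete WalkingPair) ((ModSite.tensorBi O).obj X) := fun X => by
    haveI : PreservesColimitsOfSize.{0, 0} (TL O X) :=
      preservesColimitsOfSize_shrink.{0, u, 0, u} (TL O X)
    infer_instance
  exact preservesFiniteLimits_flip_obj_pt (ModSite.tensorBi O)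
    (BinaryBiproduct.bicone A B).toCocone (BinaryBiproduct.isColimit A B)
    (fun i => by
      rcases i with ⟨_ | _⟩
      · exact hA.1
      · exact hB.1)

theorem main9061 {K L : CochainComplex (ModSite.Mod O) ℤ} (a : K ⟶ L) (hK : ModSite.IsKFlat K) :
    ∃ (N : CochainComplex (ModSite.Mod O) ℤ) (b : K ⟶ N) (c : N ⟶ L), ModSite.IsKFlat N ∧
      QuasiIso c ∧ Nonempty (Homotopy a (b ≫ c)) ∧
      ((∀ n : ℤ, ModSite.IsFlat (K.X n)) → ∀ n : ℤ, ModSite.IsFlat (N.X n)) :=
  exists_kflat_replacement (ModSite.tensorBi O) ModSite.IsFlat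
    (fun e h => isFlat_of_iso O e h) isFlat_biprod (fun G => main9060 G) a hK

end Groth.Agent.Helper29.KFS
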