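import Mathlib
import Groth.Agent.Lib.Helper5.KFAbs2
import Groth.Agent.Lib.Helper5.CXB1
import Groth.Agent.Lib.Helper29.KFS7

/-!
# Abstract K-flatness: quasi-isomorphisms of K-flat complexes are preserved by `F ⊗ -`
-/

set_option autoImplicit false
set_option linter.unusedSectionVars false
set_option linter.unusedVariables false

universe w v u

open CategoryTheory CategoryTheory.Limits HomologicalComplex

namespace Groth.Agent.Helper29.KFS

open Groth.Agent.Helper5.KFA Groth.Agent.Helper5.CXB CochainComplex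

variable {𝒜 : Type u} [Category.{v} 𝒜] [Abelian 𝒜] (T : 𝒜 ⥤ 𝒜 ⥤ 𝒜) [T.Additive]
  [∀ X, (T.obj X).Additive]
  [∀ (K₁ K₂ : CochainComplex 𝒜 ℤ),
    HomologicalComplex.HasMapBifunctor K₁ K₂ T (ComplexShape.up ℤ)]

/-- two-out-of-three for K-flatness in degreewise split short exact sequences -/
theorem isKFl_of_dsplit (S : ShortComplex (CochainComplex 𝒜 ℤ)) (σ : DSplit S) :
    (IsKFl T S.X₁ → IsKFl T S.X₂ → IsKFl T S.X₃) ∧
    (IsKFl T S.X₁ → IsKFl T S.X₃ → IsKFl T S.X₂) ∧
    (IsKFl T S.X₂ → IsKFl T S.X₃ → IsKFl T S.X₁) := by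
  refine ⟨fun h1 h2 L hL => ?_, fun h1 h3 L hL => ?_, fun h2 h3 L hL => ?_⟩
  · exact (acyclic_of_shortExact _ (shortExact_tensSC T L S σ)).1 (h1 L hL) (h2 L hL)
  · exact (acyclic_of_shortExact _ (shortExact_tensSC T L S σ)).2.1 (h1 L hL) (h3 L hL)
  · exact (acyclic_of_shortExact _ (shortExact_tensSC T L S σ)).2.2 (h2 L hL) (h3 L hL)

/-- the cone of the identity is K-flat when the complex is -/
theorem IsKFl.cone_id {X : CochainComplex 𝒜 ℤ} (hX : IsKFl T X) :
    IsKFl T (mappingCone (𝟙 X)) := IsKFl.cone T (𝟙 X) hX hX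

/-- the cokernel in the factorization of a map of K-flat complexes is K-flat -/
theorem isKFl_facSC_X₃ {X Y : CochainComplex 𝒜 ℤ} (f : X ⟶ Y) (hX : IsKFl T X)
    (hY : IsKFl T Y) : IsKFl T (facSC f).X₃ :=
  (isKFl_of_dsplit T (facSC f) (facSplitting f)).1 hX
    (IsKFl.biprod T hY (IsKFl.cone_id T hX))

variable (s : Sym T)
  (hres : ∀ G : CochainComplex 𝒜 ℤ, ∃ (M : CochainComplex 𝒜 ℤ) (q : M ⟶ G),
    IsKFl T M ∧ QuasiIso q)

include s hres in
/-- tensoring any complex with a K-flat acyclic complex gives an acyclic complex -/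
theorem acyclic_tens_of_isKFl_of_acyclic {C : CochainComplex 𝒜 ℤ} (hC : IsKFl T C)
    (hCa : ∀ i, IsZero (C.homology i)) (F : CochainComplex 𝒜 ℤ) :
    ∀ i, IsZero ((tens T F C).homology i) := by
  obtain ⟨F', q, hF', hq⟩ := hres F
  have h3 : ∀ i, IsZero ((tens T (facSC q).X₃ C).homology i) := hC _ (facSC_acyclic q hq)
  have h1 : ∀ i, IsZero ((tens T F' C).homology i) := fun i =>
    IsZero.of_iso (hF' C hCa i) ((HomologicalComplex.homologyFunctor _ _ i).mapIso (s.β F' C))
  have h2 : ∀ i, IsZero ((tens T (facObj F' F) C).homology i) :=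
    (acyclic_of_shortExact _ (shortExact_tensSCR T C (facSC q) (facSplitting q))).2.1 h1 h3
  intro i
  exact IsZero.of_iso (h2 i) ((tensRHomotopyEquiv T C (facEquiv F' F)).toHomologyIso i).symm

include s hres in
/-- a quasi-isomorphism between K-flat complexes stays a quasi-isomorphism after `F ⊗ -` -/
theorem quasiIso_tensL_of_isKFl {P Q : CochainComplex 𝒜 ℤ} (hP : IsKFl T P) (hQ : IsKFl T Q)
    (α : P ⟶ Q) (hα : QuasiIso α) (F : CochainComplex 𝒜 ℤ) : QuasiIso (tensL T F α) := by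
  have hS : (tensSC T F (facSC α)).ShortExact := shortExact_tensSC T F (facSC α) (facSplitting α)
  have h1 : QuasiIso (tensL T F (facι α)) :=
    quasiIso_f_of_acyclic _ hS (acyclic_tens_of_isKFl_of_acyclic T s hres
      (isKFl_facSC_X₃ T α hP hQ) (facSC_acyclic α hα) F)
  have h2 : QuasiIso (tensL T F (facπ P Q)) :=
    (tensLHomotopyEquiv T F (facEquiv P Q)).quasiIso_hom
  have : tensL T F α = tensL T F (facι α) ≫ tensL T F (facπ P Q) := by
    rw [← tensL_comp, facι_facπ]
  rw [this]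
  infer_instance

end Groth.Agent.Helper29.KFS
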