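import Mathlib
import Groth.Prelude.Def_KFlatSite
import Groth.Agent.Lib.Helper29.KFS9
import Groth.Agent.Lib.Helper29.KFS8

/-!
# K-flat complexes on a ringed site: quasi-isomorphisms of K-flat complexes and tensor products
-/

set_option autoImplicit false
set_option linter.unusedSectionVars false
set_option linter.unusedVariables false

universe u

open CategoryTheory CategoryTheory.Limits HomologicalComplex MonoidalCategory

namespace Groth.Agent.Helper29.KFS

open Groth.Agent.Helper5.KFA Groth.Agent.Helper5.CXB Groth.Agent.Helper17.MT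

variable {C : Type u} [SmallCategory C] {J : GrothendieckTopology C} (O : Sheaf J CommRingCat.{u})

/-- the symmetry of the tensor product of sheaves of modules -/
noncomputable def symTensorBi : Sym (ModSite.tensorBi O) where
  σ A B := (shf O).mapIso (β_ ((fgt O).obj A) ((fgt O).obj B))
  nat_left {A A'} f B := by
    change (shf O).map ((fgt O).map f ▷ (fgt O).obj B) ≫ (shf O).map (β_ _ _).hom =
      (shf O).map (β_ _ _).hom ≫ (shf O).map ((fgt O).obj B ◁ (fgt O).map f)
    rw [← Functor.map_comp, ← Functor.map_comp, BraidedCategory.braiding_naturality_left]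
  nat_right A {B B'} g := by
    change (shf O).map ((fgt O).obj A ◁ (fgt O).map g) ≫ (shf O).map (β_ _ _).hom =
      (shf O).map (β_ _ _).hom ≫ (shf O).map ((fgt O).map g ▷ (fgt O).obj A)
    rw [← Functor.map_comp, ← Functor.map_comp, BraidedCategory.braiding_naturality_right]
  symm A B := by
    change (shf O).map (β_ _ _).hom ≫ (shf O).map (β_ _ _).hom = 𝟙 _
    rw [← Functor.map_comp, SymmetricCategory.symmetry, CategoryTheory.Functor.map_id]

variable {O}

lemma hres_site (G : CochainComplex (ModSite.Mod O) ℤ) :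
    ∃ (M : CochainComplex (ModSite.Mod O) ℤ) (q : M ⟶ G),
      IsKFl (ModSite.tensorBi O) M ∧ QuasiIso q := by
  obtain ⟨K, q, hK, -, hq, -⟩ := main9060 G
  exact ⟨K, q, hK, hq⟩

theorem main9051 (P Q : CochainComplex (ModSite.Mod O) ℤ) (hP : ModSite.IsKFlat P)
    (hQ : ModSite.IsKFlat Q) (α : P ⟶ Q) (hα : QuasiIso α)
    (F : CochainComplex (ModSite.Mod O) ℤ) : QuasiIso (tensL (ModSite.tensorBi O) F α) :=
  quasiIso_tensL_of_isKFl (ModSite.tensorBi O) (symTensorBi O) hres_site hP hQ α hα F

theorem acyclic_tens_of_isKFlat_of_acyclic {K : CochainComplex (ModSite.Mod O) ℤ}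
    (hK : ModSite.IsKFlat K) (hKa : ∀ i, IsZero (K.homology i))
    (F : CochainComplex (ModSite.Mod O) ℤ) :
    ∀ i, IsZero ((tens (ModSite.tensorBi O) F K).homology i) :=
  acyclic_tens_of_isKFl_of_acyclic (ModSite.tensorBi O) (symTensorBi O) hres_site hK hKa F

end Groth.Agent.Helper29.KFS
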