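import Mathlib
import Groth.Prelude.Def_KFlatSite
import Groth.Agent.Lib.Helper29.KFS10
import Groth.Agent.Lib.Helper17.MT21

/-!
# K-flat acyclic complexes with flat terms have flat cycles
-/

set_option autoImplicit false
set_option linter.unusedSectionVars false
set_option linter.unusedVariables false

universe u

open CategoryTheory CategoryTheory.Limits HomologicalComplex MonoidalCategory

namespace Groth.Agent.Helper29.KFS

open Groth.Agent.Helper5.KFA Groth.Agent.Helper5.CXB Groth.Agent.Helper17.MT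

section Abstract

variable {𝒜 ℬ : Type*} [Category 𝒜] [Category ℬ] [Abelian 𝒜] [Abelian ℬ] (T' : 𝒜 ⥤ ℬ)
  [T'.Additive] [PreservesFiniteColimits T'] {ι : Type*} {c : ComplexShape ι}
  (K : HomologicalComplex 𝒜 c)

/-- if `K` is exact at `j` and `T' K` is exact at the previous index, then `T'` keeps the
inclusion of the `j`-cycles a monomorphism -/
theorem mono_map_iCycles (h i j : ι) (hh : c.prev i = h) (hi : c.prev j = i) (hj : c.next i = j)
    (hK : K.ExactAt j) (hTK : ((T'.mapHomologicalComplex c).obj K).ExactAt i) :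
    Mono (T'.map (K.iCycles j)) := by
  have hepi : Epi (K.toCycles i j) := by
    subst hi
    exact (K.sc j).exact_iff_epi_toCycles.1 hK
  have hepi' : Epi (T'.map (K.toCycles i j)) := inferInstance
  apply Preadditive.mono_of_cancel_zero
  intro W x hx
  obtain ⟨A', π, hπ, y, fac⟩ := surjective_up_to_refinements_of_epi (T'.map (K.toCycles i j)) x
  have hy : y ≫ ((T'.mapHomologicalComplex c).obj K).d i j = 0 := by
    change y ≫ T'.map (K.d i j) = 0
    rw [← K.toCycles_i i j, T'.map_comp, ← Category.assoc, ← fac, Category.assoc, hx, comp_zero]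
  obtain ⟨A'', π', hπ', z, fac'⟩ : ∃ (A'' : ℬ) (π' : A'' ⟶ A') (_ : Epi π')
      (z : A'' ⟶ T'.obj (K.X h)), π' ≫ y = z ≫ T'.map (K.d h i) :=
    (exactAt_iff_exact_up_to_refinements ((T'.mapHomologicalComplex c).obj K) h i j hh hj).1
      hTK y hy
  have hz : (π' ≫ π) ≫ x = 0 := by
    rw [Category.assoc, fac, ← Category.assoc, fac', Category.assoc, ← T'.map_comp,
      K.d_toCycles, T'.map_zero, comp_zero]
  haveI : Epi (π' ≫ π) := epi_comp _ _
  rw [← cancel_epi (π' ≫ π), hz, comp_zero]

end Abstract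

variable {C : Type u} [SmallCategory C] {J : GrothendieckTopology C} {O : Sheaf J CommRingCat.{u}}

/-- for a K-flat acyclic complex `K`, the complex `K ⊗ G` is acyclic for every module `G` -/
theorem acyclic_TR_map_of_isKFlat_of_acyclic {K : CochainComplex (ModSite.Mod O) ℤ}
    (hK : ModSite.IsKFlat K) (hKa : ∀ i, IsZero (K.homology i)) (G : ModSite.Mod O) (i : ℤ) :
    IsZero ((((TR O G).mapHomologicalComplex (ComplexShape.up ℤ)).obj K).homology i) := by
  have h1 := acyclic_tens_of_isKFlat_of_acyclic hK hKa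
    ((single (ModSite.Mod O) (ComplexShape.up ℤ) 0).obj G) i
  have e1 := (symTensorBi O).β ((single (ModSite.Mod O) (ComplexShape.up ℤ) 0).obj G) K
  have e2 := singleTotIso (ModSite.tensorBi O) K G
  exact h1.of_iso ((HomologicalComplex.homologyFunctor _ _ i).mapIso (e2 ≪≫ e1.symm))

theorem main9052 (K : CochainComplex (ModSite.Mod O) ℤ) (hK : ModSite.IsKFlat K)
    (hKa : ∀ i, IsZero (K.homology i)) (hfl : ∀ i : ℤ, ModSite.IsFlat (K.X i)) (n : ℤ) :
    ModSite.IsFlat (K.cycles n) := by
  have hA : ∀ G : ModSite.Mod O, Mono ((TR O G).map (K.iCycles n)) := fun G =>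
    mono_map_iCycles (TR O G) K (n - 1 - 1) (n - 1) n (by simp) (by simp) (by simp)
      ((exactAt_iff_isZero_homology _ _).2 (hKa n))
      ((exactAt_iff_isZero_homology _ _).2 (acyclic_TR_map_of_isKFlat_of_acyclic hK hKa G (n - 1)))
  have hA' : ∀ G : ModSite.Mod O, Mono ((TL O G).map (K.iCycles n)) := by
    intro G
    have h1 := hA G
    have h2 := (TLIsoTR O G).hom.naturality (K.iCycles n)
    have h3 : Mono ((TL O G).map (K.iCycles n) ≫ (TLIsoTR O G).hom.app (K.X n)) := by
      rw [h2]
      exact mono_comp _ _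
    exact mono_of_mono _ ((TLIsoTR O G).hom.app (K.X n))
  apply isFlat_of_preservesMono
  intro X Y m hm
  have e : (TR O (K.cycles n)).map m ≫ (TL O Y).map (K.iCycles n) =
      (TL O X).map (K.iCycles n) ≫ (TR O (K.X n)).map m :=
    (((ModSite.tensorBi O).map m).naturality (K.iCycles n)).symm
  have h1 := hA' X
  have h2 := mono_TR_map_of_mono O (hfl n) m
  have h3 : Mono ((TR O (K.cycles n)).map m ≫ (TL O Y).map (K.iCycles n)) := by
    rw [e]
    exact mono_comp _ _
  exact mono_of_mono _ ((TL O Y).map (K.iCycles n))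

end Groth.Agent.Helper29.KFS
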