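import Mathlib
import Groth.Prelude.Def_KFlatSite
import Groth.Agent.Lib.Helper29.KFS10
import Groth.Agent.Lib.Helper5.CXA3

/-!
# The associator of the tensor product of sheaves of modules on a ringed site, and of complexes
-/

set_option autoImplicit false
set_option linter.unusedSectionVars false
set_option linter.unusedVariables false

universe u

open CategoryTheory CategoryTheory.Limits HomologicalComplex MonoidalCategory

namespace Groth.Agent.Helper29.KFS

open Groth.Agent.Helper5.KFA Groth.Agent.Helper5.CXA Groth.Agent.Helper17.MT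

variable {C : Type u} [SmallCategory C] {J : GrothendieckTopology C} {O : Sheaf J CommRingCat.{u}}

section Assoc

variable {L L' M M' N N' : ModSite.Mod O}

/-- the underlying morphism of presheaves of modules -/
noncomputable abbrev pm {A B : ModSite.Mod O} (f : A ⟶ B) : (fgt O).obj A ⟶ (fgt O).obj B :=
  (fgt O).map f

/-- the tensor product of two morphisms of sheaves of modules -/
noncomputable abbrev tmap (f : L ⟶ L') (g : M ⟶ M') :
    ((ModSite.tensorBi O).obj L).obj M ⟶ ((ModSite.tensorBi O).obj L').obj M' :=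
  (shf O).map (pm f ⊗ₘ pm g)

lemma tensorBi_obj_map (L : ModSite.Mod O) (g : M ⟶ M') :
    ((ModSite.tensorBi O).obj L).map g = tmap (𝟙 L) g := by
  change (shf O).map ((fgt O).obj L ◁ (fgt O).map g) = (shf O).map (pm (𝟙 L) ⊗ₘ pm g)
  rw [show pm (𝟙 L) = 𝟙 ((fgt O).obj L) from (fgt O).map_id L, MonoidalCategory.id_tensorHom]

lemma tensorBi_map_app (f : L ⟶ L') (M : ModSite.Mod O) :
    ((ModSite.tensorBi O).map f).app M = tmap f (𝟙 M) := by
  change (shf O).map ((fgt O).map f ▷ (fgt O).obj M) = (shf O).map (pm f ⊗ₘ pm (𝟙 M))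
  rw [show pm (𝟙 M) = 𝟙 ((fgt O).obj M) from (fgt O).map_id M, MonoidalCategory.tensorHom_id]

lemma tmap_id (L M : ModSite.Mod O) : tmap (𝟙 L) (𝟙 M) = 𝟙 _ := by
  change (shf O).map (pm (𝟙 L) ⊗ₘ pm (𝟙 M)) = 𝟙 _
  rw [show pm (𝟙 L) = 𝟙 ((fgt O).obj L) from (fgt O).map_id L,
    show pm (𝟙 M) = 𝟙 ((fgt O).obj M) from (fgt O).map_id M, MonoidalCategory.id_tensorHom_id,
    CategoryTheory.Functor.map_id]

/-- the unit `fgt L ⊗ fgt M ⟶ fgt (L ⊗ M)` -/
noncomputable abbrev η' (L M : ModSite.Mod O) :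
    (fgt O).obj L ⊗ (fgt O).obj M ⟶ (fgt O).obj (((ModSite.tensorBi O).obj L).obj M) :=
  η O ((fgt O).obj L ⊗ (fgt O).obj M)

lemma η'_naturality (f : L ⟶ L') (g : M ⟶ M') :
    η' L M ≫ pm (tmap f g) = (pm f ⊗ₘ pm g) ≫ η' L' M' :=
  (η_naturality O (pm f ⊗ₘ pm g)).symm

/-- `a((L ⊗ M) ⊗ N) ⟶ (L ⊗ M) ⊗ N` for the presheaf tensor products inside -/
noncomputable def assocA (L M N : ModSite.Mod O) :
    (shf O).obj (((fgt O).obj L ⊗ (fgt O).obj M) ⊗ (fgt O).obj N) ⟶
      ((ModSite.tensorBi O).obj (((ModSite.tensorBi O).obj L).obj M)).obj N :=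
  (shf O).map (η' L M ⊗ₘ 𝟙 ((fgt O).obj N))

instance (L M N : ModSite.Mod O) : IsIso (assocA L M N) := by
  unfold assocA
  rw [MonoidalCategory.tensorHom_id]
  exact isIso_sheafify_whiskerRight O (η O _) _

/-- `a(L ⊗ (M ⊗ N)) ⟶ L ⊗ (M ⊗ N)` for the presheaf tensor products inside -/
noncomputable def assocB (L M N : ModSite.Mod O) :
    (shf O).obj ((fgt O).obj L ⊗ ((fgt O).obj M ⊗ (fgt O).obj N)) ⟶
      ((ModSite.tensorBi O).obj L).obj (((ModSite.tensorBi O).obj M).obj N) :=
  (shf O).map (𝟙 ((fgt O).obj L) ⊗ₘ η' M N)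

instance (L M N : ModSite.Mod O) : IsIso (assocB L M N) := by
  unfold assocB
  rw [MonoidalCategory.id_tensorHom]
  exact isIso_sheafify_whiskerLeft O _ (η O _)

/-- the associator of the tensor product of sheaves of modules -/
noncomputable def assoc (L M N : ModSite.Mod O) :
    ((ModSite.tensorBi O).obj (((ModSite.tensorBi O).obj L).obj M)).obj N ≅
      ((ModSite.tensorBi O).obj L).obj (((ModSite.tensorBi O).obj M).obj N) :=
  (asIso (assocA L M N)).symm ≪≫
    (shf O).mapIso (α_ ((fgt O).obj L) ((fgt O).obj M) ((fgt O).obj N)) ≪≫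
    asIso (assocB L M N)

lemma assocA_naturality (f : L ⟶ L') (g : M ⟶ M') (h : N ⟶ N') :
    assocA L M N ≫ tmap (tmap f g) h =
      (shf O).map ((pm f ⊗ₘ pm g) ⊗ₘ pm h) ≫ assocA L' M' N' := by
  have key : (η' L M ⊗ₘ 𝟙 ((fgt O).obj N)) ≫ (pm (tmap f g) ⊗ₘ pm h) =
      ((pm f ⊗ₘ pm g) ⊗ₘ pm h) ≫ (η' L' M' ⊗ₘ 𝟙 ((fgt O).obj N')) := by
    rw [MonoidalCategory.tensorHom_comp_tensorHom, MonoidalCategory.tensorHom_comp_tensorHom,
      η'_naturality, Category.id_comp, Category.comp_id]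
  exact ((shf O).map_comp _ _).symm.trans
    ((congrArg (fun x => (shf O).map x) key).trans ((shf O).map_comp _ _))

lemma assocB_naturality (f : L ⟶ L') (g : M ⟶ M') (h : N ⟶ N') :
    assocB L M N ≫ tmap f (tmap g h) =
      (shf O).map (pm f ⊗ₘ (pm g ⊗ₘ pm h)) ≫ assocB L' M' N' := by
  have key : (𝟙 ((fgt O).obj L) ⊗ₘ η' M N) ≫ (pm f ⊗ₘ pm (tmap g h)) =
      (pm f ⊗ₘ (pm g ⊗ₘ pm h)) ≫ (𝟙 ((fgt O).obj L') ⊗ₘ η' M' N') := by
    rw [MonoidalCategory.tensorHom_comp_tensorHom, MonoidalCategory.tensorHom_comp_tensorHom,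
      η'_naturality, Category.id_comp, Category.comp_id]
  exact ((shf O).map_comp _ _).symm.trans
    ((congrArg (fun x => (shf O).map x) key).trans ((shf O).map_comp _ _))

lemma assoc_hom_eq (L M N : ModSite.Mod O) :
    (assoc L M N).hom = inv (assocA L M N) ≫
      (shf O).map (α_ ((fgt O).obj L) ((fgt O).obj M) ((fgt O).obj N)).hom ≫ assocB L M N := rfl

/-- naturality of the associator in all three variables -/
theorem assoc_naturality (f : L ⟶ L') (g : M ⟶ M') (h : N ⟶ N') :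
    tmap (tmap f g) h ≫ (assoc L' M' N').hom = (assoc L M N).hom ≫ tmap f (tmap g h) := by
  rw [assoc_hom_eq, assoc_hom_eq, Category.assoc, Category.assoc, assocB_naturality,
    ← cancel_epi (assocA L M N), IsIso.hom_inv_id_assoc, ← Category.assoc,
    assocA_naturality, Category.assoc, IsIso.hom_inv_id_assoc]
  have key := MonoidalCategory.associator_naturality (pm f) (pm g) (pm h)
  have key2 : (shf O).map ((pm f ⊗ₘ pm g) ⊗ₘ pm h) ≫
      (shf O).map (α_ ((fgt O).obj L') ((fgt O).obj M') ((fgt O).obj N')).hom =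
      (shf O).map (α_ ((fgt O).obj L) ((fgt O).obj M) ((fgt O).obj N)).hom ≫
        (shf O).map (pm f ⊗ₘ (pm g ⊗ₘ pm h)) :=
    ((shf O).map_comp _ _).symm.trans
      ((congrArg (fun x => (shf O).map x) key).trans ((shf O).map_comp _ _))
  rw [← Category.assoc, key2, Category.assoc]

lemma assoc_nat₃ (L M : ModSite.Mod O) {N N' : ModSite.Mod O} (h : N ⟶ N') :
    ((ModSite.tensorBi O).obj (((ModSite.tensorBi O).obj L).obj M)).map h ≫ (assoc L M N').hom =
      (assoc L M N).hom ≫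
        ((ModSite.tensorBi O).obj L).map (((ModSite.tensorBi O).obj M).map h) := by
  have e1 : ((ModSite.tensorBi O).obj (((ModSite.tensorBi O).obj L).obj M)).map h =
      tmap (tmap (𝟙 L) (𝟙 M)) h := by
    rw [tmap_id]
    exact tensorBi_obj_map _ h
  have e2 : ((ModSite.tensorBi O).obj L).map (((ModSite.tensorBi O).obj M).map h) =
      tmap (𝟙 L) (tmap (𝟙 M) h) :=
    (tensorBi_obj_map L _).trans (congrArg (fun a => tmap (𝟙 L) a) (tensorBi_obj_map M h))
  rw [e1, e2]
  exact assoc_naturality (𝟙 L) (𝟙 M) h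

lemma assoc_nat₂ (L : ModSite.Mod O) {M M' : ModSite.Mod O} (g : M ⟶ M') (N : ModSite.Mod O) :
    ((ModSite.tensorBi O).map (((ModSite.tensorBi O).obj L).map g)).app N ≫
        (assoc L M' N).hom =
      (assoc L M N).hom ≫
        ((ModSite.tensorBi O).obj L).map (((ModSite.tensorBi O).map g).app N) := by
  have e1 : ((ModSite.tensorBi O).map (((ModSite.tensorBi O).obj L).map g)).app N =
      tmap (tmap (𝟙 L) g) (𝟙 N) :=
    (tensorBi_map_app _ N).trans (congrArg (fun a => tmap a (𝟙 N)) (tensorBi_obj_map L g))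
  have e2 : ((ModSite.tensorBi O).obj L).map (((ModSite.tensorBi O).map g).app N) =
      tmap (𝟙 L) (tmap g (𝟙 N)) :=
    (tensorBi_obj_map L _).trans (congrArg (fun a => tmap (𝟙 L) a) (tensorBi_map_app g N))
  rw [e1, e2]
  exact assoc_naturality (𝟙 L) g (𝟙 N)

lemma assoc_nat₁ {L L' : ModSite.Mod O} (f : L ⟶ L') (M N : ModSite.Mod O) :
    ((ModSite.tensorBi O).map (((ModSite.tensorBi O).map f).app M)).app N ≫
        (assoc L' M N).hom =
      (assoc L M N).hom ≫
        ((ModSite.tensorBi O).map f).app (((ModSite.tensorBi O).obj M).obj N) := by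
  have e1 : ((ModSite.tensorBi O).map (((ModSite.tensorBi O).map f).app M)).app N =
      tmap (tmap f (𝟙 M)) (𝟙 N) :=
    (tensorBi_map_app _ N).trans (congrArg (fun a => tmap a (𝟙 N)) (tensorBi_map_app f M))
  have e2 : ((ModSite.tensorBi O).map f).app (((ModSite.tensorBi O).obj M).obj N) =
      tmap f (tmap (𝟙 M) (𝟙 N)) := by
    rw [tmap_id]
    exact tensorBi_map_app f _
  rw [e1, e2]
  exact assoc_naturality f (𝟙 M) (𝟙 N)

variable (O)

/-- the associator, natural in the third variable -/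
noncomputable def assocTri₃ (L M : ModSite.Mod O) :
    ((bifunctorComp₁₂ (ModSite.tensorBi O) (ModSite.tensorBi O)).obj L).obj M ≅
      ((bifunctorComp₂₃ (ModSite.tensorBi O) (ModSite.tensorBi O)).obj L).obj M :=
  NatIso.ofComponents (fun N => assoc L M N) (fun {N N'} h => assoc_nat₃ L M h)

/-- the associator, natural in the second and third variables -/
noncomputable def assocTri₂ (L : ModSite.Mod O) :
    (bifunctorComp₁₂ (ModSite.tensorBi O) (ModSite.tensorBi O)).obj L ≅
      (bifunctorComp₂₃ (ModSite.tensorBi O) (ModSite.tensorBi O)).obj L :=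
  NatIso.ofComponents (fun M => assocTri₃ O L M) (fun {M M'} g => by
    apply NatTrans.ext
    funext N
    exact assoc_nat₂ L g N)

/-- the associator as an isomorphism of trifunctors -/
noncomputable def assocTri :
    bifunctorComp₁₂ (ModSite.tensorBi O) (ModSite.tensorBi O) ≅
      bifunctorComp₂₃ (ModSite.tensorBi O) (ModSite.tensorBi O) :=
  NatIso.ofComponents (fun L => assocTri₂ O L) (fun {L L'} f => by
    apply NatTrans.ext
    funext M
    apply NatTrans.ext
    funext N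
    exact assoc_nat₁ f M N)

end Assoc

section Cx

variable (O)

instance preservesColimits_flip_obj (Y : ModSite.Mod O) :
    PreservesColimitsOfSize.{0, 0} ((ModSite.tensorBi O).flip.obj Y) :=
  haveI : PreservesColimitsOfSize.{u, u} ((ModSite.tensorBi O).flip.obj Y) :=
    Groth.Agent.Helper17.MT.preservesColimits_TR O Y
  preservesColimitsOfSize_shrink.{0, u, 0, u} _

instance preservesColimits_obj (Y : ModSite.Mod O) :
    PreservesColimitsOfSize.{0, 0} ((ModSite.tensorBi O).obj Y) :=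
  haveI : PreservesColimitsOfSize.{u, u} ((ModSite.tensorBi O).obj Y) :=
    Groth.Agent.Helper17.MT.preservesColimits_TL O Y
  preservesColimitsOfSize_shrink.{0, u, 0, u} _

instance hasGood₁₂ (K₁ K₂ K₃ : CochainComplex (ModSite.Mod O) ℤ) :
    HasGoodTrifunctor₁₂Obj (ModSite.tensorBi O) (ModSite.tensorBi O) K₁ K₂ K₃
      (ComplexShape.up ℤ) (ComplexShape.up ℤ) :=
  fun _ _ => inferInstance

instance hasGood₂₃ (K₁ K₂ K₃ : CochainComplex (ModSite.Mod O) ℤ) :
    HasGoodTrifunctor₂₃Obj (ModSite.tensorBi O) (ModSite.tensorBi O) K₁ K₂ K₃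
      (ComplexShape.up ℤ) (ComplexShape.up ℤ) (ComplexShape.up ℤ) :=
  fun _ _ => inferInstance

/-- the associator `(K₁ ⊗ K₂) ⊗ K₃ ≅ K₁ ⊗ (K₂ ⊗ K₃)` of complexes of modules -/
noncomputable def assocCx (K₁ K₂ K₃ : CochainComplex (ModSite.Mod O) ℤ) :
    tens (ModSite.tensorBi O) (tens (ModSite.tensorBi O) K₁ K₂) K₃ ≅
      tens (ModSite.tensorBi O) K₁ (tens (ModSite.tensorBi O) K₂ K₃) :=
  mapBifunctorAssociator (assocTri O) K₁ K₂ K₃
    (ComplexShape.up ℤ) (ComplexShape.up ℤ) (ComplexShape.up ℤ)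

variable {O}

theorem main9055 (K L : CochainComplex (ModSite.Mod O) ℤ) (hK : ModSite.IsKFlat K)
    (hL : ModSite.IsKFlat L) : ModSite.IsKFlat (tens (ModSite.tensorBi O) K L) := by
  intro F hF i
  have h1 : ∀ i, IsZero ((tens (ModSite.tensorBi O) F K).homology i) := hK F hF
  have h2 : ∀ i, IsZero ((tens (ModSite.tensorBi O) (tens (ModSite.tensorBi O) F K) L).homology i) :=
    hL _ h1
  exact (h2 i).of_iso ((HomologicalComplex.homologyFunctor _ _ i).mapIso (assocCx O F K L).symm)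

end Cx

end Groth.Agent.Helper29.KFS
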