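import Mathlib
import Groth.Agent.Lib.Helper5.KFAbs3

/-!
# Total complexes and projection-formula type isomorphisms (abstract)

If `F : 𝒜 ⥤ ℬ` and `R : ℬ ⥤ 𝒜` are additive functors with natural isomorphisms
`F (A ⊗ R B) ≅ F A ⊗' B`, and `F` preserves coproducts, then
`F (Tot (L ⊗ R K)) ≅ Tot (F L ⊗' K)` for complexes `L` in `𝒜` and `K` in `ℬ`.
-/

set_option autoImplicit false
set_option linter.unusedSectionVars false
set_option linter.unusedVariables false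

universe v' u' v u

open CategoryTheory CategoryTheory.Limits HomologicalComplex

namespace Groth.Agent.Helper29.KFS

open Groth.Agent.Helper5.KFA

variable {𝒜 : Type u} [Category.{v} 𝒜] [Abelian 𝒜] (T : 𝒜 ⥤ 𝒜 ⥤ 𝒜) [T.Additive]
  [∀ X, (T.obj X).Additive]
  [∀ (K₁ K₂ : CochainComplex 𝒜 ℤ),
    HomologicalComplex.HasMapBifunctor K₁ K₂ T (ComplexShape.up ℤ)]
  {ℬ : Type u'} [Category.{v'} ℬ] [Abelian ℬ] (T' : ℬ ⥤ ℬ ⥤ ℬ) [T'.Additive]
  [∀ X, (T'.obj X).Additive]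
  [∀ (K₁ K₂ : CochainComplex ℬ ℤ),
    HomologicalComplex.HasMapBifunctor K₁ K₂ T' (ComplexShape.up ℤ)]
  (F : 𝒜 ⥤ ℬ) [F.Additive] (R : ℬ ⥤ 𝒜) [R.Additive]

/-- a projection formula for the functors `F`, `R` and the bifunctors `T`, `T'` -/
structure ProjComm where
  μ : ∀ (A : 𝒜) (B : ℬ), F.obj ((T.obj A).obj (R.obj B)) ≅ (T'.obj (F.obj A)).obj B
  nat_left : ∀ {A A' : 𝒜} (f : A ⟶ A') (B : ℬ),
    F.map ((T.map f).app (R.obj B)) ≫ (μ A' B).hom = (μ A B).hom ≫ (T'.map (F.map f)).app B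
  nat_right : ∀ (A : 𝒜) {B B' : ℬ} (g : B ⟶ B'),
    F.map ((T.obj A).map (R.map g)) ≫ (μ A B').hom = (μ A B).hom ≫ (T'.obj (F.obj A)).map g

variable {T T' F R}

namespace ProjComm

variable (m : ProjComm T T' F R)

@[reassoc]
lemma nat_left_inv {A A' : 𝒜} (f : A ⟶ A') (B : ℬ) :
    (m.μ A B).inv ≫ F.map ((T.map f).app (R.obj B)) =
      (T'.map (F.map f)).app B ≫ (m.μ A' B).inv := by
  rw [Iso.inv_comp_eq, ← Category.assoc, Iso.eq_comp_inv, m.nat_left]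

@[reassoc]
lemma nat_right_inv (A : 𝒜) {B B' : ℬ} (g : B ⟶ B') :
    (m.μ A B).inv ≫ F.map ((T.obj A).map (R.map g)) =
      (T'.obj (F.obj A)).map g ≫ (m.μ A B').inv := by
  rw [Iso.inv_comp_eq, ← Category.assoc, Iso.eq_comp_inv, m.nat_right]

/-- the complex `F L` -/
noncomputable abbrev mapC' {𝒞 𝒟 : Type*} [Category 𝒞] [Category 𝒟] [Abelian 𝒞] [Abelian 𝒟]
    (G : 𝒞 ⥤ 𝒟) [G.Additive] (L : CochainComplex 𝒞 ℤ) : CochainComplex 𝒟 ℤ :=
  (G.mapHomologicalComplex (ComplexShape.up ℤ)).obj L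

/-- `μ` with the types expressed through `mapC'` -/
noncomputable def μC (L : CochainComplex 𝒜 ℤ) (K : CochainComplex ℬ ℤ) (p q : ℤ) :
    F.obj ((T.obj (L.X p)).obj ((mapC' R K).X q)) ≅ (T'.obj ((mapC' F L).X p)).obj (K.X q) :=
  m.μ (L.X p) (K.X q)

@[reassoc]
lemma μC_inv_d₁ (L : CochainComplex 𝒜 ℤ) (K : CochainComplex ℬ ℤ) (p p' q : ℤ) :
    (m.μC L K p q).inv ≫ F.map ((T.map (L.d p p')).app ((mapC' R K).X q)) =
      (T'.map ((mapC' F L).d p p')).app (K.X q) ≫ (m.μC L K p' q).inv :=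
  m.nat_left_inv (L.d p p') (K.X q)

@[reassoc]
lemma μC_inv_d₂ (L : CochainComplex 𝒜 ℤ) (K : CochainComplex ℬ ℤ) (p q q' : ℤ) :
    (m.μC L K p q).inv ≫ F.map ((T.obj (L.X p)).map ((mapC' R K).d q q')) =
      (T'.obj ((mapC' F L).X p)).map (K.d q q') ≫ (m.μC L K p q').inv :=
  m.nat_right_inv (L.X p) (K.d q q')

/-- `F` applied to the inclusion of a summand -/
noncomputable def Fι' (L : CochainComplex 𝒜 ℤ) (K : CochainComplex ℬ ℤ) (p q n : ℤ)
    (h : p + q = n) :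
    F.obj ((T.obj (L.X p)).obj ((mapC' R K).X q)) ⟶ (mapC' F (tens T L (mapC' R K))).X n :=
  F.map (ι T L (mapC' R K) p q n h)

@[reassoc]
lemma Fι'_d (L : CochainComplex 𝒜 ℤ) (K : CochainComplex ℬ ℤ) (p q n : ℤ) (hpq : p + q = n)
    (n' : ℤ) (hn : n + 1 = n') (p' q' : ℤ) (hp' : p + 1 = p') (hq' : q + 1 = q') :
    Fι' (T := T) (F := F) (R := R) L K p q n hpq ≫ (mapC' F (tens T L (mapC' R K))).d n n' =
      F.map ((T.map (L.d p p')).app ((mapC' R K).X q)) ≫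
        Fι' (T := T) (F := F) (R := R) L K p' q n' (by omega) +
      p.negOnePow • (F.map ((T.obj (L.X p)).map ((mapC' R K).d q q')) ≫
        Fι' (T := T) (F := F) (R := R) L K p q' n' (by omega)) := by
  change F.map (ι T L (mapC' R K) p q n hpq) ≫ F.map ((tens T L (mapC' R K)).d n n') = _
  rw [← F.map_comp, ι_d T L (mapC' R K) p q n hpq n' hn p' q' hp' hq', F.map_add, F.map_comp,
    Functor.map_units_smul, F.map_comp]
  rfl

/-- the comparison map in degree `n` -/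
noncomputable def Φ (L : CochainComplex 𝒜 ℤ) (K : CochainComplex ℬ ℤ) (n : ℤ) :
    (tens T' (mapC' F L) K).X n ⟶ (mapC' F (tens T L (mapC' R K))).X n :=
  mapBifunctorDesc (fun p q h => (m.μC L K p q).inv ≫
    Fι' (T := T) (F := F) (R := R) L K p q n h)

@[reassoc]
lemma ι_Φ (L : CochainComplex 𝒜 ℤ) (K : CochainComplex ℬ ℤ) (p q n : ℤ) (h : p + q = n) :
    ι T' (mapC' F L) K p q n h ≫ m.Φ L K n =
      (m.μC L K p q).inv ≫ Fι' (T := T) (F := F) (R := R) L K p q n h := by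
  unfold Φ ι
  exact ι_mapBifunctorDesc _ _ _ _

lemma Φ_d (L : CochainComplex 𝒜 ℤ) (K : CochainComplex ℬ ℤ) (n n' : ℤ) (hn : n + 1 = n') :
    m.Φ L K n ≫ (mapC' F (tens T L (mapC' R K))).d n n' =
      (tens T' (mapC' F L) K).d n n' ≫ m.Φ L K n' := by
  apply hom_ext'
  intro p q hpq
  rw [ι_Φ_assoc, Fι'_d L K p q n hpq n' hn (p + 1) (q + 1) rfl rfl,
    ι_d_assoc T' (mapC' F L) K p q n hpq n' hn (p + 1) (q + 1) rfl rfl]
  rw [Preadditive.comp_add, Preadditive.add_comp]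
  congr 1
  · rw [Category.assoc, ι_Φ, m.μC_inv_d₁_assoc]
  · rw [Linear.units_smul_comp, Category.assoc, ι_Φ,
      Linear.comp_units_smul, m.μC_inv_d₂_assoc]

/-- the comparison morphism of complexes -/
noncomputable def ΦC (L : CochainComplex 𝒜 ℤ) (K : CochainComplex ℬ ℤ) :
    tens T' (mapC' F L) K ⟶ mapC' F (tens T L (mapC' R K)) where
  f n := m.Φ L K n
  comm' n n' h := m.Φ_d L K n n' h

section Iso

variable [∀ I : Type, PreservesColimitsOfShape (Discrete I) F]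

/-- the image under `F` of the coproduct cofan is a colimit -/
noncomputable def isColimitF (L : CochainComplex 𝒜 ℤ) (K : CochainComplex ℬ ℤ) (n : ℤ) :
    IsColimit (Cofan.mk ((mapC' F (tens T L (mapC' R K))).X n)
      (fun i : Groth.Agent.Helper5.KFA.BiComm.Idx n =>
        Fι' (T := T) (F := F) (R := R) L K i.1.1 i.1.2 n i.sum)) :=
  isColimitCofanMkObjOfIsColimit F _
    (fun i : Groth.Agent.Helper5.KFA.BiComm.Idx n =>
      (Groth.Agent.Helper5.KFA.BiComm.gr (T := T) L (mapC' R K)).ιMapObj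
      (ComplexShape.π (ComplexShape.up ℤ) (ComplexShape.up ℤ) (ComplexShape.up ℤ)) i.1 n i.2)
    ((Groth.Agent.Helper5.KFA.BiComm.gr (T := T) L (mapC' R K)).isColimitCofanMapObj
      (ComplexShape.π (ComplexShape.up ℤ) (ComplexShape.up ℤ) (ComplexShape.up ℤ)) n)

/-- the inverse comparison map -/
noncomputable def Ψ (L : CochainComplex 𝒜 ℤ) (K : CochainComplex ℬ ℤ) (n : ℤ) :
    (mapC' F (tens T L (mapC' R K))).X n ⟶ (tens T' (mapC' F L) K).X n :=
  Cofan.IsColimit.desc (isColimitF (T := T) (F := F) (R := R) L K n)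
    (fun i : Groth.Agent.Helper5.KFA.BiComm.Idx n =>
      (m.μC L K i.1.1 i.1.2).hom ≫ ι T' (mapC' F L) K i.1.1 i.1.2 n i.sum)

@[reassoc]
lemma Fι'_Ψ (L : CochainComplex 𝒜 ℤ) (K : CochainComplex ℬ ℤ) (p q n : ℤ) (h : p + q = n) :
    Fι' (T := T) (F := F) (R := R) L K p q n h ≫ m.Ψ L K n =
      (m.μC L K p q).hom ≫ ι T' (mapC' F L) K p q n h :=
  Cofan.IsColimit.fac (isColimitF (T := T) (F := F) (R := R) L K n) _
    (⟨(p, q), h⟩ : Groth.Agent.Helper5.KFA.BiComm.Idx n)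

lemma Φ_Ψ (L : CochainComplex 𝒜 ℤ) (K : CochainComplex ℬ ℤ) (n : ℤ) :
    m.Φ L K n ≫ m.Ψ L K n = 𝟙 _ := by
  apply hom_ext'
  intro p q h
  rw [ι_Φ_assoc, Fι'_Ψ, Iso.inv_hom_id_assoc, Category.comp_id]

lemma Ψ_Φ (L : CochainComplex 𝒜 ℤ) (K : CochainComplex ℬ ℤ) (n : ℤ) :
    m.Ψ L K n ≫ m.Φ L K n = 𝟙 _ := by
  apply Cofan.IsColimit.hom_ext (isColimitF (T := T) (F := F) (R := R) L K n)
  intro i
  change Fι' (T := T) (F := F) (R := R) L K i.1.1 i.1.2 n i.sum ≫ m.Ψ L K n ≫ m.Φ L K n =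
    Fι' (T := T) (F := F) (R := R) L K i.1.1 i.1.2 n i.sum ≫ 𝟙 _
  rw [Fι'_Ψ_assoc, ι_Φ, Iso.hom_inv_id_assoc, Category.comp_id]

instance (L : CochainComplex 𝒜 ℤ) (K : CochainComplex ℬ ℤ) (n : ℤ) : IsIso (m.Φ L K n) :=
  ⟨m.Ψ L K n, m.Φ_Ψ L K n, m.Ψ_Φ L K n⟩

instance (L : CochainComplex 𝒜 ℤ) (K : CochainComplex ℬ ℤ) : IsIso (m.ΦC L K) := by
  have : ∀ n : ℤ, IsIso ((m.ΦC L K).f n) := by
    intro n
    change IsIso (m.Φ L K n)
    infer_instance
  exact HomologicalComplex.Hom.isIso_of_components (m.ΦC L K)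

/-- the comparison isomorphism of complexes -/
noncomputable def tensIso (L : CochainComplex 𝒜 ℤ) (K : CochainComplex ℬ ℤ) :
    tens T' (mapC' F L) K ≅ mapC' F (tens T L (mapC' R K)) :=
  asIso (m.ΦC L K)

end Iso

end ProjComm

/-- an exact faithful additive functor reflects acyclicity of complexes -/
theorem acyclic_of_map_acyclic (F : 𝒜 ⥤ ℬ) [F.Additive] [PreservesFiniteLimits F]
    [PreservesFiniteColimits F] [F.Faithful] (L : CochainComplex 𝒜 ℤ)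
    (h : ∀ i, IsZero (((F.mapHomologicalComplex (ComplexShape.up ℤ)).obj L).homology i)) :
    ∀ i, IsZero (L.homology i) := by
  intro i
  rw [← HomologicalComplex.exactAt_iff_isZero_homology, HomologicalComplex.exactAt_iff]
  have h1 := (HomologicalComplex.exactAt_iff _ i).mp
    ((HomologicalComplex.exactAt_iff_isZero_homology _ i).mpr (h i))
  exact (ShortComplex.exact_map_iff_of_faithful (L.sc i) F).mp h1

end Groth.Agent.Helper29.KFS
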