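import Mathlib
import Groth.Prelude.Def_KFlatSite
import Groth.Agent.Lib.Helper29.KFS13
import Groth.Agent.Lib.Helper29.KFS2
import Groth.Agent.Lib.Helper17.MT20
import Groth.Agent.Lib.Helper17.MT21

/-!
# The projection formula for extension by zero, bifunctorially; restriction of K-flat complexes
-/

set_option autoImplicit false
set_option linter.unusedSectionVars false
set_option linter.unusedVariables false

universe u

open CategoryTheory CategoryTheory.Limits HomologicalComplex MonoidalCategory

namespace Groth.Agent.Helper29.KFS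

open Groth.Agent.Helper5.KFA Groth.Agent.Helper17.MT

variable {C : Type u} [SmallCategory C] {J : GrothendieckTopology C} (O : Sheaf J CommRingCat.{u})
  (U : C)

section PF

/-- the presheaf `fgt P ⊗ (fgt N)|_U` -/
noncomputable abbrev preT (P : ModSite.Mod (O.over U)) (N : ModSite.Mod O) : PSh (O.over U) :=
  (fgt (O.over U)).obj P ⊗ (rP O U).obj ((fgt O).obj N)

/-- `a j_! (P ⊗ N|_U)_pre ⟶ j_! (P ⊗ N|_U)` -/
noncomputable def pfA (P : ModSite.Mod (O.over U)) (N : ModSite.Mod O) :
    (shf O).obj ((eP O U).obj (preT O U P N)) ⟶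
      (eS O U).obj (((ModSite.tensorBi (O.over U)).obj P).obj ((ModSite.restr O U).obj N)) :=
  (shf O).map ((eP O U).map (η (O.over U) (preT O U P N)))

instance isIso_pfA (P : ModSite.Mod (O.over U)) (N : ModSite.Mod O) : IsIso (pfA O U P N) := by
  have h := (AIso O U).hom.naturality (η (O.over U) (preT O U P N))
  have h1 : IsIso ((shf (O.over U) ⋙ eS O U).map (η (O.over U) (preT O U P N))) := by
    change IsIso ((eS O U).map ((shf (O.over U)).map (η (O.over U) (preT O U P N))))
    infer_instance
  have h2 : (eP O U ⋙ shf O).map (η (O.over U) (preT O U P N)) =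
      (AIso O U).hom.app _ ≫ (shf (O.over U) ⋙ eS O U).map (η (O.over U) (preT O U P N)) ≫
        (AIso O U).inv.app _ := by
    rw [← Category.assoc, ← h, Category.assoc, Iso.hom_inv_id_app, Category.comp_id]
  change IsIso ((eP O U ⋙ shf O).map (η (O.over U) (preT O U P N)))
  rw [h2]
  infer_instance

/-- `a j_! (P ⊗ N|_U)_pre ⟶ a (j_! P ⊗ N)_pre` -/
noncomputable def pfB (P : ModSite.Mod (O.over U)) (N : ModSite.Mod O) :
    (shf O).obj ((eP O U).obj (preT O U P N)) ⟶
      (shf O).obj ((eP O U).obj ((fgt (O.over U)).obj P) ⊗ (fgt O).obj N) :=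
  (shf O).map (pfHom O U ((fgt (O.over U)).obj P) ((fgt O).obj N))

instance isIso_pfB (P : ModSite.Mod (O.over U)) (N : ModSite.Mod O) : IsIso (pfB O U P N) := by
  unfold pfB
  infer_instance

/-- `a (j_! P ⊗ N)_pre ⟶ j_! P ⊗ N` -/
noncomputable def pfC (P : ModSite.Mod (O.over U)) (N : ModSite.Mod O) :
    (shf O).obj ((eP O U).obj ((fgt (O.over U)).obj P) ⊗ (fgt O).obj N) ⟶
      ((ModSite.tensorBi O).obj ((eS O U).obj P)).obj N :=
  (shf O).map (η O ((eP O U).obj ((fgt (O.over U)).obj P)) ▷ (fgt O).obj N)

instance isIso_pfC (P : ModSite.Mod (O.over U)) (N : ModSite.Mod O) : IsIso (pfC O U P N) :=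
  isIso_sheafify_whiskerRight O (η O _) _

/-- the projection formula `j_!(P ⊗ N|_U) ≅ j_! P ⊗ N` -/
noncomputable def pfIso (P : ModSite.Mod (O.over U)) (N : ModSite.Mod O) :
    (eS O U).obj (((ModSite.tensorBi (O.over U)).obj P).obj ((ModSite.restr O U).obj N)) ≅
      ((ModSite.tensorBi O).obj ((eS O U).obj P)).obj N :=
  (asIso (pfA O U P N)).symm ≪≫ asIso (pfB O U P N) ≪≫ asIso (pfC O U P N)

lemma pfIso_hom (P : ModSite.Mod (O.over U)) (N : ModSite.Mod O) :
    (pfIso O U P N).hom = inv (pfA O U P N) ≫ pfB O U P N ≫ pfC O U P N := rfl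

variable {O U}

lemma pfA_naturality_left {P P' : ModSite.Mod (O.over U)} (f : P ⟶ P') (N : ModSite.Mod O) :
    pfA O U P N ≫ (eS O U).map (((ModSite.tensorBi (O.over U)).map f).app
        ((ModSite.restr O U).obj N)) =
      (shf O).map ((eP O U).map ((fgt (O.over U)).map f ▷ (rP O U).obj ((fgt O).obj N))) ≫
        pfA O U P' N := by
  have key := η_naturality (O.over U) ((fgt (O.over U)).map f ▷ (rP O U).obj ((fgt O).obj N))
  change (shf O).map ((eP O U).map (η (O.over U) (preT O U P N))) ≫
    (shf O).map ((eP O U).map ((fgt (O.over U)).map ((shf (O.over U)).map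
      ((fgt (O.over U)).map f ▷ (rP O U).obj ((fgt O).obj N))))) = _ ≫
    (shf O).map ((eP O U).map (η (O.over U) (preT O U P' N)))
  rw [← Functor.map_comp, ← Functor.map_comp, ← Functor.map_comp, ← Functor.map_comp]
  exact congrArg (fun x => (shf O).map ((eP O U).map x)) key.symm

lemma pfB_naturality_left {P P' : ModSite.Mod (O.over U)} (f : P ⟶ P') (N : ModSite.Mod O) :
    (shf O).map ((eP O U).map ((fgt (O.over U)).map f ▷ (rP O U).obj ((fgt O).obj N))) ≫
        pfB O U P' N =
      pfB O U P N ≫ (shf O).map ((eP O U).map ((fgt (O.over U)).map f) ▷ (fgt O).obj N) := by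
  unfold pfB
  rw [← Functor.map_comp, ← Functor.map_comp]
  exact congrArg (fun x => (shf O).map x)
    (pfHom_naturality_left O U ((fgt (O.over U)).map f) ((fgt O).obj N))

lemma pfC_naturality_left {P P' : ModSite.Mod (O.over U)} (f : P ⟶ P') (N : ModSite.Mod O) :
    (shf O).map ((eP O U).map ((fgt (O.over U)).map f) ▷ (fgt O).obj N) ≫ pfC O U P' N =
      pfC O U P N ≫ ((ModSite.tensorBi O).map ((eS O U).map f)).app N := by
  have key := η_naturality O ((eP O U).map ((fgt (O.over U)).map f))
  change _ ≫ (shf O).map (η O ((eP O U).obj ((fgt (O.over U)).obj P')) ▷ (fgt O).obj N) =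
    (shf O).map (η O ((eP O U).obj ((fgt (O.over U)).obj P)) ▷ (fgt O).obj N) ≫
      (shf O).map ((fgt O).map ((shf O).map ((eP O U).map ((fgt (O.over U)).map f))) ▷
        (fgt O).obj N)
  rw [← Functor.map_comp, ← Functor.map_comp, ← comp_whiskerRight, ← comp_whiskerRight, key]

theorem pfIso_naturality_left {P P' : ModSite.Mod (O.over U)} (f : P ⟶ P') (N : ModSite.Mod O) :
    (eS O U).map (((ModSite.tensorBi (O.over U)).map f).app ((ModSite.restr O U).obj N)) ≫
        (pfIso O U P' N).hom =
      (pfIso O U P N).hom ≫ ((ModSite.tensorBi O).map ((eS O U).map f)).app N := by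
  have hA := pfA_naturality_left f N
  have hB := pfB_naturality_left f N
  have hC := pfC_naturality_left f N
  rw [pfIso_hom, pfIso_hom, ← cancel_epi (pfA O U P N)]
  simp only [Category.assoc, IsIso.hom_inv_id_assoc]
  rw [reassoc_of% hA, IsIso.hom_inv_id_assoc, reassoc_of% hB, hC]

lemma pfA_naturality_right (P : ModSite.Mod (O.over U)) {N N' : ModSite.Mod O} (g : N ⟶ N') :
    pfA O U P N ≫ (eS O U).map (((ModSite.tensorBi (O.over U)).obj P).map
        ((ModSite.restr O U).map g)) =
      (shf O).map ((eP O U).map ((fgt (O.over U)).obj P ◁ (rP O U).map ((fgt O).map g))) ≫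
        pfA O U P N' := by
  have key := η_naturality (O.over U) ((fgt (O.over U)).obj P ◁ (rP O U).map ((fgt O).map g))
  change (shf O).map ((eP O U).map (η (O.over U) (preT O U P N))) ≫
    (shf O).map ((eP O U).map ((fgt (O.over U)).map ((shf (O.over U)).map
      ((fgt (O.over U)).obj P ◁ (rP O U).map ((fgt O).map g))))) = _ ≫
    (shf O).map ((eP O U).map (η (O.over U) (preT O U P N')))
  rw [← Functor.map_comp, ← Functor.map_comp, ← Functor.map_comp, ← Functor.map_comp]
  exact congrArg (fun x => (shf O).map ((eP O U).map x)) key.symm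

lemma pfB_naturality_right (P : ModSite.Mod (O.over U)) {N N' : ModSite.Mod O} (g : N ⟶ N') :
    (shf O).map ((eP O U).map ((fgt (O.over U)).obj P ◁ (rP O U).map ((fgt O).map g))) ≫
        pfB O U P N' =
      pfB O U P N ≫ (shf O).map ((eP O U).obj ((fgt (O.over U)).obj P) ◁ (fgt O).map g) := by
  unfold pfB
  rw [← Functor.map_comp, ← Functor.map_comp]
  exact congrArg (fun x => (shf O).map x)
    (pfHom_naturality_right O U ((fgt (O.over U)).obj P) ((fgt O).map g))

lemma pfC_naturality_right (P : ModSite.Mod (O.over U)) {N N' : ModSite.Mod O} (g : N ⟶ N') :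
    (shf O).map ((eP O U).obj ((fgt (O.over U)).obj P) ◁ (fgt O).map g) ≫ pfC O U P N' =
      pfC O U P N ≫ ((ModSite.tensorBi O).obj ((eS O U).obj P)).map g := by
  have key : (shf O).map ((eP O U).obj ((fgt (O.over U)).obj P) ◁ (fgt O).map g) ≫
      (shf O).map (η O ((eP O U).obj ((fgt (O.over U)).obj P)) ▷ (fgt O).obj N') =
    (shf O).map (η O ((eP O U).obj ((fgt (O.over U)).obj P)) ▷ (fgt O).obj N) ≫
      (shf O).map ((fgt O).obj ((shf O).obj ((eP O U).obj ((fgt (O.over U)).obj P))) ◁
        (fgt O).map g) := by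
    rw [← Functor.map_comp, ← Functor.map_comp, whisker_exchange]
  exact key

theorem pfIso_naturality_right (P : ModSite.Mod (O.over U)) {N N' : ModSite.Mod O} (g : N ⟶ N') :
    (eS O U).map (((ModSite.tensorBi (O.over U)).obj P).map ((ModSite.restr O U).map g)) ≫
        (pfIso O U P N').hom =
      (pfIso O U P N).hom ≫ ((ModSite.tensorBi O).obj ((eS O U).obj P)).map g := by
  have hA := pfA_naturality_right P g
  have hB := pfB_naturality_right P g
  have hC := pfC_naturality_right P g
  rw [pfIso_hom, pfIso_hom, ← cancel_epi (pfA O U P N)]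
  simp only [Category.assoc, IsIso.hom_inv_id_assoc]
  rw [reassoc_of% hA, IsIso.hom_inv_id_assoc, reassoc_of% hB, hC]

end PF

section Main

instance additive_eS : (eS O U).Additive := (eSAdj O U).left_adjoint_additive

instance preservesColimits_eS : PreservesColimitsOfSize.{0, 0} (eS O U) :=
  (eSAdj O U).leftAdjoint_preservesColimits

instance preservesFiniteColimits_eS : PreservesFiniteColimits (eS O U) :=
  PreservesColimitsOfSize.preservesFiniteColimits _

/-- the projection formula as a `ProjComm` structure -/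
noncomputable def projComm :
    ProjComm (ModSite.tensorBi (O.over U)) (ModSite.tensorBi O) (eS O U) (ModSite.restr O U) where
  μ P N := pfIso O U P N
  nat_left f N := pfIso_naturality_left f N
  nat_right P _ _ g := pfIso_naturality_right P g

variable {O}

theorem main9054 (K : CochainComplex (ModSite.Mod O) ℤ) (hK : ModSite.IsKFlat K) :
    ModSite.IsKFlat
      (((ModSite.restr O U).mapHomologicalComplex (ComplexShape.up ℤ)).obj K) := by
  intro G hG i
  have h1 : ∀ i, IsZero ((((eS O U).mapHomologicalComplex (ComplexShape.up ℤ)).obj G).homology i) :=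
    fun i => acyclic_map_of_exact (eS O U) G hG i
  have h2 := hK _ h1
  have e := (projComm O U).tensIso G K
  have h3 : ∀ i, IsZero ((((eS O U).mapHomologicalComplex (ComplexShape.up ℤ)).obj
      (tens (ModSite.tensorBi (O.over U)) G
        (((ModSite.restr O U).mapHomologicalComplex (ComplexShape.up ℤ)).obj K))).homology i) :=
    fun i => (h2 i).of_iso ((HomologicalComplex.homologyFunctor _ _ i).mapIso e.symm)
  exact acyclic_of_map_acyclic (eS O U) _ h3 i

end Main

end Groth.Agent.Helper29.KFS
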