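import Mathlib

namespace Groth.Agent.Helper29.KInjLimA

open CategoryTheory CategoryTheory.Limits Opposite CochainComplex HomComplex

universe u v
variable {A : Type u} [Category.{v} A] [Abelian A]

variable {K L M : CochainComplex A ℤ}

/-- existence of a null-homotopy cochain -/
lemma exists_cochain (hK : K.Acyclic) [M.IsKInjective] (g : K ⟶ M) :
    ∃ β : Cochain K M (-1), δ (-1) 0 β = Cochain.ofHom g := by
  obtain ⟨β, hβ⟩ := IsKInjective.eq_δ_of_cocycle (Cocycle.ofHom g) hK (-1) (by simp)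
  exact ⟨β, by simpa using hβ⟩

/-- one-step lifting -/
lemma step (hK : K.Acyclic) [L.IsKInjective] [M.IsKInjective] (t : M ⟶ L)
    (ht : ∀ m : ℤ, IsSplitEpi (t.f m))
    (g : K ⟶ M) (α : Cochain K L (-1))
    (hα : δ (-1) 0 α = Cochain.ofHom (g ≫ t)) :
    ∃ α' : Cochain K M (-1), δ (-1) 0 α' = Cochain.ofHom g ∧
      α'.comp (Cochain.ofHom t) (add_zero _) = α := by
  obtain ⟨β, hβ⟩ := exists_cochain hK g
  let γ : Cochain K L (-1) := α - β.comp (Cochain.ofHom t) (add_zero _)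
  have hγ : δ (-1) 0 γ = 0 := by
    simp only [γ, δ_sub, hα, δ_comp_ofHom, hβ, Cochain.ofHom_comp, sub_self]
  obtain ⟨κ, hκ⟩ := IsKInjective.eq_δ_of_cocycle (Cocycle.mk γ 0 (by simp) hγ) hK (-2) (by simp)
  let σ : Cochain L M 0 := Cochain.ofHoms (fun m => section_ (t.f m))
  have hσ : σ.comp (Cochain.ofHom t) (add_zero 0) = Cochain.ofHom (𝟙 L) := by
    ext m
    simp [σ]
  refine ⟨β + δ (-2) (-1) (κ.comp σ (add_zero _)), ?_, ?_⟩
  · rw [δ_add, δ_δ, add_zero, hβ]
  · rw [Cochain.add_comp, ← δ_comp_ofHom, Cochain.comp_assoc_of_third_is_zero_cochain, hσ,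
      Cochain.comp_id, hκ]
    simp [γ]

end Groth.Agent.Helper29.KInjLimA
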