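import Mathlib
import Groth.Agent.Lib.Helper29.KInjLimA

namespace Groth.Agent.Helper29.KInjLimB

open CategoryTheory CategoryTheory.Limits Opposite CochainComplex HomComplex
open Groth.Agent.Helper29.KInjLimA

universe u v
variable {A : Type u} [Category.{v} A] [Abelian A] [HasLimitsOfShape ℕᵒᵖ A]

variable (I : ℕᵒᵖ ⥤ CochainComplex A ℤ) {K : CochainComplex A ℤ}

/-- transition map -/
noncomputable abbrev tr (n : ℕ) : I.obj (op (n+1)) ⟶ I.obj (op n) :=
  I.map (homOfLE (Nat.le_succ n)).op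

/-- approximations -/
structure Approx (f : K ⟶ limit I) (n : ℕ) where
  α : Cochain K (I.obj (op n)) (-1)
  hα : δ (-1) 0 α = Cochain.ofHom (f ≫ limit.π I (op n))

variable {I}

lemma step' (hK : K.Acyclic) (h1 : ∀ n : ℕ, (I.obj (op n)).IsKInjective)
    (h2 : ∀ (n : ℕ) (m : ℤ), IsSplitEpi ((tr I n).f m)) (f : K ⟶ limit I) (n : ℕ)
    (a : Approx I f n) :
    ∃ α' : Cochain K (I.obj (op (n+1))) (-1),
      δ (-1) 0 α' = Cochain.ofHom (f ≫ limit.π I (op (n+1))) ∧
      α'.comp (Cochain.ofHom (tr I n)) (add_zero _) = a.α := by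
  have := h1 n
  have := h1 (n+1)
  refine step hK (tr I n) (h2 n) (f ≫ limit.π I (op (n+1))) a.α ?_
  rw [a.hα, Category.assoc, limit.w]

noncomputable def seq (hK : K.Acyclic) (h1 : ∀ n : ℕ, (I.obj (op n)).IsKInjective)
    (h2 : ∀ (n : ℕ) (m : ℤ), IsSplitEpi ((tr I n).f m)) (f : K ⟶ limit I) :
    (n : ℕ) → Approx I f n
  | 0 => by
      haveI := h1 0
      exact ⟨(exists_cochain hK (f ≫ limit.π I (op 0))).choose,
        (exists_cochain hK (f ≫ limit.π I (op 0))).choose_spec⟩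
  | n+1 => ⟨(step' hK h1 h2 f n (seq hK h1 h2 f n)).choose,
      (step' hK h1 h2 f n (seq hK h1 h2 f n)).choose_spec.1⟩

lemma seq_succ (hK : K.Acyclic) (h1 : ∀ n : ℕ, (I.obj (op n)).IsKInjective)
    (h2 : ∀ (n : ℕ) (m : ℤ), IsSplitEpi ((tr I n).f m)) (f : K ⟶ limit I) (n : ℕ) :
    (seq hK h1 h2 f (n+1)).α.comp (Cochain.ofHom (tr I n)) (add_zero _) =
      (seq hK h1 h2 f n).α :=
  (step' hK h1 h2 f n (seq hK h1 h2 f n)).choose_spec.2

lemma seq_le (hK : K.Acyclic) (h1 : ∀ n : ℕ, (I.obj (op n)).IsKInjective)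
    (h2 : ∀ (n : ℕ) (m : ℤ), IsSplitEpi ((tr I n).f m)) (f : K ⟶ limit I) (m n : ℕ)
    (h : m ≤ n) :
    (seq hK h1 h2 f n).α.comp (Cochain.ofHom (I.map (homOfLE h).op)) (add_zero _) =
      (seq hK h1 h2 f m).α := by
  induction n, h using Nat.le_induction with
  | base =>
    have : (homOfLE (le_refl m)).op = 𝟙 (op m) := rfl
    rw [this, I.map_id, Cochain.comp_id]
  | succ n hmn ih =>
    have : (homOfLE (hmn.trans (Nat.le_succ n))).op =
        (homOfLE (Nat.le_succ n)).op ≫ (homOfLE hmn).op := rfl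
    rw [this, I.map_comp, Cochain.ofHom_comp, ← Cochain.comp_assoc_of_third_is_zero_cochain,
      seq_succ, ih]

/-- the cone -/
noncomputable def cone (hK : K.Acyclic) (h1 : ∀ n : ℕ, (I.obj (op n)).IsKInjective)
    (h2 : ∀ (n : ℕ) (m : ℤ), IsSplitEpi ((tr I n).f m)) (f : K ⟶ limit I)
    (p q : ℤ) (hpq : p + (-1) = q) :
    Cone (I ⋙ HomologicalComplex.eval A (ComplexShape.up ℤ) q) where
  pt := K.X p
  π :=
    { app := fun j => (seq hK h1 h2 f (unop j)).α.v p q hpq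
      naturality := fun j j' φ => by
        have h := seq_le hK h1 h2 f (unop j') (unop j) (leOfHom φ.unop)
        have h' := Cochain.congr_v h p q hpq
        rw [Cochain.comp_zero_cochain_v, Cochain.ofHom_v] at h'
        dsimp
        rw [Category.id_comp, ← h']
        rfl }

/-- the limit cochain -/
noncomputable def αlim (hK : K.Acyclic) (h1 : ∀ n : ℕ, (I.obj (op n)).IsKInjective)
    (h2 : ∀ (n : ℕ) (m : ℤ), IsSplitEpi ((tr I n).f m)) (f : K ⟶ limit I) :
    Cochain K (limit I) (-1) :=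
  Cochain.mk (fun p q hpq =>
    (isLimitOfPreserves (HomologicalComplex.eval A (ComplexShape.up ℤ) q)
      (limit.isLimit I)).lift (cone hK h1 h2 f p q hpq))

lemma αlim_comp (hK : K.Acyclic) (h1 : ∀ n : ℕ, (I.obj (op n)).IsKInjective)
    (h2 : ∀ (n : ℕ) (m : ℤ), IsSplitEpi ((tr I n).f m)) (f : K ⟶ limit I) (n : ℕ) :
    (αlim hK h1 h2 f).comp (Cochain.ofHom (limit.π I (op n))) (add_zero _) =
      (seq hK h1 h2 f n).α := by
  ext p q hpq
  rw [Cochain.comp_zero_cochain_v, Cochain.ofHom_v]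
  exact (isLimitOfPreserves (HomologicalComplex.eval A (ComplexShape.up ℤ) q)
      (limit.isLimit I)).fac (cone hK h1 h2 f p q hpq) (op n)

lemma δ_αlim (hK : K.Acyclic) (h1 : ∀ n : ℕ, (I.obj (op n)).IsKInjective)
    (h2 : ∀ (n : ℕ) (m : ℤ), IsSplitEpi ((tr I n).f m)) (f : K ⟶ limit I) :
    δ (-1) 0 (αlim hK h1 h2 f) = Cochain.ofHom f := by
  ext p
  refine (isLimitOfPreserves (HomologicalComplex.eval A (ComplexShape.up ℤ) p)
      (limit.isLimit I)).hom_ext (fun j => ?_)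
  obtain ⟨n⟩ := j
  have h := congrArg (δ (-1) 0) (αlim_comp hK h1 h2 f n)
  rw [δ_comp_ofHom, (seq hK h1 h2 f n).hα, Cochain.ofHom_comp] at h
  have h' := Cochain.congr_v h p p (add_zero p)
  rw [Cochain.comp_zero_cochain_v, Cochain.comp_zero_cochain_v, Cochain.ofHom_v] at h'
  exact h'

theorem main (h1 : ∀ n : ℕ, (I.obj (op n)).IsKInjective)
    (h2 : ∀ (n : ℕ) (m : ℤ), IsSplitEpi ((I.map (homOfLE (Nat.le_succ n)).op).f m)) :
    (limit I).IsKInjective where
  nonempty_homotopy_zero {K} f hK :=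
    ⟨(Cochain.equivHomotopy f 0).symm ⟨αlim hK h1 h2 f, by
      rw [δ_αlim, Cochain.ofHom_zero, add_zero]⟩⟩

end Groth.Agent.Helper29.KInjLimB
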