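import Mathlib

/-!
# A tower of bounded below injective resolutions of the truncations of a complex
-/
set_option autoImplicit false
universe v u
open CategoryTheory CategoryTheory.Limits CochainComplex CategoryTheory.Abelian
open CochainComplex.Plus.modelCategoryQuillen

namespace Groth.Agent.Helper29.KiA

variable {A : Type u} [Category.{v} A] [Abelian A]

/-- factorization through the truncation -/
noncomputable def desc {K L : CochainComplex A ℤ} (φ : K ⟶ L) (a : ℤ) [L.IsStrictlyGE a] :
    K.truncGE a ⟶ L :=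
  truncGEMap φ a ≫ inv (L.πTruncGE a)

lemma π_desc {K L : CochainComplex A ℤ} (φ : K ⟶ L) (a : ℤ) [L.IsStrictlyGE a] :
    K.πTruncGE a ≫ desc φ a = φ := by
  simp [desc]

lemma injective_of_epiWithInjectiveKernel {X Y : A} (f : X ⟶ Y) (hf : epiWithInjectiveKernel f)
    [Injective Y] : Injective X := by
  rw [epiWithInjectiveKernel_iff] at hf
  obtain ⟨I, _, g, w, ⟨σ⟩⟩ := hf
  exact Injective.of_iso σ.isoBinaryBiproduct.symm inferInstance

lemma isSplitEpi_of_epiWithInjectiveKernel {X Y : A} (f : X ⟶ Y) (hf : epiWithInjectiveKernel f) :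
    IsSplitEpi f := by
  rw [epiWithInjectiveKernel_iff] at hf
  obtain ⟨I, _, g, w, ⟨σ⟩⟩ := hf
  exact ⟨⟨σ.s, σ.s_g⟩⟩

variable [EnoughInjectives A]

/-- a stage of the tower -/
structure Stage (K : CochainComplex A ℤ) (n : ℕ) where
  I : CochainComplex A ℤ
  ge : I.IsStrictlyGE (-(n : ℤ) - 1)
  inj : ∀ i, Injective (I.X i)
  g : K ⟶ I
  qis : ∀ i : ℤ, -(n : ℤ) ≤ i → QuasiIsoAt g i

lemma exists_stage_zero (K : CochainComplex A ℤ) : Nonempty (Stage K 0) := by
  obtain ⟨L, i, hi, hL, hge⟩ := exists_quasiIso_injective (K.truncGE 0) 0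
  exact ⟨{ I := L
           ge := L.isStrictlyGE_of_ge _ 0 (by simp)
           inj := hL
           g := K.πTruncGE 0 ≫ i
           qis := fun j hj => by
             have := K.quasiIsoAt_πTruncGE 0 j (by simpa using hj)
             infer_instance }⟩

lemma exists_next {K : CochainComplex A ℤ} {n : ℕ} (s : Stage K n) :
    ∃ (s' : Stage K (n + 1)) (p : s'.I ⟶ s.I),
      degreewiseEpiWithInjectiveKernel p ∧ s'.g ≫ p = s.g := by
  haveI := s.ge
  set a : ℤ := -(n : ℤ) - 1 with ha
  have : s.I.IsStrictlyGE (a - 1) := s.I.isStrictlyGE_of_ge _ a (by lia)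
  have : (K.truncGE a).IsStrictlyGE (a - 1 + 1) := by
    rw [sub_add_cancel]
    infer_instance
  obtain ⟨K', hK', ι, π, _, _, hπ, hfac⟩ := cm5a (desc s.g a) (a - 1)
  have hinj : ∀ i, Injective (K'.X i) := fun i => by
    haveI := s.inj i
    exact injective_of_epiWithInjectiveKernel _ (hπ i)
  refine ⟨{ I := K'
            ge := by
              have e : -((n + 1 : ℕ) : ℤ) - 1 = a - 1 := by
                rw [ha]; push_cast; ring
              rw [e]
              exact hK'
            inj := hinj
            g := K.πTruncGE a ≫ ι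
            qis := fun j hj => by
              have := K.quasiIsoAt_πTruncGE a j (by rw [ha]; push_cast at hj; lia)
              infer_instance }, π, hπ, ?_⟩
  dsimp
  rw [Category.assoc, hfac, π_desc]

end Groth.Agent.Helper29.KiA
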