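import Mathlib

/-!
# Products of towers of cochain complexes and the limit exact sequence
-/
set_option autoImplicit false
universe v u
open CategoryTheory CategoryTheory.Limits

namespace Groth.Agent.Helper29.KiB

variable {A : Type u} [Category.{v} A] [Abelian A] [HasLimitsOfShape (Discrete ℕ) A]

/-- complex of functors on the discrete category `ℕ` -/
@[simps]
noncomputable def cplx (J : ℕ → CochainComplex A ℤ) : CochainComplex (Discrete ℕ ⥤ A) ℤ where
  X i := Discrete.functor (fun n => (J n).X i)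
  d i j := Discrete.natTrans (fun n => (J n.as).d i j)
  shape i j h := by
    ext ⟨n⟩
    simp [(J n).shape i j h]
  d_comp_d' i j k _ _ := by
    ext ⟨n⟩
    simp

/-- morphism of complexes of functors -/
@[simps]
noncomputable def cplxMap {J J' : ℕ → CochainComplex A ℤ} (τ : ∀ n, J n ⟶ J' n) :
    cplx J ⟶ cplx J' where
  f i := Discrete.natTrans (fun n => (τ n.as).f i)
  comm' i j _ := by
    ext ⟨n⟩
    exact (τ n).comm i j

instance : (lim : (Discrete ℕ ⥤ A) ⥤ A).PreservesZeroMorphisms := inferInstance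

/-- the product complex -/
noncomputable def P (J : ℕ → CochainComplex A ℤ) : CochainComplex A ℤ :=
  ((lim : (Discrete ℕ ⥤ A) ⥤ A).mapHomologicalComplex _).obj (cplx J)

/-- map of product complexes -/
noncomputable def PMap {J J' : ℕ → CochainComplex A ℤ} (τ : ∀ n, J n ⟶ J' n) : P J ⟶ P J' :=
  ((lim : (Discrete ℕ ⥤ A) ⥤ A).mapHomologicalComplex _).map (cplxMap τ)

variable (J : ℕ → CochainComplex A ℤ)

/-- projection -/
noncomputable def pr (i : ℤ) (n : ℕ) : (P J).X i ⟶ (J n).X i :=
  limit.π ((cplx J).X i) ⟨n⟩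

/-- lift -/
noncomputable def lft {i : ℤ} {T : A} (x : ∀ n, T ⟶ (J n).X i) : T ⟶ (P J).X i :=
  limit.lift ((cplx J).X i) (Fan.mk T x)

variable {J}

@[reassoc (attr := simp)]
lemma lft_pr {i : ℤ} {T : A} (x : ∀ n, T ⟶ (J n).X i) (n : ℕ) : lft J x ≫ pr J i n = x n :=
  (limit.lift_π (Fan.mk T x) ⟨n⟩).trans rfl

lemma hom_ext {i : ℤ} {T : A} {a b : T ⟶ (P J).X i} (h : ∀ n, a ≫ pr J i n = b ≫ pr J i n) :
    a = b := by
  refine limit.hom_ext ?_
  rintro ⟨n⟩
  exact h n

@[reassoc (attr := simp)]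
lemma P_d_pr (i j : ℤ) (n : ℕ) : (P J).d i j ≫ pr J j n = pr J i n ≫ (J n).d i j :=
  (limMap_π ((cplx J).d i j) ⟨n⟩).trans rfl

@[reassoc (attr := simp)]
lemma PMap_f_pr {J' : ℕ → CochainComplex A ℤ} (τ : ∀ n, J n ⟶ J' n) (i : ℤ) (n : ℕ) :
    (PMap τ).f i ≫ pr J' i n = pr J i n ≫ (τ n).f i :=
  (limMap_π ((cplxMap τ).f i) ⟨n⟩).trans rfl


section tower

variable (J) (p : ∀ n, J (n + 1) ⟶ J n)

/-- the shift map of the product complex -/
noncomputable def Sh : P J ⟶ P J where
  f i := lft J (fun n => pr J i (n + 1) ≫ (p n).f i)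
  comm' i j _ := by
    refine hom_ext (fun n => ?_)
    simp

@[reassoc (attr := simp)]
lemma Sh_f_pr (i : ℤ) (n : ℕ) : (Sh J p).f i ≫ pr J i n = pr J i (n + 1) ≫ (p n).f i := by
  simp [Sh]

/-- `1 - shift` -/
noncomputable def D : P J ⟶ P J := 𝟙 _ - Sh J p

lemma D_f (i : ℤ) : (D J p).f i = 𝟙 _ - (Sh J p).f i := by
  simp [D]

variable {J}

/-- the map from a cone to the product complex -/
noncomputable def incl {L : CochainComplex A ℤ} (π : ∀ n, L ⟶ J n) : L ⟶ P J where
  f i := lft J (fun n => (π n).f i)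
  comm' i j _ := by
    refine hom_ext (fun n => ?_)
    simp

@[reassoc (attr := simp)]
lemma incl_f_pr {L : CochainComplex A ℤ} (π : ∀ n, L ⟶ J n) (i : ℤ) (n : ℕ) :
    (incl π).f i ≫ pr J i n = (π n).f i := by
  simp [incl]

/-- the property of being a limit of the tower, degreewise -/
structure IsTowerLimit {L : CochainComplex A ℤ} (π : ∀ n, L ⟶ J n) : Prop where
  compat : ∀ n, π (n + 1) ≫ p n = π n
  existsUnique : ∀ (i : ℤ) (T : A) (x : ∀ n, T ⟶ (J n).X i),
    (∀ n, x (n + 1) ≫ (p n).f i = x n) → ∃! l : T ⟶ L.X i, ∀ n, l ≫ (π n).f i = x n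

variable {p}

lemma incl_D {L : CochainComplex A ℤ} {π : ∀ n, L ⟶ J n} (h : IsTowerLimit p π) :
    incl π ≫ D J p = 0 := by
  ext i : 1
  refine hom_ext (fun n => ?_)
  have := congrArg (fun φ => φ.f i) (h.compat n)
  simp only [HomologicalComplex.comp_f] at this
  simp [D_f, Preadditive.comp_sub, Preadditive.sub_comp, this]

/-- the short complex `L ⟶ ∏ J ⟶ ∏ J` -/
noncomputable def SC {L : CochainComplex A ℤ} {π : ∀ n, L ⟶ J n} (h : IsTowerLimit p π) :
    ShortComplex (CochainComplex A ℤ) :=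
  ShortComplex.mk (incl π) (D J p) (incl_D h)

section epi

variable (i : ℤ) (s : ∀ n, (J n).X i ⟶ (J (n + 1)).X i)

/-- components of a section of `1 - shift` -/
noncomputable def Ysec : ∀ n, ((P J).X i ⟶ (J n).X i)
  | 0 => 0
  | n + 1 => (Ysec n - pr J i n) ≫ s n

lemma sec_D (hs : ∀ n, s n ≫ (p n).f i = 𝟙 _) :
    lft J (Ysec i s) ≫ (D J p).f i = 𝟙 _ := by
  refine hom_ext (fun n => ?_)
  rw [D_f, Preadditive.comp_sub, Preadditive.sub_comp, Category.comp_id, Category.assoc,
    Sh_f_pr, lft_pr, lft_pr_assoc]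
  simp only [Ysec, Category.assoc, hs n, Category.comp_id, Category.id_comp]
  abel

end epi

lemma shortExact_SC {L : CochainComplex A ℤ} {π : ∀ n, L ⟶ J n} (h : IsTowerLimit p π)
    (hs : ∀ n (i : ℤ), IsSplitEpi ((p n).f i)) : (SC h).ShortExact := by
  refine HomologicalComplex.shortExact_of_degreewise_shortExact _ (fun i => ?_)
  have hmono : Mono ((incl π).f i) := by
    constructor
    intro T a b hab
    have hc : ∀ n, (a ≫ (π (n + 1)).f i) ≫ (p n).f i = a ≫ (π n).f i := fun n => by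
      have := congrArg (fun φ => φ.f i) (h.compat n)
      simp only [HomologicalComplex.comp_f] at this
      rw [Category.assoc, this]
    obtain ⟨l, _, hl⟩ := h.existsUnique i T (fun n => a ≫ (π n).f i) hc
    rw [hl a (fun n => rfl), hl b (fun n => by
      have := congrArg (fun φ => φ ≫ pr J i n) hab
      simpa using this.symm)]
  have hepi : Epi ((D J p).f i) := by
    have hsec := sec_D (p := p) i (fun n => section_ ((p n).f i))
      (fun n => IsSplitEpi.id ((p n).f i))
    exact epi_of_epi_fac hsec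
  have hex : (ShortComplex.mk ((incl π).f i) ((D J p).f i) (by
      rw [← HomologicalComplex.comp_f, incl_D h, HomologicalComplex.zero_f])).Exact := by
    rw [ShortComplex.exact_iff_exact_up_to_refinements]
    intro T x hx
    dsimp at x hx
    have hx' : ∀ n, (x ≫ pr J i (n + 1)) ≫ (p n).f i = x ≫ pr J i n := fun n => by
      have := congrArg (fun φ => φ ≫ pr J i n) hx
      simp only [D_f, Preadditive.comp_sub, Preadditive.sub_comp, Category.comp_id, Category.assoc,
        Sh_f_pr, zero_comp, sub_eq_zero] at this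
      rw [Category.assoc, ← this]
    obtain ⟨l, hl, _⟩ := h.existsUnique i T (fun n => x ≫ pr J i n) hx'
    refine ⟨T, 𝟙 _, inferInstance, l, ?_⟩
    dsimp
    rw [Category.id_comp]
    refine hom_ext (fun n => ?_)
    rw [Category.assoc, incl_f_pr, hl n]
  exact ShortComplex.ShortExact.mk' hex hmono hepi

end tower

end Groth.Agent.Helper29.KiB
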