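import Mathlib
import Groth.Agent.Lib.Helper29.KiB

/-!
# Limits of towers with split transition maps and quasi-isomorphisms
-/
set_option autoImplicit false
universe v u
open CategoryTheory CategoryTheory.Limits

namespace Groth.Agent.Helper29.KiC

open Groth.Agent.Helper29.KiB

variable {A : Type u} [Category.{v} A] [Abelian A] [HasLimitsOfShape (Discrete ℕ) A]
  [HasExactLimitsOfShape (Discrete ℕ) A]

instance : PreservesFiniteColimits (lim : (Discrete ℕ ⥤ A) ⥤ A) :=
  HasExactLimitsOfShape.preservesFiniteColimits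

instance : (lim : (Discrete ℕ ⥤ A) ⥤ A).Additive :=
  Functor.additive_of_preserves_binary_products _

instance : (lim : (Discrete ℕ ⥤ A) ⥤ A).PreservesHomology := inferInstance

/-- evaluation of the complex of functors -/
noncomputable def evIso (J : ℕ → CochainComplex A ℤ) (n : ℕ) :
    (((evaluation (Discrete ℕ) A).obj ⟨n⟩).mapHomologicalComplex (ComplexShape.up ℤ)).obj (cplx J) ≅
      J n :=
  HomologicalComplex.Hom.isoOfComponents (fun j => Iso.refl _) (by
    intro a b _
    simp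
    exact (Category.id_comp _).trans (Category.comp_id _).symm)

lemma quasiIsoAt_cplxMap {J J' : ℕ → CochainComplex A ℤ} (τ : ∀ n, J n ⟶ J' n) (i : ℤ)
    (h : ∀ n, QuasiIsoAt (τ n) i) : QuasiIsoAt (cplxMap τ) i := by
  rw [HomologicalComplex.quasiIsoAt_iff_evaluation]
  rintro ⟨n⟩
  have := h n
  have e : (((evaluation (Discrete ℕ) A).obj ⟨n⟩).mapHomologicalComplex (ComplexShape.up ℤ)).map
      (cplxMap τ) = (evIso J n).hom ≫ τ n ≫ (evIso J' n).inv := by
    ext j
    simp [evIso]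
    exact ((Category.id_comp _).trans (Category.comp_id _)).symm
  rw [e]
  infer_instance

lemma quasiIsoAt_PMap {J J' : ℕ → CochainComplex A ℤ} (τ : ∀ n, J n ⟶ J' n) (i : ℤ)
    (h : ∀ n, QuasiIsoAt (τ n) i) : QuasiIsoAt (PMap τ) i := by
  have := quasiIsoAt_cplxMap τ i h
  exact HomologicalComplex.quasiIsoAt_map_of_preservesHomology (cplxMap τ)
    (lim : (Discrete ℕ ⥤ A) ⥤ A) i


open HomologicalComplex HomologicalComplex.HomologySequence in
theorem quasiIsoAt_of_towers
    {J J' : ℕ → CochainComplex A ℤ} {p : ∀ n, J (n + 1) ⟶ J n} {p' : ∀ n, J' (n + 1) ⟶ J' n}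
    {L L' : CochainComplex A ℤ} {π : ∀ n, L ⟶ J n} {π' : ∀ n, L' ⟶ J' n}
    (h : IsTowerLimit p π) (h' : IsTowerLimit p' π')
    (hs : ∀ n (i : ℤ), IsSplitEpi ((p n).f i)) (hs' : ∀ n (i : ℤ), IsSplitEpi ((p' n).f i))
    (τ : ∀ n, J n ⟶ J' n) (hτ : ∀ n, τ (n + 1) ≫ p' n = p n ≫ τ n)
    (lam : L ⟶ L') (hlam : ∀ n, lam ≫ π' n = π n ≫ τ n)
    (i : ℤ) (h1 : ∀ n, QuasiIsoAt (τ n) (i - 1)) (h2 : ∀ n, QuasiIsoAt (τ n) i) :
    QuasiIsoAt lam i := by
  have hSh : Sh J p ≫ PMap τ = PMap τ ≫ Sh J' p' := by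
    ext j : 1
    refine hom_ext (fun n => ?_)
    have := congrArg (fun φ => φ.f j) (hτ n)
    simp only [HomologicalComplex.comp_f] at this
    simp [this]
  let φ : SC h ⟶ SC h' :=
    { τ₁ := lam
      τ₂ := PMap τ
      τ₃ := PMap τ
      comm₁₂ := by
        ext j : 1
        refine hom_ext (fun n => ?_)
        have := congrArg (fun φ => φ.f j) (hlam n)
        simp only [HomologicalComplex.comp_f] at this
        simp [SC, this]
      comm₂₃ := by
        simp [SC, D, Preadditive.comp_sub, Preadditive.sub_comp, hSh] }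
  have hS₁ := shortExact_SC h hs
  have hS₂ := shortExact_SC h' hs'
  have q1 := quasiIsoAt_PMap τ (i - 1) h1
  have q2 := quasiIsoAt_PMap τ i h2
  rw [quasiIsoAt_iff_isIso_homologyMap] at q1 q2 ⊢
  have hrel : (ComplexShape.up ℤ).Rel (i - 1) i := by simp
  exact Abelian.isIso_of_epi_of_isIso_of_isIso_of_mono' (k := 1) (by lia)
    (composableArrows₅_exact hS₁ (i - 1) i hrel) (composableArrows₅_exact hS₂ (i - 1) i hrel)
    (mapComposableArrows₅ φ hS₁ hS₂ (i - 1) i hrel) 1 2 3 4 5 rfl rfl rfl rfl rfl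
    (show Epi (homologyMap (PMap τ) (i - 1)) from inferInstance)
    (show IsIso (homologyMap (PMap τ) (i - 1)) from q1)
    (show IsIso (homologyMap (PMap τ) i) from q2)
    (show Mono (homologyMap (PMap τ) i) from inferInstance)

end Groth.Agent.Helper29.KiC
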