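import Mathlib
import Groth.Agent.Lib.Helper29.KiB

/-!
# Tails of towers of complexes are tower limits
-/
set_option autoImplicit false
universe v u
open CategoryTheory CategoryTheory.Limits Opposite

namespace Groth.Agent.Helper29.KiE

open Groth.Agent.Helper29.KiB

variable {A : Type u} [Category.{v} A] [Abelian A] [HasLimitsOfShape (Discrete ℕ) A]
  [HasLimitsOfShape ℕᵒᵖ A]

lemma map_comp_le (F : ℕᵒᵖ ⥤ CochainComplex A ℤ) {a b c : ℕ} (h1 : a ≤ b) (h2 : b ≤ c)
    (h3 : a ≤ c) :
    F.map (homOfLE h3).op = F.map (homOfLE h2).op ≫ F.map (homOfLE h1).op := by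
  rw [← F.map_comp]
  rfl

lemma map_refl (F : ℕᵒᵖ ⥤ CochainComplex A ℤ) (a : ℕ) (h : a ≤ a) :
    F.map (homOfLE h).op = 𝟙 _ := by
  rw [← F.map_id]
  rfl

/-- the constant tower is a tower limit -/
lemma isTowerLimit_const (K : CochainComplex A ℤ) :
    IsTowerLimit (J := fun _ => K) (fun _ => 𝟙 K) (L := K) (fun _ => 𝟙 K) where
  compat n := by simp
  existsUnique i T x hx := by
    have h0 : ∀ n, x n = x 0 := fun n => by
      induction n with
      | zero => rfl
      | succ n ih =>
        have := hx n
        simp only [HomologicalComplex.id_f, Category.comp_id] at this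
        rw [this, ih]
    refine ⟨x 0, fun n => ?_, fun l hl => ?_⟩
    · simp [h0 n]
    · have := hl 0
      simpa using this

variable (F : ℕᵒᵖ ⥤ CochainComplex A ℤ) (N : ℕ)

/-- the tail tower is a tower limit of the whole limit -/
lemma isTowerLimit_tail :
    IsTowerLimit (J := fun n => F.obj (op (N + n)))
      (fun n => F.map (homOfLE (Nat.le_succ (N + n))).op)
      (L := limit F) (fun n => limit.π F (op (N + n))) where
  compat n := limit.w F (homOfLE (Nat.le_succ (N + n))).op
  existsUnique i T x hx := by
    -- compatibility over several steps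
    have hx' : ∀ (n m : ℕ) (h : n ≤ m),
        x m ≫ (F.map (homOfLE (Nat.add_le_add_left h N)).op).f i = x n := by
      intro n m h
      induction m, h using Nat.le_induction with
      | base =>
        rw [map_refl]
        exact Category.comp_id _
      | succ m h ih =>
        have e : F.map (homOfLE (Nat.add_le_add_left (h.trans (Nat.le_succ m)) N)).op =
            F.map (homOfLE (Nat.le_succ (N + m))).op ≫
              F.map (homOfLE (Nat.add_le_add_left h N)).op :=
          map_comp_le F _ _ _
        have e2 := hx m
        calc x (m + 1) ≫ (F.map (homOfLE (Nat.add_le_add_left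
                (h.trans (Nat.le_succ m)) N)).op).f i
            = (x (m + 1) ≫ (F.map (homOfLE (Nat.le_succ (N + m))).op).f i) ≫
                (F.map (homOfLE (Nat.add_le_add_left h N)).op).f i := by
              rw [e, HomologicalComplex.comp_f, Category.assoc]
          _ = x n := by rw [e2, ih]
    let hl := isLimitOfPreserves (HomologicalComplex.eval A (ComplexShape.up ℤ) i)
      (limit.isLimit F)
    have hnat : ∀ m : ℕ, x m ≫ (F.map (homOfLE (Nat.le_add_left m N)).op).f i =
        (x (m + 1) ≫ (F.map (homOfLE (Nat.le_add_left (m + 1) N)).op).f i) ≫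
          (F.map (homOfLE (m.le_add_right 1)).op).f i := fun m => by
      have e : F.map (homOfLE (Nat.le_add_left (m + 1) N)).op ≫
          F.map (homOfLE (m.le_add_right 1)).op =
          F.map (homOfLE (Nat.le_succ (N + m))).op ≫ F.map (homOfLE (Nat.le_add_left m N)).op := by
        rw [← F.map_comp, ← F.map_comp]
        rfl
      have e2 := hx m
      rw [Category.assoc, ← HomologicalComplex.comp_f, e, HomologicalComplex.comp_f,
        ← Category.assoc, e2]
    let c : Cone (F ⋙ HomologicalComplex.eval A (ComplexShape.up ℤ) i) :=
      { pt := T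
        π := NatTrans.ofOpSequence
          (fun m => x m ≫ (F.map (homOfLE (Nat.le_add_left m N)).op).f i) (fun m => by
            simp only [Functor.const_obj_obj, Functor.const_obj_map, Category.id_comp,
              Functor.comp_map, HomologicalComplex.eval_map]
            exact hnat m) }
    have hfac : ∀ m, hl.lift c ≫ (limit.π F (op m)).f i =
        x m ≫ (F.map (homOfLE (Nat.le_add_left m N)).op).f i := fun m =>
      hl.fac c (op m)
    refine ⟨hl.lift c, fun n => ?_, fun l hl' => ?_⟩
    · exact (hfac (N + n)).trans (hx' n (N + n) (Nat.le_add_left n N))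
    · refine hl.hom_ext (fun m => ?_)
      obtain ⟨m⟩ := m
      have h1 := hfac m
      have h2 : l ≫ (limit.π F (op m)).f i =
          x m ≫ (F.map (homOfLE (Nat.le_add_left m N)).op).f i := by
        rw [← hl' m, Category.assoc, ← HomologicalComplex.comp_f,
          limit.w F (homOfLE (Nat.le_add_left m N)).op]
      exact h2.trans h1.symm

end Groth.Agent.Helper29.KiE
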