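import Mathlib
import Groth.Agent.Lib.Helper29.KiA
import Groth.Agent.Lib.Helper29.KiC
import Groth.Agent.Lib.Helper29.KiE
import Groth.Agent.Lib.Helper29.KInjLimB

/-!
# K-injective resolutions in abelian categories with enough injectives and exact countable products
-/
set_option autoImplicit false
universe v u
open CategoryTheory CategoryTheory.Limits CochainComplex CategoryTheory.Abelian Opposite

namespace Groth.Agent.Helper29.KiD

open Groth.Agent.Helper29.KiA Groth.Agent.Helper29.KiB Groth.Agent.Helper29.KiC

variable {A : Type u} [Category.{v} A] [Abelian A] [HasLimitsOfShape (Discrete ℕ) A]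

lemma hasProductsOfShape_of_countable (J : Type) [Countable J] :
    HasLimitsOfShape (Discrete J) A := by
  rcases finite_or_infinite J with h | h
  · infer_instance
  · obtain ⟨e⟩ := nonempty_equiv_of_countable (α := ℕ) (β := J)
    exact hasLimitsOfShape_of_equivalence (Discrete.equivalence e)

instance hasLimitsOfShape_nat_op : HasLimitsOfShape ℕᵒᵖ A := ⟨fun F => by
  haveI := hasProductsOfShape_of_countable (A := A) ℕᵒᵖ
  haveI := hasProductsOfShape_of_countable (A := A) (Σ p : ℕᵒᵖ × ℕᵒᵖ, p.1 ⟶ p.2)
  exact hasLimit_of_equalizer_and_product F⟩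

variable [EnoughInjectives A] (K : CochainComplex A ℤ)

/-- the stages -/
noncomputable def seq : ∀ n, Stage K n
  | 0 => (exists_stage_zero K).some
  | n + 1 => (exists_next (seq n)).choose

/-- the transition maps -/
noncomputable def tr (n : ℕ) : (seq K (n + 1)).I ⟶ (seq K n).I :=
  (exists_next (seq K n)).choose_spec.choose

lemma tr_spec (n : ℕ) :
    degreewiseEpiWithInjectiveKernel (tr K n) ∧ (seq K (n + 1)).g ≫ tr K n = (seq K n).g :=
  (exists_next (seq K n)).choose_spec.choose_spec

/-- the tower -/
noncomputable def tower : ℕᵒᵖ ⥤ CochainComplex A ℤ :=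
  Functor.ofOpSequence (X := fun n => (seq K n).I) (tr K)

lemma tower_map_succ (n : ℕ) (h : n ≤ n + 1) : (tower K).map (homOfLE h).op = tr K n :=
  Functor.ofOpSequence_map_homOfLE_succ (X := fun n => (seq K n).I) (tr K) n

lemma tower_map_comp {a b c : ℕ} (h1 : a ≤ b) (h2 : b ≤ c) :
    (tower K).map (homOfLE h2).op ≫ (tower K).map (homOfLE h1).op =
      (tower K).map (homOfLE (h1.trans h2)).op := by
  rw [← Functor.map_comp]
  rfl

lemma tower_map_refl (a : ℕ) (h : a ≤ a) : (tower K).map (homOfLE h).op = 𝟙 _ := by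
  rw [← (tower K).map_id]
  rfl

/-- the cone with point `K` -/
noncomputable def coneK : Cone (tower K) where
  pt := K
  π := NatTrans.ofOpSequence (fun n => (seq K n).g) (fun n => by
    dsimp
    rw [Category.id_comp, tower_map_succ]
    exact (tr_spec K n).2.symm)

/-- the map to the limit -/
noncomputable def toLim : K ⟶ limit (tower K) := limit.lift _ (coneK K)

lemma toLim_π (n : ℕ) : toLim K ≫ limit.π (tower K) (op n) = (seq K n).g :=
  limit.lift_π _ _

lemma isKInjective_limit : (limit (tower K)).IsKInjective := by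
  refine Groth.Agent.Helper29.KInjLimB.main (fun n => ?_) (fun n m => ?_)
  · haveI := (seq K n).ge
    haveI := (seq K n).inj
    exact isKInjective_of_injective (seq K n).I (-(n : ℤ) - 1)
  · rw [tower_map_succ]
    exact isSplitEpi_of_epiWithInjectiveKernel _ ((tr_spec K n).1 m)


variable [HasExactLimitsOfShape (Discrete ℕ) A]

theorem quasiIso_toLim : QuasiIso (toLim K) := by
  rw [quasiIso_iff]
  intro i
  set N : ℕ := (1 - i).toNat with hN
  have hNi : (1 : ℤ) - i ≤ (N : ℤ) := Int.self_le_toNat _
  refine quasiIsoAt_of_towers (Groth.Agent.Helper29.KiE.isTowerLimit_const K)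
    (Groth.Agent.Helper29.KiE.isTowerLimit_tail (tower K) N)
    (fun n j => ⟨⟨𝟙 _, by simp⟩⟩)
    (fun n j => ?_)
    (fun n => (coneK K).π.app (op (N + n))) (fun n => ?_) (toLim K) (fun n => ?_) i
    (fun n => ?_) (fun n => ?_)
  · rw [tower_map_succ]
    exact isSplitEpi_of_epiWithInjectiveKernel _ ((tr_spec K (N + n)).1 j)
  · rw [Category.id_comp]
    exact (coneK K).w (homOfLE (Nat.le_succ (N + n))).op
  · rw [Category.id_comp]
    exact limit.lift_π _ _
  · exact (seq K (N + n)).qis _ (by push_cast; lia)
  · exact (seq K (N + n)).qis _ (by push_cast; lia)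

theorem exists_kInjective_resolution :
    ∃ (I : CochainComplex A ℤ) (f : K ⟶ I), I.IsKInjective ∧ QuasiIso f :=
  ⟨_, toLim K, isKInjective_limit K, quasiIso_toLim K⟩

end Groth.Agent.Helper29.KiD
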