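import Mathlib
import Groth.Prelude.Def_W4c2quivmodsheafKron

set_option autoImplicit false
universe u v w

namespace Groth.Agent.Helper29.Kron

open Module

variable {K : Type u} [Field K]

theorem finrank_comap_mkQ {V : Type v} [AddCommGroup V] [Module K V] [FiniteDimensional K V]
    (A : Submodule K V) (U : Submodule K (V ⧸ A)) :
    finrank K (U.comap A.mkQ) = finrank K U + finrank K A := by
  let φ : (U.comap A.mkQ) →ₗ[K] (V ⧸ A) := A.mkQ.domRestrict (U.comap A.mkQ)
  have h1 := LinearMap.finrank_range_add_finrank_ker φ
  have hrange : LinearMap.range φ = U := by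
    ext y
    constructor
    · rintro ⟨⟨x, hx⟩, rfl⟩
      exact hx
    · intro hy
      obtain ⟨x, rfl⟩ := A.mkQ_surjective y
      exact ⟨⟨x, hy⟩, rfl⟩
  have hker : finrank K (LinearMap.ker φ) = finrank K A := by
    have hle : A ≤ U.comap A.mkQ := by
      intro a ha
      simp only [Submodule.mem_comap, Submodule.mkQ_apply]
      rw [(Submodule.Quotient.mk_eq_zero A).mpr ha]
      exact U.zero_mem
    have : LinearMap.ker φ = (A.comap (U.comap A.mkQ).subtype) := by
      ext ⟨x, hx⟩
      simp [φ, LinearMap.mem_ker, LinearMap.domRestrict_apply, Submodule.Quotient.mk_eq_zero]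
    rw [this]
    exact (Submodule.comapSubtypeEquivOfLe hle).finrank_eq
  rw [hrange, hker] at h1
  exact h1.symm

/-- a destabilizing subrepresentation -/
def Bad {V : Type v} {W : Type w} [AddCommGroup V] [Module K V] [AddCommGroup W] [Module K W]
    (f0 f1 : V →ₗ[K] W) : Prop :=
  ∃ (V' : Submodule K V) (W' : Submodule K W), V'.map f0 ≤ W' ∧ V'.map f1 ≤ W' ∧
    finrank K W' < finrank K V'


theorem bad_of_finite_bijective [Infinite K] : ∀ (k : ℕ) (V : Type v) (W : Type w)
    [AddCommGroup V] [Module K V] [FiniteDimensional K V]
    [AddCommGroup W] [Module K W] [FiniteDimensional K W] (f0 f1 : V →ₗ[K] W),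
    finrank K V = k → finrank K W = k →
    {t : K | Function.Bijective (f0 + t • f1)}.Finite → Bad f0 f1 := by
  intro k
  induction k with
  | zero =>
    intro V W _ _ _ _ _ _ f0 f1 hV hW hfin
    exfalso
    have hVs : Subsingleton V := Module.finrank_zero_iff.mp hV
    have hWs : Subsingleton W := Module.finrank_zero_iff.mp hW
    have : {t : K | Function.Bijective (f0 + t • f1)} = Set.univ := by
      ext t
      simp only [Set.mem_ofPred_eq, Set.mem_univ, iff_true]
      exact ⟨Function.injective_of_subsingleton _, fun y => ⟨0, Subsingleton.elim _ _⟩⟩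
    rw [this] at hfin
    exact Set.infinite_univ hfin
  | succ k ih =>
    intro V W _ _ _ _ _ _ f0 f1 hV hW hfin
    obtain ⟨t0, ht0⟩ := hfin.exists_notMem
    simp only [Set.mem_ofPred_eq] at ht0
    set g := f0 + t0 • f1 with hg
    have hginj : ¬ Function.Injective g := by
      intro hinj
      apply ht0
      exact ⟨hinj, (LinearMap.injective_iff_surjective_of_finrank_eq_finrank
        (by rw [hV, hW])).mp hinj⟩
    have : ∃ v0 : V, v0 ≠ 0 ∧ g v0 = 0 := by
      by_contra hcon
      push Not at hcon
      apply hginj
      rw [← LinearMap.ker_eq_bot, LinearMap.ker_eq_bot']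
      intro m hm
      by_contra hm0
      exact hcon m hm0 hm
    obtain ⟨v0, hv0, hgv0⟩ := this
    by_cases hf1 : f1 v0 = 0
    · -- trivial destabilizing
      have hf0 : f0 v0 = 0 := by
        have : g v0 = f0 v0 + t0 • f1 v0 := by simp [hg]
        rw [hgv0, hf1, smul_zero, add_zero] at this
        exact this.symm
      refine ⟨Submodule.span K {v0}, ⊥, ?_, ?_, ?_⟩
      · rw [Submodule.map_span, Set.image_singleton, hf0]; simp
      · rw [Submodule.map_span, Set.image_singleton, hf1]; simp
      · rw [finrank_bot, finrank_span_singleton hv0]; exact Nat.zero_lt_one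
    · -- quotient
      set A := Submodule.span K {v0} with hA
      set B := Submodule.span K {f1 v0} with hB
      have hAg : A ≤ B.comap g := by
        rw [hA, Submodule.span_le]
        rintro x rfl
        simp [hgv0]
      have hAf : A ≤ B.comap f1 := by
        rw [hA, Submodule.span_le]
        rintro x rfl
        exact Submodule.subset_span rfl
      set gq := A.mapQ B g hAg with hgq
      set fq := A.mapQ B f1 hAf with hfq
      have hA1 : finrank K A = 1 := finrank_span_singleton hv0
      have hB1 : finrank K B = 1 := finrank_span_singleton hf1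
      have hVq : finrank K (V ⧸ A) = k := by
        have := Submodule.finrank_quotient_add_finrank A
        omega
      have hWq : finrank K (W ⧸ B) = k := by
        have := Submodule.finrank_quotient_add_finrank B
        omega
      have hfinq : {s : K | Function.Bijective (gq + s • fq)}.Finite := by
        have hsub : {s : K | Function.Bijective (gq + s • fq)} ⊆
            ((fun s => t0 + s) ⁻¹' {t : K | Function.Bijective (f0 + t • f1)}) ∪ {0} := by
          intro s hs
          by_cases hs0 : s = 0
          · right; exact hs0
          · left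
            simp only [Set.mem_preimage, Set.mem_ofPred_eq] at hs ⊢
            have heq : f0 + (t0 + s) • f1 = g + s • f1 := by
              rw [hg, add_smul, add_assoc]
            rw [heq]
            have hinj : Function.Injective (g + s • f1) := by
              rw [← LinearMap.ker_eq_bot, LinearMap.ker_eq_bot']
              intro u hu
              by_contra hu0
              have huA : u ∉ A := by
                intro huA
                rw [hA, Submodule.mem_span_singleton] at huA
                obtain ⟨c, rfl⟩ := huA
                have hc : c ≠ 0 := by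
                  rintro rfl
                  exact hu0 (zero_smul _ _)
                have : c • (s • f1 v0) = 0 := by
                  have h2 : (g + s • f1) (c • v0) = c • (s • f1 v0) := by
                    rw [LinearMap.add_apply, LinearMap.smul_apply, map_smul, map_smul, hgv0,
                      smul_zero, zero_add, smul_comm]
                  rw [← h2]; exact hu
                rcases smul_eq_zero.mp this with h | h
                · exact hc h
                · rcases smul_eq_zero.mp h with h | h
                  · exact hs0 h
                  · exact hf1 h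
              have hq : (gq + s • fq) (A.mkQ u) = 0 := by
                simp only [LinearMap.add_apply, LinearMap.smul_apply, hgq, hfq, Submodule.mkQ_apply,
                  Submodule.mapQ_apply]
                rw [← Submodule.Quotient.mk_smul, ← Submodule.Quotient.mk_add]
                have : g u + s • f1 u = 0 := hu
                rw [this, Submodule.Quotient.mk_zero]
              have := hs.1 (hq.trans (map_zero _).symm)
              rw [Submodule.mkQ_apply, Submodule.Quotient.mk_eq_zero] at this
              exact huA this
            exact ⟨hinj, (LinearMap.injective_iff_surjective_of_finrank_eq_finrank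
              (by rw [hV, hW])).mp hinj⟩
        refine Set.Finite.subset ?_ hsub
        exact (hfin.preimage (fun a _ b _ hab => add_left_cancel hab)).union (Set.finite_singleton 0)
      obtain ⟨Vq, Wq, hVg, hVf, hlt⟩ := ih (V ⧸ A) (W ⧸ B) gq fq hVq hWq hfinq
      have hmapg : (Vq.comap A.mkQ).map g ≤ Wq.comap B.mkQ := by
        rintro _ ⟨x, hx, rfl⟩
        simp only [Submodule.mem_comap, SetLike.mem_coe] at hx ⊢
        exact hVg ⟨A.mkQ x, hx, rfl⟩
      have hmapf : (Vq.comap A.mkQ).map f1 ≤ Wq.comap B.mkQ := by
        rintro _ ⟨x, hx, rfl⟩
        simp only [Submodule.mem_comap, SetLike.mem_coe] at hx ⊢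
        exact hVf ⟨A.mkQ x, hx, rfl⟩
      refine ⟨Vq.comap A.mkQ, Wq.comap B.mkQ, ?_, hmapf, ?_⟩
      · rintro _ ⟨x, hx, rfl⟩
        have h1 : g x ∈ Wq.comap B.mkQ := hmapg ⟨x, hx, rfl⟩
        have h2 : f1 x ∈ Wq.comap B.mkQ := hmapf ⟨x, hx, rfl⟩
        have : f0 x = g x - t0 • f1 x := by simp [hg]
        rw [this]
        exact Submodule.sub_mem _ h1 (Submodule.smul_mem _ _ h2)
      · rw [finrank_comap_mkQ, finrank_comap_mkQ, hA1, hB1]
        omega


theorem exists_bijective_of_semistable (K : Type u) [Field K] [IsAlgClosed K]
    (V : Type v) (W : Type w)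
    [AddCommGroup V] [Module K V] [FiniteDimensional K V]
    [AddCommGroup W] [Module K W] [FiniteDimensional K W]
    (f : Fin 2 → (V →ₗ[K] W)) (k : ℕ)
    (hV : Module.finrank K V = k) (hW : Module.finrank K W = k)
    (hf : KronMod.IsSemistable f) :
    ∃ z : Fin 2 → K, Function.Bijective ((∑ j, z j • f j : V →ₗ[K] W) : V → W) := by
  by_contra hcon
  push Not at hcon
  have hempty : {t : K | Function.Bijective (f 0 + t • f 1)} = ∅ := by
    ext t
    simp only [Set.mem_ofPred_eq, Set.mem_empty_iff_false, iff_false]
    have := hcon ![1, t]
    simpa [Fin.sum_univ_two] using this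
  obtain ⟨V', W', h0, h1, hlt⟩ := bad_of_finite_bijective k V W (f 0) (f 1) hV hW
    (by rw [hempty]; exact Set.finite_empty)
  obtain ⟨hpos, hss⟩ := hf
  have hk : 0 < k := by omega
  have hsub : KronMod.IsSubrep f V' W' := by
    intro j
    fin_cases j
    · exact h0
    · exact h1
  have hne1 : ¬ (V' = ⊥ ∧ W' = ⊥) := by
    rintro ⟨rfl, -⟩
    simp at hlt
  have hne2 : ¬ (V' = ⊤ ∧ W' = ⊤) := by
    rintro ⟨rfl, rfl⟩
    rw [finrank_top, finrank_top, hV, hW] at hlt
    exact lt_irrefl _ hlt
  have := hss V' W' hsub hne1 hne2
  rw [hV, hW] at this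
  have := Nat.le_of_mul_le_mul_left this hk
  omega

end Groth.Agent.Helper29.Kron
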