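import Mathlib

set_option linter.unusedSectionVars false
set_option autoImplicit false

namespace Groth.Agent.Helper29.LaurentSub

open MvPowerSeries

universe u

variable {k : Type u} [Field k] {r : ℕ}

/-- power series with coefficients in a subfield -/
def T (F : Subfield k) : Subring (MvPowerSeries (Fin r) k) where
  carrier := {f | ∀ n, coeff n f ∈ F}
  mul_mem' := by
    intro a b ha hb n
    classical
    rw [coeff_mul]
    exact Subfield.sum_mem _ (fun p _ => F.mul_mem (ha _) (hb _))
  one_mem' := by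
    intro n
    classical
    rw [coeff_one]
    split_ifs
    · exact F.one_mem
    · exact F.zero_mem
  add_mem' := by
    intro a b ha hb n
    rw [map_add]
    exact F.add_mem (ha n) (hb n)
  zero_mem' := by
    intro n
    rw [map_zero]
    exact F.zero_mem
  neg_mem' := by
    intro a ha n
    rw [map_neg]
    exact F.neg_mem (ha n)

theorem mem_T (F : Subfield k) (f : MvPowerSeries (Fin r) k) :
    f ∈ T (r := r) F ↔ ∀ n, coeff n f ∈ F := Iff.rfl

/-- the subfield of the fraction field generated by power series over a subfield -/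
noncomputable def Lf (F : Subfield k) : Subfield (FractionRing (MvPowerSeries (Fin r) k)) :=
  Subfield.closure (algebraMap (MvPowerSeries (Fin r) k) (FractionRing (MvPowerSeries (Fin r) k)) ''
        {f | ∀ n, MvPowerSeries.coeff n f ∈ F})

theorem exists_of_mem_Lf (F : Subfield k) (x : FractionRing (MvPowerSeries (Fin r) k))
    (hx : x ∈ Lf (r := r) F) :
    ∃ a b : MvPowerSeries (Fin r) k, a ∈ T (r := r) F ∧ b ∈ T (r := r) F ∧ b ≠ 0 ∧
      x * algebraMap _ _ b = algebraMap _ _ a := by
  unfold Lf at hx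
  rw [Subfield.mem_closure_iff] at hx
  obtain ⟨y, hy, z, hz, rfl⟩ := hx
  have hcl : Subring.closure (algebraMap (MvPowerSeries (Fin r) k)
      (FractionRing (MvPowerSeries (Fin r) k)) '' {f | ∀ n, MvPowerSeries.coeff n f ∈ F}) =
      (T (r := r) F).map (algebraMap (MvPowerSeries (Fin r) k)
        (FractionRing (MvPowerSeries (Fin r) k))) := by
    have : (algebraMap (MvPowerSeries (Fin r) k)
      (FractionRing (MvPowerSeries (Fin r) k)) '' {f | ∀ n, MvPowerSeries.coeff n f ∈ F}) =
      (((T (r := r) F).map (algebraMap (MvPowerSeries (Fin r) k)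
        (FractionRing (MvPowerSeries (Fin r) k))) : Subring _) : Set _) := by
      ext w; rfl
    rw [this, Subring.closure_eq]
  rw [hcl] at hy hz
  obtain ⟨a, ha, rfl⟩ := hy
  obtain ⟨b, hb, rfl⟩ := hz
  by_cases hb0 : b = 0
  · subst hb0
    refine ⟨0, 1, zero_mem _, one_mem _, one_ne_zero, ?_⟩
    simp
  · refine ⟨a, b, ha, hb, hb0, ?_⟩
    have : algebraMap (MvPowerSeries (Fin r) k) (FractionRing (MvPowerSeries (Fin r) k)) b ≠ 0 := by
      intro h
      exact hb0 ((IsFractionRing.injective _ _) (by rw [h, map_zero]))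
    rw [div_mul_cancel₀ _ this]

theorem mem_Lf_of (F : Subfield k) (x : FractionRing (MvPowerSeries (Fin r) k))
    (a b : MvPowerSeries (Fin r) k) (ha : a ∈ T (r := r) F) (hb : b ∈ T (r := r) F) (hb0 : b ≠ 0)
    (h : x * algebraMap _ _ b = algebraMap _ _ a) : x ∈ Lf (r := r) F := by
  have hne : algebraMap (MvPowerSeries (Fin r) k) (FractionRing (MvPowerSeries (Fin r) k)) b ≠ 0 := by
    intro h
    exact hb0 ((IsFractionRing.injective _ _) (by rw [h, map_zero]))
  have hx : x = algebraMap _ _ a / algebraMap _ _ b := by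
    rw [eq_div_iff hne, h]
  rw [hx]
  unfold Lf
  exact div_mem (Subfield.subset_closure ⟨a, ha, rfl⟩) (Subfield.subset_closure ⟨b, hb, rfl⟩)

theorem pow_mem_T (F : Subfield k) (e : ℕ)
    (hq : ∀ x : k, x ^ ringExpChar k ^ e ∈ F) (g : MvPowerSeries (Fin r) k) :
    g ^ ringExpChar k ^ e ∈ T (r := r) F := by
  have hp : ringExpChar k ≠ 0 := (expChar_pos k (ringExpChar k)).ne'
  rw [← MvPowerSeries.map_iterateFrobenius_expand (ringExpChar k) hp g e]
  intro n
  rw [coeff_map]
  exact hq _

/-- coefficientwise projection is linear over power series with coefficients in the subfield -/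
theorem proj_argument (F : Subfield k) (a b G h : MvPowerSeries (Fin r) k)
    (ha : a ∈ T (r := r) F) (hb : b ∈ T (r := r) F) (hG : G ∈ T (r := r) F) (hb0 : b ≠ 0)
    (heq : h * b = a * G) : h ∈ T (r := r) F := by
  classical
  obtain ⟨π, hπ⟩ := LinearMap.exists_leftInverse_of_injective (Algebra.linearMap F k)
    (LinearMap.ker_eq_bot.mpr (FaithfulSMul.algebraMap_injective F k))
  have hπ' : ∀ c : F, π (c : k) = c := fun c => LinearMap.congr_fun hπ c
  let Pr : MvPowerSeries (Fin r) k → MvPowerSeries (Fin r) k := fun f n => ((π (coeff n f) : F) : k)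
  have hcoeff : ∀ f n, coeff n (Pr f) = ((π (coeff n f) : F) : k) := fun f n => rfl
  have hPrfix : ∀ s ∈ T (r := r) F, Pr s = s := by
    intro s hs
    ext n
    rw [hcoeff]
    have := hπ' ⟨coeff n s, hs n⟩
    rw [this]
  have hPrmul : ∀ s ∈ T (r := r) F, ∀ f, Pr (s * f) = s * Pr f := by
    intro s hs f
    ext n
    rw [hcoeff, coeff_mul, coeff_mul, map_sum]
    push_cast
    apply Finset.sum_congr rfl
    intro p _
    rw [hcoeff]
    have : coeff p.1 s * coeff p.2 f = (⟨coeff p.1 s, hs _⟩ : F) • coeff p.2 f := rfl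
    rw [this, map_smul]
    rfl
  have h1 : Pr (b * h) = b * Pr h := hPrmul b hb h
  have h2 : Pr (b * h) = b * h := by
    rw [mul_comm b h, heq]
    exact hPrfix _ (mul_mem ha hG)
  have h3 : Pr h = h := mul_left_cancel₀ hb0 (h1.symm.trans h2)
  intro n
  rw [← h3, hcoeff]
  exact (π (coeff n h)).2

theorem T_mono {F F' : Subfield k} (h : F ≤ F') : T (r := r) F ≤ T (r := r) F' :=
  fun _ hf n => h (hf n)

theorem main {ι : Type u} (F : ι → Subfield k) (e : ℕ)
    (hq : ∀ x : k, x ^ ringExpChar k ^ e ∈ ⨅ i, F i) :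
    (⨅ i, Subfield.closure (algebraMap (MvPowerSeries (Fin r) k)
        (FractionRing (MvPowerSeries (Fin r) k)) ''
        {f | ∀ n, MvPowerSeries.coeff n f ∈ F i})) =
      Subfield.closure (algebraMap (MvPowerSeries (Fin r) k)
        (FractionRing (MvPowerSeries (Fin r) k)) ''
        {f | ∀ n, MvPowerSeries.coeff n f ∈ ⨅ i, F i}) := by
  apply le_antisymm
  · intro x hx
    rw [Subfield.mem_iInf] at hx
    obtain ⟨f, g, hg0, rfl⟩ := IsFractionRing.div_surjective (A := MvPowerSeries (Fin r) k) x
    have hg0' : g ≠ 0 := nonZeroDivisors.ne_zero hg0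
    have hQpos : 0 < ringExpChar k ^ e := pow_pos (expChar_pos k (ringExpChar k)) e
    set Q := ringExpChar k ^ e with hQ
    have hG : g ^ Q ∈ T (r := r) (⨅ i, F i) := pow_mem_T _ e hq g
    have hG0 : g ^ Q ≠ 0 := pow_ne_zero _ hg0'
    have hgne : algebraMap (MvPowerSeries (Fin r) k) (FractionRing (MvPowerSeries (Fin r) k)) g ≠ 0 := by
      intro h
      exact hg0' ((IsFractionRing.injective _ _) (by rw [h, map_zero]))
    have hxeq : (algebraMap _ (FractionRing (MvPowerSeries (Fin r) k)) f / algebraMap _ _ g) *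
        algebraMap _ _ (g ^ Q) = algebraMap _ _ (f * g ^ (Q - 1)) := by
      have : g ^ Q = g * g ^ (Q - 1) := by
        rw [← pow_succ', Nat.sub_add_cancel hQpos]
      rw [this, map_mul, map_mul, div_mul_eq_mul_div, mul_div_assoc, mul_div_cancel_left₀ _ hgne]
    have hF' : f * g ^ (Q - 1) ∈ T (r := r) (⨅ i, F i) := by
      intro n
      rw [Subfield.mem_iInf]
      intro i
      obtain ⟨a, b, ha, hb, hb0, hab⟩ := exists_of_mem_Lf (F i) _ (hx i)
      have hGi : g ^ Q ∈ T (r := r) (F i) := T_mono (iInf_le F i) hG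
      have heq : (f * g ^ (Q - 1)) * b = a * g ^ Q := by
        apply IsFractionRing.injective (MvPowerSeries (Fin r) k)
          (FractionRing (MvPowerSeries (Fin r) k))
        rw [map_mul (algebraMap _ _) (f * g ^ (Q - 1)) b, map_mul (algebraMap _ _) a (g ^ Q),
          ← hxeq, ← hab]
        ring
      exact proj_argument (F i) a b (g ^ Q) _ ha hb hGi hb0 heq n
    exact mem_Lf_of _ _ _ _ hF' hG hG0 hxeq
  · refine le_iInf (fun i => ?_)
    apply Subfield.closure_mono
    apply Set.image_mono
    intro f hf n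
    exact (iInf_le F i) (hf n)

end Groth.Agent.Helper29.LaurentSub
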