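import Mathlib

set_option autoImplicit false
set_option linter.unusedSectionVars false
set_option linter.unusedVariables false
set_option linter.unusedSimpArgs false

namespace Groth.Agent.Helper29.LimProjA

open Matrix

universe u

/-- entries of powers of a matrix with entries in an ideal -/
theorem pow_entry_mem {R : Type*} [CommRing R] {r : ℕ} (I : Ideal R)
    (X : Matrix (Fin r) (Fin r) R) (hX : ∀ i j, X i j ∈ I) (m : ℕ) :
    ∀ i j, (X ^ (m + 1)) i j ∈ I ^ (m + 1) := by
  induction m with
  | zero => simpa using hX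
  | succ m ih =>
    intro i j
    rw [pow_succ X, Matrix.mul_apply, pow_succ I]
    exact Ideal.sum_mem _ fun l _ => Ideal.mul_mem_mul (ih i l) (hX l j)

/-- a matrix with nilpotent entries over a commutative ring is nilpotent -/
theorem isNilpotent_of_entries {R : Type*} [CommRing R] {r : ℕ}
    (X : Matrix (Fin r) (Fin r) R) (hX : ∀ i j, IsNilpotent (X i j)) : IsNilpotent X := by
  classical
  set I : Ideal R := Ideal.span (Set.range fun ij : Fin r × Fin r => X ij.1 ij.2) with hI
  have hfg : I.FG := ⟨(Finset.univ.image fun ij : Fin r × Fin r => X ij.1 ij.2), by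
    rw [hI]; congr 1; ext x; simp⟩
  have hnil : IsNilpotent I := by
    rw [Ideal.FG.isNilpotent_iff_le_nilradical hfg, hI, Ideal.span_le]
    rintro _ ⟨ij, rfl⟩
    exact (mem_nilradical).mpr (hX ij.1 ij.2)
  obtain ⟨N, hN⟩ := hnil
  refine ⟨N + 1, ?_⟩
  apply Matrix.ext
  intro i j
  have h1 := pow_entry_mem I X (fun i j => Ideal.subset_span ⟨(i, j), rfl⟩) N i j
  have h2 : I ^ (N + 1) = ⊥ := by rw [pow_succ, hN]; simp
  rw [h2] at h1
  simpa using h1

/-- idempotent matrices lift along surjections with nil kernel -/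
theorem exists_idempotent_lift {R S : Type*} [CommRing R] [CommRing S] (t : R →+* S)
    (ht : Function.Surjective t) (hnil : ∀ x : R, t x = 0 → IsNilpotent x) {r : ℕ}
    (e : Matrix (Fin r) (Fin r) S) (he : e * e = e) :
    ∃ e' : Matrix (Fin r) (Fin r) R, e' * e' = e' ∧ e'.map t = e := by
  have h1 : ∀ X ∈ RingHom.ker (t.mapMatrix (m := Fin r)), IsNilpotent X := by
    intro X hX
    apply isNilpotent_of_entries
    intro i j
    apply hnil
    have h0 : t.mapMatrix X = 0 := RingHom.mem_ker.mp hX
    have := congrArg (fun Y : Matrix (Fin r) (Fin r) S => Y i j) h0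
    simpa using this
  have h2 : e ∈ (t.mapMatrix (m := Fin r)).range := by
    choose f hf using ht
    exact ⟨Matrix.of fun i j => f (e i j), by
      apply Matrix.ext; intro i j; simp [hf]⟩
  obtain ⟨e', he', he''⟩ :=
    exists_isIdempotentElem_eq_of_ker_isNilpotent (t.mapMatrix (m := Fin r)) h1 e h2 he
  exact ⟨e', he'.eq, he''⟩

theorem vec_eq_sum {R : Type*} [CommRing R] {r : ℕ} (y : Fin r → R) :
    y = ∑ i, y i • (Pi.single i (1 : R) : Fin r → R) := by
  funext l
  simp [Finset.sum_apply, Pi.single_apply]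

/-- purity from flatness -/
theorem exists_kernel_combination {R : Type*} [CommRing R] {M : Type*} [AddCommGroup M]
    [Module R M] [Module.Flat R M] {r : ℕ}
    (ψ : (Fin r → R) →ₗ[R] M) (hψ : Function.Surjective ψ) (y : Fin r → R) (hy : ψ y = 0) :
    ∃ k : Fin r → (Fin r → R), (∀ i, ψ (k i) = 0) ∧ y = ∑ i, y i • k i := by
  have hsum : ∑ i, y i • ψ (Pi.single i (1 : R)) = 0 := by
    rw [← hy]
    conv_rhs => rw [vec_eq_sum y]
    rw [map_sum]
    simp only [map_smul]
  obtain ⟨k, a, z, h1, h2⟩ := Module.Flat.isTrivialRelation_of_sum_smul_eq_zero hsum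
  choose w hw using fun j => hψ (z j)
  refine ⟨fun i => Pi.single i (1 : R) - ∑ j, a i j • w j, fun i => ?_, ?_⟩
  · have h1i : ψ (Pi.single i (1 : R)) = ∑ j, a i j • z j := h1 i
    rw [map_sub, map_sum, h1i, sub_eq_zero]
    apply Finset.sum_congr rfl
    intro j _
    rw [map_smul, hw]
  · simp only [smul_sub, Finset.sum_sub_distrib, Finset.smul_sum, smul_smul]
    rw [← vec_eq_sum y, Finset.sum_comm]
    have : ∑ j, ∑ i, (y i * a i j) • w j = 0 := by
      apply Finset.sum_eq_zero
      intro j _
      rw [← Finset.sum_smul, h2 j, zero_smul]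
    rw [this, sub_zero]

end Groth.Agent.Helper29.LimProjA
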