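import Mathlib
import Groth.Agent.Lib.Helper29.LimProjA

set_option autoImplicit false
set_option linter.unusedSectionVars false
set_option linter.unusedVariables false
set_option linter.unusedSimpArgs false

namespace Groth.Agent.Helper29.LimProjB

open Matrix LimProjA

universe u

/-- a presentation of a module as image of an idempotent matrix -/
structure Stage (R : Type u) [CommRing R] (M : Type u) [AddCommGroup M] [Module R M] (r : ℕ) where
  e : Matrix (Fin r) (Fin r) R
  ψ : (Fin r → R) →ₗ[R] M
  idem : e * e = e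
  ψe : ∀ v, ψ (e.mulVec v) = ψ v
  surj : Function.Surjective ψ
  ker : ∀ v, ψ v = 0 → e.mulVec v = 0

theorem ker_le_jacobson {R S : Type*} [CommRing R] [CommRing S] (t : R →+* S)
    (hnil : ∀ x : R, t x = 0 → IsNilpotent x) : RingHom.ker t ≤ (⊥ : Ideal R).jacobson := by
  intro x hx
  have h1 : x ∈ (⊥ : Ideal R).radical := by
    change x ∈ nilradical R
    exact mem_nilradical.mpr (hnil x hx)
  exact Ideal.radical_le_jacobson h1

theorem exists_stage_zero {R : Type u} [CommRing R] {M : Type u} [AddCommGroup M] [Module R M]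
    [Module.Finite R M] [Module.Projective R M] : ∃ r : ℕ, Nonempty (Stage R M r) := by
  obtain ⟨r, f, g, hf, hg, hfg⟩ := Module.Finite.exists_comp_eq_id_of_projective R M
  refine ⟨r, ⟨{
    e := LinearMap.toMatrix' (g ∘ₗ f)
    ψ := f
    idem := ?_
    ψe := ?_
    surj := hf
    ker := ?_ }⟩⟩
  · rw [← LinearMap.toMatrix'_comp]
    congr 1
    apply LinearMap.ext; intro v
    simp only [LinearMap.comp_apply]
    have := LinearMap.congr_fun hfg (f v)
    simp only [LinearMap.comp_apply, LinearMap.id_apply] at this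
    rw [this]
  · intro v
    rw [← Matrix.toLin'_apply, Matrix.toLin'_toMatrix', LinearMap.comp_apply]
    exact LinearMap.congr_fun hfg (f v)
  · intro v hv
    rw [← Matrix.toLin'_apply, Matrix.toLin'_toMatrix', LinearMap.comp_apply, hv, map_zero]

theorem exists_lift {R S : Type u} [CommRing R] [CommRing S] (t : R →+* S)
    (ht : Function.Surjective t) (hnil : ∀ x : R, t x = 0 → IsNilpotent x)
    {M : Type u} [AddCommGroup M] [Module R M] [Module.Finite R M] [Module.Flat R M]
    {N : Type u} [AddCommGroup N] [Module S N] (u : M →ₛₗ[t] N)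
    (hu : Function.Surjective u)
    (hker : LinearMap.ker u = RingHom.ker t • (⊤ : Submodule R M))
    {r : ℕ} (s : Stage S N r) :
    ∃ s' : Stage R M r, s'.e.map t = s.e ∧ ∀ v, u (s'.ψ v) = s.ψ (fun i => t (v i)) := by
  classical
  obtain ⟨e', he', hte'⟩ := exists_idempotent_lift t ht hnil s.e s.idem
  choose m hm using fun i : Fin r => hu (s.ψ (Pi.single i 1))
  let ψ' : (Fin r → R) →ₗ[R] M := Fintype.linearCombination R m
  have hψ' : ∀ w, ψ' w = ∑ i, w i • m i := fun w => Fintype.linearCombination_apply R m w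
  let ψ : (Fin r → R) →ₗ[R] M := ψ' ∘ₗ Matrix.toLin' e'
  have hψdef : ∀ v, ψ v = ψ' (e'.mulVec v) := fun v => by
    simp only [ψ, LinearMap.comp_apply, Matrix.toLin'_apply]
  have hmap : ∀ v : Fin r → R,
      (fun i => t ((e'.mulVec v) i)) = s.e.mulVec (fun i => t (v i)) := by
    intro v; funext i; rw [RingHom.map_mulVec, hte']; rfl
  have hcompat' : ∀ w, u (ψ' w) = s.ψ (fun i => t (w i)) := by
    intro w
    rw [hψ', map_sum]
    simp only [LinearMap.map_smulₛₗ, hm]
    conv_rhs => rw [vec_eq_sum (fun i => t (w i))]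
    rw [map_sum]; simp only [map_smul]
  have hcompat : ∀ v, u (ψ v) = s.ψ (fun i => t (v i)) := by
    intro v
    rw [hψdef, hcompat', hmap, s.ψe]
  have hψe : ∀ v, ψ (e'.mulVec v) = ψ v := by
    intro v
    rw [hψdef, hψdef, Matrix.mulVec_mulVec, he']
  have hJ := ker_le_jacobson t hnil
  have hsurj : Function.Surjective ψ := by
    rw [← LinearMap.range_eq_top, eq_top_iff]
    apply Submodule.le_of_le_smul_of_le_jacobson_bot (Module.Finite.fg_top) hJ
    intro x _
    obtain ⟨w, hw⟩ := s.surj (u x)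
    choose w' hw' using fun i => ht (w i)
    have h1 : u (x - ψ w') = 0 := by
      rw [map_sub, hcompat, sub_eq_zero, ← hw]; congr 1; funext i; exact (hw' i).symm
    have h2 : x - ψ w' ∈ RingHom.ker t • (⊤ : Submodule R M) := by rw [← hker]; exact h1
    have : x = ψ w' + (x - ψ w') := by abel
    rw [this]
    exact Submodule.add_mem_sup (LinearMap.mem_range_self _ _) h2
  have hcoords : ∀ z : Fin r → R, ψ z = 0 → e'.mulVec z = z → ∀ l, z l ∈ RingHom.ker t := by
    intro z hz hez l
    have h1 : s.ψ (fun i => t (z i)) = 0 := by rw [← hcompat, hz, map_zero]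
    have h2 := s.ker _ h1
    have h3 := hmap z
    rw [hez, h2] at h3
    rw [RingHom.mem_ker]
    exact congrFun h3 l
  have hkerψ : ∀ v, ψ v = 0 → e'.mulVec v = 0 := by
    intro v hv
    set y := e'.mulVec v with hy
    have hyy : e'.mulVec y = y := by rw [hy, Matrix.mulVec_mulVec, he']
    have hψy : ψ y = 0 := by rw [hy, hψe, hv]
    obtain ⟨k, hk1, hk2⟩ := exists_kernel_combination ψ hsurj y hψy
    have hz : ∀ i l, (e'.mulVec (k i)) l ∈ RingHom.ker t := fun i =>
      hcoords _ (by rw [hψe]; exact hk1 i) (by rw [Matrix.mulVec_mulVec, he'])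
    have hy2 : ∀ l, y l = ∑ i, y i * (e'.mulVec (k i)) l := by
      intro l
      have h4 : y = ∑ i, y i • e'.mulVec (k i) := by
        conv_lhs => rw [← hyy, hk2]
        rw [Matrix.mulVec_sum]
        simp only [Matrix.mulVec_smul]
      conv_lhs => rw [h4]
      simp [Finset.sum_apply]
    set 𝔞 : Ideal R := Ideal.span (Set.range y) with h𝔞
    have hfg : (𝔞 : Submodule R R).FG := ⟨Finset.univ.image y, by simp [h𝔞]⟩
    have hle : 𝔞 ≤ RingHom.ker t • 𝔞 := by
      rw [h𝔞, Ideal.span_le]
      rintro _ ⟨l, rfl⟩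
      show y l ∈ _
      rw [hy2 l]
      apply Submodule.sum_mem; intro i _
      rw [mul_comm]
      exact Submodule.smul_mem_smul (hz i l) (Ideal.subset_span ⟨i, rfl⟩)
    have h0 := Submodule.eq_bot_of_le_smul_of_le_jacobson_bot (RingHom.ker t) 𝔞 hfg hle hJ
    funext l
    have : y l ∈ 𝔞 := Ideal.subset_span ⟨l, rfl⟩
    rw [h0] at this
    simpa using this
  exact ⟨⟨e', ψ, he', hψe, hsurj, hkerψ⟩, hte', hcompat⟩

end Groth.Agent.Helper29.LimProjB
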