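import Mathlib
import Groth.Agent.Lib.Helper29.LimProjB

set_option autoImplicit false
set_option linter.unusedSectionVars false
set_option linter.unusedVariables false
set_option linter.unusedSimpArgs false

namespace Groth.Agent.Helper29.LimProjC

open Matrix LimProjA LimProjB

universe u

/-- Mittag-Leffler for surjective towers -/
theorem exists_compatible_seq {X : ℕ → Type*} (f : ∀ k, X (k + 1) → X k)
    (hf : ∀ k, Function.Surjective (f k)) (n : ℕ) (a : X n) :
    ∃ x : ∀ k, X k, (∀ k, f k (x (k + 1)) = x k) ∧ x n = a := by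
  classical
  choose g hg using hf
  let up : ∀ m, n ≤ m → X m := fun m h =>
    Nat.leRec (motive := fun m _ => X m) a (fun k _ xk => g k xk) h
  let down : ∀ m, m ≤ n → X m := fun m h =>
    Nat.decreasingInduction (motive := fun m _ => X m) (fun k _ xk1 => f k xk1) a h
  have hup_self : up n le_rfl = a := Nat.leRec_self _ _
  have hup_succ : ∀ m (h : n ≤ m), up (m + 1) (Nat.le_succ_of_le h) = g m (up m h) :=
    fun m h => Nat.leRec_succ _ _ h
  have hdown_self : down n le_rfl = a := Nat.decreasingInduction_self _ _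
  have hdown_succ : ∀ m (h1 : m + 1 ≤ n) (h2 : m ≤ n), down m h2 = f m (down (m + 1) h1) :=
    fun m h1 h2 => Nat.decreasingInduction_succ_left _ _ h1 h2
  refine ⟨fun k => if h : k ≤ n then down k h else up k (le_of_not_ge h), ?_, ?_⟩
  · intro k
    by_cases h1 : k + 1 ≤ n
    · have h2 : k ≤ n := by omega
      simp only [dif_pos h1, dif_pos h2]
      exact (hdown_succ k h1 h2).symm
    · by_cases h2 : k ≤ n
      · have hkn : k = n := by omega
        subst hkn
        simp only [dif_neg h1, dif_pos h2]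
        rw [hup_succ k le_rfl, hg, hup_self, hdown_self]
      · simp only [dif_neg h1, dif_neg h2]
        rw [hup_succ k (le_of_not_ge h2), hg]
  · simp only [dif_pos (le_refl n)]
    exact hdown_self

section Tower

variable {A : Type u} [CommRing A] {An : ℕ → Type u} [∀ n, CommRing (An n)]
  (t : ∀ n, An (n + 1) →+* An n) (π : ∀ n, A →+* An n)
  {M : ℕ → Type u} [∀ n, AddCommGroup (M n)] [∀ n, Module (An n) (M n)]
  (u : ∀ n, M (n + 1) →ₛₗ[t n] M n)

theorem exists_tower (ht : ∀ n, Function.Surjective (t n))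
    (hnil : ∀ n (x : An (n + 1)), t n x = 0 → IsNilpotent x)
    (hfin : ∀ n, Module.Finite (An n) (M n)) (hflat : ∀ n, Module.Flat (An n) (M n))
    (hu : ∀ n, Function.Surjective (u n) ∧
      LinearMap.ker (u n) = RingHom.ker (t n) • (⊤ : Submodule (An (n + 1)) (M (n + 1))))
    {r : ℕ} (s0 : Stage (An 0) (M 0) r) :
    ∃ s : ∀ n, Stage (An n) (M n) r, ∀ n, (s (n + 1)).e.map (t n) = (s n).e ∧
      ∀ v, u n ((s (n + 1)).ψ v) = (s n).ψ (fun i => t n (v i)) := by
  have step : ∀ n (s : Stage (An n) (M n) r), ∃ s' : Stage (An (n + 1)) (M (n + 1)) r,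
      s'.e.map (t n) = s.e ∧ ∀ v, u n (s'.ψ v) = s.ψ (fun i => t n (v i)) := by
    intro n s
    have := hfin (n + 1)
    have := hflat (n + 1)
    exact exists_lift (t n) (ht n) (hnil n) (u n) (hu n).1 (hu n).2 s
  choose next hnext using step
  let s : ∀ n, Stage (An n) (M n) r := fun n =>
    Nat.rec (motive := fun n => Stage (An n) (M n) r) s0 (fun n sn => next n sn) n
  exact ⟨s, fun n => hnext n (s n)⟩

end Tower

end Groth.Agent.Helper29.LimProjC
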