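import Mathlib
import Groth.Agent.Lib.Helper29.LimProjC

set_option autoImplicit false
set_option linter.unusedSectionVars false
set_option linter.unusedVariables false
set_option linter.unusedSimpArgs false

namespace Groth.Agent.Helper29.LimProjD

open Matrix LimProjA LimProjB LimProjC

universe u

theorem main6923 (A : Type u) [CommRing A] (An : ℕ → Type u) [∀ n, CommRing (An n)]
    (t : ∀ n, An (n + 1) →+* An n) (π : ∀ n, A →+* An n)
    (ht : ∀ n, Function.Surjective (t n))
    (hnil : ∀ n (x : An (n + 1)), t n x = 0 → IsNilpotent x)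
    (hcomp : ∀ n, (t n).comp (π (n + 1)) = π n)
    (hinj : ∀ a b : A, (∀ n, π n a = π n b) → a = b)
    (hex : ∀ x : ∀ n, An n, (∀ n, t n (x (n + 1)) = x n) → ∃ a : A, ∀ n, π n a = x n)
    (M : ℕ → Type u) [∀ n, AddCommGroup (M n)] [∀ n, Module (An n) (M n)]
    (u : ∀ n, M (n + 1) →ₛₗ[t n] M n)
    [Module.Projective (An 0) (M 0)] (hfin : ∀ n, Module.Finite (An n) (M n))
    (hflat : ∀ n, Module.Flat (An n) (M n))
    (hu : ∀ n, Function.Surjective (u n) ∧
      LinearMap.ker (u n) = RingHom.ker (t n) • (⊤ : Submodule (An (n + 1)) (M (n + 1)))) :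
    ∃ (P : Type u) (_ : AddCommGroup P) (_ : Module A P) (p : ∀ n, P →ₛₗ[π n] M n),
      Module.Finite A P ∧ Module.Projective A P ∧ (∀ n (x : P), u n (p (n + 1) x) = p n x) ∧
      (∀ n, Function.Surjective (p n) ∧
        LinearMap.ker (p n) = RingHom.ker (π n) • (⊤ : Submodule A P)) ∧
      (∀ x : (∀ n, M n), (∀ n, u n (x (n + 1)) = x n) → ∃! q : P, ∀ n, p n q = x n) := by
  classical
  have := hfin 0
  obtain ⟨r, ⟨s0⟩⟩ := exists_stage_zero (R := An 0) (M := M 0)
  obtain ⟨s, hs⟩ := exists_tower t u ht hnil hfin hflat hu s0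
  have hπt : ∀ n a, t n (π (n + 1) a) = π n a := fun n a => by rw [← hcomp n]; rfl
  have hsmap : ∀ n i j, t n ((s (n + 1)).e i j) = (s n).e i j := by
    intro n i j
    have h1 := (hs n).1
    have := congrArg (fun Y : Matrix (Fin r) (Fin r) (An n) => Y i j) h1
    simpa using this
  have he_ex : ∀ i j, ∃ a : A, ∀ n, π n a = (s n).e i j := by
    intro i j
    exact hex (fun n => (s n).e i j) (fun n => hsmap n i j)
  choose e0 he0 using he_ex
  let e : Matrix (Fin r) (Fin r) A := Matrix.of e0
  have heπ : ∀ n, e.map (π n) = (s n).e := by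
    intro n; apply Matrix.ext; intro i j; simp [e, he0]
  have hee : e * e = e := by
    apply Matrix.ext; intro i j
    apply hinj; intro n
    have h1 : (e * e).map (π n) = e.map (π n) := by rw [Matrix.map_mul, heπ, (s n).idem]
    have := congrArg (fun Y : Matrix (Fin r) (Fin r) (An n) => Y i j) h1
    simpa using this
  have hπmv : ∀ n (v : Fin r → A),
      (fun i => π n ((e.mulVec v) i)) = (s n).e.mulVec (fun i => π n (v i)) := by
    intro n v; funext i; rw [RingHom.map_mulVec, heπ]; rfl
  have hvec : ∀ (v : ∀ n, Fin r → An n), (∀ n i, t n (v (n + 1) i) = v n i) →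
      ∃ q : Fin r → A, ∀ n i, π n (q i) = v n i := by
    intro v hv
    choose q hq using fun i => hex (fun n => v n i) (fun n => hv n i)
    exact ⟨q, fun n i => hq i n⟩
  let P : Submodule A (Fin r → A) := LinearMap.range (Matrix.toLin' e)
  have hPmem : ∀ x : Fin r → A, x ∈ P ↔ e.mulVec x = x := by
    intro x; constructor
    · rintro ⟨y, rfl⟩; rw [Matrix.toLin'_apply, Matrix.mulVec_mulVec, hee]
    · intro h; exact ⟨x, by rw [Matrix.toLin'_apply, h]⟩
  let p : ∀ n, P →ₛₗ[π n] M n := fun n =>
    { toFun := fun x => (s n).ψ (fun i => π n (x.1 i))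
      map_add' := fun x y => by
        rw [← map_add]; congr 1; funext i; simp
      map_smul' := fun a x => by
        rw [← map_smul]; congr 1; funext i; simp }
  have hp : ∀ n (x : P), p n x = (s n).ψ (fun i => π n (x.1 i)) := fun n x => rfl
  have hπsurj : ∀ n, Function.Surjective (π n) := by
    intro n a
    obtain ⟨x, hx1, hx2⟩ := exists_compatible_seq (X := An) (fun k => t k) ht n a
    obtain ⟨b, hb⟩ := hex x hx1
    exact ⟨b, by rw [hb, hx2]⟩
  refine ⟨P, inferInstance, inferInstance, p, ?_, ?_, ?_, ?_, ?_⟩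
  · exact Module.Finite.range _
  · apply Module.Projective.of_split (P.subtype) ((Matrix.toLin' e).rangeRestrict)
    apply LinearMap.ext; intro x
    apply Subtype.ext
    show (Matrix.toLin' e) x.1 = x.1
    rw [Matrix.toLin'_apply]; exact (hPmem x.1).mp x.2
  · intro n x
    rw [hp, hp, (hs n).2]
    congr 1; funext i; exact hπt n _
  · intro n
    constructor
    · intro m
      obtain ⟨v, hv⟩ := (s n).surj m
      choose w hw using fun i => hπsurj n (v i)
      refine ⟨⟨e.mulVec w, (hPmem _).mpr (by rw [Matrix.mulVec_mulVec, hee])⟩, ?_⟩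
      rw [hp]
      show (s n).ψ (fun i => π n ((e.mulVec w) i)) = m
      rw [hπmv, (s n).ψe, ← hv]; congr 1; funext i; exact hw i
    · apply le_antisymm
      · intro x hx
        rw [LinearMap.mem_ker, hp] at hx
        have h1 := (s n).ker _ hx
        have hxe : e.mulVec x.1 = x.1 := (hPmem x.1).mp x.2
        have h2 : ∀ i, π n (x.1 i) = 0 := by
          intro i
          have h3 := congrFun (hπmv n x.1) i
          rw [h1] at h3
          rw [hxe] at h3
          exact h3
        have hb : ∀ i, e.mulVec (Pi.single i 1) ∈ P := fun i =>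
          (hPmem _).mpr (by rw [Matrix.mulVec_mulVec, hee])
        have hx2 : x = ∑ i, x.1 i • (⟨e.mulVec (Pi.single i 1), hb i⟩ : P) := by
          apply Subtype.ext
          rw [Submodule.coe_sum]
          simp only [Submodule.coe_smul]
          conv_lhs => rw [← hxe, vec_eq_sum x.1]
          rw [Matrix.mulVec_sum]; simp only [Matrix.mulVec_smul]
        rw [hx2]
        apply Submodule.sum_mem; intro i _
        exact Submodule.smul_mem_smul (RingHom.mem_ker.mpr (h2 i)) Submodule.mem_top
      · rw [Submodule.smul_le]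
        intro a ha x _
        rw [LinearMap.mem_ker, LinearMap.map_smulₛₗ, RingHom.mem_ker.mp ha, zero_smul]
  · intro x hx
    choose w hw using fun n => (s n).surj (x n)
    let v : ∀ n, Fin r → An n := fun n => (s n).e.mulVec (w n)
    have hv1 : ∀ n, (s n).e.mulVec (v n) = v n := fun n => by
      simp only [v]; rw [Matrix.mulVec_mulVec, (s n).idem]
    have hv2 : ∀ n, (s n).ψ (v n) = x n := fun n => by
      simp only [v]; rw [(s n).ψe, hw]
    have hv3 : ∀ n, (fun i => t n (v (n + 1) i)) = v n := by
      intro n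
      have h1 : (fun i => t n (v (n + 1) i)) =
          (s n).e.mulVec (fun i => t n (w (n + 1) i)) := by
        funext i; simp only [v]; rw [RingHom.map_mulVec, (hs n).1]; rfl
      have h2 : (s n).ψ ((fun i => t n (v (n + 1) i)) - v n) = 0 := by
        rw [map_sub, ← (hs n).2, hv2, hv2, hx, sub_self]
      have h3 := (s n).ker _ h2
      have h4 : (s n).e.mulVec ((fun i => t n (v (n + 1) i)) - v n) =
          (fun i => t n (v (n + 1) i)) - v n := by
        rw [Matrix.mulVec_sub, hv1, h1, Matrix.mulVec_mulVec, (s n).idem]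
      rw [h4] at h3
      exact sub_eq_zero.mp h3
    obtain ⟨q, hq⟩ := hvec v (fun n i => congrFun (hv3 n) i)
    have hqv : ∀ n, (fun i => π n (q i)) = v n := fun n => funext (hq n)
    have hqe : e.mulVec q = q := by
      funext i; apply hinj; intro n
      have h5 := congrFun (hπmv n q) i
      rw [hqv, hv1] at h5
      rw [h5, ← hq n i]
    refine ⟨⟨q, (hPmem q).mpr hqe⟩, fun n => ?_, ?_⟩
    · rw [hp]
      show (s n).ψ (fun i => π n (q i)) = x n
      rw [hqv, hv2]
    · intro q' hq'
      apply Subtype.ext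
      funext i; apply hinj; intro n
      have hq'e : e.mulVec q'.1 = q'.1 := (hPmem q'.1).mp q'.2
      have h6 : (s n).ψ ((fun i => π n (q'.1 i)) - v n) = 0 := by
        have h7 := hq' n
        rw [hp] at h7
        rw [map_sub, h7, hv2, sub_self]
      have h8 := (s n).ker _ h6
      have h9 : (s n).e.mulVec (fun i => π n (q'.1 i)) = fun i => π n (q'.1 i) := by
        have := hπmv n q'.1
        rw [hq'e] at this
        exact this.symm
      rw [Matrix.mulVec_sub, h9, hv1] at h8
      have h10 := congrFun (sub_eq_zero.mp h8) i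
      show π n (q'.1 i) = π n (q i)
      rw [h10, hq n i]

end Groth.Agent.Helper29.LimProjD
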