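import Mathlib

/-!
# Linear algebra lemma for exact points of linked Grassmannians over a field
-/

namespace Groth.Agent.Helper29.LinkedGrass

theorem lg_lemma {K M : Type*} [Field K] [AddCommGroup M] [Module K M] [FiniteDimensional K M]
    (f' g' : M →ₗ[K] M) (hgf : g' ∘ₗ f' = 0) (hfg : f' ∘ₗ g' = 0) (V W : Submodule K M) (r : ℕ)
    (hV : Module.finrank K V = r) (hW : Module.finrank K W = r)
    (hfV : V.map f' ≤ W) (hgW : W.map g' ≤ V) :
    (LinearMap.ker g' ⊓ W ≤ V.map f' ∧ LinearMap.ker f' ⊓ V ≤ W.map g') ↔
      Module.finrank K (V.map f') + Module.finrank K (W.map g') = r := by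
  have rn : ∀ (h : M →ₗ[K] M) (U : Submodule K M),
      Module.finrank K (U.map h) + Module.finrank K (LinearMap.ker h ⊓ U : Submodule K M)
        = Module.finrank K U := by
    intro h U
    have := (h.domRestrict U).finrank_range_add_finrank_ker
    rw [LinearMap.range_domRestrict, LinearMap.ker_domRestrict] at this
    rw [← this, ← Submodule.finrank_map_subtype_eq U ((LinearMap.ker h).comap U.subtype),
      Submodule.map_comap_subtype, inf_comm]
  have h1 : V.map f' ≤ LinearMap.ker g' ⊓ W := by
    refine le_inf ?_ hfV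
    rintro _ ⟨x, -, rfl⟩
    rw [LinearMap.mem_ker]
    exact LinearMap.congr_fun hgf x
  have h2 : W.map g' ≤ LinearMap.ker f' ⊓ V := by
    refine le_inf ?_ hgW
    rintro _ ⟨x, -, rfl⟩
    rw [LinearMap.mem_ker]
    exact LinearMap.congr_fun hfg x
  have e1 := rn f' V
  have e2 := rn g' W
  rw [hV] at e1
  rw [hW] at e2
  constructor
  · rintro ⟨_, hb⟩
    have : LinearMap.ker f' ⊓ V = W.map g' := le_antisymm hb h2
    rw [this] at e1
    exact e1
  · intro hsum
    have c1 : Module.finrank K (V.map f')
        = Module.finrank K (LinearMap.ker g' ⊓ W : Submodule K M) := by omega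
    have c2 : Module.finrank K (W.map g')
        = Module.finrank K (LinearMap.ker f' ⊓ V : Submodule K M) := by omega
    exact ⟨(Submodule.eq_of_le_of_finrank_eq h1 c1).ge,
      (Submodule.eq_of_le_of_finrank_eq h2 c2).ge⟩

end Groth.Agent.Helper29.LinkedGrass
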