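import Mathlib
import Groth.Prelude.Def_ModSite
import Groth.Prelude.Def_AlgSpPerf
import Groth.Agent.Lib.Helper17.MT20
import Groth.Agent.Lib.Helper17.MT26
import Groth.Agent.Lib.Helper17.FS2
import Groth.Agent.Lib.Helper24.Supp8

/-!
# Restriction of local morphisms of modules on a ringed site, and local lifting of local maps
-/

open CategoryTheory Limits Opposite

namespace Groth.Agent.Helper29.LocLiftA

open Groth.Agent.Helper17.MT Groth.Agent.Helper17.FS

universe u

variable {C : Type u} [SmallCategory C] {J : GrothendieckTopology C} (O : Sheaf J CommRingCat.{u})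

section ResMap

variable {W W' : C} (g : W' ⟶ W)

/-- the comparison `(-)|_W |_{W'} ≅ (-)|_{W'}` -/
noncomputable abbrev θ : ModSite.restr O W ⋙ oMod O g ≅ ModSite.restr O W' :=
  SheafOfModules.overFunctorMap.{u} (ModSite.ringSh O) g

/-- restriction along `g : W' ⟶ W` of a morphism between restrictions to `W` of global modules -/
noncomputable def resMap {E F : ModSite.Mod O}
    (ψ : (ModSite.restr O W).obj E ⟶ (ModSite.restr O W).obj F) :
    (ModSite.restr O W').obj E ⟶ (ModSite.restr O W').obj F :=
  (θ O g).inv.app E ≫ (oMod O g).map ψ ≫ (θ O g).hom.app F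

theorem resMap_map {E F : ModSite.Mod O} (φ : E ⟶ F) :
    resMap O g ((ModSite.restr O W).map φ) = (ModSite.restr O W').map φ := by
  unfold resMap
  have h := (θ O g).hom.naturality φ
  rw [Functor.comp_map] at h
  rw [h, ← Category.assoc, Iso.inv_hom_id_app, Category.id_comp]

theorem resMap_comp {E F G : ModSite.Mod O}
    (ψ : (ModSite.restr O W).obj E ⟶ (ModSite.restr O W).obj F)
    (ψ' : (ModSite.restr O W).obj F ⟶ (ModSite.restr O W).obj G) :
    resMap O g (ψ ≫ ψ') = resMap O g ψ ≫ resMap O g ψ' := by
  unfold resMap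
  simp only [Functor.map_comp, Category.assoc, Iso.hom_inv_id_app_assoc]

theorem resMap_id (E : ModSite.Mod O) :
    resMap O g (𝟙 ((ModSite.restr O W).obj E)) = 𝟙 _ := by
  unfold resMap
  simp

theorem resMap_add {E F : ModSite.Mod O}
    (ψ ψ' : (ModSite.restr O W).obj E ⟶ (ModSite.restr O W).obj F) :
    resMap O g (ψ + ψ') = resMap O g ψ + resMap O g ψ' := by
  unfold resMap
  rw [Functor.map_add, Preadditive.add_comp, Preadditive.comp_add]

theorem resMap_sub {E F : ModSite.Mod O}
    (ψ ψ' : (ModSite.restr O W).obj E ⟶ (ModSite.restr O W).obj F) :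
    resMap O g (ψ - ψ') = resMap O g ψ - resMap O g ψ' := by
  unfold resMap
  rw [Functor.map_sub, Preadditive.sub_comp, Preadditive.comp_sub]

theorem resMap_zero (E F : ModSite.Mod O) :
    resMap O g (0 : (ModSite.restr O W).obj E ⟶ (ModSite.restr O W).obj F) = 0 := by
  unfold resMap
  rw [Functor.map_zero, zero_comp, comp_zero]

/-- evaluating the restriction of a map out of the unit -/
theorem resMap_unit_eval {F : ModSite.Mod O}
    (σ : (ModSite.restr O W).obj (ModSite.unit O) ⟶ (ModSite.restr O W).obj F) :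
    (resMap O g σ).val.app (op (Over.mk (𝟙 W')))
        (1 : (ModSite.ringSh (O.over W')).obj.obj (op (Over.mk (𝟙 W')))) =
      res F g ((show ModSite.unit (O.over W) ⟶ (ModSite.restr O W).obj F from σ).val.app
        (op (Over.mk (𝟙 W))) (1 : (ModSite.ringSh (O.over W)).obj.obj (op (Over.mk (𝟙 W))))) := by
  have h1 := unit_app_one (O.over W) Over.mkIdTerminal ((ModSite.restr O W).obj F)
    (show ModSite.unit (O.over W) ⟶ (ModSite.restr O W).obj F from σ)
    ((Over.map g).obj (Over.mk (𝟙 W')))
  rw [restr_map_from] at h1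
  exact h1

end ResMap

section Lift

/-- Local lifting of a *local* morphism out of a summand of a finite free module through a
(global) epimorphism. -/
theorem localLift (E F G : ModSite.Mod O)
    (hE : DCoh.IsFinFreeSummandMod (ModSite.ringSh O) E)
    (p : G ⟶ F) [Epi p] {W : C}
    (ψ : (ModSite.restr O W).obj E ⟶ (ModSite.restr O W).obj F) :
    ∃ S ∈ J W, ∀ ⦃W' : C⦄ (g : W' ⟶ W), S g →
      ∃ l : (ModSite.restr O W').obj E ⟶ (ModSite.restr O W').obj G,
        l ≫ (ModSite.restr O W').map p = resMap O g ψ := by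
  obtain ⟨n, i, q, hiq⟩ := hE
  have hp : Presheaf.IsLocallySurjective J
      ((SheafOfModules.toSheaf.{u} (ModSite.ringSh O)).map p).hom :=
    (epi_iff_isLocallySurjective p).mp inferInstance
  -- the morphisms from the unit and their sections over `W`
  let ψk : ULift.{u} (Fin n) →
      ((ModSite.restr O W).obj (ModSite.unit O) ⟶ (ModSite.restr O W).obj F) := fun k =>
    (ModSite.restr O W).map (SheafOfModules.ιFree (R := ModSite.ringSh O) k ≫ q) ≫ ψ
  let f : ULift.{u} (Fin n) → F.val.obj (op W) := fun k =>
    (show ModSite.unit (O.over W) ⟶ (ModSite.restr O W).obj F from ψk k).val.app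
      (op (Over.mk (𝟙 W))) (1 : (ModSite.ringSh (O.over W)).obj.obj (op (Over.mk (𝟙 W))))
  refine ⟨allSieve (fun k => Presheaf.imageSieve
    ((SheafOfModules.toSheaf.{u} (ModSite.ringSh O)).map p).hom (f (ULift.up k))),
    allSieve_mem _ (fun k => Presheaf.imageSieve_mem J
      ((SheafOfModules.toSheaf.{u} (ModSite.ringSh O)).map p).hom (U := op W) (f (ULift.up k))), ?_⟩
  intro W' g hg
  choose t ht using hg
  have ht' : ∀ k, p.val.app (op W') (t k) = res F g (f (ULift.up k)) := ht
  have key : ∀ k : ULift.{u} (Fin n),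
      (hatEquiv (O.over W') Over.mkIdTerminal ((ModSite.restr O W').obj G) (t k.down) :
        ModSite.unit (O.over W') ⟶ (ModSite.restr O W').obj G) ≫ (ModSite.restr O W').map p =
      (show ModSite.unit (O.over W') ⟶ (ModSite.restr O W').obj F from
        resMap O g (ψk k)) := by
    intro k
    apply unit_hom_ext (O.over W') Over.mkIdTerminal
    have e1 : (hatEquiv (O.over W') Over.mkIdTerminal ((ModSite.restr O W').obj G)
        (t k.down)).val.app
        (op (Over.mk (𝟙 W'))) (1 : (ModSite.ringSh (O.over W')).obj.obj (op (Over.mk (𝟙 W')))) =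
        t k.down := evalOne_homOfSection (O.over W') Over.mkIdTerminal _ _
    refine Eq.trans ?_ (resMap_unit_eval O g (ψk k)).symm
    change p.val.app (op W') ((hatEquiv (O.over W') Over.mkIdTerminal
      ((ModSite.restr O W').obj G) (t k.down)).val.app
        (op (Over.mk (𝟙 W'))) (1 : (ModSite.ringSh (O.over W')).obj.obj (op (Over.mk (𝟙 W'))))) =
      res F g (f k)
    rw [e1]
    exact ht' k.down
  refine ⟨(ModSite.restr O W').map i ≫ ∑ k : ULift.{u} (Fin n),
    (show (ModSite.restr O W').obj
        (SheafOfModules.free (R := ModSite.ringSh O) (ULift.{u} (Fin n))) ⟶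
        ModSite.unit (O.over W') from (ModSite.restr O W').map (freeπ (ModSite.ringSh O) k)) ≫
      hatEquiv (O.over W') Over.mkIdTerminal ((ModSite.restr O W').obj G) (t k.down), ?_⟩
  rw [Category.assoc, Preadditive.sum_comp]
  have h3 : ∀ k : ULift.{u} (Fin n),
      ((show (ModSite.restr O W').obj
          (SheafOfModules.free (R := ModSite.ringSh O) (ULift.{u} (Fin n))) ⟶
        ModSite.unit (O.over W') from (ModSite.restr O W').map (freeπ (ModSite.ringSh O) k)) ≫
      hatEquiv (O.over W') Over.mkIdTerminal ((ModSite.restr O W').obj G) (t k.down)) ≫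
        (ModSite.restr O W').map p =
      (ModSite.restr O W').map (freeπ (ModSite.ringSh O) k ≫
        SheafOfModules.ιFree (R := ModSite.ringSh O) k ≫ q) ≫ resMap O g ψ := by
    intro k
    rw [Category.assoc, key k]
    change (ModSite.restr O W').map (freeπ (ModSite.ringSh O) k) ≫ resMap O g (ψk k) = _
    change _ ≫ resMap O g ((ModSite.restr O W).map
      (SheafOfModules.ιFree (R := ModSite.ringSh O) k ≫ q) ≫ ψ) = _
    rw [resMap_comp, resMap_map, ← Category.assoc, ← Functor.map_comp]
  rw [Finset.sum_congr rfl (fun k _ => h3 k), ← Preadditive.sum_comp, ← Functor.map_sum,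
    ← Category.assoc, ← Functor.map_comp]
  have h4 : ∑ k : ULift.{u} (Fin n), freeπ (ModSite.ringSh O) k ≫
      SheafOfModules.ιFree (R := ModSite.ringSh O) k ≫ q =
      (∑ k : ULift.{u} (Fin n), freeπ (ModSite.ringSh O) k ≫
        SheafOfModules.ιFree (R := ModSite.ringSh O) k) ≫ q := by
    rw [Preadditive.sum_comp]
    exact Finset.sum_congr rfl (fun k _ => (Category.assoc _ _ _).symm)
  rw [h4, sum_freeπ_ιFree, Category.id_comp, hiq, CategoryTheory.Functor.map_id, Category.id_comp]

end Lift

end Groth.Agent.Helper29.LocLiftA
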