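import Mathlib
import Groth.Agent.Lib.Helper29.LocLiftA

/-!
# Local null-homotopies of maps from strictly perfect complexes into complexes exact in high degrees
-/

open CategoryTheory Limits Opposite

namespace Groth.Agent.Helper29.LocLiftB

open Groth.Agent.Helper17.MT Groth.Agent.Helper17.FS Groth.Agent.Helper29.LocLiftA

universe u

variable {C : Type u} [SmallCategory C] {J : GrothendieckTopology C} (O : Sheaf J CommRingCat.{u})
variable (P K : CochainComplex (ModSite.Mod O) ℤ)

/-- pre-homotopies over `W` -/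
abbrev PreH (W : C) : Type u :=
  ∀ i j : ℤ, (ModSite.restr O W).obj (P.X i) ⟶ (ModSite.restr O W).obj (K.X j)

variable {O P K}

/-- the defect of a pre-homotopy from being a null-homotopy of `α` -/
noncomputable def defect (α : P ⟶ K) {W : C} (H : PreH O P K W) (i j k : ℤ) :
    (ModSite.restr O W).obj (P.X j) ⟶ (ModSite.restr O W).obj (K.X j) :=
  (ModSite.restr O W).map (α.f j) - (ModSite.restr O W).map (P.d j k) ≫ H k j -
    H j i ≫ (ModSite.restr O W).map (K.d i j)

/-- restriction of pre-homotopies -/
noncomputable def resPre {W W' : C} (g : W' ⟶ W) (H : PreH O P K W) : PreH O P K W' :=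
  fun i j => resMap O g (H i j)

theorem defect_resPre (α : P ⟶ K) {W W' : C} (g : W' ⟶ W) (H : PreH O P K W) (i j k : ℤ) :
    defect α (resPre g H) i j k = resMap O g (defect α H i j k) := by
  unfold defect resPre
  rw [resMap_sub, resMap_sub, resMap_comp, resMap_comp, resMap_map, resMap_map, resMap_map]

/-- a pre-homotopy with a single nonzero entry -/
noncomputable def single {W : C} (b c : ℤ)
    (l : (ModSite.restr O W).obj (P.X b) ⟶ (ModSite.restr O W).obj (K.X c)) : PreH O P K W :=
  fun i j => if hi : i = b then if hj : j = c then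
    eqToHom (by rw [hi]) ≫ l ≫ eqToHom (by rw [hj]) else 0 else 0

theorem single_self {W : C} (b c : ℤ)
    (l : (ModSite.restr O W).obj (P.X b) ⟶ (ModSite.restr O W).obj (K.X c)) :
    single b c l b c = l := by
  simp [single]

theorem single_of_ne_left {W : C} (b c : ℤ)
    (l : (ModSite.restr O W).obj (P.X b) ⟶ (ModSite.restr O W).obj (K.X c)) (i j : ℤ)
    (h : i ≠ b) : single b c l i j = 0 := by
  simp [single, h]

theorem single_of_ne_right {W : C} (b c : ℤ)
    (l : (ModSite.restr O W).obj (P.X b) ⟶ (ModSite.restr O W).obj (K.X c)) (i j : ℤ)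
    (h : j ≠ c) : single b c l i j = 0 := by
  simp [single, h]

theorem defect_add (α : P ⟶ K) {W : C} (H H' : PreH O P K W) (i j k : ℤ) :
    defect α (H + H') i j k = defect α H i j k -
      (ModSite.restr O W).map (P.d j k) ≫ H' k j - H' j i ≫ (ModSite.restr O W).map (K.d i j) := by
  unfold defect
  simp only [Pi.add_apply, Preadditive.comp_add, Preadditive.add_comp]
  abel

variable (α : P ⟶ K) (a : ℤ)
  (hP : ∀ j : ℤ, DCoh.IsFinFreeSummandMod (ModSite.ringSh O) (P.X j))
  (hPa : ∀ j : ℤ, j < a → IsZero (P.X j))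
  (hK : ∀ j : ℤ, a ≤ j → K.ExactAt j)

include hP hPa hK in
theorem claim (n : ℕ) : ∀ (W : C) (H : PreH O P K W) (b : ℤ), b < a + n →
    (∀ i j k : ℤ, i + 1 = j → j + 1 = k → b < j → defect α H i j k = 0) →
    ∃ S ∈ J W, ∀ ⦃W' : C⦄ (g : W' ⟶ W), S g →
      ∃ H' : PreH O P K W', ∀ i j k : ℤ, i + 1 = j → j + 1 = k → defect α H' i j k = 0 := by
  induction n with
  | zero =>
    intro W H b hb hH
    refine ⟨⊤, J.top_mem W, ?_⟩
    intro W' g _
    refine ⟨resPre g H, ?_⟩
    intro i j k hij hjk
    by_cases hj : b < j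
    · rw [defect_resPre, hH i j k hij hjk hj, resMap_zero]
    · have hz : IsZero (P.X j) := hPa j (by simp at hb; omega)
      exact ((ModSite.restr O W').map_isZero hz).eq_of_src _ _
  | succ n ih =>
    intro W H b hb hH
    by_cases hb' : b < a + n
    · exact ih W H b hb' hH
    have hba : a ≤ b := by omega
    -- the defect in degree `b`
    set δ := defect α H (b - 1) b (b + 1) with hδ
    have hδd : δ ≫ (ModSite.restr O W).map (K.d b (b + 1)) = 0 := by
      have h1 := hH b (b + 1) (b + 1 + 1) rfl rfl (by omega)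
      unfold defect at h1
      rw [sub_eq_zero, sub_eq_iff_eq_add] at h1
      rw [hδ]
      unfold defect
      simp only [Preadditive.sub_comp, Category.assoc]
      rw [← Functor.map_comp, ← Functor.map_comp, K.d_comp_d, Functor.map_zero, comp_zero,
        sub_zero, α.comm b (b + 1), Functor.map_comp, h1]
      simp only [Preadditive.comp_add]
      rw [← Category.assoc ((ModSite.restr O W).map (P.d b (b + 1)))
        ((ModSite.restr O W).map (P.d (b + 1) (b + 1 + 1))), ← Functor.map_comp, P.d_comp_d,
        Functor.map_zero, zero_comp]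
      simp
    -- factor through the cycles
    have hker := KernelFork.mapIsLimit _ (K.cyclesIsKernel b (b + 1) (by simp))
      (ModSite.restr O W)
    obtain ⟨δ', hδ''⟩ : ∃ δ' : (ModSite.restr O W).obj (P.X b) ⟶
        (ModSite.restr O W).obj (K.cycles b),
        δ' ≫ (ModSite.restr O W).map (K.iCycles b) = δ :=
      ⟨(KernelFork.IsLimit.lift' hker δ hδd).1, (KernelFork.IsLimit.lift' hker δ hδd).2⟩
    -- `toCycles` is an epimorphism
    have hepi : Epi (K.toCycles (b - 1) b) := by
      refine Preadditive.epi_of_isZero_cokernel' _ (K.homologyIsCokernel (b - 1) b (by simp)) ?_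
      exact (HomologicalComplex.exactAt_iff_isZero_homology _ _).1 (hK b hba)
    obtain ⟨S, hS, hS'⟩ := localLift O (P.X b) (K.cycles b) (K.X (b - 1)) (hP b)
      (K.toCycles (b - 1) b) δ'
    -- apply the induction hypothesis
    have hstep : ∀ ⦃W' : C⦄ (g : W' ⟶ W), S g →
        ∃ T ∈ J W', ∀ ⦃W'' : C⦄ (g' : W'' ⟶ W'), T g' →
          ∃ H' : PreH O P K W'', ∀ i j k : ℤ, i + 1 = j → j + 1 = k →
            defect α H' i j k = 0 := by
      intro W' g hg
      obtain ⟨l, hl⟩ := hS' g hg
      have hl' : l ≫ (ModSite.restr O W').map (K.d (b - 1) b) = resMap O g δ := by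
        rw [← K.toCycles_i (b - 1) b, Functor.map_comp, ← Category.assoc, hl, ← hδ'',
          resMap_comp, resMap_map]
      refine ih W' (resPre g H + single b (b - 1) l) (b - 1) (by push_cast at hb ⊢; omega) ?_
      intro i j k hij hjk hj
      rw [defect_add, defect_resPre]
      by_cases hjb : j = b
      · subst hjb
        obtain rfl : i = j - 1 := by omega
        obtain rfl : k = j + 1 := by omega
        rw [single_of_ne_left _ _ _ _ _ (by omega : j + 1 ≠ j), comp_zero, sub_zero,
          single_self, hl', sub_self]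
      · rw [single_of_ne_left _ _ _ j i hjb, zero_comp, sub_zero,
          single_of_ne_right _ _ _ k j (by omega), comp_zero, sub_zero,
          hH i j k hij hjk (by omega), resMap_zero]
    choose T hT hT' using hstep
    refine ⟨Sieve.bind S (fun W' g hg => T g hg), J.bind_covering hS (fun W' g hg => hT g hg), ?_⟩
    rintro W'' _ ⟨W', g', g, hg, hg', rfl⟩
    exact hT' g hg g' hg'

/-- a pre-homotopy of zero defect gives a null-homotopy -/
noncomputable def homotopyOfPre {W : C} (H : PreH O P K W)
    (hH : ∀ i j k : ℤ, i + 1 = j → j + 1 = k → defect α H i j k = 0) :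
    Homotopy (((ModSite.restr O W).mapHomologicalComplex (ComplexShape.up ℤ)).map α) 0 where
  hom i j := if j + 1 = i then H i j else 0
  zero i j hij := by
    rw [if_neg]
    exact hij
  comm j := by
    rw [dNext_eq _ (show (ComplexShape.up ℤ).Rel j (j + 1) from rfl),
      prevD_eq _ (show (ComplexShape.up ℤ).Rel (j - 1) j by simp)]
    rw [if_pos rfl, if_pos (by omega : j - 1 + 1 = j)]
    have h := hH (j - 1) j (j + 1) (by omega) rfl
    unfold defect at h
    rw [sub_eq_zero, sub_eq_iff_eq_add] at h
    simp only [Functor.mapHomologicalComplex_map_f, Functor.mapHomologicalComplex_obj_d,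
      HomologicalComplex.zero_f, add_zero]
    rw [h, add_comm]
    rfl

include hP hPa hK in
theorem lemma5 (hb : ∃ b : ℤ, ∀ j : ℤ, b < j → IsZero (P.X j)) (V : C) :
    ∃ S ∈ J V, ∀ ⦃W : C⦄ (g : W ⟶ V), S g →
      Nonempty (Homotopy (((ModSite.restr O W).mapHomologicalComplex (ComplexShape.up ℤ)).map α)
        0) := by
  obtain ⟨b, hb⟩ := hb
  obtain ⟨S, hS, hS'⟩ := claim α a hP hPa hK (b - a + 1).toNat V (0 : PreH O P K V) b
    (by have := Int.self_le_toNat (b - a + 1); omega)
    (fun i j k _ _ hj => ((ModSite.restr O V).map_isZero (hb j hj)).eq_of_src _ _)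
  refine ⟨S, hS, ?_⟩
  intro W g hg
  obtain ⟨H', hH'⟩ := hS' g hg
  exact ⟨homotopyOfPre α H' hH'⟩

end Groth.Agent.Helper29.LocLiftB
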