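import Mathlib
import Groth.Agent.Lib.Helper29.LocLiftB

/-!
# Local lifting up to homotopy of maps from strictly perfect complexes
-/

open CategoryTheory Limits Opposite CochainComplex

namespace Groth.Agent.Helper29.LocLiftC

open Groth.Agent.Helper29.LocLiftA Groth.Agent.Helper29.LocLiftB

universe u v

section cone

attribute [local instance] HasDerivedCategory.standard

variable {A : Type u} [Category.{v} A] [Abelian A]

/-- the cone of a map inducing isomorphisms on `H^j` for `j > a` and an epimorphism on `H^a`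
is exact in degrees `≥ a` -/
theorem cone_exactAt {G F : CochainComplex A ℤ} (f : G ⟶ F) (a : ℤ)
    (hiso : ∀ j : ℤ, a < j → IsIso (HomologicalComplex.homologyMap f j))
    (hepi : Epi (HomologicalComplex.homologyMap f a)) (j : ℤ) (hj : a ≤ j) :
    (mappingCone f).ExactAt j := by
  have hT := DerivedCategory.mappingCone_triangle_distinguished f
  rw [HomologicalComplex.exactAt_iff_isZero_homology]
  have hepi' : Epi (HomologicalComplex.homologyMap f j) := by
    rcases eq_or_lt_of_le hj with rfl | h
    · exact hepi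
    · have := hiso j h
      infer_instance
  have hmono : Mono (HomologicalComplex.homologyMap f (j + 1)) := by
    have := hiso (j + 1) (by omega)
    infer_instance
  have e2 := CochainComplex.homologyMap_exact₂_of_distTriang _ hT j
  have e3 := CochainComplex.homologyMap_exact₃_of_distTriang _ hT j (j + 1) rfl
  have e1 := CochainComplex.homologyMap_exact₁_of_distTriang _ hT j (j + 1) rfl
  exact e3.isZero_X₂ (e2.epi_f_iff.1 hepi') (e1.mono_g_iff.1 hmono)

end cone

section general

variable {A : Type*} [Category A] [Abelian A] {B : Type*} [Category B] [Abelian B]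
  (R : A ⥤ B) [R.Additive]

/-- if `R(α ≫ inr f)` is null-homotopic then `R α` lifts through `R f` up to homotopy -/
theorem exists_lift_of_homotopy {E F G : CochainComplex A ℤ} (α : E ⟶ F) (f : G ⟶ F)
    (h : Homotopy ((R.mapHomologicalComplex (ComplexShape.up ℤ)).map (α ≫ mappingCone.inr f)) 0) :
    ∃ β : (R.mapHomologicalComplex (ComplexShape.up ℤ)).obj E ⟶
        (R.mapHomologicalComplex (ComplexShape.up ℤ)).obj G,
      Nonempty (Homotopy (β ≫ (R.mapHomologicalComplex (ComplexShape.up ℤ)).map f)
        ((R.mapHomologicalComplex (ComplexShape.up ℤ)).map α)) := by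
  have hT : (R.mapHomotopyCategory (ComplexShape.up ℤ)).mapTriangle.obj
      (mappingCone.triangleh f) ∈ distTriang _ :=
    (R.mapHomotopyCategory (ComplexShape.up ℤ)).map_distinguished _
      (HomotopyCategory.mappingCone_triangleh_distinguished f)
  have hn2 := (R.mapHomotopyCategoryFactors (ComplexShape.up ℤ)).inv.naturality
    (mappingCone.inr f)
  have hn1 := (R.mapHomotopyCategoryFactors (ComplexShape.up ℤ)).hom.naturality f
  simp only [Functor.comp_map] at hn1 hn2
  have hx' : ((HomotopyCategory.quotient B (ComplexShape.up ℤ)).map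
      ((R.mapHomologicalComplex (ComplexShape.up ℤ)).map α) ≫
      (R.mapHomotopyCategoryFactors (ComplexShape.up ℤ)).inv.app F) ≫
      ((R.mapHomotopyCategory (ComplexShape.up ℤ)).mapTriangle.obj
        (mappingCone.triangleh f)).mor₂ = 0 := by
    change (_ ≫ _) ≫ (R.mapHomotopyCategory (ComplexShape.up ℤ)).map
      ((HomotopyCategory.quotient A (ComplexShape.up ℤ)).map (mappingCone.inr f)) = 0
    rw [Category.assoc, ← hn2, ← Category.assoc, ← Functor.map_comp, ← Functor.map_comp,
      HomotopyCategory.eq_of_homotopy _ _ h, Functor.map_zero, zero_comp]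
  obtain ⟨y, hy⟩ : ∃ y : (HomotopyCategory.quotient B (ComplexShape.up ℤ)).obj
      ((R.mapHomologicalComplex (ComplexShape.up ℤ)).obj E) ⟶
      (R.mapHomotopyCategory (ComplexShape.up ℤ)).obj
        ((HomotopyCategory.quotient A (ComplexShape.up ℤ)).obj G),
      (HomotopyCategory.quotient B (ComplexShape.up ℤ)).map
        ((R.mapHomologicalComplex (ComplexShape.up ℤ)).map α) ≫
        (R.mapHomotopyCategoryFactors (ComplexShape.up ℤ)).inv.app F =
      y ≫ (R.mapHomotopyCategory (ComplexShape.up ℤ)).map
        ((HomotopyCategory.quotient A (ComplexShape.up ℤ)).map f) :=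
    Pretriangulated.Triangle.coyoneda_exact₂ _ hT _ hx'
  obtain ⟨β, hβ⟩ := (HomotopyCategory.quotient B (ComplexShape.up ℤ)).map_surjective
    (y ≫ (R.mapHomotopyCategoryFactors (ComplexShape.up ℤ)).hom.app G)
  refine ⟨β, ⟨HomotopyCategory.homotopyOfEq _ _ ?_⟩⟩
  rw [Functor.map_comp, hβ, Category.assoc]
  erw [← hn1]
  rw [← Category.assoc, ← hy, Category.assoc, Iso.inv_hom_id_app]
  exact Category.comp_id _

end general

variable {C : Type u} [SmallCategory C] {J : GrothendieckTopology C} (O : Sheaf J CommRingCat.{u})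

theorem lemma6 (E F G : CochainComplex (ModSite.Mod O) ℤ) (α : E ⟶ F) (f : G ⟶ F)
    (hE : DCoh.IsStrictlyPerfectMod (ModSite.ringSh O) E) (a : ℤ)
    (hEa : ∀ j : ℤ, j < a → IsZero (E.X j))
    (hiso : ∀ j : ℤ, a < j → IsIso (HomologicalComplex.homologyMap f j))
    (hepi : Epi (HomologicalComplex.homologyMap f a)) (V : C) :
    ∃ R ∈ J V, ∀ ⦃W : C⦄ (g : W ⟶ V), R g →
      ∃ β : ((ModSite.restr O W).mapHomologicalComplex (ComplexShape.up ℤ)).obj E ⟶
          ((ModSite.restr O W).mapHomologicalComplex (ComplexShape.up ℤ)).obj G,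
        Nonempty (Homotopy (β ≫ ((ModSite.restr O W).mapHomologicalComplex (ComplexShape.up ℤ)).map f)
          (((ModSite.restr O W).mapHomologicalComplex (ComplexShape.up ℤ)).map α)) := by
  obtain ⟨⟨a', b', hab⟩, hfree⟩ := hE
  obtain ⟨S, hS, hS'⟩ := lemma5 (α ≫ mappingCone.inr f) a hfree hEa
    (cone_exactAt f a hiso hepi) ⟨b', fun j hj => hab j (Or.inr hj)⟩ V
  refine ⟨S, hS, ?_⟩
  intro W g hg
  obtain ⟨h⟩ := hS' g hg
  exact exists_lift_of_homotopy (ModSite.restr O W) α f h

end Groth.Agent.Helper29.LocLiftC
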