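import Mathlib
import Groth.Agent.Lib.Helper29.LocLiftC

/-!
# Morphisms in the derived category out of a strictly perfect complex are locally represented
by morphisms of complexes
-/

open CategoryTheory Limits Opposite CochainComplex

namespace Groth.Agent.Helper29.LocLiftD

open Groth.Agent.Helper29.LocLiftC

universe u

variable {C : Type u} [SmallCategory C] {J : GrothendieckTopology C} (O : Sheaf J CommRingCat.{u})

section general

variable {A : Type*} [Category A] [Abelian A] {B : Type*} [Category B] [Abelian B]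
  [HasDerivedCategory A] [HasDerivedCategory B]
  (R : A ⥤ B) [R.Additive] [PreservesFiniteLimits R] [PreservesFiniteColimits R]

theorem map_fraction_eq {E F Y : CochainComplex A ℤ} (g : E ⟶ Y) (s : F ⟶ Y)
    [IsIso (DerivedCategory.Q.map s)]
    (β : (R.mapHomologicalComplex (ComplexShape.up ℤ)).obj E ⟶
      (R.mapHomologicalComplex (ComplexShape.up ℤ)).obj F)
    (h : Homotopy (β ≫ (R.mapHomologicalComplex (ComplexShape.up ℤ)).map s)
      ((R.mapHomologicalComplex (ComplexShape.up ℤ)).map g)) :
    R.mapDerivedCategory.map (DerivedCategory.Q.map g ≫ inv (DerivedCategory.Q.map s)) =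
      R.mapDerivedCategoryFactors.hom.app E ≫ DerivedCategory.Q.map β ≫
        R.mapDerivedCategoryFactors.inv.app F := by
  have h1 := R.mapDerivedCategoryFactors.hom.naturality g
  have h2 := R.mapDerivedCategoryFactors.inv.naturality s
  simp only [Functor.comp_map] at h1 h2
  have h3 : DerivedCategory.Q.map β ≫
      DerivedCategory.Q.map ((R.mapHomologicalComplex (ComplexShape.up ℤ)).map s) =
      DerivedCategory.Q.map ((R.mapHomologicalComplex (ComplexShape.up ℤ)).map g) := by
    rw [← Functor.map_comp]
    exact DerivedCategory.Q_map_eq_of_homotopy _ h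
  rw [Functor.map_comp, Functor.map_inv, IsIso.comp_inv_eq]
  simp only [Category.assoc]
  rw [← h2, ← Category.assoc (DerivedCategory.Q.map β), h3, ← Category.assoc, ← h1,
    Category.assoc, Iso.hom_inv_id_app, Category.comp_id]

end general

theorem lemma7 [HasDerivedCategory.{u} (ModSite.Mod O)]
    [∀ W : C, HasDerivedCategory.{u} (ModSite.Mod (O.over W))]
    [∀ W : C, (ModSite.restr O W).Additive] [∀ W : C, PreservesFiniteColimits (ModSite.restr O W)]
    (E F : CochainComplex (ModSite.Mod O) ℤ) (hE : DCoh.IsStrictlyPerfectMod (ModSite.ringSh O) E)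
    (α : DerivedCategory.Q.obj E ⟶ DerivedCategory.Q.obj F) (V : C) :
    ∃ R ∈ J V, ∀ ⦃W : C⦄ (g : W ⟶ V), R g →
      ∃ α' : ((ModSite.restr O W).mapHomologicalComplex (ComplexShape.up ℤ)).obj E ⟶
          ((ModSite.restr O W).mapHomologicalComplex (ComplexShape.up ℤ)).obj F,
        (ModSite.restr O W).mapDerivedCategory.map α =
          (ModSite.restr O W).mapDerivedCategoryFactors.hom.app E ≫ DerivedCategory.Q.map α' ≫
            (ModSite.restr O W).mapDerivedCategoryFactors.inv.app F := by
  obtain ⟨Y, g, s, hs, rfl⟩ := DerivedCategory.left_fac α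
  have hqi : QuasiIso s := (DerivedCategory.isIso_Q_map_iff_quasiIso _ s).1 hs
  have hiso : ∀ j : ℤ, IsIso (HomologicalComplex.homologyMap s j) := fun j =>
    (quasiIsoAt_iff_isIso_homologyMap s j).1 (hqi.quasiIsoAt j)
  obtain ⟨a, b, hab⟩ := hE.1
  obtain ⟨S, hS, hS'⟩ := lemma6 O E Y F g s hE a (fun j hj => hab j (Or.inl hj))
    (fun j _ => hiso j) (by have := hiso a; infer_instance) V
  refine ⟨S, hS, ?_⟩
  intro W g' hg'
  obtain ⟨β, ⟨h⟩⟩ := hS' g' hg'
  exact ⟨β, map_fraction_eq (ModSite.restr O W) g s β h⟩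

end Groth.Agent.Helper29.LocLiftD
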