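import Mathlib

/-!
# `𝔪_{B_q}` generates a maximal ideal of `B_q ⊗_A Â_p` (helper29)
-/

open IsLocalRing TensorProduct

namespace Groth.Agent.Helper29.MaxExt

universe u

variable (A : Type u) {B : Type u} [CommRing A] [CommRing B] [Algebra A B] [IsNoetherianRing A]
  (q : Ideal B) [q.IsPrime]

abbrev Ap := Localization.AtPrime (q.under A)
abbrev Rq := Localization.AtPrime q
abbrev Cq := AdicCompletion (maximalIdeal (Ap A q)) (Ap A q)
abbrev Tq := TensorProduct A (Rq q) (Cq A q)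

noncomputable abbrev Jq : Ideal (Tq A q) :=
  (maximalIdeal (Rq q)).map
    (Algebra.TensorProduct.includeLeftRingHom : Rq q →+* Tq A q)

theorem ker_evalOne :
    RingHom.ker (AdicCompletion.evalOneₐ (maximalIdeal (Ap A q))).toRingHom =
      (maximalIdeal (Ap A q)).map (algebraMap (Ap A q) (Cq A q)) := by
  letI : Field (Ap A q ⧸ maximalIdeal (Ap A q)) := Ideal.Quotient.field _
  have hmax : (RingHom.ker (AdicCompletion.evalOneₐ (maximalIdeal (Ap A q))).toRingHom).IsMaximal :=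
    RingHom.ker_isMaximal_of_surjective
      (AdicCompletion.evalOneₐ (maximalIdeal (Ap A q))).toRingHom
      (AdicCompletion.evalOneₐ_surjective _)
  rw [← AdicCompletion.maximalIdeal_eq_map]
  exact IsLocalRing.eq_maximalIdeal hmax

theorem one_tmul_alg (y : Ap A q) :
    ∃ r₀ : Rq q, (1 : Rq q) ⊗ₜ[A] (algebraMap (Ap A q) (Cq A q) y) = r₀ ⊗ₜ[A] (1 : Cq A q) ∧
      (y ∈ maximalIdeal (Ap A q) → r₀ ∈ maximalIdeal (Rq q)) := by
  obtain ⟨a, s, rfl⟩ := IsLocalization.exists_mk'_eq (q.under A).primeCompl y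
  have hs : IsUnit (algebraMap A (Rq q) s) := by
    rw [IsScalarTower.algebraMap_apply A B (Rq q)]
    exact IsLocalization.map_units (Rq q) (⟨algebraMap A B s, s.2⟩ : q.primeCompl)
  obtain ⟨u, hu⟩ := hs
  refine ⟨↑u⁻¹ * algebraMap A (Rq q) a, ?_, ?_⟩
  · have h1 : (s : A) • algebraMap (Ap A q) (Cq A q) (IsLocalization.mk' (Ap A q) a s) =
        (a • 1 : Cq A q) := by
      rw [Algebra.smul_def, Algebra.smul_def, mul_one,
        IsScalarTower.algebraMap_apply A (Ap A q) (Cq A q),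
        IsScalarTower.algebraMap_apply A (Ap A q) (Cq A q) a, ← map_mul, mul_comm,
        IsLocalization.mk'_spec]
    calc (1 : Rq q) ⊗ₜ[A] algebraMap (Ap A q) (Cq A q) (IsLocalization.mk' (Ap A q) a s)
        = ((↑u⁻¹ : Rq q) * ↑u) ⊗ₜ[A]
            (1 * algebraMap (Ap A q) (Cq A q) (IsLocalization.mk' (Ap A q) a s)) := by
          rw [Units.inv_mul, one_mul]
      _ = ((↑u⁻¹ : Rq q) ⊗ₜ[A] (1 : Cq A q)) *
            ((↑u : Rq q) ⊗ₜ[A] algebraMap (Ap A q) (Cq A q) (IsLocalization.mk' (Ap A q) a s)) :=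
          (Algebra.TensorProduct.tmul_mul_tmul _ _ _ _).symm
      _ = ((↑u⁻¹ : Rq q) ⊗ₜ[A] (1 : Cq A q)) *
            (((s : A) • (1 : Rq q)) ⊗ₜ[A]
              algebraMap (Ap A q) (Cq A q) (IsLocalization.mk' (Ap A q) a s)) := by
          rw [hu, Algebra.algebraMap_eq_smul_one]
      _ = ((↑u⁻¹ : Rq q) ⊗ₜ[A] (1 : Cq A q)) * ((1 : Rq q) ⊗ₜ[A] (a • 1 : Cq A q)) := by
          rw [TensorProduct.smul_tmul, h1]
      _ = ((↑u⁻¹ : Rq q) ⊗ₜ[A] (1 : Cq A q)) * ((a • (1 : Rq q)) ⊗ₜ[A] (1 : Cq A q)) := by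
          rw [TensorProduct.smul_tmul]
      _ = (↑u⁻¹ * algebraMap A (Rq q) a) ⊗ₜ[A] (1 : Cq A q) := by
          rw [Algebra.TensorProduct.tmul_mul_tmul, mul_one, ← Algebra.algebraMap_eq_smul_one]
  · intro hy
    rw [IsLocalization.AtPrime.mk'_mem_maximal_iff (Ap A q) (q.under A)] at hy
    apply Ideal.mul_mem_left
    rw [IsScalarTower.algebraMap_apply A B (Rq q),
      IsLocalization.AtPrime.to_map_mem_maximal_iff (Rq q) q]
    exact hy

theorem one_tmul_mem (z : Cq A q)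
    (hz : z ∈ (maximalIdeal (Ap A q)).map (algebraMap (Ap A q) (Cq A q))) :
    (1 : Rq q) ⊗ₜ[A] z ∈ Jq A q := by
  unfold Ideal.map at hz
  induction hz using Submodule.span_induction with
  | mem x hx =>
    obtain ⟨y, hy, rfl⟩ := hx
    obtain ⟨r₀, h1, h2⟩ := one_tmul_alg A q y
    rw [h1]
    exact Ideal.mem_map_of_mem _ (h2 hy)
  | zero => rw [tmul_zero]; exact Ideal.zero_mem _
  | add x y _ _ hx hy => rw [tmul_add]; exact Ideal.add_mem _ hx hy
  | smul c x _ hx =>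
    have : (1 : Rq q) ⊗ₜ[A] (c • x) = ((1 : Rq q) ⊗ₜ[A] c) * ((1 : Rq q) ⊗ₜ[A] x) := by
      rw [Algebra.TensorProduct.tmul_mul_tmul, one_mul, smul_eq_mul]
    rw [this]
    exact Ideal.mul_mem_left _ _ hx

theorem exists_rep (t : Tq A q) : ∃ r : Rq q, t - r ⊗ₜ[A] (1 : Cq A q) ∈ Jq A q := by
  induction t using TensorProduct.induction_on with
  | zero => exact ⟨0, by simp⟩
  | add x y hx hy =>
    obtain ⟨r₁, h₁⟩ := hx
    obtain ⟨r₂, h₂⟩ := hy
    refine ⟨r₁ + r₂, ?_⟩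
    have : x + y - (r₁ + r₂) ⊗ₜ[A] (1 : Cq A q) =
        (x - r₁ ⊗ₜ[A] (1 : Cq A q)) + (y - r₂ ⊗ₜ[A] (1 : Cq A q)) := by
      rw [add_tmul]; abel
    rw [this]
    exact Ideal.add_mem _ h₁ h₂
  | tmul r c =>
    obtain ⟨y, hy⟩ := Ideal.Quotient.mk_surjective
      (AdicCompletion.evalOneₐ (maximalIdeal (Ap A q)) c)
    have hc' : c - algebraMap (Ap A q) (Cq A q) y ∈
        (maximalIdeal (Ap A q)).map (algebraMap (Ap A q) (Cq A q)) := by
      rw [← ker_evalOne, RingHom.mem_ker, map_sub, sub_eq_zero]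
      show AdicCompletion.evalOneₐ _ c = AdicCompletion.evalOneₐ _ (algebraMap _ _ y)
      rw [← hy]
      rfl
    obtain ⟨r₀, h1, -⟩ := one_tmul_alg A q y
    refine ⟨r * r₀, ?_⟩
    have : r ⊗ₜ[A] c - (r * r₀) ⊗ₜ[A] (1 : Cq A q) =
        (r ⊗ₜ[A] (1 : Cq A q)) *
          ((1 : Rq q) ⊗ₜ[A] (c - algebraMap (Ap A q) (Cq A q) y)) := by
      rw [tmul_sub, mul_sub, h1, Algebra.TensorProduct.tmul_mul_tmul,
        Algebra.TensorProduct.tmul_mul_tmul, mul_one, one_mul, mul_one]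
    rw [this]
    exact Ideal.mul_mem_left _ _ (one_tmul_mem A q _ hc')

noncomputable def gHom : Cq A q →ₐ[A] ResidueField (Rq q) where
  toRingHom := (IsLocalRing.ResidueField.map
    (Localization.localRingHom (q.under A) q (algebraMap A B) rfl)).comp
      (AdicCompletion.evalOneₐ (maximalIdeal (Ap A q))).toRingHom
  commutes' a := by
    show IsLocalRing.ResidueField.map _
      (AdicCompletion.evalOneₐ _ (algebraMap A (Cq A q) a)) = _
    rw [AdicCompletion.algebraMap_apply, AdicCompletion.evalOneₐ_of]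
    show IsLocalRing.ResidueField.map _ (IsLocalRing.residue _ (algebraMap A (Ap A q) a)) = _
    rw [IsLocalRing.ResidueField.map_residue, Localization.localRingHom_to_map,
      ← IsScalarTower.algebraMap_apply A B (Rq q)]
    rfl

theorem J_ne_top : (1 : Tq A q) ∉ Jq A q := by
  intro h
  let Ψ : Tq A q →ₐ[A] ResidueField (Rq q) :=
    Algebra.TensorProduct.lift (IsScalarTower.toAlgHom A (Rq q) (ResidueField (Rq q)))
      (gHom A q) (fun _ _ => Commute.all _ _)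
  have hle : Jq A q ≤ RingHom.ker Ψ.toRingHom := by
    rw [Ideal.map_le_iff_le_comap]
    intro r hr
    rw [Ideal.mem_comap, RingHom.mem_ker]
    show Ψ (r ⊗ₜ[A] (1 : Cq A q)) = 0
    rw [Algebra.TensorProduct.lift_tmul, map_one, mul_one]
    show IsLocalRing.residue _ r = 0
    exact (IsLocalRing.residue_eq_zero_iff r).2 hr
  have := hle h
  rw [RingHom.mem_ker, map_one] at this
  exact one_ne_zero this

theorem isMaximal : (Jq A q).IsMaximal := by
  rw [Ideal.isMaximal_iff]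
  refine ⟨J_ne_top A q, ?_⟩
  intro I t hJI htJ htI
  obtain ⟨r, hr⟩ := exists_rep A q t
  have hrI : r ⊗ₜ[A] (1 : Cq A q) ∈ I := by
    have : r ⊗ₜ[A] (1 : Cq A q) = t - (t - r ⊗ₜ[A] (1 : Cq A q)) := by abel
    rw [this]
    exact Ideal.sub_mem _ htI (hJI hr)
  have hru : IsUnit r := by
    by_contra hnu
    apply htJ
    have hrm : r ∈ maximalIdeal (Rq q) := hnu
    have : t = (t - r ⊗ₜ[A] (1 : Cq A q)) + r ⊗ₜ[A] (1 : Cq A q) := by abel
    rw [this]
    exact Ideal.add_mem _ hr (Ideal.mem_map_of_mem _ hrm)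
  obtain ⟨u, rfl⟩ := hru
  have : (1 : Tq A q) = ((↑u⁻¹ : Rq q) ⊗ₜ[A] (1 : Cq A q)) * ((↑u : Rq q) ⊗ₜ[A] (1 : Cq A q)) := by
    rw [Algebra.TensorProduct.tmul_mul_tmul, Units.inv_mul, mul_one]
    rfl
  rw [this]
  exact Ideal.mul_mem_left _ _ hrI

end Groth.Agent.Helper29.MaxExt
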