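import Mathlib

set_option autoImplicit false
open Matrix

namespace Groth.Agent.Helper29.Minkowski

variable {n : ℕ}

/-- all entries divisible by `3^k`. -/
def Dvd3 (k : ℕ) (N : Matrix (Fin n) (Fin n) ℤ) : Prop := ∀ i j, (3 : ℤ) ^ k ∣ N i j

theorem Dvd3.add {k : ℕ} {N N' : Matrix (Fin n) (Fin n) ℤ} (h : Dvd3 k N) (h' : Dvd3 k N') :
    Dvd3 k (N + N') := fun i j => by
  rw [Matrix.add_apply]; exact dvd_add (h i j) (h' i j)

theorem Dvd3.neg {k : ℕ} {N : Matrix (Fin n) (Fin n) ℤ} (h : Dvd3 k N) :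
    Dvd3 k (-N) := fun i j => by
  rw [Matrix.neg_apply]; exact (dvd_neg).mpr (h i j)

theorem Dvd3.mono {k l : ℕ} (hkl : k ≤ l) {N : Matrix (Fin n) (Fin n) ℤ} (h : Dvd3 l N) :
    Dvd3 k N := fun i j => (pow_dvd_pow 3 hkl).trans (h i j)

theorem Dvd3.mul {k l : ℕ} {N N' : Matrix (Fin n) (Fin n) ℤ} (h : Dvd3 k N) (h' : Dvd3 l N') :
    Dvd3 (k + l) (N * N') := fun i j => by
  rw [Matrix.mul_apply]
  refine Finset.dvd_sum fun x _ => ?_
  rw [pow_add]
  exact mul_dvd_mul (h i x) (h' x j)

theorem Dvd3.mul_right {k : ℕ} {N : Matrix (Fin n) (Fin n) ℤ} (h : Dvd3 k N)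
    (U : Matrix (Fin n) (Fin n) ℤ) : Dvd3 k (N * U) := by
  have h0 : Dvd3 0 U := fun i j => by simp
  simpa using h.mul h0

theorem Dvd3.nsmul {k : ℕ} {N : Matrix (Fin n) (Fin n) ℤ} (h : Dvd3 k N) (m : ℕ) :
    Dvd3 k (m • N) := fun i j => by
  rw [Matrix.smul_apply]
  exact Dvd.dvd.mul_left (h i j) _ |> fun h => by simpa [nsmul_eq_mul] using h

theorem eq_zero_of_forall_dvd3 {N : Matrix (Fin n) (Fin n) ℤ} (h : ∀ k, 1 ≤ k → Dvd3 k N) : N = 0 := by
  ext i j
  rw [Matrix.zero_apply]
  by_contra hne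
  have h1 := h ((N i j).natAbs + 1) (by omega) i j
  have h2 : (N i j).natAbs < 3 ^ ((N i j).natAbs + 1) :=
    lt_of_lt_of_le (Nat.lt_succ_self _) (Nat.lt_pow_self (by norm_num)).le
  have := Int.natAbs_dvd_natAbs.mpr h1
  have h3 := Nat.le_of_dvd (Int.natAbs_pos.mpr hne) this
  rw [Int.natAbs_pow] at h3
  simp at h3
  omega

/-- second-order binomial expansion in a noncommutative ring -/
theorem exists_expand {R : Type*} [Ring R] (N : R) (q : ℕ) :
    ∃ U : R, (1 + N) ^ q = 1 + q • N + N * N * U := by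
  induction q with
  | zero => exact ⟨0, by simp⟩
  | succ q ih =>
    obtain ⟨U, hU⟩ := ih
    refine ⟨U + q • 1 + U * N, ?_⟩
    rw [pow_succ, hU]
    simp only [mul_add, add_mul, mul_one, one_mul, succ_nsmul, smul_mul_assoc, mul_smul_comm, mul_assoc]
    abel

theorem step {k : ℕ} (hk : 1 ≤ k) {N : Matrix (Fin n) (Fin n) ℤ} (hN : Dvd3 k N) {q : ℕ}
    (hq : q.Prime) (h : (1 + N) ^ q = 1) : Dvd3 (k + 1) N := by
  by_cases hq3 : q = 3
  · subst hq3
    have e : (1 + N) ^ 3 = 1 + (3 • N + (3 • (N * N) + N * N * N)) := by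
      noncomm_ring
    rw [e] at h
    have h3 : 3 • N = -(3 • (N * N) + N * N * N) := by
      have : 3 • N + (3 • (N * N) + N * N * N) = 0 := by simpa using h
      exact eq_neg_of_add_eq_zero_left this
    have hd : Dvd3 (k + 2) (3 • N) := by
      rw [h3]
      apply Dvd3.neg
      apply Dvd3.add
      · intro i j
        have := (hN.mul hN) i j
        rw [Matrix.smul_apply, nsmul_eq_mul]
        have h1 : (3 : ℤ) ^ (k + 2) ∣ 3 * 3 ^ (k + k) := by
          rw [← pow_succ']; exact pow_dvd_pow 3 (by omega)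
        exact h1.trans (mul_dvd_mul_left 3 this)
      · exact ((hN.mul hN).mul hN).mono (by omega)
    intro i j
    have := hd i j
    rw [Matrix.smul_apply, nsmul_eq_mul, pow_succ'] at this
    exact (mul_dvd_mul_iff_left (by norm_num)).mp this
  · obtain ⟨U, hU⟩ := exists_expand N q
    rw [hU] at h
    have h3 : q • N = -(N * N * U) := by
      have : q • N + N * N * U = 0 := by
        have h' : 1 + (q • N + N * N * U) = 1 := by rw [← add_assoc]; exact h
        simpa using h'
      exact eq_neg_of_add_eq_zero_left this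
    have hd : Dvd3 (k + 1) (q • N) := by
      rw [h3]; exact (((hN.mul hN).mul_right U).mono (by omega)).neg
    intro i j
    have := hd i j
    rw [Matrix.smul_apply, nsmul_eq_mul] at this
    have hc : IsCoprime ((3 : ℤ) ^ (k + 1)) (q : ℤ) := by
      apply IsCoprime.pow_left
      have : Nat.Coprime 3 q := (Nat.coprime_primes Nat.prime_three hq).mpr (Ne.symm hq3)
      exact_mod_cast Nat.isCoprime_iff_coprime.mpr this
    exact hc.dvd_of_dvd_mul_left this

theorem eq_one_of_prime_pow {g : Matrix (Fin n) (Fin n) ℤ} (hg : Dvd3 1 (g - 1)) {q : ℕ}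
    (hq : q.Prime) (h : g ^ q = 1) : g = 1 := by
  have hN : ∀ k, 1 ≤ k → Dvd3 k (g - 1) := by
    intro k hk
    induction k, hk using Nat.le_induction with
    | base => exact hg
    | succ k hk ih => exact step hk ih hq (by simpa using h)
  have := eq_zero_of_forall_dvd3 hN
  exact sub_eq_zero.mp this

theorem eq_one_of_pow : ∀ (m : ℕ) {g : Matrix (Fin n) (Fin n) ℤ}, Dvd3 1 (g - 1) →
    1 ≤ m → g ^ m = 1 → g = 1 := by
  intro m
  induction m using Nat.strong_induction_on with
  | _ m ih =>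
    intro g hg hm h
    by_cases h1 : m = 1
    · subst h1; simpa using h
    · have hq := Nat.minFac_prime h1
      obtain ⟨m', hm'⟩ := Nat.minFac_dvd m
      have hm'pos : 1 ≤ m' := by
        rcases m' with _ | m'
        · simp at hm'; omega
        · omega
      have hlt : m' < m := by
        have := hq.two_le
        nlinarith
      have hdvd : Dvd3 1 (g ^ m' - 1) := by
        rw [← mul_geom_sum]
        exact hg.mul_right _
      have hpow : (g ^ m') ^ (m.minFac) = 1 := by
        rw [← pow_mul, mul_comm, ← hm']; exact h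
      have := eq_one_of_prime_pow hdvd hq hpow
      exact ih m' hlt hg hm'pos this

theorem main (n : ℕ) :
    ∃ B : ℕ, ∀ H : Subgroup (Matrix.GeneralLinearGroup (Fin n) ℤ), Finite H → Nat.card H ≤ B := by
  refine ⟨Nat.card (Matrix (Fin n) (Fin n) (ZMod 3)), fun H hH => ?_⟩
  let red : H → Matrix (Fin n) (Fin n) (ZMod 3) :=
    fun h => (h.1.1 : Matrix (Fin n) (Fin n) ℤ).map (Int.castRingHom (ZMod 3))
  apply Nat.card_le_card_of_injective red
  intro h₁ h₂ h12
  have hred : ∀ a b : H, red (a * b) = red a * red b := by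
    intro a b
    simp only [red]
    rw [← Matrix.map_mul]
    rfl
  set g : H := h₁⁻¹ * h₂ with hg
  have hg1 : red g = 1 := by
    rw [hg, hred, ← h12, ← hred, inv_mul_cancel]
    simp [red]
  have hd : Dvd3 1 ((g.1.1 : Matrix (Fin n) (Fin n) ℤ) - 1) := by
    intro i j
    have := congrFun (congrFun hg1 i) j
    simp only [red, Matrix.map_apply, Int.coe_castRingHom] at this
    rw [pow_one, Matrix.sub_apply]
    have h2 : ((((g.1.1 : Matrix (Fin n) (Fin n) ℤ) i j - (1 : Matrix (Fin n) (Fin n) ℤ) i j : ℤ)) : ZMod 3) = 0 := by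
      rw [Int.cast_sub, this]
      by_cases hij : i = j
      · subst hij; simp
      · simp [Matrix.one_apply_ne hij]
    exact (ZMod.intCast_zmod_eq_zero_iff_dvd _ 3).mp h2
  obtain ⟨m, hm, hgm⟩ := (isOfFinOrder_of_finite g).exists_pow_eq_one
  have hgm' : (g.1.1 : Matrix (Fin n) (Fin n) ℤ) ^ m = 1 := by
    have := congrArg (fun x : H => (x.1.1 : Matrix (Fin n) (Fin n) ℤ)) hgm
    simpa using this
  have hone := eq_one_of_pow m hd hm hgm'
  have : g = 1 := by
    apply Subtype.ext
    apply Units.ext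
    simpa using hone
  rw [hg] at this
  exact (inv_mul_eq_one.mp this)

end Groth.Agent.Helper29.Minkowski
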