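import Mathlib
import Groth.Agent.Lib.Helper29.MonicB

set_option autoImplicit false
set_option linter.unusedSectionVars false
set_option linter.unusedVariables false
set_option linter.unusedSimpArgs false

namespace Groth.Agent.Helper29.MonicC

open Polynomial HorE MonicA MonicB Matrix

universe u

variable {A : Type u} [CommRing A]

theorem det_one_add_X_smul_coeff_zero {n : ℕ} (W : Matrix (Fin n) (Fin n) A[X]) :
    (det (1 + (X : A[X]) • W)).coeff 0 = 1 := by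
  rw [coeff_zero_eq_eval_zero]
  have h : (evalRingHom (0 : A)) (det (1 + (X : A[X]) • W)) = 1 := by
    rw [RingHom.map_det]
    have : (evalRingHom (0 : A)).mapMatrix (1 + (X : A[X]) • W) = 1 := by
      rw [map_add, map_one]
      have : (evalRingHom (0 : A)).mapMatrix ((X : A[X]) • W) = 0 := by
        apply Matrix.ext
        intro i j
        simp [RingHom.mapMatrix_apply]
      rw [this, add_zero]
    rw [this, det_one]
  simpa using h

theorem approx_poly {r r' : ℕ} (ε₁ : Matrix (Fin r) (Fin r) A) (ε₂ : Matrix (Fin r') (Fin r') A)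
    (hε₁ : ε₁ * ε₁ = ε₁) (hε₂ : ε₂ * ε₂ = ε₂)
    (Up : Matrix (Fin r') (Fin r) A[X]) (Vp : Matrix (Fin r) (Fin r') A[X]) (n : ℕ)
    (W₁ : Matrix (Fin r) (Fin r) A[X]) (W₂ : Matrix (Fin r') (Fin r') A[X])
    (p1 : ε₂.map (C : A →+* A[X]) * Up = Up) (p2 : Up * ε₁.map (C : A →+* A[X]) = Up)
    (p3 : ε₁.map (C : A →+* A[X]) * Vp = Vp) (p4 : Vp * ε₂.map (C : A →+* A[X]) = Vp)
    (hW₁ : ε₁.map (C : A →+* A[X]) * W₁ = W₁) (hW₁' : W₁ * ε₁.map (C : A →+* A[X]) = W₁)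
    (hW₂ : ε₂.map (C : A →+* A[X]) * W₂ = W₂) (hW₂' : W₂ * ε₂.map (C : A →+* A[X]) = W₂)
    (p5 : Vp * Up = (X : A[X]) ^ n • (ε₁.map (C : A →+* A[X]) + (X : A[X]) • W₁))
    (p6 : Up * Vp = (X : A[X]) ^ n • (ε₂.map (C : A →+* A[X]) + (X : A[X]) • W₂)) :
    ∃ (x : Matrix (Fin r) (Fin r') A) (y : Matrix (Fin r') (Fin r) A),
      x * y = ε₁ ∧ y * x = ε₂ := by
  set e₁ := ε₁.map (C : A →+* A[X]) with he₁
  set e₂ := ε₂.map (C : A →+* A[X]) with he₂
  have hee₁ : e₁ * e₁ = e₁ := by rw [he₁, ← Matrix.map_mul, hε₁]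
  have hee₂ : e₂ * e₂ = e₂ := by rw [he₂, ← Matrix.map_mul, hε₂]
  set D₁ : Matrix (Fin r) (Fin r) A[X] := 1 + (X : A[X]) • W₁ with hD₁
  set D₂ : Matrix (Fin r') (Fin r') A[X] := 1 + (X : A[X]) • W₂ with hD₂
  set G₁ := det D₁ with hG₁
  set G₂ := det D₂ with hG₂
  have hG₁0 : G₁.coeff 0 = 1 := det_one_add_X_smul_coeff_zero W₁
  have hG₂0 : G₂.coeff 0 = 1 := det_one_add_X_smul_coeff_zero W₂
  have hD₁e : D₁ * e₁ = e₁ + (X : A[X]) • W₁ := by
    rw [hD₁, add_mul, one_mul, Matrix.smul_mul, hW₁']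
  have heD₂ : e₂ * D₂ = e₂ + (X : A[X]) • W₂ := by
    rw [hD₂, mul_add, mul_one, Matrix.mul_smul, hW₂]
  set Lm : Matrix (Fin r) (Fin r') A[X] := e₁ * adjugate D₁ * Vp with hLm
  set Rm : Matrix (Fin r) (Fin r') A[X] := Vp * adjugate D₂ * e₂ with hRm
  have hLU : Lm * Up = (X ^ n * G₁) • e₁ := by
    calc Lm * Up = e₁ * adjugate D₁ * (Vp * Up) := by simp only [hLm, Matrix.mul_assoc]
      _ = e₁ * adjugate D₁ * ((X : A[X]) ^ n • (D₁ * e₁)) := by rw [p5, hD₁e]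
      _ = (X : A[X]) ^ n • (e₁ * (adjugate D₁ * D₁) * e₁) := by
          rw [Matrix.mul_smul]; simp only [Matrix.mul_assoc]
      _ = (X ^ n * G₁) • e₁ := by
          rw [adjugate_mul, Matrix.mul_smul, Matrix.mul_one, Matrix.smul_mul, hee₁, smul_smul]
  have hUR : Up * Rm = (X ^ n * G₂) • e₂ := by
    calc Up * Rm = (Up * Vp) * adjugate D₂ * e₂ := by simp only [hRm, Matrix.mul_assoc]
      _ = ((X : A[X]) ^ n • (e₂ * D₂)) * adjugate D₂ * e₂ := by rw [p6, heD₂]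
      _ = (X : A[X]) ^ n • (e₂ * (D₂ * adjugate D₂) * e₂) := by
          rw [Matrix.smul_mul, Matrix.smul_mul]; simp only [Matrix.mul_assoc]
      _ = (X ^ n * G₂) • e₂ := by
          rw [mul_adjugate, Matrix.mul_smul, Matrix.mul_one, Matrix.smul_mul, hee₂, smul_smul]
  have hLe₂ : Lm * e₂ = Lm := by rw [hLm, Matrix.mul_assoc, p4]
  have he₁L : e₁ * Lm = Lm := by
    rw [hLm, ← Matrix.mul_assoc, ← Matrix.mul_assoc, hee₁]
  have he₁R : e₁ * Rm = Rm := by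
    rw [hRm, ← Matrix.mul_assoc, ← Matrix.mul_assoc, p3]
  have hRe₂ : Rm * e₂ = Rm := by rw [hRm, Matrix.mul_assoc, hee₂]
  have hcross : (X ^ n * G₂) • Lm = (X ^ n * G₁) • Rm := by
    calc (X ^ n * G₂) • Lm = Lm * ((X ^ n * G₂) • e₂) := by rw [Matrix.mul_smul, hLe₂]
      _ = (Lm * Up) * Rm := by rw [← hUR]; exact (Matrix.mul_assoc _ _ _).symm
      _ = (X ^ n * G₁) • Rm := by rw [hLU, Matrix.smul_mul, he₁R]
  refine core_monic ε₁ ε₂ hε₁ hε₂ Up ((X ^ n * G₂) • Lm) (n + n) (G₁ * G₂) ?_ p1 p2 ?_ ?_ ?_ ?_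
  · rw [mul_coeff_zero, hG₁0, hG₂0, mul_one]
  · rw [Matrix.mul_smul, he₁L]
  · rw [Matrix.smul_mul, hLe₂]
  · rw [Matrix.smul_mul, hLU, smul_smul]
    congr 1
    ring
  · rw [hcross, Matrix.mul_smul, hUR, smul_smul]
    congr 1
    ring


/-- the coercion ring hom from polynomials to power series -/
noncomputable abbrev co : A[X] →+* PowerSeries A := Polynomial.coeToPowerSeries.ringHom

theorem co_apply (p : A[X]) : co p = (p : PowerSeries A) := rfl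

theorem map_C_co {n : ℕ} (ε : Matrix (Fin n) (Fin n) A) :
    (ε.map (C : A →+* A[X])).map co = ε.map (PowerSeries.C : A →+* PowerSeries A) := by
  apply Matrix.ext
  intro i j
  simp only [Matrix.map_apply, co_apply, Polynomial.coe_C]

theorem map_co_injective {m n : ℕ} {M N : Matrix (Fin m) (Fin n) A[X]}
    (h : M.map co = N.map co) : M = N :=
  map_injective_of_injective co (Polynomial.coe_injective A) h

theorem exists_of_map_co_eq {m n : ℕ} (T : Matrix (Fin m) (Fin n) A[X]) (N : ℕ)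
    (Z : Matrix (Fin m) (Fin n) (PowerSeries A))
    (h : T.map co = (PowerSeries.X : PowerSeries A) ^ N • Z) :
    ∃ W : Matrix (Fin m) (Fin n) A[X], T = (X : A[X]) ^ N • W := by
  have hdvd : ∀ i j, (X : A[X]) ^ N ∣ T i j := by
    intro i j
    rw [Polynomial.X_pow_dvd_iff]
    intro d hd
    have h1 := congrFun (congrFun h i) j
    simp only [Matrix.map_apply, Matrix.smul_apply, smul_eq_mul, co_apply] at h1
    rw [← Polynomial.coeff_coe, h1, PowerSeries.coeff_X_pow_mul', if_neg (not_le.mpr hd)]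
  choose W hW using hdvd
  refine ⟨Matrix.of W, ?_⟩
  apply Matrix.ext
  intro i j
  simp only [Matrix.smul_apply, Matrix.of_apply, smul_eq_mul]
  exact hW i j

theorem split_trunc {m n : ℕ} (U₀ : Matrix (Fin m) (Fin n) (PowerSeries A)) (N : ℕ) :
    ∃ (Utr : Matrix (Fin m) (Fin n) A[X]) (Ush : Matrix (Fin m) (Fin n) (PowerSeries A)),
      U₀ = (PowerSeries.X : PowerSeries A) ^ N • Ush + Utr.map co := by
  refine ⟨U₀.map (PowerSeries.trunc N),
    U₀.map (fun f => PowerSeries.mk fun i => PowerSeries.coeff (i + N) f), ?_⟩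
  apply Matrix.ext
  intro i j
  simp only [Matrix.add_apply, Matrix.smul_apply, Matrix.map_apply, smul_eq_mul, co_apply]
  exact PowerSeries.eq_X_pow_mul_shift_add_trunc N (U₀ i j)


theorem map_sub_matrix {R S : Type*} [CommRing R] [CommRing S] (f : R →+* S) {m n : ℕ}
    (M N : Matrix (Fin m) (Fin n) R) : (M - N).map f = M.map f - N.map f := by
  apply Matrix.ext
  intro i j
  simp [Matrix.map_apply]

/-- one-sided computation used twice in `approx_series` -/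
theorem approx_side {r r' : ℕ} (ε₁ : Matrix (Fin r) (Fin r) A) (ε₂ : Matrix (Fin r') (Fin r') A)
    (hε₁ : ε₁ * ε₁ = ε₁) (hε₂ : ε₂ * ε₂ = ε₂)
    (U₀ : Matrix (Fin r') (Fin r) (PowerSeries A)) (V₀ : Matrix (Fin r) (Fin r') (PowerSeries A))
    (n : ℕ)
    (b1 : ε₂.map (PowerSeries.C : A →+* PowerSeries A) * U₀ = U₀)
    (b2 : U₀ * ε₁.map (PowerSeries.C : A →+* PowerSeries A) = U₀)
    (b3 : ε₁.map (PowerSeries.C : A →+* PowerSeries A) * V₀ = V₀)
    (b4 : V₀ * ε₂.map (PowerSeries.C : A →+* PowerSeries A) = V₀)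
    (b5 : V₀ * U₀ = (PowerSeries.X : PowerSeries A) ^ n •
      ε₁.map (PowerSeries.C : A →+* PowerSeries A))
    (Utr : Matrix (Fin r') (Fin r) A[X]) (Ush : Matrix (Fin r') (Fin r) (PowerSeries A))
    (hU : U₀ = (PowerSeries.X : PowerSeries A) ^ (n + 1) • Ush + Utr.map co)
    (Vtr : Matrix (Fin r) (Fin r') A[X]) (Vsh : Matrix (Fin r) (Fin r') (PowerSeries A))
    (hV : V₀ = (PowerSeries.X : PowerSeries A) ^ (n + 1) • Vsh + Vtr.map co) :
    ∃ W₁ : Matrix (Fin r) (Fin r) A[X],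
      ε₁.map (C : A →+* A[X]) * W₁ = W₁ ∧ W₁ * ε₁.map (C : A →+* A[X]) = W₁ ∧
      (ε₁.map (C : A →+* A[X]) * Vtr * ε₂.map (C : A →+* A[X])) *
        (ε₂.map (C : A →+* A[X]) * Utr * ε₁.map (C : A →+* A[X])) =
        (X : A[X]) ^ n • (ε₁.map (C : A →+* A[X]) + (X : A[X]) • W₁) := by
  set e₁s := ε₁.map (PowerSeries.C : A →+* PowerSeries A) with he₁s
  set e₂s := ε₂.map (PowerSeries.C : A →+* PowerSeries A) with he₂s
  set e₁ := ε₁.map (C : A →+* A[X]) with he₁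
  set e₂ := ε₂.map (C : A →+* A[X]) with he₂
  have hee₁ : e₁ * e₁ = e₁ := by rw [he₁, ← Matrix.map_mul, hε₁]
  have hee₂ : e₂ * e₂ = e₂ := by rw [he₂, ← Matrix.map_mul, hε₂]
  have hco₁ : e₁.map co = e₁s := map_C_co ε₁
  have hco₂ : e₂.map co = e₂s := map_C_co ε₂
  set Xs : PowerSeries A := PowerSeries.X with hXs
  set N := n + 1 with hN
  set Up := e₂ * Utr * e₁ with hUp
  set Vp := e₁ * Vtr * e₂ with hVp
  set Us := e₂s * Ush * e₁s with hUs
  set Vs := e₁s * Vsh * e₂s with hVs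
  have hUtr : Utr.map co = U₀ - Xs ^ N • Ush := by
    rw [eq_sub_iff_add_eq, add_comm]; exact hU.symm
  have hVtr : Vtr.map co = V₀ - Xs ^ N • Vsh := by
    rw [eq_sub_iff_add_eq, add_comm]; exact hV.symm
  have hUpco : Up.map co = U₀ - Xs ^ N • Us := by
    rw [hUp, Matrix.map_mul, Matrix.map_mul, hco₁, hco₂, hUtr, Matrix.mul_sub, Matrix.sub_mul,
      b1, b2, Matrix.mul_smul, Matrix.smul_mul]
  have hVpco : Vp.map co = V₀ - Xs ^ N • Vs := by
    rw [hVp, Matrix.map_mul, Matrix.map_mul, hco₁, hco₂, hVtr, Matrix.mul_sub, Matrix.sub_mul,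
      b3, b4, Matrix.mul_smul, Matrix.smul_mul]
  set Z₁ : Matrix (Fin r) (Fin r) (PowerSeries A) :=
    Xs ^ N • (Vs * Us) - V₀ * Us - Vs * U₀ with hZ₁
  have hprod : (Vp * Up).map co = Xs ^ n • e₁s + Xs ^ N • Z₁ := by
    rw [Matrix.map_mul, hUpco, hVpco, Matrix.sub_mul, Matrix.mul_sub, Matrix.mul_sub, b5, hZ₁,
      Matrix.smul_mul, Matrix.mul_smul, Matrix.mul_smul, Matrix.smul_mul, smul_sub, smul_sub]
    abel
  have hT : (Vp * Up - (X : A[X]) ^ n • e₁).map co = Xs ^ N • Z₁ := by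
    rw [map_sub_matrix, hprod, map_smul_matrix, hco₁, map_pow]
    have : co (X : A[X]) = Xs := Polynomial.coe_X
    rw [this]
    abel
  obtain ⟨W₀, hW₀⟩ := exists_of_map_co_eq _ N Z₁ hT
  have hVpUp : Vp * Up = (X : A[X]) ^ n • e₁ + (X : A[X]) ^ N • W₀ := by
    rw [← hW₀]; abel
  have he₁Vp : e₁ * Vp = Vp := by
    rw [hVp, ← Matrix.mul_assoc, ← Matrix.mul_assoc, hee₁]
  have hUpe₁ : Up * e₁ = Up := by
    rw [hUp, Matrix.mul_assoc, hee₁]
  refine ⟨e₁ * W₀ * e₁, ?_, ?_, ?_⟩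
  · rw [← Matrix.mul_assoc, ← Matrix.mul_assoc, hee₁]
  · rw [Matrix.mul_assoc, hee₁]
  · calc Vp * Up = e₁ * (Vp * Up) * e₁ := by
          rw [← Matrix.mul_assoc e₁ Vp Up, he₁Vp, Matrix.mul_assoc Vp Up e₁, hUpe₁]
      _ = (X : A[X]) ^ n • e₁ + (X : A[X]) ^ N • (e₁ * W₀ * e₁) := by
          rw [hVpUp, Matrix.mul_add, Matrix.add_mul, Matrix.mul_smul, Matrix.smul_mul,
            Matrix.mul_smul, Matrix.smul_mul, hee₁, hee₁]
      _ = (X : A[X]) ^ n • (e₁ + (X : A[X]) • (e₁ * W₀ * e₁)) := by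
          rw [smul_add, smul_smul, hN, pow_succ]


theorem approx_series {r r' : ℕ} (ε₁ : Matrix (Fin r) (Fin r) A) (ε₂ : Matrix (Fin r') (Fin r') A)
    (hε₁ : ε₁ * ε₁ = ε₁) (hε₂ : ε₂ * ε₂ = ε₂)
    (U₀ : Matrix (Fin r') (Fin r) (PowerSeries A)) (V₀ : Matrix (Fin r) (Fin r') (PowerSeries A))
    (n : ℕ)
    (b1 : ε₂.map (PowerSeries.C : A →+* PowerSeries A) * U₀ = U₀)
    (b2 : U₀ * ε₁.map (PowerSeries.C : A →+* PowerSeries A) = U₀)
    (b3 : ε₁.map (PowerSeries.C : A →+* PowerSeries A) * V₀ = V₀)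
    (b4 : V₀ * ε₂.map (PowerSeries.C : A →+* PowerSeries A) = V₀)
    (b5 : V₀ * U₀ = (PowerSeries.X : PowerSeries A) ^ n •
      ε₁.map (PowerSeries.C : A →+* PowerSeries A))
    (b6 : U₀ * V₀ = (PowerSeries.X : PowerSeries A) ^ n •
      ε₂.map (PowerSeries.C : A →+* PowerSeries A)) :
    ∃ (x : Matrix (Fin r) (Fin r') A) (y : Matrix (Fin r') (Fin r) A),
      x * y = ε₁ ∧ y * x = ε₂ := by
  obtain ⟨Utr, Ush, hU⟩ := split_trunc U₀ (n + 1)
  obtain ⟨Vtr, Vsh, hV⟩ := split_trunc V₀ (n + 1)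
  obtain ⟨W₁, hW₁, hW₁', h5⟩ := approx_side ε₁ ε₂ hε₁ hε₂ U₀ V₀ n b1 b2 b3 b4 b5 Utr Ush hU
    Vtr Vsh hV
  obtain ⟨W₂, hW₂, hW₂', h6⟩ := approx_side ε₂ ε₁ hε₂ hε₁ V₀ U₀ n b3 b4 b1 b2 b6 Vtr Vsh hV
    Utr Ush hU
  set e₁ := ε₁.map (C : A →+* A[X]) with he₁
  set e₂ := ε₂.map (C : A →+* A[X]) with he₂
  have hee₁ : e₁ * e₁ = e₁ := by rw [he₁, ← Matrix.map_mul, hε₁]
  have hee₂ : e₂ * e₂ = e₂ := by rw [he₂, ← Matrix.map_mul, hε₂]
  refine approx_poly ε₁ ε₂ hε₁ hε₂ (e₂ * Utr * e₁) (e₁ * Vtr * e₂) n W₁ W₂ ?_ ?_ ?_ ?_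
    hW₁ hW₁' hW₂ hW₂' h5 h6
  · rw [← Matrix.mul_assoc, ← Matrix.mul_assoc, hee₂]
  · rw [Matrix.mul_assoc, hee₁]
  · rw [← Matrix.mul_assoc, ← Matrix.mul_assoc, hee₁]
  · rw [Matrix.mul_assoc, hee₂]


open TensorProduct in
theorem main15754 (R : Type u) [CommRing R]
    (L : Type u) [CommRing L] [Algebra R L] (eL : L ≃ₐ[R] LaurentSeries R)
    (M N : Type u) [AddCommGroup M] [Module R M] [Module.Finite R M] [Module.Projective R M]
    [AddCommGroup N] [Module R N] [Module.Finite R N] [Module.Projective R N]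
    (e : L ⊗[R] M ≃ₗ[L] L ⊗[R] N) :
    Nonempty (M ≃ₗ[R] N) := by
  obtain ⟨r, f₁, g₁, -, -, h₁⟩ := Module.Finite.exists_comp_eq_id_of_projective R M
  obtain ⟨r', f₂, g₂, -, -, h₂⟩ := Module.Finite.exists_comp_eq_id_of_projective R N
  obtain ⟨U', V', a1, a2, a3, a4, a5, a6⟩ := exists_UV L f₁ g₁ h₁ f₂ g₂ h₂ e
  set ε₁ := LinearMap.toMatrix' (g₁ ∘ₗ f₁) with hε₁def
  set ε₂ := LinearMap.toMatrix' (g₂ ∘ₗ f₂) with hε₂def
  have hε₁ : ε₁ * ε₁ = ε₁ := by
    rw [hε₁def, ← LinearMap.toMatrix'_comp]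
    congr 1
    rw [LinearMap.comp_assoc, ← LinearMap.comp_assoc f₁ g₁ f₁, h₁, LinearMap.id_comp]
  have hε₂ : ε₂ * ε₂ = ε₂ := by
    rw [hε₂def, ← LinearMap.toMatrix'_comp]
    congr 1
    rw [LinearMap.comp_assoc, ← LinearMap.comp_assoc f₂ g₂ f₂, h₂, LinearMap.id_comp]
  -- transport to Laurent series
  set φ : L →+* LaurentSeries R := (eL : L →+* LaurentSeries R) with hφ
  set j : PowerSeries R →+* LaurentSeries R := algebraMap (PowerSeries R) (LaurentSeries R) with hj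
  have hjinj : Function.Injective j := HahnSeries.ofPowerSeries_injective
  have hεφ : ∀ {n : ℕ} (ε : Matrix (Fin n) (Fin n) R),
      (ε.map (algebraMap R L)).map φ =
        (ε.map (PowerSeries.C : R →+* PowerSeries R)).map j := by
    intro n ε
    apply Matrix.ext
    intro i k
    simp only [Matrix.map_apply, hφ, hj]
    rw [RingHom.coe_coe, eL.commutes, HahnSeries.algebraMap_apply']
    rfl
  set e₁ := ε₁.map (PowerSeries.C : R →+* PowerSeries R) with he₁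
  set e₂ := ε₂.map (PowerSeries.C : R →+* PowerSeries R) with he₂
  have a1' : e₂.map j * U'.map φ = U'.map φ := by rw [← hεφ, ← Matrix.map_mul, a1]
  have a2' : U'.map φ * e₁.map j = U'.map φ := by rw [← hεφ, ← Matrix.map_mul, a2]
  have a3' : e₁.map j * V'.map φ = V'.map φ := by rw [← hεφ, ← Matrix.map_mul, a3]
  have a4' : V'.map φ * e₂.map j = V'.map φ := by rw [← hεφ, ← Matrix.map_mul, a4]
  have a5' : V'.map φ * U'.map φ = e₁.map j := by rw [← hεφ, ← Matrix.map_mul, a5]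
  have a6' : U'.map φ * V'.map φ = e₂.map j := by rw [← hεφ, ← Matrix.map_mul, a6]
  obtain ⟨fU, hfU, hU⟩ := exists_clear_denoms (Submonoid.powers (PowerSeries.X : PowerSeries R))
    (LaurentSeries R) (U'.map φ)
  obtain ⟨fV, hfV, hV⟩ := exists_clear_denoms (Submonoid.powers (PowerSeries.X : PowerSeries R))
    (LaurentSeries R) (V'.map φ)
  obtain ⟨U₀, hU₀⟩ := hU fV hfV
  obtain ⟨V₀, hV₀⟩ := hV fU hfU
  obtain ⟨a, ha⟩ := (Submonoid.mem_powers_iff _ _).mp hfU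
  obtain ⟨b, hb⟩ := (Submonoid.mem_powers_iff _ _).mp hfV
  set f := fV * fU with hf
  have hfc : fU * fV = f := mul_comm _ _
  rw [hfc] at hV₀
  have hff : f * f = (PowerSeries.X : PowerSeries R) ^ (b + a + (b + a)) := by
    rw [hf, ← ha, ← hb, ← pow_add, ← pow_add]
  have b1 : e₂ * U₀ = U₀ := by
    apply map_injective_of_injective j hjinj
    rw [Matrix.map_mul, hU₀, Matrix.mul_smul, a1']
  have b2 : U₀ * e₁ = U₀ := by
    apply map_injective_of_injective j hjinj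
    rw [Matrix.map_mul, hU₀, Matrix.smul_mul, a2']
  have b3 : e₁ * V₀ = V₀ := by
    apply map_injective_of_injective j hjinj
    rw [Matrix.map_mul, hV₀, Matrix.mul_smul, a3']
  have b4 : V₀ * e₂ = V₀ := by
    apply map_injective_of_injective j hjinj
    rw [Matrix.map_mul, hV₀, Matrix.smul_mul, a4']
  have b5 : V₀ * U₀ = (PowerSeries.X : PowerSeries R) ^ (b + a + (b + a)) • e₁ := by
    apply map_injective_of_injective j hjinj
    rw [Matrix.map_mul, hU₀, hV₀, Matrix.smul_mul, Matrix.mul_smul, a5', smul_smul,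
      map_smul_matrix, ← hff, ← map_mul]
  have b6 : U₀ * V₀ = (PowerSeries.X : PowerSeries R) ^ (b + a + (b + a)) • e₂ := by
    apply map_injective_of_injective j hjinj
    rw [Matrix.map_mul, hU₀, hV₀, Matrix.smul_mul, Matrix.mul_smul, a6', smul_smul,
      map_smul_matrix, ← hff, ← map_mul]
  obtain ⟨x, y, hxy, hyx⟩ := approx_series ε₁ ε₂ hε₁ hε₂ U₀ V₀ (b + a + (b + a))
    b1 b2 b3 b4 b5 b6
  exact equiv_of_matrix f₁ g₁ h₁ f₂ g₂ h₂ x y hxy hyx

end Groth.Agent.Helper29.MonicC
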