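import Mathlib

/-!
# Determinants of matrices whose last rows are unit vectors, and minors with repetition
-/
set_option autoImplicit false

namespace Groth.Agent.Helper29.MxA

open Matrix

variable {R : Type*} [CommRing R] {c r : ℕ}

/-- the row index equivalence -/
def rowIdx (hcr : c ≤ r) : Fin c ⊕ Fin (r - c) ≃ Fin r :=
  finSumFinEquiv.trans (finCongr (Nat.add_sub_cancel' hcr))

lemma rowIdx_inl_val (hcr : c ≤ r) (i : Fin c) : ((rowIdx hcr (Sum.inl i) : Fin r) : ℕ) = i := by
  simp [rowIdx]

lemma rowIdx_inr_val (hcr : c ≤ r) (i : Fin (r - c)) :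
    ((rowIdx hcr (Sum.inr i) : Fin r) : ℕ) = c + i := by
  simp [rowIdx]

/-- the key determinant computation -/
lemma key (hcr : c ≤ r) (J : Matrix (Fin c) (Fin r) R) (σ : Fin c → Fin c) (g : Fin c → Fin r)
    (τ : Fin (r - c) → Fin r) (hρ : Function.Bijective (Sum.elim g τ))
    (b : Matrix (Fin r) (Fin r) R)
    (h1 : ∀ i, b (rowIdx hcr (Sum.inl i)) = J (σ i))
    (h2 : ∀ i, b (rowIdx hcr (Sum.inr i)) = Pi.single (τ i) (1 : R)) :
    ∃ u : R, b.det = u * (J.submatrix σ g).det ∧ (J.submatrix σ g).det = u * b.det := by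
  classical
  let ρe : Fin c ⊕ Fin (r - c) ≃ Fin r := Equiv.ofBijective _ hρ
  have hb' : b.submatrix (rowIdx hcr) ρe =
      fromBlocks (J.submatrix σ g) (J.submatrix σ τ) 0 1 := by
    ext i j
    rcases i with i | i <;> rcases j with j | j
    · simp [ρe, h1]
    · simp [ρe, h1]
    · have hne : g j ≠ τ i := by
        intro h
        have := hρ.1 (a₁ := Sum.inl j) (a₂ := Sum.inr i) (by simpa using h)
        simp at this
      simp [ρe, h2, Pi.single_apply, hne]
    · have hinj : τ j = τ i ↔ j = i := by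
        constructor
        · intro h
          have := hρ.1 (a₁ := Sum.inr j) (a₂ := Sum.inr i) (by simpa using h)
          simpa using this
        · rintro rfl; rfl
      simp [ρe, h2, Pi.single_apply, hinj, Matrix.one_apply, eq_comm]
  have hdet' : (b.submatrix (rowIdx hcr) ρe).det = (J.submatrix σ g).det := by
    rw [hb', det_fromBlocks_zero₂₁, det_one, mul_one]
  let π : Equiv.Perm (Fin c ⊕ Fin (r - c)) := ρe.trans (rowIdx hcr).symm
  have hsub : b.submatrix (rowIdx hcr) ρe =
      (b.submatrix (rowIdx hcr) (rowIdx hcr)).submatrix id π := by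
    ext i j
    simp [π]
  have hdet2 : (b.submatrix (rowIdx hcr) ρe).det = (Equiv.Perm.sign π : ℤˣ) * b.det := by
    rw [hsub, det_permute', det_submatrix_equiv_self]
  have hu : (((Equiv.Perm.sign π : ℤˣ) : ℤ) : R) * (((Equiv.Perm.sign π : ℤˣ) : ℤ) : R) = 1 := by
    rw [← Int.cast_mul, ← Units.val_mul, Int.units_mul_self, Units.val_one, Int.cast_one]
  refine ⟨(((Equiv.Perm.sign π : ℤˣ) : ℤ) : R), ?_, ?_⟩
  · rw [← hdet', hdet2, ← mul_assoc, hu, one_mul]
  · rw [← hdet', hdet2]


lemma exists_compl {m : ℕ} (h : c + m = r) (τ : Fin m → Fin r) (hτ : Function.Injective τ) :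
    ∃ g : Fin c → Fin r, Function.Bijective (Sum.elim g τ) := by
  classical
  have hcard : Fintype.card {x : Fin r // x ∉ Set.range τ} = c := by
    rw [Fintype.card_subtype_compl, Fintype.card_fin]
    have : Fintype.card {x : Fin r // x ∈ Set.range τ} = m := by
      exact (Fintype.card_congr (Equiv.ofInjective τ hτ)).symm.trans (Fintype.card_fin m)
    rw [this]
    omega
  let e : Fin c ≃ {x : Fin r // x ∉ Set.range τ} := (Fintype.equivFinOfCardEq hcard).symm
  refine ⟨fun i => (e i).1, ?_, ?_⟩
  · rintro (i | i) (j | j) hij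
    · simp only [Sum.elim_inl] at hij
      rw [e.injective (Subtype.ext hij)]
    · simp only [Sum.elim_inl, Sum.elim_inr] at hij
      exact absurd ⟨j, hij.symm⟩ (e i).2
    · simp only [Sum.elim_inl, Sum.elim_inr] at hij
      exact absurd ⟨i, hij⟩ (e j).2
    · simp only [Sum.elim_inr] at hij
      rw [hτ hij]
  · intro y
    by_cases hy : y ∈ Set.range τ
    · obtain ⟨i, rfl⟩ := hy
      exact ⟨Sum.inr i, rfl⟩
    · exact ⟨Sum.inl (e.symm ⟨y, hy⟩), by simp⟩

lemma exists_compl' {m : ℕ} (h : c + m = r) (g : Fin c → Fin r) (hg : Function.Injective g) :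
    ∃ τ : Fin m → Fin r, Function.Bijective (Sum.elim g τ) := by
  obtain ⟨τ, hτ⟩ := exists_compl (c := m) (m := c) (by omega) g hg
  refine ⟨τ, ?_⟩
  have : Sum.elim g τ = Sum.elim τ g ∘ Sum.swap := by
    ext (i | i) <;> simp
  rw [this]
  exact hτ.comp (Equiv.sumComm _ _).bijective

theorem mx1 {R : Type*} [CommRing R] {c r : ℕ} (hcr : c ≤ r) (J : Matrix (Fin c) (Fin r) R) :
    Ideal.span {d | ∃ b : Matrix (Fin r) (Fin r) R,
      (∀ i : Fin r, b i ∈ (if (i : ℕ) < r - (r - c) then Set.range J else
        Set.range (fun j : Fin r => (Pi.single j (1 : R) : Fin r → R)))) ∧ d = b.det} =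
    Ideal.span {d | ∃ g : Fin c → Fin r, d = (J.submatrix id g).det} := by
  classical
  have hc : r - (r - c) = c := Nat.sub_sub_self hcr
  apply le_antisymm
  · rw [Ideal.span_le]
    rintro d ⟨b, hb, rfl⟩
    have h1 : ∀ i : Fin c, ∃ s, J s = b (rowIdx hcr (Sum.inl i)) := fun i => by
      have := hb (rowIdx hcr (Sum.inl i))
      rw [if_pos (by rw [rowIdx_inl_val, hc]; exact i.2)] at this
      exact this
    have h2 : ∀ i : Fin (r - c), ∃ t : Fin r,
        (Pi.single t (1 : R) : Fin r → R) = b (rowIdx hcr (Sum.inr i)) := fun i => by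
      have := hb (rowIdx hcr (Sum.inr i))
      rw [if_neg (by rw [rowIdx_inr_val, hc]; omega)] at this
      exact this
    choose σ hσ using h1
    choose τ hτ using h2
    by_cases hinj : Function.Injective τ
    · obtain ⟨g, hg⟩ := exists_compl (c := c) (by omega) τ hinj
      obtain ⟨u, hu, -⟩ := key hcr J σ g τ hg b (fun i => (hσ i).symm) (fun i => (hτ i).symm)
      rw [SetLike.mem_coe, hu]
      refine Ideal.mul_mem_left _ _ ?_
      by_cases hσi : Function.Injective σ
      · let σe : Equiv.Perm (Fin c) := Equiv.ofBijective σ (Finite.injective_iff_bijective.1 hσi)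
        have : J.submatrix σ g = (J.submatrix id g).submatrix σe id := by
          ext i j
          simp [σe]
        rw [this, det_permute]
        exact Ideal.mul_mem_left _ _ (Ideal.subset_span ⟨g, rfl⟩)
      · obtain ⟨i, j, hij, hne⟩ : ∃ i j, σ i = σ j ∧ i ≠ j := by
          simpa [Function.Injective] using hσi
        rw [det_zero_of_row_eq hne (by ext k; simp [hij])]
        exact Ideal.zero_mem _
    · obtain ⟨i, j, hij, hne⟩ : ∃ i j, τ i = τ j ∧ i ≠ j := by
        simpa [Function.Injective] using hinj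
      have : b.det = 0 := det_zero_of_row_eq (i := rowIdx hcr (Sum.inr i))
        (j := rowIdx hcr (Sum.inr j)) (by simpa using hne) (by rw [← hτ i, ← hτ j, hij])
      rw [SetLike.mem_coe, this]
      exact Ideal.zero_mem _
  · rw [Ideal.span_le]
    rintro d ⟨g, rfl⟩
    by_cases hinj : Function.Injective g
    · obtain ⟨τ, hτ⟩ := exists_compl' (m := r - c) (by omega) g hinj
      let b : Matrix (Fin r) (Fin r) R := fun k =>
        Sum.elim (fun i => J i) (fun i => Pi.single (τ i) 1) ((rowIdx hcr).symm k)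
      obtain ⟨u, -, hu⟩ := key hcr J id g τ hτ b (by intro i; simp [b]) (by intro i; simp [b])
      rw [SetLike.mem_coe, hu]
      refine Ideal.mul_mem_left _ _ (Ideal.subset_span ⟨b, ?_, rfl⟩)
      intro k
      obtain ⟨s, rfl⟩ := (rowIdx hcr).surjective k
      rcases s with i | i
      · rw [if_pos (by rw [rowIdx_inl_val, hc]; exact i.2)]
        exact ⟨i, by simp [b]⟩
      · rw [if_neg (by rw [rowIdx_inr_val, hc]; omega)]
        exact ⟨τ i, by simp [b]⟩
    · obtain ⟨i, j, hij, hne⟩ : ∃ i j, g i = g j ∧ i ≠ j := by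
        simpa [Function.Injective] using hinj
      rw [SetLike.mem_coe, det_zero_of_column_eq hne (by intro k; simp [hij])]
      exact Ideal.zero_mem _

end Groth.Agent.Helper29.MxA
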