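import Mathlib

set_option autoImplicit false
universe u v w

namespace Groth.Agent.Helper29.NilTensor

open TensorProduct

/-- a finite-dimensional reduced commutative algebra over an algebraically closed field is a
finite product of copies of the field -/
theorem exists_algEquiv_pi (k : Type u) [Field k] [IsAlgClosed k] (A : Type v) [CommRing A]
    [Algebra k A] [Module.Finite k A] [IsReduced A] :
    ∃ (ι : Type v) (_ : Fintype ι) (_ : DecidableEq ι), Nonempty (A ≃ₐ[k] (ι → k)) := by
  classical
  have : IsArtinianRing A := IsArtinianRing.of_finite k A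
  have : Fintype (MaximalSpectrum A) := Fintype.ofFinite _
  refine ⟨MaximalSpectrum A, inferInstance, inferInstance, ?_⟩
  have e1 : A ≃ₐ[k] ∀ m : MaximalSpectrum A, A ⧸ m.asIdeal :=
    (IsArtinianRing.equivPi A).restrictScalars k
  have bij : ∀ m : MaximalSpectrum A, Function.Bijective (algebraMap k (A ⧸ m.asIdeal)) := by
    intro m
    have := m.isMaximal
    have : Module.Finite k (A ⧸ m.asIdeal) :=
      Module.Finite.of_surjective (Ideal.Quotient.mkₐ k m.asIdeal).toLinearMap
        (Ideal.Quotient.mkₐ_surjective k m.asIdeal)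
    have : Algebra.IsIntegral k (A ⧸ m.asIdeal) := Algebra.IsIntegral.of_finite k _
    exact IsAlgClosed.algebraMap_bijective_of_isIntegral
  have e2 : (∀ m : MaximalSpectrum A, A ⧸ m.asIdeal) ≃ₐ[k] (MaximalSpectrum A → k) :=
    AlgEquiv.piCongrRight fun m =>
      (AlgEquiv.ofBijective (Algebra.ofId k (A ⧸ m.asIdeal)) (bij m)).symm
  exact ⟨e1.trans e2⟩

theorem isReduced_tensor (k : Type u) [Field k] [IsAlgClosed k] (A : Type v) [CommRing A]
    [Algebra k A] [Module.Finite k A] [IsReduced A] (B : Type w) [CommRing B] [Algebra k B]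
    [IsReduced B] : IsReduced (A ⊗[k] B) := by
  obtain ⟨ι, _, _, ⟨e⟩⟩ := exists_algEquiv_pi k A
  let Ψ : A ⊗[k] B ≃ₐ[k] (ι → B) :=
    (Algebra.TensorProduct.comm k A B).trans
      ((Algebra.TensorProduct.congr AlgEquiv.refl e).trans
        (Algebra.TensorProduct.piScalarRight k k B ι))
  exact isReduced_of_injective Ψ Ψ.injective

theorem main (k : Type u) [Field k]
    [IsAlgClosed k] (A : Type v) [CommRing A] [Algebra k A] [Module.Finite k A]
    (B : Type w) [CommRing B] [Algebra k B] [Module.Finite k B] :
    RingHom.ker (Algebra.TensorProduct.map (Ideal.Quotient.mkₐ k (nilradical A))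
      (Ideal.Quotient.mkₐ k (nilradical B))).toRingHom = nilradical (A ⊗[k] B) := by
  have : IsReduced (A ⧸ nilradical A) :=
    (Ideal.isRadical_iff_quotient_reduced _).mp (Ideal.radical_isRadical _)
  have : IsReduced (B ⧸ nilradical B) :=
    (Ideal.isRadical_iff_quotient_reduced _).mp (Ideal.radical_isRadical _)
  have : Module.Finite k (A ⧸ nilradical A) :=
    Module.Finite.of_surjective (Ideal.Quotient.mkₐ k (nilradical A)).toLinearMap
      (Ideal.Quotient.mkₐ_surjective k _)
  have : IsReduced ((A ⧸ nilradical A) ⊗[k] (B ⧸ nilradical B)) := isReduced_tensor k _ _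
  apply le_antisymm
  · have hk := Algebra.TensorProduct.map_ker (Ideal.Quotient.mkₐ k (nilradical A))
      (Ideal.Quotient.mkₐ k (nilradical B)) (Ideal.Quotient.mkₐ_surjective k _)
      (Ideal.Quotient.mkₐ_surjective k _)
    intro x hx
    have hx' : x ∈ RingHom.ker (Algebra.TensorProduct.map (Ideal.Quotient.mkₐ k (nilradical A))
      (Ideal.Quotient.mkₐ k (nilradical B))) := hx
    have hkA : RingHom.ker (Ideal.Quotient.mkₐ k (nilradical A)) = nilradical A :=
      Ideal.Quotient.mkₐ_ker k _
    have hkB : RingHom.ker (Ideal.Quotient.mkₐ k (nilradical B)) = nilradical B :=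
      Ideal.Quotient.mkₐ_ker k _
    rw [hk, hkA, hkB] at hx'
    have hle : Ideal.map (Algebra.TensorProduct.includeLeft : A →ₐ[k] A ⊗[k] B) (nilradical A) ⊔
        Ideal.map (Algebra.TensorProduct.includeRight : B →ₐ[k] A ⊗[k] B) (nilradical B) ≤
        nilradical (A ⊗[k] B) := by
      apply sup_le
      · rw [Ideal.map_le_iff_le_comap]
        intro a ha
        exact mem_nilradical.mpr ((mem_nilradical.mp ha).map _)
      · rw [Ideal.map_le_iff_le_comap]
        intro a ha
        exact mem_nilradical.mpr ((mem_nilradical.mp ha).map _)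
    exact hle hx'
  · intro x hx
    have : IsNilpotent ((Algebra.TensorProduct.map (Ideal.Quotient.mkₐ k (nilradical A))
      (Ideal.Quotient.mkₐ k (nilradical B))) x) := (mem_nilradical.mp hx).map _
    exact this.eq_zero

end Groth.Agent.Helper29.NilTensor
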