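import Mathlib
import Groth.Agent.Lib.Helper26.InvSwap

set_option autoImplicit false
universe u

namespace Groth.Agent.Helper29.NmA

open TensorProduct

variable {A B : Type u} [CommRing A] [CommRing B] [Algebra A B] [Module.Finite A B]

theorem finite_maximalSpectrum (p : Ideal A) [p.IsPrime] :
    Finite (MaximalSpectrum (Localization (Algebra.algebraMapSubmonoid B p.primeCompl))) := by
  have hfin : ((IsLocalRing.maximalIdeal (Localization.AtPrime p)).primesOver
      (Localization (Algebra.algebraMapSubmonoid B p.primeCompl))).Finite :=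
    Algebra.QuasiFinite.finite_primesOver _
  haveI := hfin.to_subtype
  refine Finite.of_injective (β := (IsLocalRing.maximalIdeal (Localization.AtPrime p)).primesOver
      (Localization (Algebra.algebraMapSubmonoid B p.primeCompl)))
    (fun n => ⟨n.asIdeal, ⟨n.isMaximal.isPrime, ⟨?_⟩⟩⟩) ?_
  · have : (n.asIdeal.under (Localization.AtPrime p)).IsMaximal :=
      Ideal.isMaximal_comap_of_isIntegral_of_isMaximal _
    exact (IsLocalRing.eq_maximalIdeal this).symm
  · intro n n' h
    ext1
    exact congrArg Subtype.val h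

theorem exists_gen (p : Ideal A) [p.IsPrime] (M : Type u) [AddCommGroup M] [Module B M]
    [Module.Invertible B M] :
    ∃ e : M, ∀ x : M, ∃ c : A, c ∉ p ∧ ∃ b : B, algebraMap A B c • x = b • e := by
  haveI := finite_maximalSpectrum (B := B) p
  have hfree : Module.Free (Localization (Algebra.algebraMapSubmonoid B p.primeCompl))
      (LocalizedModule (Algebra.algebraMapSubmonoid B p.primeCompl) M) := inferInstance
  obtain ⟨ε⟩ := (Module.Invertible.free_iff_linearEquiv).1 hfree
  obtain ⟨m, s, hms⟩ : ∃ (m : M) (s : Algebra.algebraMapSubmonoid B p.primeCompl),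
      ε.symm 1 = LocalizedModule.mk m s := by
    induction ε.symm 1 using LocalizedModule.induction_on with
    | h m s => exact ⟨m, s, rfl⟩
  refine ⟨m, fun x => ?_⟩
  obtain ⟨a, t, hat⟩ : ∃ (a : B) (t : Algebra.algebraMapSubmonoid B p.primeCompl),
      ε (LocalizedModule.mk x 1) = Localization.mk a t := by
    induction ε (LocalizedModule.mk x 1) using Localization.induction_on with
    | H y => exact ⟨y.1, y.2, rfl⟩
  have h1 : LocalizedModule.mk x 1 = (Localization.mk a t) • LocalizedModule.mk m s := by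
    rw [← hms, ← map_smul ε.symm, smul_eq_mul, mul_one, ← hat, LinearEquiv.symm_apply_apply]
  rw [LocalizedModule.mk_smul_mk, LocalizedModule.mk_eq] at h1
  obtain ⟨v, hv⟩ := h1
  obtain ⟨c, hc, hcv⟩ := (v * (t * s)).2
  refine ⟨c, hc, (v : B) * a, ?_⟩
  rw [hcv, mul_smul]
  convert hv using 1
  · simp [Submonoid.smul_def, mul_smul]
  · simp [Submonoid.smul_def, mul_smul]

theorem exists_local_data (p : Ideal A) [p.IsPrime] (M : Type u) [AddCommGroup M] [Module B M]
    [Module.Invertible B M] :
    ∃ (f : A) (e : M) (g : M →ₗ[B] B), f ∉ p ∧ g e = algebraMap A B f ∧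
      ∀ m, g m • e = algebraMap A B f • m := by
  classical
  obtain ⟨e, he⟩ := exists_gen (B := B) p M
  obtain ⟨S, hS⟩ := ((Module.Invertible.linearEquiv B M).symm 1).exists_finset
  have h1 : (1 : B) = ∑ i ∈ S, i.1 i.2 := by
    simpa [LinearEquiv.symm_apply_eq, Module.Invertible.linearEquiv] using hS
  choose c hc b hb using he
  have hge : (∑ i ∈ S, (algebraMap A B (∏ j ∈ S.erase i, c j.2) * b i.2) • i.1 :
      M →ₗ[B] B) e = algebraMap A B (∏ i ∈ S, c i.2) := by
    rw [LinearMap.sum_apply]
    have : ∀ i ∈ S, ((algebraMap A B (∏ j ∈ S.erase i, c j.2) * b i.2) • i.1 : M →ₗ[B] B) e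
        = algebraMap A B (∏ j ∈ S, c j.2) * i.1 i.2 := by
      intro i hi
      rw [LinearMap.smul_apply, smul_eq_mul, mul_assoc, ← smul_eq_mul (b i.2), ← map_smul,
        ← hb, map_smul, smul_eq_mul, ← mul_assoc, ← map_mul, Finset.prod_erase_mul S _ hi]
    rw [Finset.sum_congr rfl this, ← Finset.mul_sum, ← h1, mul_one]
  refine ⟨∏ i ∈ S, c i.2, e,
    ∑ i ∈ S, (algebraMap A B (∏ j ∈ S.erase i, c j.2) * b i.2) • i.1, ?_, hge, ?_⟩
  · intro h
    obtain ⟨i, _, hi⟩ := (Ideal.IsPrime.prod_mem_iff).1 h
    exact hc _ hi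
  · intro m
    rw [Groth.Agent.Helper26.InvSwap.swap _ m e, hge]

end Groth.Agent.Helper29.NmA
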