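import Mathlib
import Groth.Agent.S12080
import Groth.Agent.Lib.Helper3.ExtDet2

set_option autoImplicit false
universe u

namespace Groth.Agent.Helper29.NmB

open TensorProduct Module

variable {R : Type u} [CommRing R] (L : Type u) [AddCommGroup L] [Module R L]
  [Module.Finite R L] [Module.Projective R L]

theorem invertible_of_rank_one (h : ∀ p : PrimeSpectrum R, rankAtStalk L p = 1) :
    Module.Invertible R L := by
  refine Groth.Agent.S12080.result R L
    {f | Nonempty (LocalizedModule.Away f L ≃ₗ[Localization.Away f] Localization.Away f)}
    ?_ (fun f hf => hf)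
  by_contra hne
  obtain ⟨p, hp, hle⟩ := Ideal.exists_le_maximal _ hne
  haveI := hp.isPrime
  obtain ⟨a, hap, hfree⟩ := Module.Free.away_of_finite_of_flat_of_rankAtStalk_constant L p
    (fun m _ => by rw [h, h])
  apply hap
  apply hle
  apply Ideal.subset_span
  show Nonempty _
  rcases subsingleton_or_nontrivial (Localization.Away a) with hs | hn
  · haveI : Subsingleton (LocalizedModule.Away a L) :=
      Module.subsingleton (Localization.Away a) _
    exact ⟨{ toFun := fun _ => 0, invFun := fun _ => 0, map_add' := by intros; simp,
             map_smul' := by intros; simp, left_inv := fun x => Subsingleton.elim _ _,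
             right_inv := fun x => Subsingleton.elim _ _ }⟩
  · have h1 : Module.finrank (Localization.Away a) (LocalizedModule.Away a L) = 1 := by
      obtain ⟨q⟩ : Nonempty (PrimeSpectrum (Localization.Away a)) := inferInstance
      have e1 := congrFun (Module.rankAtStalk_eq_finrank_of_free (R := Localization.Away a)
        (M := LocalizedModule.Away a L)) q
      have e2 := Module.rankAtStalk_isBaseChange
        (LocalizedModule.isBaseChange (Submonoid.powers a) L) q
      rw [h] at e2
      rw [e2] at e1
      exact_mod_cast e1.symm
    exact ⟨(Module.nonempty_linearEquiv_of_finrank_eq_one h1).some.symm⟩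

theorem invertible_of_finrank_one
    (h : ∀ q : PrimeSpectrum R, Module.finrank (Localization.AtPrime q.asIdeal)
      (LocalizedModule q.asIdeal.primeCompl L) = 1) :
    Module.Invertible R L :=
  invertible_of_rank_one L h

theorem invertible_extPow (n : ℕ)
    (h : ∀ q : PrimeSpectrum R, Module.finrank (Localization.AtPrime q.asIdeal)
      (LocalizedModule q.asIdeal.primeCompl L) = n) :
    Module.Invertible R (⋀[R]^n L) := by
  haveI := Groth.Agent.Helper3.ExtDet2.projective_extPow (B := R) (Q := L) n
  refine invertible_of_rank_one _ (fun p => ?_)
  rw [Groth.Agent.Helper3.ExtDet2.rankAtStalk_extPow]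
  have : rankAtStalk L p = n := h p
  rw [this, Nat.choose_self]

end Groth.Agent.Helper29.NmB
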