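import Mathlib
import Groth.Agent.Lib.Helper29.NmA
import Groth.Agent.Lib.Helper29.NmB

set_option autoImplicit false
universe u

namespace Groth.Agent.Helper29.NmC

open TensorProduct

section basics

variable {A : Type u} [CommRing A] (n : ℕ)
variable {V W : Type u} [AddCommGroup V] [Module A V] [AddCommGroup W] [Module A W]

theorem map_smul' (c : A) (φ : V →ₗ[A] W) :
    exteriorPower.map n (c • φ) = c ^ n • exteriorPower.map n φ := by
  apply exteriorPower.linearMap_ext
  refine AlternatingMap.ext fun v => ?_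
  simp only [LinearMap.compAlternatingMap_apply, exteriorPower.map_apply_ιMulti,
    LinearMap.smul_apply]
  have := (exteriorPower.ιMulti A n (M := W)).toMultilinearMap.map_smul_univ (fun _ => c)
    (φ ∘ v)
  simp only [Finset.prod_const, Finset.card_univ, Fintype.card_fin] at this
  exact this

theorem map_smul_id (c : A) :
    exteriorPower.map n (c • (LinearMap.id : V →ₗ[A] V)) = c ^ n • LinearMap.id := by
  rw [map_smul', exteriorPower.map_id]

theorem eq_zero_of_locally {X : Type*} [AddCommGroup X] [Module A X] (x : X)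
    (h : ∀ p : Ideal A, p.IsMaximal → ∃ f : A, f ∉ p ∧ ∃ k : ℕ, f ^ k • x = 0) : x = 0 := by
  by_contra hx
  have hne : LinearMap.ker (LinearMap.toSpanSingleton A X x) ≠ ⊤ := by
    intro htop
    have : (1 : A) ∈ LinearMap.ker (LinearMap.toSpanSingleton A X x) := htop ▸ Submodule.mem_top
    simp at this
    exact hx this
  obtain ⟨p, hp, hle⟩ := Ideal.exists_le_maximal _ hne
  obtain ⟨f, hf, k, hk⟩ := h p hp
  exact hf (hp.isPrime.mem_of_pow_mem k (hle (by simpa using hk)))

theorem eq_top_of_locally (I : Ideal A)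
    (h : ∀ p : Ideal A, p.IsMaximal → ∃ f : A, f ∉ p ∧ ∃ k : ℕ, f ^ k ∈ I) : I = ⊤ := by
  by_contra hne
  obtain ⟨p, hp, hle⟩ := Ideal.exists_le_maximal _ hne
  obtain ⟨f, hf, k, hk⟩ := h p hp
  exact hf (hp.isPrime.mem_of_pow_mem k (hle hk))

end basics

section maps

variable {A B : Type u} [CommRing A] [CommRing B] [Algebra A B]
variable {M : Type u} [AddCommGroup M] [Module B M] [Module A M] [IsScalarTower A B M]
variable {M₂ : Type u} [AddCommGroup M₂] [Module B M₂] [Module A M₂] [IsScalarTower A B M₂]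

variable (A B) in
def mu (m : M) : B →ₗ[A] M := (LinearMap.toSpanSingleton B M m).restrictScalars A

@[simp] lemma mu_apply (m : M) (b : B) : mu A B m b = b • m := rfl

variable (A M) in
def lam (b : B) : M →ₗ[A] M := (LinearMap.lsmul B M b).restrictScalars A

@[simp] lemma lam_apply (b : B) (x : M) : lam A M b x = b • x := rfl

variable (A) in
def gA (g : M →ₗ[B] B) : M →ₗ[A] B := g.restrictScalars A

@[simp] lemma gA_apply (g : M →ₗ[B] B) (x : M) : gA A g x = g x := rfl

variable (A B M₂) in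
def tau (m : M) : M₂ →ₗ[A] M ⊗[B] M₂ := (TensorProduct.mk B M M₂ m).restrictScalars A

@[simp] lemma tau_apply (m : M) (x : M₂) : tau A B M₂ m x = m ⊗ₜ[B] x := rfl

variable (A M₂) in
def gam (g : M →ₗ[B] B) : M ⊗[B] M₂ →ₗ[A] M₂ :=
  ((TensorProduct.lid B M₂).toLinearMap ∘ₗ LinearMap.rTensor M₂ g).restrictScalars A

@[simp] lemma gam_tmul (g : M →ₗ[B] B) (m : M) (x : M₂) :
    gam A M₂ g (m ⊗ₜ[B] x) = g m • x := by
  simp [gam]

/-- local trivialisation data -/
structure LD (f : A) (e : M) (g : M →ₗ[B] B) : Prop where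
  ge : g e = algebraMap A B f
  gm : ∀ m, g m • e = f • m

variable {f : A} {e : M} {g : M →ₗ[B] B}

theorem LD.gA_mu (h : LD f e g) : gA A g ∘ₗ mu A B e = f • LinearMap.id := by
  ext b
  show g (b • e) = f • b
  rw [map_smul, h.ge, smul_eq_mul, Algebra.smul_def, mul_comm]

theorem LD.mu_gA (h : LD f e g) : mu A B e ∘ₗ gA A g = f • LinearMap.id := by
  ext m
  simp only [LinearMap.comp_apply, mu_apply, gA_apply, LinearMap.smul_apply, LinearMap.id_apply]
  exact h.gm m

theorem LD.gam_tau (h : LD f e g) : gam A M₂ g ∘ₗ tau A B M₂ e = f • LinearMap.id := by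
  ext x
  simp only [LinearMap.comp_apply, tau_apply, gam_tmul, h.ge, algebraMap_smul,
    LinearMap.smul_apply, LinearMap.id_apply]

theorem LD.tau_gam (h : LD f e g) : tau A B M₂ e ∘ₗ gam A M₂ g = f • LinearMap.id := by
  refine LinearMap.ext fun z => ?_
  induction z using TensorProduct.induction_on with
  | zero => simp
  | add x y hx hy => rw [map_add, map_add, hx, hy]
  | tmul m x =>
    show e ⊗ₜ[B] (g m • x) = f • (m ⊗ₜ[B] x)
    rw [← TensorProduct.smul_tmul (g m) e x, h.gm]
    rfl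

/-- step 1 : `f • (μ_m ∘ g) = f • λ_{g m}` -/
theorem LD.step1 (h : LD f e g) (m : M) :
    f • (mu A B m ∘ₗ gA A g) = f • lam A M (g m) := by
  ext x
  simp only [LinearMap.smul_apply, LinearMap.comp_apply, gA_apply, mu_apply, lam_apply]
  rw [smul_comm f (g x) m, ← h.gm m, smul_comm (g x) (g m) e, h.gm x, smul_comm]

/-- step 2 : `f • τ_m = τ_e ∘ λ_{g m}` -/
theorem LD.step2 (h : LD f e g) (m : M) :
    f • tau A B M₂ m = tau A B M₂ e ∘ₗ lam A M₂ (g m) := by
  ext x
  show (f • m) ⊗ₜ[B] x = e ⊗ₜ[B] (g m • x)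
  rw [← h.gm m, TensorProduct.smul_tmul (g m) e x]

/-- step 1' : `f • (τ_m ∘ γ_g) = f • λ_{g m}` on `M ⊗ M₂` -/
theorem LD.step1' (h : LD f e g) (m : M) :
    f • (tau A B M₂ m ∘ₗ gam A M₂ g) = f • lam A (M ⊗[B] M₂) (g m) := by
  refine LinearMap.ext fun z => ?_
  induction z using TensorProduct.induction_on with
  | zero => simp
  | add x y hx hy => rw [map_add, map_add, hx, hy]
  | tmul x y =>
    simp only [LinearMap.smul_apply, LinearMap.comp_apply, tau_apply, gam_tmul, lam_apply]
    show (f • m) ⊗ₜ[B] (g x • y) = (f • (g m • (x ⊗ₜ[B] y)))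
    rw [← h.gm m, ← TensorProduct.smul_tmul (g x) (g m • e) y, smul_comm (g x) (g m) e, h.gm x]
    rw [TensorProduct.smul_tmul', smul_comm]
    rfl

/-- step 2' : `f • μ_m = μ_e ∘ λ_{g m}` -/
theorem LD.step2' (h : LD f e g) (m : M) :
    f • mu A B m = mu A B e ∘ₗ lam A B (g m) := by
  ext b
  simp only [LinearMap.smul_apply, LinearMap.comp_apply, mu_apply, lam_apply, smul_eq_mul]
  rw [smul_comm f b m, ← h.gm m, smul_smul, mul_comm]

theorem lam_mu (b : B) (e : M) : lam A M b ∘ₗ mu A B e = mu A B e ∘ₗ lam A B b := by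
  ext b'
  simp [smul_smul]

end maps

end Groth.Agent.Helper29.NmC
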