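import Mathlib
import Groth.Agent.Lib.Helper29.NmC

set_option autoImplicit false
universe u

namespace Groth.Agent.Helper29.NmD

open TensorProduct Groth.Agent.Helper29.NmC

variable {A B : Type u} [CommRing A] [CommRing B] [Algebra A B] [Module.Finite A B]
variable (n : ℕ)

section norm

variable (M : Type u) [AddCommGroup M] [Module B M] [Module A M] [IsScalarTower A B M]
  [Module.Invertible B M]

theorem exists_LD (p : Ideal A) [p.IsPrime] :
    ∃ (f : A) (e : M) (g : M →ₗ[B] B), f ∉ p ∧ LD f e g := by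
  obtain ⟨f, e, g, hf, h1, h2⟩ := Groth.Agent.Helper29.NmA.exists_local_data (B := B) p M
  exact ⟨f, e, g, hf, ⟨h1, fun m => by rw [h2, algebraMap_smul]⟩⟩

theorem norm_lemma (b : B) (a : A)
    (ha : exteriorPower.map n (lam A B b) = a • LinearMap.id) :
    exteriorPower.map n (lam A M b) = a • LinearMap.id := by
  rw [← sub_eq_zero]
  refine eq_zero_of_locally (A := A) (X := (⋀[A]^n M) →ₗ[A] (⋀[A]^n M)) _ ?_
  intro p hp
  haveI := hp.isPrime
  obtain ⟨f, e, g, hf, h⟩ := exists_LD (B := B) M p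
  refine ⟨f, hf, n, ?_⟩
  rw [smul_sub, sub_eq_zero]
  have h1 : exteriorPower.map n (lam A M b) ∘ₗ exteriorPower.map n (mu A B e)
      = a • exteriorPower.map n (mu A B e) := by
    rw [← exteriorPower.map_comp, lam_mu, exteriorPower.map_comp, ha, LinearMap.comp_smul,
      LinearMap.comp_id]
  calc f ^ n • exteriorPower.map n (lam A M b)
      = exteriorPower.map n (lam A M b) ∘ₗ (f ^ n • LinearMap.id) := by
        rw [LinearMap.comp_smul, LinearMap.comp_id]
    _ = exteriorPower.map n (lam A M b) ∘ₗ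
          (exteriorPower.map n (mu A B e) ∘ₗ exteriorPower.map n (gA A g)) := by
        rw [← exteriorPower.map_comp, h.mu_gA, map_smul_id]
    _ = a • (exteriorPower.map n (mu A B e) ∘ₗ exteriorPower.map n (gA A g)) := by
        rw [← LinearMap.comp_assoc, h1, LinearMap.smul_comp]
    _ = f ^ n • a • LinearMap.id := by
        rw [← exteriorPower.map_comp, h.mu_gA, map_smul_id, smul_comm]

end norm

section main

variable (M₁ M₂ : Type u) [AddCommGroup M₁] [Module B M₁] [Module A M₁] [IsScalarTower A B M₁]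
  [AddCommGroup M₂] [Module B M₂] [Module A M₂] [IsScalarTower A B M₂]

variable {M₁} (A B) in
noncomputable def al (m : M₁) : (⋀[A]^n B) ⊗[A] (⋀[A]^n (M₁ ⊗[B] M₂)) →ₗ[A]
    (⋀[A]^n M₁) ⊗[A] (⋀[A]^n (M₁ ⊗[B] M₂)) :=
  TensorProduct.map (exteriorPower.map n (mu A B m)) LinearMap.id

variable {M₁} (A B) in
noncomputable def be (m : M₁) : (⋀[A]^n M₁) ⊗[A] (⋀[A]^n M₂) →ₗ[A]
    (⋀[A]^n M₁) ⊗[A] (⋀[A]^n (M₁ ⊗[B] M₂)) :=
  TensorProduct.map LinearMap.id (exteriorPower.map n (tau A B M₂ m))

variable {M₁} (A) in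
noncomputable def al' (g : M₁ →ₗ[B] B) : (⋀[A]^n M₁) ⊗[A] (⋀[A]^n (M₁ ⊗[B] M₂)) →ₗ[A]
    (⋀[A]^n B) ⊗[A] (⋀[A]^n (M₁ ⊗[B] M₂)) :=
  TensorProduct.map (exteriorPower.map n (gA A g)) LinearMap.id

variable {M₁} (A) in
noncomputable def be' (g : M₁ →ₗ[B] B) : (⋀[A]^n M₁) ⊗[A] (⋀[A]^n (M₁ ⊗[B] M₂)) →ₗ[A]
    (⋀[A]^n M₁) ⊗[A] (⋀[A]^n M₂) :=
  TensorProduct.map LinearMap.id (exteriorPower.map n (gam A M₂ g))

variable {M₁} {f : A} {e : M₁} {g : M₁ →ₗ[B] B}

theorem al'_al (h : LD f e g) : al' A n M₂ g ∘ₗ al A B n M₂ e = f ^ n • LinearMap.id := by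
  rw [al', al, ← TensorProduct.map_comp, ← exteriorPower.map_comp, h.gA_mu, map_smul_id,
    LinearMap.comp_id, TensorProduct.map_smul_left, TensorProduct.map_id]

theorem be'_be (h : LD f e g) : be' A n M₂ g ∘ₗ be A B n M₂ e = f ^ n • LinearMap.id := by
  rw [be', be, ← TensorProduct.map_comp, ← exteriorPower.map_comp, h.gam_tau, map_smul_id,
    LinearMap.comp_id, TensorProduct.map_smul_right, TensorProduct.map_id]

theorem exists_scalar [Module.Invertible A (⋀[A]^n B)] (b : B) :
    ∃ a : A, exteriorPower.map n (lam A B b) = a • LinearMap.id := by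
  obtain ⟨a, ha⟩ := (Module.Invertible.toModuleEnd_bijective A (⋀[A]^n B)).2
    (exteriorPower.map n (lam A B b))
  refine ⟨a, ?_⟩
  rw [← ha]
  ext x
  simp

variable [Module.Invertible A (⋀[A]^n B)] [Module.Invertible B M₁] [Module.Invertible B M₂]

theorem local_Θ (h : LD f e g) (m : M₁) :
    al A B n M₂ m ∘ₗ (f ^ n • (al' A n M₂ g ∘ₗ be A B n M₂ e)) = (f ^ n * f ^ n) • be A B n M₂ m := by
  obtain ⟨a, ha⟩ := exists_scalar (A := A) n (g m)
  have n1 := norm_lemma n M₁ (g m) a ha
  have n2 := norm_lemma n M₂ (g m) a ha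
  have s1 : f ^ n • exteriorPower.map n (mu A B m ∘ₗ gA A g)
      = f ^ n • a • LinearMap.id := by
    rw [← map_smul', h.step1 m, map_smul', n1]
  have s2 : f ^ n • exteriorPower.map n (tau A B M₂ m)
      = a • exteriorPower.map n (tau A B M₂ e) := by
    rw [← map_smul', h.step2 m, exteriorPower.map_comp, n2, LinearMap.comp_smul,
      LinearMap.comp_id]
  calc al A B n M₂ m ∘ₗ (f ^ n • (al' A n M₂ g ∘ₗ be A B n M₂ e))
      = TensorProduct.map (f ^ n • exteriorPower.map n (mu A B m ∘ₗ gA A g))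
          (exteriorPower.map n (tau A B M₂ e)) := by
        rw [LinearMap.comp_smul, al, al', be, ← TensorProduct.map_comp,
          ← TensorProduct.map_comp, LinearMap.comp_id,
          LinearMap.id_comp, LinearMap.id_comp, ← exteriorPower.map_comp,
          TensorProduct.map_smul_left]
    _ = f ^ n • TensorProduct.map LinearMap.id (a • exteriorPower.map n (tau A B M₂ e)) := by
        rw [s1, TensorProduct.map_smul_left, TensorProduct.map_smul_left,
          TensorProduct.map_smul_right]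
    _ = (f ^ n * f ^ n) • be A B n M₂ m := by
        rw [← s2, TensorProduct.map_smul_right, smul_smul, be]

theorem local_Ψ (h : LD f e g) (m : M₁) :
    be A B n M₂ m ∘ₗ (f ^ n • (be' A n M₂ g ∘ₗ al A B n M₂ e)) = (f ^ n * f ^ n) • al A B n M₂ m := by
  obtain ⟨a, ha⟩ := exists_scalar (A := A) n (g m)
  have n1 := norm_lemma n (M₁ ⊗[B] M₂) (g m) a ha
  have s1 : f ^ n • exteriorPower.map n (tau A B M₂ m ∘ₗ gam A M₂ g)
      = f ^ n • a • LinearMap.id := by
    rw [← map_smul', h.step1' m, map_smul', n1]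
  have s2 : f ^ n • exteriorPower.map n (mu A B m)
      = a • exteriorPower.map n (mu A B e) := by
    rw [← map_smul', h.step2' m, exteriorPower.map_comp, ha, LinearMap.comp_smul,
      LinearMap.comp_id]
  calc be A B n M₂ m ∘ₗ (f ^ n • (be' A n M₂ g ∘ₗ al A B n M₂ e))
      = TensorProduct.map (exteriorPower.map n (mu A B e))
          (f ^ n • exteriorPower.map n (tau A B M₂ m ∘ₗ gam A M₂ g)) := by
        rw [LinearMap.comp_smul, al, be', be, ← TensorProduct.map_comp,
          ← TensorProduct.map_comp, LinearMap.comp_id,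
          LinearMap.id_comp, LinearMap.id_comp, ← exteriorPower.map_comp,
          TensorProduct.map_smul_right]
    _ = f ^ n • TensorProduct.map (a • exteriorPower.map n (mu A B e)) LinearMap.id := by
        rw [s1, TensorProduct.map_smul_right, TensorProduct.map_smul_right,
          TensorProduct.map_smul_left]
    _ = (f ^ n * f ^ n) • al A B n M₂ m := by
        rw [← s2, TensorProduct.map_smul_left, smul_smul, al]

end main

end Groth.Agent.Helper29.NmD
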