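import Mathlib
import Groth.Agent.Lib.Helper29.NmD

set_option autoImplicit false
universe u

namespace Groth.Agent.Helper29.NmE

open TensorProduct Groth.Agent.Helper29.NmC Groth.Agent.Helper29.NmD

variable (A B : Type u) [CommRing A] [CommRing B] [Algebra A B] [Module.Finite A B]
variable (n : ℕ)
variable (M₁ M₂ : Type u) [AddCommGroup M₁] [Module B M₁] [Module A M₁] [IsScalarTower A B M₁]
  [AddCommGroup M₂] [Module B M₂] [Module A M₂] [IsScalarTower A B M₂]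

omit [Module.Finite A B] in
theorem eq_of_locally {A : Type u} [CommRing A] {X : Type u} [AddCommMonoid X] [Module A X]
    (x y : X)
    (h : ∀ p : Ideal A, p.IsMaximal → ∃ f : A, f ∉ p ∧ ∃ k : ℕ, f ^ k • x = f ^ k • y) :
    x = y := by
  let I : Ideal A :=
    { carrier := {s | s • x = s • y}
      add_mem' := by
        intro s t hs ht
        show (s + t) • x = (s + t) • y
        rw [add_smul, add_smul, hs, ht]
      zero_mem' := by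
        show (0 : A) • x = (0 : A) • y
        rw [zero_smul, zero_smul]
      smul_mem' := by
        intro c s hs
        show (c • s) • x = (c • s) • y
        rw [smul_eq_mul, mul_smul, mul_smul, hs] }
  have hI : I = ⊤ := eq_top_of_locally I h
  have h1 : (1 : A) ∈ I := by rw [hI]; trivial
  have h2 : (1 : A) • x = (1 : A) • y := h1
  rwa [one_smul, one_smul] at h2

def IΘ : Ideal A where
  carrier := {s | ∃ Θ : (⋀[A]^n M₁) ⊗[A] (⋀[A]^n M₂) →ₗ[A]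
    (⋀[A]^n B) ⊗[A] (⋀[A]^n (M₁ ⊗[B] M₂)), ∀ m : M₁, al A B n M₂ m ∘ₗ Θ = s • be A B n M₂ m}
  add_mem' := by
    rintro s t ⟨Θ, hΘ⟩ ⟨Θ', hΘ'⟩
    exact ⟨Θ + Θ', fun m => by rw [LinearMap.comp_add, hΘ, hΘ', add_smul]⟩
  zero_mem' := ⟨0, fun m => by rw [LinearMap.comp_zero, zero_smul]⟩
  smul_mem' := by
    rintro c s ⟨Θ, hΘ⟩
    exact ⟨c • Θ, fun m => by rw [LinearMap.comp_smul, hΘ, smul_smul, smul_eq_mul]⟩

def IΨ : Ideal A where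
  carrier := {s | ∃ Ψ : (⋀[A]^n B) ⊗[A] (⋀[A]^n (M₁ ⊗[B] M₂)) →ₗ[A]
    (⋀[A]^n M₁) ⊗[A] (⋀[A]^n M₂), ∀ m : M₁, be A B n M₂ m ∘ₗ Ψ = s • al A B n M₂ m}
  add_mem' := by
    rintro s t ⟨Θ, hΘ⟩ ⟨Θ', hΘ'⟩
    exact ⟨Θ + Θ', fun m => by rw [LinearMap.comp_add, hΘ, hΘ', add_smul]⟩
  zero_mem' := ⟨0, fun m => by rw [LinearMap.comp_zero, zero_smul]⟩
  smul_mem' := by
    rintro c s ⟨Θ, hΘ⟩
    exact ⟨c • Θ, fun m => by rw [LinearMap.comp_smul, hΘ, smul_smul, smul_eq_mul]⟩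

variable [Module.Invertible A (⋀[A]^n B)] [Module.Invertible B M₁] [Module.Invertible B M₂]

theorem IΘ_eq_top : IΘ A B n M₁ M₂ = ⊤ := by
  apply eq_top_of_locally
  intro p hp
  haveI := hp.isPrime
  obtain ⟨f, e, g, hf, h⟩ := exists_LD (B := B) M₁ p
  refine ⟨f, hf, n + n, ?_⟩
  rw [pow_add]
  exact ⟨_, fun m => local_Θ n M₂ h m⟩

theorem IΨ_eq_top : IΨ A B n M₁ M₂ = ⊤ := by
  apply eq_top_of_locally
  intro p hp
  haveI := hp.isPrime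
  obtain ⟨f, e, g, hf, h⟩ := exists_LD (B := B) M₁ p
  refine ⟨f, hf, n + n, ?_⟩
  rw [pow_add]
  exact ⟨_, fun m => local_Ψ n M₂ h m⟩

theorem main : Nonempty ((⋀[A]^n B) ⊗[A] (⋀[A]^n (M₁ ⊗[B] M₂)) ≃ₗ[A]
    (⋀[A]^n M₁) ⊗[A] (⋀[A]^n M₂)) := by
  have h1 : (1 : A) ∈ IΘ A B n M₁ M₂ := by rw [IΘ_eq_top]; trivial
  have h2 : (1 : A) ∈ IΨ A B n M₁ M₂ := by rw [IΨ_eq_top]; trivial
  obtain ⟨Θ, hΘ⟩ := h1
  obtain ⟨Ψ, hΨ⟩ := h2
  simp only [one_smul] at hΘ hΨ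
  have hPT : Ψ ∘ₗ Θ = LinearMap.id := by
    apply eq_of_locally (A := A)
    intro p hp
    haveI := hp.isPrime
    obtain ⟨f, e, g, hf, h⟩ := exists_LD (B := B) M₁ p
    refine ⟨f, hf, n, ?_⟩
    calc f ^ n • (Ψ ∘ₗ Θ) = (f ^ n • LinearMap.id) ∘ₗ (Ψ ∘ₗ Θ) := by
          rw [LinearMap.smul_comp, LinearMap.id_comp]
      _ = (be' A n M₂ g ∘ₗ be A B n M₂ e) ∘ₗ (Ψ ∘ₗ Θ) := by rw [be'_be n M₂ h]
      _ = be' A n M₂ g ∘ₗ ((be A B n M₂ e ∘ₗ Ψ) ∘ₗ Θ) := by simp only [LinearMap.comp_assoc]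
      _ = be' A n M₂ g ∘ₗ be A B n M₂ e := by rw [hΨ, hΘ]
      _ = f ^ n • LinearMap.id := be'_be n M₂ h
  have hTP : Θ ∘ₗ Ψ = LinearMap.id := by
    apply eq_of_locally (A := A)
    intro p hp
    haveI := hp.isPrime
    obtain ⟨f, e, g, hf, h⟩ := exists_LD (B := B) M₁ p
    refine ⟨f, hf, n, ?_⟩
    calc f ^ n • (Θ ∘ₗ Ψ) = (f ^ n • LinearMap.id) ∘ₗ (Θ ∘ₗ Ψ) := by
          rw [LinearMap.smul_comp, LinearMap.id_comp]
      _ = (al' A n M₂ g ∘ₗ al A B n M₂ e) ∘ₗ (Θ ∘ₗ Ψ) := by rw [al'_al n M₂ h]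
      _ = al' A n M₂ g ∘ₗ ((al A B n M₂ e ∘ₗ Θ) ∘ₗ Ψ) := by simp only [LinearMap.comp_assoc]
      _ = al' A n M₂ g ∘ₗ al A B n M₂ e := by rw [hΘ, hΨ]
      _ = f ^ n • LinearMap.id := al'_al n M₂ h
  exact ⟨LinearEquiv.ofLinear Ψ Θ hPT hTP⟩

end Groth.Agent.Helper29.NmE
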