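import Mathlib

/-!
# The node `k[X,Y]/(XY)`: naive de Rham complex in low degrees (helper29)
-/

open MvPolynomial

namespace Groth.Agent.Helper29.NodeDR

universe u

noncomputable section

variable (k : Type u) [Field k]

/-- the ideal `(XY)` -/
abbrev I : Ideal (MvPolynomial (Fin 2) k) :=
  Ideal.span {(X 0 * X 1 : MvPolynomial (Fin 2) k)}

/-- the coordinate ring of the node -/
abbrev A := MvPolynomial (Fin 2) k ⧸ I k

def φ₁ : MvPolynomial (Fin 2) k →ₐ[k] MvPolynomial (Fin 2) k :=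
  aeval ![X 0, 0]

def φ₂ : MvPolynomial (Fin 2) k →ₐ[k] MvPolynomial (Fin 2) k :=
  aeval ![0, X 1]

def φ₀ : MvPolynomial (Fin 2) k →ₐ[k] MvPolynomial (Fin 2) k :=
  aeval ![0, 0]

theorem mul_X0_mem {G : MvPolynomial (Fin 2) k} (hG : G ∈ Ideal.span {(X 1 : MvPolynomial (Fin 2) k)}) :
    G * X 0 ∈ I k := by
  obtain ⟨H, rfl⟩ := Ideal.mem_span_singleton'.1 hG
  have e : H * X 1 * X 0 = H * (X 0 * X 1) := by ring
  rw [e]
  exact Ideal.mul_mem_left _ _ (Ideal.subset_span rfl)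

theorem mul_X1_mem {G : MvPolynomial (Fin 2) k} (hG : G ∈ Ideal.span {(X 0 : MvPolynomial (Fin 2) k)}) :
    G * X 1 ∈ I k := by
  obtain ⟨H, rfl⟩ := Ideal.mem_span_singleton'.1 hG
  have e : H * X 0 * X 1 = H * (X 0 * X 1) := by ring
  rw [e]
  exact Ideal.mul_mem_left _ _ (Ideal.subset_span rfl)

theorem normal_form (F : MvPolynomial (Fin 2) k) :
    F - (φ₁ k F + φ₂ k F - φ₀ k F) ∈ I k ∧
      φ₁ k F - φ₀ k F ∈ Ideal.span {(X 0 : MvPolynomial (Fin 2) k)} ∧
      φ₂ k F - φ₀ k F ∈ Ideal.span {(X 1 : MvPolynomial (Fin 2) k)} := by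
  induction F using MvPolynomial.induction_on with
  | C a =>
    simp [φ₁, φ₂, φ₀]
  | add F G hF hG =>
    obtain ⟨h1, h2, h3⟩ := hF
    obtain ⟨g1, g2, g3⟩ := hG
    refine ⟨?_, ?_, ?_⟩
    · have e : F + G - (φ₁ k (F + G) + φ₂ k (F + G) - φ₀ k (F + G)) =
          (F - (φ₁ k F + φ₂ k F - φ₀ k F)) + (G - (φ₁ k G + φ₂ k G - φ₀ k G)) := by
        rw [map_add, map_add, map_add]; ring
      rw [e]; exact Ideal.add_mem _ h1 g1
    · have e : φ₁ k (F + G) - φ₀ k (F + G) = (φ₁ k F - φ₀ k F) + (φ₁ k G - φ₀ k G) := by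
        rw [map_add, map_add]; ring
      rw [e]; exact Ideal.add_mem _ h2 g2
    · have e : φ₂ k (F + G) - φ₀ k (F + G) = (φ₂ k F - φ₀ k F) + (φ₂ k G - φ₀ k G) := by
        rw [map_add, map_add]; ring
      rw [e]; exact Ideal.add_mem _ h3 g3
  | mul_X F i hF =>
    obtain ⟨h1, h2, h3⟩ := hF
    fin_cases i
    · have e1 : φ₁ k (F * X 0) = φ₁ k F * X 0 := by simp [φ₁]
      have e2 : φ₂ k (F * X 0) = 0 := by simp [φ₂]
      have e0 : φ₀ k (F * X 0) = 0 := by simp [φ₀]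
      refine ⟨?_, ?_, ?_⟩
      · show F * X 0 - (φ₁ k (F * X 0) + φ₂ k (F * X 0) - φ₀ k (F * X 0)) ∈ I k
        rw [e1, e2, e0]
        have e : F * X 0 - (φ₁ k F * X 0 + 0 - 0) =
            (F - (φ₁ k F + φ₂ k F - φ₀ k F)) * X 0 + (φ₂ k F - φ₀ k F) * X 0 := by ring
        rw [e]
        exact Ideal.add_mem _ (Ideal.mul_mem_right _ _ h1) (mul_X0_mem k h3)
      · show φ₁ k (F * X 0) - φ₀ k (F * X 0) ∈ _
        rw [e1, e0, sub_zero]
        exact Ideal.mul_mem_left _ _ (Ideal.subset_span rfl)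
      · show φ₂ k (F * X 0) - φ₀ k (F * X 0) ∈ _
        rw [e2, e0, sub_zero]
        exact Ideal.zero_mem _
    · have e1 : φ₁ k (F * X 1) = 0 := by simp [φ₁]
      have e2 : φ₂ k (F * X 1) = φ₂ k F * X 1 := by simp [φ₂]
      have e0 : φ₀ k (F * X 1) = 0 := by simp [φ₀]
      refine ⟨?_, ?_, ?_⟩
      · show F * X 1 - (φ₁ k (F * X 1) + φ₂ k (F * X 1) - φ₀ k (F * X 1)) ∈ I k
        rw [e1, e2, e0]
        have e : F * X 1 - (0 + φ₂ k F * X 1 - 0) =
            (F - (φ₁ k F + φ₂ k F - φ₀ k F)) * X 1 + (φ₁ k F - φ₀ k F) * X 1 := by ring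
        rw [e]
        exact Ideal.add_mem _ (Ideal.mul_mem_right _ _ h1) (mul_X1_mem k h2)
      · show φ₁ k (F * X 1) - φ₀ k (F * X 1) ∈ _
        rw [e1, e0, sub_zero]
        exact Ideal.zero_mem _
      · show φ₂ k (F * X 1) - φ₀ k (F * X 1) ∈ _
        rw [e2, e0, sub_zero]
        exact Ideal.mul_mem_left _ _ (Ideal.subset_span rfl)

/-! ### the two branches -/

def g₁ : MvPolynomial (Fin 2) k →ₐ[k] Polynomial k := aeval ![Polynomial.X, 0]
def g₂ : MvPolynomial (Fin 2) k →ₐ[k] Polynomial k := aeval ![0, Polynomial.X]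
def ι₁ : Polynomial k →ₐ[k] MvPolynomial (Fin 2) k := Polynomial.aeval (X 0)
def ι₂ : Polynomial k →ₐ[k] MvPolynomial (Fin 2) k := Polynomial.aeval (X 1)

theorem φ₁_eq : φ₁ k = (ι₁ k).comp (g₁ k) := by
  apply MvPolynomial.algHom_ext
  intro i
  fin_cases i <;> simp [φ₁, g₁, ι₁]

theorem φ₂_eq : φ₂ k = (ι₂ k).comp (g₂ k) := by
  apply MvPolynomial.algHom_ext
  intro i
  fin_cases i <;> simp [φ₂, g₂, ι₂]

theorem φ₀_eq : φ₀ k = (φ₀ k).comp (φ₁ k) := by
  apply MvPolynomial.algHom_ext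
  intro i
  fin_cases i <;> simp [φ₀, φ₁]

theorem mem_I_of_g {H : MvPolynomial (Fin 2) k} (h1 : g₁ k H = 0) (h2 : g₂ k H = 0) :
    H ∈ I k := by
  have e1 : φ₁ k H = 0 := by rw [φ₁_eq, AlgHom.comp_apply, h1, map_zero]
  have e2 : φ₂ k H = 0 := by rw [φ₂_eq, AlgHom.comp_apply, h2, map_zero]
  have e0 : φ₀ k H = 0 := by rw [φ₀_eq, AlgHom.comp_apply, e1, map_zero]
  have := (normal_form k H).1
  rw [e1, e2, e0] at this
  simpa using this

theorem g₁_I : ∀ a ∈ I k, g₁ k a = 0 := by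
  intro a ha
  obtain ⟨H, rfl⟩ := Ideal.mem_span_singleton'.1 ha
  simp [g₁]

theorem g₂_I : ∀ a ∈ I k, g₂ k a = 0 := by
  intro a ha
  obtain ⟨H, rfl⟩ := Ideal.mem_span_singleton'.1 ha
  simp [g₂]

def e₁ : A k →ₐ[k] Polynomial k := Ideal.Quotient.liftₐ (I k) (g₁ k) (g₁_I k)
def e₂ : A k →ₐ[k] Polynomial k := Ideal.Quotient.liftₐ (I k) (g₂ k) (g₂_I k)

theorem e₁_mk (F : MvPolynomial (Fin 2) k) : e₁ k (Ideal.Quotient.mk (I k) F) = g₁ k F := rfl
theorem e₂_mk (F : MvPolynomial (Fin 2) k) : e₂ k (Ideal.Quotient.mk (I k) F) = g₂ k F := rfl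

theorem eq_of_e {P Q : A k} (h1 : e₁ k P = e₁ k Q) (h2 : e₂ k P = e₂ k Q) : P = Q := by
  obtain ⟨F, rfl⟩ := Ideal.Quotient.mk_surjective P
  obtain ⟨G, rfl⟩ := Ideal.Quotient.mk_surjective Q
  rw [Ideal.Quotient.eq]
  apply mem_I_of_g
  · rw [map_sub, sub_eq_zero]; exact h1
  · rw [map_sub, sub_eq_zero]; exact h2

theorem aeval_zero_e (P : A k) :
    Polynomial.aeval (0 : k) (e₁ k P) = Polynomial.aeval (0 : k) (e₂ k P) := by
  obtain ⟨F, rfl⟩ := Ideal.Quotient.mk_surjective P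
  have h : (Polynomial.aeval (0 : k)).comp (g₁ k) = (Polynomial.aeval (0 : k)).comp (g₂ k) := by
    apply MvPolynomial.algHom_ext
    intro i
    fin_cases i <;> simp [g₁, g₂]
  exact DFunLike.congr_fun h F

/-! ### pushing differentials to a branch -/

/-- `b • d c ↦ e(b) · e(c)'` -/
def T {B : Type u} [CommRing B] [Algebra k B] (e : B →ₐ[k] Polynomial k) :
    Ω[B⁄k] →ₗ[k] Polynomial k :=
  let _ : Algebra B (Polynomial k) := e.toRingHom.toAlgebra
  have _ : IsScalarTower k B (Polynomial k) :=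
    IsScalarTower.of_algebraMap_eq (fun x => (e.commutes x).symm)
  ((KaehlerDifferential.polynomialEquiv k).toLinearMap.restrictScalars k) ∘ₗ
    ((KaehlerDifferential.map k k B (Polynomial k)).restrictScalars k)

theorem T_smul_D {B : Type u} [CommRing B] [Algebra k B] (e : B →ₐ[k] Polynomial k) (b c : B) :
    T k e (b • KaehlerDifferential.D k B c) = e b * Polynomial.derivative (e c) := by
  let _ : Algebra B (Polynomial k) := e.toRingHom.toAlgebra
  have _ : IsScalarTower k B (Polynomial k) :=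
    IsScalarTower.of_algebraMap_eq (fun x => (e.commutes x).symm)
  show (KaehlerDifferential.polynomialEquiv k)
    (KaehlerDifferential.map k k B (Polynomial k) (b • KaehlerDifferential.D k B c)) = _
  rw [map_smul, KaehlerDifferential.map_D]
  rw [← algebraMap_smul (Polynomial k) b, map_smul, KaehlerDifferential.polynomialEquiv_D]
  rfl

theorem T_D {B : Type u} [CommRing B] [Algebra k B] (e : B →ₐ[k] Polynomial k) (c : B) :
    T k e (KaehlerDifferential.D k B c) = Polynomial.derivative (e c) := by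
  have := T_smul_D k e 1 c
  rwa [one_smul, map_one, one_mul] at this

theorem const_of_derivative [CharZero k] (P : A k)
    (h1 : Polynomial.derivative (e₁ k P) = 0) (h2 : Polynomial.derivative (e₂ k P) = 0) :
    P ∈ Set.range (algebraMap k (A k)) := by
  obtain ⟨a, ha⟩ : ∃ a, e₁ k P = Polynomial.C a := ⟨_, Polynomial.eq_C_of_derivative_eq_zero h1⟩
  obtain ⟨b, hb⟩ : ∃ b, e₂ k P = Polynomial.C b := ⟨_, Polynomial.eq_C_of_derivative_eq_zero h2⟩
  have hab : a = b := by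
    have := aeval_zero_e k P
    rw [ha, hb] at this
    simpa using this
  refine ⟨a, ?_⟩
  apply eq_of_e
  · rw [AlgHom.commutes, ha]; rfl
  · rw [AlgHom.commutes, hb, hab]; rfl

/-- S19634 -/
theorem D_eq_zero_iff [CharZero k] (P : A k) :
    KaehlerDifferential.D k (A k) P = 0 ↔ P ∈ Set.range (algebraMap k (A k)) := by
  constructor
  · intro h
    apply const_of_derivative
    · rw [← T_D k (e₁ k) P, h, map_zero]
    · rw [← T_D k (e₂ k) P, h, map_zero]
  · rintro ⟨c, rfl⟩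
    exact Derivation.map_algebraMap _ c

/-! ### a torsion differential which is not zero -/

def ρ₀ : MvPolynomial (Fin 2) k →ₐ[k] DualNumber k := aeval ![DualNumber.eps, -DualNumber.eps]

theorem ρ₀_I : ∀ a ∈ I k, ρ₀ k a = 0 := by
  intro a ha
  obtain ⟨H, rfl⟩ := Ideal.mem_span_singleton'.1 ha
  simp [ρ₀]

/-- `x ↦ ε, y ↦ -ε` -/
def ρ : A k →ₐ[k] DualNumber k := Ideal.Quotient.liftₐ (I k) (ρ₀ k) (ρ₀_I k)

theorem ρ_mk (F : MvPolynomial (Fin 2) k) : ρ k (Ideal.Quotient.mk (I k) F) = ρ₀ k F := rfl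

/-- `k[ε]` as an `A`-algebra via `ρ` -/
@[instance_reducible] def algN : Algebra (A k) (DualNumber k) := (ρ k).toRingHom.toAlgebra

attribute [local instance] algN

theorem towerN : IsScalarTower k (A k) (DualNumber k) :=
  IsScalarTower.of_algebraMap_eq (fun x => ((ρ k).commutes x).symm)

attribute [local instance] towerN

theorem smul_N (a : A k) (n : DualNumber k) : a • n = ρ k a * n := by
  rw [Algebra.smul_def]; rfl

/-- the first-order lift encoding the derivation `∂/∂x + ∂/∂y : A → k[ε]` -/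
def θ₀ : MvPolynomial (Fin 2) k →ₐ[k] DualNumber (DualNumber k) :=
  aeval (![TrivSqZeroExt.inl DualNumber.eps + TrivSqZeroExt.inr 1,
    TrivSqZeroExt.inl (-DualNumber.eps) + TrivSqZeroExt.inr 1] : Fin 2 → DualNumber (DualNumber k))

theorem θ₀_I : ∀ a ∈ I k, θ₀ k a = 0 := by
  intro a ha
  obtain ⟨H, rfl⟩ := Ideal.mem_span_singleton'.1 ha
  have : θ₀ k (X 0 * X 1) = 0 := by
    apply TrivSqZeroExt.ext
    · simp [θ₀]
    · simp [θ₀]
  rw [map_mul, this, mul_zero]

def θ : A k →ₐ[k] DualNumber (DualNumber k) := Ideal.Quotient.liftₐ (I k) (θ₀ k) (θ₀_I k)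

theorem θ_mk (F : MvPolynomial (Fin 2) k) : θ k (Ideal.Quotient.mk (I k) F) = θ₀ k F := rfl

theorem fst_θ (a : A k) : (θ k a).fst = ρ k a := by
  have : (TrivSqZeroExt.fstHom k (DualNumber k) (DualNumber k)).comp (θ k) = ρ k := by
    apply Ideal.Quotient.algHom_ext
    apply MvPolynomial.algHom_ext
    intro i
    fin_cases i <;> simp [θ_mk, θ₀, ρ_mk, ρ₀]
  exact DFunLike.congr_fun this a

def Dl : A k →ₗ[k] DualNumber k where
  toFun a := (θ k a).snd
  map_add' a b := by rw [map_add, TrivSqZeroExt.snd_add]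
  map_smul' c a := by rw [map_smul, TrivSqZeroExt.snd_smul]; rfl

theorem Dl_mul (a b : A k) : Dl k (a * b) = a • Dl k b + b • Dl k a := by
  show (θ k (a * b)).snd = a • (θ k b).snd + b • (θ k a).snd
  rw [map_mul, TrivSqZeroExt.snd_mul, fst_θ, fst_θ, smul_N, smul_N, op_smul_eq_mul,
    smul_eq_mul, mul_comm (ρ k b)]

def δ : Derivation k (A k) (DualNumber k) := Derivation.mk' (Dl k) (Dl_mul k)

/-- the differential `x dy` -/
def ω : Ω[A k⁄k] :=
  (Ideal.Quotient.mk (I k) (X 0)) • KaehlerDifferential.D k (A k) (Ideal.Quotient.mk (I k) (X 1))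

theorem ω_ne_zero : ω k ≠ 0 := by
  intro h
  have := congrArg (δ k).liftKaehlerDifferential h
  rw [ω, map_smul, Derivation.liftKaehlerDifferential_comp_D, map_zero] at this
  have e : δ k (Ideal.Quotient.mk (I k) (X 1)) = 1 := by
    show (θ₀ k (X 1)).snd = 1
    simp [θ₀]
  have e0 : ρ k (Ideal.Quotient.mk (I k) (X 0)) = DualNumber.eps := by
    rw [ρ_mk]; simp [ρ₀]
  rw [e, smul_N, mul_one, e0] at this
  have h2 := congrArg TrivSqZeroExt.snd this
  simp at h2

/-- S19635 -/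
theorem not_surjective_D [CharZero k] :
    ¬ Function.Surjective (KaehlerDifferential.D k (A k)) := by
  intro hs
  obtain ⟨P, hP⟩ := hs (ω k)
  have h1 : Polynomial.derivative (e₁ k P) = 0 := by
    rw [← T_D k (e₁ k) P, hP, ω, T_smul_D]
    have : e₁ k (Ideal.Quotient.mk (I k) (X 1)) = 0 := by
      rw [e₁_mk]; simp [g₁]
    rw [this, map_zero, mul_zero]
  have h2 : Polynomial.derivative (e₂ k P) = 0 := by
    rw [← T_D k (e₂ k) P, hP, ω, T_smul_D]
    have : e₂ k (Ideal.Quotient.mk (I k) (X 0)) = 0 := by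
      rw [e₂_mk]; simp [g₂]
    rw [this, zero_mul]
  obtain ⟨c, rfl⟩ := const_of_derivative k P h1 h2
  rw [Derivation.map_algebraMap] at hP
  exact ω_ne_zero k hP.symm

end

end Groth.Agent.Helper29.NodeDR
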