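import Mathlib

set_option linter.unusedSectionVars false
set_option autoImplicit false
open CategoryTheory
universe u

namespace Groth.Agent.Helper29.NodeExt

variable {k : Type u} [Field k] {A : Type u} [CommRing A] [Algebra k A]

/-- multiplication by `y` as a map `A/(x) → A` when `x*y = 0`. -/
noncomputable def mulY (x y : A) (hxy : x * y = 0) : (A ⧸ Ideal.span {x}) →ₗ[A] A :=
  Submodule.liftQ _ (LinearMap.mulRight A y) (by
    rw [Ideal.span_le]
    rintro a ha
    rw [Set.mem_singleton_iff] at ha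
    subst ha
    simp [hxy])

lemma mulY_mk (x y : A) (hxy : x * y = 0) (a : A) :
    mulY x y hxy (Ideal.Quotient.mk _ a) = a * y := by
  simp [mulY]
  rfl

/-- the short complex `0 → A/(x) → A → A/(y) → 0`. -/
noncomputable def S (x y : A) (hxy : x * y = 0) : ShortComplex (ModuleCat.{u} A) :=
  ShortComplex.moduleCatMk (mulY x y hxy) (Submodule.mkQ (Ideal.span {y})) (by
    refine LinearMap.ext fun a => ?_
    obtain ⟨a, rfl⟩ := Ideal.Quotient.mk_surjective a
    simp only [LinearMap.comp_apply, mulY_mk, LinearMap.zero_apply]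
    rw [Submodule.mkQ_apply, Submodule.Quotient.mk_eq_zero]
    exact Ideal.mem_span_singleton'.2 ⟨a, rfl⟩)

lemma S_shortExact (x y : A) (hxy : x * y = 0) (hann : ∀ a, a * y = 0 → a ∈ Ideal.span {x}) :
    (S x y hxy).ShortExact := by
  apply ModuleCat.shortComplex_shortExact
  · intro a
    constructor
    · intro h
      have h' : (Submodule.mkQ (Ideal.span {y})) a = 0 := h
      rw [Submodule.mkQ_apply, Submodule.Quotient.mk_eq_zero] at h'
      obtain ⟨b, hb⟩ := Ideal.mem_span_singleton'.1 h'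
      exact ⟨Ideal.Quotient.mk _ b, by rw [← hb]; exact mulY_mk x y hxy b⟩
    · rintro ⟨b, rfl⟩
      exact (S x y hxy).moduleCat_zero_apply b
  · intro a b hab
    obtain ⟨a, rfl⟩ := Ideal.Quotient.mk_surjective a
    obtain ⟨b, rfl⟩ := Ideal.Quotient.mk_surjective b
    have h1 : mulY x y hxy (Ideal.Quotient.mk _ a) = mulY x y hxy (Ideal.Quotient.mk _ b) := hab
    rw [mulY_mk, mulY_mk] at h1
    refine (Ideal.Quotient.eq (I := Ideal.span {x}) (x := a) (y := b)).2 ?_
    apply hann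
    rw [sub_mul, h1, sub_self]
  · exact Submodule.mkQ_surjective _

instance (x y : A) (hxy : x * y = 0) : Projective (S x y hxy).X₂ := by
  change Projective (ModuleCat.of A A)
  infer_instance

open Abelian in
/-- If `x*y = 0`, `ann(y) = (x)`, and `A = k ⊕ (x,y)` via an augmentation `ε`, then
`Ext¹_A(A/(y), A/(x))` is one-dimensional over `k`. -/
theorem main (x y : A) (hxy : x * y = 0) (hann : ∀ a, a * y = 0 → a ∈ Ideal.span {x})
    (ε : A →ₐ[k] k) (hεx : ε x = 0) (hεy : ε y = 0)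
    (hdec : ∀ a, ∃ a₁ a₂, a = algebraMap k A (ε a) + x * a₁ + y * a₂) :
    Module.finrank k (Abelian.Ext (ModuleCat.of A (A ⧸ Ideal.span {y}))
      (ModuleCat.of A (A ⧸ Ideal.span {x})) 1) = 1 := by
  have hS := S_shortExact x y hxy hann
  change Module.finrank k (Abelian.Ext (S x y hxy).X₃ (S x y hxy).X₁ 1) = 1
  have hv : hS.extClass ≠ 0 := by
    intro h0
    obtain ⟨x₂, hx₂⟩ := Ext.contravariant_sequence_exact₁ hS (S x y hxy).X₁
      (Ext.mk₀ (𝟙 (S x y hxy).X₁)) (add_zero 1) (by rw [Ext.comp_mk₀_id]; exact h0)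
    obtain ⟨h, rfl⟩ := (Ext.mk₀_bijective _ _).2 x₂
    rw [Ext.mk₀_comp_mk₀] at hx₂
    have h1 := (Ext.mk₀_bijective _ _).1 hx₂
    let h' : A →ₗ[A] (A ⧸ Ideal.span {x}) := h.hom
    have h2 : h' (mulY x y hxy (Ideal.Quotient.mk _ 1)) = Ideal.Quotient.mk _ 1 := by
      have := congrArg (fun φ => φ.hom (Ideal.Quotient.mk (Ideal.span {x}) (1:A))) h1
      exact this
    rw [mulY_mk, one_mul] at h2
    obtain ⟨b, hb⟩ := Ideal.Quotient.mk_surjective (h' (1 : A))
    have h3 : h' y = Ideal.Quotient.mk _ (y * b) := by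
      have : y = y • (1 : A) := by simp
      rw [this, map_smul, ← hb]
      simp [Algebra.smul_def]
    rw [h3, Ideal.Quotient.eq, Ideal.mem_span_singleton'] at h2
    obtain ⟨c, hc⟩ := h2
    have := congrArg ε hc
    simp [hεx, hεy] at this
  rw [finrank_eq_one_iff_of_nonzero' hS.extClass hv]
  intro w
  obtain ⟨x₁, hx₁⟩ := Ext.contravariant_sequence_exact₃ hS (S x y hxy).X₁ w
    (Ext.eq_zero_of_projective _) (add_zero 1)
  obtain ⟨g, rfl⟩ := (Ext.mk₀_bijective _ _).2 x₁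
  let g' : (A ⧸ Ideal.span {x}) →ₗ[A] (A ⧸ Ideal.span {x}) := g.hom
  obtain ⟨a, ha⟩ := Ideal.Quotient.mk_surjective (g' (Ideal.Quotient.mk _ 1))
  obtain ⟨a₁, a₂, hdec'⟩ := hdec a
  refine ⟨ε a, ?_⟩
  let h' : A →ₗ[A] (A ⧸ Ideal.span {x}) :=
    LinearMap.toSpanSingleton A _ (Ideal.Quotient.mk (Ideal.span {x}) a₂)
  let h : (S x y hxy).X₂ ⟶ (S x y hxy).X₁ := ModuleCat.ofHom h'
  have hg : g = (ε a) • 𝟙 (S x y hxy).X₁ + (S x y hxy).f ≫ h := by
    apply ModuleCat.hom_ext
    change g' = _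
    refine LinearMap.ext fun b => ?_
    obtain ⟨b, rfl⟩ := Ideal.Quotient.mk_surjective b
    have e1 : g' (Ideal.Quotient.mk _ b) = Ideal.Quotient.mk _ (b * a) := by
      have : (Ideal.Quotient.mk (Ideal.span {x}) b) = b • (Ideal.Quotient.mk (Ideal.span {x}) 1) := by
        rw [Algebra.smul_def]; simp
      rw [this, map_smul, ← ha, Algebra.smul_def]; simp
    have e2 : (ModuleCat.Hom.hom ((ε a) • 𝟙 (S x y hxy).X₁ + (S x y hxy).f ≫ h))
        (Ideal.Quotient.mk (Ideal.span {x}) b) = Ideal.Quotient.mk (Ideal.span {x}) (algebraMap k A (ε a) * b)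
          + h' (mulY x y hxy (Ideal.Quotient.mk _ b)) := by
      rw [ModuleCat.hom_add, LinearMap.add_apply]
      congr 1
    rw [e1]
    refine Eq.trans ?_ e2.symm
    rw [mulY_mk]
    have e3 : h' (b * y) = Ideal.Quotient.mk _ (b * y * a₂) := by
      simp [h', LinearMap.toSpanSingleton_apply, Algebra.smul_def]
    rw [e3, ← map_add, Ideal.Quotient.eq, Ideal.mem_span_singleton']
    refine ⟨b * a₁, ?_⟩
    rw [hdec']
    have : ε (algebraMap k A (ε a) + x * a₁ + y * a₂) = ε a := by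
      simp [hεx, hεy]
    rw [this]
    ring
  rw [← hx₁, hg, Ext.mk₀_add, Ext.comp_add, Ext.mk₀_smul, Ext.comp_smul, Ext.comp_mk₀_id,
    ← Ext.mk₀_comp_mk₀, hS.extClass_comp_assoc, add_zero]

section PS

variable (k)

/-- constant coefficient as an algebra hom. -/
noncomputable def cc : MvPowerSeries (Fin 2) k →ₐ[k] k :=
  { MvPowerSeries.constantCoeff with
    commutes' := fun r => by simp [MvPowerSeries.algebraMap_apply] }

lemma cc_apply (P : MvPowerSeries (Fin 2) k) : cc k P = MvPowerSeries.constantCoeff P := rfl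

lemma decomp (P : MvPowerSeries (Fin 2) k) : ∃ P₁ P₂ : MvPowerSeries (Fin 2) k,
    P = MvPowerSeries.C (MvPowerSeries.constantCoeff P) + MvPowerSeries.X 0 * P₁
      + MvPowerSeries.X 1 * P₂ := by
  classical
  let P' : MvPowerSeries (Fin 2) k := P - MvPowerSeries.C (MvPowerSeries.constantCoeff P)
  let Q : MvPowerSeries (Fin 2) k := fun m => if m 0 = 0 then 0 else MvPowerSeries.coeff m P'
  have hQ : ∀ m, MvPowerSeries.coeff m Q = if m 0 = 0 then 0 else MvPowerSeries.coeff m P' :=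
    fun m => rfl
  have h1 : (MvPowerSeries.X 0 : MvPowerSeries (Fin 2) k) ∣ Q := by
    rw [MvPowerSeries.X_dvd_iff]
    intro m hm
    rw [hQ, if_pos hm]
  have h2 : (MvPowerSeries.X 1 : MvPowerSeries (Fin 2) k) ∣ (P' - Q) := by
    rw [MvPowerSeries.X_dvd_iff]
    intro m hm
    rw [map_sub, hQ]
    split_ifs with h0
    · have : m = 0 := by
        ext i
        fin_cases i
        · exact h0
        · exact hm
      subst this
      simp [P']
    · simp
  obtain ⟨P₁, hP₁⟩ := h1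
  obtain ⟨P₂, hP₂⟩ := h2
  refine ⟨P₁, P₂, ?_⟩
  rw [← hP₁, ← hP₂]
  simp only [P']
  ring

/-- the augmentation of the node ring. -/
noncomputable def eps : (MvPowerSeries (Fin 2) k ⧸ Ideal.span
    {(MvPowerSeries.X (0 : Fin 2) : MvPowerSeries (Fin 2) k) * MvPowerSeries.X (1 : Fin 2)}) →ₐ[k] k :=
  Ideal.Quotient.liftₐ _ (cc k) (by
    intro a ha
    obtain ⟨c, rfl⟩ := Ideal.mem_span_singleton'.1 ha
    simp [cc_apply])

lemma eps_mk (P : MvPowerSeries (Fin 2) k) :
    eps k (Ideal.Quotient.mk _ P) = MvPowerSeries.constantCoeff P := rfl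

theorem node (k : Type u) [Field k] : Module.finrank k (Abelian.Ext (ModuleCat.of (MvPowerSeries (Fin 2) k ⧸ Ideal.span {(MvPowerSeries.X (0 : Fin 2) : MvPowerSeries (Fin 2) k) * MvPowerSeries.X (1 : Fin 2)}) ((MvPowerSeries (Fin 2) k ⧸ Ideal.span {(MvPowerSeries.X (0 : Fin 2) : MvPowerSeries (Fin 2) k) * MvPowerSeries.X (1 : Fin 2)}) ⧸ Ideal.span {Ideal.Quotient.mk (Ideal.span {(MvPowerSeries.X (0 : Fin 2) : MvPowerSeries (Fin 2) k) * MvPowerSeries.X (1 : Fin 2)}) (MvPowerSeries.X (1 : Fin 2))})) (ModuleCat.of (MvPowerSeries (Fin 2) k ⧸ Ideal.span {(MvPowerSeries.X (0 : Fin 2) : MvPowerSeries (Fin 2) k) * MvPowerSeries.X (1 : Fin 2)}) ((MvPowerSeries (Fin 2) k ⧸ Ideal.span {(MvPowerSeries.X (0 : Fin 2) : MvPowerSeries (Fin 2) k) * MvPowerSeries.X (1 : Fin 2)}) ⧸ Ideal.span {Ideal.Quotient.mk (Ideal.span {(MvPowerSeries.X (0 : Fin 2) : MvPowerSeries (Fin 2) k) * MvPowerSeries.X (1 : Fin 2)}) (MvPowerSeries.X (0 : Fin 2))})) 1) = 1 := by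
  refine main (k := k) _ _ ?_ ?_ (eps k) ?_ ?_ ?_
  · rw [← map_mul, Ideal.Quotient.eq_zero_iff_mem]
    exact Ideal.mem_span_singleton_self _
  · intro a ha
    obtain ⟨P, rfl⟩ := Ideal.Quotient.mk_surjective a
    rw [← map_mul, Ideal.Quotient.eq_zero_iff_mem, Ideal.mem_span_singleton'] at ha
    obtain ⟨Q, hQ⟩ := ha
    have h1 : (P - Q * MvPowerSeries.X 0) * MvPowerSeries.X 1 = 0 := by
      rw [sub_mul, ← hQ]; ring
    have h2 : P - Q * MvPowerSeries.X 0 = 0 := by
      rcases mul_eq_zero.1 h1 with h | h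
      · exact h
      · exfalso
        have := congrArg (MvPowerSeries.coeff (Finsupp.single (1 : Fin 2) 1)) h
        rw [MvPowerSeries.coeff_index_single_self_X] at this
        simp at this
    rw [Ideal.mem_span_singleton']
    refine ⟨Ideal.Quotient.mk _ Q, ?_⟩
    rw [← map_mul, ← sub_eq_zero.1 h2]
  · rw [eps_mk]; simp
  · rw [eps_mk]; simp
  · intro a
    obtain ⟨P, rfl⟩ := Ideal.Quotient.mk_surjective a
    obtain ⟨P₁, P₂, hP⟩ := decomp k P
    refine ⟨Ideal.Quotient.mk _ P₁, Ideal.Quotient.mk _ P₂, ?_⟩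
    rw [eps_mk, ← map_mul, ← map_mul]
    conv_lhs => rw [hP]
    rw [map_add, map_add]
    rfl

end PS

end Groth.Agent.Helper29.NodeExt
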