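import Mathlib

namespace Groth.Agent.Helper29.NodeIdeal

universe u

open MvPowerSeries

variable {k : Type u} [Field k]

/-- the power series ring in two variables -/
abbrev PS (k : Type u) [Field k] := MvPowerSeries (Fin 2) k

lemma fin2_ext {m n : Fin 2 →₀ ℕ} (h0 : m 0 = n 0) (h1 : m 1 = n 1) : m = n := by
  ext i
  fin_cases i
  · exact h0
  · exact h1

lemma eq_single0_iff (m : Fin 2 →₀ ℕ) (a : ℕ) :
    m = Finsupp.single 0 a ↔ m 0 = a ∧ m 1 = 0 := by
  constructor
  · rintro rfl; simp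
  · rintro ⟨h0, h1⟩; exact fin2_ext (by simp [h0]) (by simp [h1])

lemma eq_single1_iff (m : Fin 2 →₀ ℕ) (b : ℕ) :
    m = Finsupp.single 1 b ↔ m 0 = 0 ∧ m 1 = b := by
  constructor
  · rintro rfl; simp
  · rintro ⟨h0, h1⟩; exact fin2_ext (by simp [h0]) (by simp [h1])

lemma single0_le_iff (a : ℕ) (m : Fin 2 →₀ ℕ) : Finsupp.single 0 a ≤ m ↔ a ≤ m 0 := by
  rw [Finsupp.le_def]
  constructor
  · intro h; simpa using h 0
  · intro h i; fin_cases i <;> simp [h]

lemma single1_le_iff (b : ℕ) (m : Fin 2 →₀ ℕ) : Finsupp.single 1 b ≤ m ↔ b ≤ m 1 := by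
  rw [Finsupp.le_def]
  constructor
  · intro h; simpa using h 1
  · intro h i; fin_cases i <;> simp [h]

lemma single01_le_iff (m : Fin 2 →₀ ℕ) :
    Finsupp.single 0 1 + Finsupp.single 1 1 ≤ m ↔ 1 ≤ m 0 ∧ 1 ≤ m 1 := by
  rw [Finsupp.le_def]
  constructor
  · intro h; exact ⟨by simpa using h 0, by simpa using h 1⟩
  · rintro ⟨h0, h1⟩ i; fin_cases i <;> simp [h0, h1]

/-- restriction of a power series to a set of exponents -/
noncomputable def restr (T : (Fin 2 →₀ ℕ) → Prop) [DecidablePred T] (f : PS k) : PS k :=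
  fun m => if T m then coeff m f else 0

lemma coeff_restr (T : (Fin 2 →₀ ℕ) → Prop) [DecidablePred T] (f : PS k) (m : Fin 2 →₀ ℕ) :
    coeff m (restr T f) = if T m then coeff m f else 0 := rfl

/-- shifted power series -/
noncomputable def shift (n : Fin 2 →₀ ℕ) (φ : PS k) : PS k := fun m => coeff (m + n) φ

lemma coeff_shift (n : Fin 2 →₀ ℕ) (φ : PS k) (m : Fin 2 →₀ ℕ) :
    coeff m (shift n φ) = coeff (m + n) φ := rfl

/-- shift lemma -/
lemma eq_monomial_mul (n : Fin 2 →₀ ℕ) (φ : PS k) (h : ∀ m, ¬ n ≤ m → coeff m φ = 0) :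
    φ = monomial n 1 * shift n φ := by
  ext m
  rw [coeff_monomial_mul]
  split_ifs with hn
  · rw [one_mul, coeff_shift, tsub_add_cancel_of_le hn]
  · exact h m hn

lemma decomp (a b : ℕ) (ha : 1 ≤ a) (hb : 1 ≤ b) (f : PS k)
    (hfa : ∀ i < a, coeff (Finsupp.single 0 i) f = 0)
    (hfb : ∀ j < b, coeff (Finsupp.single 1 j) f = 0) :
    ∃ u v h : PS k, f = C (coeff (Finsupp.single 0 a) f) * X 0 ^ a
      + C (coeff (Finsupp.single 1 b) f) * X 1 ^ b
      + X 0 ^ (a + 1) * u + X 1 ^ (b + 1) * v + X 0 * X 1 * h := by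
  classical
  let T1 : (Fin 2 →₀ ℕ) → Prop := fun m => m 0 = a ∧ m 1 = 0
  let T2 : (Fin 2 →₀ ℕ) → Prop := fun m => m 0 = 0 ∧ m 1 = b
  let T3 : (Fin 2 →₀ ℕ) → Prop := fun m => m 1 = 0 ∧ a + 1 ≤ m 0
  let T4 : (Fin 2 →₀ ℕ) → Prop := fun m => m 0 = 0 ∧ b + 1 ≤ m 1
  let T5 : (Fin 2 →₀ ℕ) → Prop := fun m => 1 ≤ m 0 ∧ 1 ≤ m 1
  have hsum : f = restr T1 f + restr T2 f + restr T3 f + restr T4 f + restr T5 f := by
    ext m
    simp only [map_add, coeff_restr]
    by_cases h5 : T5 m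
    · have e1 : ¬ T1 m := by simp only [T1, T5] at *; omega
      have e2 : ¬ T2 m := by simp only [T2, T5] at *; omega
      have e3 : ¬ T3 m := by simp only [T3, T5] at *; omega
      have e4 : ¬ T4 m := by simp only [T4, T5] at *; omega
      rw [if_neg e1, if_neg e2, if_neg e3, if_neg e4, if_pos h5]; simp
    by_cases h1 : T1 m
    · have e2 : ¬ T2 m := by simp only [T1, T2] at *; omega
      have e3 : ¬ T3 m := by simp only [T1, T3] at *; omega
      have e4 : ¬ T4 m := by simp only [T1, T4] at *; omega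
      rw [if_pos h1, if_neg e2, if_neg e3, if_neg e4, if_neg h5]; simp
    by_cases h2 : T2 m
    · have e3 : ¬ T3 m := by simp only [T2, T3] at *; omega
      have e4 : ¬ T4 m := by simp only [T2, T4] at *; omega
      rw [if_neg h1, if_pos h2, if_neg e3, if_neg e4, if_neg h5]; simp
    by_cases h3 : T3 m
    · have e4 : ¬ T4 m := by simp only [T3, T4] at *; omega
      rw [if_neg h1, if_neg h2, if_pos h3, if_neg e4, if_neg h5]; simp
    by_cases h4 : T4 m
    · rw [if_neg h1, if_neg h2, if_neg h3, if_pos h4, if_neg h5]; simp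
    rw [if_neg h1, if_neg h2, if_neg h3, if_neg h4, if_neg h5]
    simp only [add_zero]
    -- remaining: low coefficients
    simp only [T1, T2, T3, T4, T5] at h1 h2 h3 h4 h5
    by_cases hm1 : m 1 = 0
    · have hm0 : m 0 < a := by omega
      have : m = Finsupp.single 0 (m 0) := (eq_single0_iff m (m 0)).mpr ⟨rfl, hm1⟩
      rw [this]
      exact hfa _ hm0
    · have hm0 : m 0 = 0 := by omega
      have hm1' : m 1 < b := by omega
      have : m = Finsupp.single 1 (m 1) := (eq_single1_iff m (m 1)).mpr ⟨hm0, rfl⟩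
      rw [this]
      exact hfb _ hm1'
  have p1 : restr T1 f = C (coeff (Finsupp.single 0 a) f) * X 0 ^ a := by
    ext m
    rw [coeff_restr, coeff_C_mul, coeff_X_pow]
    by_cases h : m = Finsupp.single 0 a
    · rw [if_pos ((eq_single0_iff m a).mp h), if_pos h, mul_one, h]
    · rw [if_neg (fun h' => h ((eq_single0_iff m a).mpr h')), if_neg h, mul_zero]
  have p2 : restr T2 f = C (coeff (Finsupp.single 1 b) f) * X 1 ^ b := by
    ext m
    rw [coeff_restr, coeff_C_mul, coeff_X_pow]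
    by_cases h : m = Finsupp.single 1 b
    · rw [if_pos ((eq_single1_iff m b).mp h), if_pos h, mul_one, h]
    · rw [if_neg (fun h' => h ((eq_single1_iff m b).mpr h')), if_neg h, mul_zero]
  have p3 := eq_monomial_mul (Finsupp.single 0 (a + 1)) (restr T3 f) (by
    intro m hm
    rw [single0_le_iff] at hm
    rw [coeff_restr, if_neg]
    simp only [T3]; omega)
  have p4 := eq_monomial_mul (Finsupp.single 1 (b + 1)) (restr T4 f) (by
    intro m hm
    rw [single1_le_iff] at hm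
    rw [coeff_restr, if_neg]
    simp only [T4]; omega)
  have p5 := eq_monomial_mul (Finsupp.single 0 1 + Finsupp.single 1 1) (restr T5 f) (by
    intro m hm
    rw [single01_le_iff] at hm
    rw [coeff_restr, if_neg]
    simp only [T5]; omega)
  rw [← X_pow_eq] at p3 p4
  have hX01 : (X 0 * X 1 : PS k) = monomial (Finsupp.single 0 1 + Finsupp.single 1 1) 1 := by
    rw [X_def, X_def, monomial_mul_monomial, mul_one]
  rw [← hX01] at p5
  refine ⟨shift (Finsupp.single 0 (a + 1)) (restr T3 f),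
    shift (Finsupp.single 1 (b + 1)) (restr T4 f),
    shift (Finsupp.single 0 1 + Finsupp.single 1 1) (restr T5 f), ?_⟩
  rw [← p1, ← p2, ← p3, ← p4, ← p5]
  exact hsum


lemma decomp' (a b : ℕ) (ha : 1 ≤ a) (hb : 1 ≤ b) (f : PS k)
    (hfa : ∀ i < a, coeff (Finsupp.single 0 i) f = 0)
    (hfb : ∀ j < b, coeff (Finsupp.single 1 j) f = 0) :
    ∃ (c d : k) (u v h : PS k), c = coeff (Finsupp.single 0 a) f ∧
      d = coeff (Finsupp.single 1 b) f ∧
      f = C c * X 0 ^ a + C d * X 1 ^ b + X 0 ^ (a + 1) * u + X 1 ^ (b + 1) * v + X 0 * X 1 * h := by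
  obtain ⟨u, v, h, hdec⟩ := decomp a b ha hb f hfa hfb
  exact ⟨_, _, u, v, h, rfl, rfl, hdec⟩

section Main

variable (J : Ideal (PS k))

lemma C_mul_mem_iff {c : k} (hc : c ≠ 0) {g : PS k} : C c * g ∈ J ↔ g ∈ J := by
  constructor
  · intro h
    have : C c⁻¹ * (C c * g) ∈ J := J.mul_mem_left _ h
    rwa [← mul_assoc, ← map_mul, inv_mul_cancel₀ hc, map_one, one_mul] at this
  · exact fun h => J.mul_mem_left _ h

lemma mem_of_mul_unit {u g : PS k} (hu : constantCoeff u ≠ 0) (h : g * u ∈ J) : g ∈ J := by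
  have hunit : IsUnit u := isUnit_iff_constantCoeff.mpr (IsUnit.mk0 _ hu)
  obtain ⟨v, hv⟩ := hunit.exists_right_inv
  have : g * u * v ∈ J := J.mul_mem_right _ h
  rwa [mul_assoc, hv, mul_one] at this

lemma exists_coeff_ne_zero (s : Fin 2) [Module.Finite k (PS k ⧸ J)] :
    ∃ i, ∃ f ∈ J, coeff (Finsupp.single s i) f ≠ 0 := by
  classical
  have hnot : ¬ LinearIndependent k
      (fun i : ℕ => (Ideal.Quotient.mk J (X s ^ i) : PS k ⧸ J)) := by
    intro hli
    have := hli.finite_of_isNoetherian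
    exact not_finite ℕ
  rw [not_linearIndependent_iff] at hnot
  obtain ⟨t, g, hsum, i₀, hi₀, hg⟩ := hnot
  refine ⟨i₀, ∑ i ∈ t, C (g i) * X s ^ i, ?_, ?_⟩
  · rw [← Ideal.Quotient.eq_zero_iff_mem, map_sum, ← hsum]
    refine Finset.sum_congr rfl fun i _ => ?_
    rw [← smul_eq_C_mul]
    rfl
  · rw [map_sum, Finset.sum_eq_single i₀]
    · rw [coeff_C_mul, coeff_X_pow, if_pos rfl, mul_one]
      exact hg
    · intro i _ hne
      rw [coeff_C_mul, coeff_X_pow, if_neg, mul_zero]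
      intro h
      exact hne ((Finsupp.single_injective s h).symm)
    · intro h
      exact absurd hi₀ h

lemma finrank_of_surj {V : Type*} [AddCommGroup V] [Module k V] (Φ : PS k →ₗ[k] V)
    (hs : Function.Surjective Φ) (hk : ∀ f, Φ f = 0 ↔ f ∈ J) :
    Module.finrank k (PS k ⧸ J) = Module.finrank k V := by
  have e1 : J.restrictScalars k = LinearMap.ker Φ := by
    ext f
    simp [hk]
  exact ((Submodule.Quotient.restrictScalarsEquiv k J).symm.trans
    ((Submodule.quotEquivOfEq _ _ e1).trans (Φ.quotKerEquivOfSurjective hs))).finrank_eq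

end Main


section Phi

/-- low coefficient map -/
noncomputable def Phi1 (a b' : ℕ) : PS k →ₗ[k] (Fin a → k) × (Fin b' → k) :=
  LinearMap.prod (LinearMap.pi fun i : Fin a => coeff (Finsupp.single 0 i.1))
    (LinearMap.pi fun j : Fin b' => coeff (Finsupp.single 1 (j.1 + 1)))

lemma Phi1_apply (a b' : ℕ) (f : PS k) :
    Phi1 a b' f = (fun i : Fin a => coeff (Finsupp.single 0 i.1) f,
      fun j : Fin b' => coeff (Finsupp.single 1 (j.1 + 1)) f) := rfl

/-- a preimage -/
noncomputable def pre (a b' : ℕ) (c : Fin a → k) (d : Fin b' → k) (e : k) : PS k :=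
  fun m => if m 1 = 0 then (if h : m 0 < a then c ⟨m 0, h⟩ else 0)
    else if m 0 = 0 then (if h : m 1 - 1 < b' then d ⟨m 1 - 1, h⟩
      else if m 1 = b' + 1 then e else 0) else 0

lemma coeff_pre_single0 (a b' : ℕ) (c : Fin a → k) (d : Fin b' → k) (e : k) (i : ℕ) :
    coeff (Finsupp.single 0 i) (pre a b' c d e) = if h : i < a then c ⟨i, h⟩ else 0 := by
  show pre a b' c d e (Finsupp.single 0 i) = _
  simp [pre]

lemma coeff_pre_single1 (a b' : ℕ) (c : Fin a → k) (d : Fin b' → k) (e : k) (j : ℕ) :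
    coeff (Finsupp.single 1 (j + 1)) (pre a b' c d e)
      = if h : j < b' then d ⟨j, h⟩ else if j = b' then e else 0 := by
  show pre a b' c d e (Finsupp.single 1 (j + 1)) = _
  simp [pre]

lemma Phi1_pre (a b' : ℕ) (c : Fin a → k) (d : Fin b' → k) (e : k) :
    Phi1 a b' (pre a b' c d e) = (c, d) := by
  rw [Phi1_apply]
  refine Prod.ext ?_ ?_
  · funext i
    simp only [coeff_pre_single0, dif_pos i.2]
  · funext j
    simp only [coeff_pre_single1, dif_pos j.2]

lemma Phi1_eq_zero_iff (a b' : ℕ) (ha : 1 ≤ a) (f : PS k) :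
    Phi1 a b' f = 0 ↔ (∀ i < a, coeff (Finsupp.single 0 i) f = 0) ∧
      (∀ j < b' + 1, coeff (Finsupp.single 1 j) f = 0) := by
  rw [Phi1_apply, Prod.mk_eq_zero]
  constructor
  · rintro ⟨h1, h2⟩
    have h1' : ∀ i < a, coeff (Finsupp.single 0 i) f = 0 := fun i hi => congrFun h1 ⟨i, hi⟩
    refine ⟨h1', ?_⟩
    intro j hj
    rcases j with _ | j
    · have := h1' 0 (by omega)
      simpa using this
    · exact congrFun h2 ⟨j, by omega⟩
  · rintro ⟨h1, h2⟩
    refine ⟨?_, ?_⟩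
    · funext i; exact h1 i.1 i.2
    · funext j; exact h2 (j.1 + 1) (by omega)

end Phi


theorem main (J : Ideal (PS k))
    (hxy : (X 0 * X 1 : PS k) ∈ J)
    [Module.Finite k (PS k ⧸ J)] (n : ℕ) (hn : Module.finrank k (PS k ⧸ J) = n) (h2 : 2 ≤ n) :
    ∃ a b : ℕ, 1 ≤ a ∧ 1 ≤ b ∧
      ((a + b = n + 1 ∧ J = Ideal.span {X 0 * X 1, X 0 ^ a, X 1 ^ b}) ∨
       (a + b = n ∧ ∃ α : k, α ≠ 0 ∧ J = Ideal.span {X 0 * X 1, X 0 ^ a + C α * X 1 ^ b})) := by
  classical
  have hJtop : J ≠ ⊤ := by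
    rintro rfl
    have : Subsingleton (PS k ⧸ (⊤ : Ideal (PS k))) := Ideal.Quotient.subsingleton_iff.mpr rfl
    have : Module.finrank k (PS k ⧸ (⊤ : Ideal (PS k))) = 0 := Module.finrank_zero_of_subsingleton
    omega
  have hEa := exists_coeff_ne_zero J 0
  have hEb := exists_coeff_ne_zero J 1
  obtain ⟨a, ⟨fa, hfaJ, hfa⟩, hamin⟩ : ∃ a, (∃ f ∈ J, coeff (Finsupp.single 0 a) f ≠ 0) ∧
      ∀ i < a, ¬ ∃ f ∈ J, coeff (Finsupp.single 0 i) f ≠ 0 :=
    ⟨Nat.find hEa, Nat.find_spec hEa, fun i hi => Nat.find_min hEa hi⟩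
  obtain ⟨b, ⟨fb, hfbJ, hfb⟩, hbmin⟩ : ∃ b, (∃ f ∈ J, coeff (Finsupp.single 1 b) f ≠ 0) ∧
      ∀ i < b, ¬ ∃ f ∈ J, coeff (Finsupp.single 1 i) f ≠ 0 :=
    ⟨Nat.find hEb, Nat.find_spec hEb, fun i hi => Nat.find_min hEb hi⟩
  have hJa : ∀ f ∈ J, ∀ i < a, coeff (Finsupp.single 0 i) f = 0 := by
    intro f hf i hi
    by_contra hne
    exact hamin i hi ⟨f, hf, hne⟩
  have hJb : ∀ f ∈ J, ∀ i < b, coeff (Finsupp.single 1 i) f = 0 := by
    intro f hf i hi
    by_contra hne
    exact hbmin i hi ⟨f, hf, hne⟩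
  have ha : 1 ≤ a := by
    by_contra h
    have ha0 : a = 0 := by omega
    apply hJtop
    have hc : constantCoeff fa ≠ 0 := by
      rw [ha0, Finsupp.single_zero, coeff_zero_eq_constantCoeff] at hfa
      exact hfa
    exact Ideal.eq_top_of_isUnit_mem _ hfaJ (isUnit_iff_constantCoeff.mpr (IsUnit.mk0 _ hc))
  have hb : 1 ≤ b := by
    by_contra h
    have hb0 : b = 0 := by omega
    apply hJtop
    have hc : constantCoeff fb ≠ 0 := by
      rw [hb0, Finsupp.single_zero, coeff_zero_eq_constantCoeff] at hfb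
      exact hfb
    exact Ideal.eq_top_of_isUnit_mem _ hfbJ (isUnit_iff_constantCoeff.mpr (IsUnit.mk0 _ hc))
  obtain ⟨a', rfl⟩ : ∃ a', a = a' + 1 := ⟨a - 1, by omega⟩
  obtain ⟨b', rfl⟩ : ∃ b', b = b' + 1 := ⟨b - 1, by omega⟩
  -- x^{a+1}, y^{b+1} ∈ J
  have hxa1 : (X 0 ^ (a' + 1 + 1) : PS k) ∈ J := by
    obtain ⟨c, d, u, v, h, hc, hd, hdec⟩ :=
      decomp' (a' + 1) (b' + 1) ha hb fa (hJa fa hfaJ) (hJb fa hfaJ)
    have hmem : X 0 ^ (a' + 1 + 1) * (C c + X 0 * u) ∈ J := by
      have e : X 0 ^ (a' + 1 + 1) * (C c + X 0 * u)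
          = X 0 * fa - X 0 * X 1 * (C d * X 1 ^ b' + X 1 ^ (b' + 1) * v + X 0 * h) := by
        rw [hdec]; ring
      rw [e]
      exact J.sub_mem (J.mul_mem_left _ hfaJ) (J.mul_mem_right _ hxy)
    refine mem_of_mul_unit J (u := C c + X 0 * u) ?_ hmem
    rw [hc]
    simpa using hfa
  have hyb1 : (X 1 ^ (b' + 1 + 1) : PS k) ∈ J := by
    obtain ⟨c, d, u, v, h, hc, hd, hdec⟩ :=
      decomp' (a' + 1) (b' + 1) ha hb fb (hJa fb hfbJ) (hJb fb hfbJ)
    have hmem : X 1 ^ (b' + 1 + 1) * (C d + X 1 * v) ∈ J := by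
      have e : X 1 ^ (b' + 1 + 1) * (C d + X 1 * v)
          = X 1 * fb - X 0 * X 1 * (C c * X 0 ^ a' + X 0 ^ (a' + 1) * u + X 1 * h) := by
        rw [hdec]; ring
      rw [e]
      exact J.sub_mem (J.mul_mem_left _ hfbJ) (J.mul_mem_right _ hxy)
    refine mem_of_mul_unit J (u := C d + X 1 * v) ?_ hmem
    rw [hd]
    simpa using hfb
  -- key
  have key : ∀ f ∈ J, C (coeff (Finsupp.single 0 (a' + 1)) f) * X 0 ^ (a' + 1)
      + C (coeff (Finsupp.single 1 (b' + 1)) f) * X 1 ^ (b' + 1) ∈ J := by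
    intro f hf
    obtain ⟨c, d, u, v, h, hc, hd, hdec⟩ :=
      decomp' (a' + 1) (b' + 1) ha hb f (hJa f hf) (hJb f hf)
    have e : C c * X 0 ^ (a' + 1) + C d * X 1 ^ (b' + 1)
        = f - X 0 ^ (a' + 1 + 1) * u - X 1 ^ (b' + 1 + 1) * v - X 0 * X 1 * h := by
      rw [hdec]; ring
    rw [← hc, ← hd, e]
    exact J.sub_mem (J.sub_mem (J.sub_mem hf (J.mul_mem_right _ hxa1)) (J.mul_mem_right _ hyb1))
      (J.mul_mem_right _ hxy)
  -- membership from decomposition
  have hmemK : ∀ f : PS k, (∀ i < a' + 1, coeff (Finsupp.single 0 i) f = 0) →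
      (∀ j < b' + 1, coeff (Finsupp.single 1 j) f = 0) →
      (C (coeff (Finsupp.single 0 (a' + 1)) f) * X 0 ^ (a' + 1)
        + C (coeff (Finsupp.single 1 (b' + 1)) f) * X 1 ^ (b' + 1) ∈ J) → f ∈ J := by
    intro f h1 h2 h3
    obtain ⟨c, d, u, v, h, hc, hd, hdec⟩ := decomp' (a' + 1) (b' + 1) ha hb f h1 h2
    rw [← hc, ← hd] at h3
    rw [hdec]
    exact J.add_mem (J.add_mem (J.add_mem h3 (J.mul_mem_right _ hxa1)) (J.mul_mem_right _ hyb1))
      (J.mul_mem_right _ hxy)
  refine ⟨a' + 1, b' + 1, ha, hb, ?_⟩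
  by_cases hcase : (X 0 ^ (a' + 1) : PS k) ∈ J
  · -- case 1
    left
    have hyb : (X 1 ^ (b' + 1) : PS k) ∈ J := by
      have h1 := key fb hfbJ
      have h3 : C (coeff (Finsupp.single 1 (b' + 1)) fb) * X 1 ^ (b' + 1) ∈ J := by
        have := J.sub_mem h1 (J.mul_mem_left (C (coeff (Finsupp.single 0 (a' + 1)) fb)) hcase)
        rwa [add_sub_cancel_left] at this
      exact (C_mul_mem_iff J hfb).mp h3
    refine ⟨?_, ?_⟩
    · -- dimension
      have hdim := finrank_of_surj J (Phi1 (a' + 1) b')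
        (fun cd => ⟨pre (a' + 1) b' cd.1 cd.2 0, Phi1_pre _ _ _ _ _⟩)
        (fun f => by
          rw [Phi1_eq_zero_iff _ _ ha]
          constructor
          · rintro ⟨h1, h2⟩
            exact hmemK f h1 h2 (J.add_mem (J.mul_mem_left _ hcase) (J.mul_mem_left _ hyb))
          · intro hf
            exact ⟨hJa f hf, hJb f hf⟩)
      rw [hn, Module.finrank_prod, Module.finrank_fin_fun, Module.finrank_fin_fun] at hdim
      omega
    · apply le_antisymm
      · intro f hf
        obtain ⟨c, d, u, v, h, hc, hd, hdec⟩ :=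
          decomp' (a' + 1) (b' + 1) ha hb f (hJa f hf) (hJb f hf)
        set I : Ideal (PS k) := Ideal.span {X 0 * X 1, X 0 ^ (a' + 1), X 1 ^ (b' + 1)} with hI
        have g1 : (X 0 * X 1 : PS k) ∈ I := Ideal.subset_span (by simp)
        have g2 : (X 0 ^ (a' + 1) : PS k) ∈ I := Ideal.subset_span (by simp)
        have g3 : (X 1 ^ (b' + 1) : PS k) ∈ I := Ideal.subset_span (by simp)
        have e : f = C c * X 0 ^ (a' + 1) + C d * X 1 ^ (b' + 1) + X 0 ^ (a' + 1) * (X 0 * u)
            + X 1 ^ (b' + 1) * (X 1 * v) + X 0 * X 1 * h := by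
          rw [hdec]; ring
        rw [e]
        exact I.add_mem (I.add_mem (I.add_mem (I.add_mem (I.mul_mem_left _ g2) (I.mul_mem_left _ g3))
          (I.mul_mem_right _ g2)) (I.mul_mem_right _ g3)) (I.mul_mem_right _ g1)
      · rw [Ideal.span_le]
        rintro _ (rfl | rfl | rfl)
        · exact hxy
        · exact hcase
        · exact hyb
  · -- case 2
    right
    set c₀ := coeff (Finsupp.single 0 (a' + 1)) fa with hc₀
    set d₀ := coeff (Finsupp.single 1 (b' + 1)) fa with hd₀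
    let α : k := d₀ / c₀
    have hg₀ : (X 0 ^ (a' + 1) + C α * X 1 ^ (b' + 1) : PS k) ∈ J := by
      have h1 := key fa hfaJ
      have h3 : C c₀ * (X 0 ^ (a' + 1) + C α * X 1 ^ (b' + 1)) ∈ J := by
        have e : (C c₀ * (X 0 ^ (a' + 1) + C α * X 1 ^ (b' + 1)) : PS k)
            = C c₀ * X 0 ^ (a' + 1) + C d₀ * X 1 ^ (b' + 1) := by
          rw [mul_add, ← mul_assoc, ← map_mul]
          congr 3
          show c₀ * (d₀ / c₀) = d₀
          field_simp
        rw [e]
        exact h1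
      exact (C_mul_mem_iff J hfa).mp h3
    have hα : α ≠ 0 := by
      intro h0
      apply hcase
      have := hg₀
      rwa [h0, map_zero, zero_mul, add_zero] at this
    have hyb : (X 1 ^ (b' + 1) : PS k) ∉ J := by
      intro hyb
      apply hcase
      have := J.sub_mem hg₀ (J.mul_mem_left (C α) hyb)
      rwa [add_sub_cancel_right] at this
    have ratio : ∀ f ∈ J, coeff (Finsupp.single 1 (b' + 1)) f
        = α * coeff (Finsupp.single 0 (a' + 1)) f := by
      intro f hf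
      by_contra hne
      apply hyb
      have h1 := key f hf
      have h3 : C (coeff (Finsupp.single 1 (b' + 1)) f
          - α * coeff (Finsupp.single 0 (a' + 1)) f) * X 1 ^ (b' + 1) ∈ J := by
        have e : (C (coeff (Finsupp.single 1 (b' + 1)) f
            - α * coeff (Finsupp.single 0 (a' + 1)) f) * X 1 ^ (b' + 1) : PS k)
            = (C (coeff (Finsupp.single 0 (a' + 1)) f) * X 0 ^ (a' + 1)
              + C (coeff (Finsupp.single 1 (b' + 1)) f) * X 1 ^ (b' + 1))
              - C (coeff (Finsupp.single 0 (a' + 1)) f)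
                * (X 0 ^ (a' + 1) + C α * X 1 ^ (b' + 1)) := by
          rw [map_sub, map_mul]; ring
        rw [e]
        exact J.sub_mem h1 (J.mul_mem_left _ hg₀)
      exact (C_mul_mem_iff J (sub_ne_zero.mpr hne)).mp h3
    refine ⟨?_, α, hα, ?_⟩
    · -- dimension
      let Φ₂ : PS k →ₗ[k] ((Fin (a' + 1) → k) × (Fin b' → k)) × k :=
        LinearMap.prod (Phi1 (a' + 1) b')
          (coeff (Finsupp.single 1 (b' + 1)) - α • coeff (Finsupp.single 0 (a' + 1)))
      have hΦ₂ : ∀ f, Φ₂ f = (Phi1 (a' + 1) b' f,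
          coeff (Finsupp.single 1 (b' + 1)) f - α * coeff (Finsupp.single 0 (a' + 1)) f) :=
        fun f => rfl
      have hdim := finrank_of_surj J Φ₂
        (fun cde => ⟨pre (a' + 1) b' cde.1.1 cde.1.2 cde.2, by
          rw [hΦ₂, Phi1_pre, coeff_pre_single1, coeff_pre_single0]
          simp⟩)
        (fun f => by
          rw [hΦ₂, Prod.mk_eq_zero, Phi1_eq_zero_iff _ _ ha]
          constructor
          · rintro ⟨⟨h1, h2⟩, h3⟩
            refine hmemK f h1 h2 ?_
            rw [sub_eq_zero] at h3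
            rw [h3]
            have e : (C (coeff (Finsupp.single 0 (a' + 1)) f) * X 0 ^ (a' + 1)
                + C (α * coeff (Finsupp.single 0 (a' + 1)) f) * X 1 ^ (b' + 1) : PS k)
                = C (coeff (Finsupp.single 0 (a' + 1)) f)
                  * (X 0 ^ (a' + 1) + C α * X 1 ^ (b' + 1)) := by
              rw [map_mul]; ring
            rw [e]
            exact J.mul_mem_left _ hg₀
          · intro hf
            exact ⟨⟨hJa f hf, hJb f hf⟩, sub_eq_zero.mpr (ratio f hf)⟩)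
      rw [hn, Module.finrank_prod, Module.finrank_prod, Module.finrank_fin_fun,
        Module.finrank_fin_fun, Module.finrank_self] at hdim
      omega
    · apply le_antisymm
      · intro f hf
        obtain ⟨c, d, u, v, h, hc, hd, hdec⟩ :=
          decomp' (a' + 1) (b' + 1) ha hb f (hJa f hf) (hJb f hf)
        have hr := ratio f hf
        rw [← hc, ← hd] at hr
        set I : Ideal (PS k) := Ideal.span {X 0 * X 1, X 0 ^ (a' + 1) + C α * X 1 ^ (b' + 1)}
          with hI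
        have g1 : (X 0 * X 1 : PS k) ∈ I := Ideal.subset_span (by simp)
        have g2 : (X 0 ^ (a' + 1) + C α * X 1 ^ (b' + 1) : PS k) ∈ I :=
          Ideal.subset_span (by simp)
        have e : f = (C c + X 0 * u + C α⁻¹ * X 1 * v)
              * (X 0 ^ (a' + 1) + C α * X 1 ^ (b' + 1))
            + (h - C α * X 1 ^ b' * u - C α⁻¹ * X 0 ^ a' * v) * (X 0 * X 1) := by
          have hαα : (C α⁻¹ * C α : PS k) = 1 := by
            rw [← map_mul, inv_mul_cancel₀ hα, map_one]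
          rw [hdec, hr, map_mul]
          linear_combination (- X 1 ^ (b' + 1 + 1) * v) * hαα
        rw [e]
        exact I.add_mem (I.mul_mem_left _ g2) (I.mul_mem_left _ g1)
      · rw [Ideal.span_le]
        rintro _ (rfl | rfl)
        · exact hxy
        · exact hg₀

end Groth.Agent.Helper29.NodeIdeal
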