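import Mathlib
import Groth.Agent.Lib.Helper29.NormTop

/-!
# The linearised norm on symmetric tensors (helper29)
-/

open scoped TensorProduct
open PiTensorProduct

namespace Groth.Agent.Helper29.NormTS

open Groth.Agent.Helper29.NormTop

universe u

variable {A : Type u} [CommRing A] {R : Type u} [CommRing R] [Algebra A R] {n : ℕ}

/-- Polarization identity for multilinear maps. -/
theorem polarization {N : Type*} [AddCommGroup N] [Module A N]
    (f : MultilinearMap A (fun _ : Fin n => R) N) (p : Fin n → R) :
    ∑ U : Finset (Fin n), (-1 : ℤ) ^ U.card • f (fun _ => ∑ i ∈ Uᶜ, p i) =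
      ∑ σ : Equiv.Perm (Fin n), f (fun k => p (σ k)) := by
  classical
  have h1 : ∀ U : Finset (Fin n), f (fun _ => ∑ i ∈ Uᶜ, p i) =
      ∑ g : Fin n → Fin n,
        if U ⊆ (Finset.univ.image g)ᶜ then f (fun k => p (g k)) else 0 := by
    intro U
    rw [MultilinearMap.map_sum_finset f (fun _ j => p j) (fun _ => Uᶜ), ← Finset.sum_filter]
    refine Finset.sum_congr ?_ (fun _ _ => rfl)
    ext g
    simp only [Fintype.mem_piFinset, Finset.mem_compl, Finset.mem_filter, Finset.mem_univ,
      true_and, Finset.subset_iff, Finset.mem_image, not_exists]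
    constructor
    · intro h x hx k hk
      exact h k (hk ▸ hx)
    · intro h k hk
      exact h hk k rfl
  have h2 : ∀ g : Fin n → Fin n, ∑ U : Finset (Fin n), (-1 : ℤ) ^ U.card •
      (if U ⊆ (Finset.univ.image g)ᶜ then f (fun k => p (g k)) else 0) =
      if Function.Bijective g then f (fun k => p (g k)) else 0 := by
    intro g
    simp_rw [smul_ite, smul_zero]
    rw [← Finset.sum_filter, ← Finset.sum_smul]
    have h3 : (Finset.univ.filter (fun U : Finset (Fin n) => U ⊆ (Finset.univ.image g)ᶜ)) =
        ((Finset.univ.image g)ᶜ).powerset := by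
      ext U
      simp
    rw [h3, Finset.sum_powerset_neg_one_pow_card]
    by_cases hg : Function.Bijective g
    · have h4 : (Finset.univ.image g)ᶜ = ∅ := by
        rw [Finset.compl_eq_empty_iff, Finset.image_univ_of_surjective hg.2]
      rw [if_pos h4, if_pos hg, one_smul]
    · have h4 : (Finset.univ.image g)ᶜ ≠ ∅ := by
        intro h
        apply hg
        rw [Finset.compl_eq_empty_iff] at h
        have hs : Function.Surjective g := by
          intro y
          have hy : y ∈ Finset.univ.image g := by
            rw [h]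
            exact Finset.mem_univ y
          obtain ⟨x, -, hx⟩ := Finset.mem_image.1 hy
          exact ⟨x, hx⟩
        exact Finite.surjective_iff_bijective.1 hs
      rw [if_neg h4, if_neg hg, zero_smul]
  simp_rw [h1, Finset.smul_sum]
  rw [Finset.sum_comm]
  simp_rw [h2]
  rw [← Finset.sum_filter]
  symm
  refine Finset.sum_bij (fun σ _ => (σ : Fin n → Fin n)) ?_ ?_ ?_ ?_
  · intro σ _
    simp only [Finset.mem_filter, Finset.mem_univ, true_and]
    exact σ.bijective
  · intro σ _ τ _ h
    exact Equiv.coe_fn_injective h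
  · intro g hg
    simp only [Finset.mem_filter, Finset.mem_univ, true_and] at hg
    exact ⟨Equiv.ofBijective g hg, Finset.mem_univ _, rfl⟩
  · intro σ _
    rfl

variable (A R n) in
/-- The span of the diagonal tensors. -/
noncomputable def W : Submodule A (⨂[A] _ : Fin n, R) :=
  Submodule.span A (Set.range fun r : R => tprod A (fun _ : Fin n => r))

theorem symm_mem_W (z : ⨂[A] _ : Fin n, R) :
    ∑ σ : Equiv.Perm (Fin n), SymTen.perm A R n σ⁻¹ z ∈ W A R n := by
  induction z using PiTensorProduct.induction_on with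
  | smul_tprod a p =>
    simp only [map_smul]
    rw [← Finset.smul_sum]
    apply Submodule.smul_mem
    simp_rw [SymTen.perm_tprod]
    have h := polarization (tprod A) p
    have h' : (∑ σ : Equiv.Perm (Fin n), tprod A (fun i => p ((σ⁻¹ : Equiv.Perm (Fin n)).symm i))) =
        ∑ σ : Equiv.Perm (Fin n), tprod A (fun k => p (σ k)) := rfl
    rw [h', ← h]
    exact Submodule.sum_mem _ fun U _ =>
      zsmul_mem (Submodule.subset_span
        (Set.mem_range_self (f := fun r : R => tprod A (fun _ : Fin n => r)) (∑ i ∈ Uᶜ, p i))) _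
  | add x y hx hy =>
    simp only [map_add, Finset.sum_add_distrib]
    exact add_mem hx hy

theorem mem_W_of_mem_TS (hfact : IsUnit ((Nat.factorial n : ℕ) : A)) {t : ⨂[A] _ : Fin n, R}
    (ht : t ∈ SymTen.TS A R n) : t ∈ W A R n := by
  have h := symm_mem_W (A := A) (R := R) (n := n) t
  have h1 : ∀ σ : Equiv.Perm (Fin n), SymTen.perm A R n σ⁻¹ t = t := by
    intro σ
    rw [SymTen.perm_apply]
    exact (SymTen.mem_TS_iff A R n t).1 ht σ⁻¹
  simp_rw [h1] at h
  rw [Finset.sum_const, Finset.card_univ, Fintype.card_perm, Fintype.card_fin,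
    ← Nat.cast_smul_eq_nsmul A] at h
  obtain ⟨u, hu⟩ := hfact
  have h2 : t = ((u⁻¹ : Aˣ) : A) • (((Nat.factorial n : ℕ) : A) • t) := by
    rw [smul_smul, ← hu, Units.inv_mul, one_smul]
  rw [h2]
  exact Submodule.smul_mem _ _ h

variable (b : Module.Basis (Fin n) A R)

/-- The linearised norm. -/
noncomputable def normHom : SymTen.TS A R n →ₐ[A] A :=
  AlgHom.ofLinearMap (deltaP b ∘ₗ (SymTen.TS A R n).val.toLinearMap)
    (by
      show delta b ((1 : SymTen.TS A R n).1 * tprod A (fun i => b i)) = 1
      rw [OneMemClass.coe_one, one_mul, delta_e0])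
    (fun t t' => by
      show delta b ((t * t').1 * tprod A (fun i => b i)) =
        delta b (t.1 * tprod A (fun i => b i)) * delta b (t'.1 * tprod A (fun i => b i))
      rw [MulMemClass.coe_mul, mul_assoc, delta_mul_of_mem_TS b t.2])

theorem normHom_apply (t : SymTen.TS A R n) :
    normHom b t = delta b (t.1 * tprod A (fun i => b i)) := rfl

theorem normHom_tpow (r : R) : normHom b (SymTen.tpow A R n r) = Algebra.norm A r := by
  classical
  rw [normHom_apply]
  show delta b (tprod A (fun _ : Fin n => r) * tprod A (fun i => b i)) = _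
  rw [PiTensorProduct.tprod_mul_tprod, delta_tprod, Algebra.norm_eq_matrix_det b,
    Module.Basis.det_apply]
  congr 1
  ext i j
  rw [Algebra.leftMulMatrix_eq_repr_mul, Module.Basis.toMatrix_apply]
  rfl

theorem main (A : Type u) [CommRing A] (R : Type u) [CommRing R]
    [Algebra A R] [Module.Free A R] [Module.Finite A R] (n : ℕ) (hn : Module.finrank A R = n)
    (hfact : IsUnit ((Nat.factorial n : ℕ) : A)) :
    ∃! φ : SymTen.TS A R n →ₐ[A] A, ∀ r : R, φ (SymTen.tpow A R n r) = Algebra.norm A r := by
  have hb : Nonempty (Module.Basis (Fin n) A R) := by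
    rcases subsingleton_or_nontrivial A with hA | hA
    · have : Subsingleton R := Module.subsingleton A R
      exact ⟨Module.Basis.ofEquivFun (LinearEquiv.ofSubsingleton R (Fin n → A))⟩
    · exact ⟨Module.finBasisOfFinrankEq A R hn⟩
  obtain ⟨b⟩ := hb
  refine ⟨normHom b, normHom_tpow b, ?_⟩
  intro φ hφ
  apply AlgHom.ext
  intro t
  -- `t` lies in the span of the `tpow r`
  have ht : (t : ⨂[A] _ : Fin n, R) ∈ W A R n := mem_W_of_mem_TS hfact t.2
  have hW : W A R n = Submodule.map (SymTen.TS A R n).val.toLinearMap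
      (Submodule.span A (Set.range fun r : R => SymTen.tpow A R n r)) := by
    rw [Submodule.map_span, W]
    congr 1
    ext z
    constructor
    · rintro ⟨r, rfl⟩
      exact ⟨SymTen.tpow A R n r, ⟨r, rfl⟩, rfl⟩
    · rintro ⟨_, ⟨r, rfl⟩, rfl⟩
      exact ⟨r, rfl⟩
  rw [hW] at ht
  obtain ⟨t', ht', htt'⟩ := ht
  have heq : t' = t := Subtype.ext htt'
  rw [← heq]
  have key : ∀ s ∈ Submodule.span A (Set.range fun r : R => SymTen.tpow A R n r),
      φ s = normHom b s := by
    intro s hs
    induction hs using Submodule.span_induction with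
    | mem x hx =>
      obtain ⟨r, rfl⟩ := hx
      rw [hφ, normHom_tpow]
    | zero => simp
    | add x y _ _ hx hy => rw [map_add, map_add, hx, hy]
    | smul a x _ hx => rw [map_smul, map_smul, hx]
  exact key t' ht'

end Groth.Agent.Helper29.NormTS
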