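import Mathlib

set_option autoImplicit false
open scoped BigOperators
universe u v w x

namespace Groth.Agent.Helper29.Ore

open Finsupp

section General

variable {K : Type u} [Field K] {O : Type v} [CommRing O] [Algebra K O] (δ : Derivation K O O)

/-- `c ↦ Σ φ(c_i) b^i` as an additive hom. -/
noncomputable def psi {X : Type*} [Ring X] (φ : O →+* X) (b : X) : (ℕ →₀ O) →+ X :=
  Finsupp.liftAddHom (fun i => (AddMonoidHom.mulRight (b ^ i)).comp φ.toAddMonoidHom)

theorem psi_apply {X : Type*} [Ring X] (φ : O →+* X) (b : X) (c : ℕ →₀ O) :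
    psi φ b c = c.sum (fun i f => φ f * b ^ i) := by
  simp only [psi, Finsupp.liftAddHom_apply]
  rfl

@[simp] theorem psi_single {X : Type*} [Ring X] (φ : O →+* X) (b : X) (i : ℕ) (f : O) :
    psi φ b (Finsupp.single i f) = φ f * b ^ i := by
  simp [psi]

theorem psi_smul {X : Type*} [Ring X] (φ : O →+* X) (b : X) (f : O) (c : ℕ →₀ O) :
    psi φ b (f • c) = φ f * psi φ b c := by
  induction c using Finsupp.induction_linear with
  | zero => simp
  | add c c' h h' => rw [smul_add, map_add, map_add, h, h', mul_add]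
  | single i g => rw [Finsupp.smul_single, psi_single, psi_single, smul_eq_mul, map_mul, mul_assoc]

/-- the operator corresponding to left multiplication by `d`. -/
noncomputable def L : (ℕ →₀ O) →+ (ℕ →₀ O) :=
  Finsupp.liftAddHom (fun i =>
    (Finsupp.singleAddHom (i + 1)) + (Finsupp.singleAddHom i).comp (δ : O →ₗ[K] O).toAddMonoidHom)

@[simp] theorem L_single (i : ℕ) (g : O) :
    L δ (Finsupp.single i g) = Finsupp.single (i + 1) g + Finsupp.single i (δ g) := by
  simp [L]

theorem psi_L {X : Type*} [Ring X] (φ : O →+* X) (b : X)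
    (hb : ∀ f, b * φ f = φ f * b + φ (δ f)) (c : ℕ →₀ O) :
    psi φ b (L δ c) = b * psi φ b c := by
  induction c using Finsupp.induction_linear with
  | zero => simp
  | add c c' h h' => rw [map_add, map_add, map_add, h, h', mul_add]
  | single i g =>
    rw [L_single, map_add, psi_single, psi_single, psi_single, ← mul_assoc, hb, add_mul, pow_succ',
      mul_assoc]

theorem map_psi {X Y : Type*} [Ring X] [Ring Y] (g : X →+* Y) (φ : O →+* X) (b : X) (c : ℕ →₀ O) :
    g (psi φ b c) = psi (g.comp φ) (g b) c := by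
  induction c using Finsupp.induction_linear with
  | zero => simp
  | add c c' h h' => rw [map_add, map_add, map_add, h, h']
  | single i f => simp

end General


section Universal

variable {K : Type u} [Field K] {O : Type v} [CommRing O] [Algebra K O] (δ : Derivation K O O)
  {D : Type w} [Ring D] [Algebra K D] (ι : O →ₐ[K] D) (d : D)

theorem psi_bij (hbasis : Function.Bijective (fun c : ℕ →₀ O => c.sum (fun i f => ι f * d ^ i))) :
    Function.Bijective (psi (ι : O →+* D) d) := by
  convert hbasis using 1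
  ext c
  exact psi_apply _ _ _

theorem mem_of_gen (hbasis : Function.Bijective (fun c : ℕ →₀ O => c.sum (fun i f => ι f * d ^ i)))
    (S : Subsemiring D) (hι : ∀ f, ι f ∈ S) (hdS : d ∈ S) (P : D) : P ∈ S := by
  obtain ⟨c, rfl⟩ := hbasis.2 P
  exact S.sum_mem fun i _ => S.mul_mem (hι _) (S.pow_mem hdS i)

/-- the additive equivalence given by the basis -/
noncomputable def eA (hbasis : Function.Bijective (fun c : ℕ →₀ O => c.sum (fun i f => ι f * d ^ i))) :
    (ℕ →₀ O) ≃+ D :=
  AddEquiv.ofBijective (psi (ι : O →+* D) d) (psi_bij ι d hbasis)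

variable {T : Type x} [Ring T] [Algebra K T] (φ : O →ₐ[K] T) (b : T)

/-- the induced additive map `D → T`. -/
noncomputable def PhiAdd
    (hbasis : Function.Bijective (fun c : ℕ →₀ O => c.sum (fun i f => ι f * d ^ i))) : D →+ T :=
  (psi (φ : O →+* T) b).comp (eA ι d hbasis).symm.toAddMonoidHom

variable (hbasis : Function.Bijective (fun c : ℕ →₀ O => c.sum (fun i f => ι f * d ^ i)))

theorem PhiAdd_psi (c : ℕ →₀ O) :
    PhiAdd ι d φ b hbasis (psi (ι : O →+* D) d c) = psi (φ : O →+* T) b c := by
  have : (eA ι d hbasis).symm (psi (ι : O →+* D) d c) = c :=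
    (eA ι d hbasis).symm_apply_apply c
  simp [PhiAdd, this]

theorem PhiAdd_iota_mul (f : O) (P : D) :
    PhiAdd ι d φ b hbasis (ι f * P) = φ f * PhiAdd ι d φ b hbasis P := by
  obtain ⟨c, rfl⟩ := (psi_bij ι d hbasis).2 P
  have h1 := psi_smul (ι : O →+* D) d f c
  have h2 := psi_smul (φ : O →+* T) b f c
  simp only [RingHom.coe_coe] at h1 h2
  rw [← h1, PhiAdd_psi, PhiAdd_psi, h2]

include δ in
theorem PhiAdd_d_mul (hd : ∀ f : O, d * ι f = ι f * d + ι (δ f))
    (hb : ∀ f, b * φ f = φ f * b + φ (δ f)) (P : D) :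
    PhiAdd ι d φ b hbasis (d * P) = b * PhiAdd ι d φ b hbasis P := by
  obtain ⟨c, rfl⟩ := (psi_bij ι d hbasis).2 P
  rw [← psi_L δ (ι : O →+* D) d hd, PhiAdd_psi, PhiAdd_psi, psi_L δ (φ : O →+* T) b hb]

theorem PhiAdd_one : PhiAdd ι d φ b hbasis 1 = 1 := by
  have h1 : psi (ι : O →+* D) d (Finsupp.single 0 1) = 1 := by simp
  have h2 : psi (φ : O →+* T) b (Finsupp.single 0 1) = 1 := by simp
  rw [← h1, PhiAdd_psi, h2]

include δ in
theorem PhiAdd_mul (hd : ∀ f : O, d * ι f = ι f * d + ι (δ f))
    (hb : ∀ f, b * φ f = φ f * b + φ (δ f)) (P Q : D) :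
    PhiAdd ι d φ b hbasis (P * Q) = PhiAdd ι d φ b hbasis P * PhiAdd ι d φ b hbasis Q := by
  let S : Subsemiring D :=
    { carrier := {P | ∀ Q, PhiAdd ι d φ b hbasis (P * Q) =
        PhiAdd ι d φ b hbasis P * PhiAdd ι d φ b hbasis Q}
      mul_mem' := by
        intro P P' hP hP' Q
        rw [mul_assoc, hP, hP', hP P', mul_assoc]
      one_mem' := by
        intro Q
        rw [one_mul, PhiAdd_one, one_mul]
      add_mem' := by
        intro P P' hP hP' Q
        rw [add_mul, map_add, map_add, hP, hP', add_mul]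
      zero_mem' := by
        intro Q
        simp }
  have hS : ∀ P, P ∈ S := by
    apply mem_of_gen ι d hbasis S
    · intro f Q
      rw [PhiAdd_iota_mul]
      have := PhiAdd_iota_mul ι d φ b hbasis f 1
      rw [mul_one, PhiAdd_one, mul_one] at this
      rw [this]
    · intro Q
      rw [PhiAdd_d_mul δ ι d φ b hbasis hd hb]
      have := PhiAdd_d_mul δ ι d φ b hbasis hd hb 1
      rw [mul_one, PhiAdd_one, mul_one] at this
      rw [this]
  exact hS P Q

/-- universal property of the Ore extension given by a basis -/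
noncomputable def Phi (hd : ∀ f : O, d * ι f = ι f * d + ι (δ f))
    (hb : ∀ f, b * φ f = φ f * b + φ (δ f)) : D →ₐ[K] T :=
  { toFun := PhiAdd ι d φ b hbasis
    map_one' := PhiAdd_one ι d φ b hbasis
    map_mul' := PhiAdd_mul δ ι d φ b hbasis hd hb
    map_zero' := map_zero _
    map_add' := map_add _
    commutes' := by
      intro k
      have h1 : algebraMap K D k = ι (algebraMap K O k) * 1 := by rw [mul_one, AlgHom.commutes]
      rw [h1, PhiAdd_iota_mul, PhiAdd_one, mul_one, AlgHom.commutes] }

theorem Phi_iota (hd : ∀ f : O, d * ι f = ι f * d + ι (δ f))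
    (hb : ∀ f, b * φ f = φ f * b + φ (δ f)) (f : O) :
    Phi δ ι d φ b hbasis hd hb (ι f) = φ f := by
  change PhiAdd ι d φ b hbasis (ι f) = φ f
  have := PhiAdd_iota_mul ι d φ b hbasis f 1
  rwa [mul_one, PhiAdd_one, mul_one] at this

theorem Phi_d (hd : ∀ f : O, d * ι f = ι f * d + ι (δ f))
    (hb : ∀ f, b * φ f = φ f * b + φ (δ f)) :
    Phi δ ι d φ b hbasis hd hb d = b := by
  change PhiAdd ι d φ b hbasis d = b
  have := PhiAdd_d_mul δ ι d φ b hbasis hd hb 1
  rwa [mul_one, PhiAdd_one, mul_one] at this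

end Universal

theorem derivations_of_ore
    (K : Type u) [Field K]
    (O : Type v) [CommRing O] [Algebra K O] (δ : Derivation K O O)
    (D : Type w) [Ring D] [Algebra K D] (ι : O →ₐ[K] D) (d : D)
    (hd : ∀ f : O, d * ι f = ι f * d + ι (δ f))
    (hbasis : Function.Bijective (fun c : ℕ →₀ O => c.sum (fun i f => ι f * d ^ i)))
    (E : Type x) [AddCommGroup E] [Module K E] (ρ : D →ₐ[K] Module.End K E) :
    (∀ s : D →ₗ[K] Module.End K E, (∀ P Q : D, s (P * Q) = s P * ρ Q + ρ P * s Q) →
      ∀ f : O, (s (ι f) * ρ d - ρ d * s (ι f)) + (ρ (ι f) * s d - s d * ρ (ι f)) + s (ι (δ f)) = 0) ∧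
    ∀ (r : O →ₗ[K] Module.End K E) (v : Module.End K E),
      (∀ f g : O, r (f * g) = r f * ρ (ι g) + ρ (ι f) * r g) →
      (∀ f : O, (r f * ρ d - ρ d * r f) + (ρ (ι f) * v - v * ρ (ι f)) + r (δ f) = 0) →
      ∃! s : D →ₗ[K] Module.End K E,
        (∀ P Q : D, s (P * Q) = s P * ρ Q + ρ P * s Q) ∧ s ∘ₗ ι.toLinearMap = r ∧ s d = v := by
  constructor
  · intro s hs f
    have h1 := congrArg s (hd f)
    rw [map_add, hs, hs] at h1
    -- h1 : s d * ρ (ι f) + ρ d * s (ι f) = s (ι f) * ρ d + ρ (ι f) * s d + s (ι (δ f))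
    have : (s (ι f) * ρ d - ρ d * s (ι f)) + (ρ (ι f) * s d - s d * ρ (ι f)) + s (ι (δ f))
        = (s (ι f) * ρ d + ρ (ι f) * s d + s (ι (δ f))) - (s d * ρ (ι f) + ρ d * s (ι f)) := by
      abel
    rw [this, ← h1, sub_self]
  · intro r v hr hid
    have hr1 : r 1 = 0 := by
      have := hr 1 1
      simp only [mul_one, map_one, one_mul] at this
      exact left_eq_add.mp this
    let φ : O →ₐ[K] TrivSqZeroExt (Module.End K E) (Module.End K E) :=
      { toFun := fun f => TrivSqZeroExt.inl (ρ (ι f)) + TrivSqZeroExt.inr (r f)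
        map_one' := by ext <;> simp [hr1]
        map_mul' := by
          intro f g
          ext <;> simp [hr, add_comm]
        map_zero' := by ext <;> simp
        map_add' := by
          intro f g
          ext <;> simp
        commutes' := by
          intro k
          ext <;> simp [Algebra.algebraMap_eq_smul_one, hr1] }
    have hφ : ∀ f, φ f = TrivSqZeroExt.inl (ρ (ι f)) + TrivSqZeroExt.inr (r f) := fun f => rfl
    let b : TrivSqZeroExt (Module.End K E) (Module.End K E) :=
      TrivSqZeroExt.inl (ρ d) + TrivSqZeroExt.inr v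
    have hb : ∀ f, b * φ f = φ f * b + φ (δ f) := by
      intro f
      rw [hφ, hφ]
      ext
      · simp [b, ← map_mul, ← map_add, hd]
      · simp only [b, TrivSqZeroExt.snd_mul, TrivSqZeroExt.fst_add, TrivSqZeroExt.fst_inl,
          TrivSqZeroExt.fst_inr, add_zero, TrivSqZeroExt.snd_add, TrivSqZeroExt.snd_inl,
          TrivSqZeroExt.snd_inr, zero_add, smul_eq_mul, MulOpposite.smul_eq_mul_unop,
          MulOpposite.unop_op]
        have h := hid f
        have this : ρ (ι f) * v + r f * ρ d + r (δ f) - (ρ d * r f + v * ρ (ι f)) = 0 := by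
          rw [← h]; abel
        have heq : ρ d * r f + v * ρ (ι f) = ρ (ι f) * v + r f * ρ d + r (δ f) :=
          (sub_eq_zero.mp this).symm
        rw [heq]
    -- the algebra hom
    let Φ := Phi δ ι d φ b hbasis hd hb
    have hΦι : ∀ f, Φ (ι f) = φ f := Phi_iota δ ι d φ b hbasis hd hb
    have hΦd : Φ d = b := Phi_d δ ι d φ b hbasis hd hb
    have hfst : ∀ P, (Φ P).fst = ρ P := by
      have hmem : ∀ P, P ∈ (AlgHom.equalizer
          ((TrivSqZeroExt.fstHom K (Module.End K E) (Module.End K E)).comp Φ) ρ).toSubsemiring := by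
        apply mem_of_gen ι d hbasis
        · intro f
          change ((TrivSqZeroExt.fstHom K (Module.End K E) (Module.End K E)).comp Φ) (ι f) = ρ (ι f)
          simp [hΦι, hφ]
        · change ((TrivSqZeroExt.fstHom K (Module.End K E) (Module.End K E)).comp Φ) d = ρ d
          simp [hΦd, b]
      intro P
      exact hmem P
    let s : D →ₗ[K] Module.End K E :=
      { toFun := fun P => (Φ P).snd
        map_add' := by intro P Q; simp
        map_smul' := by intro k P; simp }
    have hs_apply : ∀ P, s P = (Φ P).snd := fun P => rfl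
    have hs_der : ∀ P Q : D, s (P * Q) = s P * ρ Q + ρ P * s Q := by
      intro P Q
      rw [hs_apply, map_mul, TrivSqZeroExt.snd_mul, hfst, hfst, hs_apply, hs_apply, add_comm]
      rfl
    have hs_one : ∀ s' : D →ₗ[K] Module.End K E,
        (∀ P Q : D, s' (P * Q) = s' P * ρ Q + ρ P * s' Q) → s' 1 = 0 := by
      intro s' hs'
      have := hs' 1 1
      simp only [mul_one, map_one, one_mul] at this
      exact left_eq_add.mp this
    refine ⟨s, ⟨hs_der, ?_, ?_⟩, ?_⟩
    · ext f : 1
      simp [hs_apply, hΦι, hφ]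
    · simp [hs_apply, hΦd, b]
    · rintro s' ⟨hs'_der, hs'ι, hs'd⟩
      let S : Subsemiring D :=
        { carrier := {P | s' P = s P}
          mul_mem' := by
            intro P Q hP hQ
            simp only [Set.mem_ofPred_eq] at hP hQ ⊢
            rw [hs'_der, hs_der, hP, hQ]
          one_mem' := by
            simp only [Set.mem_ofPred_eq]
            rw [hs_one s' hs'_der, hs_one s hs_der]
          add_mem' := by
            intro P Q hP hQ
            simp only [Set.mem_ofPred_eq] at hP hQ ⊢
            rw [map_add, map_add, hP, hQ]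
          zero_mem' := by simp }
      have hS : ∀ P, P ∈ S := by
        apply mem_of_gen ι d hbasis
        · intro f
          change s' (ι f) = s (ι f)
          have := LinearMap.congr_fun hs'ι f
          simp only [LinearMap.comp_apply, AlgHom.toLinearMap_apply] at this
          rw [this]
          simp [hs_apply, hΦι, hφ]
        · change s' d = s d
          rw [hs'd]
          simp [hs_apply, hΦd, b]
      ext P : 1
      exact hS P


end Groth.Agent.Helper29.Ore
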