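import Mathlib

/-!
# π-torsion-freeness from flatness modulo all powers of π (Hausdorff modules over a domain)
-/

open TensorProduct

namespace Groth.Agent.Helper29.PAdicFlat

variable {R : Type*} [CommRing R] [IsDomain R] {A : Type*} [AddCommGroup A] [Module R A]

theorem mem_pow_smul_top_of_smul_eq_zero (π : R) (hπ : π ≠ 0) (n : ℕ)
    (hflat : Module.Flat (R ⧸ Ideal.span {π} ^ (n + 1)) ((R ⧸ Ideal.span {π} ^ (n + 1)) ⊗[R] A))
    (x : A) (hx : π • x = 0) : x ∈ (Ideal.span {π} ^ n • ⊤ : Submodule R A) := by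
  obtain ⟨J, hJ⟩ : ∃ J : Ideal R, J = Ideal.span {π} ^ (n + 1) := ⟨_, rfl⟩
  rw [← hJ] at hflat
  have hξ : (Ideal.Quotient.mk J π) • ((1 : R ⧸ J) ⊗ₜ[R] x) = 0 := by
    rw [TensorProduct.smul_tmul', smul_eq_mul, mul_one]
    have : Ideal.Quotient.mk J π = π • (1 : R ⧸ J) := by
      rw [Algebra.smul_def, mul_one]; rfl
    rw [this, TensorProduct.smul_tmul, hx, TensorProduct.tmul_zero]
  have hrel : ∑ i : Fin 1, (fun _ : Fin 1 => Ideal.Quotient.mk J π) i •
      (fun _ : Fin 1 => (1 : R ⧸ J) ⊗ₜ[R] x) i = 0 := by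
    simpa using hξ
  obtain ⟨κ, a, y, hxy, hay⟩ := Module.Flat.isTrivialRelation_of_sum_smul_eq_zero
    (R := R ⧸ J) (M := (R ⧸ J) ⊗[R] A)
    (f := fun _ : Fin 1 => Ideal.Quotient.mk J π)
    (x := fun _ : Fin 1 => (1 : R ⧸ J) ⊗ₜ[R] x) hrel
  have hxy0 : (1 : R ⧸ J) ⊗ₜ[R] x = ∑ j, a 0 j • y j := hxy 0
  have ha : ∀ j, ∃ v : R, a 0 j = Ideal.Quotient.mk J (π ^ n * v) := by
    intro j
    obtain ⟨w, hw⟩ := Ideal.Quotient.mk_surjective (a 0 j)
    have h1 : Ideal.Quotient.mk J (π * w) = 0 := by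
      have := hay j
      rw [Fin.sum_univ_one, ← hw, ← map_mul] at this
      exact this
    rw [Ideal.Quotient.eq_zero_iff_mem, hJ, Ideal.span_singleton_pow,
      Ideal.mem_span_singleton, pow_succ'] at h1
    obtain ⟨v, hv⟩ := (mul_dvd_mul_iff_left hπ).1 h1
    exact ⟨v, by rw [← hw, hv]⟩
  choose v hv using ha
  have hξ2 : (1 : R ⧸ J) ⊗ₜ[R] x = (π ^ n) • ∑ j, v j • y j := by
    rw [hxy0, Finset.smul_sum]
    refine Finset.sum_congr rfl fun j _ => ?_
    rw [hv j, smul_smul]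
    change algebraMap R (R ⧸ J) _ • y j = _
    rw [algebraMap_smul]
  have h3 : TensorProduct.quotTensorEquivQuotSMul A J ((1 : R ⧸ J) ⊗ₜ[R] x)
      = Submodule.Quotient.mk x :=
    TensorProduct.quotTensorEquivQuotSMul_mk_one_tmul J x
  obtain ⟨b, hb⟩ := Submodule.Quotient.mk_surjective _
    (TensorProduct.quotTensorEquivQuotSMul A J (∑ j, v j • y j))
  have h4 : (Submodule.Quotient.mk x : A ⧸ (J • ⊤ : Submodule R A))
      = Submodule.Quotient.mk (π ^ n • b) := by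
    rw [← h3, hξ2, map_smul, ← hb, Submodule.Quotient.mk_smul]
  rw [Submodule.Quotient.eq] at h4
  have h5 : x = (x - π ^ n • b) + π ^ n • b := by abel
  rw [h5]
  refine Submodule.add_mem _ ?_ ?_
  · rw [hJ] at h4
    exact Submodule.smul_mono_left (Ideal.pow_le_pow_right (Nat.le_succ n)) h4
  · exact Submodule.smul_mem_smul (Ideal.pow_mem_pow (Ideal.mem_span_singleton_self π) n)
      Submodule.mem_top

theorem eq_zero_of_smul_eq_zero (π : R) (hπ : π ≠ 0) [IsHausdorff (Ideal.span {π}) A]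
    (h : ∀ n : ℕ, 1 ≤ n →
      Module.Flat (R ⧸ Ideal.span {π} ^ n) ((R ⧸ Ideal.span {π} ^ n) ⊗[R] A))
    (x : A) (hx : π • x = 0) : x = 0 := by
  apply IsHausdorff.haus (inferInstance : IsHausdorff (Ideal.span {π}) A) x
  intro n
  rw [SModEq.zero]
  exact mem_pow_smul_top_of_smul_eq_zero π hπ n (h (n + 1) (Nat.succ_pos n)) x hx

end Groth.Agent.Helper29.PAdicFlat
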