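import Mathlib
import Groth.Prelude.Def_PLie

namespace Groth.Agent.Helper29.PLieH3

open PLie

section
variable {R : Type*} [CommRing R] {L : Type*} [LieRing L] [LieAlgebra R L]
  (bs : Module.Basis (Fin 3) R L)

/-- element with given coordinates -/
noncomputable def vec (X Y Z : R) : L := X • bs 0 + Y • bs 1 + Z • bs 2

lemma eq_vec (v : L) : v = vec bs (bs.repr v 0) (bs.repr v 1) (bs.repr v 2) := by
  conv_lhs => rw [← bs.sum_repr v]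
  rw [vec, ← Fin.sum_univ_three (fun i => bs.repr v i • bs i)]

lemma exists_vec (v : L) : ∃ X Y Z, v = vec bs X Y Z := ⟨_, _, _, eq_vec bs v⟩

lemma repr_vec (X Y Z : R) : bs.repr (vec bs X Y Z) 0 = X ∧ bs.repr (vec bs X Y Z) 1 = Y ∧
    bs.repr (vec bs X Y Z) 2 = Z := by
  simp [vec, Finsupp.single_apply]

lemma vec_inj {X Y Z X' Y' Z' : R} (h : vec bs X Y Z = vec bs X' Y' Z') :
    X = X' ∧ Y = Y' ∧ Z = Z' := by
  have h0 := repr_vec bs X Y Z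
  have h1 := repr_vec bs X' Y' Z'
  rw [h] at h0
  exact ⟨h0.1.symm.trans h1.1, h0.2.1.symm.trans h1.2.1, h0.2.2.symm.trans h1.2.2⟩

lemma vec_add (X Y Z X' Y' Z' : R) :
    vec bs X Y Z + vec bs X' Y' Z' = vec bs (X + X') (Y + Y') (Z + Z') := by
  simp only [vec]; module

lemma vec_sub (X Y Z X' Y' Z' : R) :
    vec bs X Y Z - vec bs X' Y' Z' = vec bs (X - X') (Y - Y') (Z - Z') := by
  simp only [vec]; module

lemma vec_smul (r X Y Z : R) : r • vec bs X Y Z = vec bs (r * X) (r * Y) (r * Z) := by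
  simp only [vec]; module

lemma vec_zero : vec bs (0 : R) 0 0 = 0 := by simp [vec]

lemma bs0 : bs 0 = vec bs 1 0 0 := by simp [vec]
lemma bs1 : bs 1 = vec bs 0 1 0 := by simp [vec]
lemma bs2 : bs 2 = vec bs 0 0 1 := by simp [vec]

/-- the structure constants -/
structure Str (ε a b c d e f g h i : R) : Prop where
  hε : ε * ε = 0
  hxy : ⁅bs 0, bs 1⁆ = (a * ε) • bs 0 + (b * ε) • bs 1 + (c * ε) • bs 2
  hxz : ⁅bs 0, bs 2⁆ = (d * ε) • bs 0 + (e * ε) • bs 1 + (f * ε) • bs 2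
  hyz : ⁅bs 1, bs 2⁆ = (1 + g * ε) • bs 0 + (h * ε) • bs 1 + (i * ε) • bs 2

variable {bs} {ε a b c d e f g h i : R}

lemma Str.lie_vec (S : Str bs ε a b c d e f g h i) (X Y Z X' Y' Z' : R) :
    ⁅vec bs X Y Z, vec bs X' Y' Z'⁆ = vec bs
      ((X * Y' - Y * X') * (a * ε) + (X * Z' - Z * X') * (d * ε) + (Y * Z' - Z * Y') * (1 + g * ε))
      ((X * Y' - Y * X') * (b * ε) + (X * Z' - Z * X') * (e * ε) + (Y * Z' - Z * Y') * (h * ε))
      ((X * Y' - Y * X') * (c * ε) + (X * Z' - Z * X') * (f * ε) + (Y * Z' - Z * Y') * (i * ε)) := by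
  have hyx : ⁅bs 1, bs 0⁆ = -⁅bs 0, bs 1⁆ := (lie_skew _ _).symm
  have hzx : ⁅bs 2, bs 0⁆ = -⁅bs 0, bs 2⁆ := (lie_skew _ _).symm
  have hzy : ⁅bs 2, bs 1⁆ = -⁅bs 1, bs 2⁆ := (lie_skew _ _).symm
  simp only [vec, add_lie, lie_add, smul_lie, lie_smul, lie_self, hyx, hzx, hzy, S.hxy, S.hxz, S.hyz]
  module

lemma Str.jacobi (S : Str bs ε a b c d e f g h i) : (b + f) * ε = 0 := by
  have hε := S.hε
  have J := leibniz_lie (bs 0) (bs 1) (bs 2)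
  rw [bs0 bs, bs1 bs, bs2 bs] at J
  simp only [S.lie_vec, vec_add] at J
  have J0 := (vec_inj bs J).1
  linear_combination -J0 + (a * h - b * g + d * i - f * g) * hε

lemma vec_congr {X Y Z X' Y' Z' : R} (h0 : X = X') (h1 : Y = Y') (h2 : Z = Z') :
    vec bs X Y Z = vec bs X' Y' Z' := by subst h0 h1 h2; rfl

lemma Str.s1 (S : Str bs ε a b c d e f g h i) (u v : L) :
    ∃ A B C, ⁅u, v⁆ = vec bs A (ε * B) (ε * C) := by
  obtain ⟨U0, U1, U2, rfl⟩ := exists_vec bs u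
  obtain ⟨V0, V1, V2, rfl⟩ := exists_vec bs v
  rw [S.lie_vec]
  exact ⟨_, _, _, vec_congr rfl
    (by ring : _ = ε * ((U0 * V1 - U1 * V0) * b + (U0 * V2 - U2 * V0) * e + (U1 * V2 - U2 * V1) * h))
    (by ring : _ = ε * ((U0 * V1 - U1 * V0) * c + (U0 * V2 - U2 * V0) * f + (U1 * V2 - U2 * V1) * i))⟩

lemma Str.s2 (S : Str bs ε a b c d e f g h i) (u : L) (A B C : R) :
    ∃ A' B' C', ⁅u, vec bs A (ε * B) (ε * C)⁆ = vec bs (ε * A') (ε * B') (ε * C') := by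
  have hε := S.hε
  obtain ⟨U0, U1, U2, rfl⟩ := exists_vec bs u
  rw [S.lie_vec]
  refine ⟨-A * U1 * a - A * U2 * d - B * U2 + C * U1, -A * U1 * b - A * U2 * e,
    -A * U1 * c - A * U2 * f, ?_⟩
  refine vec_congr ?_ ?_ ?_
  · linear_combination (B * U0 * a - B * U2 * g + C * U0 * d + C * U1 * g) * hε
  · linear_combination (B * U0 * b - B * U2 * h + C * U0 * e + C * U1 * h) * hε
  · linear_combination (B * U0 * c - B * U2 * i + C * U0 * f + C * U1 * i) * hε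

lemma Str.s3 (S : Str bs ε a b c d e f g h i) (u : L) (A B C : R) :
    ∃ A', ⁅u, vec bs (ε * A) (ε * B) (ε * C)⁆ = vec bs (ε * A') 0 0 := by
  have hε := S.hε
  obtain ⟨U0, U1, U2, rfl⟩ := exists_vec bs u
  rw [S.lie_vec]
  refine ⟨-B * U2 + C * U1, ?_⟩
  refine vec_congr ?_ ?_ ?_
  · linear_combination (-A * U1 * a - A * U2 * d + B * U0 * a - B * U2 * g + C * U0 * d + C * U1 * g) * hε
  · linear_combination (-A * U1 * b - A * U2 * e + B * U0 * b - B * U2 * h + C * U0 * e + C * U1 * h) * hε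
  · linear_combination (-A * U1 * c - A * U2 * f + B * U0 * c - B * U2 * i + C * U0 * f + C * U1 * i) * hε

lemma Str.s4 (S : Str bs ε a b c d e f g h i) (u : L) (A : R) :
    ⁅u, vec bs (ε * A) 0 0⁆ = 0 := by
  have hε := S.hε
  obtain ⟨U0, U1, U2, rfl⟩ := exists_vec bs u
  rw [S.lie_vec, ← vec_zero bs]
  refine vec_congr ?_ ?_ ?_
  · linear_combination (-A * U1 * a - A * U2 * d) * hε
  · linear_combination (-A * U1 * b - A * U2 * e) * hε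
  · linear_combination (-A * U1 * c - A * U2 * f) * hε

lemma Str.four_fold (S : Str bs ε a b c d e f g h i) (u1 u2 u3 u4 u5 : L) :
    ⁅u1, ⁅u2, ⁅u3, ⁅u4, u5⁆⁆⁆⁆ = 0 := by
  obtain ⟨A, B, C, h1⟩ := S.s1 u4 u5
  obtain ⟨A', B', C', h2⟩ := S.s2 u3 A B C
  obtain ⟨A'', h3⟩ := S.s3 u2 A' B' C'
  rw [h1, h2, h3, S.s4]

lemma Str.bracketWord_eq_zero (S : Str bs ε a b c d e f g h i) {ι : Type*} (x : ι → L) (x₁ : L) :
    ∀ w : List ι, 4 ≤ w.length → bracketWord x x₁ w = 0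
  | i1 :: i2 :: i3 :: i4 :: w, _ => by
    simp only [bracketWord_cons]; exact S.four_fold _ _ _ _ _
  | [], h => by simp at h
  | [_], h => by simp at h
  | [_, _], h => by simp at h
  | [_, _, _], h => by simp at h

theorem Str.pmap_of_five_le (S : Str bs ε a b c d e f g h i) (p : ℕ) [CharP R p] (hp : 5 ≤ p) :
    Nonempty (PMap R p L) := by
  refine ⟨{ toFun := fun _ => 0, map_smul := fun c x => (smul_zero _).symm, ad_map := ?_,
            map_add := ?_ }⟩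
  · intro x
    rw [map_zero]
    obtain ⟨k, rfl⟩ : ∃ k, p = 4 + k := ⟨p - 4, by omega⟩
    ext w
    rw [pow_add, Module.End.mul_apply]
    rw [show (4:ℕ) = 1 + 1 + 1 + 1 from rfl, pow_add, pow_add, pow_add, pow_one]
    simp only [Module.End.mul_apply, LieAlgebra.ad_apply, LinearMap.zero_apply]
    exact (S.four_fold _ _ _ _ _).symm
  · intro x₀ x₁
    rw [jacobson, Finset.sum_eq_zero]
    · simp
    · intro t _
      rw [S.bracketWord_eq_zero, smul_zero]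
      simp only [List.length_ofFn]
      omega


lemma jacobson_two [CharP R 2] (u v : L) : jacobson R 2 u v = ⁅u, v⁆ := by
  unfold jacobson
  show (∑ t : Fin 1 → Bool, _) = _
  rw [← (Equiv.funUnique (Fin 1) Bool).symm.sum_comp]
  rw [Fintype.sum_bool]
  simp [pair, Equiv.funUnique, uniqueElim]

lemma jacobson_three [CharP R 3] (u v : L) :
    jacobson R 3 u v = (2 : R) • ⁅u, ⁅u, v⁆⁆ + ⁅v, ⁅u, v⁆⁆ := by
  unfold jacobson
  show (∑ t : Fin 2 → Bool, _) = _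
  rw [← (finTwoArrowEquiv Bool).symm.sum_comp]
  rw [Fintype.sum_prod_type]
  simp only [Fintype.sum_bool]
  simp [pair, finTwoArrowEquiv]
  have h1 : Fintype.card { i // ![true, false] i = false } = 1 := by decide
  have h2 : Fintype.card { i // ![false, false] i = false } = 2 := by decide
  have h3 : ((2 : ZMod 3))⁻¹ = 2 := ZMod.inv_eq_of_mul_eq_one 3 2 2 (by decide)
  rw [h1, h2]
  simp only [Nat.cast_one, inv_one, ZMod.cast_one', one_smul, Nat.cast_ofNat, h3]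
  rw [add_comm]
  congr 2


/-! ### p = 3 -/

/-- the explicit `3`-map -/
noncomputable def phi3 (bs : Module.Basis (Fin 3) R L) (ε a b c d e h i : R) (v : L) : L :=
  vec bs
    (ε * ((-c * bs.repr v 1 * bs.repr v 1 + 2 * b * bs.repr v 1 * bs.repr v 2
        + e * bs.repr v 2 * bs.repr v 2) * bs.repr v 0
      + ((i - a) * bs.repr v 1 * bs.repr v 1 * bs.repr v 2
        + (d + h) * bs.repr v 1 * bs.repr v 2 * bs.repr v 2)))
    (ε * (-c * bs.repr v 1 * bs.repr v 1 + 2 * b * bs.repr v 1 * bs.repr v 2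
        + e * bs.repr v 2 * bs.repr v 2) * bs.repr v 1)
    (ε * (-c * bs.repr v 1 * bs.repr v 1 + 2 * b * bs.repr v 1 * bs.repr v 2
        + e * bs.repr v 2 * bs.repr v 2) * bs.repr v 2)

lemma phi3_vec (X Y Z : R) : phi3 bs ε a b c d e h i (vec bs X Y Z) = vec bs
    (ε * ((-c * Y * Y + 2 * b * Y * Z + e * Z * Z) * X + ((i - a) * Y * Y * Z + (d + h) * Y * Z * Z)))
    (ε * (-c * Y * Y + 2 * b * Y * Z + e * Z * Z) * Y)
    (ε * (-c * Y * Y + 2 * b * Y * Z + e * Z * Z) * Z) := by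
  obtain ⟨h0, h1, h2⟩ := repr_vec bs X Y Z
  rw [phi3, h0, h1, h2]

theorem Str.pmap_three [CharP R 3] (S : Str bs ε a b c d e (-b) g h i) :
    Nonempty (PMap R 3 L) := by
  have hε := S.hε
  have h3 : (3 : R) = 0 := by
    have := CharP.cast_eq_zero R 3
    exact_mod_cast this
  refine ⟨{ toFun := phi3 bs ε a b c d e h i, map_smul := ?_, ad_map := ?_, map_add := ?_ }⟩
  · intro r v
    obtain ⟨X, Y, Z, rfl⟩ := exists_vec bs v
    rw [vec_smul, phi3_vec, phi3_vec, vec_smul]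
    refine vec_congr ?_ ?_ ?_ <;> ring
  · intro v
    obtain ⟨X, Y, Z, rfl⟩ := exists_vec bs v
    ext w
    obtain ⟨X', Y', Z', rfl⟩ := exists_vec bs w
    rw [show (3:ℕ) = 1 + 1 + 1 from rfl, pow_add, pow_add, pow_one]
    simp only [Module.End.mul_apply, LieAlgebra.ad_apply, phi3_vec, S.lie_vec]
    refine vec_congr ?_ ?_ ?_
    · linear_combination (-2 * X * X' * Y * Z * a * b * h * ε - 2 * X * X' * Y * Z * a^2 * e * ε - 2 * X * X' * Y * Z * b * d * i * ε - 2 * X * X' * Y * Z * c * d^2 * ε - 2 * X * X' * Y^2 * a * c * d * ε + X * X' * Y^2 * a * c * h * ε - 2 * X * X' * Y^2 * a^2 * b * ε + X * X' * Y^2 * c * d * i * ε - 2 * X * X' * Z^2 * a * d * e * ε - X * X' * Z^2 * a * e * h * ε + 2 * X * X' * Z^2 * b * d^2 * ε - X * X' * Z^2 * d * e * i * ε - 2 * X * Y * Y' * Z * a * b - 4 * X * Y * Y' * Z * a * b * g * ε - X * Y * Y' * Z * a * d * i * ε + X * Y * Y' * Z *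 a * h * i * ε - 2 * X * Y * Y' * Z * a^2 * d * ε - X * Y * Y' * Z * a^2 * h * ε + 2 * X * Y * Y' * Z * c * g * h * ε + 2 * X * Y * Y' * Z * c * h + X * Y * Y' * Z * d * i^2 * ε + X * Y * Z * Z' * a * d * h * ε - 2 * X * Y * Z * Z' * a * d^2 * ε + X * Y * Z * Z' * a * h^2 * ε - 2 * X * Y * Z * Z' * b * d - 4 * X * Y * Z * Z' * b * d * g * ε + X * Y * Z * Z' * d * h * i * ε + X * Y * Z * Z' * d^2 * i * ε + 2 * X * Y * Z * Z' * e * g * i * ε + 2 * X * Y * Z * Z' * e * i + X * Y^2 * Y' * a * c + 2 * X * Y^2 * Y' * a * c * g * ε - X * Y^2 * Y' * a^3 * ε - X * Y^2 * Y' * c * g * i * ε - X * Y^2 * Y' * c * i + X * Y^2 * Z' * a * d * i * ε - X * Y^2 * Z' * a * h * i * ε - X * Y^2 * Z' * a^2 * d * ε + X * Y^2 * Z' * a^2 * h * ε + 2 * X * Y^2 * Z' * b * g * i * ε + 2 * X * Y^2 * Z' * b * i + X * Y^2 * Z' * c * d + 2 * X * Y^2 * Z' * c * d * g * ε - X * Y^2 * Z' * c * g * h *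 ε - X * Y^2 * Z' * c * h - X * Y^2 * Z' * d * i^2 * ε - X * Y' * Z^2 * a * d * h * ε - X * Y' * Z^2 * a * d^2 * ε - X * Y' * Z^2 * a * e - 2 * X * Y' * Z^2 * a * e * g * ε - X * Y' * Z^2 * a * h^2 * ε - 2 * X * Y' * Z^2 * b * g * h * ε - 2 * X * Y' * Z^2 * b * h - X * Y' * Z^2 * d * h * i * ε - X * Y' * Z^2 * d^2 * i * ε - X * Y' * Z^2 * e * g * i * ε - X * Y' * Z^2 * e * i - X * Z^2 * Z' * d * e - 2 * X * Z^2 * Z' * d * e * g * ε - X * Z^2 * Z' * d^3 * ε - X * Z^2 * Z' * e * g * h * ε - X * Z^2 * Z' * e * h + X^2 * X' * Y * a * b^2 * ε + X^2 * X' * Y * a * c * e * ε + X^2 * X' * Z * b^2 * d * ε + X^2 * X' * Z * c * d * e * ε + 2 * X^2 * Y * Y' * a * c * d * ε - X^2 * Y * Y' * a * c * h * ε + 2 * X^2 * Y * Y' * a^2 * b * ε - X^2 * Y * Y' * c * d * i * ε - X^2 * Y * Z' * a * e * i * ε + X^2 * Y * Z' * a^2 * e * ε + 2 * X^2 * Y * Z' * b * d * i * ε - X^2 * Y * Z' * b^2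 - X^2 * Y * Z' * b^2 * g * ε - X^2 * Y * Z' * c * d * h * ε + X^2 * Y * Z' * c * d^2 * ε - X^2 * Y * Z' * c * e - X^2 * Y * Z' * c * e * g * ε + 2 * X^2 * Y' * Z * a * b * h * ε + X^2 * Y' * Z * a * e * i * ε + X^2 * Y' * Z * a^2 * e * ε + X^2 * Y' * Z * b^2 + X^2 * Y' * Z * b^2 * g * ε + X^2 * Y' * Z * c * d * h * ε + X^2 * Y' * Z * c * d^2 * ε + X^2 * Y' * Z * c * e + X^2 * Y' * Z * c * e * g * ε + 2 * X^2 * Z * Z' * a * d * e * ε + X^2 * Z * Z' * a * e * h * ε - 2 * X^2 * Z * Z' * b * d^2 * ε + X^2 * Z * Z' * d * e * i * ε - X^3 * Y' * a * b^2 * ε - X^3 * Y' * a * c * e * ε - X^3 * Z' * b^2 * d * ε - X^3 * Z' * c * d * e * ε + 3 * X' * Y * Z^2 * a * d^2 * ε + X' * Y * Z^2 * a * e + 2 * X' * Y * Z^2 * a * e * g * ε + 2 * X' * Y * Z^2 * b * d + 4 * X' * Y * Z^2 * b * d * g * ε + 2 * X' * Y * Z^2 * b * g * h * ε + 2 * X' * Y * Z^2 * b * h - X' * Y * Z^2 * e * g * i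 * ε - X' * Y * Z^2 * e * i + 2 * X' * Y^2 * Z * a * b + 4 * X' * Y^2 * Z * a * b * g * ε + 3 * X' * Y^2 * Z * a^2 * d * ε - 2 * X' * Y^2 * Z * b * g * i * ε - 2 * X' * Y^2 * Z * b * i - X' * Y^2 * Z * c * d - 2 * X' * Y^2 * Z * c * d * g * ε - X' * Y^2 * Z * c * g * h * ε - X' * Y^2 * Z * c * h - X' * Y^3 * a * c - 2 * X' * Y^3 * a * c * g * ε + X' * Y^3 * a^3 * ε + X' * Y^3 * c * g * i * ε + X' * Y^3 * c * i + X' * Z^3 * d * e + 2 * X' * Z^3 * d * e * g * ε + X' * Z^3 * d^3 * ε + X' * Z^3 * e * g * h * ε + X' * Z^3 * e * h + 3 * Y * Y' * Z^2 * a * d + 2 * Y * Y' * Z^2 * a * d * g * ε + Y * Y' * Z^2 * a * g * h * ε + 2 * Y * Y' * Z^2 * a * h + 2 * Y * Y' * Z^2 * b * g + 2 * Y * Y' * Z^2 * b * g^2 * ε - Y * Y' * Z^2 * d * g * i * ε - Y * Y' * Z^2 * d * i - 2 * Y * Y' * Z^2 * g * h * i * ε - 2 * Y * Y' * Z^2 * h * i - Y * Z^2 * Z' * d * g * h * ε - Y * Z^2 * Z' * d^2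 * g * ε - Y * Z^2 * Z' * e * g - Y * Z^2 * Z' * e * g^2 * ε - Y * Z^2 * Z' * g * h^2 * ε - Y * Z^2 * Z' * h^2 - Y^2 * Y' * Z * a * g * i * ε + Y^2 * Y' * Z * a^2 * g * ε - Y^2 * Y' * Z * c * g - Y^2 * Y' * Z * c * g^2 * ε + Y^2 * Y' * Z * g * i^2 * ε + Y^2 * Y' * Z * i^2 - 3 * Y^2 * Z * Z' * a * d - 2 * Y^2 * Z * Z' * a * d * g * ε - Y^2 * Z * Z' * a * g * h * ε - Y^2 * Z * Z' * a * h - 2 * Y^2 * Z * Z' * b * g - 2 * Y^2 * Z * Z' * b * g^2 * ε + Y^2 * Z * Z' * d * g * i * ε + 2 * Y^2 * Z * Z' * d * i + 2 * Y^2 * Z * Z' * g * h * i * ε + 2 * Y^2 * Z * Z' * h * i + Y^3 * Z' * a * g * i * ε + Y^3 * Z' * a * i - Y^3 * Z' * a^2 - Y^3 * Z' * a^2 * g * ε + Y^3 * Z' * c * g + Y^3 * Z' * c * g^2 * ε - Y^3 * Z' * g * i^2 * ε - Y^3 * Z' * i^2 + Y' * Z^3 * d * g * h * ε + Y' * Z^3 * d * h + Y' * Z^3 * d^2 + Y' * Z^3 * d^2 * g * ε + Y' * Z^3 * e * g + Y' * Z^3 * e * g^2 * ε + Y'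 * Z^3 * g * h^2 * ε + Y' * Z^3 * h^2) * hε + (0) * h3
    · linear_combination (-2 * X * X' * Y * Z * a * b * e * ε - 2 * X * X' * Y * Z * b * e * i * ε - 2 * X * X' * Y * Z * b^2 * h * ε - 2 * X * X' * Y * Z * c * d * e * ε - 2 * X * X' * Y^2 * a * b^2 * ε - X * X' * Y^2 * a * c * e * ε - X * X' * Y^2 * b * c * d * ε + X * X' * Y^2 * b * c * h * ε + X * X' * Y^2 * c * e * i * ε - X * X' * Z^2 * a * e^2 * ε + X * X' * Z^2 * b * d * e * ε - X * X' * Z^2 * b * e * h * ε - X * X' * Z^2 * e^2 * i * ε - X * Y * Y' * Z * a * b * d * ε - 3 * X * Y * Y' * Z * a * b * h * ε - X * Y * Y' * Z * a^2 * e * ε - X * Y * Y' * Z * b * d * i * ε + X * Y * Y' * Z * b * h * i * ε - 2 * X * Y * Y' * Z * b^2 * g * ε + 2 * X * Y * Y' * Z * c * h^2 * ε + X * Y * Y' * Z * e * i^2 * ε - X * Y * Z * Z' * a * d * e * ε + X * Y * Z * Z' * a * e * h * ε - 2 * X * Y * Z * Z' * b * d * h * ε - X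 * Y * Z * Z' * b * d^2 * ε - 2 * X * Y * Z * Z' * b * e * g * ε + X * Y * Z * Z' * b * h^2 * ε + X * Y * Z * Z' * d * e * i * ε + 3 * X * Y * Z * Z' * e * h * i * ε + X * Y^2 * Y' * a * c * h * ε - X * Y^2 * Y' * a^2 * b * ε + X * Y^2 * Y' * b * c * g * ε - X * Y^2 * Y' * c * h * i * ε - X * Y^2 * Z' * a * b * d * ε + X * Y^2 * Z' * a * b * h * ε + X * Y^2 * Z' * b * d * i * ε + X * Y^2 * Z' * b * h * i * ε + X * Y^2 * Z' * c * d * h * ε + X * Y^2 * Z' * c * e * g * ε - X * Y^2 * Z' * c * h^2 * ε - X * Y^2 * Z' * e * i^2 * ε - X * Y' * Z^2 * a * d * e * ε - 2 * X * Y' * Z^2 * a * e * h * ε - X * Y' * Z^2 * b * e * g * ε - 3 * X * Y' * Z^2 * b * h^2 * ε - X * Y' * Z^2 * d * e * i * ε - 2 * X * Y' * Z^2 * e * h * i * ε - X * Z^2 * Z' * d * e * h * ε - X * Z^2 * Z' * d^2 * e * ε - X * Z^2 * Z' * e * h^2 * ε - X * Z^2 * Z' * e^2 * g * ε + X^2 * X' * Y * b * c * e * ε +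 X^2 * X' * Y * b^3 * ε + X^2 * X' * Z * b^2 * e * ε + X^2 * X' * Z * c * e^2 * ε + 2 * X^2 * Y * Y' * a * b^2 * ε + X^2 * Y * Y' * a * c * e * ε + X^2 * Y * Y' * b * c * d * ε - X^2 * Y * Y' * b * c * h * ε - X^2 * Y * Y' * c * e * i * ε + X^2 * Y * Z' * a * b * e * ε + X^2 * Y * Z' * b * e * i * ε - X^2 * Y * Z' * b^2 * h * ε + X^2 * Y * Z' * c * d * e * ε - 2 * X^2 * Y * Z' * c * e * h * ε + X^2 * Y' * Z * a * b * e * ε + X^2 * Y' * Z * b * e * i * ε + 3 * X^2 * Y' * Z * b^2 * h * ε + X^2 * Y' * Z * c * d * e * ε + 2 * X^2 * Y' * Z * c * e * h * ε + X^2 * Z * Z' * a * e^2 * ε - X^2 * Z * Z' * b * d * e * ε + X^2 * Z * Z' * b * e * h * ε + X^2 * Z * Z' * e^2 * i * ε - X^3 * Y' * b * c * e * ε - X^3 * Y' * b^3 * ε - X^3 * Z' * b^2 * e * ε - X^3 * Z' * c * e^2 * ε + 2 * X' * Y * Z^2 * a * d * e * ε + X' * Y * Z^2 * a * e * h * ε + 2 * X' * Y * Z^2 * b * d * h * ε +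 X' * Y * Z^2 * b * d^2 * ε + 3 * X' * Y * Z^2 * b * e * g * ε + 2 * X' * Y * Z^2 * b * h^2 * ε - X' * Y * Z^2 * e * h * i * ε + 2 * X' * Y^2 * Z * a * b * d * ε + 2 * X' * Y^2 * Z * a * b * h * ε + X' * Y^2 * Z * a^2 * e * ε - 2 * X' * Y^2 * Z * b * h * i * ε + 2 * X' * Y^2 * Z * b^2 * g * ε - X' * Y^2 * Z * c * d * h * ε - X' * Y^2 * Z * c * e * g * ε - X' * Y^2 * Z * c * h^2 * ε - X' * Y^3 * a * c * h * ε + X' * Y^3 * a^2 * b * ε - X' * Y^3 * b * c * g * ε + X' * Y^3 * c * h * i * ε + X' * Z^3 * d * e * h * ε + X' * Z^3 * d^2 * e * ε + X' * Z^3 * e * h^2 * ε + X' * Z^3 * e^2 * g * ε + Y * Y' * Z^2 * a * e + Y * Y' * Z^2 * a * e * g * ε + 2 * Y * Y' * Z^2 * b * d + Y * Y' * Z^2 * b * d * g * ε + 3 * Y * Y' * Z^2 * b * g * h * ε + 2 * Y * Y' * Z^2 * b * h - Y * Y' * Z^2 * e * g * i * ε - Y * Y' * Z^2 * e * i - 2 * Y * Y' * Z^2 * h^2 * i * ε - Y * Z^2 * Z' * d * e *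 g * ε - 2 * Y * Z^2 * Z' * e * g * h * ε - Y * Z^2 * Z' * h^3 * ε + Y^2 * Y' * Z * a * b * g * ε - Y^2 * Y' * Z * b * g * i * ε - Y^2 * Y' * Z * c * g * h * ε + Y^2 * Y' * Z * h * i^2 * ε - 2 * Y^2 * Z * Z' * a * e - Y^2 * Z * Z' * a * e * g * ε - Y^2 * Z * Z' * b * d - Y^2 * Z * Z' * b * d * g * ε - 3 * Y^2 * Z * Z' * b * g * h * ε - Y^2 * Z * Z' * b * h + Y^2 * Z * Z' * e * g * i * ε + 2 * Y^2 * Z * Z' * e * i + 2 * Y^2 * Z * Z' * h^2 * i * ε - Y^3 * Z' * a * b - Y^3 * Z' * a * b * g * ε + Y^3 * Z' * b * g * i * ε + Y^3 * Z' * b * i + Y^3 * Z' * c * g * h * ε - Y^3 * Z' * h * i^2 * ε + Y' * Z^3 * d * e + Y' * Z^3 * d * e * g * ε + 2 * Y' * Z^3 * e * g * h * ε + Y' * Z^3 * e * h + Y' * Z^3 * h^3 * ε) * hε + (0) * h3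
    · linear_combination (-2 * X * X' * Y * Z * a * c * e * ε + 2 * X * X' * Y * Z * b * c * d * ε - 2 * X * X' * Y * Z * b * c * h * ε + 2 * X * X' * Y * Z * b^2 * i * ε - X * X' * Y^2 * a * b * c * ε - X * X' * Y^2 * b * c * i * ε - X * X' * Y^2 * c^2 * d * ε + X * X' * Y^2 * c^2 * h * ε + X * X' * Z^2 * a * b * e * ε + X * X' * Z^2 * b * e * i * ε - 2 * X * X' * Z^2 * b^2 * d * ε - X * X' * Z^2 * c * d * e * ε - X * X' * Z^2 * c * e * h * ε - 2 * X * Y * Y' * Z * a * b * i * ε - X * Y * Y' * Z * a * c * d * ε - X * Y * Y' * Z * a * c * h * ε + X * Y * Y' * Z * a^2 * b * ε - 2 * X * Y * Y' * Z * b * c * g * ε - X * Y * Y' * Z * b * i^2 * ε - X * Y * Y' * Z * c * d * i * ε + 3 * X * Y * Y' * Z * c * h * i * ε + X * Y * Z * Z' * a * b * d * ε - X * Y * Z * Z' * a * b * h * ε - 3 * X * Y * Z * Z' * b * d * i * ε - X * Y * Z * Z' * b * h * i * ε + 2 * X * Y * Z * Z'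 * b^2 * g * ε - X * Y * Z * Z' * c * d^2 * ε + X * Y * Z * Z' * c * h^2 * ε + 2 * X * Y * Z * Z' * e * i^2 * ε + X * Y^2 * Y' * a * c * i * ε - X * Y^2 * Y' * a^2 * c * ε - X * Y^2 * Y' * c * i^2 * ε + X * Y^2 * Y' * c^2 * g * ε - X * Y^2 * Z' * a * c * d * ε + X * Y^2 * Z' * a * c * h * ε - X * Y^2 * Z' * b * c * g * ε + 3 * X * Y^2 * Z' * b * i^2 * ε + 2 * X * Y^2 * Z' * c * d * i * ε - 2 * X * Y^2 * Z' * c * h * i * ε + X * Y' * Z^2 * a * b * d * ε + X * Y' * Z^2 * a * b * h * ε - X * Y' * Z^2 * a * e * i * ε + X * Y' * Z^2 * b * d * i * ε - X * Y' * Z^2 * b * h * i * ε - X * Y' * Z^2 * c * e * g * ε - X * Y' * Z^2 * c * h^2 * ε - X * Y' * Z^2 * e * i^2 * ε + X * Z^2 * Z' * b * d^2 * ε + X * Z^2 * Z' * b * e * g * ε - X * Z^2 * Z' * d * e * i * ε - X * Z^2 * Z' * e * h * i * ε + X^2 * X' * Y * b^2 * c * ε + X^2 * X' * Y * c^2 * e * ε - X^2 * X' * Z * b * c * e *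 ε - X^2 * X' * Z * b^3 * ε + X^2 * Y * Y' * a * b * c * ε + X^2 * Y * Y' * b * c * i * ε + X^2 * Y * Y' * c^2 * d * ε - X^2 * Y * Y' * c^2 * h * ε + X^2 * Y * Z' * a * c * e * ε - X^2 * Y * Z' * b * c * d * ε + X^2 * Y * Z' * b * c * h * ε - 3 * X^2 * Y * Z' * b^2 * i * ε - 2 * X^2 * Y * Z' * c * e * i * ε + X^2 * Y' * Z * a * c * e * ε - X^2 * Y' * Z * b * c * d * ε + X^2 * Y' * Z * b * c * h * ε + X^2 * Y' * Z * b^2 * i * ε + 2 * X^2 * Y' * Z * c * e * i * ε - X^2 * Z * Z' * a * b * e * ε - X^2 * Z * Z' * b * e * i * ε + 2 * X^2 * Z * Z' * b^2 * d * ε + X^2 * Z * Z' * c * d * e * ε + X^2 * Z * Z' * c * e * h * ε - X^3 * Y' * b^2 * c * ε - X^3 * Y' * c^2 * e * ε + X^3 * Z' * b * c * e * ε + X^3 * Z' * b^3 * ε - 2 * X' * Y * Z^2 * a * b * d * ε + X' * Y * Z^2 * a * e * i * ε + 2 * X' * Y * Z^2 * b * d * i * ε + 2 * X' * Y * Z^2 * b * h * i * ε - 2 * X' * Y * Z^2 *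 b^2 * g * ε + X' * Y * Z^2 * c * d^2 * ε + X' * Y * Z^2 * c * e * g * ε - X' * Y * Z^2 * e * i^2 * ε + 2 * X' * Y^2 * Z * a * b * i * ε + 2 * X' * Y^2 * Z * a * c * d * ε - X' * Y^2 * Z * a^2 * b * ε + 3 * X' * Y^2 * Z * b * c * g * ε - 2 * X' * Y^2 * Z * b * i^2 * ε - X' * Y^2 * Z * c * d * i * ε - X' * Y^2 * Z * c * h * i * ε - X' * Y^3 * a * c * i * ε + X' * Y^3 * a^2 * c * ε + X' * Y^3 * c * i^2 * ε - X' * Y^3 * c^2 * g * ε - X' * Z^3 * b * d^2 * ε - X' * Z^3 * b * e * g * ε + X' * Z^3 * d * e * i * ε + X' * Z^3 * e * h * i * ε - Y * Y' * Z^2 * a * b - Y * Y' * Z^2 * a * b * g * ε + 3 * Y * Y' * Z^2 * b * g * i * ε + Y * Y' * Z^2 * b * i + 2 * Y * Y' * Z^2 * c * d + Y * Y' * Z^2 * c * d * g * ε + Y * Y' * Z^2 * c * g * h * ε + 2 * Y * Y' * Z^2 * c * h - 2 * Y * Y' * Z^2 * h * i^2 * ε + Y * Z^2 * Z' * b * d * g * ε + Y * Z^2 * Z' * b * g * h * ε - Y * Z^2 * Z' *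 e * g * i * ε - Y * Z^2 * Z' * h^2 * i * ε + Y^2 * Y' * Z * a * c * g * ε - 2 * Y^2 * Y' * Z * c * g * i * ε + Y^2 * Y' * Z * i^3 * ε + 2 * Y^2 * Z * Z' * a * b + Y^2 * Z * Z' * a * b * g * ε - 3 * Y^2 * Z * Z' * b * g * i * ε - 2 * Y^2 * Z * Z' * b * i - Y^2 * Z * Z' * c * d - Y^2 * Z * Z' * c * d * g * ε - Y^2 * Z * Z' * c * g * h * ε - Y^2 * Z * Z' * c * h + 2 * Y^2 * Z * Z' * h * i^2 * ε - Y^3 * Z' * a * c - Y^3 * Z' * a * c * g * ε + 2 * Y^3 * Z' * c * g * i * ε + Y^3 * Z' * c * i - Y^3 * Z' * i^3 * ε - Y' * Z^3 * b * d - Y' * Z^3 * b * d * g * ε - Y' * Z^3 * b * g * h * ε - Y' * Z^3 * b * h + Y' * Z^3 * e * g * i * ε + Y' * Z^3 * h^2 * i * ε) * hε + (0) * h3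
  · intro u v
    obtain ⟨U0, U1, U2, rfl⟩ := exists_vec bs u
    obtain ⟨V0, V1, V2, rfl⟩ := exists_vec bs v
    rw [jacobson_three, vec_add, phi3_vec, phi3_vec, phi3_vec]
    simp only [S.lie_vec, vec_smul, vec_add, vec_sub]
    refine vec_congr ?_ ?_ ?_
    · linear_combination (-2 * U0 * U1 * V0 * a * b - 2 * U0 * U1 * V0 * c * d - 2 * U0 * U1 * V1 * a^2 + 2 * U0 * U1 * V1 * c * g - 2 * U0 * U1 * V2 * a * d + 2 * U0 * U1 * V2 * a * h - 2 * U0 * U1 * V2 * b * g + 2 * U0 * U1 * V2 * d * i - 2 * U0 * U2 * V0 * a * e + 2 * U0 * U2 * V0 * b * d - 2 * U0 * U2 * V1 * a * d - 2 * U0 * U2 * V1 * a * h - 2 * U0 * U2 * V1 * b * g - 2 * U0 * U2 * V1 * d * i - 2 * U0 * U2 * V2 * d^2 - 2 * U0 * U2 * V2 * e * g + U0 * V0 * V1 * a * b + U0 * V0 * V1 * c * d + U0 * V0 * V2 * a * e - U0 * V0 * V2 * b * d - 2 * U0 * V1 * V2 * a * d - 2 * U0 * V1 * V2 * b * g - U0 * V1^2 * a^2 + U0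 * V1^2 * c * g - U0 * V2^2 * d^2 - U0 * V2^2 * e * g + 2 * U0^2 * V1 * a * b + 2 * U0^2 * V1 * c * d + 2 * U0^2 * V2 * a * e - 2 * U0^2 * V2 * b * d + 4 * U1 * U2 * V0 * a * d + 4 * U1 * U2 * V0 * b * g + 2 * U1 * U2 * V1 * a * g - 2 * U1 * U2 * V1 * g * i - 2 * U1 * U2 * V2 * d * g - 2 * U1 * U2 * V2 * g * h + U1 * V0 * V1 * a^2 - U1 * V0 * V1 * c * g + U1 * V0 * V2 * a * d + U1 * V0 * V2 * a * h + U1 * V0 * V2 * b * g + U1 * V0 * V2 * d * i - U1 * V0^2 * a * b - U1 * V0^2 * c * d - U1 * V1 * V2 * a * g + U1 * V1 * V2 * g * i - U1 * V2^2 * d * g - U1 * V2^2 * g * h + 2 * U1^2 * V0 * a^2 - 2 * U1^2 * V0 * c * g - 2 * U1^2 * V2 * a * g + 2 * U1^2 * V2 * g * i + U2 * V0 * V1 * a * d - U2 * V0 * V1 * a * h + U2 * V0 * V1 * b * g - U2 * V0 * V1 * d * i + U2 * V0 * V2 * d^2 + U2 * V0 * V2 * e * g - U2 * V0^2 * a * e + U2 * V0^2 * b * d + U2 * V1 * V2 * d * g + U2 * V1 *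 V2 * g * h + U2 * V1^2 * a * g - U2 * V1^2 * g * i + 2 * U2^2 * V0 * d^2 + 2 * U2^2 * V0 * e * g + 2 * U2^2 * V1 * d * g + 2 * U2^2 * V1 * g * h) * hε + (2 * U1 * U2 * V0 * b * ε - U1 * V0 * V1 * c * ε + U1 * V0 * V2 * b * ε - U1 * V1 * V2 * a * ε + U1 * V1 * V2 * i * ε - U1^2 * V0 * c * ε - U1^2 * V2 * a * ε + U1^2 * V2 * i * ε + U2 * V0 * V1 * b * ε + U2 * V0 * V2 * e * ε + U2 * V1 * V2 * d * ε + U2 * V1 * V2 * h * ε + U2^2 * V0 * e * ε + U2^2 * V1 * d * ε + U2^2 * V1 * h * ε) * h3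
    · linear_combination (-2 * U0 * U1 * V0 * b^2 - 2 * U0 * U1 * V0 * c * e - 2 * U0 * U1 * V1 * a * b + 2 * U0 * U1 * V1 * c * h - 2 * U0 * U1 * V2 * b * d + 2 * U0 * U1 * V2 * e * i - 2 * U0 * U2 * V1 * a * e - 4 * U0 * U2 * V1 * b * h - 2 * U0 * U2 * V1 * e * i - 2 * U0 * U2 * V2 * d * e - 2 * U0 * U2 * V2 * e * h + U0 * V0 * V1 * b^2 + U0 * V0 * V1 * c * e - U0 * V1 * V2 * a * e - U0 * V1 * V2 * b * d - 2 * U0 * V1 * V2 * b * h - U0 * V1^2 * a * b + U0 * V1^2 * c * h - U0 * V2^2 * d * e - U0 * V2^2 * e * h + 2 * U0^2 * V1 * b^2 + 2 * U0^2 * V1 * c * e + 2 * U1 * U2 * V0 * a * e + 2 * U1 * U2 * V0 * b * d + 4 * U1 * U2 * V0 * b * h + 2 * U1 * U2 * V1 * b * g - 2 * U1 * U2 * V1 * h * i - 2 * U1 * U2 * V2 * e * g - 2 * U1 * U2 * V2 * h^2 + U1 * V0 * V1 * a * b - U1 * V0 * V1 * c * h + U1 * V0 * V2 * a * e + 2 * U1 * V0 * V2 * b * h + U1 * V0 * V2 * e * i - U1 * V0^2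 * b^2 - U1 * V0^2 * c * e - U1 * V1 * V2 * b * g + U1 * V1 * V2 * h * i - U1 * V2^2 * e * g - U1 * V2^2 * h^2 + 2 * U1^2 * V0 * a * b - 2 * U1^2 * V0 * c * h - 2 * U1^2 * V2 * b * g + 2 * U1^2 * V2 * h * i + U2 * V0 * V1 * b * d - U2 * V0 * V1 * e * i + U2 * V0 * V2 * d * e + U2 * V0 * V2 * e * h + U2 * V1 * V2 * e * g + U2 * V1 * V2 * h^2 + U2 * V1^2 * b * g - U2 * V1^2 * h * i + 2 * U2^2 * V0 * d * e + 2 * U2^2 * V0 * e * h + 2 * U2^2 * V1 * e * g + 2 * U2^2 * V1 * h^2) * hε + (2 * U1 * U2 * V1 * b * ε + U1 * V1 * V2 * b * ε - U1 * V1^2 * c * ε - U1^2 * V1 * c * ε + U2 * V1 * V2 * e * ε + U2 * V1^2 * b * ε + U2^2 * V1 * e * ε) * h3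
    · linear_combination (-2 * U0 * U1 * V1 * a * c + 2 * U0 * U1 * V1 * c * i - 4 * U0 * U1 * V2 * b * i - 2 * U0 * U1 * V2 * c * d + 2 * U0 * U1 * V2 * c * h - 2 * U0 * U2 * V0 * b^2 - 2 * U0 * U2 * V0 * c * e + 2 * U0 * U2 * V1 * a * b - 2 * U0 * U2 * V1 * c * h + 2 * U0 * U2 * V2 * b * d - 2 * U0 * U2 * V2 * e * i + U0 * V0 * V2 * b^2 + U0 * V0 * V2 * c * e + U0 * V1 * V2 * a * b - 2 * U0 * V1 * V2 * b * i - U0 * V1 * V2 * c * d - U0 * V1^2 * a * c + U0 * V1^2 * c * i + U0 * V2^2 * b * d - U0 * V2^2 * e * i + 2 * U0^2 * V2 * b^2 + 2 * U0^2 * V2 * c * e - 2 * U1 * U2 * V0 * a * b + 4 * U1 * U2 * V0 * b * i + 2 * U1 * U2 * V0 * c * d + 2 * U1 * U2 * V1 * c * g - 2 * U1 * U2 * V1 * i^2 + 2 * U1 * U2 * V2 * b * g - 2 * U1 * U2 * V2 * h * i + U1 * V0 * V1 * a * c - U1 * V0 * V1 * c * i - U1 * V0 * V2 * a * b + U1 * V0 * V2 * c * h - U1 * V1 * V2 * c * g + U1 * V1 *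 V2 * i^2 + U1 * V2^2 * b * g - U1 * V2^2 * h * i + 2 * U1^2 * V0 * a * c - 2 * U1^2 * V0 * c * i - 2 * U1^2 * V2 * c * g + 2 * U1^2 * V2 * i^2 + 2 * U2 * V0 * V1 * b * i + U2 * V0 * V1 * c * d - U2 * V0 * V1 * c * h - U2 * V0 * V2 * b * d + U2 * V0 * V2 * e * i - U2 * V0^2 * b^2 - U2 * V0^2 * c * e - U2 * V1 * V2 * b * g + U2 * V1 * V2 * h * i + U2 * V1^2 * c * g - U2 * V1^2 * i^2 - 2 * U2^2 * V0 * b * d + 2 * U2^2 * V0 * e * i - 2 * U2^2 * V1 * b * g + 2 * U2^2 * V1 * h * i) * hε + (2 * U1 * U2 * V2 * b * ε - U1 * V1 * V2 * c * ε + U1 * V2^2 * b * ε - U1^2 * V2 * c * ε + U2 * V1 * V2 * b * ε + U2 * V2^2 * e * ε + U2^2 * V2 * e * ε) * h3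

/-! ### p = 2 -/

/-- the explicit `2`-map -/
noncomputable def phi2 (bs : Module.Basis (Fin 3) R L) (ε a d g h i : R) (v : L) : L :=
  vec bs
    (bs.repr v 0 * bs.repr v 1 * (a * ε) + bs.repr v 0 * bs.repr v 2 * (d * ε)
      + bs.repr v 1 * bs.repr v 2 * (1 + g * ε))
    (bs.repr v 1 * bs.repr v 1 * (ε * (i - a)) + bs.repr v 1 * bs.repr v 2 * (h * ε))
    (-bs.repr v 2 * bs.repr v 2 * (ε * (d + h)) + bs.repr v 1 * bs.repr v 2 * (i * ε))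

lemma phi2_vec (X Y Z : R) : phi2 bs ε a d g h i (vec bs X Y Z) = vec bs
    (X * Y * (a * ε) + X * Z * (d * ε) + Y * Z * (1 + g * ε))
    (Y * Y * (ε * (i - a)) + Y * Z * (h * ε))
    (-Z * Z * (ε * (d + h)) + Y * Z * (i * ε)) := by
  obtain ⟨h0, h1, h2⟩ := repr_vec bs X Y Z
  rw [phi2, h0, h1, h2]

theorem Str.pmap_two [CharP R 2] (S : Str bs ε a 0 0 d 0 0 g h i) :
    Nonempty (PMap R 2 L) := by
  have hε := S.hε
  have h2 : (2 : R) = 0 := by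
    have := CharP.cast_eq_zero R 2
    exact_mod_cast this
  refine ⟨{ toFun := phi2 bs ε a d g h i, map_smul := ?_, ad_map := ?_, map_add := ?_ }⟩
  · intro r v
    obtain ⟨X, Y, Z, rfl⟩ := exists_vec bs v
    rw [vec_smul, phi2_vec, phi2_vec, vec_smul]
    refine vec_congr ?_ ?_ ?_ <;> ring
  · intro v
    obtain ⟨X, Y, Z, rfl⟩ := exists_vec bs v
    ext w
    obtain ⟨X', Y', Z', rfl⟩ := exists_vec bs w
    rw [pow_two]
    simp only [Module.End.mul_apply, LieAlgebra.ad_apply, phi2_vec, S.lie_vec]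
    refine vec_congr ?_ ?_ ?_
    · linear_combination (2 * X * Y * Y' * a^2 + 2 * X * Y * Z' * a * d - X * Y * Z' * a * h - X * Y * Z' * d * i + 2 * X * Y' * Z * a * d + X * Y' * Z * a * h + X * Y' * Z * d * i + 2 * X * Z * Z' * d^2 - 2 * X' * Y * Z * a * d - X' * Y * Z * a * h - X' * Y * Z * d * i - X' * Y^2 * a * i + X' * Z^2 * d * h + 2 * Y * Z * Z' * d * g + 2 * Y * Z * Z' * g * h) * hε + (Y * Z * Z' * d * ε + Y * Z * Z' * h * ε) * h2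
    · linear_combination (2 * Y * Z * Z' * h^2 - Y^2 * Z' * a * h + Y' * Z^2 * d * h) * hε + (0) * h2
    · linear_combination (2 * Y * Z * Z' * h * i - Y^2 * Z' * a * i + Y' * Z^2 * d * i) * hε + (0) * h2
  · intro u v
    obtain ⟨U0, U1, U2, rfl⟩ := exists_vec bs u
    obtain ⟨V0, V1, V2, rfl⟩ := exists_vec bs v
    rw [jacobson_two, vec_add, phi2_vec, phi2_vec, phi2_vec]
    simp only [S.lie_vec, vec_smul, vec_add, vec_sub]
    refine vec_congr ?_ ?_ ?_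
    · linear_combination (0) * hε + (U0 * V1 * a * ε + U0 * V2 * d * ε + U1 * V2 + U1 * V2 * g * ε) * h2
    · linear_combination (0) * hε + (-U1 * V1 * a * ε + U1 * V1 * i * ε + U1 * V2 * h * ε) * h2
    · linear_combination (0) * hε + (U1 * V2 * i * ε - U2 * V2 * d * ε - U2 * V2 * h * ε) * h2

/-! ### necessity for p = 2 -/

theorem Str.necessary [CharP R 2] (S : Str bs ε a b c d e f g h i) (φ : PMap R 2 L) :
    b * ε = 0 ∧ c * ε = 0 ∧ e * ε = 0 := by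
  have hε := S.hε
  obtain ⟨α, β, γ, hy⟩ := exists_vec bs (φ.toFun (bs 1))
  obtain ⟨α', β', γ', hz⟩ := exists_vec bs (φ.toFun (bs 2))
  have Hy : ∀ w : L, ⁅φ.toFun (bs 1), w⁆ = ⁅bs 1, ⁅bs 1, w⁆⁆ := by
    intro w
    have := congrArg (fun F : Module.End R L => F w) (φ.ad_map (bs 1))
    simpa [pow_two] using this
  have Hz : ∀ w : L, ⁅φ.toFun (bs 2), w⁆ = ⁅bs 2, ⁅bs 2, w⁆⁆ := by
    intro w
    have := congrArg (fun F : Module.End R L => F w) (φ.ad_map (bs 2))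
    simpa [pow_two] using this
  rw [hy, bs1 bs] at Hy
  rw [hz, bs2 bs] at Hz
  have ey := Hy (vec bs 0 1 0)
  have ex := Hy (vec bs 1 0 0)
  have ez := Hy (vec bs 0 0 1)
  have fy := Hz (vec bs 0 1 0)
  have fx := Hz (vec bs 1 0 0)
  have fz := Hz (vec bs 0 0 1)
  simp only [S.lie_vec] at ey ex ez fy fx fz
  have hy0 := (vec_inj bs ey).1
  have hx0 := (vec_inj bs ex).1
  have hz0 := (vec_inj bs ez).1
  have hz1 := (vec_inj bs ez).2.1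
  have hy0' := (vec_inj bs fy).1
  have hx0' := (vec_inj bs fx).1
  have hz0' := (vec_inj bs fz).1
  have hc : c * ε = 0 := by
    linear_combination hx0 + (a*ε)*hz0 - (d*ε)*hy0 + (a * g * i * ε - a * g * β + a * i - a^2 * g * ε - c * g - d * g * γ)*hε
  have he : e * ε = 0 := by
    linear_combination -hx0' - (a*ε)*hz0' + (d*ε)*hy0' + (a * g * β' + d * g * h * ε + d * g * γ' + d * h + d^2 * g * ε - e * g)*hε
  have hb : b * ε = 0 := by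
    linear_combination hz1 - α*he - (h*ε)*hz0 + (a * g * h * ε + a * h - b * g + d * h * α - g * h * i * ε + g * h * β)*hε
  exact ⟨hb, hc, he⟩

lemma five_le_of_prime {p : ℕ} (hp : p.Prime) (h2 : p ≠ 2) (h3 : p ≠ 3) : 5 ≤ p := by
  by_contra hlt
  push Not at hlt
  have := hp.two_le
  interval_cases p
  · exact h2 rfl
  · exact h3 rfl
  · norm_num at hp

end

open DualNumber in
theorem main.{u, v} (K : Type u) [Field K] (p : ℕ) [Fact p.Prime] [CharP K p]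
    [CharP (DualNumber K) p] (a b c d e f g h i : K)
    (L : Type v) [LieRing L] [LieAlgebra (DualNumber K) L]
    (bs : Module.Basis (Fin 3) (DualNumber K) L)
    (hxy : ⁅bs 0, bs 1⁆ = (a • ε : DualNumber K) • bs 0 + (b • ε : DualNumber K) • bs 1
      + (c • ε : DualNumber K) • bs 2)
    (hxz : ⁅bs 0, bs 2⁆ = (d • ε : DualNumber K) • bs 0 + (e • ε : DualNumber K) • bs 1
      + (f • ε : DualNumber K) • bs 2)
    (hyz : ⁅bs 1, bs 2⁆ = (1 + g • ε : DualNumber K) • bs 0 + (h • ε : DualNumber K) • bs 1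
      + (i • ε : DualNumber K) • bs 2) :
    Nonempty (PLie.PMap (DualNumber K) p L) ↔ (p = 2 → b = 0 ∧ c = 0 ∧ e = 0) := by
  obtain ⟨A, hA⟩ : ∃ A : K →+* DualNumber K, A = algebraMap K (DualNumber K) := ⟨_, rfl⟩
  have hsm : ∀ r : K, (r • ε : DualNumber K) = A r * ε := by
    intro r; rw [hA, Algebra.smul_def]
  rw [hsm, hsm, hsm] at hxy hxz hyz
  have S : Str bs (ε : DualNumber K) (A a) (A b) (A c) (A d) (A e) (A f) (A g) (A h) (A i) :=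
    ⟨DualNumber.eps_mul_eps, hxy, hxz, hyz⟩
  have inj : ∀ r : K, A r * (ε : DualNumber K) = 0 → r = 0 := by
    intro r hr
    rw [← hsm] at hr
    have := congrArg TrivSqZeroExt.snd hr
    simpa using this
  have hf : f = -b := by
    have h1 := S.jacobi
    rw [← map_add] at h1
    have h2 := inj _ h1
    linear_combination h2
  subst hf
  rw [map_neg] at S
  constructor
  · rintro ⟨φ⟩ hp2
    subst hp2
    obtain ⟨hb, hc, he⟩ := S.necessary φ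
    exact ⟨inj _ hb, inj _ hc, inj _ he⟩
  · intro hp
    by_cases h2 : p = 2
    · subst h2
      obtain ⟨rfl, rfl, rfl⟩ := hp rfl
      simp only [map_zero, neg_zero] at S
      exact S.pmap_two
    by_cases h3 : p = 3
    · subst h3
      exact S.pmap_three
    · exact S.pmap_of_five_le p (five_le_of_prime Fact.out h2 h3)

end Groth.Agent.Helper29.PLieH3
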