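import Mathlib
import Groth.Agent.S7240
import Groth.Agent.Lib.Helper24.RFQc6
import Groth.Agent.Lib.Helper5.PCT6
import Groth.Agent.Lib.Helper29.TriR

/-!
# `Rf_*` of unbounded pseudo-coherent complexes, from a bound for bounded complexes
-/

set_option autoImplicit false
universe u
open CategoryTheory CategoryTheory.Limits AlgebraicGeometry

attribute [local instance] HasDerivedCategory.standard

namespace Groth.Agent.Helper29.PcPush

open DerivedCategory DerivedCategory.TStructure Pretriangulated Groth.Agent.Helper24.RFQc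
  Groth.Agent.Helper5.PCT

variable {X Y : Scheme.{u}}

/-- an object with vanishing cohomology in degrees `≥ m` is `m`-pseudo-coherent -/
lemma isPseudoCoherentD_of_isZero_HD (K : DCoh.D X) (m : ℤ)
    (h : ∀ i : ℤ, m ≤ i → IsZero (DCoh.HD K i)) : DCoh.IsPseudoCoherentD m K := by
  intro x
  refine pcAt_of_isZero_HD K m x ⊤ trivial (fun i hi => ?_)
  exact IsZero.of_iso
    ((Scheme.Modules.restrictFunctor (⊤ : X.Opens).ι).map_isZero (h i hi))
    (restrictHomologyIso ⊤ K i)

/-- a pseudo-coherent object on a quasi-compact scheme is bounded above -/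
lemma exists_isLE_of_pc [CompactSpace X] (K : DCoh.D X) (m : ℤ)
    (h : DCoh.IsPseudoCoherentD m K) : ∃ b : ℤ, K.IsLE b := by
  choose V N hxV hVN using fun x => exists_isZero_HD_of_pcAt K m x (h x)
  obtain ⟨s, hs⟩ := CompactSpace.elim_nhds_subcover (fun x => (V x : Set X))
    (fun x => (V x).isOpen.mem_nhds (hxV x))
  obtain ⟨b, hb⟩ := (s.image N).exists_le
  refine ⟨b, ?_⟩
  rw [isLE_iff]
  intro i hi
  apply Groth.Agent.Helper5.LOC.isZero_of_local
  intro x
  have hx : x ∈ ⋃ y ∈ s, (V y : Set X) := by rw [hs]; trivial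
  simp only [Set.mem_iUnion] at hx
  obtain ⟨y, hy, hxy⟩ := hx
  refine ⟨V y, hxy, ?_⟩
  have hNb : N y ≤ b := hb _ (Finset.mem_image_of_mem N hy)
  exact IsZero.of_iso (hVN y i (by omega)) (restrictHomologyIso (V y) K i).symm

theorem main11122 (f : X ⟶ Y) [QuasiCompact f] [QuasiSeparated f] [CompactSpace Y]
    [DCoh.HasRpush f] (k : ℤ)
    (hK : ∀ (F : DCoh.D X) (n a b : ℤ), F.IsGE a → F.IsLE b → DCoh.IsPseudoCoherentD n F →
      DCoh.IsPseudoCoherentD (n + k) ((DCoh.Rpush f).obj F))
    (F : DCoh.D X) (hF : ∀ m : ℤ, DCoh.IsPseudoCoherentD m F) (m : ℤ) :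
    DCoh.IsPseudoCoherentD m ((DCoh.Rpush f).obj F) := by
  haveI : CompactSpace X := QuasiCompact.compactSpace_of_compactSpace f
  have hq : DCoh.IsQCohD F := fun i =>
    (Groth.Agent.S7240.result (i - 1) F (hF (i - 1))).1 i (by omega)
  obtain ⟨b, hb⟩ := exists_isLE_of_pc F 0 (hF 0)
  obtain ⟨N, hN⟩ := exists_bound f
  let a : ℤ := m - |k| - N
  have ha1 : a ≤ m - k + 1 := by have := le_abs_self k; omega
  have ha2 : a - 1 + N ≤ m := by have := abs_nonneg k; omega
  have hT := t.triangleLTGE_distinguished a F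
  obtain ⟨c', hT'⟩ := Groth.Agent.Helper29.TriR.exists_distinguished
    (DCoh.pushKh f) (DCoh.Rpush f) (βf f) _ hT
  haveI hle : ((t.truncLT a).obj F).IsLE (a - 1) := t.isLE_truncLT_obj F a (a - 1) (by omega)
  have h1 : DCoh.IsPseudoCoherentD (m - k + 1) ((t.truncLT a).obj F) :=
    isPseudoCoherentD_of_isZero_HD _ _
      (fun i hi => isZero_of_isLE ((t.truncLT a).obj F) (a - 1) i (by omega))
  have h3 : DCoh.IsPseudoCoherentD (m - k) ((t.truncGE a).obj F) :=
    isPseudoCoherentD_obj₃ _ hT (m - k) h1 (hF (m - k))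
  haveI : ((t.truncGE a).obj F).IsLE b := isLE_truncGE F a b
  have h3' : DCoh.IsPseudoCoherentD m ((DCoh.Rpush f).obj ((t.truncGE a).obj F)) := by
    have := hK _ (m - k) a b inferInstance inferInstance h3
    exact isPseudoCoherentD_of_eq (by omega) this
  have h1' : DCoh.IsPseudoCoherentD m ((DCoh.Rpush f).obj ((t.truncLT a).obj F)) :=
    isPseudoCoherentD_of_isZero_HD _ _ (fun i hi =>
      isZero_homology_Rpush_of_isLE f N hN _ (fun q => qc_homology_truncLT F hq a q) (a - 1) i
        (by omega))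
  exact isPseudoCoherentD_obj₂ _ hT' m h1' h3'

end Groth.Agent.Helper29.PcPush
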