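import Mathlib
import Groth.Prelude.Def_DCoh3
import Groth.Prelude.Def_CxOX
import Groth.Prelude.Def_FlatMod2
import Groth.Agent.Lib.Helper29.PerfVanB
import Groth.Agent.Lib.Helper29.PerfVanC
import Groth.Agent.Lib.Helper5.FPC4
import Groth.Agent.Lib.Helper5.LRes2
import Groth.Agent.Lib.Helper13.LocFree4

/-!
# The base case: vanishing on affine opens where `K` is strictly perfect
-/

set_option autoImplicit false
universe u
open CategoryTheory CategoryTheory.Limits AlgebraicGeometry DerivedCategory TopologicalSpace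

attribute [local instance] HasDerivedCategory.standard

namespace Groth.Agent.Helper29.PerfVanD

open Groth.Agent.Helper29.PerfVanB Groth.Agent.Helper29.PerfVanC

/-- vanishing on an affine scheme -/
theorem affine_vanishing (Y : Scheme.{u}) [IsAffine Y] (E' : CochainComplex Y.Modules ℤ)
    (hfl : ∀ i, FlatMod.IsFinLocFree (E'.X i)) (b : ℤ) (hb : ∀ i, b < i → IsZero (E'.X i))
    (p' : ℤ) (hp : ∀ i, i < p' → IsZero (E'.X i))
    (M : DCoh.D Y) (hM : DCoh.IsQCohD M) [M.IsLE (p' - 1)] (g : Q.obj E' ⟶ M) : g = 0 := by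
  obtain ⟨F, hq, hz, ⟨e⟩⟩ := exists_model Y M hM (p' - 1)
  have hbij := Groth.Agent.Helper24.AffHom.qh_bijective_affine E' F b hb hfl hq
  obtain ⟨ψ, hψ⟩ := hbij.2 (g ≫ e.hom)
  obtain ⟨χ, rfl⟩ := (HomotopyCategory.quotient _ _).map_surjective ψ
  have hχ : χ = 0 := by
    refine HomologicalComplex.hom_ext _ _ (fun i => ?_)
    by_cases hi : i < p'
    · exact (hp i hi).eq_of_src _ _
    · exact (hz i (by omega)).eq_of_tgt _ _
  have hψ' : Qh.map ((HomotopyCategory.quotient _ _).map χ) = g ≫ e.hom := hψ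
  have h0 : g ≫ e.hom = 0 := by
    rw [← hψ', hχ, Functor.map_zero, Functor.map_zero]
    rfl
  exact (cancel_mono e.hom).1 (h0.trans zero_comp.symm)

/-- `restrictD` only depends on the morphism -/
noncomputable def restrictDCongr {Y X : Scheme.{u}} {j₁ j₂ : Y ⟶ X} (h : j₁ = j₂)
    [IsOpenImmersion j₁] [IsOpenImmersion j₂] : DCoh.restrictD j₁ ≅ DCoh.restrictD j₂ := by
  subst h
  exact Iso.refl _

variable {X : Scheme.{u}}

theorem base_case (K : DCoh.D X) (V : X.Opens)
    (E : CochainComplex (V : Scheme.{u}).Modules ℤ) (hfl : ∀ i, FlatMod.IsFinLocFree (E.X i))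
    (p q : ℤ) (hv : DCoh.VanishesOutside E p q)
    (eK : (DCoh.restrictD V.ι).obj K ≅ Q.obj E) (U : X.Opens) (hU : IsAffineOpen U)
    (hUV : U ≤ V) : Van K (p - 1) U := by
  apply van_of_restrict
  intro m L hL hLE Y j _ hj M ⟨eM⟩ g
  haveI := hLE
  haveI : IsAffine Y := by
    haveI : IsAffine (j.opensRange).toScheme := by
      have h1 : IsAffineOpen j.opensRange := hj ▸ hU
      exact h1
    exact IsAffine.of_isIso (Scheme.Hom.isoOpensRange j).hom
  have hrange : Set.range j.base ⊆ Set.range V.ι.base := by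
    have h1 : (j.opensRange : Set X) ⊆ (V.ι.opensRange : Set X) := by
      rw [hj, Scheme.Opens.opensRange_ι]
      exact hUV
    exact h1
  let j' : Y ⟶ V := IsOpenImmersion.lift V.ι j hrange
  have hj' : j' ≫ V.ι = j := IsOpenImmersion.lift_fac _ _ _
  haveI : IsOpenImmersion (j' ≫ V.ι) := by rw [hj']; infer_instance
  haveI : IsOpenImmersion j' := IsOpenImmersion.of_comp j' V.ι
  let E_Y := ((Scheme.Modules.restrictFunctor j').mapHomologicalComplex (ComplexShape.up ℤ)).obj E
  let i0 : (DCoh.restrictD j).obj K ≅ Q.obj E_Y :=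
    (restrictDCongr hj'.symm).app K ≪≫ (restrictDComp j' V.ι).app K ≪≫
      (DCoh.restrictD j').mapIso eK ≪≫
      (Scheme.Modules.restrictFunctor j').mapDerivedCategoryFactors.app E
  let i1 : (DCoh.restrictD j).obj (K⟦m⟧) ≅ Q.obj (E_Y⟦m⟧) :=
    ((DCoh.restrictD j).commShiftIso m).app K ≪≫ (shiftFunctor _ m).mapIso i0 ≪≫
      ((Q.commShiftIso m).app E_Y).symm
  haveI : ((DCoh.restrictD j).obj L).IsLE (p - 1 - m) := by
    rw [isLE_iff]
    intro i hi
    exact Groth.Agent.Helper5.FPC.isZero_HD_restrictD j L i (isZero_of_isLE L (p - 1 - m) i hi)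
  haveI : M.IsLE ((p - m) - 1) := by
    have : M.IsLE (p - 1 - m) := TStructure.t.isLE_of_iso eM.symm _
    have h : p - m - 1 = p - 1 - m := by ring
    rw [h]
    exact this
  have hM : DCoh.IsQCohD M := by
    intro i
    haveI : (DCoh.HD L i).IsQuasicoherent := hL i
    have h1 : ((Scheme.Modules.restrictFunctor j).obj (DCoh.HD L i)).IsQuasicoherent :=
      inferInstance
    exact Groth.Agent.Helper13.QCohLocal.isQuasicoherent_of_iso
      ((homologyMapDIso (Scheme.Modules.restrictFunctor j) L i).symm ≪≫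
        (homologyFunctor _ i).mapIso eM.symm) (hM := h1)
  have hE' : ∀ i, FlatMod.IsFinLocFree ((E_Y⟦m⟧).X i) := by
    intro i
    exact Groth.Agent.Helper13.LocFree.isFinLocFree_of_iso
      ((Scheme.Modules.restrictFunctorIsoPullback j').app (E.X (i + m))).symm
      (Groth.Agent.Helper5.LDer.isFinLocFree_pullback j' _ (hfl (i + m)))
  have h0 := affine_vanishing Y (E_Y⟦m⟧) hE' (q - m)
    (fun i hi => (Scheme.Modules.restrictFunctor j').map_isZero (hv (i + m) (Or.inr (by omega))))
    (p - m)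
    (fun i hi => (Scheme.Modules.restrictFunctor j').map_isZero (hv (i + m) (Or.inl (by omega))))
    M hM (i1.inv ≫ g)
  exact (cancel_epi i1.inv).1 (h0.trans comp_zero.symm)

end Groth.Agent.Helper29.PerfVanD
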