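import Mathlib
import Groth.Prelude.Def_DCoh3
import Groth.Prelude.Def_CxOX
import Groth.Prelude.Def_FlatMod2
import Groth.Agent.Lib.Helper29.PerfVanD
import Groth.Agent.Lib.Helper5.COHP2
import Groth.Agent.Lib.Helper24.RFQc4

/-!
# Vanishing of maps out of a perfect object on a quasi-compact quasi-separated scheme
-/

set_option autoImplicit false
universe u
open CategoryTheory CategoryTheory.Limits AlgebraicGeometry DerivedCategory DerivedCategory.TStructure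
  Pretriangulated TopologicalSpace

attribute [local instance] HasDerivedCategory.standard

namespace Groth.Agent.Helper29.PerfVanE

open Groth.Agent.Helper29.PerfVanB Groth.Agent.Helper29.PerfVanC Groth.Agent.Helper29.PerfVanD

variable {X : Scheme.{u}}

theorem local_iso (K : DCoh.D X) (hK : DCoh.IsPerfect K) (x : X) :
    ∃ (V : X.Opens) (E : CochainComplex (V : Scheme.{u}).Modules ℤ), x ∈ V ∧
      DCoh.IsStrictlyPerfect E ∧ Nonempty ((DCoh.restrictD V.ι).obj K ≅ Q.obj E) := by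
  obtain ⟨V, hxV, hV⟩ := hK x
  let F := Q.objPreimage K
  let eF : Q.obj F ≅ K := Q.objObjPreimageIso K
  obtain ⟨E, hE, ⟨e⟩⟩ := hV F ⟨eF⟩
  exact ⟨V, E, hxV, hE, ⟨(DCoh.restrictD V.ι).mapIso eF.symm ≪≫
    (Scheme.Modules.restrictFunctor V.ι).mapDerivedCategoryFactors.app F ≪≫ e⟩⟩

theorem exists_van [CompactSpace X] [QuasiSeparatedSpace X] (K : DCoh.D X)
    (hK : DCoh.IsPerfect K) : ∃ a : ℤ, Van K a ⊤ := by
  let 𝓑 : Set X.Opens := {U | IsAffineOpen U ∧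
    ∃ (V : X.Opens) (E : CochainComplex (V : Scheme.{u}).Modules ℤ),
      U ≤ V ∧ DCoh.IsStrictlyPerfect E ∧ Nonempty ((DCoh.restrictD V.ι).obj K ≅ Q.obj E)}
  refine Groth.Agent.Helper29.PerfVanA.induction 𝓑 (fun U hU => hU.1) ?_
    (fun U => ∃ a, Van K a U) ⟨0, van_bot K 0⟩ ?_ ?_ ?_ ⊤ ?_
  · intro U hU f
    obtain ⟨hUa, V, E, hUV, hE, hiso⟩ := hU
    exact ⟨hUa.basicOpen f, V, E, (X.basicOpen_le f).trans hUV, hE, hiso⟩
  · intro U hU
    obtain ⟨hUa, V, E, hUV, ⟨⟨p, q, hv⟩, hfl⟩, ⟨e⟩⟩ := hU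
    exact ⟨p - 1, base_case K V E hfl p q hv e U hUa hUV⟩
  · rintro U V _ _ ⟨a₁, h₁⟩ ⟨a₂, h₂⟩ ⟨a₃, h₃⟩
    exact ⟨_, van_sup K h₁ h₂ h₃⟩
  · intro x
    obtain ⟨V, E, hxV, hE, hiso⟩ := local_iso K hK x
    obtain ⟨U, hUa, hxU, hUV⟩ := exists_isAffineOpen_mem_and_subset (x := x) (U := V) hxV
    exact ⟨U, ⟨hUa, V, E, hUV, hE, hiso⟩, hxU⟩
  · exact isCompact_univ

/-- from the vanishing property for `⊤` to the vanishing of maps `K⟦m⟧ ⟶ L` -/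
theorem van_top' (K : DCoh.D X) (a : ℤ) (h : Van K a ⊤) (m : ℤ) (L : DCoh.D X)
    (hL : DCoh.IsQCohD L) (hLE : L.IsLE (a - m)) (φ : K⟦m⟧ ⟶ L) : φ = 0 := by
  obtain ⟨adj⟩ := Groth.Agent.Helper9.OpenAdj5.nonempty_adjD (⊤ : X.Opens).ι
  haveI : IsIso (adj.unit.app L) :=
    Groth.Agent.Helper9.OpenAdj.isIso_unit_app_of_isZero_restrictD (⊤ : X.Opens).ι adj L ⊥
      (by simp) (Groth.Agent.Helper9.SuppD.isZero_restrictD_of_stalks L ⊥ (fun _ _ hx => hx.elim))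
  have h0 := h m L hL hLE _ (⊤ : X.Opens).ι (Scheme.Opens.opensRange_ι _)
    ((DCoh.restrictD (⊤ : X.Opens).ι).obj L) ⟨Iso.refl _⟩ (φ ≫ adj.unit.app L)
  exact (cancel_mono (adj.unit.app L)).1 (h0.trans zero_comp.symm)

/-- the vanishing theorem -/
theorem exists_vanishing [CompactSpace X] [QuasiSeparatedSpace X] (K : DCoh.D X)
    (hK : DCoh.IsPerfect K) :
    ∃ a₀ : ℤ, ∀ (m : ℤ) (L : DCoh.D X), DCoh.IsQCohD L → L.IsLE (a₀ - m) →
      ∀ φ : K⟦m⟧ ⟶ L, φ = 0 := by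
  obtain ⟨a, ha⟩ := exists_van K hK
  exact ⟨a, fun m L hL hLE φ => van_top' K a ha m L hL hLE φ⟩

/-- shifts preserve `D_QCoh` -/
theorem isQCohD_shift (L : DCoh.D X) (hL : DCoh.IsQCohD L) (n : ℤ) : DCoh.IsQCohD (L⟦n⟧) := by
  intro q
  exact Groth.Agent.Helper13.QCohLocal.isQuasicoherent_of_iso
    (((homologyFunctor X.Modules 0).shiftIso n q (n + q) rfl).app L).symm (hM := hL (n + q))

/-- maps into the middle term of a distinguished triangle -/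
lemma hom_eq_zero_of_dist {C : Type*} [Category C] [Preadditive C] [HasZeroObject C] [HasShift C ℤ]
    [∀ n : ℤ, (shiftFunctor C n).Additive] [Pretriangulated C]
    (T : Triangle C) (hT : T ∈ distTriang C) {A : C} (h1 : ∀ f : A ⟶ T.obj₁, f = 0)
    (h3 : ∀ f : A ⟶ T.obj₃, f = 0) (f : A ⟶ T.obj₂) : f = 0 := by
  obtain ⟨g, hg⟩ := Triangle.coyoneda_exact₂ T hT f (h3 _)
  rw [hg, h1 g, zero_comp]

theorem vanishing_zero [CompactSpace X] [QuasiSeparatedSpace X] (K : DCoh.D X) (a₀ : ℤ)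
    (h₀ : ∀ (m : ℤ) (L : DCoh.D X), DCoh.IsQCohD L → L.IsLE (a₀ - m) → ∀ φ : K⟦m⟧ ⟶ L, φ = 0)
    (L : DCoh.D X) (hL : DCoh.IsQCohD L) (hLE : L.IsLE a₀) (φ : K ⟶ L) : φ = 0 := by
  haveI : L.IsLE (a₀ - 0) := by simpa using hLE
  have h := h₀ 0 L hL inferInstance ((shiftFunctorZero (DCoh.D X) ℤ).hom.app K ≫ φ)
  exact (cancel_epi ((shiftFunctorZero (DCoh.D X) ℤ).hom.app K)).1 (h.trans comp_zero.symm)

theorem main1011 [CompactSpace X] [QuasiSeparatedSpace X] (K : DCoh.D X) (hK : DCoh.IsPerfect K) :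
    (∃ a b : ℤ, a ≤ b ∧ ∀ L : DCoh.D X, DCoh.IsQCohD L →
      (∀ i : ℤ, a ≤ i → i ≤ b → IsZero (DCoh.HD L i)) → ∀ φ : K ⟶ L, φ = 0) ∧
    ∀ (L : DCoh.D X) (a' b' : ℤ), DCoh.IsQCohD L → L.IsGE a' → L.IsLE b' →
      {n : ℤ | ∃ φ : K ⟶ L⟦n⟧, φ ≠ 0}.Finite := by
  obtain ⟨a₀, h₀⟩ := exists_vanishing K hK
  obtain ⟨_, b₀, _, hb₀⟩ := Groth.Agent.Helper5.COHP.exists_bounds_of_isPerfect K hK
  haveI := hb₀
  refine ⟨⟨a₀ + 1, max b₀ (a₀ + 1), le_max_right _ _, ?_⟩, ?_⟩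
  · intro L hL hz φ
    have hT := (t : Triangulated.TStructure (DCoh.D X)).triangleLTGE_distinguished (a₀ + 1) L
    refine hom_eq_zero_of_dist _ hT ?_ ?_ φ
    · intro f
      have hq : DCoh.IsQCohD ((t.truncLT (a₀ + 1)).obj L) :=
        fun q => Groth.Agent.Helper24.RFQc.qc_homology_truncLT L hL (a₀ + 1) q
      haveI : ((t.truncLT (a₀ + 1)).obj L).IsLE a₀ := t.isLE_truncLT_obj L (a₀ + 1) a₀ (by omega)
      exact vanishing_zero K a₀ h₀ _ hq inferInstance f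
    · intro f
      haveI h3 : ((t.truncGE (a₀ + 1)).obj L).IsGE (max b₀ (a₀ + 1) + 1) := by
        rw [isGE_iff]
        intro i hi
        by_cases h : i < a₀ + 1
        · exact isZero_of_isGE ((t.truncGE (a₀ + 1)).obj L) (a₀ + 1) i h
        · haveI := Groth.Agent.Helper24.RlimTrunc.isIso_homologyMap_truncGEπ L (a₀ + 1) i
            (by omega)
          exact IsZero.of_iso (hz i (by omega) (by omega))
            (asIso ((homologyFunctor _ i).map ((t.truncGEπ (a₀ + 1)).app L))).symm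
      haveI : t.IsGE ((t.triangleLTGE (a₀ + 1)).obj L).obj₃ (max b₀ (a₀ + 1) + 1) := h3
      haveI : K.IsLE (max b₀ (a₀ + 1)) := t.isLE_of_le K b₀ _ (le_max_left _ _)
      exact t.zero f (max b₀ (a₀ + 1)) (max b₀ (a₀ + 1) + 1) (by omega)
  · intro L a' b' hL hGE hLE
    haveI := hGE
    haveI := hLE
    refine (Set.finite_Icc (a' - b₀) (b' - a₀ - 1)).subset ?_
    rintro n ⟨φ, hφ⟩
    by_contra hn
    apply hφ
    rw [Set.mem_Icc, not_and_or] at hn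
    rcases hn with hn | hn
    · haveI : (L⟦n⟧).IsGE (a' - n) := t.isGE_shift L a' n (a' - n) (by omega)
      exact t.zero φ b₀ (a' - n) (by omega)
    · haveI : (L⟦n⟧).IsLE (b' - n) := t.isLE_shift L b' n (b' - n) (by omega)
      haveI : (L⟦n⟧).IsLE a₀ := t.isLE_of_le _ (b' - n) a₀ (by omega)
      exact vanishing_zero K a₀ h₀ _ (isQCohD_shift L hL n) inferInstance φ

theorem main1022 [CompactSpace X] [QuasiSeparatedSpace X] (P : DCoh.D X) (hP : DCoh.IsPerfect P)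
    (E : DCoh.D X) (hE : DCoh.IsQCohD E) (a : ℤ) :
    (∃ N : ℤ, ∀ i : ℤ, N ≤ i → ∀ φ : P⟦-i⟧ ⟶ E, φ = 0) ↔
    (∃ N : ℤ, ∀ i : ℤ, N ≤ i → ∀ φ : P⟦-i⟧ ⟶
      ((DerivedCategory.TStructure.t : CategoryTheory.Triangulated.TStructure (DCoh.D X)).truncGE a).obj E,
      φ = 0) := by
  obtain ⟨a₀, h₀⟩ := exists_vanishing P hP
  have hT := (t : Triangulated.TStructure (DCoh.D X)).triangleLTGE_distinguished a E
  have hq : DCoh.IsQCohD ((t.truncLT a).obj E) :=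
    fun q => Groth.Agent.Helper24.RFQc.qc_homology_truncLT E hE a q
  haveI hle : ((t.truncLT a).obj E).IsLE (a - 1) := t.isLE_truncLT_obj E a (a - 1) (by omega)
  have hv1 : ∀ i : ℤ, a - 1 - a₀ ≤ i → ∀ ψ : P⟦-i⟧ ⟶ (t.truncLT a).obj E, ψ = 0 := by
    intro i hi ψ
    haveI : ((t.truncLT a).obj E).IsLE (a₀ - (-i)) := t.isLE_of_le _ (a - 1) _ (by omega)
    exact h₀ (-i) _ hq inferInstance ψ
  have hv2 : ∀ i : ℤ, a - 1 - a₀ ≤ i → ∀ ψ : P⟦-i⟧ ⟶ ((t.truncLT a).obj E)⟦(1 : ℤ)⟧, ψ = 0 := by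
    intro i hi ψ
    haveI : (((t.truncLT a).obj E)⟦(1 : ℤ)⟧).IsLE (a - 2) :=
      t.isLE_shift _ (a - 1) 1 (a - 2) (by omega)
    haveI : (((t.truncLT a).obj E)⟦(1 : ℤ)⟧).IsLE (a₀ - (-i)) := t.isLE_of_le _ (a - 2) _ (by omega)
    exact h₀ (-i) _ (isQCohD_shift _ hq 1) inferInstance ψ
  constructor
  · rintro ⟨N, hN⟩
    refine ⟨max N (a - 1 - a₀), fun i hi φ => ?_⟩
    have h1 : φ ≫ ((t.triangleLTGE a).obj E).mor₃ = 0 := hv2 i ((le_max_right _ _).trans hi) _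
    obtain ⟨ψ, hψ⟩ := Triangle.coyoneda_exact₃ _ hT φ h1
    have h2 : ψ = 0 := hN i ((le_max_left _ _).trans hi) ψ
    rw [hψ, h2]
    exact zero_comp
  · rintro ⟨N, hN⟩
    refine ⟨max N (a - 1 - a₀), fun i hi φ => ?_⟩
    have h1 : φ ≫ ((t.triangleLTGE a).obj E).mor₂ = 0 := hN i ((le_max_left _ _).trans hi) _
    obtain ⟨ψ, hψ⟩ := Triangle.coyoneda_exact₂ _ hT φ h1
    have h2 : ψ = 0 := hv1 i ((le_max_right _ _).trans hi) ψ
    rw [hψ, h2]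
    exact zero_comp

end Groth.Agent.Helper29.PerfVanE
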