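import Mathlib
import Groth.Prelude.Def_DCoh3
import Groth.Agent.Lib.Helper5.COHP2

/-!
# Maps out of the shifts of a perfect object into the truncations `τ_{≤ a}`
-/

set_option autoImplicit false
universe u
open CategoryTheory CategoryTheory.Limits AlgebraicGeometry DerivedCategory DerivedCategory.TStructure
  Pretriangulated

attribute [local instance] HasDerivedCategory.standard

namespace Groth.Agent.Helper29.PerfVanF

variable {X : Scheme.{u}}

theorem main1023 [CompactSpace X] (P : DCoh.D X) (hP : DCoh.IsPerfect P) (E : DCoh.D X) (a : ℤ) :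
    (∃ N : ℤ, ∀ i : ℤ, i ≤ N → ∀ φ : P⟦-i⟧ ⟶ E, φ = 0) ↔
    (∃ N : ℤ, ∀ i : ℤ, i ≤ N → ∀ φ : P⟦-i⟧ ⟶
      ((DerivedCategory.TStructure.t : CategoryTheory.Triangulated.TStructure (DCoh.D X)).truncLE a).obj E,
      φ = 0) := by
  obtain ⟨_, b₀, _, hb₀⟩ := Groth.Agent.Helper5.COHP.exists_bounds_of_isPerfect P hP
  haveI := hb₀
  have hT := (t : Triangulated.TStructure (DCoh.D X)).triangleLEGT_distinguished a E
  have hLE : ∀ i : ℤ, (P⟦-i⟧).IsLE (b₀ + i) := fun i => t.isLE_shift P b₀ (-i) (b₀ + i) (by omega)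
  constructor
  · rintro ⟨N, hN⟩
    refine ⟨min N (a - b₀), fun i hi φ => ?_⟩
    have h1 : φ ≫ (t.truncLEι a).app E = 0 := hN i (hi.trans (min_le_left _ _)) _
    obtain ⟨ψ, hψ⟩ := Triangle.coyoneda_exact₂ _ (inv_rot_of_distTriang _ hT) φ h1
    haveI := hLE i
    haveI h3 : (((t.truncGT a).obj E)⟦(-1 : ℤ)⟧).IsGE (a + 2) :=
      t.isGE_shift _ (a + 1) (-1) (a + 2) (by omega)
    haveI : t.IsGE ((t.triangleLEGT a).obj E).invRotate.obj₁ (a + 2) := h3
    have hψ0 : ψ = 0 := t.zero ψ (b₀ + i) (a + 2) (by have := min_le_right N (a - b₀); omega)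
    rw [hψ, hψ0]
    exact zero_comp
  · rintro ⟨N, hN⟩
    refine ⟨min N (a - b₀), fun i hi φ => ?_⟩
    haveI := hLE i
    have h1 : φ ≫ (t.truncGTπ a).app E = 0 :=
      t.zero _ (b₀ + i) (a + 1) (by have := min_le_right N (a - b₀); omega)
    obtain ⟨ψ, hψ⟩ := Triangle.coyoneda_exact₂ _ hT φ h1
    have h2 : ψ = 0 := hN i (hi.trans (min_le_left _ _)) ψ
    rw [hψ, h2]
    exact zero_comp

end Groth.Agent.Helper29.PerfVanF
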