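import Mathlib

set_option autoImplicit false

namespace Groth.Agent.Helper29.SkolemA

open TensorProduct

variable {A : Type*} [CommRing A] {F G : Type*} [AddCommGroup F] [Module A F]
  [AddCommGroup G] [Module A G]

/-- the module of intertwiners -/
def Lmod (φ : Module.End A F ≃ₐ[A] Module.End A G) : Submodule A (F →ₗ[A] G) where
  carrier := {l | ∀ b : Module.End A F, l ∘ₗ b = φ b ∘ₗ l}
  add_mem' := by
    intro l l' hl hl' b
    rw [LinearMap.add_comp, LinearMap.comp_add, hl b, hl' b]
  zero_mem' := by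
    intro b
    rw [LinearMap.zero_comp, LinearMap.comp_zero]
  smul_mem' := by
    intro c l hl b
    rw [LinearMap.smul_comp, LinearMap.comp_smul, hl b]

variable (φ : Module.End A F ≃ₐ[A] Module.End A G)

theorem mem_Lmod {l : F →ₗ[A] G} : l ∈ Lmod φ ↔ ∀ b : Module.End A F, l ∘ₗ b = φ b ∘ₗ l :=
  Iff.rfl

theorem Lmod_apply (l : Lmod φ) (b : Module.End A F) (x : F) :
    (l : F →ₗ[A] G) (b x) = φ b ((l : F →ₗ[A] G) x) :=
  LinearMap.congr_fun (l.2 b) x

theorem smulRight_apply_eq (α : Module.Dual A F) (b : Module.End A F) (x : F) :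
    α.smulRight (b x) = b * α.smulRight x := by
  ext z
  simp [Module.End.mul_apply]

/-- the intertwiner attached to a functional and a vector -/
noncomputable def lamL (α : Module.Dual A F) : G →ₗ[A] Lmod φ :=
  LinearMap.codRestrict (Lmod φ) (LinearMap.flip (φ.toLinearMap ∘ₗ LinearMap.smulRightₗ α)) (by
    intro g b
    ext x
    simp only [LinearMap.comp_apply, LinearMap.flip_apply, AlgEquiv.toLinearMap_apply,
      LinearMap.smulRightₗ_apply]
    rw [smulRight_apply_eq, map_mul, Module.End.mul_apply])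

theorem lamL_apply (α : Module.Dual A F) (g : G) (x : F) :
    ((lamL φ α g : Lmod φ) : F →ₗ[A] G) x = φ (α.smulRight x) g := rfl

/-- evaluation -/
noncomputable def ev : F ⊗[A] Lmod φ →ₗ[A] G :=
  TensorProduct.lift (Lmod φ).subtype.flip

theorem ev_tmul (x : F) (l : Lmod φ) : ev φ (x ⊗ₜ l) = (l : F →ₗ[A] G) x := by
  simp [ev]

theorem lamL_of_apply (α : Module.Dual A F) (l : Lmod φ) (x : F) :
    lamL φ α ((l : F →ₗ[A] G) x) = α x • l := by
  apply Subtype.ext
  ext z
  rw [lamL_apply, ← Lmod_apply]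
  simp

section dualbasis

variable {n : ℕ} (y : Fin n → F) (β : Fin n → Module.Dual A F)
  (hyβ : ∀ x, ∑ j, β j x • y j = x)

/-- the inverse of evaluation -/
noncomputable def inv : G →ₗ[A] F ⊗[A] Lmod φ :=
  ∑ j, (TensorProduct.mk A F (Lmod φ) (y j)) ∘ₗ lamL φ (β j)

theorem inv_apply (g : G) : inv φ y β g = ∑ j, y j ⊗ₜ[A] lamL φ (β j) g := by
  simp [inv, LinearMap.sum_apply]

include hyβ in
theorem ev_inv (g : G) : ev φ (inv φ y β g) = g := by
  rw [inv_apply, map_sum]
  simp only [ev_tmul, lamL_apply]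
  rw [← LinearMap.sum_apply, ← map_sum]
  have : ∑ j, (β j).smulRight (y j) = (1 : Module.End A F) := by
    ext z
    simp [LinearMap.sum_apply, hyβ]
  rw [this, map_one, Module.End.one_apply]

include hyβ in
theorem inv_ev (t : F ⊗[A] Lmod φ) : inv φ y β (ev φ t) = t := by
  induction t using TensorProduct.induction_on with
  | zero => simp
  | tmul x l =>
    rw [ev_tmul, inv_apply]
    simp only [lamL_of_apply]
    simp only [TensorProduct.tmul_smul, TensorProduct.smul_tmul']
    rw [← TensorProduct.sum_tmul, hyβ]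
  | add a b ha hb => rw [map_add, map_add, ha, hb]

/-- the evaluation isomorphism -/
noncomputable def xi : F ⊗[A] Lmod φ ≃ₗ[A] G :=
  { ev φ with
    invFun := inv φ y β
    left_inv := inv_ev φ y β hyβ
    right_inv := ev_inv φ y β hyβ }

theorem xi_apply (t : F ⊗[A] Lmod φ) : xi φ y β hyβ t = ev φ t := rfl

theorem conj_eq (f : Module.End A F) :
    φ f = (xi φ y β hyβ).conj (TensorProduct.map f LinearMap.id) := by
  apply LinearMap.ext
  intro g
  obtain ⟨t, rfl⟩ := (xi φ y β hyβ).surjective g
  rw [LinearEquiv.conj_apply, LinearMap.comp_apply, LinearMap.comp_apply,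
    LinearEquiv.coe_coe, LinearEquiv.coe_coe, LinearEquiv.symm_apply_apply, xi_apply, xi_apply]
  induction t using TensorProduct.induction_on with
  | zero => simp
  | tmul x l =>
    rw [TensorProduct.map_tmul, ev_tmul, ev_tmul, LinearMap.id_apply, Lmod_apply]
  | add a b ha hb => rw [map_add, map_add, map_add, map_add, ha, hb]

end dualbasis

end Groth.Agent.Helper29.SkolemA
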