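import Mathlib
import Groth.Agent.Lib.Helper29.SkolemA

set_option autoImplicit false

namespace Groth.Agent.Helper29.SkolemB

open TensorProduct SkolemA

variable {A : Type*} [CommRing A] {F G : Type*} [AddCommGroup F] [Module A F]
  [AddCommGroup G] [Module A G]

/-- dual basis of a finite projective module -/
theorem exists_dual_basis (A F : Type*) [CommRing A] [AddCommGroup F] [Module A F]
    [Module.Finite A F] [Module.Projective A F] :
    ∃ (n : ℕ) (y : Fin n → F) (β : Fin n → Module.Dual A F), ∀ x, ∑ j, β j x • y j = x := by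
  obtain ⟨n, f, g, -, -, hfg⟩ := Module.Finite.exists_comp_eq_id_of_projective A F
  refine ⟨n, fun j => f (Pi.single j 1), fun j => LinearMap.proj j ∘ₗ g, fun x => ?_⟩
  have h1 : f (g x) = x := LinearMap.congr_fun hfg x
  conv_rhs => rw [← h1, LinearMap.pi_apply_eq_sum_univ f (g x)]
  refine Finset.sum_congr rfl (fun j _ => ?_)
  have : (Pi.single j (1 : A) : Fin n → A) = fun i => if j = i then 1 else 0 := by
    ext i
    simp [Pi.single_apply, eq_comm]
  change g x j • f (Pi.single j 1) = _
  rw [this]

/-- generator data of a faithfully flat finite projective module -/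
theorem exists_generator_data (A F : Type*) [CommRing A] [AddCommGroup F] [Module A F]
    [Module.Finite A F] [Module.Projective A F] [Module.FaithfullyFlat A F] :
    ∃ (s : Finset (Module.Dual A F × F)) (c : Module.Dual A F × F → A),
      ∑ p ∈ s, c p * p.1 p.2 = 1 := by
  obtain ⟨n, y, β, hyβ⟩ := exists_dual_basis A F
  have htop : Ideal.span (Set.range (fun p : Module.Dual A F × F => p.1 p.2)) = ⊤ := by
    by_contra hne
    obtain ⟨m, hm, hle⟩ := Ideal.exists_le_maximal _ hne
    apply Module.FaithfullyFlat.submodule_ne_top (R := A) (M := F) hm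
    rw [eq_top_iff]
    intro x _
    rw [← hyβ x]
    refine Submodule.sum_mem _ (fun j _ => ?_)
    apply Submodule.smul_mem_smul _ Submodule.mem_top
    exact hle (Ideal.subset_span ⟨(β j, x), rfl⟩)
  have h1 : (1 : A) ∈ Ideal.span (Set.range (fun p : Module.Dual A F × F => p.1 p.2)) := by
    rw [htop]; trivial
  obtain ⟨c, hc⟩ := Finsupp.mem_ideal_span_range_iff_exists_finsupp.mp h1
  exact ⟨c.support, c, hc⟩

variable (φ : Module.End A F ≃ₐ[A] Module.End A G)

/-- composites of intertwiners are central -/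
theorem comp_comm (l : Lmod φ) (m : Lmod φ.symm) (b : Module.End A F) (x : F) :
    (m : G →ₗ[A] F) ((l : F →ₗ[A] G) (b x)) = b ((m : G →ₗ[A] F) ((l : F →ₗ[A] G) x)) := by
  rw [Lmod_apply φ l b x, Lmod_apply φ.symm m (φ b), AlgEquiv.symm_apply_apply]

variable (s : Finset (Module.Dual A F × F)) (c : Module.Dual A F × F → A)
  (hsc : ∑ p ∈ s, c p * p.1 p.2 = 1)

/-- the pairing -/
noncomputable def pair : Lmod φ →ₗ[A] Lmod φ.symm →ₗ[A] A :=
  LinearMap.mk₂ A
    (fun l m => ∑ p ∈ s, c p * p.1 ((m : G →ₗ[A] F) ((l : F →ₗ[A] G) p.2)))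
    (by intro l l' m; simp [mul_add, Finset.sum_add_distrib])
    (by intro a l m; simp [Finset.mul_sum, mul_left_comm])
    (by intro l m m'; simp [mul_add, Finset.sum_add_distrib])
    (by intro a l m; simp [Finset.mul_sum, mul_left_comm])

theorem pair_apply (l : Lmod φ) (m : Lmod φ.symm) :
    pair φ s c l m = ∑ p ∈ s, c p * p.1 ((m : G →ₗ[A] F) ((l : F →ₗ[A] G) p.2)) := rfl

include hsc in
theorem comp_eq_smul (l : Lmod φ) (m : Lmod φ.symm) (y : F) :
    (m : G →ₗ[A] F) ((l : F →ₗ[A] G) y) = pair φ s c l m • y := by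
  set z : F → F := fun x => (m : G →ₗ[A] F) ((l : F →ₗ[A] G) x) with hz
  have hzsmul : ∀ (a : A) (x : F), z (a • x) = a • z x := by
    intro a x; simp [hz]
  have key : ∀ p : Module.Dual A F × F, p.1 p.2 • z y = p.1 (z p.2) • y := by
    intro p
    have h1 := comp_comm φ l m (p.1.smulRight y) p.2
    simp only [LinearMap.smulRight_apply] at h1
    change z (p.1 p.2 • y) = p.1 (z p.2) • y at h1
    rw [hzsmul] at h1
    exact h1
  calc z y = (∑ p ∈ s, c p * p.1 p.2) • z y := by rw [hsc, one_smul]
    _ = ∑ p ∈ s, c p • (p.1 p.2 • z y) := by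
      rw [Finset.sum_smul]
      exact Finset.sum_congr rfl (fun p _ => by rw [mul_smul])
    _ = ∑ p ∈ s, c p • (p.1 (z p.2) • y) := by
      exact Finset.sum_congr rfl (fun p _ => by rw [key p])
    _ = pair φ s c l m • y := by
      rw [pair_apply, Finset.sum_smul]
      exact Finset.sum_congr rfl (fun p _ => by rw [mul_smul])

/-- the pairing on the tensor product -/
noncomputable def cmap : Lmod φ ⊗[A] Lmod φ.symm →ₗ[A] A := TensorProduct.lift (pair φ s c)

theorem cmap_tmul (l : Lmod φ) (m : Lmod φ.symm) : cmap φ s c (l ⊗ₜ m) = pair φ s c l m := by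
  simp [cmap]

section bij

variable {n n' : ℕ} (y : Fin n → F) (β : Fin n → Module.Dual A F)
  (hyβ : ∀ x, ∑ j, β j x • y j = x)
  (y' : Fin n' → G) (β' : Fin n' → Module.Dual A G)
  (hyβ' : ∀ x, ∑ j, β' j x • y' j = x)

include hsc in
theorem key_formula (t : F ⊗[A] (Lmod φ ⊗[A] Lmod φ.symm)) :
    TensorProduct.rid A F ((cmap φ s c).lTensor F t) =
      xi φ.symm y' β' hyβ' (((xi φ y β hyβ).toLinearMap.rTensor (Lmod φ.symm))
        ((TensorProduct.assoc A F (Lmod φ) (Lmod φ.symm)).symm t)) := by
  induction t using TensorProduct.induction_on with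
  | zero => simp
  | tmul x u =>
    induction u using TensorProduct.induction_on with
    | zero => simp
    | tmul l m =>
      rw [LinearMap.lTensor_tmul, cmap_tmul, TensorProduct.rid_tmul, TensorProduct.assoc_symm_tmul,
        LinearMap.rTensor_tmul, LinearEquiv.coe_coe, xi_apply, ev_tmul, xi_apply, ev_tmul]
      exact (comp_eq_smul φ s c hsc l m x).symm
    | add u u' hu hu' =>
      rw [TensorProduct.tmul_add, map_add, map_add, map_add, map_add, map_add, hu, hu']
  | add t t' ht ht' =>
    rw [map_add, map_add, map_add, map_add, map_add, ht, ht']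

include hsc hyβ hyβ' in
theorem cmap_bijective [Module.FaithfullyFlat A F] : Function.Bijective (cmap φ s c) := by
  have hfun : ⇑((cmap φ s c).lTensor F) =
      (TensorProduct.rid A F).symm ∘ (xi φ.symm y' β' hyβ') ∘
        (LinearEquiv.rTensor (Lmod φ.symm) (xi φ y β hyβ)) ∘
        (TensorProduct.assoc A F (Lmod φ) (Lmod φ.symm)).symm := by
    funext t
    apply (TensorProduct.rid A F).injective
    rw [key_formula φ s c hsc y β hyβ y' β' hyβ' t]
    simp only [Function.comp_apply, LinearEquiv.apply_symm_apply]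
    rfl
  have h : Function.Bijective ((cmap φ s c).lTensor F) := by
    rw [hfun]
    exact (TensorProduct.rid A F).symm.bijective.comp
      ((xi φ.symm y' β' hyβ').bijective.comp
        ((LinearEquiv.rTensor (Lmod φ.symm) (xi φ y β hyβ)).bijective.comp
          (TensorProduct.assoc A F (Lmod φ) (Lmod φ.symm)).symm.bijective))
  have := (Module.FaithfullyFlat.lTensor_bijective_iff_bijective A F (N := Lmod φ ⊗[A] Lmod φ.symm) (N' := A) (cmap φ s c))
  exact this.mp h

end bij

universe u

theorem main13795 (A : Type u) [CommRing A]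
    (F G : Type u) [AddCommGroup F] [Module A F] [Module.Finite A F] [Module.Projective A F]
    [Module.FaithfullyFlat A F]
    [AddCommGroup G] [Module A G] [Module.Finite A G] [Module.Projective A G]
    (φ : Module.End A F ≃ₐ[A] Module.End A G) :
    ∃ (L : Type u) (_ : AddCommGroup L) (_ : Module A L), Module.Invertible A L ∧
      ∃ ξ : F ⊗[A] L ≃ₗ[A] G, ∀ f : Module.End A F,
        φ f = ξ.conj (TensorProduct.map f LinearMap.id) := by
  obtain ⟨n, y, β, hyβ⟩ := exists_dual_basis A F
  obtain ⟨n', y', β', hyβ'⟩ := exists_dual_basis A G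
  obtain ⟨s, c, hsc⟩ := exists_generator_data A F
  refine ⟨Lmod φ, inferInstance, inferInstance, ?_, xi φ y β hyβ, conj_eq φ y β hyβ⟩
  have hbij := cmap_bijective φ s c hsc y β hyβ y' β' hyβ'
  exact Module.Invertible.left (LinearEquiv.ofBijective (cmap φ s c) hbij)

end Groth.Agent.Helper29.SkolemB
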