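import Mathlib
import Groth.Agent.Lib.Helper29.SkolemB

set_option autoImplicit false

namespace Groth.Agent.Helper29.SkolemC

open TensorProduct SkolemA SkolemB

/-- a finite family of intertwiners whose composites sum to the identity -/
theorem exists_family {A : Type*} [CommRing A] {F G : Type*} [AddCommGroup F] [Module A F]
    [Module.Finite A F] [Module.Projective A F] [Module.FaithfullyFlat A F]
    [AddCommGroup G] [Module A G] [Module.Finite A G] [Module.Projective A G]
    (φ : Module.End A F ≃ₐ[A] Module.End A G) :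
    ∃ S : Finset (Lmod φ × Lmod φ.symm),
      ∀ y : F, ∑ p ∈ S, (p.2 : G →ₗ[A] F) ((p.1 : F →ₗ[A] G) y) = y := by
  obtain ⟨n, y, β, hyβ⟩ := exists_dual_basis A F
  obtain ⟨n', y', β', hyβ'⟩ := exists_dual_basis A G
  obtain ⟨s, c, hsc⟩ := exists_generator_data A F
  have hbij := cmap_bijective φ s c hsc y β hyβ y' β' hyβ'
  obtain ⟨t, ht⟩ := hbij.2 1
  obtain ⟨S, hS⟩ := TensorProduct.exists_finset t
  refine ⟨S, fun y0 => ?_⟩
  have h1 : ∑ p ∈ S, pair φ s c p.1 p.2 = 1 := by
    rw [← ht, hS, map_sum]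
    exact Finset.sum_congr rfl (fun p _ => (cmap_tmul φ s c p.1 p.2).symm)
  calc ∑ p ∈ S, (p.2 : G →ₗ[A] F) ((p.1 : F →ₗ[A] G) y0)
      = ∑ p ∈ S, pair φ s c p.1 p.2 • y0 :=
        Finset.sum_congr rfl (fun p _ => comp_eq_smul φ s c hsc p.1 p.2 y0)
    _ = (∑ p ∈ S, pair φ s c p.1 p.2) • y0 := (Finset.sum_smul).symm
    _ = y0 := by rw [h1, one_smul]

end Groth.Agent.Helper29.SkolemC
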