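import Mathlib
import Groth.Agent.Lib.Helper29.SkolemC

set_option autoImplicit false

namespace Groth.Agent.Helper29.PicTorsA

open TensorProduct

universe u

variable {A : Type u} [CommRing A] {n : ℕ}

/-- intertwiner matrices -/
def Lm (α : Matrix (Fin n) (Fin n) A ≃ₐ[A] Matrix (Fin n) (Fin n) A) :
    Submodule A (Matrix (Fin n) (Fin n) A) where
  carrier := {M | ∀ N, M * N = α N * M}
  add_mem' := by
    intro a b ha hb N
    rw [add_mul, mul_add, ha N, hb N]
  zero_mem' := by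
    intro N
    simp
  smul_mem' := by
    intro c a ha N
    rw [smul_mul_assoc, mul_smul_comm, ha N]

theorem mem_Lm {α : Matrix (Fin n) (Fin n) A ≃ₐ[A] Matrix (Fin n) (Fin n) A}
    {M : Matrix (Fin n) (Fin n) A} : M ∈ Lm α ↔ ∀ N, M * N = α N * M := Iff.rfl

theorem central_eq_smul [NeZero n] (c : Matrix (Fin n) (Fin n) A) (hc : ∀ N, c * N = N * c) :
    c = c 0 0 • (1 : Matrix (Fin n) (Fin n) A) := by
  obtain ⟨r, hr⟩ := Matrix.mem_range_scalar_iff_commute_single'.mpr (fun i j => (hc _).symm)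
  rw [← hr]
  ext i j
  simp [Matrix.one_apply, Matrix.diagonal_apply]

variable (α : Matrix (Fin n) (Fin n) A ≃ₐ[A] Matrix (Fin n) (Fin n) A)

theorem ml_central {l m : Matrix (Fin n) (Fin n) A} (hl : l ∈ Lm α) (hm : m ∈ Lm α.symm)
    (N : Matrix (Fin n) (Fin n) A) : (m * l) * N = N * (m * l) := by
  rw [mul_assoc, hl N, ← mul_assoc, hm (α N), AlgEquiv.symm_apply_apply, mul_assoc]

theorem lm_central {l m : Matrix (Fin n) (Fin n) A} (hl : l ∈ Lm α) (hm : m ∈ Lm α.symm)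
    (N : Matrix (Fin n) (Fin n) A) : (l * m) * N = N * (l * m) := by
  rw [mul_assoc, hm N, ← mul_assoc, hl (α.symm N), AlgEquiv.apply_symm_apply, mul_assoc]

theorem ml_scalar [NeZero n] {l m : Matrix (Fin n) (Fin n) A} (hl : l ∈ Lm α)
    (hm : m ∈ Lm α.symm) : m * l = (m * l) 0 0 • (1 : Matrix (Fin n) (Fin n) A) :=
  central_eq_smul _ (ml_central α hl hm)

theorem lm_scalar [NeZero n] {l m : Matrix (Fin n) (Fin n) A} (hl : l ∈ Lm α)
    (hm : m ∈ Lm α.symm) : l * m = (l * m) 0 0 • (1 : Matrix (Fin n) (Fin n) A) :=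
  central_eq_smul _ (lm_central α hl hm)

/-- the corresponding automorphism of the endomorphism algebra -/
noncomputable def phi : Module.End A (Fin n → A) ≃ₐ[A] Module.End A (Fin n → A) :=
  (LinearMap.toMatrixAlgEquiv'.trans α).trans LinearMap.toMatrixAlgEquiv'.symm

theorem phi_apply (b : Module.End A (Fin n → A)) :
    phi α b = LinearMap.toMatrixAlgEquiv'.symm (α (LinearMap.toMatrixAlgEquiv' b)) := rfl

theorem phi_symm_apply (b : Module.End A (Fin n → A)) :
    (phi α).symm b = LinearMap.toMatrixAlgEquiv'.symm (α.symm (LinearMap.toMatrixAlgEquiv' b)) := by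
  rw [AlgEquiv.symm_apply_eq, phi_apply, AlgEquiv.apply_symm_apply, AlgEquiv.apply_symm_apply,
    AlgEquiv.symm_apply_apply]

theorem toMatrix_mem (l : SkolemA.Lmod (phi α)) :
    LinearMap.toMatrixAlgEquiv' (l : (Fin n → A) →ₗ[A] (Fin n → A)) ∈ Lm α := by
  intro N
  have h := l.2 (LinearMap.toMatrixAlgEquiv'.symm N)
  have h2 := congrArg LinearMap.toMatrixAlgEquiv' h
  rw [LinearMap.toMatrixAlgEquiv'_comp, LinearMap.toMatrixAlgEquiv'_comp, phi_apply,
    AlgEquiv.apply_symm_apply, AlgEquiv.apply_symm_apply] at h2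
  exact h2

theorem toMatrix_mem_symm (m : SkolemA.Lmod (phi α).symm) :
    LinearMap.toMatrixAlgEquiv' (m : (Fin n → A) →ₗ[A] (Fin n → A)) ∈ Lm α.symm := by
  intro N
  have h := m.2 (LinearMap.toMatrixAlgEquiv'.symm N)
  have h2 := congrArg LinearMap.toMatrixAlgEquiv' h
  rw [LinearMap.toMatrixAlgEquiv'_comp, LinearMap.toMatrixAlgEquiv'_comp, phi_symm_apply,
    AlgEquiv.apply_symm_apply, AlgEquiv.apply_symm_apply] at h2
  exact h2

/-- family B : `∑ m k * l k = 1` -/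
theorem exists_famB [NeZero n] :
    ∃ (ι : Type u) (_ : Fintype ι) (l m : ι → Matrix (Fin n) (Fin n) A),
      (∀ k, l k ∈ Lm α) ∧ (∀ k, m k ∈ Lm α.symm) ∧ ∑ k, m k * l k = 1 := by
  have hff : Module.FaithfullyFlat A (Fin n → A) :=
    Module.FaithfullyFlat.of_linearEquiv (R := A) (M := Fin n →₀ A) (N := Fin n → A)
      (Finsupp.linearEquivFunOnFinite A A (Fin n)).symm
  obtain ⟨S, hS⟩ := SkolemC.exists_family (phi α)
  refine ⟨S, inferInstance,
    fun k => LinearMap.toMatrixAlgEquiv' (k.1.1 : (Fin n → A) →ₗ[A] (Fin n → A)),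
    fun k => LinearMap.toMatrixAlgEquiv' (k.1.2 : (Fin n → A) →ₗ[A] (Fin n → A)),
    fun k => toMatrix_mem α k.1.1, fun k => toMatrix_mem_symm α k.1.2, ?_⟩
  have hid : ∑ p ∈ S, (p.2 : (Fin n → A) →ₗ[A] (Fin n → A)) ∘ₗ
      (p.1 : (Fin n → A) →ₗ[A] (Fin n → A)) = LinearMap.id := by
    apply LinearMap.ext
    intro y
    rw [LinearMap.sum_apply]
    exact hS y
  have h2 := congrArg LinearMap.toMatrixAlgEquiv' hid
  rw [map_sum, LinearMap.toMatrixAlgEquiv'_id] at h2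
  rw [← h2, ← Finset.sum_coe_sort S]
  exact Finset.sum_congr rfl (fun k _ => (LinearMap.toMatrixAlgEquiv'_comp _ _).symm)

/-- family A : `∑ l k * m k = 1` -/
theorem exists_famA [NeZero n] :
    ∃ (ι : Type u) (_ : Fintype ι) (l m : ι → Matrix (Fin n) (Fin n) A),
      (∀ k, l k ∈ Lm α) ∧ (∀ k, m k ∈ Lm α.symm) ∧ ∑ k, l k * m k = 1 := by
  obtain ⟨ι, hι, l, m, hl, hm, h⟩ := exists_famB α.symm
  refine ⟨ι, hι, m, l, fun k => ?_, hl, h⟩
  intro N
  have := hm k N
  rwa [AlgEquiv.symm_symm] at this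

end Groth.Agent.Helper29.PicTorsA
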