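import Mathlib
import Groth.Agent.Lib.Helper29.PicTorsA

set_option autoImplicit false

namespace Groth.Agent.Helper29.PicTorsB

open TensorProduct PicTorsA

universe u

variable {A : Type u} [CommRing A] {n : ℕ}
  (α : Matrix (Fin n) (Fin n) A ≃ₐ[A] Matrix (Fin n) (Fin n) A)

/-- the pairing `l ⊗ m ↦ (l * m) 0 0` -/
noncomputable def P [NeZero n] : Lm α ⊗[A] Lm α.symm →ₗ[A] A :=
  (Matrix.entryLinearMap A A (0 : Fin n) (0 : Fin n)) ∘ₗ
    (LinearMap.mul' A (Matrix (Fin n) (Fin n) A)) ∘ₗ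
      (TensorProduct.map (Lm α).subtype (Lm α.symm).subtype)

theorem P_tmul [NeZero n] (l : Lm α) (m : Lm α.symm) :
    P α (l ⊗ₜ m) = ((l : Matrix (Fin n) (Fin n) A) * (m : Matrix (Fin n) (Fin n) A)) 0 0 := by
  simp [P]

theorem P_smul [NeZero n] {ι : Type u} [Fintype ι] (l : ι → Lm α) (m : ι → Lm α.symm)
    (h : ∑ k, (l k : Matrix (Fin n) (Fin n) A) * (m k : Matrix (Fin n) (Fin n) A) = 1)
    (x : Lm α ⊗[A] Lm α.symm) : P α x • (∑ k, l k ⊗ₜ[A] m k) = x := by
  induction x using TensorProduct.induction_on with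
  | zero => simp
  | add x y hx hy => rw [map_add, add_smul, hx, hy]
  | tmul l0 m0 =>
    rw [P_tmul, Finset.smul_sum]
    have h1 : ∀ k, ((l0 : Matrix (Fin n) (Fin n) A) * (m0 : Matrix (Fin n) (Fin n) A)) 0 0 •
        (l k ⊗ₜ[A] m k) = l0 ⊗ₜ[A]
          ((((l k : Matrix (Fin n) (Fin n) A) * (m k : Matrix (Fin n) (Fin n) A)) 0 0) • m0) := by
      intro k
      have e1 : ((l0 : Matrix (Fin n) (Fin n) A) * (m0 : Matrix (Fin n) (Fin n) A)) 0 0 • l k =
          (((m0 : Matrix (Fin n) (Fin n) A) * (l k : Matrix (Fin n) (Fin n) A)) 0 0) • l0 := by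
        apply Subtype.ext
        change ((l0 : Matrix (Fin n) (Fin n) A) * (m0 : Matrix (Fin n) (Fin n) A)) 0 0 •
          (l k : Matrix (Fin n) (Fin n) A) =
          (((m0 : Matrix (Fin n) (Fin n) A) * (l k : Matrix (Fin n) (Fin n) A)) 0 0) •
          (l0 : Matrix (Fin n) (Fin n) A)
        calc ((l0 : Matrix (Fin n) (Fin n) A) * (m0 : Matrix (Fin n) (Fin n) A)) 0 0 •
              (l k : Matrix (Fin n) (Fin n) A)
            = ((l0 : Matrix (Fin n) (Fin n) A) * (m0 : Matrix (Fin n) (Fin n) A)) *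
              (l k : Matrix (Fin n) (Fin n) A) := by
              conv_rhs => rw [lm_scalar α l0.2 m0.2, smul_mul_assoc, one_mul]
          _ = (l0 : Matrix (Fin n) (Fin n) A) *
              ((m0 : Matrix (Fin n) (Fin n) A) * (l k : Matrix (Fin n) (Fin n) A)) := mul_assoc _ _ _
          _ = _ := by
              conv_lhs => rw [ml_scalar α (l k).2 m0.2, mul_smul_comm, mul_one]
      have e2 : (((m0 : Matrix (Fin n) (Fin n) A) * (l k : Matrix (Fin n) (Fin n) A)) 0 0) • m k =
          (((l k : Matrix (Fin n) (Fin n) A) * (m k : Matrix (Fin n) (Fin n) A)) 0 0) • m0 := by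
        apply Subtype.ext
        change (((m0 : Matrix (Fin n) (Fin n) A) * (l k : Matrix (Fin n) (Fin n) A)) 0 0) •
          (m k : Matrix (Fin n) (Fin n) A) =
          (((l k : Matrix (Fin n) (Fin n) A) * (m k : Matrix (Fin n) (Fin n) A)) 0 0) •
          (m0 : Matrix (Fin n) (Fin n) A)
        calc (((m0 : Matrix (Fin n) (Fin n) A) * (l k : Matrix (Fin n) (Fin n) A)) 0 0) •
              (m k : Matrix (Fin n) (Fin n) A)
            = ((m0 : Matrix (Fin n) (Fin n) A) * (l k : Matrix (Fin n) (Fin n) A)) *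
              (m k : Matrix (Fin n) (Fin n) A) := by
              conv_rhs => rw [ml_scalar α (l k).2 m0.2, smul_mul_assoc, one_mul]
          _ = (m0 : Matrix (Fin n) (Fin n) A) *
              ((l k : Matrix (Fin n) (Fin n) A) * (m k : Matrix (Fin n) (Fin n) A)) := mul_assoc _ _ _
          _ = _ := by
              conv_lhs => rw [lm_scalar α (l k).2 (m k).2, mul_smul_comm, mul_one]
      rw [TensorProduct.smul_tmul', e1, TensorProduct.smul_tmul, e2]
    rw [Finset.sum_congr rfl (fun k _ => h1 k), ← TensorProduct.tmul_sum, ← Finset.sum_smul]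
    have h2 : ∑ k, ((l k : Matrix (Fin n) (Fin n) A) * (m k : Matrix (Fin n) (Fin n) A)) 0 0 = 1 := by
      have := congrFun (congrFun h 0) 0
      rw [Matrix.sum_apply] at this
      simpa using this
    rw [h2, one_smul]

theorem P_bijective [NeZero n] : Function.Bijective (P α) := by
  obtain ⟨ι, hι, l, m, hl, hm, h⟩ := exists_famA α
  have hP := P_smul α (fun k => (⟨l k, hl k⟩ : Lm α)) (fun k => (⟨m k, hm k⟩ : Lm α.symm)) h
  constructor
  · rw [injective_iff_map_eq_zero]
    intro x hx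
    rw [← hP x, hx, zero_smul]
  · intro a
    refine ⟨a • ∑ k, (⟨l k, hl k⟩ : Lm α) ⊗ₜ[A] (⟨m k, hm k⟩ : Lm α.symm), ?_⟩
    rw [map_smul, map_sum]
    have h2 : ∑ k, (l k * m k) 0 0 = 1 := by
      have := congrFun (congrFun h 0) 0
      rw [Matrix.sum_apply] at this
      simpa using this
    simp only [P_tmul]
    rw [h2, smul_eq_mul, mul_one]

theorem invertible [NeZero n] : Module.Invertible A (Lm α) :=
  Module.Invertible.left (LinearEquiv.ofBijective (P α) (P_bijective α))

end Groth.Agent.Helper29.PicTorsB
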