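import Mathlib
import Groth.Agent.Lib.Helper29.PicTorsB

set_option autoImplicit false

namespace Groth.Agent.Helper29.PicTorsC

open TensorProduct PicTorsA PicTorsB

universe u

variable {A : Type u} [CommRing A] {n : ℕ}
  (α : Matrix (Fin n) (Fin n) A ≃ₐ[A] Matrix (Fin n) (Fin n) A)

/-- `i`-th row of an element -/
def rowMap (i : Fin n) : Lm α →ₗ[A] (Fin n → A) where
  toFun l := fun j => (l : Matrix (Fin n) (Fin n) A) i j
  map_add' := by intros; rfl
  map_smul' := by intros; rfl

/-- determinant of the matrix of `i`-th rows, as a multilinear map -/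
noncomputable def Dmul : MultilinearMap A (fun _ : Fin n => Lm α) A :=
  (Matrix.detRowAlternating (n := Fin n) (R := A)).toMultilinearMap.compLinearMap (rowMap α)

theorem Dmul_apply (l : Fin n → Lm α) :
    Dmul α l = Matrix.det (Matrix.of fun i j => (l i : Matrix (Fin n) (Fin n) A) i j) := rfl

/-- determinant map on the tensor power -/
noncomputable def D : (⨂[A] _ : Fin n, Lm α) →ₗ[A] A := PiTensorProduct.lift (Dmul α)

theorem D_tprod (l : Fin n → Lm α) :
    D α (PiTensorProduct.tprod A l) =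
      Matrix.det (Matrix.of fun i j => (l i : Matrix (Fin n) (Fin n) A) i j) := by
  rw [D, PiTensorProduct.lift.tprod, Dmul_apply]

/-- determinant of the matrix of `j`-th columns -/
noncomputable def D' (m : Fin n → Lm α.symm) : A :=
  Matrix.det (Matrix.of fun i j => (m j : Matrix (Fin n) (Fin n) A) i j)

theorem det_mul_det [NeZero n] (l : Fin n → Lm α) (m : Fin n → Lm α.symm) :
    Matrix.det (Matrix.of fun i j => (l i : Matrix (Fin n) (Fin n) A) i j) * D' α m =
      ∏ i, ((l i : Matrix (Fin n) (Fin n) A) * (m i : Matrix (Fin n) (Fin n) A)) 0 0 := by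
  rw [D', ← Matrix.det_mul]
  have : (Matrix.of fun i j => (l i : Matrix (Fin n) (Fin n) A) i j) *
      (Matrix.of fun i j => (m j : Matrix (Fin n) (Fin n) A) i j) =
      Matrix.diagonal
        (fun i => ((l i : Matrix (Fin n) (Fin n) A) * (m i : Matrix (Fin n) (Fin n) A)) 0 0) := by
    ext i j
    rw [Matrix.mul_apply]
    simp only [Matrix.of_apply]
    rw [← Matrix.mul_apply, lm_scalar α (l i).2 (m j).2]
    by_cases hij : i = j
    · subst hij
      simp
    · simp [Matrix.diagonal_apply_ne _ hij, Matrix.one_apply_ne hij]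
  rw [this, Matrix.det_diagonal]

theorem sum_smul_eq [NeZero n] {ι : Type u} [Fintype ι] (l : ι → Lm α) (m : ι → Lm α.symm)
    (h : ∑ k, (m k : Matrix (Fin n) (Fin n) A) * (l k : Matrix (Fin n) (Fin n) A) = 1)
    (f : Lm α) :
    ∑ k, (((f : Matrix (Fin n) (Fin n) A) * (m k : Matrix (Fin n) (Fin n) A)) 0 0) • l k = f := by
  apply Subtype.ext
  rw [Submodule.coe_sum]
  calc ∑ k, ((((f : Matrix (Fin n) (Fin n) A) * (m k : Matrix (Fin n) (Fin n) A)) 0 0) • l k : Lm α).1
      = ∑ k, (f : Matrix (Fin n) (Fin n) A) *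
          ((m k : Matrix (Fin n) (Fin n) A) * (l k : Matrix (Fin n) (Fin n) A)) := by
        refine Finset.sum_congr rfl (fun k _ => ?_)
        rw [← mul_assoc]
        conv_rhs => rw [lm_scalar α f.2 (m k).2, smul_mul_assoc, one_mul]
        rfl
    _ = (f : Matrix (Fin n) (Fin n) A) := by
        rw [← Finset.mul_sum, h, mul_one]

theorem D_smul [NeZero n] {ι : Type u} [Fintype ι] (l : ι → Lm α) (m : ι → Lm α.symm)
    (h : ∑ k, (m k : Matrix (Fin n) (Fin n) A) * (l k : Matrix (Fin n) (Fin n) A) = 1)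
    (x : ⨂[A] _ : Fin n, Lm α) :
    D α x • (∑ κ : Fin n → ι, D' α (fun j => m (κ j)) •
      PiTensorProduct.tprod A (fun i => l (κ i))) = x := by
  induction x using PiTensorProduct.induction_on with
  | add x y hx hy => rw [map_add, add_smul, hx, hy]
  | smul_tprod r f =>
    rw [map_smul, smul_eq_mul, mul_smul]
    congr 1
    rw [D_tprod, Finset.smul_sum]
    calc ∑ κ : Fin n → ι, Matrix.det (Matrix.of fun i j => (f i : Matrix (Fin n) (Fin n) A) i j) •
          D' α (fun j => m (κ j)) • PiTensorProduct.tprod A (fun i => l (κ i))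
        = ∑ κ : Fin n → ι, PiTensorProduct.tprod A (fun i =>
            (((f i : Matrix (Fin n) (Fin n) A) * (m (κ i) : Matrix (Fin n) (Fin n) A)) 0 0) •
              l (κ i)) := by
          refine Finset.sum_congr rfl (fun κ _ => ?_)
          rw [smul_smul, det_mul_det α f (fun j => m (κ j))]
          exact ((PiTensorProduct.tprod A).map_smul_univ
            (fun i => ((f i : Matrix (Fin n) (Fin n) A) * (m (κ i) : Matrix (Fin n) (Fin n) A)) 0 0)
            (fun i => l (κ i))).symm
      _ = PiTensorProduct.tprod A (fun i => ∑ k,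
            (((f i : Matrix (Fin n) (Fin n) A) * (m k : Matrix (Fin n) (Fin n) A)) 0 0) • l k) :=
          ((PiTensorProduct.tprod A).map_sum (fun i k =>
            (((f i : Matrix (Fin n) (Fin n) A) * (m k : Matrix (Fin n) (Fin n) A)) 0 0) • l k)).symm
      _ = PiTensorProduct.tprod A f := by
          congr 1
          funext i
          exact sum_smul_eq α l m h (f i)

theorem D_bijective [NeZero n] : Function.Bijective (D α) := by
  obtain ⟨ι, hι, l, m, hl, hm, h⟩ := exists_famB α
  obtain ⟨ι', hι', l', m', hl', hm', h'⟩ := exists_famA α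
  have hD := D_smul α (fun k => (⟨l k, hl k⟩ : Lm α)) (fun k => (⟨m k, hm k⟩ : Lm α.symm)) h
  constructor
  · rw [injective_iff_map_eq_zero]
    intro x hx
    rw [← hD x, hx, zero_smul]
  · intro a
    refine ⟨a • ∑ κ : Fin n → ι', D' α (fun j => (⟨m' (κ j), hm' (κ j)⟩ : Lm α.symm)) •
      PiTensorProduct.tprod A (fun i => (⟨l' (κ i), hl' (κ i)⟩ : Lm α)), ?_⟩
    rw [map_smul, map_sum]
    have h2 : ∑ k, (l' k * m' k) 0 0 = 1 := by
      have := congrFun (congrFun h' 0) 0
      rw [Matrix.sum_apply] at this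
      simpa using this
    have h3 : ∀ κ : Fin n → ι', D α (D' α (fun j => (⟨m' (κ j), hm' (κ j)⟩ : Lm α.symm)) •
        PiTensorProduct.tprod A (fun i => (⟨l' (κ i), hl' (κ i)⟩ : Lm α))) =
        ∏ i, (l' (κ i) * m' (κ i)) 0 0 := by
      intro κ
      rw [map_smul, D_tprod, smul_eq_mul, mul_comm]
      exact det_mul_det α (fun i => (⟨l' (κ i), hl' (κ i)⟩ : Lm α))
        (fun j => (⟨m' (κ j), hm' (κ j)⟩ : Lm α.symm))
    rw [Finset.sum_congr rfl (fun κ _ => h3 κ)]
    have h4 : ∑ κ : Fin n → ι', ∏ i, (l' (κ i) * m' (κ i)) 0 0 =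
        ∏ _i : Fin n, ∑ k, (l' k * m' k) 0 0 := by
      rw [Finset.prod_univ_sum]
      rfl
    rw [h4, h2, Finset.prod_const_one, smul_eq_mul, mul_one]

universe v

theorem mem_ker_iff (M : Matrix (Fin n) (Fin n) A) :
    M ∈ LinearMap.ker (LinearMap.mul A (Matrix (Fin n) (Fin n) A) -
      (LinearMap.lcomp A (Matrix (Fin n) (Fin n) A) α.toLinearMap).comp
        (LinearMap.mul A (Matrix (Fin n) (Fin n) A)).flip) ↔ M ∈ Lm α := by
  rw [LinearMap.mem_ker, mem_Lm, LinearMap.sub_apply, sub_eq_zero]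
  constructor
  · intro h N
    have := LinearMap.congr_fun h N
    simpa using this
  · intro h
    apply LinearMap.ext
    intro N
    simpa using h N

theorem main13797 (A : Type u) [CommRing A] (n : ℕ) (hn : 0 < n)
    (α : Matrix (Fin n) (Fin n) A ≃ₐ[A] Matrix (Fin n) (Fin n) A) :
    Module.Invertible A
        (LinearMap.ker (LinearMap.mul A (Matrix (Fin n) (Fin n) A) -
          (LinearMap.lcomp A (Matrix (Fin n) (Fin n) A) α.toLinearMap).comp (LinearMap.mul A (Matrix (Fin n) (Fin n) A)).flip)) ∧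
      Nonempty ((⨂[A] _ : Fin n,
          LinearMap.ker (LinearMap.mul A (Matrix (Fin n) (Fin n) A) -
            (LinearMap.lcomp A (Matrix (Fin n) (Fin n) A) α.toLinearMap).comp (LinearMap.mul A (Matrix (Fin n) (Fin n) A)).flip)) ≃ₗ[A] A) := by
  have hne : NeZero n := ⟨hn.ne'⟩
  have hker : LinearMap.ker (LinearMap.mul A (Matrix (Fin n) (Fin n) A) -
      (LinearMap.lcomp A (Matrix (Fin n) (Fin n) A) α.toLinearMap).comp
        (LinearMap.mul A (Matrix (Fin n) (Fin n) A)).flip) = Lm α :=
    Submodule.ext (mem_ker_iff α)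
  rw [hker]
  exact ⟨invertible α, ⟨LinearEquiv.ofBijective (D α) (D_bijective α)⟩⟩

end Groth.Agent.Helper29.PicTorsC
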