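import Mathlib
import Groth.Prelude.Def_GLin
import Groth.Prelude.Def_HopfRep

set_option autoImplicit false
universe u v w

namespace Groth.Agent.Helper29.PolyInv

open TensorProduct

variable {k : Type u} [Field k] {A : Type v} [CommRing A] [Bialgebra k A]
  {R : Type w} [CommRing R] [Algebra k R]

/-- the `n`-th coefficient as a `k`-linear map -/
noncomputable def coeffL (n : ℕ) : Polynomial R →ₗ[k] R where
  toFun p := p.coeff n
  map_add' p q := Polynomial.coeff_add p q n
  map_smul' c p := Polynomial.coeff_smul c p n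

theorem coeffT_mul (n m : ℕ) (z : R ⊗[k] A) (a : A) :
    LinearMap.rTensor A (coeffL (k := k) (R := R) n)
      (Algebra.TensorProduct.map (Polynomial.CAlgHom : R →ₐ[k] Polynomial R) (AlgHom.id k A) z *
        (((Polynomial.X : Polynomial R) ^ m) ⊗ₜ[k] a)) =
      if n = m then z * ((1 : R) ⊗ₜ[k] a) else 0 := by
  induction z using TensorProduct.induction_on with
  | zero => simp
  | tmul r b =>
    rw [Algebra.TensorProduct.map_tmul, Algebra.TensorProduct.tmul_mul_tmul,
      LinearMap.rTensor_tmul]
    have : coeffL (k := k) (R := R) n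
        ((Polynomial.CAlgHom : R →ₐ[k] Polynomial R) r * Polynomial.X ^ m) =
        if n = m then r else 0 := by
      show (Polynomial.C r * Polynomial.X ^ m).coeff n = _
      rw [Polynomial.coeff_C_mul_X_pow]
    rw [this]
    split_ifs
    · simp
    · simp
  | add y z hy hz =>
    rw [map_add, add_mul, map_add, hy, hz]
    split_ifs
    · rw [add_mul]
    · simp

section Main

variable [HopfRep.Comod k A R] [GLin.IsCoactAlg k A R]
    [HopfRep.Comod k A (Polynomial R)] [GLin.IsCoactAlg k A (Polynomial R)]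
    (χ χ' : A) (hχχ' : χ * χ' = 1)
    (hC : ∀ r : R, HopfRep.Comod.coact (k := k) (A := A) (Polynomial.C r) =
      Algebra.TensorProduct.map (Polynomial.CAlgHom : R →ₐ[k] Polynomial R) (AlgHom.id k A)
        (HopfRep.Comod.coact (k := k) (A := A) r))
    (hX : HopfRep.Comod.coact (k := k) (A := A) (Polynomial.X : Polynomial R) =
      Polynomial.X ⊗ₜ[k] χ')

include hC hX

omit [GLin.IsCoactAlg k A R] in
theorem expand (g : Polynomial R) :
    HopfRep.Comod.coact (k := k) (A := A) g =
      ∑ n ∈ Finset.range (g.natDegree + 1),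
        Algebra.TensorProduct.map (Polynomial.CAlgHom : R →ₐ[k] Polynomial R) (AlgHom.id k A)
          (HopfRep.Comod.coact (k := k) (A := A) (g.coeff n)) *
          (((Polynomial.X : Polynomial R) ^ n) ⊗ₜ[k] (χ' ^ n)) := by
  conv_lhs => rw [Polynomial.as_sum_range_C_mul_X_pow g]
  rw [← GLin.coactAlgHom_apply, map_sum]
  refine Finset.sum_congr rfl fun n _ => ?_
  rw [map_mul, map_pow, GLin.coactAlgHom_apply, GLin.coactAlgHom_apply, hC, hX,
    Algebra.TensorProduct.tmul_pow]

include hχχ'

omit [GLin.IsCoactAlg k A R] in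
theorem main (g : Polynomial R) :
    g ∈ GLin.invariants k A (Polynomial R) ↔
      ∀ r : ℕ, g.coeff r ∈ HopfRep.eigenspace k A R (χ ^ r) := by
  have hpow : ∀ n : ℕ, χ' ^ n * χ ^ n = 1 := by
    intro n
    rw [← mul_pow, mul_comm, hχχ', one_pow]
  rw [GLin.mem_invariants_iff]
  constructor
  · intro hg n
    show HopfRep.Comod.coact (k := k) (A := A) (g.coeff n) = g.coeff n ⊗ₜ[k] (χ ^ n)
    have h1 := congrArg (LinearMap.rTensor A (coeffL (k := k) (R := R) n)) hg
    rw [expand χ' hC hX g, map_sum] at h1
    simp only [coeffT_mul] at h1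
    rw [Finset.sum_ite_eq, LinearMap.rTensor_tmul] at h1
    have hc : coeffL (k := k) (R := R) n g = g.coeff n := rfl
    rw [hc] at h1
    have h2 : HopfRep.Comod.coact (k := k) (A := A) (g.coeff n) * ((1 : R) ⊗ₜ[k] (χ' ^ n)) =
        g.coeff n ⊗ₜ[k] (1 : A) := by
      rw [← h1]
      split_ifs with hn
      · rfl
      · have : g.coeff n = 0 := by
          apply Polynomial.coeff_eq_zero_of_natDegree_lt
          simp only [Finset.mem_range] at hn
          omega
        rw [this, map_zero, zero_mul]
    have h3 := congrArg (fun z => z * ((1 : R) ⊗ₜ[k] (χ ^ n))) h2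
    simp only [mul_assoc, Algebra.TensorProduct.tmul_mul_tmul, one_mul, mul_one, hpow] at h3
    rw [← Algebra.TensorProduct.one_def, mul_one] at h3
    exact h3
  · intro h
    rw [expand χ' hC hX g]
    have hterm : ∀ n ∈ Finset.range (g.natDegree + 1),
        Algebra.TensorProduct.map (Polynomial.CAlgHom : R →ₐ[k] Polynomial R) (AlgHom.id k A)
          (HopfRep.Comod.coact (k := k) (A := A) (g.coeff n)) *
          (((Polynomial.X : Polynomial R) ^ n) ⊗ₜ[k] (χ' ^ n)) =
        (Polynomial.C (g.coeff n) * Polynomial.X ^ n) ⊗ₜ[k] (1 : A) := by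
      intro n _
      have hn : HopfRep.Comod.coact (k := k) (A := A) (g.coeff n) = g.coeff n ⊗ₜ[k] (χ ^ n) := h n
      rw [hn, Algebra.TensorProduct.map_tmul, Algebra.TensorProduct.tmul_mul_tmul]
      have : χ ^ n * χ' ^ n = 1 := by rw [mul_comm]; exact hpow n
      simp [this]
    rw [Finset.sum_congr rfl hterm, ← TensorProduct.sum_tmul,
      ← Polynomial.as_sum_range_C_mul_X_pow g]

end Main

end Groth.Agent.Helper29.PolyInv
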