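import Mathlib

/-!
# The profinite completion of a discrete group is the fundamental group of finite `G`-sets
-/

set_option linter.unusedSectionVars false

namespace Groth.Agent.Helper29.ProfCompAut

open CategoryTheory PreGaloisCategory ProfiniteGrp ProfiniteGrp.ProfiniteCompletion

universe u

variable (G : Type u) [Group G]

/-- the profinite completion -/
abbrev Ghat : ProfiniteGrp.{u} := completion (GrpCat.of G)

variable {G}

/-- `Perm X.V` as a profinite group -/
noncomputable def permP (X : Action FintypeCat.{u} G) : ProfiniteGrp.{u} :=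
  ProfiniteGrp.ofFiniteGrp (FiniteGrp.of (Equiv.Perm X.V))

instance (X : Action FintypeCat.{u} G) : DiscreteTopology (permP X) := ⟨rfl⟩

/-- the extension of the permutation representation to the completion -/
noncomputable def rhoHat (X : Action FintypeCat.{u} G) : Ghat G ⟶ permP X :=
  lift (GrpCat.ofHom (MulAction.toPermHom G X.V))

theorem rhoHat_eta (X : Action FintypeCat.{u} G) (g : G) :
    rhoHat X (etaFn (GrpCat.of G) g) = MulAction.toPermHom G X.V g := by
  have h := lift_eta (G := GrpCat.of G) (P := permP X) (GrpCat.ofHom (MulAction.toPermHom G X.V))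
  exact ConcreteCategory.congr_hom h g

theorem rhoHat_continuous (X : Action FintypeCat.{u} G) : Continuous (rhoHat X) :=
  (rhoHat X).hom.continuous_toFun

/-- extension by density -/
theorem dense_ext {α : Type*} [TopologicalSpace α] [T2Space α] (f₁ f₂ : Ghat G → α)
    (h₁ : Continuous f₁) (h₂ : Continuous f₂)
    (h : ∀ g, f₁ (etaFn (GrpCat.of G) g) = f₂ (etaFn (GrpCat.of G) g)) : f₁ = f₂ :=
  (denseRange (GrpCat.of G)).equalizer h₁ h₂ (funext h)

/-- the underlying permutation -/
noncomputable def asPerm (X : Action FintypeCat.{u} G) : permP X →* Equiv.Perm X.V := MonoidHom.id _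

/-- the extension of the permutation representation to the completion, as a monoid hom -/
noncomputable def rhoHatHom (X : Action FintypeCat.{u} G) : Ghat G →* Equiv.Perm X.V :=
  (asPerm X).comp (rhoHat X).hom.toMonoidHom

theorem rhoHatHom_eta (X : Action FintypeCat.{u} G) (g : G) :
    rhoHatHom X (etaFn (GrpCat.of G) g) = MulAction.toPermHom G X.V g :=
  rhoHat_eta X g

theorem rhoHatHom_continuous (X : Action FintypeCat.{u} G) (x : X.V) {α : Type*}
    [TopologicalSpace α] (f : X.V → α) :
    Continuous (fun g : Ghat G => f (rhoHatHom X g x)) := by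
  have h1 : Continuous (fun σ : permP X => f (asPerm X σ x)) := continuous_of_discreteTopology
  exact h1.comp (rhoHat_continuous X)

/-- the action of the completion on a finite `G`-set -/
noncomputable instance actionHat (X : Action FintypeCat.{u} G) :
    MulAction (Ghat G) ((Action.forget FintypeCat.{u} G).obj X) where
  smul g x := rhoHatHom X g x
  one_smul x := by
    show rhoHatHom X (1 : Ghat G) x = x
    rw [map_one]; rfl
  mul_smul g h x := by
    show rhoHatHom X (g * h) x = rhoHatHom X g (rhoHatHom X h x)
    rw [map_mul]; rfl

theorem smul_def (X : Action FintypeCat.{u} G) (g : Ghat G)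
    (x : (Action.forget FintypeCat.{u} G).obj X) :
    g • x = rhoHatHom X g x := rfl

theorem eta_smul (X : Action FintypeCat.{u} G) (g : G)
    (x : (Action.forget FintypeCat.{u} G).obj X) :
    etaFn (GrpCat.of G) g • x = (X.ρ g).hom x := by
  rw [smul_def, rhoHatHom_eta]
  rfl

theorem continuous_smul_left (X : Action FintypeCat.{u} G)
    (x : (Action.forget FintypeCat.{u} G).obj X) :
    Continuous (fun g : Ghat G => g • x) :=
  rhoHatHom_continuous (α := (Action.forget FintypeCat.{u} G).obj X) X x (fun y => y)

instance natSMul : IsNaturalSMul (Action.forget FintypeCat.{u} G) (Ghat G) where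
  naturality g {X Y} f x := by
    have key := dense_ext (G := G) (α := (Action.forget FintypeCat.{u} G).obj Y)
      (fun g => (Action.forget FintypeCat.{u} G).map f (g • x))
      (fun g => g • (Action.forget FintypeCat.{u} G).map f x)
      ((continuous_of_discreteTopology).comp (continuous_smul_left X x))
      (continuous_smul_left Y _) ?_
    · exact congrFun key g
    · intro g
      simp only [eta_smul]
      have := f.comm g
      exact congrArg (fun φ => φ.hom x) this

/-- the finite `G`-set `G/H` -/
noncomputable def quotObj (H : FiniteIndexNormalSubgroup G) : Action FintypeCat.{u} G :=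
  let _ : Fintype (G ⧸ H.toSubgroup) := Fintype.ofFinite _
  Action.FintypeCat.ofMulAction G (FintypeCat.of (G ⧸ H.toSubgroup))

/-- the base point of `G/H` -/
noncomputable def basePt (H : FiniteIndexNormalSubgroup G) :
    (Action.forget FintypeCat.{u} G).obj (quotObj H) :=
  (QuotientGroup.mk (1 : G) : G ⧸ H.toSubgroup)

theorem smul_basePt (H : FiniteIndexNormalSubgroup G) (g : Ghat G) :
    (g • basePt H : G ⧸ H.toSubgroup) = g.val H := by
  have key := dense_ext (G := G) (α := (diagram (GrpCat.of G)).obj H)
    (fun g => (g • basePt H : G ⧸ H.toSubgroup))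
    (fun g => g.val H)
    (rhoHatHom_continuous (α := (diagram (GrpCat.of G)).obj H) (quotObj H) (basePt H) (fun y => y))
    ((continuous_apply H).comp continuous_subtype_val) ?_
  · exact congrFun key g
  · intro g
    show (etaFn (GrpCat.of G) g • basePt H : G ⧸ H.toSubgroup) = QuotientGroup.mk g
    rw [eta_smul]
    show (QuotientGroup.mk (g * 1) : G ⧸ H.toSubgroup) = QuotientGroup.mk g
    rw [mul_one]

theorem eq_one_of_trivial (g : Ghat G)
    (h : ∀ (X : Action FintypeCat.{u} G) (x : (Action.forget FintypeCat.{u} G).obj X), g • x = x) :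
    g = 1 := by
  apply ProfiniteGrp.limit_ext
  intro H
  rw [← smul_basePt, h]
  rfl

instance fundGrp : IsFundamentalGroup (Action.forget FintypeCat.{u} G) (Ghat G) where
  transitive_of_isGalois X _ := by
    have : MulAction.IsPretransitive G X.V := FintypeCat.Action.pretransitive_of_isConnected G X
    constructor
    intro x y
    obtain ⟨g, hg⟩ := MulAction.exists_smul_eq (α := X.V) G x y
    exact ⟨etaFn _ g, by rw [eta_smul]; exact hg⟩
  continuous_smul X := ⟨by
    rw [continuous_prod_of_discrete_right]
    intro x
    exact continuous_smul_left X x⟩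
  non_trivial' g h := eq_one_of_trivial g h

theorem main (G : Type u) [Group G] :
    ∃ φ : (ProfiniteGrp.ProfiniteCompletion.completion (GrpCat.of G)) ≃ₜ*
        Aut (Action.forget FintypeCat.{u} G),
      ∀ (g : G) (X : Action FintypeCat.{u} G) (x : X.V),
        (φ (ProfiniteGrp.ProfiniteCompletion.etaFn (GrpCat.of G) g)).hom.app X x =
          (X.ρ g).hom x := by
  have hH := toAutMulEquiv_isHomeomorph (Action.forget FintypeCat.{u} G) (Ghat G)
  refine ⟨{ toAutMulEquiv (Action.forget FintypeCat.{u} G) (Ghat G) with
    continuous_toFun := hH.continuous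
    continuous_invFun := ?_ }, ?_⟩
  · exact hH.homeomorph.symm.continuous
  · intro g X x
    exact eta_smul X g x

end Groth.Agent.Helper29.ProfCompAut
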