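import Mathlib
import Groth.Prelude.Def_ModSite

/-!
# Helper29.PullGenA : pullback of modules along a morphism of ringed spaces preserves
"locally generated by sections"
-/

open CategoryTheory Limits Opposite TopologicalSpace

namespace Groth.Agent.Helper29.PullGenA

universe u

section general

variable {C : Type u} [SmallCategory C] {U : C} {R : (Over U)ᵒᵖ ⥤ RingCat.{u}}

/-- sections of a presheaf of modules on `C/U` are its values at the terminal object -/
noncomputable def secTerm (P : PresheafOfModules.{u} R) :
    P.sections ≃ P.obj (op (Over.mk (𝟙 U))) where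
  toFun s := s.1 (op (Over.mk (𝟙 U)))
  invFun p := PresheafOfModules.sectionsMk
    (fun Y => P.map (Over.homMk Y.unop.hom : Y.unop ⟶ Over.mk (𝟙 U)).op p)
    (fun Y Y' k => by
      have hk : (Over.homMk Y.unop.hom : Y.unop ⟶ Over.mk (𝟙 U)).op ≫ k =
          (Over.homMk Y'.unop.hom : Y'.unop ⟶ Over.mk (𝟙 U)).op := by
        apply Quiver.Hom.unop_inj
        apply Over.OverMorphism.ext
        simp
      rw [← PresheafOfModules.map_comp_apply]
      exact PresheafOfModules.congr_map_apply P hk p)
  left_inv s := by
    apply PresheafOfModules.sections_ext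
    intro Y
    exact PresheafOfModules.sections_property s _
  right_inv p := by
    change P.map (Over.homMk (𝟙 U) : Over.mk (𝟙 U) ⟶ Over.mk (𝟙 U)).op p = p
    have : (Over.homMk (𝟙 U) : Over.mk (𝟙 U) ⟶ Over.mk (𝟙 U)) = 𝟙 _ := rfl
    rw [this]
    exact (PresheafOfModules.congr_map_apply P (op_id) p).trans
      (CategoryTheory.congr_fun (P.presheaf.map_id _) p)

end general

section top

variable {X Y : TopCat.{u}} (f : X ⟶ Y) (O_X : Sheaf (Opens.grothendieckTopology X) CommRingCat.{u})
  (O_Y : Sheaf (Opens.grothendieckTopology Y) CommRingCat.{u})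
  (c : O_Y ⟶ ((TopologicalSpace.Opens.map f).sheafPushforwardContinuous CommRingCat.{u}
      (Opens.grothendieckTopology Y) (Opens.grothendieckTopology X)).obj O_X)

/-- the morphism of ringed sites -/
noncomputable abbrev FF : ModSite.RMor O_X O_Y := ModSite.RMor.ofFlat (TopologicalSpace.Opens.map f) c

/-- `j_{U*}` -/
noncomputable abbrev jU (U : Opens X) :
    SheafOfModules.{u} ((ModSite.ringSh O_X).over U) ⥤ SheafOfModules.{u} (ModSite.ringSh O_X) :=
  SheafOfModules.pushforward.{u} (SheafOfModules.pushforwardOver (R := ModSite.ringSh O_X) U)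

/-- the comparison morphism in `Over U` which is an isomorphism -/
noncomputable def starMap (V W : Opens Y) :
    (Over.star ((Opens.map f).obj V)).obj ((Opens.map f).obj (W ⊓ V)) ⟶
      (Over.star ((Opens.map f).obj V)).obj ((Opens.map f).obj W) :=
  (Over.star ((Opens.map f).obj V)).map ((Opens.map f).map (homOfLE inf_le_left))

theorem map_inf_le (V W : Opens Y) :
    (Opens.map f).obj W ⊓ (Opens.map f).obj V ≤ (Opens.map f).obj (W ⊓ V) :=
  fun _ hx => hx

noncomputable def starInv (V W : Opens Y) :
    (Over.star ((Opens.map f).obj V)).obj ((Opens.map f).obj W) ⟶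
      (Over.star ((Opens.map f).obj V)).obj ((Opens.map f).obj (W ⊓ V)) :=
  Over.homMk (prod.lift prod.fst (homOfLE (le_trans (le_inf
      (leOfHom (prod.snd : (Opens.map f).obj V ⨯ (Opens.map f).obj W ⟶ _))
      (leOfHom (prod.fst : (Opens.map f).obj V ⨯ (Opens.map f).obj W ⟶ _)))
      (map_inf_le f V W)))) (Subsingleton.elim _ _)

theorem star_comp_inv (V W : Opens Y) : starMap f V W ≫ starInv f V W = 𝟙 _ := by
  apply Over.OverMorphism.ext
  exact Subsingleton.elim _ _

theorem star_inv_comp (V W : Opens Y) : starInv f V W ≫ starMap f V W = 𝟙 _ := by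
  apply Over.OverMorphism.ext
  exact Subsingleton.elim _ _

/-- restriction from `W` to `W ⊓ V` is injective on sections of `f_* j_{U*} Q`. -/
theorem restr_injective (V W : Opens Y)
    (Q : SheafOfModules.{u} ((ModSite.ringSh O_X).over ((Opens.map f).obj V)))
    (z : ((FF f O_X O_Y c).push.obj ((jU O_X ((Opens.map f).obj V)).obj Q)).val.obj (op W))
    (hz : ((FF f O_X O_Y c).push.obj ((jU O_X ((Opens.map f).obj V)).obj Q)).val.map
      (homOfLE (inf_le_left : W ⊓ V ≤ W)).op z = 0) : z = 0 := by
  have h1 : Q.val.map (starMap f V W).op z = 0 := hz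
  have h2 : Q.val.map (starInv f V W).op (Q.val.map (starMap f V W).op z) = z := by
    rw [← PresheafOfModules.map_comp_apply]
    have h3 : (starMap f V W).op ≫ (starInv f V W).op = 𝟙 _ := by
      rw [← op_comp, star_inv_comp, op_id]
    rw [PresheafOfModules.congr_map_apply Q.val h3]
    exact CategoryTheory.congr_fun (Q.val.presheaf.map_id _) z
  rw [← h2, h1]
  exact (Q.val.map (starInv f V W).op).hom.map_zero

/-- A morphism into `f_* j_{U*} Q` which vanishes over `V` vanishes. -/
theorem eq_zero_of_over (V : Opens Y)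
    (Q : SheafOfModules.{u} ((ModSite.ringSh O_X).over ((Opens.map f).obj V)))
    (G : ModSite.Mod O_Y)
    (g : G ⟶ (FF f O_X O_Y c).push.obj ((jU O_X ((Opens.map f).obj V)).obj Q))
    (hg : ∀ (W : Opens Y) (_ : W ≤ V) (x : G.val.obj (op W)), g.val.app (op W) x = 0) : g = 0 := by
  ext W x
  obtain ⟨W⟩ := W
  apply restr_injective f O_X O_Y c V W Q
  have nat := PresheafOfModules.naturality_apply g.val (homOfLE (inf_le_left : W ⊓ V ≤ W)).op x
  rw [← nat]
  exact hg (W ⊓ V) inf_le_right _

section transpose

variable (U : Opens X) (M : SheafOfModules.{u} (ModSite.ringSh O_X))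
  (Q : SheafOfModules.{u} ((ModSite.ringSh O_X).over U))

/-- the map to the terminal object of `Over U` -/
noncomputable def tau : (Over.star U).obj U ⟶ Over.mk (𝟙 U) :=
  Over.homMk ((Over.star U).obj U).hom (by simp)

/-- the adjunction `restriction ⊣ j_{U*}` -/
noncomputable abbrev adjU :
    SheafOfModules.pushforward.{u} (𝟙 ((ModSite.ringSh O_X).over U)) ⊣ jU O_X U :=
  SheafOfModules.overPushforwardOverAdj (R := ModSite.ringSh O_X) U

theorem transpose_app (q : M.over U ⟶ Q) (y : M.val.obj (op U)) :
    (((adjU O_X U).homEquiv M Q) q).val.app (op U) y =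
      Q.val.map (tau U).op (q.val.app (op (Over.mk (𝟙 U))) y) := by
  rw [Adjunction.homEquiv_unit]
  change q.val.app (op ((Over.star U).obj U))
    (M.val.map ((Over.forgetAdjStar U).counit.app U).op y) = _
  have h1 : M.val.map ((Over.forgetAdjStar U).counit.app U).op y =
      (M.over U).val.map (tau U).op y := by
    change _ = M.val.map ((Over.forget U).map (tau U)).op y
    exact PresheafOfModules.congr_map_apply M.val
      (congrArg Quiver.Hom.op (Subsingleton.elim _ _)) y
  rw [h1]
  exact PresheafOfModules.naturality_apply q.val (tau U).op y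

end transpose

section gen

variable (V : Opens Y) (G : ModSite.Mod O_Y)

/-- the section of `(f^* G)|_U` induced by a section of `G|_V` -/
noncomputable def pullSec (s : (G.over V).sections) :
    (((FF f O_X O_Y c).pull.obj G).over ((Opens.map f).obj V)).sections :=
  (secTerm (((FF f O_X O_Y c).pull.obj G).over ((Opens.map f).obj V)).val).symm
    ((((FF f O_X O_Y c).adj.unit.app G).val.app (op V)) (secTerm (G.over V).val s))

theorem pullSec_term (s : (G.over V).sections) :
    (pullSec f O_X O_Y c V G s).1 (op (Over.mk (𝟙 ((Opens.map f).obj V)))) =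
      (((FF f O_X O_Y c).adj.unit.app G).val.app (op V)) (s.1 (op (Over.mk (𝟙 V)))) :=
  (secTerm (((FF f O_X O_Y c).pull.obj G).over ((Opens.map f).obj V)).val).apply_symm_apply _

/-- The pulled-back sections generate. -/
theorem epi_pullGen (σ : (G.over V).GeneratingSections) :
    Epi ((((FF f O_X O_Y c).pull.obj G).over ((Opens.map f).obj V)).freeHomEquiv.symm
      (fun i => pullSec f O_X O_Y c V G (σ.s i))) := by
  apply Preadditive.epi_of_cancel_zero
  intro Q q hq
  -- (a) `q` kills the generating sections at the terminal object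
  have ha : ∀ i, q.val.app (op (Over.mk (𝟙 ((Opens.map f).obj V))))
      ((((FF f O_X O_Y c).adj.unit.app G).val.app (op V)) ((σ.s i).1 (op (Over.mk (𝟙 V))))) = 0 := by
    intro i
    have h1 := congrFun (congrArg (Q.freeHomEquiv) hq) i
    rw [SheafOfModules.freeHomEquiv_comp_apply, Equiv.apply_symm_apply] at h1
    have h2 := congrArg (fun t : Q.sections => t.1 (op (Over.mk (𝟙 ((Opens.map f).obj V))))) h1
    change q.val.app _ ((pullSec f O_X O_Y c V G (σ.s i)).1 _) = _ at h2
    rw [pullSec_term] at h2
    rw [h2]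
    rfl
  -- (b) transposes
  let q' := ((adjU O_X ((Opens.map f).obj V)).homEquiv _ _) q
  let q'' := ((FF f O_X O_Y c).adj.homEquiv _ _) q'
  -- (c) `q''` vanishes over `V`
  have hover : (SheafOfModules.overFunctor (ModSite.ringSh O_Y) V).map q'' = 0 := by
    rw [← cancel_epi σ.π, comp_zero]
    apply (SheafOfModules.freeHomEquiv _).injective
    funext i
    rw [SheafOfModules.freeHomEquiv_comp_apply, Equiv.apply_symm_apply]
    apply (secTerm _).injective
    change q''.val.app (op V) ((σ.s i).1 (op (Over.mk (𝟙 V)))) = _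
    have h3 : q''.val.app (op V) ((σ.s i).1 (op (Over.mk (𝟙 V)))) =
        q'.val.app (op ((Opens.map f).obj V))
          ((((FF f O_X O_Y c).adj.unit.app G).val.app (op V)) ((σ.s i).1 (op (Over.mk (𝟙 V))))) := by
      change (((FF f O_X O_Y c).adj.homEquiv _ _) q').val.app (op V) _ = _
      rw [Adjunction.homEquiv_unit]
      rfl
    rw [h3, transpose_app, ha i, map_zero]
    rfl
  have hc : ∀ (W : Opens Y) (hW : W ≤ V) (x : G.val.obj (op W)), q''.val.app (op W) x = 0 := by
    intro W hW x
    have := congrArg (fun t => t.val.app (op (Over.mk (homOfLE hW))) x) hover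
    exact this
  have h0 : q'' = 0 := eq_zero_of_over f O_X O_Y c V Q G q'' hc
  have h0' : q' = 0 := by
    have : q' = ((FF f O_X O_Y c).adj.homEquiv _ _).symm q'' := (Equiv.symm_apply_apply _ _).symm
    rw [this, h0, Adjunction.homEquiv_counit, Functor.map_zero, zero_comp]
  have : q = ((adjU O_X ((Opens.map f).obj V)).homEquiv _ _).symm q' :=
    (Equiv.symm_apply_apply _ _).symm
  rw [this, h0', Adjunction.homEquiv_counit, Functor.map_zero, zero_comp]
  rfl

/-- generating sections of `(f^* G)|_U` from generating sections of `G|_V` -/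
noncomputable def pullGen (σ : (G.over V).GeneratingSections) :
    (((FF f O_X O_Y c).pull.obj G).over ((Opens.map f).obj V)).GeneratingSections where
  I := σ.I
  s := fun i => pullSec f O_X O_Y c V G (σ.s i)
  epi := epi_pullGen f O_X O_Y c V G σ

end gen

theorem coversTop_preimage {I : Type u} (Z : I → Opens Y)
    (h : (Opens.grothendieckTopology Y).CoversTop Z) :
    (Opens.grothendieckTopology X).CoversTop (fun i => (Opens.map f).obj (Z i)) := by
  intro W
  intro x hx
  obtain ⟨U', g, ⟨i, ⟨k⟩⟩, hfx⟩ := h ⊤ (f x) trivial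
  refine ⟨W ⊓ (Opens.map f).obj (Z i), homOfLE inf_le_left, ⟨i, ⟨homOfLE inf_le_right⟩⟩, ⟨hx, ?_⟩⟩
  exact leOfHom k hfx

/-- The main theorem. -/
theorem main (G : ModSite.Mod O_Y)
    (hG : Nonempty (SheafOfModules.LocalGeneratorsData.{u} (R := ModSite.ringSh O_Y) G)) :
    Nonempty (SheafOfModules.LocalGeneratorsData.{u} (R := ModSite.ringSh O_X)
      ((FF f O_X O_Y c).pull.obj G)) := by
  obtain ⟨p⟩ := hG
  exact ⟨{ I := p.I
           X := fun i => (Opens.map f).obj (p.X i)
           coversTop := coversTop_preimage f p.X p.coversTop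
           generators := fun i => pullGen f O_X O_Y c (p.X i) G (p.generators i) }⟩

end top

end Groth.Agent.Helper29.PullGenA
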