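import Mathlib
import Groth.Agent.Lib.Helper29.QBD

set_option autoImplicit false
universe u
open CategoryTheory CategoryTheory.Limits AlgebraicGeometry Opposite TopologicalSpace

namespace Groth.Agent.Helper29.QBE

open Groth.Agent.Helper29.QBA Groth.Agent.Helper29.QBB Groth.Agent.Helper29.QBC
  Groth.Agent.Helper29.QBD

variable {X : Scheme.{u}} {R : Sheaf (Opens.grothendieckTopology X) RingCat.{u}}
  (ψ : X.ringCatSheaf ⟶ R)

/-- generating sections of `F.over U` from those of `FU U F`. -/
noncomputable def gensOver (U : X.Opens) (F : SheafOfModules.{u} R)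
    (G : (FU U F).GeneratingSections) : (F.over U).GeneratingSections := by
  let e := eR (R := R) U
  have : PreservesColimitsOfSize.{u, u} e.inverse := inferInstance
  exact (G.map e.inverse (U.sheafOfModulesEquivOverInverseUnit R).symm).ofEpi
    (e.unitIso.app (F.over U)).inv

theorem key_gen (hB : ((ρ ψ).obj (SheafOfModules.unit R)).IsQuasicoherent)
    (F : SheafOfModules.{u} R) (hF : ((ρ ψ).obj F).IsQuasicoherent)
    (hfg : ∀ V : X.affineOpens, ∃ T : Finset (F.val.obj (op V.1)),
      Submodule.span (R.obj.obj (op V.1)) (T : Set (F.val.obj (op V.1))) = ⊤)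
    (V : X.affineOpens) : ∃ G : (F.over V.1).GeneratingSections, G.IsFiniteType := by
  haveI : IsAffine (V.1 : Scheme.{u}) := V.2
  haveI := hF
  haveI : (((ρ ψ).obj F).restrict V.1.ι).IsQuasicoherent := inferInstance
  have hFU : ((ρ (ψU ψ V.1)).obj (FU V.1 F)).IsQuasicoherent :=
    Groth.Agent.Helper13.QCohLocal.isQuasicoherent_of_iso (cmp ψ V.1 F).symm
  have hW₀ : IsAffineOpen (W₀ V.1) := by rw [W₀_eq]; exact V.2
  obtain ⟨T, hT⟩ := hfg ⟨W₀ V.1, hW₀⟩
  refine ⟨gensOver V.1 F (gensFin (ψU ψ V.1) (FU V.1 F) hFU T hT), ?_⟩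
  exact ⟨(inferInstance : Finite T)⟩

/-- finite type criterion. -/
theorem isFiniteType_iff (hB : ((ρ ψ).obj (SheafOfModules.unit R)).IsQuasicoherent)
    (F : SheafOfModules.{u} R) (hF : ((ρ ψ).obj F).IsQuasicoherent) :
    F.IsFiniteType ↔ ∀ V : X.affineOpens, ∃ T : Finset (F.val.obj (op V.1)),
      Submodule.span (R.obj.obj (op V.1)) (T : Set (F.val.obj (op V.1))) = ⊤ := by
  constructor
  · intro h V
    exact fg_sections ψ F hB hF V.2
  · intro hfg
    choose G hG using key_gen ψ hB F hF hfg
    let q : SheafOfModules.LocalGeneratorsData.{u, u, u, u} F :=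
      { I := X.affineOpens
        X := fun V => V.1
        coversTop := (Opens.coversTop_iff _ _).2 (by
          rw [IsOpenCover]
          exact iSup_affineOpens_eq_top X)
        generators := G }
    have hq : q.IsFiniteType := { isFiniteType := fun V => hG V }
    exact SheafOfModules.IsFiniteType.mk (M := F) ⟨q, hq⟩

end Groth.Agent.Helper29.QBE
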