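import Mathlib
import Groth.Prelude.Def_RelSpec2
import Groth.Agent.Lib.Helper29.QBE
import Groth.Agent.Lib.Helper13.QCohAss
import Groth.Agent.Lib.Helper13.FinAffine2

set_option autoImplicit false
universe u
open CategoryTheory CategoryTheory.Limits AlgebraicGeometry Opposite TopologicalSpace

namespace Groth.Agent.Helper29.QBF

open Groth.Agent.Helper29.QBA Groth.Agent.Helper29.QBB Groth.Agent.Helper29.QBC
  Groth.Agent.Helper29.QBD Groth.Agent.Helper29.QBE

variable {X S : Scheme.{u}} (f : X ⟶ S) [IsAffineHom f]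

/-- the unit of `f_* O_X` is the direct image of the unit. -/
noncomputable def unitIso :
    SheafOfModules.unit (AMod.ringSheaf (RelSpec.QCAlg.directImage f)) ≅
      (AMod.dirImg f).obj (SheafOfModules.unit X.ringCatSheaf) :=
  Iso.refl _

theorem hB : ((ρ (AMod.strHom (RelSpec.QCAlg.directImage f))).obj
    (SheafOfModules.unit (AMod.ringSheaf (RelSpec.QCAlg.directImage f)))).IsQuasicoherent := by
  haveI := Groth.Agent.Helper13.QCoh.isQuasicoherent_unit X
  exact Groth.Agent.Helper13.QCohPush.isQuasicoherent_pushforward f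
    (SheafOfModules.unit X.ringCatSheaf)

theorem ft_iff (F : X.Modules) (hF : F.IsQuasicoherent) :
    SheafOfModules.IsFiniteType.{u} (R := X.ringCatSheaf) F ↔
      SheafOfModules.IsFiniteType.{u} (R := AMod.ringSheaf (RelSpec.QCAlg.directImage f))
        ((AMod.dirImg f).obj F) := by
  haveI := hF
  have hqc : ((ρ (AMod.strHom (RelSpec.QCAlg.directImage f))).obj
      ((AMod.dirImg f).obj F)).IsQuasicoherent :=
    Groth.Agent.Helper13.QCohPush.isQuasicoherent_pushforward f F
  rw [isFiniteType_iff (AMod.strHom (RelSpec.QCAlg.directImage f)) (hB f) _ hqc]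
  constructor
  · intro h V
    haveI := h
    have hV : IsAffineOpen (f ⁻¹ᵁ V.1) := V.2.preimage f
    have h1 : Module.Finite Γ(X, f ⁻¹ᵁ V.1) Γ(F, f ⁻¹ᵁ V.1) :=
      Groth.Agent.Helper13.FinType.finite_sections_of_isFiniteType F hV
    exact h1.fg_top
  · intro h
    apply Groth.Agent.Helper13.FinType.isFiniteType_of_finite_sections F
    intro x
    obtain ⟨_, ⟨V, hV, rfl⟩, hxV, -⟩ := S.isBasis_affineOpens.exists_subset_of_mem_open
      (Set.mem_univ (f.base x)) isOpen_univ
    refine ⟨f ⁻¹ᵁ V, hxV, IsAffineOpen.preimage hV f, ?_⟩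
    exact ⟨h ⟨V, hV⟩⟩

end Groth.Agent.Helper29.QBF
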