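import Mathlib
import Groth.Prelude.Def_W4c6intromoduliQuartic

set_option autoImplicit false
universe u
open Polynomial

namespace Groth.Agent.Helper29.Quartic

variable {k : Type u} [CommRing k]

theorem quartic_coeffs (a0 a1 a2 a3 a4 : k) :
    let p : k[X] := C a0 + C a1 * X + C a2 * X ^ 2 + C a3 * X ^ 3 + C a4 * X ^ 4
    p.coeff 0 = a0 ∧ p.coeff 1 = a1 ∧ p.coeff 2 = a2 ∧ p.coeff 3 = a3 ∧ p.coeff 4 = a4 := by
  intro p
  simp only [p, coeff_add, coeff_C_mul, coeff_X_pow, coeff_X, coeff_C]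
  norm_num

theorem rootPoly_eq (la mu : Fin 4 → k) :
    W4c6intromoduli.rootPoly la mu =
      C (mu 0 * mu 1 * mu 2 * mu 3)
      + C (-(la 0 * mu 1 * mu 2 * mu 3 + mu 0 * la 1 * mu 2 * mu 3 + mu 0 * mu 1 * la 2 * mu 3
          + mu 0 * mu 1 * mu 2 * la 3)) * X
      + C (la 0 * la 1 * mu 2 * mu 3 + la 0 * mu 1 * la 2 * mu 3 + la 0 * mu 1 * mu 2 * la 3
          + mu 0 * la 1 * la 2 * mu 3 + mu 0 * la 1 * mu 2 * la 3 + mu 0 * mu 1 * la 2 * la 3) * X ^ 2
      + C (-(la 0 * la 1 * la 2 * mu 3 + la 0 * la 1 * mu 2 * la 3 + la 0 * mu 1 * la 2 * la 3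
          + mu 0 * la 1 * la 2 * la 3)) * X ^ 3
      + C (la 0 * la 1 * la 2 * la 3) * X ^ 4 := by
  simp only [W4c6intromoduli.rootPoly, Fin.prod_univ_four, map_mul, map_add, map_neg]
  ring

theorem coef0 (la mu : Fin 4 → k) : W4c6intromoduli.coef la mu 0 = mu 0 * mu 1 * mu 2 * mu 3 := by
  rw [W4c6intromoduli.coef, rootPoly_eq]
  exact (quartic_coeffs _ _ _ _ _).1

theorem coef1 (la mu : Fin 4 → k) : W4c6intromoduli.coef la mu 1 =
    -(la 0 * mu 1 * mu 2 * mu 3 + mu 0 * la 1 * mu 2 * mu 3 + mu 0 * mu 1 * la 2 * mu 3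
          + mu 0 * mu 1 * mu 2 * la 3) := by
  rw [W4c6intromoduli.coef, rootPoly_eq]
  exact (quartic_coeffs _ _ _ _ _).2.1

theorem coef2 (la mu : Fin 4 → k) : W4c6intromoduli.coef la mu 2 =
    la 0 * la 1 * mu 2 * mu 3 + la 0 * mu 1 * la 2 * mu 3 + la 0 * mu 1 * mu 2 * la 3
          + mu 0 * la 1 * la 2 * mu 3 + mu 0 * la 1 * mu 2 * la 3 + mu 0 * mu 1 * la 2 * la 3 := by
  rw [W4c6intromoduli.coef, rootPoly_eq]
  exact (quartic_coeffs _ _ _ _ _).2.2.1

theorem coef3 (la mu : Fin 4 → k) : W4c6intromoduli.coef la mu 3 =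
    -(la 0 * la 1 * la 2 * mu 3 + la 0 * la 1 * mu 2 * la 3 + la 0 * mu 1 * la 2 * la 3
          + mu 0 * la 1 * la 2 * la 3) := by
  rw [W4c6intromoduli.coef, rootPoly_eq]
  exact (quartic_coeffs _ _ _ _ _).2.2.2.1

theorem coef4 (la mu : Fin 4 → k) : W4c6intromoduli.coef la mu 4 = la 0 * la 1 * la 2 * la 3 := by
  rw [W4c6intromoduli.coef, rootPoly_eq]
  exact (quartic_coeffs _ _ _ _ _).2.2.2.2

/-- bracket -/
def dd (la mu : Fin 4 → k) (i j : Fin 4) : k := la i * mu j - la j * mu i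

theorem two_invI (la mu : Fin 4 → k) :
    2 * W4c6intromoduli.invI (W4c6intromoduli.coef la mu) =
      (dd la mu 0 1 * dd la mu 2 3) ^ 2 + (dd la mu 0 2 * dd la mu 3 1) ^ 2
        + (dd la mu 0 3 * dd la mu 1 2) ^ 2 := by
  simp only [W4c6intromoduli.invI, coef0, coef1, coef2, coef3, coef4, dd]
  ring

theorem invJ_eq (la mu : Fin 4 → k) :
    W4c6intromoduli.invJ (W4c6intromoduli.coef la mu) =
      (dd la mu 0 1 * dd la mu 2 3 - dd la mu 0 2 * dd la mu 3 1)
      * (dd la mu 0 2 * dd la mu 3 1 - dd la mu 0 3 * dd la mu 1 2)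
      * (dd la mu 0 3 * dd la mu 1 2 - dd la mu 0 1 * dd la mu 2 3) := by
  simp only [W4c6intromoduli.invJ, coef0, coef1, coef2, coef3, coef4, dd]
  ring

theorem plucker (la mu : Fin 4 → k) :
    dd la mu 0 1 * dd la mu 2 3 + dd la mu 0 2 * dd la mu 3 1 + dd la mu 0 3 * dd la mu 1 2 = 0 := by
  simp only [dd]
  ring


theorem matching_zero {K : Type u} [Field K] (d : Fin 4 → Fin 4 → K) (hd : ∀ a b, d a b = - d b a)
    (i j l : Fin 4)
    (hij : i ≠ j) (hjl : j ≠ l) (hil : i ≠ l) (h1 : d i j = 0) (h2 : d j l = 0) (h3 : d i l = 0) :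
    d 0 1 * d 2 3 = 0 ∧ d 0 2 * d 3 1 = 0 ∧ d 0 3 * d 1 2 = 0 := by
  have h1' : d j i = 0 := by rw [hd, h1, neg_zero]
  have h2' : d l j = 0 := by rw [hd, h2, neg_zero]
  have h3' : d l i = 0 := by rw [hd, h3, neg_zero]
  clear hd
  fin_cases i <;> fin_cases j <;> fin_cases l <;> simp_all

theorem invI_invJ_eq_zero_iff {K : Type u} [Field K]
    (h2 : (2 : K) ≠ 0) (h3 : (3 : K) ≠ 0) (la mu : Fin 4 → K) (hne : ∀ i, la i ≠ 0 ∨ mu i ≠ 0) :
    (W4c6intromoduli.invI (W4c6intromoduli.coef la mu) = 0 ∧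
        W4c6intromoduli.invJ (W4c6intromoduli.coef la mu) = 0) ↔
      ∃ i j l : Fin 4, i ≠ j ∧ j ≠ l ∧ i ≠ l ∧
        la i * mu j = la j * mu i ∧ la j * mu l = la l * mu j := by
  have hI := two_invI la mu
  have hJ := invJ_eq la mu
  have hP := plucker la mu
  set A := dd la mu 0 1 * dd la mu 2 3 with hA
  set B := dd la mu 0 2 * dd la mu 3 1 with hB
  set C := dd la mu 0 3 * dd la mu 1 2 with hC
  have h6 : (6 : K) ≠ 0 := by
    have : (6 : K) = 2 * 3 := by norm_num
    rw [this]; exact mul_ne_zero h2 h3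
  constructor
  · rintro ⟨hI0, hJ0⟩
    rw [hI0, mul_zero] at hI
    rw [hJ0] at hJ
    have hsq : A ^ 2 + B ^ 2 + C ^ 2 = 0 := hI.symm
    have hAB : A = 0 ∧ B = 0 := by
      rcases mul_eq_zero.mp hJ.symm with h | h
      · rcases mul_eq_zero.mp h with h | h
        · have h6A : 6 * A ^ 2 = 0 := by
            linear_combination hsq + 2 * (2 * A + B) * h - (C - A - B) * hP
          have hA0 : A = 0 := by
            have := (mul_eq_zero.mp h6A).resolve_left h6
            exact pow_eq_zero_iff (two_ne_zero) |>.mp this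
          refine ⟨hA0, ?_⟩
          rw [hA0] at h; linear_combination -h
        · have h6B : 6 * B ^ 2 = 0 := by
            linear_combination hsq + 2 * (2 * B + C) * h - (A - B - C) * hP
          have hB0 : B = 0 := by
            have := (mul_eq_zero.mp h6B).resolve_left h6
            exact pow_eq_zero_iff (two_ne_zero) |>.mp this
          refine ⟨?_, hB0⟩
          rw [hB0] at h
          have hC0 : C = 0 := by linear_combination -h
          rw [hB0, hC0] at hP
          linear_combination hP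
      · have h6C : 6 * C ^ 2 = 0 := by
          linear_combination hsq + 2 * (2 * C + A) * h - (B - C - A) * hP
        have hC0 : C = 0 := by
          have := (mul_eq_zero.mp h6C).resolve_left h6
          exact pow_eq_zero_iff (two_ne_zero) |>.mp this
        rw [hC0] at h
        have hA0 : A = 0 := by linear_combination -h
        rw [hA0, hC0] at hP
        exact ⟨hA0, by linear_combination hP⟩
    obtain ⟨hA0, hB0⟩ := hAB
    rw [hA] at hA0
    rw [hB] at hB0
    simp only [dd] at hA0 hB0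
    rcases mul_eq_zero.mp hA0 with h01 | h23
    · rcases mul_eq_zero.mp hB0 with h02 | h31
      · exact ⟨1, 0, 2, by decide, by decide, by decide,
          (sub_eq_zero.mp h01).symm, sub_eq_zero.mp h02⟩
      · exact ⟨0, 1, 3, by decide, by decide, by decide,
          sub_eq_zero.mp h01, (sub_eq_zero.mp h31).symm⟩
    · rcases mul_eq_zero.mp hB0 with h02 | h31
      · exact ⟨0, 2, 3, by decide, by decide, by decide,
          sub_eq_zero.mp h02, sub_eq_zero.mp h23⟩
      · exact ⟨2, 3, 1, by decide, by decide, by decide,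
          sub_eq_zero.mp h23, sub_eq_zero.mp h31⟩
  · rintro ⟨i, j, l, hij, hjl, hil, e1, e2⟩
    have e3 : la i * mu l = la l * mu i := by
      rcases hne j with hj | hj
      · apply mul_left_cancel₀ hj
        linear_combination (la l) * e1 + (la i) * e2
      · apply mul_left_cancel₀ hj
        linear_combination (mu l) * e1 + (mu i) * e2
    have hm := matching_zero (dd la mu) (fun a b => by simp only [dd]; ring) i j l hij hjl hil
      (by simp only [dd]; rw [e1]; ring) (by simp only [dd]; rw [e2]; ring)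
      (by simp only [dd]; rw [e3]; ring)
    obtain ⟨hA0, hB0, hC0⟩ := hm
    rw [← hA] at hA0
    rw [← hB] at hB0
    rw [← hC] at hC0
    rw [hA0, hB0, hC0] at hI hJ
    constructor
    · have : 2 * W4c6intromoduli.invI (W4c6intromoduli.coef la mu) = 0 := by rw [hI]; ring
      exact (mul_eq_zero.mp this).resolve_left h2
    · rw [hJ]; ring

end Groth.Agent.Helper29.Quartic
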