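import Mathlib
import Groth.Agent.Lib.Helper29.Quartic

set_option autoImplicit false
universe u
open Polynomial

namespace Groth.Agent.Helper29.Quartic

variable {k : Type u} [Field k]

theorem binForm_transform (la mu la' mu' : Fin 4 → k) (M : Matrix (Fin 2) (Fin 2) k) (c : Fin 4 → k)
    (h1 : ∀ i, la' i = c i * (la i * M 1 1 - mu i * M 0 1))
    (h2 : ∀ i, mu' i = c i * (mu i * M 0 0 - la i * M 1 0)) :
    W4c6intromoduli.binForm la' mu' =
      MvPolynomial.C (∏ i, c i) * W4c6intromoduli.subst M (W4c6intromoduli.binForm la mu) := by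
  simp only [W4c6intromoduli.binForm, map_prod, ← Finset.prod_mul_distrib]
  refine Finset.prod_congr rfl fun i _ => ?_
  rw [h1 i, h2 i]
  simp only [W4c6intromoduli.subst, map_sub, map_mul, MvPolynomial.aeval_C, MvPolynomial.aeval_X,
    Fin.sum_univ_two, MvPolynomial.algebraMap_eq]
  ring

theorem h_inv {a D X : k} (hD : D ≠ 0) (key : a * D = X) : a = D⁻¹ * X := by
  rw [← key, mul_comm a D, inv_mul_cancel_left₀ hD]

theorem h_inv2 {a n D X : k} (hD : D ≠ 0) (key : a * D = n * X) : a = n * D⁻¹ * X := by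
  rw [mul_assoc, mul_comm D⁻¹, ← mul_assoc, ← key, mul_inv_cancel_right₀ hD]

theorem exists_transform (la mu la' mu' : Fin 4 → k)
    (h : ∀ i j, i ≠ j → dd la mu i j ≠ 0) (h' : ∀ i j, i ≠ j → dd la' mu' i j ≠ 0)
    (hrel : (dd la mu 0 1 * dd la mu 2 3) * (dd la' mu' 0 2 * dd la' mu' 3 1)
          = (dd la mu 0 2 * dd la mu 3 1) * (dd la' mu' 0 1 * dd la' mu' 2 3)) :
    ∃ (M : Matrix (Fin 2) (Fin 2) k) (c : k), IsUnit M.det ∧ c ≠ 0 ∧
      W4c6intromoduli.binForm la' mu' =
        MvPolynomial.C c * W4c6intromoduli.subst M (W4c6intromoduli.binForm la mu) := by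
  have d01 := h 0 1 (by decide)
  have d02 := h 0 2 (by decide)
  have d21 := h 2 1 (by decide)
  have d31 := h 3 1 (by decide)
  have d03 := h 0 3 (by decide)
  have e01 := h' 0 1 (by decide)
  have e02 := h' 0 2 (by decide)
  have e21 := h' 2 1 (by decide)
  have e31 := h' 3 1 (by decide)
  have e03 := h' 0 3 (by decide)
  set α := dd la' mu' 2 1 * dd la mu 0 2 with hα
  set β := dd la mu 2 1 * dd la' mu' 0 2 with hβ
  have hα0 : α ≠ 0 := mul_ne_zero e21 d02
  have hβ0 : β ≠ 0 := mul_ne_zero d21 e02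
  let N00 := mu 1 * α * la' 0 - mu 0 * β * la' 1
  let N01 := mu 1 * α * mu' 0 - mu 0 * β * mu' 1
  let N10 := -(la 1) * α * la' 0 + la 0 * β * la' 1
  let N11 := -(la 1) * α * mu' 0 + la 0 * β * mu' 1
  let M : Matrix (Fin 2) (Fin 2) k := !![N11, -N10; -N01, N00]
  let c : Fin 4 → k := ![(dd la mu 0 1 * α)⁻¹, (dd la mu 0 1 * β)⁻¹,
    (dd la mu 2 1 * dd la mu 0 2 * dd la' mu' 0 1)⁻¹,
    dd la' mu' 3 1 * (dd la mu 3 1 * dd la' mu' 2 1 * dd la mu 0 2 * dd la' mu' 0 1)⁻¹]
  have hdet : M.det = dd la mu 0 1 * α * β * dd la' mu' 0 1 := by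
    simp only [M, Matrix.det_fin_two_of, N00, N01, N10, N11, dd]
    ring
  refine ⟨M, ∏ i, c i, ?_, ?_, binForm_transform la mu la' mu' M c ?_ ?_⟩
  · rw [hdet, isUnit_iff_ne_zero]
    exact mul_ne_zero (mul_ne_zero (mul_ne_zero d01 hα0) hβ0) e01
  · rw [Fin.prod_univ_four]
    simp only [c, Matrix.cons_val_zero, Matrix.cons_val_one, Matrix.cons_val]
    exact mul_ne_zero (mul_ne_zero (mul_ne_zero (inv_ne_zero (mul_ne_zero d01 hα0))
      (inv_ne_zero (mul_ne_zero d01 hβ0))) (inv_ne_zero (mul_ne_zero (mul_ne_zero d21 d02) e01)))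
      (mul_ne_zero e31 (inv_ne_zero (mul_ne_zero (mul_ne_zero (mul_ne_zero d31 e21) d02) e01)))
  · intro i
    fin_cases i
    · simp only [c, M, Fin.zero_eta, Matrix.cons_val_zero, Matrix.of_apply, Matrix.cons_val',
        Matrix.cons_val_one, Matrix.cons_val_fin_one, Fin.isValue]
      apply h_inv (mul_ne_zero d01 hα0)
      simp only [N00, N10, dd]
      ring
    · simp only [c, M, Fin.mk_one, Matrix.cons_val_zero, Matrix.of_apply, Matrix.cons_val',
        Matrix.cons_val_one, Matrix.cons_val_fin_one, Fin.isValue]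
      apply h_inv (mul_ne_zero d01 hβ0)
      simp only [N00, N10, dd]
      ring
    · simp only [c, M, Fin.reduceFinMk, Matrix.cons_val_zero, Matrix.of_apply, Matrix.cons_val',
        Matrix.cons_val_one, Matrix.cons_val_fin_one, Fin.isValue, Matrix.cons_val]
      apply h_inv (mul_ne_zero (mul_ne_zero d21 d02) e01)
      simp only [N00, N10, hα, hβ, dd]
      ring
    · simp only [c, M, Fin.reduceFinMk, Matrix.cons_val_zero, Matrix.of_apply, Matrix.cons_val',
        Matrix.cons_val_one, Matrix.cons_val_fin_one, Fin.isValue, Matrix.cons_val]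
      apply h_inv2 (mul_ne_zero (mul_ne_zero (mul_ne_zero d31 e21) d02) e01)
      simp only [N00, N10, hα, hβ, dd] at hrel ⊢
      linear_combination (-(la' 1)) * hrel
  · intro i
    fin_cases i
    · simp only [c, M, Fin.zero_eta, Matrix.cons_val_zero, Matrix.of_apply, Matrix.cons_val',
        Matrix.cons_val_one, Matrix.cons_val_fin_one, Fin.isValue]
      apply h_inv (mul_ne_zero d01 hα0)
      simp only [N01, N11, dd]
      ring
    · simp only [c, M, Fin.mk_one, Matrix.cons_val_zero, Matrix.of_apply, Matrix.cons_val',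
        Matrix.cons_val_one, Matrix.cons_val_fin_one, Fin.isValue]
      apply h_inv (mul_ne_zero d01 hβ0)
      simp only [N01, N11, dd]
      ring
    · simp only [c, M, Fin.reduceFinMk, Matrix.cons_val_zero, Matrix.of_apply, Matrix.cons_val',
        Matrix.cons_val_one, Matrix.cons_val_fin_one, Fin.isValue, Matrix.cons_val]
      apply h_inv (mul_ne_zero (mul_ne_zero d21 d02) e01)
      simp only [N01, N11, hα, hβ, dd]
      ring
    · simp only [c, M, Fin.reduceFinMk, Matrix.cons_val_zero, Matrix.of_apply, Matrix.cons_val',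
        Matrix.cons_val_one, Matrix.cons_val_fin_one, Fin.isValue, Matrix.cons_val]
      apply h_inv2 (mul_ne_zero (mul_ne_zero (mul_ne_zero d31 e21) d02) e01)
      simp only [N01, N11, hα, hβ, dd] at hrel ⊢
      linear_combination (-(mu' 1)) * hrel


theorem dd_ne_zero_of_disc (la mu : Fin 4 → k) (hd : W4c6intromoduli.disc la mu ≠ 0) :
    ∀ i j, i ≠ j → dd la mu i j ≠ 0 := by
  intro i j hij
  rw [W4c6intromoduli.disc, Finset.prod_ne_zero_iff] at hd
  rcases lt_or_gt_of_ne hij with h | h
  · have := hd (i, j) (by simp [h])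
    have h2 := pow_ne_zero_iff (two_ne_zero) |>.mp this
    simp only at h2
    intro h0
    apply h2
    simp only [dd] at h0
    linear_combination -h0
  · have := hd (j, i) (by simp [h])
    have h2 := pow_ne_zero_iff (two_ne_zero) |>.mp this
    simp only at h2
    intro h0
    apply h2
    simp only [dd] at h0
    linear_combination h0

theorem exists_transform_perm (π : Fin 4 → Fin 4) (hπ : Function.Injective π)
    (la mu la' mu' : Fin 4 → k)
    (h : ∀ i j, i ≠ j → dd la mu i j ≠ 0) (h' : ∀ i j, i ≠ j → dd la' mu' i j ≠ 0)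
    (hrel : (dd la mu (π 0) (π 1) * dd la mu (π 2) (π 3)) * (dd la' mu' 0 2 * dd la' mu' 3 1)
          = (dd la mu (π 0) (π 2) * dd la mu (π 3) (π 1)) * (dd la' mu' 0 1 * dd la' mu' 2 3)) :
    ∃ (M : Matrix (Fin 2) (Fin 2) k) (c : k), IsUnit M.det ∧ c ≠ 0 ∧
      W4c6intromoduli.binForm la' mu' =
        MvPolynomial.C c * W4c6intromoduli.subst M (W4c6intromoduli.binForm la mu) := by
  have hb : W4c6intromoduli.binForm (la ∘ π) (mu ∘ π) = W4c6intromoduli.binForm la mu := by
    simp only [W4c6intromoduli.binForm, Function.comp]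
    exact Function.Bijective.prod_comp (Finite.injective_iff_bijective.mp hπ)
      (fun i => MvPolynomial.C (mu i) * MvPolynomial.X 0 - MvPolynomial.C (la i) * MvPolynomial.X 1)
  rw [← hb]
  exact exists_transform (la ∘ π) (mu ∘ π) la' mu'
    (fun i j hij => h (π i) (π j) (hπ.ne hij)) h' hrel

theorem quartic_equiv (h2 : (2 : k) ≠ 0) (h3 : (3 : k) ≠ 0) (la mu la' mu' : Fin 4 → k)
    (hd : W4c6intromoduli.disc la mu ≠ 0) (hd' : W4c6intromoduli.disc la' mu' ≠ 0)
    (h : W4c6intromoduli.invI (W4c6intromoduli.coef la mu) ^ 3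
          * W4c6intromoduli.invJ (W4c6intromoduli.coef la' mu') ^ 2 =
        W4c6intromoduli.invI (W4c6intromoduli.coef la' mu') ^ 3
          * W4c6intromoduli.invJ (W4c6intromoduli.coef la mu) ^ 2) :
    ∃ (M : Matrix (Fin 2) (Fin 2) k) (c : k), IsUnit M.det ∧ c ≠ 0 ∧
      W4c6intromoduli.binForm la' mu' =
        MvPolynomial.C c * W4c6intromoduli.subst M (W4c6intromoduli.binForm la mu) := by
  have hdd := dd_ne_zero_of_disc la mu hd
  have hdd' := dd_ne_zero_of_disc la' mu' hd'
  have hI := two_invI la mu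
  have hJ := invJ_eq la mu
  have hP := plucker la mu
  have hI' := two_invI la' mu'
  have hJ' := invJ_eq la' mu'
  have hP' := plucker la' mu'
  set a := dd la mu 0 1 * dd la mu 2 3 with ha
  set b := dd la mu 0 2 * dd la mu 3 1 with hb
  set c := dd la mu 0 3 * dd la mu 1 2 with hc
  set a' := dd la' mu' 0 1 * dd la' mu' 2 3 with ha'
  set b' := dd la' mu' 0 2 * dd la' mu' 3 1 with hb'
  set c' := dd la' mu' 0 3 * dd la' mu' 1 2 with hc'
  have hcc : c = -a - b := by linear_combination hP
  have hcc' : c' = -a' - b' := by linear_combination hP'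
  have key : 216 * ((a * b' - b * a') * (b * b' - c * a') * (c * b' - a * a') *
      (b * b' - a * a') * (c * b' - b * a') * (a * b' - c * a')) = 0 := by
    have e1 : 216 * ((a * b' - b * a') * (b * b' - c * a') * (c * b' - a * a') *
      (b * b' - a * a') * (c * b' - b * a') * (a * b' - c * a')) =
        (a ^ 2 + b ^ 2 + c ^ 2) ^ 3 * ((a' - b') * (b' - c') * (c' - a')) ^ 2 -
        (a' ^ 2 + b' ^ 2 + c' ^ 2) ^ 3 * ((a - b) * (b - c) * (c - a)) ^ 2 := by
      rw [hcc, hcc']
      ring
    rw [e1, ← hI, ← hI', ← hJ, ← hJ']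
    linear_combination 8 * h
  have h216 : (216 : k) ≠ 0 := by
    have : (216 : k) = 2 ^ 3 * 3 ^ 3 := by norm_num
    rw [this]
    exact mul_ne_zero (pow_ne_zero _ h2) (pow_ne_zero _ h3)
  have hprod := (mul_eq_zero.mp key).resolve_left h216
  have n13 : dd la mu 1 3 = - dd la mu 3 1 := by simp only [dd]; ring
  have n32 : dd la mu 3 2 = - dd la mu 2 3 := by simp only [dd]; ring
  have n21 : dd la mu 2 1 = - dd la mu 1 2 := by simp only [dd]; ring
  have n20 : dd la mu 2 0 = - dd la mu 0 2 := by simp only [dd]; ring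
  have n10 : dd la mu 1 0 = - dd la mu 0 1 := by simp only [dd]; ring
  have n30 : dd la mu 3 0 = - dd la mu 0 3 := by simp only [dd]; ring
  rcases mul_eq_zero.mp hprod with hp | h6
  rcases mul_eq_zero.mp hp with hp | h5
  rcases mul_eq_zero.mp hp with hp | h4
  rcases mul_eq_zero.mp hp with hp | h3'
  rcases mul_eq_zero.mp hp with h1 | h2'
  · -- (a, b)
    refine exists_transform_perm ![0, 1, 2, 3] (by decide) la mu la' mu' hdd hdd' ?_
    simp only [Matrix.cons_val_zero, Matrix.cons_val_one, Matrix.cons_val]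
    linear_combination h1
  · -- (b, c)
    refine exists_transform_perm ![0, 2, 3, 1] (by decide) la mu la' mu' hdd hdd' ?_
    simp only [Matrix.cons_val_zero, Matrix.cons_val_one, Matrix.cons_val]
    linear_combination h2'
  · -- (c, a)
    refine exists_transform_perm ![0, 3, 1, 2] (by decide) la mu la' mu' hdd hdd' ?_
    simp only [Matrix.cons_val_zero, Matrix.cons_val_one, Matrix.cons_val]
    linear_combination h3'
  · -- (b, a)
    refine exists_transform_perm ![0, 2, 1, 3] (by decide) la mu la' mu' hdd hdd' ?_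
    simp only [Matrix.cons_val_zero, Matrix.cons_val_one, Matrix.cons_val]
    rw [n13, n32]
    linear_combination (-1 : k) * h4
  · -- (c, b)
    refine exists_transform_perm ![2, 1, 0, 3] (by decide) la mu la' mu' hdd hdd' ?_
    simp only [Matrix.cons_val_zero, Matrix.cons_val_one, Matrix.cons_val]
    rw [n21, n20]
    linear_combination (-1 : k) * h5
  · -- (a, c)
    refine exists_transform_perm ![1, 0, 2, 3] (by decide) la mu la' mu' hdd hdd' ?_
    simp only [Matrix.cons_val_zero, Matrix.cons_val_one, Matrix.cons_val]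
    rw [n10, n30]
    linear_combination (-1 : k) * h6

end Groth.Agent.Helper29.Quartic
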