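import Mathlib
import Groth.Agent.Lib.Helper29.Quartic2

/-!
# Binary quartics with vanishing discriminant and no triple root (helper29)
-/

set_option autoImplicit false
universe u
open MvPolynomial

namespace Groth.Agent.Helper29.Quartic

variable {k : Type u} [Field k]

theorem targetA : W4c6intromoduli.binForm (![0, 0, -1, 1] : Fin 4 → k) ![1, 1, 0, 1] =
    (X 0 ^ 2 * X 1 * (X 0 - X 1) : MvPolynomial (Fin 2) k) := by
  rw [W4c6intromoduli.binForm, Fin.prod_univ_four]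
  show (C (1 : k) * X 0 - C (0 : k) * X 1) * (C (1 : k) * X 0 - C (0 : k) * X 1) *
    (C (0 : k) * X 0 - C (-1 : k) * X 1) * (C (1 : k) * X 0 - C (1 : k) * X 1) = _
  simp only [map_one, map_zero, map_neg]
  ring

theorem targetB : W4c6intromoduli.binForm (![0, 0, -1, -1] : Fin 4 → k) ![1, 1, 0, 0] =
    (X 0 ^ 2 * X 1 ^ 2 : MvPolynomial (Fin 2) k) := by
  rw [W4c6intromoduli.binForm, Fin.prod_univ_four]
  show (C (1 : k) * X 0 - C (0 : k) * X 1) * (C (1 : k) * X 0 - C (0 : k) * X 1) *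
    (C (0 : k) * X 0 - C (-1 : k) * X 1) * (C (0 : k) * X 0 - C (-1 : k) * X 1) = _
  simp only [map_one, map_zero, map_neg]
  ring

theorem exists_scalar {a0 b0 a1 b1 : k} (h : a0 * b1 = a1 * b0) (h0 : a0 ≠ 0 ∨ b0 ≠ 0) :
    ∃ l : k, a1 = l * a0 ∧ b1 = l * b0 := by
  rcases h0 with h0 | h0
  · refine ⟨a1 / a0, ?_, ?_⟩
    · rw [div_mul_cancel₀ _ h0]
    · rw [div_mul_eq_mul_div, eq_div_iff h0]
      linear_combination h
  · refine ⟨b1 / b0, ?_, ?_⟩
    · rw [div_mul_eq_mul_div, eq_div_iff h0]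
      linear_combination -h
    · rw [div_mul_cancel₀ _ h0]

theorem typeA (a b : Fin 4 → k) (h01 : a 0 * b 1 = a 1 * b 0) (hn0 : a 0 ≠ 0 ∨ b 0 ≠ 0)
    (hn1 : a 1 ≠ 0 ∨ b 1 ≠ 0)
    (hD : dd a b 0 2 ≠ 0) (hs : dd a b 3 2 ≠ 0) (ht : dd a b 0 3 ≠ 0) :
    ∃ (M : Matrix (Fin 2) (Fin 2) k) (c : k), IsUnit M.det ∧ c ≠ 0 ∧
      W4c6intromoduli.binForm a b =
        C c * W4c6intromoduli.subst M (X 0 ^ 2 * X 1 * (X 0 - X 1)) := by
  obtain ⟨l, hl1, hl2⟩ := exists_scalar h01 hn0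
  have hl : l ≠ 0 := by
    rintro rfl
    rw [zero_mul] at hl1 hl2
    rcases hn1 with h | h
    · exact h hl1
    · exact h hl2
  let M : Matrix (Fin 2) (Fin 2) k :=
    !![dd a b 3 2 * b 0, -(dd a b 3 2 * a 0); -(dd a b 0 3 * b 2), dd a b 0 3 * a 2]
  let c : Fin 4 → k := ![(dd a b 3 2)⁻¹, l * (dd a b 3 2)⁻¹, -(dd a b 0 3)⁻¹, (dd a b 0 2)⁻¹]
  have hdet : M.det = -(dd a b 3 2 * dd a b 0 3 * dd a b 0 2) := by
    simp only [M, Matrix.det_fin_two_of, dd]
    ring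
  refine ⟨M, ∏ i, c i, ?_, ?_, ?_⟩
  · rw [hdet, isUnit_iff_ne_zero]
    exact neg_ne_zero.2 (mul_ne_zero (mul_ne_zero hs ht) hD)
  · rw [Fin.prod_univ_four]
    show (dd a b 3 2)⁻¹ * (l * (dd a b 3 2)⁻¹) * -(dd a b 0 3)⁻¹ * (dd a b 0 2)⁻¹ ≠ 0
    exact mul_ne_zero (mul_ne_zero (mul_ne_zero (inv_ne_zero hs) (mul_ne_zero hl (inv_ne_zero hs)))
      (neg_ne_zero.2 (inv_ne_zero ht))) (inv_ne_zero hD)
  · rw [← targetA]
    apply binForm_transform
    · intro i
      fin_cases i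
      · show a 0 = (dd a b 3 2)⁻¹ * (0 * (dd a b 0 3 * a 2) - 1 * (-(dd a b 3 2 * a 0)))
        apply h_inv hs
        ring
      · show a 1 = l * (dd a b 3 2)⁻¹ * (0 * (dd a b 0 3 * a 2) - 1 * (-(dd a b 3 2 * a 0)))
        rw [hl1]
        field_simp
        ring
      · show a 2 = -(dd a b 0 3)⁻¹ * (-1 * (dd a b 0 3 * a 2) - 0 * (-(dd a b 3 2 * a 0)))
        field_simp
        ring
      · show a 3 = (dd a b 0 2)⁻¹ * (1 * (dd a b 0 3 * a 2) - 1 * (-(dd a b 3 2 * a 0)))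
        apply h_inv hD
        simp only [dd]
        ring
    · intro i
      fin_cases i
      · show b 0 = (dd a b 3 2)⁻¹ * (1 * (dd a b 3 2 * b 0) - 0 * (-(dd a b 0 3 * b 2)))
        apply h_inv hs
        ring
      · show b 1 = l * (dd a b 3 2)⁻¹ * (1 * (dd a b 3 2 * b 0) - 0 * (-(dd a b 0 3 * b 2)))
        rw [hl2]
        field_simp
        ring
      · show b 2 = -(dd a b 0 3)⁻¹ * (0 * (dd a b 3 2 * b 0) - -1 * (-(dd a b 0 3 * b 2)))
        field_simp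
        ring
      · show b 3 = (dd a b 0 2)⁻¹ * (1 * (dd a b 3 2 * b 0) - 1 * (-(dd a b 0 3 * b 2)))
        apply h_inv hD
        simp only [dd]
        ring

theorem typeB (a b : Fin 4 → k) (h01 : a 0 * b 1 = a 1 * b 0) (hn0 : a 0 ≠ 0 ∨ b 0 ≠ 0)
    (hn1 : a 1 ≠ 0 ∨ b 1 ≠ 0) (h23 : a 2 * b 3 = a 3 * b 2) (hn2 : a 2 ≠ 0 ∨ b 2 ≠ 0)
    (hn3 : a 3 ≠ 0 ∨ b 3 ≠ 0)
    (hD : dd a b 0 2 ≠ 0) :
    ∃ (M : Matrix (Fin 2) (Fin 2) k) (c : k), IsUnit M.det ∧ c ≠ 0 ∧
      W4c6intromoduli.binForm a b =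
        C c * W4c6intromoduli.subst M (X 0 ^ 2 * X 1 ^ 2) := by
  obtain ⟨l, hl1, hl2⟩ := exists_scalar h01 hn0
  obtain ⟨m, hm1, hm2⟩ := exists_scalar h23 hn2
  have hl : l ≠ 0 := by
    rintro rfl
    rw [zero_mul] at hl1 hl2
    rcases hn1 with h | h
    · exact h hl1
    · exact h hl2
  have hm : m ≠ 0 := by
    rintro rfl
    rw [zero_mul] at hm1 hm2
    rcases hn3 with h | h
    · exact h hm1
    · exact h hm2
  let M : Matrix (Fin 2) (Fin 2) k := !![b 0, -(a 0); b 2, -(a 2)]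
  let c : Fin 4 → k := ![1, l, 1, m]
  have hdet : M.det = dd a b 0 2 := by
    simp only [M, Matrix.det_fin_two_of, dd]
    ring
  refine ⟨M, ∏ i, c i, ?_, ?_, ?_⟩
  · rw [hdet, isUnit_iff_ne_zero]
    exact hD
  · rw [Fin.prod_univ_four]
    show 1 * l * 1 * m ≠ 0
    exact mul_ne_zero (mul_ne_zero (mul_ne_zero one_ne_zero hl) one_ne_zero) hm
  · rw [← targetB]
    apply binForm_transform
    · intro i
      fin_cases i
      · show a 0 = 1 * (0 * (-(a 2)) - 1 * (-(a 0)))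
        ring
      · show a 1 = l * (0 * (-(a 2)) - 1 * (-(a 0)))
        rw [hl1]
        ring
      · show a 2 = 1 * (-1 * (-(a 2)) - 0 * (-(a 0)))
        ring
      · show a 3 = m * (-1 * (-(a 2)) - 0 * (-(a 0)))
        rw [hm1]
        ring
    · intro i
      fin_cases i
      · show b 0 = 1 * (1 * b 0 - 0 * b 2)
        ring
      · show b 1 = l * (1 * b 0 - 0 * b 2)
        rw [hl2]
        ring
      · show b 2 = 1 * (0 * b 0 - -1 * b 2)
        ring
      · show b 3 = m * (0 * b 0 - -1 * b 2)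
        rw [hm2]
        ring

theorem eval_binForm (la mu : Fin 4 → k) (x : Fin 2 → k) :
    eval x (W4c6intromoduli.binForm la mu) = ∏ i, (mu i * x 0 - la i * x 1) := by
  simp [W4c6intromoduli.binForm, map_prod]

theorem eval_substB (M : Matrix (Fin 2) (Fin 2) k) (c : k) (x : Fin 2 → k) :
    eval x (C c * W4c6intromoduli.subst M (X 0 ^ 2 * X 1 ^ 2)) =
      c * ((M 0 0 * x 0 + M 0 1 * x 1) ^ 2 * (M 1 0 * x 0 + M 1 1 * x 1) ^ 2) := by
  simp [W4c6intromoduli.subst, Fin.sum_univ_two]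

theorem eval_substA (M : Matrix (Fin 2) (Fin 2) k) (c : k) (x : Fin 2 → k) :
    eval x (C c * W4c6intromoduli.subst M (X 0 ^ 2 * X 1 * (X 0 - X 1))) =
      c * ((M 0 0 * x 0 + M 0 1 * x 1) ^ 2 * (M 1 0 * x 0 + M 1 1 * x 1) *
        ((M 0 0 * x 0 + M 0 1 * x 1) - (M 1 0 * x 0 + M 1 1 * x 1))) := by
  simp [W4c6intromoduli.subst, Fin.sum_univ_two]

theorem par_of_row {m0 m1 p0 p1 q0 q1 : k} (hm : m0 ≠ 0 ∨ m1 ≠ 0)
    (hp : m0 * p0 + m1 * p1 = 0) (hq : m0 * q0 + m1 * q1 = 0) : p0 * q1 - q0 * p1 = 0 := by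
  rcases hm with h | h
  · apply mul_left_cancel₀ h
    linear_combination q1 * hp - p1 * hq
  · apply mul_left_cancel₀ h
    linear_combination p0 * hq - q0 * hp

theorem par_trans {l m x0 x1 p0 p1 : k} (hlm : l ≠ 0 ∨ m ≠ 0) (h1 : m * x0 - l * x1 = 0)
    (h2 : l * p1 - p0 * m = 0) : x0 * p1 - p0 * x1 = 0 := by
  rcases hlm with h | h
  · apply mul_left_cancel₀ h
    linear_combination x0 * h2 + p0 * h1
  · apply mul_left_cancel₀ h
    linear_combination p1 * h1 + x1 * h2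

theorem par_same {p0 p1 x0 x1 y0 y1 : k} (hp : p0 ≠ 0 ∨ p1 ≠ 0) (hx : x0 * p1 - p0 * x1 = 0)
    (hy : y0 * p1 - p0 * y1 = 0) : x0 * y1 - y0 * x1 = 0 := by
  rcases hp with h | h
  · apply mul_left_cancel₀ h
    linear_combination (-x0) * hy + y0 * hx
  · apply mul_left_cancel₀ h
    linear_combination y1 * hx - x1 * hy

theorem not_formB (la mu : Fin 4 → k) (i j l : Fin 4) (hij : dd la mu i j ≠ 0)
    (hil : dd la mu i l ≠ 0) (hjl : dd la mu j l ≠ 0) :
    ¬ ∃ (M : Matrix (Fin 2) (Fin 2) k) (c : k), IsUnit M.det ∧ c ≠ 0 ∧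
        W4c6intromoduli.binForm la mu =
          C c * W4c6intromoduli.subst M (X 0 ^ 2 * X 1 ^ 2) := by
  rintro ⟨M, c, hM, hc, hF⟩
  have hdet : M.det ≠ 0 := hM.ne_zero
  rw [Matrix.det_fin_two] at hdet
  have hr0 : M 0 0 ≠ 0 ∨ M 0 1 ≠ 0 := by
    by_contra hcon
    push Not at hcon
    apply hdet
    rw [hcon.1, hcon.2]
    ring
  have hr1 : M 1 0 ≠ 0 ∨ M 1 1 ≠ 0 := by
    by_contra hcon
    push Not at hcon
    apply hdet
    rw [hcon.1, hcon.2]
    ring
  have hz : ∀ t : Fin 4, (M 0 0 * la t + M 0 1 * mu t = 0) ∨ (M 1 0 * la t + M 1 1 * mu t = 0) := by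
    intro t
    have h1 := congrArg (eval (![la t, mu t] : Fin 2 → k)) hF
    rw [eval_binForm, eval_substB] at h1
    have h2 : ∏ i, (mu i * (![la t, mu t] : Fin 2 → k) 0 - la i * (![la t, mu t] : Fin 2 → k) 1)
        = 0 := by
      apply Finset.prod_eq_zero (Finset.mem_univ t)
      show mu t * la t - la t * mu t = 0
      ring
    rw [h2] at h1
    have h3 : c * ((M 0 0 * la t + M 0 1 * mu t) ^ 2 * (M 1 0 * la t + M 1 1 * mu t) ^ 2) = 0 :=
      h1.symm
    rcases mul_eq_zero.1 h3 with h | h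
    · exact absurd h hc
    · rcases mul_eq_zero.1 h with h | h
      · exact Or.inl ((pow_eq_zero_iff (two_ne_zero)).1 h)
      · exact Or.inr ((pow_eq_zero_iff (two_ne_zero)).1 h)
  rcases hz i with hi | hi <;> rcases hz j with hj | hj <;> rcases hz l with hl | hl
  · exact hij (par_of_row hr0 hi hj)
  · exact hij (par_of_row hr0 hi hj)
  · exact hil (par_of_row hr0 hi hl)
  · exact hjl (par_of_row hr1 hj hl)
  · exact hjl (par_of_row hr0 hj hl)
  · exact hil (par_of_row hr1 hi hl)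
  · exact hij (par_of_row hr1 hi hj)
  · exact hij (par_of_row hr1 hi hj)

theorem not_formA (la mu : Fin 4 → k) (hne : ∀ i, la i ≠ 0 ∨ mu i ≠ 0) (p0 p1 q0 q1 : k)
    (hp : p0 ≠ 0 ∨ p1 ≠ 0) (hq : q0 ≠ 0 ∨ q1 ≠ 0)
    (hpar : ∀ i, la i * p1 - p0 * mu i = 0 ∨ la i * q1 - q0 * mu i = 0) :
    ¬ ∃ (M : Matrix (Fin 2) (Fin 2) k) (c : k), IsUnit M.det ∧ c ≠ 0 ∧
        W4c6intromoduli.binForm la mu =
          C c * W4c6intromoduli.subst M (X 0 ^ 2 * X 1 * (X 0 - X 1)) := by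
  rintro ⟨M, c, hM, hc, hF⟩
  have hdet : M.det ≠ 0 := hM.ne_zero
  rw [Matrix.det_fin_two] at hdet
  have key : ∀ x0 x1 : k,
      c * ((M 0 0 * x0 + M 0 1 * x1) ^ 2 * (M 1 0 * x0 + M 1 1 * x1) *
        ((M 0 0 * x0 + M 0 1 * x1) - (M 1 0 * x0 + M 1 1 * x1))) = 0 →
      (x0 * p1 - p0 * x1 = 0) ∨ (x0 * q1 - q0 * x1 = 0) := by
    intro x0 x1 h0
    have h1 := congrArg (eval (![x0, x1] : Fin 2 → k)) hF
    rw [eval_binForm, eval_substA] at h1
    have h2 : ∏ i, (mu i * x0 - la i * x1) = 0 := by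
      rw [← h0]
      exact h1
    obtain ⟨i, _, hi⟩ := Finset.prod_eq_zero_iff.1 h2
    rcases hpar i with h | h
    · exact Or.inl (par_trans (hne i) hi h)
    · exact Or.inr (par_trans (hne i) hi h)
  have ha := key (-(M 0 1)) (M 0 0) (by ring)
  have hb := key (M 1 1) (-(M 1 0)) (by ring)
  have hc' := key (M 1 1 - M 0 1) (M 0 0 - M 1 0) (by ring)
  have dab : (-(M 0 1)) * (-(M 1 0)) - (M 1 1) * (M 0 0) ≠ 0 := by
    intro h
    apply hdet
    linear_combination -h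
  have dac : (-(M 0 1)) * (M 0 0 - M 1 0) - (M 1 1 - M 0 1) * (M 0 0) ≠ 0 := by
    intro h
    apply hdet
    linear_combination -h
  have dbc : (M 1 1) * (M 0 0 - M 1 0) - (M 1 1 - M 0 1) * (-(M 1 0)) ≠ 0 := by
    intro h
    apply hdet
    linear_combination h
  rcases ha with ha | ha <;> rcases hb with hb | hb <;> rcases hc' with hc' | hc'
  · exact dab (par_same hp ha hb)
  · exact dab (par_same hp ha hb)
  · exact dac (par_same hp ha hc')
  · exact dbc (par_same hq hb hc')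
  · exact dbc (par_same hp hb hc')
  · exact dac (par_same hq ha hc')
  · exact dab (par_same hq ha hb)
  · exact dab (par_same hq ha hb)

theorem main_of_perm (la mu : Fin 4 → k) (hne : ∀ i, la i ≠ 0 ∨ mu i ≠ 0)
    (h3z : ∀ i j l : Fin 4, i ≠ j → j ≠ l → i ≠ l →
      ¬ (la i * mu j = la j * mu i ∧ la j * mu l = la l * mu j))
    (π : Fin 4 → Fin 4) (hπ : Function.Injective π) (h01 : dd la mu (π 0) (π 1) = 0) :
    Xor
      (∃ (M : Matrix (Fin 2) (Fin 2) k) (c : k), IsUnit M.det ∧ c ≠ 0 ∧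
        W4c6intromoduli.binForm la mu =
          C c * W4c6intromoduli.subst M (X 0 ^ 2 * X 1 * (X 0 - X 1)))
      (∃ (M : Matrix (Fin 2) (Fin 2) k) (c : k), IsUnit M.det ∧ c ≠ 0 ∧
        W4c6intromoduli.binForm la mu =
          C c * W4c6intromoduli.subst M (X 0 ^ 2 * X 1 ^ 2)) := by
  have hb : W4c6intromoduli.binForm (la ∘ π) (mu ∘ π) = W4c6intromoduli.binForm la mu := by
    simp only [W4c6intromoduli.binForm, Function.comp]
    exact Function.Bijective.prod_comp (Finite.injective_iff_bijective.mp hπ)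
      (fun i => C (mu i) * X 0 - C (la i) * X 1)
  have h01' : la (π 0) * mu (π 1) - la (π 1) * mu (π 0) = 0 := h01
  have n02 : dd la mu (π 0) (π 2) ≠ 0 := by
    intro h
    have h' : la (π 0) * mu (π 2) - la (π 2) * mu (π 0) = 0 := h
    exact h3z (π 1) (π 0) (π 2) (hπ.ne (by decide)) (hπ.ne (by decide)) (hπ.ne (by decide))
      ⟨by linear_combination -h01', by linear_combination h'⟩
  have n03 : dd la mu (π 0) (π 3) ≠ 0 := by
    intro h
    have h' : la (π 0) * mu (π 3) - la (π 3) * mu (π 0) = 0 := h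
    exact h3z (π 1) (π 0) (π 3) (hπ.ne (by decide)) (hπ.ne (by decide)) (hπ.ne (by decide))
      ⟨by linear_combination -h01', by linear_combination h'⟩
  by_cases h23 : dd la mu (π 2) (π 3) = 0
  · have h23' : la (π 2) * mu (π 3) - la (π 3) * mu (π 2) = 0 := h23
    refine Or.inr ⟨?_, ?_⟩
    · rw [← hb]
      exact typeB (la ∘ π) (mu ∘ π) (by show la (π 0) * mu (π 1) = la (π 1) * mu (π 0); linear_combination h01')
        (hne _) (hne _) (by show la (π 2) * mu (π 3) = la (π 3) * mu (π 2); linear_combination h23')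
        (hne _) (hne _) n02
    · apply not_formA la mu hne (la (π 0)) (mu (π 0)) (la (π 2)) (mu (π 2)) (hne _) (hne _)
      intro i
      obtain ⟨j, rfl⟩ := (Finite.injective_iff_bijective.mp hπ).2 i
      fin_cases j
      · left
        show la (π 0) * mu (π 0) - la (π 0) * mu (π 0) = 0
        ring
      · left
        show la (π 1) * mu (π 0) - la (π 0) * mu (π 1) = 0
        linear_combination -h01'
      · right
        show la (π 2) * mu (π 2) - la (π 2) * mu (π 2) = 0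
        ring
      · right
        show la (π 3) * mu (π 2) - la (π 2) * mu (π 3) = 0
        linear_combination -h23'
  · refine Or.inl ⟨?_, ?_⟩
    · rw [← hb]
      refine typeA (la ∘ π) (mu ∘ π) (by show la (π 0) * mu (π 1) = la (π 1) * mu (π 0); linear_combination h01')
        (hne _) (hne _) n02 ?_ n03
      intro h
      apply h23
      have h' : la (π 3) * mu (π 2) - la (π 2) * mu (π 3) = 0 := h
      show la (π 2) * mu (π 3) - la (π 3) * mu (π 2) = 0
      linear_combination -h'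
    · exact not_formB la mu (π 0) (π 2) (π 3) n02 n03 h23

theorem main_xor (la mu : Fin 4 → k)
    (hne : ∀ i, la i ≠ 0 ∨ mu i ≠ 0) (hd : W4c6intromoduli.disc la mu = 0)
    (h3z : ∀ i j l : Fin 4, i ≠ j → j ≠ l → i ≠ l →
      ¬ (la i * mu j = la j * mu i ∧ la j * mu l = la l * mu j)) :
    Xor
      (∃ (M : Matrix (Fin 2) (Fin 2) k) (c : k), IsUnit M.det ∧ c ≠ 0 ∧
        W4c6intromoduli.binForm la mu =
          C c * W4c6intromoduli.subst M (X 0 ^ 2 * X 1 * (X 0 - X 1)))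
      (∃ (M : Matrix (Fin 2) (Fin 2) k) (c : k), IsUnit M.det ∧ c ≠ 0 ∧
        W4c6intromoduli.binForm la mu =
          C c * W4c6intromoduli.subst M (X 0 ^ 2 * X 1 ^ 2)) := by
  rw [W4c6intromoduli.disc, Finset.prod_eq_zero_iff] at hd
  obtain ⟨⟨i, j⟩, hij, h⟩ := hd
  rw [Finset.mem_filter] at hij
  have hlt : i < j := hij.2
  have h0 : la j * mu i - la i * mu j = 0 := (pow_eq_zero_iff (two_ne_zero)).1 h
  obtain ⟨π, hπ, hπ0, hπ1⟩ : ∃ π : Fin 4 → Fin 4, Function.Injective π ∧ π 0 = i ∧ π 1 = j := by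
    fin_cases i <;> fin_cases j <;>
      first
        | exact absurd hlt (by decide)
        | exact ⟨![0, 1, 2, 3], by decide, rfl, rfl⟩
        | exact ⟨![0, 2, 1, 3], by decide, rfl, rfl⟩
        | exact ⟨![0, 3, 1, 2], by decide, rfl, rfl⟩
        | exact ⟨![1, 2, 0, 3], by decide, rfl, rfl⟩
        | exact ⟨![1, 3, 0, 2], by decide, rfl, rfl⟩
        | exact ⟨![2, 3, 0, 1], by decide, rfl, rfl⟩
  apply main_of_perm la mu hne h3z π hπ
  rw [hπ0, hπ1]
  show la i * mu j - la j * mu i = 0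
  linear_combination -h0

end Groth.Agent.Helper29.Quartic
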