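import Mathlib
import Groth.Prelude.Def_DCoh2
import Groth.Agent.Lib.Helper11.KI1
import Groth.Agent.Lib.Helper29.ShModGA

/-!
# Right derived functors preserve `D^{≥ n}`
-/
set_option autoImplicit false
universe w w' v v' u u'
open CategoryTheory CategoryTheory.Limits

namespace Groth.Agent.Helper29.RGE

open Groth.Agent.Helper11.KI

variable {𝒜 : Type u} [Category.{v} 𝒜] [Abelian 𝒜] [IsGrothendieckAbelian.{v} 𝒜]
  [HasDerivedCategory.{w} 𝒜]
  {ℬ : Type u'} [Category.{v'} ℬ] [Abelian ℬ] [HasDerivedCategory.{w'} ℬ]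
  (G : 𝒜 ⥤ ℬ) [G.Additive]
  (RG : DerivedCategory 𝒜 ⥤ DerivedCategory ℬ)
  (β : G.mapHomotopyCategory (ComplexShape.up ℤ) ⋙ DerivedCategory.Qh ⟶ DerivedCategory.Qh ⋙ RG)
  [RG.IsRightDerivedFunctor β (WK 𝒜)]

include β in
theorem isGE (F : DerivedCategory 𝒜) (n : ℤ) [F.IsGE n] : (RG.obj F).IsGE n := by
  obtain ⟨K, _, ⟨e⟩⟩ := DerivedCategory.exists_iso_Q_obj_of_isGE F n
  obtain ⟨L, i, hi, hL, hGE⟩ := CochainComplex.Plus.modelCategoryQuillen.exists_quasiIso_injective K n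
  haveI : L.IsKInjective := CochainComplex.isKInjective_of_injective L n
  have h1 : IsIso (β.app ((quo 𝒜).obj L)) := isIso_unit.{w} _ RG β L
  haveI : IsIso (DerivedCategory.Q.map i) := by
    rw [DerivedCategory.isIso_Q_map_iff_quasiIso]; exact hi
  let e1 : F ≅ DerivedCategory.Q.obj L := e ≪≫ asIso (DerivedCategory.Q.map i)
  let e2 : DerivedCategory.Q.obj ((G.mapHomologicalComplex (ComplexShape.up ℤ)).obj L) ≅
      RG.obj (DerivedCategory.Q.obj L) := @asIso _ _ _ _ (β.app ((quo 𝒜).obj L)) h1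
  let M₀ : CochainComplex ℬ ℤ := (G.mapHomologicalComplex (ComplexShape.up ℤ)).obj L
  haveI : M₀.IsStrictlyGE n := inferInstance
  haveI : (DerivedCategory.Q.obj M₀).IsGE n := by
    rw [DerivedCategory.isGE_Q_obj_iff]; infer_instance
  exact DerivedCategory.TStructure.t.isGE_of_iso (e2 ≪≫ RG.mapIso e1.symm) n

end Groth.Agent.Helper29.RGE
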