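import Groth.Agent.Lib.Helper5.SkyMod2
import Groth.Agent.Lib.Helper9.SuppD2
import Groth.Prelude.Def_CxOX

/-!
# Stalks of the extension by zero outside the open; modules supported on the open
-/

set_option autoImplicit false
universe u
open CategoryTheory CategoryTheory.Limits AlgebraicGeometry TopologicalSpace Opposite

namespace Groth.Agent.Helper29.RHomResA

open Groth.Agent.Helper5

variable {X : Scheme.{u}} (U : X.Opens)

/-- the restriction to `U` of a skyscraper module at a point outside `U` vanishes -/
lemma isZero_restrict_sky (x : X) (hx : x ∉ U) (N : ModuleCat.{u} (X.presheaf.stalk x)) :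
    IsZero ((Scheme.Modules.restrictFunctor U.ι).obj (Sky.sky x N)) := by
  apply Groth.Agent.Helper9.SuppD.isZero_of_subsingleton_sections
  intro V
  have hxV : x ∉ U.ι ''ᵁ V := by
    intro h
    obtain ⟨y, -, rfl⟩ := h
    exact hx (by simpa using y.2)
  refine ⟨fun s t => ?_⟩
  change Sky.Sec x N (U.ι ''ᵁ V) at s t
  funext h
  exact absurd h.down hxV

/-- the stalk of `j_! M` at a point outside `U` vanishes -/
theorem isZero_stalk_extZero (x : X) (hx : x ∉ U) (M : (U : Scheme.{u}).Modules) :
    IsZero ((DerSch.stalkFunctor X x).obj ((CxOX.extZero U.ι).obj M)) := by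
  rw [IsZero.iff_id_eq_zero]
  apply ((Sky.stalkSkyAdj x).homEquiv _ _).injective
  apply ((CxOX.extZeroAdj U.ι).homEquiv _ _).injective
  exact (isZero_restrict_sky U x hx _).eq_of_tgt _ _

/-- a module with zero restriction to `U` and zero stalks outside `U` is zero -/
lemma isZero_of_restrict_of_stalks (H : X.Modules)
    (h1 : IsZero ((Scheme.Modules.restrictFunctor U.ι).obj H))
    (h2 : ∀ x : X, x ∉ U → IsZero ((DerSch.stalkFunctor X x).obj H)) : IsZero H := by
  apply StalkCx.isZero_of_stalks
  intro x
  by_cases hx : x ∈ U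
  · haveI : Subsingleton (H.presheaf.stalk x) :=
      Groth.Agent.Helper9.SuppD.subsingleton_stalk_of_isZero_restrict H U h1 x hx
    haveI : Subsingleton ((DerSch.stalkFunctor X x).obj H) :=
      inferInstanceAs (Subsingleton (H.presheaf.stalk x))
    exact ModuleCat.isZero_of_subsingleton _
  · exact h2 x hx

/-- the counit `j_! j^* H ⟶ H` is an isomorphism when the stalks of `H` vanish outside `U` -/
theorem isIso_counit_of_stalks (H : X.Modules)
    (h : ∀ x : X, x ∉ U → IsZero ((DerSch.stalkFunctor X x).obj H)) :
    IsIso ((CxOX.extZeroAdj U.ι).counit.app H) := by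
  set ε := (CxOX.extZeroAdj U.ι).counit.app H with hε
  haveI : IsIso ((Scheme.Modules.restrictFunctor U.ι).map ε) := by
    have h1 := (CxOX.extZeroAdj U.ι).right_triangle_components H
    haveI : IsIso ((CxOX.extZeroAdj U.ι).unit.app ((Scheme.Modules.restrictFunctor U.ι).obj H)) :=
      inferInstance
    exact IsIso.of_isIso_fac_left h1
  have hK : IsZero (kernel ε) := by
    apply isZero_of_restrict_of_stalks U
    · exact IsZero.of_iso (isZero_kernel_of_mono _)
        (PreservesKernel.iso (Scheme.Modules.restrictFunctor U.ι) ε)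
    · intro x hx
      have hm : Mono ((DerSch.stalkFunctor X x).map (kernel.ι ε)) := inferInstance
      have hz : IsZero ((DerSch.stalkFunctor X x).obj ((CxOX.extZero U.ι).obj
          ((Scheme.Modules.restrictFunctor U.ι).obj H))) := isZero_stalk_extZero U x hx _
      rw [IsZero.iff_id_eq_zero, ← cancel_mono ((DerSch.stalkFunctor X x).map (kernel.ι ε))]
      exact hz.eq_of_tgt _ _
  have hC : IsZero (cokernel ε) := by
    apply isZero_of_restrict_of_stalks U
    · exact IsZero.of_iso (isZero_cokernel_of_epi _)
        (PreservesCokernel.iso (Scheme.Modules.restrictFunctor U.ι) ε)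
    · intro x hx
      have hm : Epi ((DerSch.stalkFunctor X x).map (cokernel.π ε)) := inferInstance
      rw [IsZero.iff_id_eq_zero, ← cancel_epi ((DerSch.stalkFunctor X x).map (cokernel.π ε))]
      exact (h x hx).eq_of_src _ _
  haveI : Mono ε := Preadditive.mono_of_isZero_kernel ε hK
  haveI : Epi ε := Preadditive.epi_of_isZero_cokernel ε hC
  exact isIso_of_mono_of_epi ε

end Groth.Agent.Helper29.RHomResA
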