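import Groth.Agent.Lib.Helper29.RHomResA
import Groth.Agent.Lib.Helper29.DExAdj
import Groth.Agent.Lib.Helper5.CXB2
import Groth.Agent.Lib.Helper5.LOC1
import Groth.Agent.Lib.Helper17.IR1

/-!
# Extension by zero of complexes and tensor products: support and K-flatness
-/

set_option autoImplicit false
universe u
open CategoryTheory CategoryTheory.Limits AlgebraicGeometry TopologicalSpace Opposite MonoidalCategory

namespace Groth.Agent.Helper29.RHomResB

open Groth.Agent.Helper5 Groth.Agent.Helper29.RHomResA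

variable {X : Scheme.{u}} (U : X.Opens)

/-- extension by zero of complexes -/
noncomputable abbrev jSC : CochainComplex (U : Scheme.{u}).Modules ℤ ⥤ CochainComplex X.Modules ℤ :=
  (CxOX.extZero U.ι).mapHomologicalComplex (ComplexShape.up ℤ)

/-- restriction of complexes -/
noncomputable abbrev jRC : CochainComplex X.Modules ℤ ⥤ CochainComplex (U : Scheme.{u}).Modules ℤ :=
  (Scheme.Modules.restrictFunctor U.ι).mapHomologicalComplex (ComplexShape.up ℤ)

/-- the adjunction on complexes -/
noncomputable abbrev adjC : jSC U ⊣ jRC U :=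
  DAdjA.cxAdj (CxOX.extZeroAdj U.ι) (ComplexShape.up ℤ)

lemma isZero_stalkCx_extZero (x : X) (hx : x ∉ U) (L : CochainComplex (U : Scheme.{u}).Modules ℤ) :
    IsZero (StalkCx.stalkCx x ((jSC U).obj L)) := by
  rw [IsZero.iff_id_eq_zero]
  ext n : 1
  exact (isZero_stalk_extZero U x hx (L.X n)).eq_of_src _ _

lemma isZero_stalkCx_tens_left (x : X) (hx : x ∉ U) (L : CochainComplex (U : Scheme.{u}).Modules ℤ)
    (K : CochainComplex X.Modules ℤ) :
    IsZero (StalkCx.stalkCx x ((DCoh.tensorCx.obj ((jSC U).obj L)).obj K)) := by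
  have hz := isZero_stalkCx_extZero U x hx L
  have hz2 : IsZero (StalkCx.stalkCx x ((jSC U).obj L) ⊗ StalkCx.stalkCx x K) := by
    rw [IsZero.iff_id_eq_zero, ← MonoidalCategory.id_whiskerRight, hz.eq_of_src (𝟙 _) 0,
      KF.whiskerRight_zero']
  exact hz2.of_iso (StalkCx.stalkTensIso x _ _).symm

lemma isZero_stalkCx_tens_right (x : X) (hx : x ∉ U) (L : CochainComplex (U : Scheme.{u}).Modules ℤ)
    (K : CochainComplex X.Modules ℤ) :
    IsZero (StalkCx.stalkCx x ((DCoh.tensorCx.obj K).obj ((jSC U).obj L))) := by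
  have hz := isZero_stalkCx_extZero U x hx L
  have hz2 : IsZero (StalkCx.stalkCx x K ⊗ StalkCx.stalkCx x ((jSC U).obj L)) := by
    rw [IsZero.iff_id_eq_zero, ← MonoidalCategory.whiskerLeft_id, hz.eq_of_src (𝟙 _) 0,
      KF.whiskerLeft_zero']
  exact hz2.of_iso (StalkCx.stalkTensIso x _ _).symm

/-- the stalks of the terms of `j_! L ⊗ K` vanish outside `U` -/
lemma isZero_stalk_tens_left (x : X) (hx : x ∉ U) (L : CochainComplex (U : Scheme.{u}).Modules ℤ)
    (K : CochainComplex X.Modules ℤ) (n : ℤ) :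
    IsZero ((DerSch.stalkFunctor X x).obj (((DCoh.tensorCx.obj ((jSC U).obj L)).obj K).X n)) :=
  (HomologicalComplex.eval _ _ n).map_isZero (isZero_stalkCx_tens_left U x hx L K)

/-- the counit of `j_! ⊣ j^*` is an isomorphism on `j_! L ⊗ K` -/
instance isIso_counit_tens (L : CochainComplex (U : Scheme.{u}).Modules ℤ)
    (K : CochainComplex X.Modules ℤ) :
    IsIso ((adjC U).counit.app ((DCoh.tensorCx.obj ((jSC U).obj L)).obj K)) := by
  haveI : ∀ n, IsIso (((adjC U).counit.app ((DCoh.tensorCx.obj ((jSC U).obj L)).obj K)).f n) := by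
    intro n
    change IsIso ((CxOX.extZeroAdj U.ι).counit.app _)
    exact isIso_counit_of_stalks U _ (fun x hx => isZero_stalk_tens_left U x hx L K n)
  exact HomologicalComplex.Hom.isIso_of_components _

/-- the unit of `j_! ⊣ j^*` on complexes is an isomorphism -/
instance isIso_unit (L : CochainComplex (U : Scheme.{u}).Modules ℤ) :
    IsIso ((adjC U).unit.app L) := by
  haveI : ∀ n, IsIso (((adjC U).unit.app L).f n) := by
    intro n
    change IsIso ((CxOX.extZeroAdj U.ι).unit.app _)
    infer_instance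
  exact HomologicalComplex.Hom.isIso_of_components _

/-- restriction preserves acyclicity -/
lemma acyclic_restrict (L : CochainComplex X.Modules ℤ) (hL : ∀ i : ℤ, IsZero (L.homology i))
    (i : ℤ) : IsZero (((jRC U).obj L).homology i) :=
  ((Scheme.Modules.restrictFunctor U.ι).map_isZero (hL i)).of_iso
    ((L.sc i).mapHomologyIso (Scheme.Modules.restrictFunctor U.ι))

/-- `j_! P` is K-flat when `P` is -/
theorem isKFlat_extZero (P : CochainComplex (U : Scheme.{u}).Modules ℤ) (hP : DCoh.IsKFlat P) :
    DCoh.IsKFlat ((jSC U).obj P) := by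
  intro L hL i
  set T := (DCoh.tensorCx.obj L).obj ((jSC U).obj P) with hT
  apply isZero_of_restrict_of_stalks U
  · refine IsZero.of_iso ?_ ((T.sc i).mapHomologyIso (Scheme.Modules.restrictFunctor U.ι)).symm
    have e1 : (jRC U).obj T ≅ (DCoh.tensorCx.obj ((jRC U).obj L)).obj P :=
      (TRS.restrictTensIso U.ι L ((jSC U).obj P)).symm ≪≫
        (DCoh.tensorCx.obj ((jRC U).obj L)).mapIso (asIso ((adjC U).unit.app P)).symm
    exact IsZero.of_iso (hP _ (acyclic_restrict U L hL) i)
      ((HomologicalComplex.homologyFunctor _ _ i).mapIso e1)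
  · intro x hx
    refine IsZero.of_iso ?_ (StalkCx.stalkHomologyIso T x i).symm
    exact (HomologicalComplex.homologyFunctor _ _ i).map_isZero
      (isZero_stalkCx_tens_right U x hx P L)

end Groth.Agent.Helper29.RHomResB
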