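import Groth.Agent.Lib.Helper29.RHomResB

/-!
# The projection formula `j_!(A) ⊗ K ≅ j_!(A ⊗ K|_U)` on complexes, naturally in `A`
-/

set_option autoImplicit false
universe u
open CategoryTheory CategoryTheory.Limits AlgebraicGeometry TopologicalSpace Opposite MonoidalCategory

namespace Groth.Agent.Helper29.RHomResC

open Groth.Agent.Helper5 Groth.Agent.Helper29.RHomResA Groth.Agent.Helper29.RHomResB

variable {X : Scheme.{u}} (U : X.Opens) (K : CochainComplex X.Modules ℤ)

/-- `- ⊗ K` -/
noncomputable abbrev TK : CochainComplex X.Modules ℤ ⥤ CochainComplex X.Modules ℤ :=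
  (DCoh.tensorCx (X := X)).flip.obj K

/-- `- ⊗ K|_U` -/
noncomputable abbrev TU : CochainComplex (U : Scheme.{u}).Modules ℤ ⥤
    CochainComplex (U : Scheme.{u}).Modules ℤ :=
  (DCoh.tensorCx (X := (U : Scheme.{u}))).flip.obj ((jRC U).obj K)

/-- restriction commutes with `- ⊗ K`, naturally -/
noncomputable def ρ : jRC U ⋙ TU U K ≅ TK K ⋙ jRC U :=
  NatIso.ofComponents (fun A => TRS.restrictTensIso U.ι A K) (by
    intro A B f
    exact KFA.BiComm.ΦC_naturality_left (TRS.restrictBiComm U.ι) K f)

/-- the projection formula morphism -/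
noncomputable def Einv : TU U K ⋙ jSC U ⟶ jSC U ⋙ TK K where
  app L := (jSC U).map ((TU U K).map ((adjC U).unit.app L)) ≫
    (jSC U).map ((ρ U K).hom.app ((jSC U).obj L)) ≫
    (adjC U).counit.app ((TK K).obj ((jSC U).obj L))
  naturality L L' f := by
    have h1 := (adjC U).unit.naturality f
    have h2 := (ρ U K).hom.naturality ((jSC U).map f)
    have h3 := (adjC U).counit.naturality ((TK K).map ((jSC U).map f))
    simp only [Functor.comp_map, Functor.id_map, Functor.comp_obj, Functor.id_obj] at h1 h2 h3 ⊢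
    have key : (TU U K).map f ≫ (TU U K).map ((adjC U).unit.app L') ≫
        (ρ U K).hom.app ((jSC U).obj L') =
        (TU U K).map ((adjC U).unit.app L) ≫ (ρ U K).hom.app ((jSC U).obj L) ≫
          (jRC U).map ((TK K).map ((jSC U).map f)) := by
      rw [← h2, ← Functor.map_comp_assoc, ← Functor.map_comp_assoc, h1]
    have := congrArg (fun t => (jSC U).map t ≫
      (adjC U).counit.app ((TK K).obj ((jSC U).obj L'))) key
    rw [Category.assoc, Category.assoc, ← h3]
    simpa only [Functor.map_comp, Category.assoc] using this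

instance isIso_Einv_app (L : CochainComplex (U : Scheme.{u}).Modules ℤ) :
    IsIso ((Einv U K).app L) := by
  haveI : IsIso ((adjC U).counit.app ((TK K).obj ((jSC U).obj L))) :=
    isIso_counit_tens U L K
  change IsIso ((jSC U).map ((TU U K).map ((adjC U).unit.app L)) ≫
    (jSC U).map ((ρ U K).hom.app ((jSC U).obj L)) ≫
    (adjC U).counit.app ((TK K).obj ((jSC U).obj L)))
  infer_instance

instance isIso_Einv : IsIso (Einv U K) := NatIso.isIso_of_isIso_app _

/-- the projection formula `j_!(A) ⊗ K ≅ j_!(A ⊗ K|_U)` -/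
noncomputable def E : jSC U ⋙ TK K ≅ TU U K ⋙ jSC U := (asIso (Einv U K)).symm

end Groth.Agent.Helper29.RHomResC
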