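import Groth.Agent.Lib.Helper29.RHomResC

/-!
# The derived projection formula `j_!(A) ⊗^L K ≅ j_!(A ⊗^L K|_U)` and `RHom(K, M)|_U ≅ RHom(K|_U, M|_U)`
-/

set_option autoImplicit false
universe u
open CategoryTheory CategoryTheory.Limits AlgebraicGeometry TopologicalSpace Opposite

attribute [local instance] HasDerivedCategory.standard

namespace Groth.Agent.Helper29.RHomResD

open Groth.Agent.Helper5 Groth.Agent.Helper29.RHomResA Groth.Agent.Helper29.RHomResB
  Groth.Agent.Helper29.RHomResC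

variable {X : Scheme.{u}} (U : X.Opens) (K : CochainComplex X.Modules ℤ)

instance instPFLextZero : PreservesFiniteLimits (CxOX.extZero U.ι) :=
  Groth.Agent.Helper17.IR.preservesFiniteLimits_extZero X U

/-- `j_!` on derived categories -/
noncomputable abbrev jSD : DCoh.D (U : Scheme.{u}) ⥤ DCoh.D X := CxOX.extZeroD U.ι

/-- the factorisation of `j_!` -/
noncomputable abbrev fac : DerivedCategory.Q ⋙ jSD U ≅ jSC U ⋙ DerivedCategory.Q :=
  (CxOX.extZero U.ι).mapDerivedCategoryFactors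

section

variable [DCoh.HasLTensorCx K] [DCoh.HasLTensorCx ((jRC U).obj K)]

/-- the counit on `X` -/
noncomputable abbrev αX : DerivedCategory.Q ⋙ DCoh.LTensorCx K ⟶ DCoh.tensorCxQ K :=
  (DCoh.tensorCxQ K).totalLeftDerivedCounit DerivedCategory.Q
    (HomologicalComplex.quasiIso X.Modules (ComplexShape.up ℤ))

/-- the counit on `U` -/
noncomputable abbrev αU : DerivedCategory.Q ⋙ DCoh.LTensorCx ((jRC U).obj K) ⟶
    DCoh.tensorCxQ ((jRC U).obj K) :=
  (DCoh.tensorCxQ ((jRC U).obj K)).totalLeftDerivedCounit DerivedCategory.Q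
    (HomologicalComplex.quasiIso (U : Scheme.{u}).Modules (ComplexShape.up ℤ))

noncomputable abbrev G1 : DCoh.D (U : Scheme.{u}) ⥤ DCoh.D X := jSD U ⋙ DCoh.LTensorCx K
noncomputable abbrev G2 : DCoh.D (U : Scheme.{u}) ⥤ DCoh.D X :=
  DCoh.LTensorCx ((jRC U).obj K) ⋙ jSD U
noncomputable abbrev F1 : CochainComplex (U : Scheme.{u}).Modules ℤ ⥤ DCoh.D X :=
  jSC U ⋙ DCoh.tensorCxQ K
noncomputable abbrev F2 : CochainComplex (U : Scheme.{u}).Modules ℤ ⥤ DCoh.D X :=
  DCoh.tensorCxQ ((jRC U).obj K) ⋙ jSD U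

noncomputable def β1 : DerivedCategory.Q ⋙ G1 U K ⟶ F1 U K :=
  (Functor.associator _ _ _).inv ≫ Functor.whiskerRight (fac U).hom (DCoh.LTensorCx K) ≫
    (Functor.associator _ _ _).hom ≫ Functor.whiskerLeft (jSC U) (αX K)

noncomputable def β2 : DerivedCategory.Q ⋙ G2 U K ⟶ F2 U K :=
  (Functor.associator _ _ _).inv ≫ Functor.whiskerRight (αU U K) (jSD U)

lemma β1_app (A : CochainComplex (U : Scheme.{u}).Modules ℤ) :
    (β1 U K).app A = (DCoh.LTensorCx K).map ((fac U).hom.app A) ≫ (αX K).app ((jSC U).obj A) := by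
  simp [β1]

lemma β2_app (A : CochainComplex (U : Scheme.{u}).Modules ℤ) :
    (β2 U K).app A = (jSD U).map ((αU U K).app A) := by
  simp [β2]

lemma inverts_F1 : LDer.InvertsKFlatQis (F1 U K) := by
  intro A B g hg hA hB
  haveI := hg
  exact CXB.invertsKFlatQis_tensorCxQ K ((jSC U).map g) inferInstance
    (isKFlat_extZero U A hA) (isKFlat_extZero U B hB)

lemma inverts_F2 : LDer.InvertsKFlatQis (F2 U K) := by
  intro A B g hg hA hB
  haveI : IsIso ((DCoh.tensorCxQ ((jRC U).obj K)).map g) :=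
    CXB.invertsKFlatQis_tensorCxQ ((jRC U).obj K) g hg hA hB
  change IsIso ((jSD U).map ((DCoh.tensorCxQ ((jRC U).obj K)).map g))
  infer_instance

instance isLDF1 : (G1 U K).IsLeftDerivedFunctor (β1 U K)
    (HomologicalComplex.quasiIso (U : Scheme.{u}).Modules (ComplexShape.up ℤ)) := by
  apply LDer.isLeftDerivedFunctor_cx_of_isIso (F1 U K) (inverts_F1 U K)
  intro A hA
  rw [β1_app]
  haveI : IsIso ((αX K).app ((jSC U).obj A)) :=
    CXB.isIso_counit_tensorCxQ K _ (isKFlat_extZero U A hA)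
  infer_instance

instance isLDF2 : (G2 U K).IsLeftDerivedFunctor (β2 U K)
    (HomologicalComplex.quasiIso (U : Scheme.{u}).Modules (ComplexShape.up ℤ)) := by
  apply LDer.isLeftDerivedFunctor_cx_of_isIso (F2 U K) (inverts_F2 U K)
  intro A hA
  rw [β2_app]
  haveI : IsIso ((αU U K).app A) := CXB.isIso_counit_tensorCxQ ((jRC U).obj K) A hA
  infer_instance

/-- the projection formula before deriving -/
noncomputable def e12 : F1 U K ≅ F2 U K :=
  (Functor.associator _ _ _).symm ≪≫ Functor.isoWhiskerRight (E U K) DerivedCategory.Q ≪≫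
    Functor.associator _ _ _ ≪≫ Functor.isoWhiskerLeft (TU U K) (fac U).symm ≪≫
    (Functor.associator _ _ _).symm

/-- the derived projection formula `j_!(A) ⊗^L K ≅ j_!(A ⊗^L K|_U)` -/
noncomputable def ν : G1 U K ≅ G2 U K :=
  Functor.leftDerivedNatIso (G1 U K) (G2 U K) (β1 U K) (β2 U K)
    (HomologicalComplex.quasiIso (U : Scheme.{u}).Modules (ComplexShape.up ℤ)) (e12 U K)

end

/-- the derived adjunction `j_! ⊣ j^*` -/
noncomputable def adjJ : jSD U ⊣ DCoh.restrictD U.ι :=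
  DExAdj.dAdj (CxOX.extZeroAdj U.ι)

theorem main [DCoh.HasLTensorCx K] [DCoh.HasRSheafHom K]
    [DCoh.HasLTensorCx ((DCoh.restrictCx U).obj K)] [DCoh.HasRSheafHom ((DCoh.restrictCx U).obj K)]
    (M : DCoh.D X) :
    Nonempty ((DCoh.restrictD U.ι).obj ((DCoh.RSheafHom K).obj M) ≅
      (DCoh.RSheafHom ((DCoh.restrictCx U).obj K)).obj ((DCoh.restrictD U.ι).obj M)) := by
  let adj1 := (adjJ U).comp (DCoh.RSheafHomAdj K)
  let adj2 := (DCoh.RSheafHomAdj ((DCoh.restrictCx U).obj K)).comp (adjJ U)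
  exact ⟨((adj1.ofNatIsoLeft (ν U K)).rightAdjointUniq adj2).app M⟩

end Groth.Agent.Helper29.RHomResD
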