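import Mathlib
import Groth.Agent.Lib.Helper13.GenLocus
import Groth.Prelude.Def_LinSer
import Groth.Prelude.Def_CohB1

set_option autoImplicit false
universe u
open CategoryTheory CategoryTheory.Limits AlgebraicGeometry Opposite TopologicalSpace
open Groth.Agent.Helper13.QCoh Groth.Agent.Helper13.Inv Groth.Agent.Helper13.GenLoc
open Groth.Agent.Helper13

namespace Groth.Agent.Helper29.RatPts

variable {k : Type u} [Field k] {X : Scheme.{u}}

section Ev

variable (q : Spec (CommRingCat.of k) ⟶ X)

lemma top_le_preimage (W : X.Opens) (hW : q (IsLocalRing.closedPoint k) ∈ W) :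
    (⊤ : (Spec (CommRingCat.of k)).Opens) ≤ q ⁻¹ᵁ W := by
  intro y _
  have : y = IsLocalRing.closedPoint k := Subsingleton.elim (α := PrimeSpectrum k) _ _
  rw [this]; exact hW

noncomputable def ev (W : X.Opens) (hW : q (IsLocalRing.closedPoint k) ∈ W) : Γ(X, W) →+* k :=
  (Scheme.ΓSpecIso (CommRingCat.of k)).hom.hom.comp
    (((Spec (CommRingCat.of k)).presheaf.map (homOfLE (top_le_preimage q W hW)).op).hom.comp
      (q.app W).hom)

lemma ev_res {W W' : X.Opens} (h : W' ≤ W) (hW' : q (IsLocalRing.closedPoint k) ∈ W')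
    (a : Γ(X, W)) :
    ev q W' hW' (X.presheaf.map (homOfLE h).op a) = ev q W (h hW') a := by
  have key : X.presheaf.map (homOfLE h).op ≫ q.app W' ≫
      (Spec (CommRingCat.of k)).presheaf.map (homOfLE (top_le_preimage q W' hW')).op
      = q.app W ≫
        (Spec (CommRingCat.of k)).presheaf.map (homOfLE (top_le_preimage q W (h hW'))).op := by
    rw [← Category.assoc, q.naturality, Category.assoc, ← Functor.map_comp]
    rfl
  have key2 : ((Spec (CommRingCat.of k)).presheaf.map
        (homOfLE (top_le_preimage q W' hW')).op).hom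
        ((q.app W').hom ((X.presheaf.map (homOfLE h).op).hom a))
      = ((Spec (CommRingCat.of k)).presheaf.map
        (homOfLE (top_le_preimage q W (h hW'))).op).hom ((q.app W).hom a) :=
    ConcreteCategory.congr_hom key a
  unfold ev
  simp only [RingHom.comp_apply]
  exact congrArg _ key2

lemma ev_toGlobal [X.Over (Spec (CommRingCat.of k))]
    (hq : q ≫ (X ↘ Spec (CommRingCat.of k)) = 𝟙 _) (c : k) :
    ev q ⊤ trivial (Coh.toGlobal (X ↘ Spec (CommRingCat.of k)) c) = c := by
  have e0 : (X ↘ Spec (CommRingCat.of k)).appTop ≫ q.appTop = 𝟙 _ := by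
    rw [← Scheme.Hom.comp_appTop, hq, Scheme.Hom.id_appTop]
  have key2 : (q.appTop).hom ((X ↘ Spec (CommRingCat.of k)).appTop.hom
          ((Scheme.ΓSpecIso (CommRingCat.of k)).inv.hom c))
      = (Scheme.ΓSpecIso (CommRingCat.of k)).inv.hom c :=
    ConcreteCategory.congr_hom e0 ((Scheme.ΓSpecIso (CommRingCat.of k)).inv.hom c)
  have e1 : ∀ z : Γ(Spec (CommRingCat.of k), ⊤), ((Spec (CommRingCat.of k)).presheaf.map
      (homOfLE (top_le_preimage q ⊤ trivial)).op).hom z = z := by
    intro z
    have : (Spec (CommRingCat.of k)).presheaf.map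
        (𝟙 (op (⊤ : (Spec (CommRingCat.of k)).Opens))) = 𝟙 _ :=
      (Spec (CommRingCat.of k)).presheaf.map_id _
    exact ConcreteCategory.congr_hom this z
  have e2 := ConcreteCategory.congr_hom (Scheme.ΓSpecIso (CommRingCat.of k)).inv_hom_id c
  unfold ev Coh.toGlobal
  simp only [RingHom.comp_apply]
  refine (congrArg (Scheme.ΓSpecIso (CommRingCat.of k)).hom.hom
    ((e1 _).trans key2)).trans ?_
  exact e2

lemma ev_ne_zero {W : X.Opens} (hW : q (IsLocalRing.closedPoint k) ∈ W) (b : Γ(X, W))
    (hb : q (IsLocalRing.closedPoint k) ∈ X.basicOpen b) : ev q W hW b ≠ 0 := by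
  rw [← ev_res q (X.basicOpen_le b) hb b]
  have hu : IsUnit (X.presheaf.map (homOfLE (X.basicOpen_le b)).op b) :=
    RingedSpace.isUnit_res_basicOpen X.toRingedSpace b
  exact (hu.map (ev q (X.basicOpen b) hb)).ne_zero

end Ev

section Main

lemma sec_homOfSec (L : X.Modules) (σ : Γ(L, ⊤)) : sec L (LocFree.homOfSec L σ) = σ := by
  have h := LocFree.homOfSec_app_one L σ ⊤
  rw [map_id_apply'] at h
  exact h

lemma sec_zero (L : X.Modules) : sec L (0 : Coh.structureModule X ⟶ L) = 0 := by
  rfl

theorem main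
    (k : Type u) [Field k] (X : Scheme.{u}) [X.Over (Spec (CommRingCat.of k))]
    (L : X.Modules) (hL : PicF.IsInvertible L)
    (n : ℕ) (p : Fin n → (Spec (CommRingCat.of k) ⟶ X))
    (hp : ∀ i, p i ≫ (X ↘ Spec (CommRingCat.of k)) = 𝟙 _)
    (t : Fin (n + 1) → (Coh.structureModule X ⟶ L))
    (ht : LinSer.LinIndep k X L (fun j => (L.unitHomEquiv (t j)).val (op ⊤))) :
    ∃ s : Coh.structureModule X ⟶ L, s ≠ 0 ∧
      ∀ i, (p i) (IsLocalRing.closedPoint k) ∉ CohB1.genLocus L s := by
  classical
  have h1 := (isInvertible_iff_exists_isGen L).1 hL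
  choose U hxU e he using fun i => h1 ((p i) (IsLocalRing.closedPoint k))
  have h2 := fun i j => exists_eq_smul_of_isGen L (e i) _ (hxU i) (he i _ (hxU i))
    (V := ⊤) trivial (sec L (t j))
  choose W hxW hWU hWtop a ha using h2
  let M : Matrix (Fin n) (Fin (n + 1)) k := fun i j => ev (p i) (W i j) (hxW i j) (a i j)
  have hker : LinearMap.ker (Matrix.mulVecLin M) ≠ ⊥ := by
    apply LinearMap.ker_ne_bot_of_finrank_lt
    simp
  obtain ⟨c, hcker, hc0⟩ := (Submodule.ne_bot_iff _).mp hker
  have hc : ∀ i, ∑ j, M i j * c j = 0 := fun i => by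
    have := congrFun (LinearMap.mem_ker.mp hcker) i
    simpa [Matrix.mulVec, dotProduct] using this
  let τ : Fin (n + 1) → Γ(X, ⊤) := fun j => Coh.toGlobal (X ↘ Spec (CommRingCat.of k)) (c j)
  let σ : Γ(L, ⊤) := ∑ j, τ j • sec L (t j)
  refine ⟨LocFree.homOfSec L σ, ?_, ?_⟩
  · intro h0
    have hσ : sec L (LocFree.homOfSec L σ) = σ := sec_homOfSec L σ
    rw [h0, sec_zero] at hσ
    have hσ0 : σ = 0 := hσ.symm
    exact hc0 (ht c hσ0)
  · intro i hmem
    have hgen : IsGen L σ ((p i) (IsLocalRing.closedPoint k)) trivial := by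
      have := isGen_of_mem_genLocus L _ hmem
      rwa [sec_homOfSec] at this
    let V : X.Opens := Finset.univ.inf (W i)
    have hVW : ∀ j, V ≤ W i j := fun j => Finset.inf_le (Finset.mem_univ j)
    have hxV : (p i) (IsLocalRing.closedPoint k) ∈ V := by
      have : ((p i) (IsLocalRing.closedPoint k)) ∈ (V : Set X) := by
        rw [Opens.coe_finset_inf]
        simp only [Finset.inf_set_eq_iInter, Function.comp_apply, Set.mem_iInter]
        intro j _
        exact hxW i j
      exact this
    have hn : 0 < n := Fin.pos i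
    have j0 : Fin (n + 1) := 0
    have hVU : V ≤ U i := (hVW j0).trans (hWU i j0)
    let eV : Γ(L, V) := L.presheaf.map (homOfLE hVU).op (e i)
    have heV : IsGen L eV ((p i) (IsLocalRing.closedPoint k)) hxV :=
      (isGen_res L (homOfLE hVU) (e i) _ hxV).2 (he i _ (hxU i))
    let b : Γ(X, V) := ∑ j, X.presheaf.map (homOfLE (le_top : V ≤ ⊤)).op (τ j) *
        X.presheaf.map (homOfLE (hVW j)).op (a i j)
    have hσV : L.presheaf.map (homOfLE (le_top : V ≤ ⊤)).op σ = b • eV := by
      simp only [σ, b, map_sum, Finset.sum_smul]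
      refine Finset.sum_congr rfl fun j _ => ?_
      rw [Scheme.Modules.map_smul, mul_smul]
      congr 1
      rw [← map_map_eq L (homOfLE (le_top : W i j ≤ ⊤)).op (homOfLE (hVW j)).op
        (homOfLE (le_top : V ≤ ⊤)).op, ha i j, Scheme.Modules.map_smul]
      congr 1
      exact map_map_eq L _ _ _ (e i)
    have hb : (p i) (IsLocalRing.closedPoint k) ∈ X.basicOpen b := by
      rw [← isGen_smul_iff L eV b _ hxV heV, ← hσV, isGen_res]
      exact hgen
    have hne := ev_ne_zero (p i) hxV b hb
    apply hne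
    simp only [b, map_sum, map_mul]
    rw [← hc i]
    refine Finset.sum_congr rfl fun j _ => ?_
    rw [ev_res, ev_res]
    show ev (p i) ⊤ trivial (Coh.toGlobal (X ↘ Spec (CommRingCat.of k)) (c j)) * M i j = _
    rw [ev_toGlobal (p i) (hp i), mul_comm]

end Main

end Groth.Agent.Helper29.RatPts
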