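import Groth.Prelude.Def_W4sga3iivvp2RelPsh
import Mathlib.CategoryTheory.Sites.Over
import Mathlib.CategoryTheory.Sites.SheafOfTypes

/-!
# The relative presheaf on `C/S` is separated / a sheaf iff the presheaf is (S6057)
-/

set_option autoImplicit false
open CategoryTheory Opposite Presieve
universe v₁ u₁

namespace Groth.Agent.Helper29.RelPshA

variable {C : Type u₁} [Category.{v₁} C] {S : C} {F : Cᵒᵖ ⥤ Type v₁} (φ : F ⟶ yoneda.obj S)

theorem relPsh_map_val' {T T' : Over S} (g : T' ⟶ T) (x : (ShfCat.relPsh φ).obj (op T)) :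
    ((ShfCat.relPsh φ).map g.op x).1 = F.map g.left.op x.1 := rfl

theorem phi_map {U V : C} (f : V ⟶ U) (t : F.obj (op U)) :
    φ.app (op V) (F.map f.op t) = f ≫ φ.app (op U) t := by
  have := NatTrans.naturality_apply φ f.op t
  rw [this]
  rfl

/-- separatedness passes to the relative presheaf -/
theorem sepFor_rel {T : Over S} (R' : Sieve T)
    (h : IsSeparatedFor F (Sieve.overEquiv T R').arrows) :
    IsSeparatedFor (ShfCat.relPsh φ) R'.arrows := by
  intro x t₁ t₂ h₁ h₂
  apply Subtype.ext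
  apply h.ext
  intro V f hf
  rw [Sieve.overEquiv_iff] at hf
  have e₁ := congrArg Subtype.val (h₁ _ hf)
  have e₂ := congrArg Subtype.val (h₂ _ hf)
  rw [relPsh_map_val'] at e₁ e₂
  exact e₁.trans e₂.symm

/-- the sheaf condition passes to the relative presheaf -/
theorem sheafFor_rel {T : Over S} (R' : Sieve T)
    (hS : IsSeparatedFor (yoneda.obj S) (Sieve.overEquiv T R').arrows)
    (h : IsSheafFor F (Sieve.overEquiv T R').arrows) :
    IsSheafFor (ShfCat.relPsh φ) R'.arrows := by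
  rw [← isSeparatedFor_and_exists_isAmalgamation_iff_isSheafFor]
  refine ⟨sepFor_rel φ R' h.isSeparatedFor, fun x hx => ?_⟩
  -- the family of elements of `F`
  let y : FamilyOfElements F (Sieve.overEquiv T R').arrows := fun V f hf =>
    (x (Over.homMk f : Over.mk (f ≫ T.hom) ⟶ T) ((Sieve.overEquiv_iff _ _).1 hf)).1
  have hy : y.Compatible := by
    intro V₁ V₂ W g₁ g₂ f₁ f₂ h₁ h₂ comm
    have hc := hx (Over.homMk g₁ (by simp) :
      Over.mk (g₁ ≫ f₁ ≫ T.hom) ⟶ Over.mk (f₁ ≫ T.hom))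
      (Over.homMk g₂ (by simp [reassoc_of% comm]) :
        Over.mk (g₁ ≫ f₁ ≫ T.hom) ⟶ Over.mk (f₂ ≫ T.hom))
      ((Sieve.overEquiv_iff _ _).1 h₁) ((Sieve.overEquiv_iff _ _).1 h₂)
      (by ext; simpa using comm)
    exact congrArg Subtype.val hc
  have ht : ∀ ⦃V : C⦄ (f : V ⟶ T.left) (hf : (Sieve.overEquiv T R') f),
      F.map f.op (h.amalgamate y hy) = y f hf := fun V f hf => h.valid_glue hy f hf
  have hφ : φ.app (op T.left) (h.amalgamate y hy) = T.hom := by
    apply hS.ext
    intro V f hf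
    have e := ht f hf
    have e2 : φ.app (op V) (F.map f.op (h.amalgamate y hy)) = f ≫ T.hom := by
      rw [e]
      exact (x (Over.homMk f : Over.mk (f ≫ T.hom) ⟶ T) ((Sieve.overEquiv_iff _ _).1 hf)).2
    rw [phi_map] at e2
    exact e2
  refine ⟨⟨h.amalgamate y hy, hφ⟩, ?_⟩
  intro T' g hg
  apply Subtype.ext
  rw [relPsh_map_val']
  have hg' : (Sieve.overEquiv T R') g.left := by
    rw [Sieve.overEquiv_iff]
    have : (Over.homMk g.left : Over.mk (g.left ≫ T.hom) ⟶ T) =
        (Over.isoMk (Iso.refl _) (by simp) : Over.mk (g.left ≫ T.hom) ≅ T').hom ≫ g := by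
      ext; simp
    rw [this]
    exact R'.downward_closed hg _
  rw [ht g.left hg']
  -- compare x at homMk g.left and at g
  have hc := hx (𝟙 _) (Over.isoMk (Iso.refl _) (by simp) : Over.mk (g.left ≫ T.hom) ≅ T').hom
    ((Sieve.overEquiv_iff _ _).1 hg') hg (by ext; simp)
  have hc' := congrArg Subtype.val hc
  rw [relPsh_map_val', relPsh_map_val'] at hc'
  simpa using hc'

/-- separatedness descends from the relative presheaves -/
theorem sepFor_of_rel {U : C} (R : Sieve U)
    (hS : IsSeparatedFor (yoneda.obj S) R.arrows)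
    (h : ∀ s : U ⟶ S, IsSeparatedFor (ShfCat.relPsh φ)
      ((Sieve.overEquiv (Over.mk s)).symm R).arrows) :
    IsSeparatedFor F R.arrows := by
  intro x t₁ t₂ h₁ h₂
  have hs : φ.app (op U) t₁ = φ.app (op U) t₂ := by
    apply hS.ext
    intro V f hf
    have e1 : f ≫ φ.app (op U) t₁ = f ≫ φ.app (op U) t₂ := by
      rw [← phi_map, ← phi_map, h₁ f hf, h₂ f hf]
    exact e1
  let t₁' : (ShfCat.relPsh φ).obj (op (Over.mk (φ.app (op U) t₁))) := ⟨t₁, rfl⟩
  let t₂' : (ShfCat.relPsh φ).obj (op (Over.mk (φ.app (op U) t₁))) := ⟨t₂, hs.symm⟩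
  have key : t₁' = t₂' := by
    apply (h (φ.app (op U) t₁)).ext
    intro T' g hg
    apply Subtype.ext
    rw [relPsh_map_val', relPsh_map_val']
    have hg' : R g.left := hg
    exact (h₁ g.left hg').trans (h₂ g.left hg').symm
  exact congrArg Subtype.val key

/-- the sheaf condition descends from the relative presheaves -/
theorem sheafFor_of_rel {U : C} (R : Sieve U)
    (hS : IsSheafFor (yoneda.obj S) R.arrows)
    (h : ∀ s : U ⟶ S, IsSheafFor (ShfCat.relPsh φ)
      ((Sieve.overEquiv (Over.mk s)).symm R).arrows) :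
    IsSheafFor F R.arrows := by
  rw [← isSeparatedFor_and_exists_isAmalgamation_iff_isSheafFor]
  refine ⟨sepFor_of_rel φ R hS.isSeparatedFor (fun s => (h s).isSeparatedFor), fun x hx => ?_⟩
  let z : FamilyOfElements (yoneda.obj S) R.arrows := fun V f hf => φ.app (op V) (x f hf)
  have hz : z.Compatible := by
    intro V₁ V₂ W g₁ g₂ f₁ f₂ h₁ h₂ comm
    have := hx g₁ g₂ h₁ h₂ comm
    change g₁ ≫ φ.app (op V₁) (x f₁ h₁) = g₂ ≫ φ.app (op V₂) (x f₂ h₂)
    rw [← phi_map, ← phi_map, this]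
  have hs : ∀ ⦃V : C⦄ (f : V ⟶ U) (hf : R f), f ≫ hS.amalgamate z hz = φ.app (op V) (x f hf) :=
    fun V f hf => hS.valid_glue hz f hf
  let x' : FamilyOfElements (ShfCat.relPsh φ)
      ((Sieve.overEquiv (Over.mk (hS.amalgamate z hz))).symm R).arrows :=
    fun T' g hg => ⟨x g.left hg, by
      rw [← hs g.left hg]
      exact Over.w g⟩
  have hx' : x'.Compatible := by
    intro T₁ T₂ W g₁ g₂ f₁ f₂ h₁ h₂ comm
    apply Subtype.ext
    rw [relPsh_map_val', relPsh_map_val']
    exact hx g₁.left g₂.left h₁ h₂ (congrArg CommaMorphism.left comm)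
  have ht := (h (hS.amalgamate z hz)).isAmalgamation hx'
  refine ⟨((h (hS.amalgamate z hz)).amalgamate x' hx').1, ?_⟩
  intro V f hf
  have e := ht (Over.homMk f : Over.mk (f ≫ hS.amalgamate z hz) ⟶ Over.mk (hS.amalgamate z hz)) hf
  exact congrArg Subtype.val e

variable (J : GrothendieckTopology C)

theorem main6057 (hS : Presieve.IsSheaf J (yoneda.obj S)) :
    (Presieve.IsSeparated (J.over S) (ShfCat.relPsh φ) ↔ Presieve.IsSeparated J F) ∧
    (Presieve.IsSheaf (J.over S) (ShfCat.relPsh φ) ↔ Presieve.IsSheaf J F) := by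
  refine ⟨⟨fun h U R hR => ?_, fun h T R' hR' => ?_⟩, ⟨fun h U R hR => ?_, fun h T R' hR' => ?_⟩⟩
  · exact sepFor_of_rel φ R (hS R hR).isSeparatedFor
      (fun s => h _ (J.overEquiv_symm_mem_over (Over.mk s) R hR))
  · exact sepFor_rel φ R' (h _ ((J.mem_over_iff R').1 hR'))
  · exact sheafFor_of_rel φ R (hS R hR)
      (fun s => h _ (J.overEquiv_symm_mem_over (Over.mk s) R hR))
  · exact sheafFor_rel φ R' (hS _ ((J.mem_over_iff R').1 hR')).isSeparatedFor
      (h _ ((J.mem_over_iff R').1 hR'))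

end Groth.Agent.Helper29.RelPshA
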