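import Mathlib

/-!
# A local statement about quasi-compact opens in the spectrum of a ring whose localization at a
prime is Noetherian of dimension at most one
-/

set_option autoImplicit false
universe u

namespace Groth.Agent.Helper29.RjA

variable {A : Type u} [CommRing A] (p : Ideal A) [p.IsPrime]
  (R : Type u) [CommRing R] [Algebra A R] [IsLocalization.AtPrime R p]

include R in
/-- Near a prime `p` at which `A` is Noetherian of dimension `≤ 1`, a finite union of basic opens is
a basic open. -/
theorem exists_basicOpen (hN : IsNoetherianRing R) (hd : ringKrullDim R ≤ 1) (s : Finset A) :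
    ∃ g : A, g ∉ p ∧ ∃ f : A, ∀ q : Ideal A, q.IsPrime → g ∉ q →
      ((∃ h ∈ s, h ∉ q) ↔ f ∉ q) := by
  classical
  by_cases hcase : ∃ h ∈ s, h ∉ p
  · obtain ⟨h, hs, hp⟩ := hcase
    refine ⟨h, hp, 1, fun q hq hgq => ⟨fun _ => ?_, fun _ => ⟨h, hs, hgq⟩⟩⟩
    exact fun h1 => hq.ne_top ((Ideal.eq_top_iff_one q).2 h1)
  · push_neg at hcase
    haveI : Ring.KrullDimLE 1 R := Ring.krullDimLE_iff.2 hd
    have hdim := Ring.krullDimLE_one_iff.1 (inferInstance : Ring.KrullDimLE 1 R)
    haveI : IsLocalRing R := IsLocalization.AtPrime.isLocalRing R p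
    let J : Ideal A := Ideal.span (s : Set A)
    have hJp : J ≤ p := Ideal.span_le.2 (fun h hh => hcase h hh)
    -- the minimal primes of `R`, contracted to `A`
    have hfin : (minimalPrimes R).Finite := minimalPrimes.finite_of_isNoetherianRing R
    let P : Finset (Ideal A) := hfin.toFinset.image (Ideal.comap (algebraMap A R))
    let S : Finset (Ideal A) := P.filter (fun q => ¬ J ≤ q)
    have hSprime : ∀ q ∈ S, q.IsPrime := by
      intro q hq
      obtain ⟨hqP, -⟩ := Finset.mem_filter.1 hq
      obtain ⟨Q, hQ, rfl⟩ := Finset.mem_image.1 hqP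
      have hQ' : Q ∈ minimalPrimes R := hfin.mem_toFinset.1 hQ
      haveI : Q.IsPrime := hQ'.1.1
      exact Ideal.comap_isPrime _ _
    -- prime avoidance
    obtain ⟨f, hfJ, hfS⟩ : ∃ f ∈ J, ∀ q ∈ S, f ∉ q := by
      by_contra hcon
      push_neg at hcon
      have hsub : (J : Set A) ⊆ ⋃ q ∈ (S : Set (Ideal A)), (q : Set A) := by
        intro x hx
        obtain ⟨q, hq, hxq⟩ := hcon x hx
        exact Set.mem_biUnion hq hxq
      obtain ⟨q, hq, hJq⟩ := (Ideal.subset_union_prime (f := fun q : Ideal A => q) ⊥ ⊥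
        (fun q hq _ _ => hSprime q hq)).1 hsub
      exact (Finset.mem_filter.1 hq).2 hJq
    -- every element of `J` is in the radical of `f` in `R`
    have hrad : ∀ h ∈ J, algebraMap A R h ∈ (Ideal.span {algebraMap A R f}).radical := by
      intro h hh
      rw [Ideal.radical_eq_sInf, Ideal.mem_sInf]
      rintro Q ⟨hfQ, hQprime⟩
      have hfQ' : algebraMap A R f ∈ Q := hfQ (Ideal.subset_span rfl)
      rcases hdim Q hQprime with hmin | hmax
      · -- minimal prime
        have hqP : Ideal.comap (algebraMap A R) Q ∈ P :=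
          Finset.mem_image.2 ⟨Q, hfin.mem_toFinset.2 hmin, rfl⟩
        have hnotS : Ideal.comap (algebraMap A R) Q ∉ S := fun hS => hfS _ hS hfQ'
        have hJQ : J ≤ Ideal.comap (algebraMap A R) Q := by
          by_contra hne
          exact hnotS (Finset.mem_filter.2 ⟨hqP, hne⟩)
        exact hJQ hh
      · -- the maximal ideal
        have hQ : Q = IsLocalRing.maximalIdeal R := IsLocalRing.eq_maximalIdeal hmax
        rw [hQ, ← IsLocalization.AtPrime.map_eq_maximalIdeal p R]
        exact Ideal.mem_map_of_mem _ (hJp hh)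
    -- clear denominators
    have hclear : ∀ h ∈ s, ∃ g : A, g ∉ p ∧ ∃ N : ℕ, g * h ^ N ∈ Ideal.span {f} := by
      intro h hh
      obtain ⟨N, hN⟩ := hrad h (Ideal.subset_span hh)
      have h1 : algebraMap A R h ^ N ∈ Ideal.map (algebraMap A R) (Ideal.span {f}) := by
        rwa [Ideal.map_span, Set.image_singleton]
      obtain ⟨⟨⟨a, ha⟩, ⟨m, hm⟩⟩, hx⟩ := (IsLocalization.mem_map_algebraMap_iff p.primeCompl R).1 h1
      simp only at hx
      rw [← map_pow, ← map_mul] at hx
      obtain ⟨⟨c, hc⟩, hce⟩ := (IsLocalization.eq_iff_exists p.primeCompl R).1 hx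
      simp only at hce
      refine ⟨c * m, ?_, N, ?_⟩
      · exact fun hcm => (Ideal.IsPrime.mem_or_mem inferInstance hcm).elim hc hm
      · have : c * m * h ^ N = c * a := by rw [← hce]; ring
        rw [this]
        exact Ideal.mul_mem_left _ _ ha
    choose! gh hgh using hclear
    refine ⟨∏ h ∈ s, gh h, ?_, f, ?_⟩
    · intro hprod
      obtain ⟨h, hh, hmem⟩ := Ideal.IsPrime.prod_mem_iff.1 hprod
      exact (hgh h hh).1 hmem
    · intro q hq hgq
      constructor
      · rintro ⟨h, hh, hhq⟩ hfq
        obtain ⟨-, N, hN⟩ := hgh h hh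
        have h2 : gh h * h ^ N ∈ q := by
          have : Ideal.span {f} ≤ q := (Ideal.span_singleton_le_iff_mem _).2 hfq
          exact this hN
        rcases hq.mem_or_mem h2 with h3 | h3
        · exact hgq (Ideal.IsPrime.prod_mem_iff.2 ⟨h, hh, h3⟩)
        · exact hhq (hq.mem_of_pow_mem N h3)
      · intro hfq
        by_contra hcon
        push_neg at hcon
        have : J ≤ q := Ideal.span_le.2 (fun h hh => hcon h hh)
        exact hfq (this hfJ)

end Groth.Agent.Helper29.RjA
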