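import Mathlib
import Groth.Prelude.Def_Coh
import Groth.Agent.Lib.Helper29.RjA
import Groth.Agent.Lib.Helper9.FinFibre
import Groth.Agent.Lib.Helper13.RpushCmp

/-!
# Vanishing of `R^p j_*` for retrocompact opens of schemes with Noetherian local rings of
dimension at most one (S1663)
-/

set_option autoImplicit false
universe u
open CategoryTheory CategoryTheory.Limits AlgebraicGeometry Opposite TopologicalSpace

namespace Groth.Agent.Helper29.RjB

variable {X : Scheme.{u}}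

lemma mem_basicOpen_iff_not_mem {V : X.Opens} (hV : IsAffineOpen V) (y : X) (hy : y ∈ V)
    (a : Γ(X, V)) :
    y ∈ X.basicOpen a ↔ a ∉ (hV.primeIdealOf ⟨y, hy⟩).asIdeal := by
  letI := X.presheaf.algebra_section_stalk ⟨y, hy⟩
  haveI := hV.isLocalization_stalk ⟨y, hy⟩
  rw [X.mem_basicOpen a y hy]
  exact IsLocalization.AtPrime.isUnit_to_map_iff (X.presheaf.stalk y)
    (hV.primeIdealOf ⟨y, hy⟩).asIdeal a

lemma exists_finset_basicOpen {V : X.Opens} (hV : IsAffineOpen V) (W : X.Opens) (hWV : W ≤ V)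
    (hW : IsCompact (W : Set X)) :
    ∃ s : Finset Γ(X, V), ∀ y : X, y ∈ W ↔ ∃ h ∈ s, y ∈ X.basicOpen h := by
  classical
  have hc : ∀ y : W, ∃ f : Γ(X, V), X.basicOpen f ≤ W ∧ y.1 ∈ X.basicOpen f := fun y =>
    hV.exists_basicOpen_le (V := W) y (hWV y.2)
  choose f hf1 hf2 using hc
  obtain ⟨t, ht⟩ := hW.elim_finite_subcover (fun y : W => (X.basicOpen (f y) : Set X))
    (fun y => (X.basicOpen (f y)).2) (fun y hy => Set.mem_iUnion.2 ⟨⟨y, hy⟩, hf2 ⟨y, hy⟩⟩)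
  refine ⟨t.image f, fun y => ⟨fun hy => ?_, ?_⟩⟩
  · obtain ⟨z, hz, hyz⟩ := Set.mem_iUnion₂.1 (ht hy)
    exact ⟨f z, Finset.mem_image.2 ⟨z, hz, rfl⟩, hyz⟩
  · rintro ⟨h, hh, hyh⟩
    obtain ⟨z, -, rfl⟩ := Finset.mem_image.1 hh
    exact hf1 z hyh

theorem isBasis_affine_inter
    (hX : ∀ x : X, IsNoetherianRing (X.presheaf.stalk x) ∧ ringKrullDim (X.presheaf.stalk x) ≤ 1)
    (U : X.Opens) [QuasiCompact U.ι] :
    Opens.IsBasis {W : X.Opens | IsAffineOpen (U.ι ⁻¹ᵁ W)} := by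
  rw [Opens.isBasis_iff_nbhd]
  intro N x hxN
  obtain ⟨_, ⟨V, hV, rfl⟩, hxV, hVN⟩ :=
    X.isBasis_affineOpens.exists_subset_of_mem_open hxN N.2
  replace hV : IsAffineOpen V := hV
  -- `U ⊓ V` is compact
  have hcomp : IsCompact ((U ⊓ V : X.Opens) : Set X) := by
    have h1 : IsCompact ((U.ι ⁻¹ᵁ V : (U : Scheme.{u}).Opens) : Set (U : Scheme.{u})) :=
      U.ι.isCompact_preimage hV.isCompact
    have h2 := h1.image U.ι.continuous
    have h3 : U.ι ''ᵁ (U.ι ⁻¹ᵁ V) = U ⊓ V := by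
      rw [Scheme.Hom.image_preimage_eq_opensRange_inf, Scheme.Opens.opensRange_ι]
    rw [← h3]
    exact h2
  obtain ⟨s, hs⟩ := exists_finset_basicOpen hV (U ⊓ V) inf_le_right hcomp
  letI := X.presheaf.algebra_section_stalk ⟨x, hxV⟩
  haveI := hV.isLocalization_stalk ⟨x, hxV⟩
  obtain ⟨g, hgp, f, H⟩ := Groth.Agent.Helper29.RjA.exists_basicOpen
    (hV.primeIdealOf ⟨x, hxV⟩).asIdeal (X.presheaf.stalk x) (hX x).1 (hX x).2 s
  refine ⟨X.basicOpen g, ?_, (mem_basicOpen_iff_not_mem hV x hxV g).2 hgp,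
    (X.basicOpen_le g).trans hVN⟩
  -- `U ⊓ D(g) = D(f * g)`
  have heq : U ⊓ X.basicOpen g = X.basicOpen (f * g) := by
    ext y
    rw [X.basicOpen_mul]
    constructor
    · rintro ⟨hyU, hyg⟩
      have hyV : y ∈ V := X.basicOpen_le g hyg
      refine ⟨(mem_basicOpen_iff_not_mem hV y hyV f).2 ?_, hyg⟩
      refine (H _ (hV.primeIdealOf ⟨y, hyV⟩).isPrime
        ((mem_basicOpen_iff_not_mem hV y hyV g).1 hyg)).1 ?_
      obtain ⟨h, hh, hyh⟩ := (hs y).1 ⟨hyU, hyV⟩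
      exact ⟨h, hh, (mem_basicOpen_iff_not_mem hV y hyV h).1 hyh⟩
    · rintro ⟨hyf, hyg⟩
      have hyV : y ∈ V := X.basicOpen_le g hyg
      refine ⟨?_, hyg⟩
      obtain ⟨h, hh, hhq⟩ := (H _ (hV.primeIdealOf ⟨y, hyV⟩).isPrime
        ((mem_basicOpen_iff_not_mem hV y hyV g).1 hyg)).2
        ((mem_basicOpen_iff_not_mem hV y hyV f).1 hyf)
      exact ((hs y).2 ⟨h, hh, (mem_basicOpen_iff_not_mem hV y hyV h).2 hhq⟩).1
  show IsAffineOpen (U.ι ⁻¹ᵁ X.basicOpen g)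
  rw [← Scheme.Hom.isAffineOpen_iff_of_isOpenImmersion U.ι,
    Scheme.Hom.image_preimage_eq_opensRange_inf, Scheme.Opens.opensRange_ι, heq]
  exact hV.basicOpen (f * g)

theorem isZero_of_isZero_toAb {Z : Scheme.{u}} (N : Z.Modules) (h : IsZero (Coh.toAb N)) :
    IsZero N := by
  rw [IsZero.iff_id_eq_zero]
  apply (SheafOfModules.toSheaf Z.ringCatSheaf).map_injective
  exact ((SheafOfModules.toSheaf Z.ringCatSheaf).map_id N).trans
    (((IsZero.iff_id_eq_zero _).1 h).trans ((SheafOfModules.toSheaf Z.ringCatSheaf).map_zero _ _).symm)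

/-- **S1663** -/
theorem main (X : Scheme.{u})
    (hX : ∀ x : X, IsNoetherianRing (X.presheaf.stalk x) ∧ ringKrullDim (X.presheaf.stalk x) ≤ 1)
    (U : X.Opens) [QuasiCompact U.ι] [HasInjectiveResolutions (U : Scheme.{u}).Modules]
    (F : (U : Scheme.{u}).Modules) (hF : Coh.IsQCoh F) (p : ℕ) (hp : 0 < p) :
    IsZero ((Coh.Rpush U.ι p).obj F) := by
  haveI : F.IsQuasicoherent := hF
  apply isZero_of_isZero_toAb
  obtain ⟨e⟩ := Groth.Agent.Helper13.RpushCmp.main U.ι F p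
  refine IsZero.of_iso ?_ e
  refine (TopCat.Sheaf.isZero_iff_stalkFunctor_obj_isZero (X := X.toTopCat)
    (C := AddCommGrpCat.{u}) ((Coh.RpushAb U.ι p).obj (Coh.toAb F))).2 ?_
  intro y
  obtain ⟨e2⟩ := Groth.Agent.Helper13.RpushShf.main (Opens.grothendieckTopology (U : Scheme.{u}))
    (Opens.grothendieckTopology X) (TopologicalSpace.Opens.map U.ι.base) (Coh.toAb F) p
  obtain ⟨q, rfl⟩ : ∃ q, p = q + 1 := ⟨p - 1, by omega⟩
  refine IsZero.of_iso ?_ ((TopCat.Presheaf.stalkFunctor AddCommGrpCat.{u} y).mapIso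
    ((sheafToPresheaf _ _).mapIso e2))
  refine Groth.Agent.Helper9.FinFibre.isZero_stalk_presheafToSheaf (Y := X.toTopCat) _ y ⊤ trivial
    {W : X.Opens | IsAffineOpen (U.ι ⁻¹ᵁ W)} (isBasis_affine_inter hX U) ?_
  intro W hW _
  exact Groth.Agent.Helper13.AffineVanish.HU_subsingleton_of_isAffineOpen F (U.ι ⁻¹ᵁ W) hW q

end Groth.Agent.Helper29.RjB
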