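import Mathlib
import Groth.Prelude.Def_DCoh2
import Groth.Agent.Lib.Helper29.LRAdj
import Groth.Agent.Lib.Helper29.TriR

/-!
# `Rf_*` commutes with derived limits (schemes)
-/
set_option autoImplicit false
universe u
open CategoryTheory CategoryTheory.Limits AlgebraicGeometry Pretriangulated

attribute [local instance] HasDerivedCategory.standard

namespace Groth.Agent.Helper29.RlimPush

open Groth.Agent.Helper29.LRAdj

theorem main0935 {X Y : Scheme.{u}} (f : X ⟶ Y) [DCoh.HasRpush f]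
    (K : ℕ → DCoh.D X) (t : ∀ n, K (n + 1) ⟶ K n) [HasProduct K]
    [HasProduct fun n => (DCoh.Rpush f).obj (K n)]
    (L : DCoh.D X) (hL : DCoh.IsRlim K t L) :
    DCoh.IsRlim (fun n => (DCoh.Rpush f).obj (K n)) (fun n => (DCoh.Rpush f).map (t n))
      ((DCoh.Rpush f).obj L) := by
  haveI : DCoh.HasLpull f := Groth.Agent.Helper5.LDer.hasLpull f
  haveI : PreservesLimitsOfSize.{0, 0} (DCoh.Rpush f) :=
    (adj f).rightAdjoint_preservesLimits
  haveI : (DCoh.Rpush f).IsRightAdjoint := (adj f).isRightAdjoint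
  haveI : (DCoh.Rpush f).PreservesZeroMorphisms := inferInstance
  haveI : (DCoh.Rpush f).Additive := Functor.additive_of_preserves_binary_products _
  obtain ⟨a, c, hT⟩ := hL
  let φ : ∏ᶜ K ⟶ ∏ᶜ K := Pi.lift fun n => Pi.π K n - Pi.π K (n + 1) ≫ t n
  obtain ⟨c', hT'⟩ : ∃ c' : (DCoh.Rpush f).obj (∏ᶜ K) ⟶ ((DCoh.Rpush f).obj L)⟦(1 : ℤ)⟧,
      Triangle.mk ((DCoh.Rpush f).map a) ((DCoh.Rpush f).map φ) c' ∈ distTriang _ :=
    Groth.Agent.Helper29.TriR.exists_distinguished (DCoh.pushKh f) (DCoh.Rpush f) (β f) _ hT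
  let e : (DCoh.Rpush f).obj (∏ᶜ K) ≅ ∏ᶜ (fun n => (DCoh.Rpush f).obj (K n)) :=
    PreservesProduct.iso (DCoh.Rpush f) K
  have he : ∀ n, e.hom ≫ Pi.π (fun n => (DCoh.Rpush f).obj (K n)) n =
      (DCoh.Rpush f).map (Pi.π K n) := fun n => by
    simp [e, PreservesProduct.iso_hom]
  let φ' : (∏ᶜ fun n => (DCoh.Rpush f).obj (K n)) ⟶ ∏ᶜ fun n => (DCoh.Rpush f).obj (K n) :=
    Pi.lift fun n => Pi.π (fun n => (DCoh.Rpush f).obj (K n)) n -
      Pi.π (fun n => (DCoh.Rpush f).obj (K n)) (n + 1) ≫ (DCoh.Rpush f).map (t n)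
  have hφ : (DCoh.Rpush f).map φ ≫ e.hom = e.hom ≫ φ' := by
    refine Pi.hom_ext _ _ (fun n => ?_)
    rw [Category.assoc, Category.assoc, he, ← Functor.map_comp, Pi.lift_π, Pi.lift_π,
      Functor.map_sub, Functor.map_comp, Preadditive.comp_sub, ← Category.assoc, he, he]
  refine ⟨(DCoh.Rpush f).map a ≫ e.hom, e.inv ≫ c', isomorphic_distinguished _ hT' _
    (Triangle.isoMk _ _ (Iso.refl _) e.symm e.symm ?_ ?_ ?_)⟩
  · change ((DCoh.Rpush f).map a ≫ e.hom) ≫ e.inv = 𝟙 _ ≫ (DCoh.Rpush f).map a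
    rw [Category.assoc, e.hom_inv_id, Category.comp_id, Category.id_comp]
  · change φ' ≫ e.inv = e.inv ≫ (DCoh.Rpush f).map φ
    rw [← cancel_mono e.hom, Category.assoc, Category.assoc, e.inv_hom_id, Category.comp_id, hφ,
      e.inv_hom_id_assoc]
  · change (e.inv ≫ c') ≫ (𝟙 ((DCoh.Rpush f).obj L))⟦(1 : ℤ)⟧' = e.inv ≫ c'
    rw [CategoryTheory.Functor.map_id, Category.comp_id]

end Groth.Agent.Helper29.RlimPush
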