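import Mathlib
import Groth.Prelude.Def_W4c1hurwitzcptBd

/-!
# Multiplicative closedness of crimps in `k⟦x⟧ ⊇ k⟦x^p⟧` (helper29)
-/

open PowerSeries

namespace Groth.Agent.Helper29.RootDiskLib

universe u

variable {k : Type u} [Field k]

section core

theorem order_expand_of_ne_zero (p : ℕ) (hp : p ≠ 0) {a : k⟦X⟧} (ha : a ≠ 0) :
    ∃ α : ℕ, (expand p hp a).order = ((p * α : ℕ) : ℕ∞) := by
  obtain ⟨α, hα⟩ : ∃ α : ℕ, a.order = α := ⟨_, (coe_toNat_order ha).symm⟩
  refine ⟨α, ?_⟩
  rw [order_expand, hα, nsmul_eq_mul]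
  push_cast
  rfl

theorem order_expand_mul_ne (p : ℕ) (hp : p ≠ 0) (m c : ℕ)
    (h2 : ∀ β : ℕ, p * β + m ≠ c) (U b : k⟦X⟧) (hU : U.order = m) :
    (expand p hp b * U).order ≠ c := by
  by_cases hb : b = 0
  · subst hb
    rw [map_zero, zero_mul, order_zero]
    exact ENat.top_ne_natCast c
  · obtain ⟨β, hβ⟩ := order_expand_of_ne_zero p hp hb
    rw [order_mul, hβ, hU]
    intro h
    exact h2 β (by exact_mod_cast h)

theorem order_expand_add_ne (p : ℕ) (hp : p ≠ 0) (m c : ℕ)
    (h1 : ∀ α : ℕ, p * α ≠ c) (h2 : ∀ β : ℕ, p * β + m ≠ c)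
    (h3 : ∀ α β : ℕ, p * α ≠ p * β + m)
    (U a b : k⟦X⟧) (hU : U.order = m) :
    (expand p hp a + expand p hp b * U).order ≠ c := by
  by_cases ha : a = 0
  · subst ha
    rw [map_zero, zero_add]
    exact order_expand_mul_ne p hp m c h2 U b hU
  · obtain ⟨α, hα⟩ := order_expand_of_ne_zero p hp ha
    by_cases hb : b = 0
    · subst hb
      rw [map_zero, zero_mul, add_zero, hα]
      intro h
      exact h1 α (by exact_mod_cast h)
    · obtain ⟨β, hβ⟩ := order_expand_of_ne_zero p hp hb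
      have hB : (expand p hp b * U).order = ((p * β + m : ℕ) : ℕ∞) := by
        rw [order_mul, hβ, hU]
        push_cast
        rfl
      have hne : (expand p hp a).order ≠ (expand p hp b * U).order := by
        rw [hα, hB]
        intro h
        exact h3 α β (by exact_mod_cast h)
      rw [order_add_of_order_ne _ _ hne, hα, hB]
      intro h
      rcases min_choice ((p * α : ℕ) : ℕ∞) ((p * β + m : ℕ) : ℕ∞) with h' | h'
      · rw [h'] at h
        exact h1 α (by exact_mod_cast h)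
      · rw [h'] at h
        exact h2 β (by exact_mod_cast h)

theorem core_ne (m n : ℕ) (hmn : 2 * m < n) (U W s : k⟦X⟧) (hU : U.order = m)
    (hW : W.order ≠ ((2 * m : ℕ) : ℕ∞)) :
    U * U ≠ W + X ^ n * s := by
  intro h
  have hP : (U * U).order = ((2 * m : ℕ) : ℕ∞) := by
    rw [order_mul, hU]
    push_cast
    ring
  have hZ : ((2 * m : ℕ) : ℕ∞) < (X ^ n * s).order := by
    rw [order_mul, order_X_pow]
    calc ((2 * m : ℕ) : ℕ∞) < (n : ℕ∞) := by exact_mod_cast hmn
      _ ≤ n + s.order := le_self_add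
  have hWeq : W = U * U + -(X ^ n * s) := by rw [h]; ring
  apply hW
  have hne : (U * U).order ≠ (-(X ^ n * s)).order := by
    rw [order_neg, hP]
    exact hZ.ne
  rw [hWeq, order_add_of_order_ne _ _ hne, order_neg, hP, min_eq_left hZ.le]

end core

open W4c1hurwitzcpt

section disk

variable {p : ℕ} [NeZero p]

theorem val_algebraMap (a : PowerSeries k) :
    RootDisk.val (algebraMap (PowerSeries k) (RootDisk p k) a) = expand p (NeZero.ne p) a := rfl

theorem mem_iff (x g : RootDisk p k) (m n : ℕ) (y : RootDisk p k) :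
    y ∈ Submodule.span (PowerSeries k) {1, x ^ m * g} ⊔
        (Ideal.span {x ^ n} : Ideal (RootDisk p k)).restrictScalars (PowerSeries k) ↔
      ∃ (a b : PowerSeries k) (s : RootDisk p k),
        y = algebraMap (PowerSeries k) (RootDisk p k) a +
          algebraMap (PowerSeries k) (RootDisk p k) b * (x ^ m * g) + x ^ n * s := by
  rw [Submodule.mem_sup]
  constructor
  · rintro ⟨y₁, h₁, y₂, h₂, rfl⟩
    obtain ⟨a, b, rfl⟩ := Submodule.mem_span_pair.1 h₁
    rw [Submodule.restrictScalars_mem, Ideal.mem_span_singleton'] at h₂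
    obtain ⟨s, rfl⟩ := h₂
    refine ⟨a, b, s, ?_⟩
    rw [Algebra.smul_def, Algebra.smul_def, mul_one, mul_comm s]
  · rintro ⟨a, b, s, rfl⟩
    refine ⟨_, Submodule.mem_span_pair.2 ⟨a, b, rfl⟩, x ^ n * s, ?_, ?_⟩
    · rw [Submodule.restrictScalars_mem]
      exact Ideal.mul_mem_right _ _ (Ideal.subset_span rfl)
    · rw [Algebra.smul_def, Algebra.smul_def, mul_one]

theorem mem_prod_iff (x g : RootDisk p k) (m n : ℕ) (y : RootDisk p k × PowerSeries k) :
    y ∈ Submodule.span (PowerSeries k) {(1 : RootDisk p k × PowerSeries k), (x ^ m * g, 0)} ⊔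
        ((Ideal.span {x ^ n} : Ideal (RootDisk p k)).restrictScalars (PowerSeries k)).prod ⊥ →
      ∃ (c d : PowerSeries k) (s : RootDisk p k),
        y = (algebraMap (PowerSeries k) (RootDisk p k) c +
          algebraMap (PowerSeries k) (RootDisk p k) d * (x ^ m * g) + x ^ n * s, c) := by
  rw [Submodule.mem_sup]
  rintro ⟨y₁, h₁, y₂, h₂, rfl⟩
  obtain ⟨c, d, rfl⟩ := Submodule.mem_span_pair.1 h₁
  rw [Submodule.mem_prod, Submodule.restrictScalars_mem, Ideal.mem_span_singleton',
    Submodule.mem_bot] at h₂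
  obtain ⟨⟨s, hs⟩, h0⟩ := h₂
  refine ⟨c, d, s, ?_⟩
  apply Prod.ext
  · simp only [Prod.fst_add, Prod.smul_fst, Prod.fst_one]
    rw [← hs, Algebra.smul_def, Algebra.smul_def, mul_one, mul_comm s]
  · simp only [Prod.snd_add, Prod.smul_snd, Prod.snd_one, h0, add_zero, smul_eq_mul,
      mul_one, mul_zero]

end disk

/-- S19485 -/
theorem closed_iff (m n : ℕ) (hm : ¬ 3 ∣ m) (x g : RootDisk 3 k)
    (hx : RootDisk.val x = PowerSeries.X) (hg : PowerSeries.order (RootDisk.val g) = 0)
    (M : Submodule (PowerSeries k) (RootDisk 3 k))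
    (hM : M = Submodule.span (PowerSeries k) {1, x ^ m * g} ⊔
      (Ideal.span {x ^ n} : Ideal (RootDisk 3 k)).restrictScalars (PowerSeries k)) :
    (∀ a ∈ M, ∀ b ∈ M, a * b ∈ M) ↔ n ≤ 2 * m := by
  subst hM
  constructor
  · intro h
    by_contra hn
    have hn' : 2 * m < n := by omega
    have hu : x ^ m * g ∈ Submodule.span (PowerSeries k) {1, x ^ m * g} ⊔
        (Ideal.span {x ^ n} : Ideal (RootDisk 3 k)).restrictScalars (PowerSeries k) :=
      (mem_iff x g m n _).2 ⟨0, 1, 0, by simp⟩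
    obtain ⟨a, b, s, hs⟩ := (mem_iff x g m n _).1 (h _ hu _ hu)
    have h2 := congrArg RootDisk.val hs
    simp only [map_mul, map_add, map_pow, hx, val_algebraMap] at h2
    have hU : (X ^ m * RootDisk.val g : k⟦X⟧).order = m := by
      rw [order_mul, order_X_pow, hg, add_zero]
    refine core_ne m n hn' (X ^ m * RootDisk.val g) _ (RootDisk.val s) hU ?_ h2
    exact order_expand_add_ne 3 _ m (2 * m) (fun α => by omega) (fun β => by omega)
      (fun α β => by omega) _ a b hU
  · intro hn y₁ h₁ y₂ h₂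
    obtain ⟨a₁, b₁, s₁, rfl⟩ := (mem_iff x g m n _).1 h₁
    obtain ⟨a₂, b₂, s₂, rfl⟩ := (mem_iff x g m n _).1 h₂
    rw [mem_iff]
    obtain ⟨d, hd⟩ : ∃ d, 2 * m = n + d := ⟨2 * m - n, by omega⟩
    have e : x ^ m * x ^ m = x ^ n * x ^ d := by
      rw [← pow_add, ← pow_add]
      congr 1
      omega
    refine ⟨a₁ * a₂, a₁ * b₂ + a₂ * b₁,
      algebraMap (PowerSeries k) (RootDisk 3 k) (b₁ * b₂) * x ^ d * g ^ 2 +
        s₁ * (algebraMap (PowerSeries k) (RootDisk 3 k) a₂ +
          algebraMap (PowerSeries k) (RootDisk 3 k) b₂ * (x ^ m * g)) +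
        s₂ * (algebraMap (PowerSeries k) (RootDisk 3 k) a₁ +
          algebraMap (PowerSeries k) (RootDisk 3 k) b₁ * (x ^ m * g)) + x ^ n * s₁ * s₂, ?_⟩
    simp only [map_mul, map_add]
    linear_combination (algebraMap (PowerSeries k) (RootDisk 3 k) b₁ *
      algebraMap (PowerSeries k) (RootDisk 3 k) b₂ * g ^ 2) * e

/-- S19486 -/
theorem not_closed (m n : ℕ) (hm : Odd m) (hmn : 2 * m < n) (x g : RootDisk 2 k)
    (hx : RootDisk.val x = PowerSeries.X) (hg : PowerSeries.order (RootDisk.val g) = 0)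
    (M : Submodule (PowerSeries k) (RootDisk 2 k × PowerSeries k))
    (hM : M = Submodule.span (PowerSeries k)
        {(1 : RootDisk 2 k × PowerSeries k), (x ^ m * g, 0)} ⊔
      ((Ideal.span {x ^ n} : Ideal (RootDisk 2 k)).restrictScalars (PowerSeries k)).prod ⊥) :
    ∃ a ∈ M, ∃ b ∈ M, a * b ∉ M := by
  subst hM
  have hu : ((x ^ m * g, 0) : RootDisk 2 k × PowerSeries k) ∈
      Submodule.span (PowerSeries k)
        {(1 : RootDisk 2 k × PowerSeries k), (x ^ m * g, 0)} ⊔
      ((Ideal.span {x ^ n} : Ideal (RootDisk 2 k)).restrictScalars (PowerSeries k)).prod ⊥ :=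
    Submodule.mem_sup_left (Submodule.subset_span (by simp))
  refine ⟨_, hu, _, hu, ?_⟩
  intro h
  obtain ⟨c, d, s, hs⟩ := mem_prod_iff x g m n _ h
  have hc : c = 0 := by
    have := congrArg Prod.snd hs
    simpa using this.symm
  subst hc
  have h1 := congrArg Prod.fst hs
  simp only [Prod.fst_mul, map_zero, zero_add] at h1
  have h2 := congrArg RootDisk.val h1
  simp only [map_mul, map_add, map_pow, hx, val_algebraMap] at h2
  have hU : (X ^ m * RootDisk.val g : k⟦X⟧).order = m := by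
    rw [order_mul, order_X_pow, hg, add_zero]
  obtain ⟨r, hr⟩ := hm
  refine core_ne m n hmn (X ^ m * RootDisk.val g) (expand 2 _ d * (X ^ m * RootDisk.val g))
    (RootDisk.val s) hU ?_ h2
  exact order_expand_mul_ne 2 _ m (2 * m) (fun β => by omega) _ d hU

end Groth.Agent.Helper29.RootDiskLib
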