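import Mathlib

namespace Groth.Agent.Helper29.SQD

open CategoryTheory Limits

universe u v u' v' w w'

/-- Two-sided dependent choice over `ℤ`. -/
theorem exists_int_seq {T : ℤ → Type u} (R : ∀ i j : ℤ, T i → T j → Prop)
    (fwd : ∀ i j : ℤ, i + 1 = j → ∀ x : T i, ∃ y : T j, R i j x y)
    (bwd : ∀ i j : ℤ, i + 1 = j → ∀ y : T j, ∃ x : T i, R i j x y)
    (x₀ : T 0) :
    ∃ g : ∀ i, T i, ∀ i j : ℤ, i + 1 = j → R i j (g i) (g j) := by
  classical
  let succ : ∀ k : ℤ, 0 ≤ k → T k → T (k + 1) := fun k _ x => (fwd k (k + 1) rfl x).choose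
  let pred : ∀ k : ℤ, k ≤ 0 → T k → T (k - 1) := fun k _ y =>
    (bwd (k - 1) k (by omega) y).choose
  let g : ∀ i, T i := fun i => Int.inductionOn' i 0 x₀ succ pred
  refine ⟨g, ?_⟩
  intro i j hij
  by_cases hi : 0 ≤ i
  · subst hij
    have : g (i + 1) = succ i hi (g i) := Int.inductionOn'_add_one hi
    rw [this]
    exact (fwd i (i + 1) rfl (g i)).choose_spec
  · have hj : j ≤ 0 := by omega
    obtain rfl : i = j - 1 := by omega
    have : g (j - 1) = pred j hj (g j) := Int.inductionOn'_sub_one hj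
    rw [this]
    exact (bwd (j - 1) j (by omega) (g j)).choose_spec

variable {A : Type u} [Category.{v} A] [Abelian A] (P : ObjectProperty A) [P.IsSerreClass]
  {Q : Type u'} [Category.{v'} Q] [Abelian Q] (L : A ⥤ Q) [L.IsLocalization P.isoModSerre]

include P in
theorem exists_lift_seq (K : CochainComplex Q ℤ) :
    ∃ (Z : ℤ → A) (α : ∀ i, L.obj (Z i) ≅ K.X i) (F : ∀ i j, Z i ⟶ Z j),
      (∀ i j, i + 1 ≠ j → F i j = 0) ∧
      ∀ i j, i + 1 = j → L.map (F i j) ≫ (α j).hom = (α i).hom ≫ K.d i j := by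
  classical
  have : L.EssSurj := Localization.essSurj L P.isoModSerre
  let T : ℤ → Type (max u v') := fun i => Σ Z : A, (L.obj Z ≅ K.X i)
  let R : ∀ i j : ℤ, T i → T j → Prop := fun i j x y =>
    ∃ f : x.1 ⟶ y.1, L.map f ≫ y.2.hom = x.2.hom ≫ K.d i j
  have fwd : ∀ i j : ℤ, i + 1 = j → ∀ x : T i, ∃ y : T j, R i j x y := by
    intro i j _ x
    let e := L.objObjPreimageIso (K.X j)
    obtain ⟨z, hz⟩ := Localization.exists_leftFraction L P.isoModSerre
      (x.2.hom ≫ K.d i j ≫ e.inv)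
    have := Localization.inverts L P.isoModSerre _ z.hs
    refine ⟨⟨z.Y', (asIso (L.map z.s)).symm ≪≫ e⟩, z.f, ?_⟩
    have h2 : L.map z.f ≫ inv (L.map z.s) = x.2.hom ≫ K.d i j ≫ e.inv := hz.symm
    dsimp
    rw [← Category.assoc, h2]
    simp
  have bwd : ∀ i j : ℤ, i + 1 = j → ∀ y : T j, ∃ x : T i, R i j x y := by
    intro i j _ y
    let e := L.objObjPreimageIso (K.X i)
    obtain ⟨z, hz⟩ := Localization.exists_rightFraction L P.isoModSerre
      (e.hom ≫ K.d i j ≫ y.2.inv)
    have := Localization.inverts L P.isoModSerre _ z.hs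
    refine ⟨⟨z.X', asIso (L.map z.s) ≪≫ e⟩, z.f, ?_⟩
    have h2 : inv (L.map z.s) ≫ L.map z.f = e.hom ≫ K.d i j ≫ y.2.inv := hz.symm
    have h3 : L.map z.f = L.map z.s ≫ e.hom ≫ K.d i j ≫ y.2.inv := by
      rw [← h2, IsIso.hom_inv_id_assoc]
    dsimp
    rw [h3]
    simp
  obtain ⟨g, hg⟩ := exists_int_seq R fwd bwd
    ⟨L.objPreimage (K.X 0), L.objObjPreimageIso (K.X 0)⟩
  refine ⟨fun i => (g i).1, fun i => (g i).2,
    fun i j => if h : i + 1 = j then (hg i j h).choose else 0, ?_, ?_⟩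
  · intro i j h
    dsimp only
    rw [dif_neg h]
  · intro i j h
    dsimp only
    rw [dif_pos h]
    exact (hg i j h).choose_spec

variable [L.Additive] [PreservesFiniteLimits L] [PreservesFiniteColimits L]

omit [PreservesFiniteLimits L] in
include P in
theorem exists_complex_lift (K : CochainComplex Q ℤ) :
    ∃ K' : CochainComplex A ℤ,
      Nonempty ((L.mapHomologicalComplex (ComplexShape.up ℤ)).obj K' ≅ K) := by
  obtain ⟨Z, α, F, hF0, hF⟩ := exists_lift_seq P L K
  let c : ∀ i, Z (i - 2) ⟶ Z i := fun i => F (i - 2) (i - 1) ≫ F (i - 1) i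
  have c_eq : ∀ a b i, a + 1 = b → b + 1 = i → ∀ (φ : Z (i - 2) ⟶ Z i), φ = c i →
      ∃ (h : a = i - 2), F a b ≫ F b i = eqToHom (by rw [h]) ≫ φ := by
    intro a b i ha hb φ hφ
    obtain rfl : a = i - 2 := by omega
    obtain rfl : b = i - 1 := by omega
    exact ⟨rfl, by simp [hφ, c]⟩
  have hLF : ∀ i j, i + 1 = j → L.map (F i j) = (α i).hom ≫ K.d i j ≫ (α j).inv := by
    intro i j h
    rw [← Category.assoc, ← hF i j h, Category.assoc, Iso.hom_inv_id, Category.comp_id]
  have hLc : ∀ i, L.map (c i) = 0 := by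
    intro i
    simp only [c, Functor.map_comp, hLF (i - 2) (i - 1) (by omega), hLF (i - 1) i (by omega),
      Category.assoc, Iso.inv_hom_id_assoc, HomologicalComplex.d_comp_d_assoc, zero_comp, comp_zero]
  have hπ : ∀ i, IsIso (L.map (cokernel.π (c i))) := by
    intro i
    rw [ObjectProperty.SerreClassLocalization.isIso_map_iff L P,
      ObjectProperty.isoModSerre_iff_of_epi]
    exact (ObjectProperty.SerreClassLocalization.map_eq_zero_iff L P (c i)).1 (hLc i)
  have w : ∀ i j, c i ≫ F i j ≫ cokernel.π (c j) = 0 := by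
    intro i j
    by_cases h : i + 1 = j
    · obtain ⟨h1, h2⟩ := c_eq (i - 1) i j (by omega) h (c j) rfl
      have : c i ≫ F i j = F (i - 2) (i - 1) ≫ (F (i - 1) i ≫ F i j) := by
        simp [c]
      rw [← Category.assoc, this, h2]
      simp
    · rw [hF0 i j h]; simp
  let K' : CochainComplex A ℤ :=
    { X := fun i => cokernel (c i)
      d := fun i j => cokernel.desc (c i) (F i j ≫ cokernel.π (c j)) (w i j)
      shape := by
        intro i j h
        have h' : i + 1 ≠ j := fun e => h e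
        ext
        simp [hF0 i j h']
      d_comp_d' := by
        intro i j k hij hjk
        ext
        obtain ⟨h1, h2⟩ := c_eq i j k hij hjk (c k) rfl
        simp only [cokernel.π_desc_assoc, Category.assoc, cokernel.π_desc, comp_zero]
        rw [← Category.assoc, h2]
        simp }
  refine ⟨K', ⟨HomologicalComplex.Hom.isoOfComponents
    (fun i => (@asIso _ _ _ _ _ (hπ i)).symm ≪≫ α i) ?_⟩⟩
  intro i j hij
  have := hπ i
  have := hπ j
  have hij' : i + 1 = j := hij
  change (inv (L.map (cokernel.π (c i))) ≫ (α i).hom) ≫ K.d i j =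
    L.map (cokernel.desc (c i) (F i j ≫ cokernel.π (c j)) (w i j)) ≫
      inv (L.map (cokernel.π (c j))) ≫ (α j).hom
  rw [← cancel_epi (L.map (cokernel.π (c i)))]
  simp only [Category.assoc, IsIso.hom_inv_id_assoc]
  rw [← hF i j hij', ← L.map_comp_assoc, cokernel.π_desc, L.map_comp_assoc,
    IsIso.hom_inv_id_assoc]

include P in
theorem essSurj_mapDerivedCategory [HasDerivedCategory.{w} A] [HasDerivedCategory.{w'} Q] :
    L.mapDerivedCategory.EssSurj where
  mem_essImage Y := by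
    obtain ⟨K', ⟨e'⟩⟩ := exists_complex_lift P L (DerivedCategory.Q.objPreimage Y)
    exact ⟨DerivedCategory.Q.obj K', ⟨(L.mapDerivedCategoryFactors).app K' ≪≫
      DerivedCategory.Q.mapIso e' ≪≫ DerivedCategory.Q.objObjPreimageIso Y⟩⟩

end Groth.Agent.Helper29.SQD
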