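import Mathlib
import Groth.Prelude.Def_Hyper

universe u

open CategoryTheory CategoryTheory.Limits

namespace Groth.Agent.Helper29.SRCov

variable {C : Type u} [SmallCategory C] (J : GrothendieckTopology C)

lemma comp_covering {K L M : FormalCoproduct.{u} C} (f : K ⟶ L) (g : L ⟶ M)
    (hf : Hyper.IsSRCovering J f) (hg : Hyper.IsSRCovering J g) :
    Hyper.IsSRCovering J (f ≫ g) := by
  intro m
  refine J.transitive (hg m) _ ?_
  intro Y h hh
  rw [Sieve.mem_ofArrows_iff] at hh
  obtain ⟨⟨j, hj⟩, a, rfl⟩ := hh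
  subst hj
  rw [Sieve.pullback_comp]
  apply J.pullback_stable
  refine J.superset_covering ?_ (hf j)
  intro Z c hc
  rw [Sieve.mem_ofArrows_iff] at hc
  obtain ⟨⟨i, hi⟩, b, rfl⟩ := hc
  subst hi
  show Sieve.ofArrows _ _ _
  rw [Sieve.mem_ofArrows_iff]
  refine ⟨⟨i, rfl⟩, b, ?_⟩
  simp

lemma iso_covering {K L : FormalCoproduct.{u} C} (e : K ≅ L) : Hyper.IsSRCovering J e.hom := by
  intro j
  -- the component indexed by `e.inv.f j` is an isomorphism onto `L.obj j`
  have h1 : e.hom.f (e.inv.f j) = j := by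
    have := congrArg (fun φ => φ.f j) e.inv_hom_id
    exact this
  have h2 := ((FormalCoproduct.hom_ext_iff' _ _).1 e.inv_hom_id j).2
  simp only [FormalCoproduct.category_comp_f, FormalCoproduct.category_comp_φ,
    FormalCoproduct.category_id_f, FormalCoproduct.category_id_φ] at h2
  have hid : Sieve.ofArrows (fun i : {i : K.I // e.hom.f i = j} => K.obj i.1)
      (fun i => e.hom.φ i.1 ≫ eqToHom (congrArg L.obj i.2)) (𝟙 (L.obj j)) := by
    rw [Sieve.mem_ofArrows_iff]
    refine ⟨⟨e.inv.f j, h1⟩, e.inv.φ j, ?_⟩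
    rw [← h2]
    simp
  have := (Sieve.id_mem_iff_eq_top).1 hid
  show Sieve.ofArrows (fun i : {i : K.I // e.hom.f i = j} => K.obj i.1)
      (fun i => e.hom.φ i.1 ≫ eqToHom (congrArg L.obj i.2)) ∈ J (L.obj j)
  rw [this]
  exact J.top_mem _

lemma pullback_covering [HasPullbacks C] {K L L' : FormalCoproduct.{u} C} (f : K ⟶ L)
    (g : L' ⟶ L) (hf : Hyper.IsSRCovering J f) : Hyper.IsSRCovering J (pullback.fst g f) := by
  let pb := fun (i : Function.Pullback g.f f.f) =>
    pullback.cone (g.φ i.1.1 ≫ eqToHom (by rw [i.2])) (f.φ i.1.2)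
  let P := FormalCoproduct.pullbackCone g f pb
  have hP : IsLimit P := FormalCoproduct.isLimitPullbackCone g f pb (fun _ => pullback.isLimit _ _)
  let e : pullback g f ≅ P.pt := (pullback.isLimit g f).conePointUniqueUpToIso hP
  have he : e.hom ≫ P.fst = pullback.fst g f :=
    IsLimit.conePointUniqueUpToIso_hom_comp _ _ WalkingCospan.left
  rw [← he]
  apply comp_covering J _ _ (iso_covering J e)
  intro l'
  refine J.superset_covering ?_ (J.pullback_stable (g.φ l') (hf (g.f l')))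
  intro Y a ha
  rw [Sieve.pullback_apply, Sieve.mem_ofArrows_iff] at ha
  obtain ⟨⟨k, hk⟩, c, hc⟩ := ha
  rw [Sieve.mem_ofArrows_iff]
  have hcond : a ≫ (g.φ l' ≫ eqToHom (by rw [hk])) = c ≫ f.φ k := by
    rw [← Category.assoc, hc]
    simp
  refine ⟨⟨⟨(l', k), hk.symm⟩, rfl⟩, pullback.lift a c hcond, ?_⟩
  simp [P, pb]
  exact (pullback.lift_fst a c hcond).symm

theorem main0898 :
    (∀ {K L M : FormalCoproduct.{u} C} (f : K ⟶ L) (g : L ⟶ M),
      Hyper.IsSRCovering J f → Hyper.IsSRCovering J g → Hyper.IsSRCovering J (f ≫ g)) ∧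
    (∀ [HasPullbacks C] {K L L' : FormalCoproduct.{u} C} (f : K ⟶ L) (g : L' ⟶ L),
      Hyper.IsSRCovering J f → HasPullback g f ∧ ∀ [HasPullback g f],
        Hyper.IsSRCovering J (pullback.fst g f)) := by
  refine ⟨fun f g hf hg => comp_covering J f g hf hg, ?_⟩
  intro _ K L L' f g hf
  refine ⟨inferInstance, ?_⟩
  intro _
  exact pullback_covering J f g hf

end Groth.Agent.Helper29.SRCov
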