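import Mathlib

set_option autoImplicit false
universe u

namespace Groth.Agent.Helper29.SSClosure

open Module

variable {k : Type u} [Field k] {n : ℕ}

theorem existsP_end (s ν : Module.End k (Fin n → k)) (hs : s.IsSemisimple) (hc : Commute s ν)
    (m : ℕ) (hν : ν ^ (m + 1) = 0) :
    ∃ P : Module.End k (Fin n → k), P * P = P ∧ Commute s P ∧ P * ν = ν ∧ ν ^ m * P = 0 := by
  set W : Submodule k (Fin n → k) := LinearMap.ker (ν ^ m) with hW
  have hWinv : W ∈ Module.End.invtSubmodule s := by
    rw [Module.End.mem_invtSubmodule_iff_forall_mem_of_mem]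
    intro x hx
    rw [hW, LinearMap.mem_ker] at hx ⊢
    have hcm : Commute s (ν ^ m) := hc.pow_right m
    have : (ν ^ m) (s x) = s ((ν ^ m) x) := by
      rw [← Module.End.mul_apply, ← Module.End.mul_apply, hcm.eq]
    rw [this, hx, map_zero]
  obtain ⟨U, hUinv, hWU⟩ := (Module.End.isSemisimple_iff.mp hs) W hWinv
  rw [Module.End.mem_invtSubmodule_iff_forall_mem_of_mem] at hWinv hUinv
  refine ⟨W.projection U hWU, (Submodule.isIdempotentElem_projection hWU).eq, ?_, ?_, ?_⟩
  · refine LinearMap.ext fun x => ?_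
    rw [Module.End.mul_apply, Module.End.mul_apply]
    have hx := Submodule.projection_add_projection_eq_self hWU x
    have h1 : W.projection U hWU (s x) =
        W.projection U hWU (s (W.projection U hWU x)) +
          W.projection U hWU (s (U.projection W hWU.symm x)) := by
      rw [← map_add, ← map_add, hx]
    rw [h1, Submodule.projection_apply_of_mem_left hWU
        (hWinv _ (Submodule.projection_apply_mem hWU x)),
      Submodule.projection_apply_of_mem_right hWU
        (hUinv _ (Submodule.projection_apply_mem hWU.symm x)), add_zero]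
  · refine LinearMap.ext fun x => ?_
    rw [Module.End.mul_apply]
    apply Submodule.projection_apply_of_mem_left hWU
    rw [hW, LinearMap.mem_ker, ← Module.End.mul_apply, ← pow_succ, hν]
    rfl
  · refine LinearMap.ext fun x => ?_
    rw [Module.End.mul_apply]
    have h5 : W.projection U hWU x ∈ LinearMap.ker (ν ^ m) := Submodule.projection_apply_mem hWU x
    rw [LinearMap.mem_ker] at h5
    rw [h5]
    rfl

theorem existsP (S N : Matrix (Fin n) (Fin n) k) (hS : Module.End.IsSemisimple (Matrix.toLin' S))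
    (hc : Commute S N) (m : ℕ) (hN : N ^ (m + 1) = 0) :
    ∃ P : Matrix (Fin n) (Fin n) k, P * P = P ∧ Commute S P ∧ P * N = N ∧ N ^ m * P = 0 := by
  let e := Matrix.toLinAlgEquiv' (R := k) (n := Fin n)
  have hs : Module.End.IsSemisimple (e S) := hS
  have hce : Commute (e S) (e N) := by
    have := congrArg e hc.eq
    rwa [map_mul, map_mul] at this
  have hνe : (e N) ^ (m + 1) = 0 := by rw [← map_pow, hN, map_zero]
  obtain ⟨P, h1, h2, h3, h4⟩ := existsP_end (e S) (e N) hs hce m hνe
  refine ⟨e.symm P, ?_, ?_, ?_, ?_⟩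
  · rw [← map_mul, h1]
  · have : e.symm (e S * P) = e.symm (P * e S) := by rw [h2.eq]
    rwa [map_mul, map_mul, AlgEquiv.symm_apply_apply] at this
  · have := congrArg e.symm h3
    rwa [map_mul, AlgEquiv.symm_apply_apply] at this
  · have := congrArg e.symm h4
    rwa [map_mul, map_pow, AlgEquiv.symm_apply_apply, map_zero] at this


/-- evaluation of a polynomial in the matrix entries -/
noncomputable def ev (F : MvPolynomial (Fin n × Fin n) k) (X : Matrix (Fin n) (Fin n) k) : k :=
  MvPolynomial.eval (fun p => X p.1 p.2) F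

theorem exists_poly_line (F : MvPolynomial (Fin n × Fin n) k) (X Y : Matrix (Fin n) (Fin n) k) :
    ∃ g : Polynomial k, ∀ t : k, g.eval t = ev F (X + t • Y) := by
  refine ⟨MvPolynomial.aeval
    (fun p => Polynomial.C (X p.1 p.2) + Polynomial.C (Y p.1 p.2) * Polynomial.X) F, fun t => ?_⟩
  rw [ev]
  induction F using MvPolynomial.induction_on with
  | C a => simp
  | add p q hp hq => simp [hp, hq]
  | mul_X p i hp =>
    simp only [map_mul, MvPolynomial.aeval_X, Polynomial.eval_mul, hp, MvPolynomial.eval_X,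
      Polynomial.eval_add, Polynomial.eval_C, Polynomial.eval_X, Matrix.add_apply,
      Matrix.smul_apply, smul_eq_mul]
    ring

theorem ev_eq_zero_of_line [Infinite k] (F : MvPolynomial (Fin n × Fin n) k)
    (X Y : Matrix (Fin n) (Fin n) k) (h : ∀ t : k, t ≠ 0 → ev F (X + t • Y) = 0) : ev F X = 0 := by
  obtain ⟨g, hg⟩ := exists_poly_line F X Y
  have hg0 : g = 0 := by
    apply Polynomial.eq_zero_of_infinite_isRoot
    refine Set.Infinite.mono ?_ (Set.finite_singleton (0 : k)).infinite_compl
    intro t ht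
    have ht0 : t ≠ 0 := by simpa using ht
    simp only [Set.mem_ofPred_eq, Polynomial.IsRoot.def]
    rw [hg t, h t ht0]
  have := hg 0
  rw [hg0, Polynomial.eval_zero, zero_smul, add_zero] at this
  exact this.symm

theorem mul_proj_pow (N P : Matrix (Fin n) (Fin n) k) (hPN : P * N = N) :
    ∀ j : ℕ, 1 ≤ j → (N * P) ^ j = N ^ j * P := by
  intro j hj
  induction j, hj using Nat.le_induction with
  | base => simp
  | succ j hj ih =>
    rw [pow_succ, ih, pow_succ]
    calc N ^ j * P * (N * P) = N ^ j * (P * N) * P := by simp only [mul_assoc]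
      _ = N ^ j * N * P := by rw [hPN]

theorem conj_family (S N P : Matrix (Fin n) (Fin n) k) (hPP : P * P = P) (hSP : Commute S P)
    (hPN : P * N = N) (t : k) (ht : t ≠ 0) :
    (P + t⁻¹ • (1 - P)) * (P + t • (1 - P)) = 1 ∧
    (P + t⁻¹ • (1 - P)) * (S + N) * (P + t • (1 - P)) = S + N * P + t • (N * (1 - P)) := by
  have hPQ : P * (1 - P) = 0 := by rw [mul_sub, mul_one, hPP, sub_self]
  have hQP : (1 - P) * P = 0 := by rw [sub_mul, one_mul, hPP, sub_self]
  have hQQ : (1 - P) * (1 - P) = 1 - P := by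
    rw [mul_sub, mul_one, hQP, sub_zero]
  have hQN : (1 - P) * N = 0 := by rw [sub_mul, one_mul, hPN, sub_self]
  have h1 : (P + t⁻¹ • (1 - P)) * (P + t • (1 - P)) = 1 := by
    rw [add_mul, mul_add, mul_add, hPP, mul_smul_comm, hPQ, smul_zero, smul_mul_assoc, hQP,
      smul_zero, smul_mul_assoc, mul_smul_comm, hQQ, smul_smul, inv_mul_cancel₀ ht, one_smul,
      add_zero, zero_add, add_sub_cancel]
  refine ⟨h1, ?_⟩
  have hSQ : Commute S (1 - P) := (Commute.one_right S).sub_right hSP
  have hAtS : (P + t⁻¹ • (1 - P)) * S = S * (P + t⁻¹ • (1 - P)) :=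
    ((hSP.add_right (hSQ.smul_right t⁻¹)).eq).symm
  have hAtN : (P + t⁻¹ • (1 - P)) * N = N := by
    rw [add_mul, smul_mul_assoc, hQN, smul_zero, add_zero, hPN]
  have hAtSN : (P + t⁻¹ • (1 - P)) * (S + N) = S * (P + t⁻¹ • (1 - P)) + N := by
    rw [mul_add, hAtS, hAtN]
  calc (P + t⁻¹ • (1 - P)) * (S + N) * (P + t • (1 - P))
      = (S * (P + t⁻¹ • (1 - P)) + N) * (P + t • (1 - P)) := by rw [hAtSN]
    _ = S * ((P + t⁻¹ • (1 - P)) * (P + t • (1 - P))) + N * (P + t • (1 - P)) := by
        rw [add_mul, mul_assoc]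
    _ = S + N * P + t • (N * (1 - P)) := by
        rw [h1, mul_one, mul_add, mul_smul_comm, add_assoc]


theorem closure_all [Infinite k] : ∀ (m : ℕ) (S N : Matrix (Fin n) (Fin n) k),
    Module.End.IsSemisimple (Matrix.toLin' S) → N ^ m = 0 → Commute S N →
    ∀ F : MvPolynomial (Fin n × Fin n) k,
      (∀ A : Matrix (Fin n) (Fin n) k, IsUnit A.det → ev F (A * (S + N) * A⁻¹) = 0) →
      ∀ A : Matrix (Fin n) (Fin n) k, IsUnit A.det → ev F (A * S * A⁻¹) = 0 := by
  intro m
  induction m with
  | zero =>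
    intro S N _ hN _ F hF A hA
    have hsub : Subsingleton (Matrix (Fin n) (Fin n) k) := by
      rw [pow_zero] at hN
      exact subsingleton_of_zero_eq_one hN.symm
    rw [Subsingleton.elim S (S + N)]
    exact hF A hA
  | succ m ih =>
    intro S N hS hN hc F hF
    by_cases hm : m = 0
    · subst hm
      rw [zero_add, pow_one] at hN
      rw [hN, add_zero] at hF
      exact hF
    · have hm1 : 1 ≤ m := Nat.one_le_iff_ne_zero.mpr hm
      obtain ⟨P, hPP, hSP, hPN, hNP⟩ := existsP S N hS hc m hN
      have hN' : (N * P) ^ m = 0 := by rw [mul_proj_pow N P hPN m hm1, hNP]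
      have hc' : Commute S (N * P) := hc.mul_right hSP
      apply ih S (N * P) hS hN' hc' F
      intro A hA
      apply ev_eq_zero_of_line F (A * (S + N * P) * A⁻¹) (A * (N * (1 - P)) * A⁻¹)
      intro t ht
      obtain ⟨h1, h2⟩ := conj_family S N P hPP hSP hPN t ht
      have hAt : IsUnit (P + t⁻¹ • (1 - P)).det := Matrix.isUnit_det_of_right_inverse h1
      have hinv : (P + t⁻¹ • (1 - P))⁻¹ = P + t • (1 - P) := Matrix.inv_eq_right_inv h1
      have hAAt : IsUnit (A * (P + t⁻¹ • (1 - P))).det := by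
        rw [Matrix.det_mul]; exact hA.mul hAt
      have := hF (A * (P + t⁻¹ • (1 - P))) hAAt
      rw [Matrix.mul_inv_rev, hinv] at this
      have heq : A * (P + t⁻¹ • (1 - P)) * (S + N) * ((P + t • (1 - P)) * A⁻¹) =
          A * (S + N * P) * A⁻¹ + t • (A * (N * (1 - P)) * A⁻¹) := by
        calc A * (P + t⁻¹ • (1 - P)) * (S + N) * ((P + t • (1 - P)) * A⁻¹)
            = A * ((P + t⁻¹ • (1 - P)) * (S + N) * (P + t • (1 - P))) * A⁻¹ := by
              simp only [mul_assoc]
          _ = A * (S + N * P + t • (N * (1 - P))) * A⁻¹ := by rw [h2]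
          _ = A * (S + N * P) * A⁻¹ + t • (A * (N * (1 - P)) * A⁻¹) := by
              rw [mul_add, add_mul, mul_smul_comm, smul_mul_assoc]
      rw [heq] at this
      exact this

theorem semisimplePart_mem_closure (k : Type u) [Field k] [IsAlgClosed k] (n : ℕ)
    (B S N : Matrix (Fin n) (Fin n) k) (hS : Module.End.IsSemisimple (Matrix.toLin' S))
    (hN : IsNilpotent N) (hSN : Commute S N) (hB : B = S + N)
    (F : MvPolynomial (Fin n × Fin n) k)
    (hF : ∀ A : Matrix (Fin n) (Fin n) k, IsUnit A.det →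
      MvPolynomial.eval (fun p => (A * B * A⁻¹) p.1 p.2) F = 0) :
    MvPolynomial.eval (fun p => S p.1 p.2) F = 0 := by
  obtain ⟨m, hm⟩ := hN
  have hinf : Infinite k := IsAlgClosed.instInfinite
  subst hB
  have := closure_all m S N hS hm hSN F hF 1 (by simp)
  simpa [ev] using this

end Groth.Agent.Helper29.SSClosure
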