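import Mathlib
import Groth.Agent.Lib.Helper29.SSClosure

set_option autoImplicit false
universe u

namespace Groth.Agent.Helper29.SSConj

open Module Groth.Agent.Helper29.SSClosure

variable {k : Type u} [Field k] {n : ℕ}

theorem ev_univ_coeff (X : Matrix (Fin n) (Fin n) k) (i : ℕ) :
    ev ((Matrix.charpoly.univ k (Fin n)).coeff i) X = X.charpoly.coeff i := by
  have h := Matrix.charpoly.univ_coeff_eval₂Hom (Fin n) (RingHom.id k)
    (fun p : Fin n × Fin n => X p.1 p.2) i
  have hX : Matrix.of (Function.curry (fun p : Fin n × Fin n => X p.1 p.2)) = X := by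
    ext a b; rfl
  rw [hX] at h
  exact h

theorem ev_sub_C (F : MvPolynomial (Fin n × Fin n) k) (c : k) (X : Matrix (Fin n) (Fin n) k) :
    ev (F - MvPolynomial.C c) X = ev F X - c := by
  simp [ev]

theorem charpoly_conj (A B : Matrix (Fin n) (Fin n) k) (hA : IsUnit A.det) :
    (A * B * A⁻¹).charpoly = B.charpoly := by
  obtain ⟨u, rfl⟩ := (Matrix.isUnit_iff_isUnit_det A).mpr hA
  exact Matrix.charpoly_units_conj u B

theorem charpoly_eq_of_mem_closure (B C : Matrix (Fin n) (Fin n) k)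
    (hC : ∀ F : MvPolynomial (Fin n × Fin n) k,
      (∀ A : Matrix (Fin n) (Fin n) k, IsUnit A.det → ev F (A * B * A⁻¹) = 0) → ev F C = 0) :
    C.charpoly = B.charpoly := by
  ext i
  have key : ∀ X : Matrix (Fin n) (Fin n) k,
      ev ((Matrix.charpoly.univ k (Fin n)).coeff i - MvPolynomial.C (B.charpoly.coeff i)) X
        = X.charpoly.coeff i - B.charpoly.coeff i := by
    intro X
    rw [ev_sub_C, ev_univ_coeff]
  have h := hC ((Matrix.charpoly.univ k (Fin n)).coeff i - MvPolynomial.C (B.charpoly.coeff i))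
    (fun A hA => by rw [key, charpoly_conj A B hA, sub_self])
  rw [key] at h
  exact sub_eq_zero.mp h

theorem exists_equiv_of_charpoly_eq [IsAlgClosed k] {V : Type*} [AddCommGroup V] [Module k V]
    [FiniteDimensional k V]
    (s₁ s₂ : Module.End k V) (h₁ : s₁.IsSemisimple) (h₂ : s₂.IsSemisimple)
    (hcp : s₁.charpoly = s₂.charpoly) : ∃ g : V ≃ₗ[k] V, ∀ x, g (s₁ x) = s₂ (g x) := by
  classical
  have hfin : ∀ s : Module.End k V, s.IsSemisimple → ∀ μ : k,
      finrank k (s.eigenspace μ) = s.charpoly.rootMultiplicity μ := by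
    intro s hs μ
    rw [← hs.isFinitelySemisimple.maxGenEigenspace_eq_eigenspace μ]
    exact LinearMap.finrank_maxGenEigenspace_eq s μ
  have hint : ∀ s : Module.End k V, s.IsSemisimple →
      DirectSum.IsInternal (fun μ : k => s.eigenspace μ) := by
    intro s hs
    exact DirectSum.isInternal_submodule_of_iSupIndep_of_iSup_eq_top
      (Module.End.eigenspaces_iSupIndep s) hs.iSup_eigenspace_eq_top
  let e : ∀ μ : k, s₁.eigenspace μ ≃ₗ[k] s₂.eigenspace μ := fun μ =>
    LinearEquiv.ofFinrankEq _ _ (by rw [hfin s₁ h₁, hfin s₂ h₂, hcp])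
  let D₁ := LinearEquiv.ofBijective (DirectSum.coeLinearMap fun μ : k => s₁.eigenspace μ)
    (hint s₁ h₁)
  let D₂ := LinearEquiv.ofBijective (DirectSum.coeLinearMap fun μ : k => s₂.eigenspace μ)
    (hint s₂ h₂)
  let M := DirectSum.congrLinearEquiv e
  let g : V ≃ₗ[k] V := D₁.symm.trans (M.trans D₂)
  have hD₁ : ∀ (μ : k) (v : s₁.eigenspace μ),
      D₁ (DirectSum.of (fun μ : k => s₁.eigenspace μ) μ v) = (v : V) :=
    fun μ v => DirectSum.coeLinearMap_of _ μ v
  have hD₂ : ∀ (μ : k) (v : s₂.eigenspace μ),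
      D₂ (DirectSum.of (fun μ : k => s₂.eigenspace μ) μ v) = (v : V) :=
    fun μ v => DirectSum.coeLinearMap_of _ μ v
  have hM : ∀ (μ : k) (v : s₁.eigenspace μ),
      M (DirectSum.of (fun μ : k => s₁.eigenspace μ) μ v) =
        DirectSum.of (fun μ : k => s₂.eigenspace μ) μ (e μ v) := by
    intro μ v
    show DirectSum.congrLinearEquiv e _ = _
    rw [DirectSum.coe_congrLinearEquiv]
    exact DirectSum.lmap_of (fun i => (e i).toLinearMap) μ v
  have hg : ∀ (μ : k) (v : s₁.eigenspace μ), g (v : V) = (e μ v : V) := by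
    intro μ v
    show D₂ (M (D₁.symm (v : V))) = _
    rw [← hD₁ μ v, LinearEquiv.symm_apply_apply, hM, hD₂]
  refine ⟨g, ?_⟩
  suffices h : ∀ y, g (s₁ (D₁ y)) = s₂ (g (D₁ y)) by
    intro x
    have := h (D₁.symm x)
    rwa [LinearEquiv.apply_symm_apply] at this
  intro y
  induction y using DirectSum.induction_on with
  | zero => simp
  | of μ v =>
    rw [hD₁, Module.End.mem_eigenspace_iff.mp v.2, map_smul, hg,
      Module.End.mem_eigenspace_iff.mp (e μ v).2]
  | add a b ha hb => simp only [map_add, ha, hb]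

theorem exists_conj_of_charpoly_eq [IsAlgClosed k] (S₁ S₂ : Matrix (Fin n) (Fin n) k)
    (h₁ : Module.End.IsSemisimple (Matrix.toLin' S₁))
    (h₂ : Module.End.IsSemisimple (Matrix.toLin' S₂))
    (hcp : S₁.charpoly = S₂.charpoly) :
    ∃ A : Matrix (Fin n) (Fin n) k, IsUnit A.det ∧ A * S₁ * A⁻¹ = S₂ := by
  obtain ⟨g, hg⟩ := exists_equiv_of_charpoly_eq (Matrix.toLin' S₁) (Matrix.toLin' S₂) h₁ h₂
    (by rw [Matrix.charpoly_toLin', Matrix.charpoly_toLin', hcp])
  have h1 : LinearMap.toMatrix' g.toLinearMap * LinearMap.toMatrix' g.symm.toLinearMap = 1 := by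
    rw [← LinearMap.toMatrix'_comp]
    have : g.toLinearMap ∘ₗ g.symm.toLinearMap = LinearMap.id := by
      refine LinearMap.ext fun x => ?_
      simp
    rw [this, LinearMap.toMatrix'_id]
  refine ⟨LinearMap.toMatrix' g.toLinearMap, Matrix.isUnit_det_of_right_inverse h1, ?_⟩
  rw [Matrix.inv_eq_right_inv h1]
  calc LinearMap.toMatrix' g.toLinearMap * S₁ * LinearMap.toMatrix' g.symm.toLinearMap
      = LinearMap.toMatrix' g.toLinearMap * LinearMap.toMatrix' (Matrix.toLin' S₁) *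
          LinearMap.toMatrix' g.symm.toLinearMap := by rw [LinearMap.toMatrix'_toLin']
    _ = LinearMap.toMatrix' ((g.toLinearMap ∘ₗ Matrix.toLin' S₁) ∘ₗ g.symm.toLinearMap) := by
        rw [LinearMap.toMatrix'_comp, LinearMap.toMatrix'_comp]
    _ = LinearMap.toMatrix' (Matrix.toLin' S₂) := by
        congr 1
        refine LinearMap.ext fun x => ?_
        simp only [LinearMap.comp_apply, LinearEquiv.coe_coe]
        rw [hg, LinearEquiv.apply_symm_apply]
    _ = S₂ := LinearMap.toMatrix'_toLin' S₂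

theorem main (k : Type u) [Field k] [IsAlgClosed k]
    (n : ℕ) (B₁ S₁ N₁ B₂ S₂ N₂ : Matrix (Fin n) (Fin n) k)
    (hS₁ : Module.End.IsSemisimple (Matrix.toLin' S₁)) (hN₁ : IsNilpotent N₁) (hc₁ : Commute S₁ N₁)
    (hB₁ : B₁ = S₁ + N₁)
    (hS₂ : Module.End.IsSemisimple (Matrix.toLin' S₂)) (hN₂ : IsNilpotent N₂) (hc₂ : Commute S₂ N₂)
    (hB₂ : B₂ = S₂ + N₂) :
    (∃ C : Matrix (Fin n) (Fin n) k,
        (∀ F : MvPolynomial (Fin n × Fin n) k,
          (∀ A : Matrix (Fin n) (Fin n) k, IsUnit A.det →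
            MvPolynomial.eval (fun p => (A * B₁ * A⁻¹) p.1 p.2) F = 0) →
          MvPolynomial.eval (fun p => C p.1 p.2) F = 0) ∧
        (∀ F : MvPolynomial (Fin n × Fin n) k,
          (∀ A : Matrix (Fin n) (Fin n) k, IsUnit A.det →
            MvPolynomial.eval (fun p => (A * B₂ * A⁻¹) p.1 p.2) F = 0) →
          MvPolynomial.eval (fun p => C p.1 p.2) F = 0)) ↔
      ∃ A : Matrix (Fin n) (Fin n) k, IsUnit A.det ∧ A * S₁ * A⁻¹ = S₂ := by
  have hinf : Infinite k := IsAlgClosed.instInfinite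
  constructor
  · rintro ⟨C, hC₁, hC₂⟩
    have e1 : C.charpoly = B₁.charpoly := charpoly_eq_of_mem_closure B₁ C hC₁
    have e2 : C.charpoly = B₂.charpoly := charpoly_eq_of_mem_closure B₂ C hC₂
    have e3 : S₁.charpoly = B₁.charpoly := charpoly_eq_of_mem_closure B₁ S₁
      (fun F hF => semisimplePart_mem_closure k n B₁ S₁ N₁ hS₁ hN₁ hc₁ hB₁ F hF)
    have e4 : S₂.charpoly = B₂.charpoly := charpoly_eq_of_mem_closure B₂ S₂
      (fun F hF => semisimplePart_mem_closure k n B₂ S₂ N₂ hS₂ hN₂ hc₂ hB₂ F hF)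
    exact exists_conj_of_charpoly_eq S₁ S₂ hS₁ hS₂ (by rw [e3, ← e1, e2, ← e4])
  · rintro ⟨A, hA, hAS⟩
    refine ⟨S₂, fun F hF => ?_,
      fun F hF => semisimplePart_mem_closure k n B₂ S₂ N₂ hS₂ hN₂ hc₂ hB₂ F hF⟩
    obtain ⟨m, hm⟩ := hN₁
    subst hB₁
    have := closure_all m S₁ N₁ hS₁ hm hc₁ F hF A hA
    rw [hAS] at this
    exact this

end Groth.Agent.Helper29.SSConj
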