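import Mathlib

set_option autoImplicit false
universe u
open CategoryTheory CategoryTheory.Limits AlgebraicGeometry

namespace Groth.Agent.Helper29.SbA

variable {ι : Type u} [Finite ι] (R : ι → Type u) [∀ i, CommRing (R i)]
  (B : Type u) [CommRing B] (p : ∀ i, B →+* R i)
  (hbij : Function.Bijective (RingHom.pi p))

include hbij

/-- The comparison `∐ Spec Rᵢ ⟶ Spec B`. -/
theorem exists_iso_sigma : ∃ (σ : (∐ fun i ↦ Spec (CommRingCat.of (R i))) ⟶ Spec (CommRingCat.of B)),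
    IsIso σ ∧ ∀ i, Sigma.ι _ i ≫ σ = Spec.map (CommRingCat.ofHom (p i)) := by
  let e : B ≃+* (∀ i, R i) := RingEquiv.ofBijective (RingHom.pi p) hbij
  let φ : Spec (CommRingCat.of (∀ i, R i)) ⟶ Spec (CommRingCat.of B) :=
    Spec.map (CommRingCat.ofHom e.toRingHom)
  haveI : IsIso φ := by
    have : IsIso (CommRingCat.ofHom e.toRingHom) :=
      (e.toCommRingCatIso).isIso_hom
    exact inferInstanceAs (IsIso (Spec.map _))
  refine ⟨sigmaSpec (fun i => CommRingCat.of (R i)) ≫ φ, inferInstance, fun i => ?_⟩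
  rw [ι_sigmaSpec_assoc, ← Spec.map_comp]
  rfl

theorem hom_ext {Y : Scheme.{u}} (f g : Spec (CommRingCat.of B) ⟶ Y)
    (h : ∀ i, Spec.map (CommRingCat.ofHom (p i)) ≫ f = Spec.map (CommRingCat.ofHom (p i)) ≫ g) :
    f = g := by
  obtain ⟨σ, hσ, hσi⟩ := exists_iso_sigma R B p hbij
  rw [← cancel_epi σ]
  apply Sigma.hom_ext
  intro i
  rw [← Category.assoc, ← Category.assoc, hσi i]
  exact h i

theorem exists_desc {Y : Scheme.{u}} (f : ∀ i, Spec (CommRingCat.of (R i)) ⟶ Y) :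
    ∃ F : Spec (CommRingCat.of B) ⟶ Y, ∀ i, Spec.map (CommRingCat.ofHom (p i)) ≫ F = f i := by
  obtain ⟨σ, hσ, hσi⟩ := exists_iso_sigma R B p hbij
  refine ⟨inv σ ≫ Sigma.desc f, fun i => ?_⟩
  rw [← hσi i, Category.assoc, IsIso.hom_inv_id_assoc, Sigma.ι_desc]

end Groth.Agent.Helper29.SbA
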