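import Mathlib
import Groth.Agent.Lib.Helper28.AdicHom

set_option autoImplicit false
universe u
open CategoryTheory CategoryTheory.Limits AlgebraicGeometry TopologicalSpace

namespace Groth.Agent.Helper29.SbB

open Groth.Agent.Helper28.AdicHom

lemma range_subset_of_closedPoint' {S : Type u} [CommRing S] [IsLocalRing S] {X : Scheme.{u}}
    (f : Spec (CommRingCat.of S) ⟶ X) (U : X.Opens)
    (hx : f (IsLocalRing.closedPoint S) ∈ U) : Set.range f ⊆ (U : Set X) := by
  rintro _ ⟨z, rfl⟩
  have h1 : (z : PrimeSpectrum S) ⤳ IsLocalRing.closedPoint S :=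
    IsLocalRing.specializes_closedPoint z
  have h2 : f z ⤳ f (IsLocalRing.closedPoint S) := h1.map f.continuous
  exact h2.mem_open U.2 hx

variable (R : Type u) [CommRing R] [IsLocalRing R] (I : Ideal R) (hI : I ≠ ⊤)

include hI

theorem nontrivial_quot (n : ℕ) : Nontrivial (R ⧸ I ^ (n + 1)) := by
  rw [Ideal.Quotient.nontrivial_iff]
  intro h
  apply hI
  rw [← top_le_iff, ← h]
  exact Ideal.pow_le_self (Nat.succ_ne_zero n)

theorem isLocalRing_quot (n : ℕ) : IsLocalRing (R ⧸ I ^ (n + 1)) :=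
  haveI := nontrivial_quot R I hI n
  IsLocalRing.of_surjective' (Ideal.Quotient.mk (I ^ (n + 1))) Ideal.Quotient.mk_surjective

theorem isLocalHom_mk (n : ℕ) : IsLocalHom (Ideal.Quotient.mk (I ^ (n + 1))) :=
  haveI := nontrivial_quot R I hI n
  IsLocalHom.of_surjective _ Ideal.Quotient.mk_surjective

theorem isLocalHom_factor (n : ℕ) :
    haveI := isLocalRing_quot R I hI (n + 1)
    IsLocalHom (Ideal.Quotient.factor
      (Ideal.pow_le_pow_right (I := I) (Nat.le_succ (n + 1)))) := by
  haveI := isLocalRing_quot R I hI (n + 1)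
  haveI := nontrivial_quot R I hI n
  exact IsLocalHom.of_surjective _ (Ideal.Quotient.factor_surjective _)

variable {R}

theorem uniq [IsAdicComplete I R] (X : Scheme.{u})
    (f g : Spec (CommRingCat.of R) ⟶ X)
    (h : ∀ n : ℕ,
      Spec.map (CommRingCat.ofHom (Ideal.Quotient.mk (I ^ n))) ≫ f =
      Spec.map (CommRingCat.ofHom (Ideal.Quotient.mk (I ^ n))) ≫ g) :
    f = g := by
  have hpt : f (IsLocalRing.closedPoint R) = g (IsLocalRing.closedPoint R) := by
    haveI := isLocalRing_quot R I hI 0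
    haveI := isLocalHom_mk R I hI 0
    have h1 : f ((Spec.map (CommRingCat.ofHom (Ideal.Quotient.mk (I ^ (0 + 1)))))
        (IsLocalRing.closedPoint (R ⧸ I ^ (0 + 1)))) =
        g ((Spec.map (CommRingCat.ofHom (Ideal.Quotient.mk (I ^ (0 + 1)))))
        (IsLocalRing.closedPoint (R ⧸ I ^ (0 + 1)))) :=
      congrArg (fun t : Spec (CommRingCat.of (R ⧸ I ^ (0 + 1))) ⟶ X =>
        t (IsLocalRing.closedPoint (R ⧸ I ^ (0 + 1)))) (h (0 + 1))
    have h2 : (Spec.map (CommRingCat.ofHom (Ideal.Quotient.mk (I ^ (0 + 1)))))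
        (IsLocalRing.closedPoint (R ⧸ I ^ (0 + 1))) = IsLocalRing.closedPoint R := by
      change PrimeSpectrum.comap (Ideal.Quotient.mk (I ^ (0 + 1)))
        (IsLocalRing.closedPoint (R ⧸ I ^ (0 + 1))) = _
      exact IsLocalRing.comap_closedPoint (Ideal.Quotient.mk (I ^ (0 + 1)))
    rwa [h2] at h1
  obtain ⟨_, ⟨U, hU, rfl⟩, hxU, -⟩ := X.isBasis_affineOpens.exists_subset_of_mem_open
    (Set.mem_univ (f (IsLocalRing.closedPoint R))) isOpen_univ
  have hf : Set.range f ⊆ Set.range hU.fromSpec := by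
    rw [hU.range_fromSpec]; exact range_subset_of_closedPoint' f U hxU
  have hg : Set.range g ⊆ Set.range hU.fromSpec := by
    rw [hU.range_fromSpec]
    apply range_subset_of_closedPoint' g U
    rw [← hpt]; exact hxU
  obtain ⟨φ, hφ⟩ := Spec.map_surjective (IsOpenImmersion.lift hU.fromSpec f hf)
  obtain ⟨ψ, hψ⟩ := Spec.map_surjective (IsOpenImmersion.lift hU.fromSpec g hg)
  have hf' : f = Spec.map φ ≫ hU.fromSpec := by rw [hφ, IsOpenImmersion.lift_fac]
  have hg' : g = Spec.map ψ ≫ hU.fromSpec := by rw [hψ, IsOpenImmersion.lift_fac]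
  have key : φ = ψ := by
    have h2 : ∀ n : ℕ,
        φ ≫ CommRingCat.ofHom (Ideal.Quotient.mk (I ^ n)) =
        ψ ≫ CommRingCat.ofHom (Ideal.Quotient.mk (I ^ n)) := by
      intro n
      apply Spec.map_injective
      rw [Spec.map_comp, Spec.map_comp, ← cancel_mono hU.fromSpec, Category.assoc,
        Category.assoc, ← hf', ← hg']
      exact h n
    apply CommRingCat.hom_ext
    apply ringHom_ext_of_hausdorff I
    intro n
    exact congrArg (fun t => t.hom) (h2 n)
  rw [hf', hg', key]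

theorem exist [IsAdicComplete I R] (X : Scheme.{u})
    (u : (n : ℕ) → (Spec (CommRingCat.of (R ⧸ I ^ n)) ⟶ X))
    (hu : ∀ n : ℕ, Spec.map (CommRingCat.ofHom (Ideal.Quotient.factor
        (Ideal.pow_le_pow_right (I := I) (Nat.le_succ n)))) ≫
        u (n + 1) = u n) :
    ∃ f : Spec (CommRingCat.of R) ⟶ X, ∀ n : ℕ,
      Spec.map (CommRingCat.ofHom (Ideal.Quotient.mk (I ^ n))) ≫ f = u n := by
  haveI hloc := fun n => isLocalRing_quot R I hI n
  obtain ⟨x, hx⟩ : ∃ x : X, x = u (0 + 1) (IsLocalRing.closedPoint (R ⧸ I ^ (0 + 1))) := ⟨_, rfl⟩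
  have hall : ∀ n : ℕ, u (n + 1) (IsLocalRing.closedPoint (R ⧸ I ^ (n + 1))) = x := by
    intro n
    induction n with
    | zero => exact hx.symm
    | succ n ih =>
      haveI := isLocalHom_factor R I hI n
      have h1 : u (n + 1 + 1) ((Spec.map (CommRingCat.ofHom (Ideal.Quotient.factor
          (Ideal.pow_le_pow_right (I := I) (Nat.le_succ (n + 1))))))
          (IsLocalRing.closedPoint (R ⧸ I ^ (n + 1)))) =
          u (n + 1) (IsLocalRing.closedPoint (R ⧸ I ^ (n + 1))) :=
        congrArg (fun t : Spec (CommRingCat.of (R ⧸ I ^ (n + 1))) ⟶ X =>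
          t (IsLocalRing.closedPoint (R ⧸ I ^ (n + 1)))) (hu (n + 1))
      have h2 : (Spec.map (CommRingCat.ofHom (Ideal.Quotient.factor
          (Ideal.pow_le_pow_right (I := I) (Nat.le_succ (n + 1))))))
          (IsLocalRing.closedPoint (R ⧸ I ^ (n + 1))) =
          IsLocalRing.closedPoint (R ⧸ I ^ (n + 1 + 1)) := by
        change PrimeSpectrum.comap (Ideal.Quotient.factor
          (Ideal.pow_le_pow_right (I := I) (Nat.le_succ (n + 1))))
          (IsLocalRing.closedPoint (R ⧸ I ^ (n + 1))) = _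
        exact IsLocalRing.comap_closedPoint (Ideal.Quotient.factor
          (Ideal.pow_le_pow_right (I := I) (Nat.le_succ (n + 1))))
      rw [h2] at h1
      rw [h1]
      exact ih
  obtain ⟨_, ⟨U, hU, rfl⟩, hxU, -⟩ := X.isBasis_affineOpens.exists_subset_of_mem_open
    (Set.mem_univ x) isOpen_univ
  have hrange : ∀ n, Set.range (u n) ⊆ Set.range hU.fromSpec := by
    intro n
    rw [hU.range_fromSpec]
    cases n with
    | zero =>
      rintro _ ⟨z, rfl⟩
      haveI : Subsingleton (R ⧸ I ^ 0) := by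
        rw [Ideal.Quotient.subsingleton_iff, pow_zero, Ideal.one_eq_top]
      have hE : IsEmpty (PrimeSpectrum (R ⧸ I ^ 0)) := inferInstance
      exact (hE.false z).elim
    | succ n =>
      apply range_subset_of_closedPoint' (u (n + 1)) U
      rw [hall n]; exact hxU
  choose β hβ using fun n => Spec.map_surjective (IsOpenImmersion.lift hU.fromSpec (u n) (hrange n))
  have hβ' : ∀ n, Spec.map (β n) ≫ hU.fromSpec = u n := by
    intro n; rw [hβ n, IsOpenImmersion.lift_fac]
  have hcomp : ∀ n, β (n + 1) ≫ CommRingCat.ofHom (Ideal.Quotient.factor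
      (Ideal.pow_le_pow_right (I := I) (Nat.le_succ n))) = β n := by
    intro n
    apply Spec.map_injective
    rw [Spec.map_comp, ← cancel_mono hU.fromSpec, Category.assoc, hβ', hβ']
    exact hu n
  have hsucc : ∀ n, (Ideal.Quotient.factorPow I (Nat.le_succ n)).comp
      (β (n + 1)).hom = (β n).hom := by
    intro n
    exact congrArg (fun t => t.hom) (hcomp n)
  let β' : Γ(X, U) →+* R := IsAdicComplete.liftRingHom I
    (fun n => (β n).hom) (compat_of_succ I (fun n => (β n).hom) hsucc)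
  refine ⟨Spec.map (CommRingCat.ofHom β') ≫ hU.fromSpec, ?_⟩
  intro n
  rw [← Category.assoc, ← Spec.map_comp, ← hβ' n]
  congr 2
  apply CommRingCat.hom_ext
  exact IsAdicComplete.mk_comp_liftRingHom I
    (fun n => (β n).hom) (compat_of_succ I (fun n => (β n).hom) hsucc) n

end Groth.Agent.Helper29.SbB
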