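import Mathlib

set_option autoImplicit false
universe u

namespace Groth.Agent.Helper29.SbC

open Polynomial

section Artin

variable (R : Type u) [CommRing R] [IsArtinianRing R]

theorem exists_coi_artinian :
    ∃ (_ : Fintype (MaximalSpectrum R)) (e : MaximalSpectrum R → R),
      CompleteOrthogonalIdempotents e ∧ ∀ i j : MaximalSpectrum R, (e i ∈ j.asIdeal ↔ i ≠ j) := by
  classical
  letI : Fintype (MaximalSpectrum R) := Fintype.ofFinite _
  refine ⟨inferInstance, ?_⟩
  have hcop : Pairwise (Function.onFun IsCoprime (fun j : MaximalSpectrum R => j.asIdeal)) :=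
    fun i j hij => MaximalSpectrum.isCoprime_of_ne hij
  have hcrt : ∀ i : MaximalSpectrum R, ∃ a : R, ∀ j : MaximalSpectrum R,
      a - (if i = j then (1 : R) else 0) ∈ j.asIdeal :=
    fun i => Ideal.exists_forall_sub_mem_ideal hcop (fun j => if i = j then (1 : R) else 0)
  choose a ha using hcrt
  have hmk : ∀ i j : MaximalSpectrum R,
      Ideal.Quotient.mk j.asIdeal (a i) = if i = j then 1 else 0 := by
    intro i j
    have := (Ideal.Quotient.eq (I := j.asIdeal)).mpr (ha i j)
    rw [this]
    split_ifs <;> simp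
  have hnil : ∀ x : R, (∀ j : MaximalSpectrum R, Ideal.Quotient.mk j.asIdeal x = 0) →
      x ∈ nilradical R := by
    intro x hx
    rw [IsArtinianRing.nilradical_eq_iInf, Ideal.mem_iInf]
    intro j
    exact Ideal.Quotient.eq_zero_iff_mem.mp (hx j)
  let f := Ideal.Quotient.mk (nilradical R)
  have hbar : CompleteOrthogonalIdempotents (fun i => f (a i)) := by
    refine ⟨⟨fun i => ?_, fun i k hik => ?_⟩, ?_⟩
    · show f (a i) * f (a i) = f (a i)
      rw [← map_mul, ← sub_eq_zero, ← map_sub, Ideal.Quotient.eq_zero_iff_mem]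
      apply hnil
      intro j
      rw [map_sub, map_mul, hmk]
      split_ifs <;> simp
    · show f (a i) * f (a k) = 0
      rw [← map_mul, Ideal.Quotient.eq_zero_iff_mem]
      apply hnil
      intro j
      rw [map_mul, hmk, hmk]
      by_cases h1 : i = j
      · have h2 : k ≠ j := fun h => hik (h1.trans h.symm)
        simp [h2]
      · simp [h1]
    · show ∑ i, f (a i) = 1
      rw [← map_sum, ← sub_eq_zero, ← map_one f, ← map_sub, Ideal.Quotient.eq_zero_iff_mem]
      apply hnil
      intro j
      rw [map_sub, map_sum, map_one]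
      simp only [hmk]
      rw [Finset.sum_ite_eq' Finset.univ j]
      simp
  have hker : ∀ x ∈ RingHom.ker f, IsNilpotent x := by
    intro x hx
    rw [Ideal.mk_ker] at hx
    exact hx
  obtain ⟨e, he, hfe⟩ := hbar.lift_of_isNilpotent_ker f hker
    (fun i => ⟨a i, rfl⟩)
  refine ⟨e, he, fun i j => ?_⟩
  have h1 : e i - a i ∈ nilradical R := by
    rw [← Ideal.Quotient.eq]
    exact congrFun hfe i
  have h2 : e i - a i ∈ j.asIdeal := by
    rw [IsArtinianRing.nilradical_eq_iInf, Ideal.mem_iInf] at h1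
    exact h1 j
  have h3 : Ideal.Quotient.mk j.asIdeal (e i) = if i = j then 1 else 0 := by
    rw [(Ideal.Quotient.eq (I := j.asIdeal)).mpr h2, hmk]
  rw [← Ideal.Quotient.eq_zero_iff_mem, h3]
  haveI : Nontrivial (R ⧸ j.asIdeal) := Ideal.Quotient.nontrivial_iff.mpr j.isMaximal.ne_top
  split_ifs with h
  · simp [h]
  · simp [h]

end Artin

section Hensel

variable {B : Type u} [CommRing B] (I : Ideal B) [HenselianRing B I]

theorem exists_idem_lift (ebar : B ⧸ I) (h : IsIdempotentElem ebar) :
    ∃ e : B, IsIdempotentElem e ∧ Ideal.Quotient.mk I e = ebar := by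
  obtain ⟨a₀, rfl⟩ := Ideal.Quotient.mk_surjective ebar
  have h1 : (X ^ 2 - X : B[X]).Monic := by
    have : (X ^ 2 - X : B[X]) = X * (X - C 1) := by simp; ring
    rw [this]
    exact monic_X.mul (monic_X_sub_C 1)
  have hd : (X ^ 2 - X : B[X]).derivative.eval a₀ = 2 * a₀ - 1 := by
    simp
    ring
  have h2 : (X ^ 2 - X : B[X]).eval a₀ ∈ I := by
    rw [← Ideal.Quotient.eq_zero_iff_mem]
    simp only [eval_sub, eval_pow, eval_X, map_sub, map_pow]
    rw [pow_two, h.eq, sub_self]
  have h3 : IsUnit (Ideal.Quotient.mk I ((X ^ 2 - X : B[X]).derivative.eval a₀)) := by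
    have : (Ideal.Quotient.mk I ((X ^ 2 - X : B[X]).derivative.eval a₀)) *
        (Ideal.Quotient.mk I ((X ^ 2 - X : B[X]).derivative.eval a₀)) = 1 := by
      rw [hd]
      simp only [map_sub, map_mul, map_one, map_ofNat]
      have h' : Ideal.Quotient.mk I a₀ * Ideal.Quotient.mk I a₀ = Ideal.Quotient.mk I a₀ := h.eq
      linear_combination 4 * h'
    exact IsUnit.of_mul_eq_one _ this
  obtain ⟨a, ha, ha'⟩ := HenselianRing.is_henselian (X ^ 2 - X : B[X]) h1 a₀ h2 h3
  refine ⟨a, ?_, ?_⟩
  · have : a ^ 2 - a = 0 := by simpa [IsRoot] using ha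
    show a * a = a
    rw [← sub_eq_zero, ← this]; ring
  · exact (Ideal.Quotient.eq (I := I)).mpr ha'

theorem idem_eq_zero_of_mem (x : B) (hx : IsIdempotentElem x) (hxI : x ∈ I) : x = 0 := by
  have hj : x ∈ Ideal.jacobson (⊥ : Ideal B) := HenselianRing.jac hxI
  rw [Ideal.mem_jacobson_bot] at hj
  have hu : IsUnit (x * (-1) + 1) := hj (-1)
  have : (x * (-1) + 1) * x = 0 := by
    have := hx.eq
    linear_combination -this
  exact (hu.mul_right_eq_zero).mp this

theorem exists_coi_lift {ι : Type u} [Fintype ι] (ebar : ι → B ⧸ I)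
    (h : CompleteOrthogonalIdempotents ebar) :
    ∃ e : ι → B, CompleteOrthogonalIdempotents e ∧ ∀ i, Ideal.Quotient.mk I (e i) = ebar i := by
  have h1 := fun i => exists_idem_lift I (ebar i) (h.idem i)
  choose e he hee using h1
  have hortho : Pairwise (fun i j => e i * e j = 0) := by
    intro i j hij
    apply idem_eq_zero_of_mem I
    · exact (he i).mul (he j)
    · rw [← Ideal.Quotient.eq_zero_iff_mem, map_mul, hee, hee]
      exact h.ortho hij
  have hO : OrthogonalIdempotents e := ⟨he, hortho⟩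
  refine ⟨e, ⟨hO, ?_⟩, hee⟩
  have hs : IsIdempotentElem (∑ i, e i) := hO.isIdempotentElem_sum (s := Finset.univ)
  have h2 : (1 - ∑ i, e i) = 0 := by
    apply idem_eq_zero_of_mem I
    · exact hs.one_sub
    · rw [← Ideal.Quotient.eq_zero_iff_mem, map_sub, map_one, map_sum]
      simp only [hee]
      rw [h.complete, sub_self]
  exact (sub_eq_zero.mp h2).symm

end Hensel

end Groth.Agent.Helper29.SbC
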