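import Mathlib
import Groth.Agent.Lib.Helper29.SbC

set_option autoImplicit false
universe u

namespace Groth.Agent.Helper29.SbD

open Groth.Agent.Helper29.SbC

section Decomp

theorem exists_decomp (B : Type u) [CommRing B] (I : Ideal B) [IsAdicComplete I B]
    [IsArtinianRing (B ⧸ I)] :
    ∃ (ι : Type u) (_ : Fintype ι) (e : ι → B), CompleteOrthogonalIdempotents e ∧
      ∀ i, IsLocalRing (B ⧸ Ideal.span {1 - e i}) := by
  classical
  obtain ⟨hfin, ebar, hebar, hmem⟩ := exists_coi_artinian (B ⧸ I)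
  letI := hfin
  obtain ⟨e, he, hee⟩ := exists_coi_lift I ebar hebar
  refine ⟨MaximalSpectrum (B ⧸ I), hfin, e, he, fun i => ?_⟩
  -- the maximal ideals of B
  let Qf : MaximalSpectrum (B ⧸ I) → Ideal B := fun j => Ideal.comap (Ideal.Quotient.mk I) j.asIdeal
  have hQmax : ∀ j, (Qf j).IsMaximal := fun j =>
    Ideal.comap_isMaximal_of_surjective _ Ideal.Quotient.mk_surjective (K := j.asIdeal)
      (H := j.isMaximal)
  have hjac : I ≤ Ideal.jacobson ⊥ := IsAdicComplete.le_jacobson_bot I
  have halpha : ∀ Q : Ideal B, Q.IsMaximal → ∃ j, Q = Qf j := by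
    intro Q hQ
    have hIQ : I ≤ Q := by
      refine hjac.trans ?_
      rw [Ideal.jacobson]
      exact sInf_le ⟨bot_le, hQ⟩
    have hcm : Ideal.comap (Ideal.Quotient.mk I) (Ideal.map (Ideal.Quotient.mk I) Q) = Q := by
      rw [Ideal.comap_map_of_surjective _ Ideal.Quotient.mk_surjective,
        ← RingHom.ker_eq_comap_bot, Ideal.mk_ker, sup_eq_left]
      exact hIQ
    rcases Ideal.map_eq_top_or_isMaximal_of_surjective (Ideal.Quotient.mk I)
      Ideal.Quotient.mk_surjective hQ with h | h
    · exfalso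
      rw [h, Ideal.comap_top] at hcm
      exact hQ.ne_top hcm.symm
    · exact ⟨⟨_, h⟩, hcm.symm⟩
  have hbeta : ∀ i j, e i ∈ Qf j ↔ i ≠ j := by
    intro i j
    show Ideal.Quotient.mk I (e i) ∈ j.asIdeal ↔ _
    rw [hee]
    exact hmem i j
  have hin : 1 - e i ∈ Qf i := by
    have h1 : e i * (1 - e i) ∈ Qf i := by
      have : e i * (1 - e i) = 0 := by
        have := (he.idem i).eq
        linear_combination -this
      rw [this]; exact Ideal.zero_mem _
    rcases (hQmax i).isPrime.mem_or_mem h1 with h | h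
    · exact absurd ((hbeta i i).mp h) (by simp)
    · exact h
  have hle : Ideal.span {1 - e i} ≤ Qf i := by
    rw [Ideal.span_le, Set.singleton_subset_iff]; exact hin
  haveI : Nontrivial (B ⧸ Ideal.span {1 - e i}) := by
    rw [Ideal.Quotient.nontrivial_iff]
    intro h
    exact (hQmax i).ne_top (top_le_iff.mp (h ▸ hle))
  have hcomap : ∀ M : Ideal (B ⧸ Ideal.span {1 - e i}), M.IsMaximal →
      Ideal.comap (Ideal.Quotient.mk (Ideal.span {1 - e i})) M = Qf i := by
    intro M hM
    have hmax : (Ideal.comap (Ideal.Quotient.mk (Ideal.span {1 - e i})) M).IsMaximal :=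
      Ideal.comap_isMaximal_of_surjective _ Ideal.Quotient.mk_surjective
    obtain ⟨j, hj⟩ := halpha _ hmax
    have h1 : 1 - e i ∈ Ideal.comap (Ideal.Quotient.mk (Ideal.span {1 - e i})) M := by
      rw [Ideal.mem_comap]
      have : Ideal.Quotient.mk (Ideal.span {1 - e i}) (1 - e i) = 0 :=
        Ideal.Quotient.eq_zero_iff_mem.mpr (Ideal.subset_span rfl)
      rw [this]; exact Ideal.zero_mem _
    have h2 : e i ∉ Qf j := by
      intro h
      rw [hj] at h1
      have : (1 : B) ∈ Qf j := by
        have := Ideal.add_mem _ h h1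
        simpa using this
      exact (hQmax j).ne_top ((Ideal.eq_top_iff_one _).mpr this)
    have h3 : i = j := by
      by_contra hne
      exact h2 ((hbeta i j).mpr hne)
    rw [hj, h3]
  obtain ⟨M₀, hM₀⟩ := Ideal.exists_maximal (B ⧸ Ideal.span {1 - e i})
  refine IsLocalRing.of_unique_max_ideal ⟨M₀, hM₀, fun M hM => ?_⟩
  apply Ideal.comap_injective_of_surjective (Ideal.Quotient.mk (Ideal.span {1 - e i}))
    Ideal.Quotient.mk_surjective
  rw [hcomap M hM, hcomap M₀ hM₀]

end Decomp

end Groth.Agent.Helper29.SbD
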