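import Mathlib

set_option autoImplicit false
universe u

namespace Groth.Agent.Helper29.SbE

open IsLocalRing

theorem isAdicComplete_of_finite (A : Type u) [CommRing A] [IsLocalRing A] [IsNoetherianRing A]
    [IsAdicComplete (maximalIdeal A) A] (N : Type u) [AddCommGroup N] [Module A N]
    [Module.Finite A N] : IsAdicComplete (maximalIdeal A) N := by
  haveI : IsPrecomplete (maximalIdeal A) N := by
    rw [← AdicCompletion.of_surjective_iff]
    intro z
    obtain ⟨t, rfl⟩ := AdicCompletion.ofTensorProduct_surjective_of_finite (maximalIdeal A) N z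
    induction t using TensorProduct.induction_on with
    | zero => exact ⟨0, by simp⟩
    | tmul r x =>
      obtain ⟨r₀, rfl⟩ := AdicCompletion.of_surjective (maximalIdeal A) A r
      refine ⟨r₀ • x, ?_⟩
      rw [AdicCompletion.ofTensorProduct_tmul]
      ext n
      rw [AdicCompletion.smul_eval]
      simp only [AdicCompletion.of_apply]
      rfl
    | add x y hx hy =>
      obtain ⟨a, ha⟩ := hx
      obtain ⟨b, hb⟩ := hy
      exact ⟨a + b, by rw [map_add, map_add, ha, hb]⟩
  exact { }

theorem isArtinianRing_quot (A B : Type u) [CommRing A] [IsLocalRing A] [IsNoetherianRing A]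
    [CommRing B] [Algebra A B] [Module.Finite A B] :
    IsArtinianRing (B ⧸ (maximalIdeal A).map (algebraMap A B)) := by
  haveI : IsNoetherianRing B := IsNoetherianRing.of_finite A B
  haveI : Algebra.IsIntegral A B := Algebra.IsIntegral.of_finite A B
  rw [isArtinianRing_iff_isNoetherianRing_krullDimLE_zero]
  refine ⟨inferInstance, ?_⟩
  rw [Ring.krullDimLE_zero_iff]
  intro q hq
  set π := Ideal.Quotient.mk ((maximalIdeal A).map (algebraMap A B)) with hπ
  have hsurj : Function.Surjective π := Ideal.Quotient.mk_surjective
  haveI hQp : (Ideal.comap π q).IsPrime := Ideal.comap_isPrime π q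
  have hle : (maximalIdeal A).map (algebraMap A B) ≤ Ideal.comap π q := by
    intro x hx
    rw [Ideal.mem_comap, Ideal.Quotient.eq_zero_iff_mem.mpr hx]
    exact Ideal.zero_mem _
  have hcomap : Ideal.comap (algebraMap A B) (Ideal.comap π q) = maximalIdeal A := by
    have h1 : maximalIdeal A ≤ Ideal.comap (algebraMap A B) (Ideal.comap π q) :=
      Ideal.map_le_iff_le_comap.mp hle
    exact ((maximalIdeal.isMaximal A).eq_of_le (Ideal.comap_ne_top _ hQp.ne_top) h1).symm
  have hQmax : (Ideal.comap π q).IsMaximal :=
    Ideal.isMaximal_of_isIntegral_of_isMaximal_comap (R := A) _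
      (by rw [hcomap]; exact maximalIdeal.isMaximal A)
  have : q = Ideal.map π (Ideal.comap π q) := (Ideal.map_comap_of_surjective π hsurj q).symm
  rw [this]
  rcases Ideal.map_eq_top_or_isMaximal_of_surjective π hsurj hQmax with h | h
  · exfalso
    rw [← this] at h
    exact hq.ne_top h
  · exact h

end Groth.Agent.Helper29.SbE
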