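import Mathlib
import Groth.Agent.Lib.Helper29.SbA
import Groth.Agent.Lib.Helper29.SbB
import Groth.Agent.Lib.Helper29.SbD
import Groth.Agent.Lib.Helper29.SbE

set_option autoImplicit false
universe u
open CategoryTheory CategoryTheory.Limits AlgebraicGeometry IsLocalRing

namespace Groth.Agent.Helper29.SbF

theorem spec_comp {R S T : Type u} [CommRing R] [CommRing S] [CommRing T] (f : R →+* S)
    (g : S →+* T) : Spec.map (CommRingCat.ofHom (g.comp f)) =
      Spec.map (CommRingCat.ofHom g) ≫ Spec.map (CommRingCat.ofHom f) := by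
  rw [CommRingCat.ofHom_comp, Spec.map_comp]

variable (A : Type u) [CommRing A] [IsLocalRing A]
  (B : Type u) [CommRing B] [Algebra A B]
variable {ι : Type u} (e : ι → B)

abbrev Rq (i : ι) : Type u := B ⧸ Ideal.span {1 - e i}
abbrev pq (i : ι) : B →+* Rq B e i := Ideal.Quotient.mk _
abbrev Iq (i : ι) : Ideal (Rq B e i) := (maximalIdeal A).map (algebraMap A (Rq B e i))
abbrev Jn (n : ℕ) : Ideal B := Ideal.map (algebraMap A B) ((maximalIdeal A) ^ n)

theorem Iq_pow (i : ι) (n : ℕ) : (Iq A B e i) ^ n = Ideal.map (pq B e i) (Jn A B n) := by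
  rw [Iq, ← Ideal.map_pow, Jn, Ideal.map_map]
  rfl

theorem hle (i : ι) (n : ℕ) : Jn A B n ≤ Ideal.comap (pq B e i) ((Iq A B e i) ^ n) := by
  rw [Iq_pow, ← Ideal.map_le_iff_le_comap]

/-- The comparison maps on the truncations. -/
noncomputable def psi (i : ι) (n : ℕ) : B ⧸ Jn A B n →+* Rq B e i ⧸ (Iq A B e i) ^ n :=
  Ideal.quotientMap _ (pq B e i) (hle A B e i n)

theorem psi_comp_mk (i : ι) (n : ℕ) :
    (psi A B e i n).comp (Ideal.Quotient.mk (Jn A B n)) =
      (Ideal.Quotient.mk ((Iq A B e i) ^ n)).comp (pq B e i) :=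
  Ideal.quotientMap_comp_mk _

theorem psi_factor (i : ι) (n : ℕ) :
    (Ideal.Quotient.factor (Ideal.pow_le_pow_right (I := Iq A B e i) (Nat.le_succ n))).comp
      (psi A B e i (n + 1)) =
    (psi A B e i n).comp (Ideal.Quotient.factor
      (Ideal.map_mono (Ideal.pow_le_pow_right (I := maximalIdeal A) (Nat.le_succ n)))) := by
  apply Ideal.Quotient.ringHom_ext
  ext b
  rfl

variable [Fintype ι]

theorem psi_bijective (he : CompleteOrthogonalIdempotents e) (n : ℕ) :
    Function.Bijective (RingHom.pi (fun i => psi A B e i n)) := by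
  constructor
  · rw [injective_iff_map_eq_zero]
    intro x hx
    obtain ⟨b, rfl⟩ := Ideal.Quotient.mk_surjective x
    rw [Ideal.Quotient.eq_zero_iff_mem]
    have h1 : ∀ i, e i * b ∈ Jn A B n := by
      intro i
      have h2 : psi A B e i n (Ideal.Quotient.mk (Jn A B n) b) = 0 := congrFun hx i
      have h3 : Ideal.Quotient.mk ((Iq A B e i) ^ n) (pq B e i b) = 0 := h2
      rw [Ideal.Quotient.eq_zero_iff_mem, Iq_pow,
        Ideal.mem_map_iff_of_surjective _ Ideal.Quotient.mk_surjective] at h3
      obtain ⟨c, hc, hcb⟩ := h3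
      have h4 : c - b ∈ Ideal.span {1 - e i} := (Ideal.Quotient.eq).mp hcb
      rw [Ideal.mem_span_singleton'] at h4
      obtain ⟨t, ht⟩ := h4
      have h5 : e i * b = e i * c := by
        have hid := (he.idem i).eq
        have : e i * (c - b) = 0 := by
          rw [← ht]
          linear_combination (-t) * hid
        linear_combination -this
      rw [h5]
      exact Ideal.mul_mem_left _ _ hc
    have h6 : b = ∑ i, e i * b := by
      rw [← Finset.sum_mul, he.complete, one_mul]
    rw [h6]
    exact Ideal.sum_mem _ fun i _ => h1 i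
  · intro y
    have h1 : ∀ i, ∃ r : Rq B e i, Ideal.Quotient.mk ((Iq A B e i) ^ n) r = y i :=
      fun i => Ideal.Quotient.mk_surjective (y i)
    choose r hr using h1
    obtain ⟨b, hb⟩ := he.bijective_pi.2 r
    refine ⟨Ideal.Quotient.mk (Jn A B n) b, ?_⟩
    funext i
    have h2 : pq B e i b = r i := congrFun hb i
    show Ideal.Quotient.mk ((Iq A B e i) ^ n) (pq B e i b) = y i
    rw [h2, hr]

end Groth.Agent.Helper29.SbF
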