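import Mathlib
import Groth.Agent.Lib.Helper29.SbA
import Groth.Agent.Lib.Helper29.SbB
import Groth.Agent.Lib.Helper29.SbD
import Groth.Agent.Lib.Helper29.SbE
import Groth.Agent.Lib.Helper29.SbF

set_option autoImplicit false
universe u
open CategoryTheory CategoryTheory.Limits AlgebraicGeometry IsLocalRing

namespace Groth.Agent.Helper29.SbG

open Groth.Agent.Helper29.SbF

variable (A : Type u) [CommRing A] [IsLocalRing A] [IsNoetherianRing A]
  [IsAdicComplete (maximalIdeal A) A]
  (B : Type u) [CommRing B] [Algebra A B] [Module.Finite A B]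
variable {ι : Type u} [Fintype ι] (e : ι → B) (he : CompleteOrthogonalIdempotents e)
  (hloc : ∀ i, IsLocalRing (B ⧸ Ideal.span {1 - e i}))

include he hloc

theorem Iq_complete (i : ι) : IsAdicComplete (Iq A B e i) (Rq B e i) := by
  haveI : Module.Finite A (Rq B e i) :=
    Module.Finite.of_surjective (Ideal.Quotient.mkₐ A (Ideal.span {1 - e i})).toLinearMap
      (Ideal.Quotient.mkₐ_surjective A _)
  exact (IsAdicComplete.map_algebraMap_iff (S := Rq B e i) (M := Rq B e i)
    (maximalIdeal A)).mpr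
    (Groth.Agent.Helper29.SbE.isAdicComplete_of_finite A (Rq B e i))

theorem Iq_ne_top (i : ι) : Iq A B e i ≠ ⊤ := by
  haveI := hloc i
  haveI := Iq_complete A B e he hloc i
  intro h
  have h1 : Iq A B e i ≤ Ideal.jacobson ⊥ := IsAdicComplete.le_jacobson_bot _
  rw [h, top_le_iff, Ideal.jacobson_eq_top_iff] at h1
  exact bot_ne_top h1

theorem uniq (Y : Scheme.{u}) (f g : Spec (CommRingCat.of B) ⟶ Y)
    (h : ∀ n : ℕ, Spec.map (CommRingCat.ofHom (Ideal.Quotient.mk (Jn A B n))) ≫ f =
      Spec.map (CommRingCat.ofHom (Ideal.Quotient.mk (Jn A B n))) ≫ g) : f = g := by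
  apply Groth.Agent.Helper29.SbA.hom_ext (fun i => Rq B e i) B (fun i => pq B e i) he.bijective_pi
  intro i
  haveI := hloc i
  haveI := Iq_complete A B e he hloc i
  apply Groth.Agent.Helper29.SbB.uniq (Iq A B e i) (Iq_ne_top A B e he hloc i)
  intro n
  rw [← Category.assoc, ← Category.assoc, ← spec_comp, ← psi_comp_mk, spec_comp,
    Category.assoc, Category.assoc, h n]

theorem exist (Y : Scheme.{u})
    (u : (n : ℕ) → (Spec (CommRingCat.of (B ⧸ Jn A B n)) ⟶ Y))
    (hu : ∀ n : ℕ, Spec.map (CommRingCat.ofHom (Ideal.Quotient.factor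
      (Ideal.map_mono (f := algebraMap A B)
        (Ideal.pow_le_pow_right (I := maximalIdeal A) (Nat.le_succ n))))) ≫ u (n + 1) = u n) :
    ∃ F : Spec (CommRingCat.of B) ⟶ Y,
      ∀ n : ℕ, Spec.map (CommRingCat.ofHom (Ideal.Quotient.mk (Jn A B n))) ≫ F = u n := by
  have hex : ∀ i, ∃ fi : Spec (CommRingCat.of (Rq B e i)) ⟶ Y, ∀ n : ℕ,
      Spec.map (CommRingCat.ofHom (Ideal.Quotient.mk ((Iq A B e i) ^ n))) ≫ fi =
        Spec.map (CommRingCat.ofHom (psi A B e i n)) ≫ u n := by
    intro i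
    haveI := hloc i
    haveI := Iq_complete A B e he hloc i
    apply Groth.Agent.Helper29.SbB.exist (Iq A B e i) (Iq_ne_top A B e he hloc i) Y
      (fun n => Spec.map (CommRingCat.ofHom (psi A B e i n)) ≫ u n)
    intro n
    rw [← Category.assoc, ← spec_comp, psi_factor, spec_comp, Category.assoc, hu n]
  choose fi hfi using hex
  obtain ⟨F, hF⟩ := Groth.Agent.Helper29.SbA.exists_desc (fun i => Rq B e i) B
    (fun i => pq B e i) he.bijective_pi fi
  refine ⟨F, fun n => ?_⟩
  apply Groth.Agent.Helper29.SbA.hom_ext (fun i => Rq B e i ⧸ (Iq A B e i) ^ n) (B ⧸ Jn A B n)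
    (fun i => psi A B e i n) (psi_bijective A B e he n)
  intro i
  rw [← Category.assoc, ← spec_comp, psi_comp_mk, spec_comp, Category.assoc, hF i, hfi i n]

end Groth.Agent.Helper29.SbG
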