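import Mathlib
import Groth.Prelude.Def_SchFin

/-!
# Algebra maps between finite products over a well-connected finite ringed poset (helper29)
-/

namespace Groth.Agent.Helper29.SchFinLib

open SchFin

universe u

section alg

variable {R : Type u} [CommRing R]

theorem idem_eq_zero_or_one [ConnectedSpace (PrimeSpectrum R)] {e : R} (he : IsIdempotentElem e) :
    e = 0 ∨ e = 1 := by
  have nil_zero : ∀ {a : R}, IsIdempotentElem a → IsNilpotent a → a = 0 := by
    rintro a ha ⟨n, hn⟩
    have : a ^ (n + 1) = a := ha.pow_succ_eq n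
    rw [← this, pow_succ, hn, zero_mul]
  have hc : IsClopen ((PrimeSpectrum.basicOpen e : TopologicalSpace.Opens (PrimeSpectrum R)) :
      Set (PrimeSpectrum R)) :=
    PrimeSpectrum.isClopen_iff.2 ⟨e, he, rfl⟩
  rcases isClopen_iff.1 hc with h | h
  · left
    apply nil_zero he
    rw [← PrimeSpectrum.basicOpen_eq_bot_iff]
    exact TopologicalSpace.Opens.ext h
  · right
    have h2 : PrimeSpectrum.basicOpen (1 - e) = ⊥ := by
      apply TopologicalSpace.Opens.ext
      have h3 : ((PrimeSpectrum.basicOpen (e * (1 - e)) : TopologicalSpace.Opens (PrimeSpectrum R)) :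
          Set (PrimeSpectrum R)) = ∅ := by
        have : e * (1 - e) = 0 := by rw [mul_sub, mul_one, he.eq, sub_self]
        rw [this, PrimeSpectrum.basicOpen_zero]
        rfl
      rw [PrimeSpectrum.basicOpen_mul, TopologicalSpace.Opens.coe_inf, h, Set.univ_inter] at h3
      exact h3
    have := nil_zero he.one_sub ((PrimeSpectrum.basicOpen_eq_bot_iff _).1 h2)
    exact (sub_eq_zero.1 this).symm

theorem nontrivial_of_connected [ConnectedSpace (PrimeSpectrum R)] : Nontrivial R :=
  (PrimeSpectrum.nonempty_iff_nontrivial).1 inferInstance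

theorem exists_map_of_algHom [ConnectedSpace (PrimeSpectrum R)] {F E : Type} [Finite F]
    (f : (F → R) →ₐ[R] (E → R)) : ∃ φ : E → F, ∀ (g : F → R) (e : E), f g e = g (φ e) := by
  classical
  cases nonempty_fintype F
  have : Nontrivial R := nontrivial_of_connected
  have hc : ∀ (i : F) (e : E), f (Pi.single i 1) e = 0 ∨ f (Pi.single i 1) e = 1 := by
    intro i e
    apply idem_eq_zero_or_one
    have h1 : (Pi.single i (1 : R) : F → R) * Pi.single i 1 = Pi.single i 1 := by
      rw [← Pi.single_mul, mul_one]
    have := congrFun (congrArg f h1) e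
    rw [map_mul, Pi.mul_apply] at this
    exact this
  have horth : ∀ (i j : F) (e : E), i ≠ j → f (Pi.single i 1) e * f (Pi.single j 1) e = 0 := by
    intro i j e hij
    have h1 : (Pi.single i (1 : R) : F → R) * Pi.single j 1 = 0 := by
      ext l
      rw [Pi.mul_apply, Pi.zero_apply]
      by_cases hl : l = i
      · subst hl
        rw [Pi.single_eq_of_ne hij, mul_zero]
      · rw [Pi.single_eq_of_ne hl, zero_mul]
    have := congrFun (congrArg f h1) e
    rw [map_mul, map_zero, Pi.mul_apply, Pi.zero_apply] at this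
    exact this
  have hsum : ∀ e : E, ∑ i, f (Pi.single i 1) e = 1 := by
    intro e
    have h1 : ∑ i, (Pi.single i (1 : R) : F → R) = 1 := by
      ext l
      rw [Finset.sum_apply, Pi.one_apply, Finset.sum_eq_single l]
      · exact Pi.single_eq_same l 1
      · intro j _ hj
        exact Pi.single_eq_of_ne (Ne.symm hj) 1
      · intro h
        exact absurd (Finset.mem_univ _) h
    have := congrFun (congrArg f h1) e
    rw [map_sum, map_one, Finset.sum_apply, Pi.one_apply] at this
    exact this
  have hex : ∀ e : E, ∃ i : F, f (Pi.single i 1) e = 1 := by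
    intro e
    by_contra h
    push Not at h
    have h0 := hsum e
    rw [Finset.sum_eq_zero (fun i _ => (hc i e).resolve_right (h i))] at h0
    exact zero_ne_one h0
  choose φ hφ using hex
  refine ⟨φ, fun g e => ?_⟩
  have hg : g = ∑ i, g i • (Pi.single i 1 : F → R) := by
    ext l
    rw [Finset.sum_apply, Finset.sum_eq_single l]
    · rw [Pi.smul_apply, Pi.single_eq_same, smul_eq_mul, mul_one]
    · intro j _ hj
      rw [Pi.smul_apply, Pi.single_eq_of_ne (Ne.symm hj), smul_zero]
    · intro h
      exact absurd (Finset.mem_univ _) h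
  have hz : ∀ j, j ≠ φ e → f (Pi.single j 1) e = 0 := by
    intro j hj
    have := horth j (φ e) e hj
    rwa [hφ e, mul_one] at this
  conv_lhs => rw [hg]
  rw [map_sum, Finset.sum_apply, Finset.sum_eq_single (φ e)]
  · rw [map_smul, Pi.smul_apply, hφ e, smul_eq_mul, mul_one]
  · intro j _ hj
    rw [map_smul, Pi.smul_apply, hz j hj, smul_zero]
  · intro h
    exact absurd (Finset.mem_univ _) h

end alg

theorem main (X : RSpace.{u}) (hW : X.IsWellConnected) (F E : Type) [Finite F] [Finite E]
    (f : ∀ p : X.pt, (F → X.ring p) →ₐ[X.ring p] (E → X.ring p))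
    (hf : ∀ (p q : X.pt) (h : p ≤ q) (g : F → X.ring p) (e : E),
      X.res h (f p g e) = f q (fun i => X.res h (g i)) e) :
    ∃ φ : E → F, ∀ (p : X.pt) (g : F → X.ring p) (e : E), f p g e = g (φ e) := by
  classical
  obtain ⟨hconn, hpw⟩ := hW
  have hnt : ∀ p : X.pt, Nontrivial (X.ring p) := fun p => by
    have := hpw p
    exact nontrivial_of_connected
  have hloc : ∀ p : X.pt, ∃ φ : E → F, ∀ (g : F → X.ring p) (e : E), f p g e = g (φ e) :=
    fun p => by
      have := hpw p
      exact exists_map_of_algHom (f p)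
  choose ψ hψ using hloc
  have hcomp : ∀ (p q : X.pt), p ≤ q → ψ p = ψ q := by
    intro p q h
    funext e
    have := hf p q h (Pi.single (ψ p e) 1) e
    rw [hψ p, hψ q, Pi.single_eq_same, map_one] at this
    by_contra hne
    rw [Pi.single_eq_of_ne (Ne.symm hne), map_zero] at this
    have := hnt q
    exact one_ne_zero ‹(1 : X.ring q) = 0›
  have hconn' : ConnectedSpace (PrimeSpectrum (X.sectRing Set.univ)) := hconn
  have hne : Nonempty X.pt := by
    by_contra h
    rw [not_nonempty_iff] at h
    have : Nontrivial (X.sectRing Set.univ) := nontrivial_of_connected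
    obtain ⟨a, b, hab⟩ := this
    apply hab
    apply Subtype.ext
    funext q
    exact (h.false q.1).elim
  obtain ⟨p₀⟩ := hne
  refine ⟨ψ p₀, fun p g e => ?_⟩
  rw [hψ p]
  congr 1
  let s : X.sectRing Set.univ := ⟨fun q => if ψ q.1 e = ψ p₀ e then 1 else 0, fun q q' h => by
    show X.res h (if ψ q.1 e = ψ p₀ e then 1 else 0) = if ψ q'.1 e = ψ p₀ e then 1 else 0
    rw [hcomp q.1 q'.1 h]
    split_ifs <;> simp⟩
  have hs : IsIdempotentElem s := by
    apply Subtype.ext
    funext q
    show (if ψ q.1 e = ψ p₀ e then (1 : X.ring q.1) else 0) *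
      (if ψ q.1 e = ψ p₀ e then 1 else 0) = if ψ q.1 e = ψ p₀ e then 1 else 0
    split_ifs <;> simp
  rcases idem_eq_zero_or_one hs with h0 | h1
  · exfalso
    have h2 := congrFun (congrArg Subtype.val h0) ⟨p₀, trivial⟩
    have h3 : (if ψ p₀ e = ψ p₀ e then (1 : X.ring p₀) else 0) = 0 := h2
    rw [if_pos rfl] at h3
    have := hnt p₀
    exact one_ne_zero h3
  · have h2 := congrFun (congrArg Subtype.val h1) ⟨p, trivial⟩
    have h3 : (if ψ p e = ψ p₀ e then (1 : X.ring p) else 0) = 1 := h2
    by_contra hne
    rw [if_neg hne] at h3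
    have := hnt p
    exact zero_ne_one h3

end Groth.Agent.Helper29.SchFinLib
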