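import Mathlib
import Groth.Agent.Lib.Helper29.GrK

/-!
# A homogeneous element acting bijectively on a Segre product module (helper29)
-/

namespace Groth.Agent.Helper29.SegBij

universe u

open scoped TensorProduct
open Groth.Agent.Helper29.GrK

theorem main (k : Type u) [Field k] (R : Type u) [CommRing R] [Algebra k R]
    (𝒜 : ℤ → Submodule k R) [GradedAlgebra 𝒜]
    (S : Type u) [CommRing S] [Algebra k S] (ℬ : ℤ → Submodule k S) [GradedAlgebra ℬ]
    (T : Type u) [CommRing T] [Algebra k T] (𝒯 : ℤ → Submodule k T) [GradedAlgebra 𝒯]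
    (ψ : T →ₐ[k] TensorProduct k R S) (hT : GrSeg.IsSegreRing 𝒜 ℬ 𝒯 ψ)
    (M : Type u) [AddCommGroup M] [Module R M] [Module k M] [IsScalarTower k R M]
    (ℳ : ℤ → AddSubgroup M) [DirectSum.Decomposition ℳ] [SetLike.GradedSMul 𝒜 ℳ]
    (N : Type u) [AddCommGroup N] [Module S N] [Module k N] [IsScalarTower k S N]
    (𝒩 : ℤ → AddSubgroup N) [DirectSum.Decomposition 𝒩] [SetLike.GradedSMul ℬ 𝒩]
    (P : Type u) [AddCommGroup P] [Module T P] [Module k P] [IsScalarTower k T P]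
    (𝒬 : ℤ → AddSubgroup P) [DirectSum.Decomposition 𝒬] (φ : P →ₗ[k] TensorProduct k M N)
    (hP : GrSeg.IsSegreMod ψ ℳ 𝒩 𝒬 φ)
    (d : ℕ) (hd : 0 < d) (f : R) (hf : f ∈ 𝒜 (d : ℤ))
    (hfM : Function.Bijective (fun x : M => f • x))
    (e : ℕ) (he : 0 < e) (g : S) (hg : g ∈ ℬ (e : ℤ))
    (hgN : Function.Bijective (fun y : N => g • y)) :
    ∃ (c : ℤ) (t : T), 0 < c ∧ t ∈ 𝒯 c ∧ Function.Bijective (fun p : P => t • p) := by
  set c : ℤ := (d : ℤ) * (e : ℤ) with hc
  have hcpos : 0 < c := by positivity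
  have hF : f ^ e ∈ 𝒜 c := by
    have := SetLike.pow_mem_graded e hf
    rwa [nsmul_eq_mul, mul_comm] at this
  have hG : g ^ d ∈ ℬ c := by
    have := SetLike.pow_mem_graded d hg
    rwa [nsmul_eq_mul] at this
  have hFM : Function.Bijective (fun x : M => f ^ e • x) := by
    have := hfM.iterate e
    rwa [smul_iterate] at this
  have hGN : Function.Bijective (fun y : N => g ^ d • y) := by
    have := hgN.iterate d
    rwa [smul_iterate] at this
  -- the element t
  have hFG : (f ^ e) ⊗ₜ[k] (g ^ d) ∈ GrSeg.segrePiece k 𝒜 ℬ c :=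
    Submodule.subset_span ⟨_, hF, _, hG, rfl⟩
  rw [← hT.2 c] at hFG
  obtain ⟨t, ht, hψt⟩ := hFG
  have hψt' : ψ t = (f ^ e) ⊗ₜ[k] (g ^ d) := hψt
  refine ⟨c, t, hcpos, ht, ?_⟩
  -- the equivalence Θ
  let eM : M ≃ₗ[k] M := LinearEquiv.ofBijective (Algebra.lsmul k k M (f ^ e)) hFM
  let eN : N ≃ₗ[k] N := LinearEquiv.ofBijective (Algebra.lsmul k k N (g ^ d)) hGN
  let Θ : M ⊗[k] N ≃ₗ[k] M ⊗[k] N := TensorProduct.congr eM eN
  have heM : ∀ x, eM x = f ^ e • x := fun x => rfl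
  have heN : ∀ y, eN y = g ^ d • y := fun y => rfl
  have hΘ : ∀ v, GrSeg.act k R S M N ((f ^ e) ⊗ₜ[k] (g ^ d)) v = Θ v := by
    intro v
    induction v using TensorProduct.induction_on with
    | zero => simp
    | tmul x y => rw [GrSeg.act_tmul, TensorProduct.congr_tmul, heM, heN]
    | add v v' hv hv' => rw [map_add, map_add, hv, hv']
  have hφt : ∀ p : P, φ (t • p) = Θ (φ p) := by
    intro p
    rw [hP.map_smul, hψt', hΘ]
  constructor
  · intro p p' h
    have h' : t • p = t • p' := h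
    apply hP.injective
    apply Θ.injective
    rw [← hφt, ← hφt, h']
  · -- Θ⁻¹ lowers the degree by c
    have hsymm : ∀ (m : ℤ) (v : M ⊗[k] N), v ∈ GrSeg.segrePiece k ℳ 𝒩 m →
        Θ.symm v ∈ GrSeg.segrePiece k ℳ 𝒩 (m - c) := by
      intro m v hv
      refine Submodule.span_induction
        (p := fun v _ => Θ.symm v ∈ GrSeg.segrePiece k ℳ 𝒩 (m - c)) ?_ ?_ ?_ ?_ hv
      · rintro _ ⟨x, hx, y, hy, rfl⟩
        rw [TensorProduct.congr_symm_tmul]
        refine Submodule.subset_span ⟨_, ?_, _, ?_, rfl⟩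
        · apply mem_of_smul_mem 𝒜 ℳ hF hFM.1
          rw [← heM, LinearEquiv.apply_symm_apply]
          rwa [show c + (m - c) = m by ring]
        · apply mem_of_smul_mem ℬ 𝒩 hG hGN.1
          rw [← heN, LinearEquiv.apply_symm_apply]
          rwa [show c + (m - c) = m by ring]
      · rw [map_zero]; exact zero_mem _
      · intro v v' _ _ h h'
        rw [map_add]; exact add_mem h h'
      · intro a v _ h
        rw [map_smul]; exact Submodule.smul_mem _ _ h
    intro q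
    refine DirectSum.Decomposition.inductionOn 𝒬 ?_ ?_ ?_ q
    · exact ⟨0, smul_zero t⟩
    · intro m q
      have hq : φ q ∈ (GrSeg.segrePiece k ℳ 𝒩 m : Set (M ⊗[k] N)) := by
        rw [← hP.image_piece m]
        exact ⟨q, q.2, rfl⟩
      have h2 := hsymm m _ hq
      have h3 : Θ.symm (φ q) ∈ (GrSeg.segrePiece k ℳ 𝒩 (m - c) : Set (M ⊗[k] N)) := h2
      rw [← hP.image_piece (m - c)] at h3
      obtain ⟨p, _, hp⟩ := h3
      refine ⟨p, ?_⟩
      apply hP.injective
      show φ (t • p) = φ q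
      rw [hφt, hp, LinearEquiv.apply_symm_apply]
    · rintro q q' ⟨p, hp⟩ ⟨p', hp'⟩
      refine ⟨p + p', ?_⟩
      show t • (p + p') = q + q'
      rw [smul_add]
      exact congrArg₂ (· + ·) hp hp'

end Groth.Agent.Helper29.SegBij
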