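import Mathlib
import Groth.Agent.Lib.Helper29.GrK

/-!
# Finite generation of Segre product modules (helper29)
-/

namespace Groth.Agent.Helper29.SegFin

universe u

open scoped TensorProduct
open Groth.Agent.Helper29.GrK

section ModB

variable (k : Type u) [Field k] (R S : Type u) [CommRing R] [CommRing S] [Algebra k R] [Algebra k S]
  (M N : Type u) [AddCommGroup M] [Module R M] [Module k M] [IsScalarTower k R M]
  [AddCommGroup N] [Module S N] [Module k N] [IsScalarTower k S N]

/-- The action of `R ⊗ S` on `M ⊗ N` as an algebra map into endomorphisms. -/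
noncomputable def rho : R ⊗[k] S →ₐ[k] Module.End k (M ⊗[k] N) :=
  Algebra.TensorProduct.lift
    ((Module.End.rTensorAlgHom k M N).comp (Algebra.lsmul k k M))
    ((Module.End.lTensorAlgHom k N M).comp (Algebra.lsmul k k N))
    (fun r s => by
      show LinearMap.rTensor N (Algebra.lsmul k k M r) * LinearMap.lTensor M (Algebra.lsmul k k N s) =
        LinearMap.lTensor M (Algebra.lsmul k k N s) * LinearMap.rTensor N (Algebra.lsmul k k M r)
      apply TensorProduct.ext'
      intro x y
      rw [Module.End.mul_apply, Module.End.mul_apply, LinearMap.lTensor_tmul,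
        LinearMap.rTensor_tmul, LinearMap.rTensor_tmul, LinearMap.lTensor_tmul])

theorem rho_tmul_tmul (r : R) (s : S) (x : M) (y : N) :
    rho k R S M N (r ⊗ₜ[k] s) (x ⊗ₜ[k] y) = (r • x) ⊗ₜ[k] (s • y) := by
  unfold rho
  rw [Algebra.TensorProduct.lift_tmul, Module.End.mul_apply]
  show LinearMap.rTensor N (Algebra.lsmul k k M r)
    (LinearMap.lTensor M (Algebra.lsmul k k N s) (x ⊗ₜ[k] y)) = _
  rw [LinearMap.lTensor_tmul, LinearMap.rTensor_tmul]
  rfl

theorem rho_eq_act (w : R ⊗[k] S) (v : M ⊗[k] N) :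
    rho k R S M N w v = GrSeg.act k R S M N w v := by
  induction w using TensorProduct.induction_on with
  | zero => simp
  | tmul r s =>
    induction v using TensorProduct.induction_on with
    | zero => simp
    | tmul x y => rw [rho_tmul_tmul, GrSeg.act_tmul]
    | add v v' hv hv' => rw [map_add, map_add, hv, hv']
  | add w w' hw hw' => rw [map_add, map_add, LinearMap.add_apply, LinearMap.add_apply, hw, hw']

/-- The module structure of `M ⊗ N` over `R ⊗ S`. -/
@[reducible] noncomputable def modB : Module (R ⊗[k] S) (M ⊗[k] N) :=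
  Module.compHom _ (rho k R S M N).toRingHom

attribute [local instance] modB

theorem smul_eq_act (w : R ⊗[k] S) (v : M ⊗[k] N) : w • v = GrSeg.act k R S M N w v :=
  rho_eq_act k R S M N w v

theorem tmul_smul_tmul (r : R) (s : S) (x : M) (y : N) :
    (r ⊗ₜ[k] s) • (x ⊗ₜ[k] y) = (r • x) ⊗ₜ[k] (s • y) := by
  rw [smul_eq_act, GrSeg.act_tmul]

theorem finite_modB [Module.Finite R M] [Module.Finite S N] :
    Module.Finite (R ⊗[k] S) (M ⊗[k] N) := by
  classical
  obtain ⟨sM, hsM⟩ := Module.finite_def.mp (inferInstance : Module.Finite R M)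
  obtain ⟨sN, hsN⟩ := Module.finite_def.mp (inferInstance : Module.Finite S N)
  refine ⟨⟨Finset.image₂ (fun x y => x ⊗ₜ[k] y) sM sN, ?_⟩⟩
  rw [eq_top_iff]
  rintro v -
  induction v using TensorProduct.induction_on with
  | zero => exact zero_mem _
  | add v v' hv hv' => exact add_mem hv hv'
  | tmul x y =>
    have hx : x ∈ Submodule.span R (sM : Set M) := by rw [hsM]; trivial
    have hy : y ∈ Submodule.span S (sN : Set N) := by rw [hsN]; trivial
    refine Submodule.span_induction (p := fun x _ => x ⊗ₜ[k] y ∈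
      Submodule.span (R ⊗[k] S) (↑(Finset.image₂ (fun x y => x ⊗ₜ[k] y) sM sN) : Set (M ⊗[k] N)))
      ?_ ?_ ?_ ?_ hx
    · intro x hx
      refine Submodule.span_induction (p := fun y _ => x ⊗ₜ[k] y ∈
        Submodule.span (R ⊗[k] S) (↑(Finset.image₂ (fun x y => x ⊗ₜ[k] y) sM sN) : Set (M ⊗[k] N)))
        ?_ ?_ ?_ ?_ hy
      · intro y hy
        apply Submodule.subset_span
        rw [Finset.mem_coe, Finset.mem_image₂]
        exact ⟨x, hx, y, hy, rfl⟩
      · rw [TensorProduct.tmul_zero]; exact zero_mem _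
      · intro y y' _ _ h h'
        rw [TensorProduct.tmul_add]; exact add_mem h h'
      · intro s y _ h
        have : x ⊗ₜ[k] (s • y) = ((1 : R) ⊗ₜ[k] s) • (x ⊗ₜ[k] y) := by
          rw [tmul_smul_tmul, one_smul]
        rw [this]
        exact Submodule.smul_mem _ _ h
    · rw [TensorProduct.zero_tmul]; exact zero_mem _
    · intro x x' _ _ h h'
      rw [TensorProduct.add_tmul]; exact add_mem h h'
    · intro r x _ h
      have : (r • x) ⊗ₜ[k] y = (r ⊗ₜ[k] (1 : S)) • (x ⊗ₜ[k] y) := by
        rw [tmul_smul_tmul, one_smul]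
      rw [this]
      exact Submodule.smul_mem _ _ h

theorem smul_def' (w : R ⊗[k] S) (v : M ⊗[k] N) : w • v = rho k R S M N w v := rfl

end ModB

section Main

attribute [local instance] modB

theorem main (k : Type u) [Field k] (R : Type u) [CommRing R] [Algebra k R]
    (𝒜 : ℤ → Submodule k R) [GradedAlgebra 𝒜] [Algebra.FiniteType k R]
    (S : Type u) [CommRing S] [Algebra k S] (ℬ : ℤ → Submodule k S) [GradedAlgebra ℬ]
    [Algebra.FiniteType k S]
    (T : Type u) [CommRing T] [Algebra k T] (𝒯 : ℤ → Submodule k T) [GradedAlgebra 𝒯]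
    (ψ : T →ₐ[k] TensorProduct k R S) (hT : GrSeg.IsSegreRing 𝒜 ℬ 𝒯 ψ)
    (M : Type u) [AddCommGroup M] [Module R M] [Module k M] [IsScalarTower k R M]
    (ℳ : ℤ → AddSubgroup M) [DirectSum.Decomposition ℳ] [SetLike.GradedSMul 𝒜 ℳ]
    [Module.Finite R M]
    (N : Type u) [AddCommGroup N] [Module S N] [Module k N] [IsScalarTower k S N]
    (𝒩 : ℤ → AddSubgroup N) [DirectSum.Decomposition 𝒩] [SetLike.GradedSMul ℬ 𝒩]
    [Module.Finite S N]
    (P : Type u) [AddCommGroup P] [Module T P] [Module k P] [IsScalarTower k T P]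
    (𝒬 : ℤ → AddSubgroup P) [DirectSum.Decomposition 𝒬] (φ : P →ₗ[k] TensorProduct k M N)
    (hP : GrSeg.IsSegreMod ψ ℳ 𝒩 𝒬 φ) : Module.Finite T P := by
  classical
  have hft : Algebra.FiniteType k (R ⊗[k] S) :=
    Algebra.FiniteType.trans (inferInstance : Algebra.FiniteType k R)
      (inferInstance : Algebra.FiniteType R (R ⊗[k] S))
  have hnoeth : IsNoetherianRing (R ⊗[k] S) := Algebra.FiniteType.isNoetherianRing k _
  have hfin : Module.Finite (R ⊗[k] S) (M ⊗[k] N) := finite_modB k R S M N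
  have hnoethE : IsNoetherian (R ⊗[k] S) (M ⊗[k] N) :=
    isNoetherian_of_isNoetherianRing_of_finite _ _
  let H : Set P := {g | ∃ m, g ∈ 𝒬 m}
  have hfg : (Submodule.span (R ⊗[k] S) (φ '' H)).FG := IsNoetherian.noetherian _
  obtain ⟨s', hs'sub, hs'span⟩ := (Submodule.fg_span_iff_fg_span_finset_subset _).mp hfg
  obtain ⟨G, hGH, hGimg⟩ := Finset.subset_set_image_iff.mp hs'sub
  refine ⟨⟨G, ?_⟩⟩
  rw [eq_top_iff]
  rintro p -
  let ρn (n : ℤ) : M ⊗[k] N →ₗ[k] M ⊗[k] N := TensorProduct.map (projL 𝒜 ℳ n) (projL ℬ 𝒩 n)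
  let D (c : ℤ) : R ⊗[k] S →ₗ[k] R ⊗[k] S := TensorProduct.map (projL 𝒜 𝒜 c) (projL ℬ ℬ c)
  have hD : ∀ c w, D c w ∈ GrSeg.segrePiece k 𝒜 ℬ c := by
    intro c w
    induction w using TensorProduct.induction_on with
    | zero => rw [map_zero]; exact zero_mem _
    | tmul r s =>
      rw [TensorProduct.map_tmul]
      exact Submodule.subset_span ⟨_, proj_mem 𝒜 c r, _, proj_mem ℬ c s, rfl⟩
    | add w w' h h' => rw [map_add]; exact add_mem h h'
  have hρfix : ∀ n v, v ∈ GrSeg.segrePiece k ℳ 𝒩 n → ρn n v = v := by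
    intro n v hv
    refine Submodule.span_induction (p := fun v _ => ρn n v = v) ?_ ?_ ?_ ?_ hv
    · rintro _ ⟨x, hx, y, hy, rfl⟩
      rw [TensorProduct.map_tmul, projL_apply, projL_apply, proj_of_mem_same ℳ hx,
        proj_of_mem_same 𝒩 hy]
    · exact map_zero _
    · intro v v' _ _ h h'; rw [map_add, h, h']
    · intro c v _ h; rw [map_smul, h]
  have hKI : ∀ (n m : ℤ) (w : R ⊗[k] S) (v : M ⊗[k] N), v ∈ GrSeg.segrePiece k ℳ 𝒩 m →
      ρn n (rho k R S M N w v) = rho k R S M N (D (n - m) w) v := by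
    intro n m w v hv
    refine Submodule.span_induction
      (p := fun v _ => ρn n (rho k R S M N w v) = rho k R S M N (D (n - m) w) v) ?_ ?_ ?_ ?_ hv
    · rintro _ ⟨x, hx, y, hy, rfl⟩
      induction w using TensorProduct.induction_on with
      | zero => simp
      | tmul r s =>
        rw [rho_tmul_tmul, TensorProduct.map_tmul, TensorProduct.map_tmul, rho_tmul_tmul,
          projL_apply, projL_apply, projL_apply, projL_apply, proj_smul_of_mem 𝒜 ℳ hx,
          proj_smul_of_mem ℬ 𝒩 hy]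
      | add w w' h h' =>
        rw [map_add, LinearMap.add_apply, map_add, h, h', map_add, map_add, LinearMap.add_apply]
    · simp
    · intro v v' _ _ h h'; rw [map_add, map_add, h, h', map_add]
    · intro c v _ h; rw [map_smul, map_smul, h, map_smul]
  have hhom : ∀ (n : ℤ) (p : P), p ∈ 𝒬 n → p ∈ Submodule.span T (G : Set P) := by
    intro n p hp
    have hφp : φ p ∈ GrSeg.segrePiece k ℳ 𝒩 n := by
      have : φ p ∈ φ '' (𝒬 n : Set P) := ⟨p, hp, rfl⟩
      rw [hP.image_piece n] at this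
      exact this
    have h1 : φ p ∈ Submodule.span (R ⊗[k] S) (φ '' H) :=
      Submodule.subset_span ⟨p, ⟨n, hp⟩, rfl⟩
    rw [hs'span, ← hGimg] at h1
    obtain ⟨f, _, hf⟩ := Submodule.mem_span_finset.mp h1
    have h2 : φ p ∈ Submodule.map φ ((Submodule.span T (G : Set P)).restrictScalars k) := by
      rw [← hρfix n _ hφp, ← hf, map_sum]
      refine Submodule.sum_mem _ fun a ha => ?_
      obtain ⟨g, hg, rfl⟩ := Finset.mem_image.mp ha
      obtain ⟨m, hgm⟩ := hGH hg
      have hφg : φ g ∈ GrSeg.segrePiece k ℳ 𝒩 m := by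
        have : φ g ∈ φ '' (𝒬 m : Set P) := ⟨g, hgm, rfl⟩
        rw [hP.image_piece m] at this
        exact this
      rw [smul_def', hKI n m _ _ hφg]
      have h3 := hD (n - m) (f (φ g))
      rw [← hT.2 (n - m)] at h3
      obtain ⟨t, _, hψt⟩ := h3
      have hψt' : ψ t = D (n - m) (f (φ g)) := hψt
      refine ⟨t • g, Submodule.smul_mem _ _ (Submodule.subset_span hg), ?_⟩
      rw [hP.map_smul, hψt', rho_eq_act]
    obtain ⟨q, hq, hqp⟩ := h2
    rw [← hP.injective hqp]
    exact hq
  refine DirectSum.Decomposition.inductionOn 𝒬 ?_ ?_ ?_ p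
  · exact zero_mem _
  · intro n p; exact hhom n p p.2
  · intro p p' h h'; exact add_mem h h'

end Main

end Groth.Agent.Helper29.SegFin
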