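import Mathlib
import Groth.Agent.Lib.Helper29.GrK

/-!
# Generation of a Segre product module (helper29)
-/

namespace Groth.Agent.Helper29.SegGen

universe u

open scoped TensorProduct
open Groth.Agent.Helper29.GrK

theorem main (k : Type u) [Field k] (R : Type u) [CommRing R] [Algebra k R]
    (𝒜 : ℤ → Submodule k R) [GradedAlgebra 𝒜]
    (S : Type u) [CommRing S] [Algebra k S] (ℬ : ℤ → Submodule k S) [GradedAlgebra ℬ]
    (T : Type u) [CommRing T] [Algebra k T] (𝒯 : ℤ → Submodule k T) [GradedAlgebra 𝒯]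
    (ψ : T →ₐ[k] TensorProduct k R S) (hT : GrSeg.IsSegreRing 𝒜 ℬ 𝒯 ψ)
    (M : Type u) [AddCommGroup M] [Module R M] [Module k M] [IsScalarTower k R M]
    (ℳ : ℤ → AddSubgroup M) [DirectSum.Decomposition ℳ] [SetLike.GradedSMul 𝒜 ℳ]
    (N : Type u) [AddCommGroup N] [Module S N] [Module k N] [IsScalarTower k S N]
    (𝒩 : ℤ → AddSubgroup N) [DirectSum.Decomposition 𝒩] [SetLike.GradedSMul ℬ 𝒩]
    (P : Type u) [AddCommGroup P] [Module T P] [Module k P] [IsScalarTower k T P]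
    (𝒬 : ℤ → AddSubgroup P) [DirectSum.Decomposition 𝒬] (φ : P →ₗ[k] TensorProduct k M N)
    (hP : GrSeg.IsSegreMod ψ ℳ 𝒩 𝒬 φ) (n : ℤ) (hNn : ∀ m : ℤ, n ≤ m → 𝒩 m ≠ ⊥)
    (x : M) (hx : x ∈ ℳ n) (y : N) (hy : y ∈ 𝒩 n) (p : P) (hp : φ p = x ⊗ₜ[k] y)
    (hgen : Submodule.span T {p} = ⊤) (d : ℤ) (hd : 0 ≤ d) (z : M) (hz : z ∈ ℳ (n + d)) :
    ∃ r ∈ 𝒜 d, r • x = z := by
  -- a nonzero element of `N_{n+d}`
  obtain ⟨⟨y', hy'mem⟩, hy'ne⟩ := (AddSubgroup.ne_bot_iff_exists_ne_zero).mp (hNn (n + d) (by omega))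
  have hy'0 : y' ≠ 0 := fun h => hy'ne (Subtype.ext h)
  obtain ⟨lam', hlam'⟩ := LinearMap.exists_leftInverse_of_injective
    (LinearMap.toSpanSingleton k N y') (LinearMap.ker_toSpanSingleton k hy'0)
  have hlam'1 : lam' y' = 1 := by
    have := LinearMap.congr_fun hlam' 1
    simpa using this
  let lam : N →ₗ[k] k := lam' ∘ₗ projL ℬ 𝒩 (n + d)
  have hlam_y' : lam y' = 1 := by
    show lam' (proj 𝒩 (n + d) y') = 1
    rw [proj_of_mem_same 𝒩 hy'mem, hlam'1]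
  have hlam_ne : ∀ {i : ℤ} {v : N}, v ∈ 𝒩 i → i ≠ n + d → lam v = 0 := by
    intro i v hv hi
    show lam' (proj 𝒩 (n + d) v) = 0
    rw [proj_of_mem_ne 𝒩 hv hi, map_zero]
  let μy : S →ₗ[k] N := (LinearMap.toSpanSingleton S N y).restrictScalars k
  let Lam : R ⊗[k] S →ₗ[k] R :=
    (TensorProduct.rid k R).toLinearMap ∘ₗ TensorProduct.map LinearMap.id (lam ∘ₗ μy)
  let Xi : M ⊗[k] N →ₗ[k] M :=
    (TensorProduct.rid k M).toLinearMap ∘ₗ TensorProduct.map LinearMap.id lam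
  have hLam : ∀ (a : R) (b : S), Lam (a ⊗ₜ[k] b) = lam (b • y) • a := by
    intro a b
    simp [Lam, μy]
  have hXi : ∀ (m : M) (v : N), Xi (m ⊗ₜ[k] v) = lam v • m := by
    intro m v
    simp [Xi]
  have hkey : ∀ w : R ⊗[k] S, Xi (GrSeg.act k R S M N w (x ⊗ₜ[k] y)) = Lam w • x := by
    intro w
    induction w using TensorProduct.induction_on with
    | zero => simp
    | tmul a b => rw [GrSeg.act_tmul, hXi, hLam, smul_assoc]
    | add w w' hw hw' => rw [map_add, LinearMap.add_apply, map_add, hw, hw', map_add, add_smul]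
  have hpiece : ∀ (c : ℤ) (w : R ⊗[k] S), w ∈ GrSeg.segrePiece k 𝒜 ℬ c → Lam w ∈ 𝒜 d := by
    intro c w hw
    refine Submodule.span_induction (p := fun w _ => Lam w ∈ 𝒜 d) ?_ ?_ ?_ ?_ hw
    · rintro _ ⟨a, ha, b, hb, rfl⟩
      rw [hLam]
      by_cases hc : c = d
      · subst hc
        exact Submodule.smul_mem _ _ ha
      · have h1 : b • y ∈ 𝒩 (c + n) := smul_mem ℬ 𝒩 hb hy
        rw [hlam_ne h1 (by omega), zero_smul]
        exact zero_mem _
    · rw [map_zero]; exact zero_mem _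
    · intro w w' _ _ h h'
      rw [map_add]; exact add_mem h h'
    · intro c' w _ h
      rw [map_smul]; exact Submodule.smul_mem _ _ h
  have hall : ∀ t : T, Lam (ψ t) ∈ 𝒜 d := by
    intro t
    refine DirectSum.Decomposition.inductionOn 𝒯 ?_ ?_ ?_ t
    · rw [map_zero, map_zero]; exact zero_mem _
    · intro c t
      apply hpiece c
      rw [← hT.2 c]
      exact Submodule.mem_map_of_mem t.2
    · intro t t' h h'
      rw [map_add, map_add]; exact add_mem h h'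
  -- the element `z ⊗ y'`
  have hzy : z ⊗ₜ[k] y' ∈ (GrSeg.segrePiece k ℳ 𝒩 (n + d) : Set (M ⊗[k] N)) :=
    Submodule.subset_span ⟨z, hz, y', hy'mem, rfl⟩
  rw [← hP.image_piece (n + d)] at hzy
  obtain ⟨q, _, hq⟩ := hzy
  have hqmem : q ∈ Submodule.span T {p} := by rw [hgen]; trivial
  obtain ⟨t, rfl⟩ := Submodule.mem_span_singleton.mp hqmem
  refine ⟨Lam (ψ t), hall t, ?_⟩
  rw [← hkey, ← hp, ← hP.map_smul, hq, hXi, hlam_y', one_smul]

end Groth.Agent.Helper29.SegGen
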