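import Mathlib
import Groth.Agent.Lib.Helper29.GrK

/-!
# Number of generators of a Segre product of shifted rings (helper29)
-/

namespace Groth.Agent.Helper29.SegNu

universe u

open scoped TensorProduct
open Groth.Agent.Helper29.GrK

section Std

variable {k : Type u} [Field k] {R : Type u} [CommRing R] [Algebra k R]
  (𝒜 : ℤ → Submodule k R) [GradedAlgebra 𝒜]

theorem mem_span_mul_of_std
    (hstd : Ideal.span (⋃ n ∈ Set.Ioi (0 : ℤ), (𝒜 n : Set R)) =
      Ideal.span ((𝒜 1 : Submodule k R) : Set R))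
    {N : ℤ} (hN : 0 < N) {x : R} (hx : x ∈ 𝒜 N) :
    x ∈ Submodule.span k {z : R | ∃ a ∈ 𝒜 1, ∃ w ∈ 𝒜 (N - 1), z = a * w} := by
  have hx1 : x ∈ Ideal.span ((𝒜 1 : Submodule k R) : Set R) := by
    rw [← hstd]
    apply Ideal.subset_span
    simp only [Set.mem_iUnion]
    exact ⟨N, hN, hx⟩
  obtain ⟨f, t, ht, _, hsum⟩ := Submodule.mem_span_iff_exists_finset_subset.mp hx1
  have hxp : x = proj 𝒜 N x := (proj_of_mem_same 𝒜 hx).symm
  rw [hxp, ← hsum]
  rw [show proj 𝒜 N (∑ a ∈ t, f a • a) = ∑ a ∈ t, proj 𝒜 N (f a • a) from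
    map_sum (projL 𝒜 𝒜 N) _ _]
  refine Submodule.sum_mem _ fun a ha => ?_
  have ha1 : a ∈ 𝒜 1 := ht ha
  have h := proj_smul 𝒜 𝒜 ha1 (N - 1) (f a)
  rw [show (1 : ℤ) + (N - 1) = N by ring, smul_eq_mul, mul_comm, smul_eq_mul] at h
  rw [smul_eq_mul, h]
  exact Submodule.subset_span ⟨a, ha1, _, proj_mem 𝒜 (N - 1) (f a), rfl⟩

theorem le_span_mul
    (hstd : Ideal.span (⋃ n ∈ Set.Ioi (0 : ℤ), (𝒜 n : Set R)) =
      Ideal.span ((𝒜 1 : Submodule k R) : Set R))
    (m : ℕ) {j : ℤ} (hj : 0 ≤ j) :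
    (𝒜 ((m : ℤ) + j) : Submodule k R) ≤
      Submodule.span k {z : R | ∃ u ∈ 𝒜 (m : ℤ), ∃ v ∈ 𝒜 j, z = u * v} := by
  induction m with
  | zero =>
    intro x hx
    rw [Nat.cast_zero, zero_add] at hx
    exact Submodule.subset_span ⟨1, SetLike.one_mem_graded 𝒜, x, hx, (one_mul x).symm⟩
  | succ m ih =>
    intro x hx
    have hN : 0 < ((m + 1 : ℕ) : ℤ) + j := by positivity
    have h1 := mem_span_mul_of_std 𝒜 hstd hN hx
    refine Submodule.span_le.mpr ?_ h1
    rintro _ ⟨a, ha, w, hw, rfl⟩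
    have hw' : w ∈ 𝒜 ((m : ℤ) + j) := by
      have e : ((m + 1 : ℕ) : ℤ) + j - 1 = (m : ℤ) + j := by push_cast; ring
      rwa [e] at hw
    have h2 := ih hw'
    refine Submodule.span_induction
      (p := fun w _ => a * w ∈ Submodule.span k
        {z : R | ∃ u ∈ 𝒜 ((m + 1 : ℕ) : ℤ), ∃ v ∈ 𝒜 j, z = u * v}) ?_ ?_ ?_ ?_ h2
    · rintro _ ⟨u, hu, v, hv, rfl⟩
      refine Submodule.subset_span ⟨a * u, ?_, v, hv, (mul_assoc a u v).symm⟩
      have := SetLike.mul_mem_graded ha hu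
      have e : (1 : ℤ) + (m : ℤ) = ((m + 1 : ℕ) : ℤ) := by push_cast; ring
      rwa [e] at this
    · rw [mul_zero]; exact zero_mem _
    · intro w w' _ _ h h'
      rw [mul_add]; exact add_mem h h'
    · intro c w _ h
      rw [mul_smul_comm]; exact Submodule.smul_mem _ _ h

end Std

theorem main (k : Type u) [Field k] (R : Type u) [CommRing R] [Algebra k R]
    (𝒜 : ℤ → Submodule k R) [GradedAlgebra 𝒜]
    (S : Type u) [CommRing S] [Algebra k S] (ℬ : ℤ → Submodule k S) [GradedAlgebra ℬ]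
    (hposS : ∀ n : ℤ, n < 0 → ℬ n = ⊥) (h0S : ℬ 0 = Submodule.span k {(1 : S)})
    (T : Type u) [CommRing T] [Algebra k T] (𝒯 : ℤ → Submodule k T) [GradedAlgebra 𝒯]
    (ψ : T →ₐ[k] TensorProduct k R S) (hT : GrSeg.IsSegreRing 𝒜 ℬ 𝒯 ψ)
    (hstdR : Ideal.span (⋃ n ∈ Set.Ioi (0 : ℤ), (𝒜 n : Set R)) =
      Ideal.span ((𝒜 1 : Submodule k R) : Set R))
    (hs1 : 1 ≤ ringKrullDim S)
    (mT : HomogeneousIdeal 𝒯)
    (hmT : mT.toIdeal = Ideal.span (⋃ n ∈ Set.Ioi (0 : ℤ), (𝒯 n : Set T)))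
    (a b : ℤ) (hab : b ≤ a)
    (P : Type u) [AddCommGroup P] [Module T P] [Module k P] [IsScalarTower k T P]
    (𝒬 : ℤ → AddSubgroup P) [DirectSum.Decomposition 𝒬] (φ : P →ₗ[k] TensorProduct k R S)
    (hP : GrSeg.IsSegreMod ψ (fun n : ℤ => 𝒜 (n + a)) (fun n : ℤ => ℬ (n + b)) 𝒬 φ) :
    Module.finrank k (P ⧸ (mT.toIdeal • (⊤ : Submodule T P))) =
      Module.finrank k (𝒜 (a - b)) := by
  classical
  rw [show a - b = -b + a by ring]
  have hSnt : Nontrivial S := by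
    by_contra h
    rw [not_nontrivial_iff_subsingleton] at h
    rw [ringKrullDim_eq_bot_of_subsingleton] at hs1
    simp at hs1
  -- pieces are respected by `act`
  have hact : ∀ (c n : ℤ) (w v : R ⊗[k] S), w ∈ GrSeg.segrePiece k 𝒜 ℬ c →
      v ∈ GrSeg.segrePiece k (fun n : ℤ => 𝒜 (n + a)) (fun n : ℤ => ℬ (n + b)) n →
      GrSeg.act k R S R S w v ∈
        GrSeg.segrePiece k (fun n : ℤ => 𝒜 (n + a)) (fun n : ℤ => ℬ (n + b)) (c + n) := by
    intro c n w v hw hv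
    refine Submodule.span_induction (p := fun w _ => GrSeg.act k R S R S w v ∈
      GrSeg.segrePiece k (fun n : ℤ => 𝒜 (n + a)) (fun n : ℤ => ℬ (n + b)) (c + n))
      ?_ ?_ ?_ ?_ hw
    · rintro _ ⟨u, hu, s, hs, rfl⟩
      refine Submodule.span_induction (p := fun v _ => GrSeg.act k R S R S (u ⊗ₜ[k] s) v ∈
        GrSeg.segrePiece k (fun n : ℤ => 𝒜 (n + a)) (fun n : ℤ => ℬ (n + b)) (c + n))
        ?_ ?_ ?_ ?_ hv
      · rintro _ ⟨x, hx, y, hy, rfl⟩
        rw [GrSeg.act_tmul]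
        refine Submodule.subset_span ⟨_, ?_, _, ?_, rfl⟩
        · have h := SetLike.mul_mem_graded hu hx
          show u * x ∈ 𝒜 (c + n + a)
          rwa [show c + n + a = c + (n + a) by ring]
        · have h := SetLike.mul_mem_graded hs hy
          show s * y ∈ ℬ (c + n + b)
          rwa [show c + n + b = c + (n + b) by ring]
      · rw [map_zero]; exact zero_mem _
      · intro v v' _ _ h h'
        rw [map_add]; exact add_mem h h'
      · intro c' v _ h
        rw [map_smul]; exact Submodule.smul_mem _ _ h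
    · rw [map_zero, LinearMap.zero_apply]; exact zero_mem _
    · intro w w' _ _ h h'
      rw [map_add, LinearMap.add_apply]; exact add_mem h h'
    · intro c' w _ h
      rw [map_smul, LinearMap.smul_apply]; exact Submodule.smul_mem _ _ h
  have hφmem : ∀ {n : ℤ} {q : P}, q ∈ 𝒬 n →
      φ q ∈ GrSeg.segrePiece k (fun n : ℤ => 𝒜 (n + a)) (fun n : ℤ => ℬ (n + b)) n := by
    intro n q hq
    have : φ q ∈ (φ '' (𝒬 n : Set P)) := ⟨q, hq, rfl⟩
    rw [hP.image_piece n] at this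
    exact this
  have hφex : ∀ {n : ℤ} {v : R ⊗[k] S},
      v ∈ GrSeg.segrePiece k (fun n : ℤ => 𝒜 (n + a)) (fun n : ℤ => ℬ (n + b)) n →
      ∃ q ∈ 𝒬 n, φ q = v := by
    intro n v hv
    have : v ∈ (φ '' (𝒬 n : Set P)) := by rw [hP.image_piece n]; exact hv
    obtain ⟨q, hq, rfl⟩ := this
    exact ⟨q, hq, rfl⟩
  have hgs : SetLike.GradedSMul 𝒯 𝒬 := ⟨by
    intro c n t q ht hq
    have h1 : ψ t ∈ GrSeg.segrePiece k 𝒜 ℬ c := by
      rw [← hT.2 c]; exact Submodule.mem_map_of_mem ht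
    have h2 := hact c n _ _ h1 (hφmem hq)
    rw [← hP.map_smul] at h2
    obtain ⟨q', hq', hqq⟩ := hφex h2
    rw [vadd_eq_add, ← hP.injective hqq]
    exact hq'⟩
  -- (A) low degrees vanish
  have hA : ∀ {n : ℤ} {q : P}, n < -b → q ∈ 𝒬 n → q = 0 := by
    intro n q hn hq
    have h1 := hφmem hq
    have h2 : GrSeg.segrePiece k (fun n : ℤ => 𝒜 (n + a)) (fun n : ℤ => ℬ (n + b)) n = ⊥ := by
      rw [eq_bot_iff]
      refine Submodule.span_le.mpr ?_
      rintro _ ⟨x, _, y, hy, rfl⟩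
      have hy' : y ∈ ℬ (n + b) := hy
      rw [hposS (n + b) (by omega), Submodule.mem_bot] at hy'
      rw [hy', TensorProduct.tmul_zero]
      exact zero_mem _
    rw [h2, Submodule.mem_bot] at h1
    exact hP.injective (h1.trans (map_zero φ).symm)
  -- the ideal and the submodule W
  set W : Submodule T P := mT.toIdeal • (⊤ : Submodule T P) with hW
  have hmem_mT : ∀ {c : ℤ} {t : T}, 0 < c → t ∈ 𝒯 c → t ∈ mT.toIdeal := by
    intro c t hc ht
    rw [hmT]
    apply Ideal.subset_span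
    simp only [Set.mem_iUnion]
    exact ⟨c, hc, ht⟩
  -- (B) high degrees lie in W
  have hB : ∀ {n : ℤ} {q : P}, -b < n → q ∈ 𝒬 n → q ∈ W := by
    intro n q hn hq
    have hle : GrSeg.segrePiece k (fun n : ℤ => 𝒜 (n + a)) (fun n : ℤ => ℬ (n + b)) n ≤
        Submodule.map φ (W.restrictScalars k) := by
      refine Submodule.span_le.mpr ?_
      rintro _ ⟨x, hx, y, hy, rfl⟩
      have hx' : x ∈ 𝒜 (n + a) := hx
      have hy' : y ∈ ℬ (n + b) := hy
      obtain ⟨m, hm⟩ : ∃ m : ℕ, (m : ℤ) = n + b := ⟨(n + b).toNat, Int.toNat_of_nonneg (by omega)⟩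
      have hmpos : (0 : ℤ) < m := by omega
      have hx'' : x ∈ 𝒜 ((m : ℤ) + (-b + a)) := by
        rwa [show (m : ℤ) + (-b + a) = n + a by omega]
      have hsp := SegNu.le_span_mul 𝒜 hstdR m (show (0 : ℤ) ≤ -b + a by omega) hx''
      refine Submodule.span_induction (p := fun x _ => x ⊗ₜ[k] y ∈
        Submodule.map φ (W.restrictScalars k)) ?_ ?_ ?_ ?_ hsp
      · rintro _ ⟨u, hu, v, hv, rfl⟩
        have h1 : u ⊗ₜ[k] y ∈ GrSeg.segrePiece k 𝒜 ℬ (m : ℤ) :=
          Submodule.subset_span ⟨u, hu, y, by rw [hm]; exact hy', rfl⟩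
        rw [← hT.2 (m : ℤ)] at h1
        obtain ⟨t, ht, hψt⟩ := h1
        have h2 : v ⊗ₜ[k] (1 : S) ∈
            GrSeg.segrePiece k (fun n : ℤ => 𝒜 (n + a)) (fun n : ℤ => ℬ (n + b)) (-b) :=
          Submodule.subset_span ⟨v, hv, 1, by
            show (1 : S) ∈ ℬ (-b + b)
            rw [neg_add_cancel]; exact SetLike.one_mem_graded ℬ, rfl⟩
        obtain ⟨q0, _, hq0⟩ := hφex h2
        refine ⟨t • q0, ?_, ?_⟩
        · exact Submodule.smul_mem_smul (hmem_mT hmpos ht) Submodule.mem_top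
        · have hψt' : ψ t = u ⊗ₜ[k] y := hψt
          rw [hP.map_smul, hq0, hψt', GrSeg.act_tmul, smul_eq_mul, smul_eq_mul, mul_one]
      · rw [TensorProduct.zero_tmul]; exact zero_mem _
      · intro x x' _ _ h h'
        rw [TensorProduct.add_tmul]; exact add_mem h h'
      · intro c x _ h
        rw [← TensorProduct.smul_tmul']; exact Submodule.smul_mem _ _ h
    obtain ⟨w, hw, hwq⟩ := hle (hφmem hq)
    rw [← hP.injective hwq]
    exact hw
  -- the functional on S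
  obtain ⟨e0, he0⟩ := LinearMap.exists_leftInverse_of_injective
    (LinearMap.toSpanSingleton k S (1 : S)) (LinearMap.ker_toSpanSingleton k one_ne_zero)
  have he01 : e0 1 = 1 := by
    have := LinearMap.congr_fun he0 1
    simpa using this
  let εS : S →ₗ[k] k := e0 ∘ₗ projL ℬ ℬ 0
  have hεS1 : εS 1 = 1 := by
    show e0 (proj ℬ 0 1) = 1
    rw [proj_of_mem_same ℬ (SetLike.one_mem_graded ℬ), he01]
  let ε : R ⊗[k] S →ₗ[k] R :=
    (TensorProduct.rid k R).toLinearMap ∘ₗ TensorProduct.map LinearMap.id εS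
  have hε : ∀ (x : R) (y : S), ε (x ⊗ₜ[k] y) = εS y • x := by
    intro x y
    simp [ε]
  -- elements of the bottom piece
  have hbot : ∀ v : R ⊗[k] S,
      v ∈ GrSeg.segrePiece k (fun n : ℤ => 𝒜 (n + a)) (fun n : ℤ => ℬ (n + b)) (-b) →
      ε v ∈ 𝒜 (-b + a) ∧ v = ε v ⊗ₜ[k] (1 : S) := by
    intro v hv
    refine Submodule.span_induction (p := fun v _ => ε v ∈ 𝒜 (-b + a) ∧ v = ε v ⊗ₜ[k] (1 : S))
      ?_ ?_ ?_ ?_ hv
    · rintro _ ⟨x, hx, y, hy, rfl⟩
      have hx' : x ∈ 𝒜 (-b + a) := hx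
      have hy' : y ∈ ℬ (-b + b) := hy
      rw [neg_add_cancel, h0S, Submodule.mem_span_singleton] at hy'
      obtain ⟨c, rfl⟩ := hy'
      rw [hε, map_smul, hεS1, smul_eq_mul, mul_one]
      exact ⟨Submodule.smul_mem _ _ hx', (TensorProduct.smul_tmul c x 1).symm⟩
    · rw [map_zero, TensorProduct.zero_tmul]; exact ⟨zero_mem _, rfl⟩
    · rintro v v' _ _ ⟨h1, h2⟩ ⟨h1', h2'⟩
      rw [map_add, TensorProduct.add_tmul]
      exact ⟨add_mem h1 h1', congrArg₂ (· + ·) h2 h2'⟩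
    · rintro c v _ ⟨h1, h2⟩
      rw [map_smul, ← TensorProduct.smul_tmul']
      exact ⟨Submodule.smul_mem _ _ h1, congrArg (c • ·) h2⟩
  let Φ : P →ₗ[k] R := ε ∘ₗ φ ∘ₗ projL 𝒯 𝒬 (-b)
  have hΦ : ∀ q, Φ q = ε (φ (proj 𝒬 (-b) q)) := fun q => rfl
  -- kernel
  have hker : LinearMap.ker Φ = W.restrictScalars k := by
    apply le_antisymm
    · intro q hq
      rw [LinearMap.mem_ker, hΦ] at hq
      have h1 := hbot _ (hφmem (proj_mem 𝒬 (-b) q))
      rw [hq, TensorProduct.zero_tmul] at h1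
      have h2 : proj 𝒬 (-b) q = 0 := hP.injective (h1.2.trans (map_zero φ).symm)
      obtain ⟨s, hs⟩ := sum_proj 𝒬 q
      show q ∈ W
      rw [hs]
      refine Submodule.sum_mem _ fun i _ => ?_
      rcases lt_trichotomy i (-b) with hi | hi | hi
      · rw [hA hi (proj_mem 𝒬 i q)]; exact zero_mem _
      · rw [hi, h2]; exact zero_mem _
      · exact hB hi (proj_mem 𝒬 i q)
    · intro w hw
      have hw' : w ∈ W := hw
      rw [LinearMap.mem_ker]
      have hrall : ∀ r ∈ mT.toIdeal, ∀ q : P, proj 𝒬 (-b) (r • q) = 0 := by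
        intro r hr
        rw [hmT] at hr
        refine Submodule.span_induction
          (p := fun r _ => ∀ q : P, proj 𝒬 (-b) (r • q) = 0) ?_ ?_ ?_ ?_ hr
        · intro r hr q
          simp only [Set.mem_iUnion] at hr
          obtain ⟨c, hc, hrc⟩ := hr
          have hc' : (0 : ℤ) < c := hc
          have h := proj_smul 𝒯 𝒬 hrc (-b - c) q
          rw [show c + (-b - c) = -b by ring] at h
          rw [h, hA (show -b - c < -b by omega) (proj_mem 𝒬 (-b - c) q), smul_zero]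
        · intro q; rw [zero_smul, proj_zero]
        · intro r r' _ _ h h' q
          rw [add_smul, proj_add, h, h', add_zero]
        · intro s r _ h q
          rw [smul_eq_mul, mul_comm, mul_smul]
          exact h (s • q)
      refine Submodule.smul_induction_on hw' ?_ ?_
      · intro r hr q _
        rw [hΦ, hrall r hr q, map_zero, map_zero]
      · intro x y hx hy
        rw [map_add, hx, hy, add_zero]
  have hrange : LinearMap.range Φ = 𝒜 (-b + a) := by
    apply le_antisymm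
    · rintro _ ⟨q, rfl⟩
      rw [hΦ]
      exact (hbot _ (hφmem (proj_mem 𝒬 (-b) q))).1
    · intro x hx
      have h2 : x ⊗ₜ[k] (1 : S) ∈
          GrSeg.segrePiece k (fun n : ℤ => 𝒜 (n + a)) (fun n : ℤ => ℬ (n + b)) (-b) :=
        Submodule.subset_span ⟨x, hx, 1, by
          show (1 : S) ∈ ℬ (-b + b)
          rw [neg_add_cancel]; exact SetLike.one_mem_graded ℬ, rfl⟩
      obtain ⟨q, hq, hφq⟩ := hφex h2
      refine ⟨q, ?_⟩
      rw [hΦ, proj_of_mem_same 𝒬 hq, hφq, hε, hεS1, one_smul]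
  have e1 := (Submodule.Quotient.restrictScalarsEquiv k W).finrank_eq
  have e2 := (Submodule.quotEquivOfEq _ _ hker).finrank_eq
  have e3 := Φ.quotKerEquivRange.finrank_eq
  have e4 := (LinearEquiv.ofEq _ _ hrange).finrank_eq
  rw [← e1, ← e2, e3, e4]

end Groth.Agent.Helper29.SegNu
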