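import Mathlib

set_option autoImplicit false

namespace Groth.Agent.Helper29.SemiStA

/-- layer cake identity -/
theorem layer (K : ℕ) (m : ℤ) :
    ∑ u ∈ Finset.range K, ((if m ≤ -((u : ℤ) + 1) then (1 : ℤ) else 0) + (if m ≤ (u : ℤ) then 1 else 0))
      = K - max (-(K : ℤ)) (min m K) := by
  induction K with
  | zero => simp
  | succ K ih =>
    rw [Finset.sum_range_succ, ih]
    push_cast
    split_ifs <;> omega

theorem layer' (K : ℕ) (m : ℤ) (h1 : -(K : ℤ) ≤ m) (h2 : m ≤ K) :
    ∑ u ∈ Finset.range K, ((if m ≤ -((u : ℤ) + 1) then (1 : ℤ) else 0) + (if m ≤ (u : ℤ) then 1 else 0))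
      = K - m := by
  rw [layer]; omega

section numeric

variable {ι : Type*} [Fintype ι] (D m : ι → ℤ)

/-- the counting function -/
def L (t : ℤ) : ℤ := ∑ i, if m i ≤ t then D i else 0

theorem L_nonneg (hD : ∀ i, 0 ≤ D i) (t : ℤ) : 0 ≤ L D m t :=
  Finset.sum_nonneg (fun i _ => by split_ifs; exacts [hD i, le_refl 0])

theorem L_le (hD : ∀ i, 0 ≤ D i) (t : ℤ) : L D m t ≤ ∑ i, D i :=
  Finset.sum_le_sum (fun i _ => by split_ifs; exacts [le_refl _, hD i])

theorem L_eq_of_bound (t : ℤ) (h : ∀ i, m i ≤ t) : L D m t = ∑ i, D i :=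
  Finset.sum_congr rfl (fun i _ => by rw [if_pos (h i)])

theorem le_L (hD : ∀ i, 0 ≤ D i) (t : ℤ) (i : ι) (hi : m i ≤ t) : D i ≤ L D m t := by
  unfold L
  have : D i = if m i ≤ t then D i else 0 := by rw [if_pos hi]
  rw [this]
  exact Finset.single_le_sum (f := fun j => if m j ≤ t then D j else 0)
    (fun j _ => by split_ifs; exacts [hD j, le_refl 0]) (Finset.mem_univ i)

/-- the sum of the weights through the counting function -/
theorem weight_sum (K : ℕ) (hK : ∀ i, -(K : ℤ) ≤ m i ∧ m i ≤ K) :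
    ∑ i, m i * D i = K * ∑ i, D i - ∑ u ∈ Finset.range K, (L D m (-((u : ℤ) + 1)) + L D m u) := by
  have h1 : ∀ i, m i * D i = K * D i -
      ∑ u ∈ Finset.range K, ((if m i ≤ -((u : ℤ) + 1) then D i else 0) +
        (if m i ≤ (u : ℤ) then D i else 0)) := by
    intro i
    have h2 := layer' K (m i) (hK i).1 (hK i).2
    have h3 : ∑ u ∈ Finset.range K, ((if m i ≤ -((u : ℤ) + 1) then D i else 0) +
        (if m i ≤ (u : ℤ) then D i else 0)) =
        (∑ u ∈ Finset.range K, ((if m i ≤ -((u : ℤ) + 1) then (1 : ℤ) else 0) +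
        (if m i ≤ (u : ℤ) then 1 else 0))) * D i := by
      rw [Finset.sum_mul]
      refine Finset.sum_congr rfl (fun u _ => ?_)
      split_ifs <;> ring
    rw [h3, h2]; ring
  rw [Finset.sum_congr rfl (fun i _ => h1 i), Finset.sum_sub_distrib, ← Finset.mul_sum,
    Finset.sum_comm]
  congr 1
  refine Finset.sum_congr rfl (fun u _ => ?_)
  unfold L
  rw [← Finset.sum_add_distrib]

/-- stable numeric core -/
theorem num_stable (hD : ∀ i, 0 ≤ D i) (hsum : ∑ i, m i * D i = 0)
    (key : ∀ u : ℤ, 1 ≤ u → L D m (-u) + L D m (u - 1) ≤ ∑ i, D i)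
    (key' : ∀ u : ℤ, 1 ≤ u → 0 < L D m (-u) → L D m (-u) + L D m (u - 1) < ∑ i, D i) :
    ∀ i, m i ≠ 0 → D i = 0 := by
  classical
  obtain ⟨K, hK⟩ : ∃ K : ℕ, ∀ i, -(K : ℤ) ≤ m i ∧ m i ≤ K := by
    refine ⟨∑ i, (m i).natAbs, fun i => ?_⟩
    have h1 : (m i).natAbs ≤ ∑ i, (m i).natAbs :=
      Finset.single_le_sum (f := fun i => (m i).natAbs) (fun _ _ => Nat.zero_le _)
        (Finset.mem_univ i)
    have h2 : ((m i).natAbs : ℤ) ≤ ((∑ i, (m i).natAbs : ℕ) : ℤ) := by exact_mod_cast h1
    omega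
  have hw := weight_sum D m K hK
  rw [hsum] at hw
  set N := ∑ i, D i with hN
  have hT : ∀ u ∈ Finset.range K, 0 ≤ N - (L D m (-((u : ℤ) + 1)) + L D m u) := by
    intro u _
    have := key ((u : ℤ) + 1) (by omega)
    rw [add_sub_cancel_right] at this
    linarith
  have hTsum : ∑ u ∈ Finset.range K, (N - (L D m (-((u : ℤ) + 1)) + L D m u)) = 0 := by
    rw [Finset.sum_sub_distrib, Finset.sum_const, Finset.card_range, nsmul_eq_mul]
    linarith
  have hT0 := (Finset.sum_eq_zero_iff_of_nonneg hT).mp hTsum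
  intro i hi
  by_cases hK0 : K = 0
  · exfalso
    have := hK i
    rw [hK0] at this
    simp at this
    omega
  have h0 := hT0 0 (Finset.mem_range.mpr (Nat.pos_of_ne_zero hK0))
  simp only [Nat.cast_zero, zero_add] at h0
  have hLneg : L D m (-1) = 0 := by
    by_contra hne
    have hpos : 0 < L D m (-1) := lt_of_le_of_ne (L_nonneg D m hD _) (Ne.symm hne)
    have := key' 1 le_rfl hpos
    simp only [sub_self] at this
    linarith
  have hL0 : L D m 0 = N := by linarith
  rcases lt_or_gt_of_ne hi with hlt | hgt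
  · have := le_L D m hD (-1) i (by omega)
    linarith [hD i]
  · -- m i > 0: D i ≤ N - L 0
    have h5 : L D m 0 + D i ≤ N := by
      unfold L
      rw [hN]
      have : ∑ j, (if m j ≤ 0 then D j else 0) + D i =
          ∑ j, ((if m j ≤ 0 then D j else 0) + (if j = i then D i else 0)) := by
        rw [Finset.sum_add_distrib, Finset.sum_ite_eq' Finset.univ i, if_pos (Finset.mem_univ i)]
      rw [this]
      refine Finset.sum_le_sum (fun j _ => ?_)
      by_cases hji : j = i
      · subst hji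
        rw [if_neg (by omega), if_pos rfl, zero_add]
      · rw [if_neg hji, add_zero]
        split_ifs
        · exact le_refl _
        · exact hD j
    linarith [hD i]

/-- semistable numeric core -/
theorem num_semistable (hD : ∀ i, 0 ≤ D i) (hsum : ∑ i, m i * D i = 0)
    (key : ∀ u : ℤ, 1 ≤ u → L D m (-u) + L D m u ≤ ∑ i, D i) :
    ∀ i, m i ≠ 0 → D i = 0 := by
  classical
  obtain ⟨K, hK⟩ : ∃ K : ℕ, ∀ i, -(K : ℤ) ≤ m i ∧ m i ≤ K := by
    refine ⟨∑ i, (m i).natAbs, fun i => ?_⟩
    have h1 : (m i).natAbs ≤ ∑ i, (m i).natAbs :=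
      Finset.single_le_sum (f := fun i => (m i).natAbs) (fun _ _ => Nat.zero_le _)
        (Finset.mem_univ i)
    have h2 : ((m i).natAbs : ℤ) ≤ ((∑ i, (m i).natAbs : ℕ) : ℤ) := by exact_mod_cast h1
    omega
  have hw := weight_sum D m K hK
  rw [hsum] at hw
  set N := ∑ i, D i with hN
  -- L 0 = N
  have hL0 : L D m 0 = N := by
    by_cases hK0 : K = 0
    · apply L_eq_of_bound
      intro i
      have := hK i
      rw [hK0] at this
      simp at this
      omega
    have hLK : L D m K = N := L_eq_of_bound D m K (fun i => (hK i).2)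
    have hshift : ∑ u ∈ Finset.range K, L D m u =
        ∑ u ∈ Finset.range K, L D m ((u : ℤ) + 1) - L D m K + L D m 0 := by
      have e1 := Finset.sum_range_succ (fun u : ℕ => L D m (u : ℤ)) K
      have e2 := Finset.sum_range_succ' (fun u : ℕ => L D m (u : ℤ)) K
      simp only [Nat.cast_add, Nat.cast_one, Nat.cast_zero] at e1 e2
      linarith
    have hle : ∑ u ∈ Finset.range K, (L D m (-((u : ℤ) + 1)) + L D m ((u : ℤ) + 1)) ≤ K * N := by
      calc ∑ u ∈ Finset.range K, (L D m (-((u : ℤ) + 1)) + L D m ((u : ℤ) + 1))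
          ≤ ∑ u ∈ Finset.range K, N :=
            Finset.sum_le_sum (fun u _ => key ((u : ℤ) + 1) (by omega))
        _ = K * N := by rw [Finset.sum_const, Finset.card_range, nsmul_eq_mul]
    rw [Finset.sum_add_distrib] at hw hle
    have := L_le D m hD 0
    linarith
  intro i hi
  -- positive weights vanish
  have hpos : ∀ j, 0 < m j → D j = 0 := by
    intro j hj
    have h5 : L D m 0 + D j ≤ N := by
      unfold L
      rw [hN]
      have : ∑ l, (if m l ≤ 0 then D l else 0) + D j =
          ∑ l, ((if m l ≤ 0 then D l else 0) + (if l = j then D j else 0)) := by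
        rw [Finset.sum_add_distrib, Finset.sum_ite_eq' Finset.univ j, if_pos (Finset.mem_univ j)]
      rw [this]
      refine Finset.sum_le_sum (fun l _ => ?_)
      by_cases hlj : l = j
      · subst hlj
        rw [if_neg (by omega), if_pos rfl, zero_add]
      · rw [if_neg hlj, add_zero]
        split_ifs
        · exact le_refl _
        · exact hD l
    linarith [hD j]
  have hterm : ∀ j ∈ Finset.univ, m j * D j ≤ 0 := by
    intro j _
    by_cases hj : 0 < m j
    · rw [hpos j hj, mul_zero]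
    · exact mul_nonpos_of_nonpos_of_nonneg (by omega) (hD j)
  have := (Finset.sum_eq_zero_iff_of_nonpos hterm).mp hsum i (Finset.mem_univ i)
  rcases mul_eq_zero.mp this with h | h
  · exact absurd h hi
  · exact h

end numeric

end Groth.Agent.Helper29.SemiStA
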