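import Mathlib
import Groth.Agent.Lib.Helper29.SemiStA

set_option autoImplicit false

namespace Groth.Agent.Helper29.SemiStB

open SemiStA Module

variable {K : Type*} [Field K] {H W : Type*} [AddCommGroup H] [Module K H] [FiniteDimensional K H]
  [AddCommGroup W] [Module K W] (q : H →ₗ[K] H →ₗ[K] W)

/-- the orthogonal of a subspace -/
def perp (V : Submodule K H) : Submodule K H :=
  ⨅ (y : H) (_ : y ∈ V), LinearMap.ker (q.flip y)

omit [FiniteDimensional K H] in
theorem mem_perp {V : Submodule K H} {x : H} : x ∈ perp q V ↔ ∀ y ∈ V, q x y = 0 := by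
  simp [perp, Submodule.mem_iInf, LinearMap.mem_ker, LinearMap.flip_apply]

theorem finrank_biSup {ι : Type*} [DecidableEq ι] (Hs : ι → Submodule K H) (hind : iSupIndep Hs)
    (S : Finset ι) :
    finrank K ↥(⨆ i ∈ S, Hs i) = ∑ i ∈ S, finrank K (Hs i) := by
  induction S using Finset.induction_on with
  | empty => simp
  | insert j S hj ih =>
    rw [Finset.iSup_insert, Finset.sum_insert hj, ← ih]
    have hdisj : Disjoint (Hs j) (⨆ i ∈ S, Hs i) :=
      hind.disjoint_biSup (y := (S : Set ι)) (by simpa using hj)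
    have := Submodule.finrank_sup_add_finrank_inf_eq (Hs j) (⨆ i ∈ S, Hs i)
    rw [hdisj.eq_bot, finrank_bot, add_zero] at this
    exact this

omit [FiniteDimensional K H] in
theorem biSup_le_perp {ι : Type*} (Hs : ι → Submodule K H) (S T : Finset ι)
    (h : ∀ i ∈ S, ∀ j ∈ T, ∀ x ∈ Hs i, ∀ y ∈ Hs j, q x y = 0) :
    (⨆ i ∈ S, Hs i) ≤ perp q (⨆ j ∈ T, Hs j) := by
  refine iSup₂_le (fun i hi x hx => ?_)
  rw [mem_perp]
  intro y hy
  have : (⨆ j ∈ T, Hs j) ≤ LinearMap.ker (q x) :=
    iSup₂_le (fun j hj y hy => h i hi j hj x hx y hy)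
  exact this hy

section forward

variable {ι : Type*} [Fintype ι] [DecidableEq ι] (Hs : ι → Submodule K H) (m : ι → ℤ)
  (hint : DirectSum.IsInternal Hs)

include hint in
theorem finrank_Vt (t : ℤ) :
    (finrank K ↥(⨆ i ∈ Finset.univ.filter (fun i => m i ≤ t), Hs i) : ℤ) =
      L (fun i => (finrank K (Hs i) : ℤ)) m t := by
  rw [finrank_biSup Hs hint.submodule_iSupIndep, Nat.cast_sum, Finset.sum_filter]
  rfl

include hint in
theorem finrank_total : (finrank K H : ℤ) = ∑ i, (finrank K (Hs i) : ℤ) := by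
  have h1 : (⨆ i ∈ (Finset.univ : Finset ι), Hs i) = ⊤ := by
    simpa using hint.submodule_iSup_eq_top
  have h2 := finrank_biSup Hs hint.submodule_iSupIndep Finset.univ
  rw [h1, finrank_top] at h2
  rw [h2, Nat.cast_sum]

include hint in
theorem forward_ss
    (hV : ∀ V : Submodule K H, V ≠ ⊥ → (∀ x ∈ V, ∀ y ∈ V, q x y = 0) →
      finrank K V + finrank K (perp q V) ≤ finrank K H)
    (hsum : ∑ i, m i * (finrank K (Hs i) : ℤ) = 0)
    (hne : ∃ i, m i ≠ 0 ∧ Hs i ≠ ⊥) :
    ∃ i j, (∃ x ∈ Hs i, ∃ y ∈ Hs j, q x y ≠ 0) ∧ m i + m j ≤ 0 := by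
  by_contra hcon
  push Not at hcon
  have horth : ∀ i j, m i + m j ≤ 0 → ∀ x ∈ Hs i, ∀ y ∈ Hs j, q x y = 0 := by
    intro i j hij x hx y hy
    by_contra hne
    exact absurd (hcon i j ⟨x, hx, y, hy, hne⟩) (not_lt.mpr hij)
  set D : ι → ℤ := fun i => (finrank K (Hs i) : ℤ) with hD
  have hD0 : ∀ i, 0 ≤ D i := fun i => Nat.cast_nonneg _
  set Vt : ℤ → Submodule K H := fun t => ⨆ i ∈ Finset.univ.filter (fun i => m i ≤ t), Hs i with hVtdef
  have hVt : ∀ t, (finrank K (Vt t) : ℤ) = L D m t := fun t => finrank_Vt Hs m hint t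
  have hN : (finrank K H : ℤ) = ∑ i, D i := finrank_total Hs hint
  have key : ∀ u : ℤ, 1 ≤ u → L D m (-u) + L D m u ≤ ∑ i, D i := by
    intro u hu
    by_cases hbot : Vt (-u) = ⊥
    · have h1 : L D m (-u) = 0 := by rw [← hVt, hbot, finrank_bot]; rfl
      rw [h1, zero_add]; exact L_le D m hD0 u
    · have hiso : ∀ x ∈ Vt (-u), ∀ y ∈ Vt (-u), q x y = 0 := by
        have := biSup_le_perp q Hs (Finset.univ.filter (fun i => m i ≤ -u))
          (Finset.univ.filter (fun i => m i ≤ -u)) (fun i hi j hj => horth i j (by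
            simp only [Finset.mem_filter, Finset.mem_univ, true_and] at hi hj; omega))
        intro x hx y hy
        exact (mem_perp q).mp (this hx) y hy
      have hle : Vt u ≤ perp q (Vt (-u)) :=
        biSup_le_perp q Hs _ _ (fun i hi j hj => horth i j (by
          simp only [Finset.mem_filter, Finset.mem_univ, true_and] at hi hj; omega))
      have h1 := hV (Vt (-u)) hbot hiso
      have h2 : finrank K (Vt u) ≤ finrank K (perp q (Vt (-u))) := Submodule.finrank_mono hle
      rw [← hVt, ← hVt, ← hN]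
      exact_mod_cast (by omega : finrank K (Vt (-u)) + finrank K (Vt u) ≤ finrank K H)
  obtain ⟨i, hi, hbot⟩ := hne
  have h0 := num_semistable D m hD0 hsum key i hi
  apply hbot
  apply Submodule.finrank_eq_zero.mp
  have h0' : (finrank K (Hs i) : ℤ) = 0 := h0
  exact_mod_cast h0'

include hint in
theorem forward_st
    (hV : ∀ V : Submodule K H, V ≠ ⊥ → (∀ x ∈ V, ∀ y ∈ V, q x y = 0) →
      finrank K V + finrank K (perp q V) < finrank K H)
    (hsum : ∑ i, m i * (finrank K (Hs i) : ℤ) = 0)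
    (hne : ∃ i, m i ≠ 0 ∧ Hs i ≠ ⊥) :
    ∃ i j, (∃ x ∈ Hs i, ∃ y ∈ Hs j, q x y ≠ 0) ∧ m i + m j < 0 := by
  by_contra hcon
  push Not at hcon
  have horth : ∀ i j, m i + m j < 0 → ∀ x ∈ Hs i, ∀ y ∈ Hs j, q x y = 0 := by
    intro i j hij x hx y hy
    by_contra hne
    exact absurd (hcon i j ⟨x, hx, y, hy, hne⟩) (not_le.mpr hij)
  set D : ι → ℤ := fun i => (finrank K (Hs i) : ℤ) with hD
  have hD0 : ∀ i, 0 ≤ D i := fun i => Nat.cast_nonneg _
  set Vt : ℤ → Submodule K H := fun t => ⨆ i ∈ Finset.univ.filter (fun i => m i ≤ t), Hs i with hVtdef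
  have hVt : ∀ t, (finrank K (Vt t) : ℤ) = L D m t := fun t => finrank_Vt Hs m hint t
  have hN : (finrank K H : ℤ) = ∑ i, D i := finrank_total Hs hint
  have main : ∀ u : ℤ, 1 ≤ u → Vt (-u) ≠ ⊥ →
      finrank K (Vt (-u)) + finrank K (Vt (u - 1)) < finrank K H := by
    intro u hu hbot
    have hiso : ∀ x ∈ Vt (-u), ∀ y ∈ Vt (-u), q x y = 0 := by
      have := biSup_le_perp q Hs (Finset.univ.filter (fun i => m i ≤ -u))
        (Finset.univ.filter (fun i => m i ≤ -u)) (fun i hi j hj => horth i j (by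
          simp only [Finset.mem_filter, Finset.mem_univ, true_and] at hi hj; omega))
      intro x hx y hy
      exact (mem_perp q).mp (this hx) y hy
    have hle : Vt (u - 1) ≤ perp q (Vt (-u)) :=
      biSup_le_perp q Hs _ _ (fun i hi j hj => horth i j (by
        simp only [Finset.mem_filter, Finset.mem_univ, true_and] at hi hj; omega))
    have h1 := hV (Vt (-u)) hbot hiso
    have h2 : finrank K (Vt (u - 1)) ≤ finrank K (perp q (Vt (-u))) := Submodule.finrank_mono hle
    omega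
  have key : ∀ u : ℤ, 1 ≤ u → L D m (-u) + L D m (u - 1) ≤ ∑ i, D i := by
    intro u hu
    by_cases hbot : Vt (-u) = ⊥
    · have h1 : L D m (-u) = 0 := by rw [← hVt, hbot, finrank_bot]; rfl
      rw [h1, zero_add]; exact L_le D m hD0 _
    · have := main u hu hbot
      rw [← hVt, ← hVt, ← hN]
      exact_mod_cast this.le
  have key' : ∀ u : ℤ, 1 ≤ u → 0 < L D m (-u) →
      L D m (-u) + L D m (u - 1) < ∑ i, D i := by
    intro u hu hpos
    have hbot : Vt (-u) ≠ ⊥ := by
      intro hb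
      rw [← hVt, hb, finrank_bot] at hpos
      exact lt_irrefl _ hpos
    have := main u hu hbot
    rw [← hVt, ← hVt, ← hN]
    exact_mod_cast this
  obtain ⟨i, hi, hbot⟩ := hne
  have h0 := num_stable D m hD0 hsum key key' i hi
  apply hbot
  apply Submodule.finrank_eq_zero.mp
  have h0' : (finrank K (Hs i) : ℤ) = 0 := h0
  exact_mod_cast h0'

end forward

end Groth.Agent.Helper29.SemiStB
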