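import Mathlib
import Groth.Agent.Lib.Helper29.SemiStB

set_option autoImplicit false

namespace Groth.Agent.Helper29.SemiStC

open SemiStA SemiStB Module

variable {K : Type*} [Field K] {H W : Type*} [AddCommGroup H] [Module K H] [FiniteDimensional K H]
  [AddCommGroup W] [Module K W] (q : H →ₗ[K] H →ₗ[K] W)

theorem decomp (V : Submodule K H) (hiso : ∀ x ∈ V, ∀ y ∈ V, q x y = 0) :
    ∃ Hs : Fin 3 → Submodule K H, DirectSum.IsInternal Hs ∧ Hs 0 = V ∧ Hs 1 ≤ perp q V ∧
      finrank K (Hs 0) + finrank K (Hs 1) = finrank K (perp q V) ∧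
      finrank K (perp q V) + finrank K (Hs 2) = finrank K H := by
  have hVP : V ≤ perp q V := fun x hx => (mem_perp q).mpr (fun y hy => hiso x hx y hy)
  obtain ⟨C, hC⟩ := Submodule.exists_isCompl V
  obtain ⟨V'', hV''⟩ := Submodule.exists_isCompl (perp q V)
  set V' := C ⊓ perp q V with hV'
  have hsup1 : V ⊔ V' = perp q V := by
    rw [hV', ← sup_inf_assoc_of_le C hVP, hC.sup_eq_top, top_inf_eq]
  have hdis1 : Disjoint V V' := hC.disjoint.mono_right inf_le_left
  refine ⟨![V, V', V''], ?_, rfl, ?_, ?_, ?_⟩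
  · apply DirectSum.isInternal_submodule_of_iSupIndep_of_iSup_eq_top
    · rw [iSupIndep_fin_three]
      simp only [Matrix.cons_val_zero, Matrix.cons_val_one, Matrix.cons_val_two]
      refine ⟨?_, ?_, ?_⟩
      · exact hdis1.disjoint_sup_right_of_disjoint_sup_left (by rw [hsup1]; exact hV''.disjoint)
      · rw [sup_comm]
        exact hdis1.symm.disjoint_sup_right_of_disjoint_sup_left
          (by rw [sup_comm, hsup1]; exact hV''.disjoint)
      · rw [hsup1]; exact hV''.disjoint.symm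
    · rw [eq_top_iff, ← hV''.sup_eq_top, ← hsup1]
      exact sup_le (sup_le (le_iSup ![V, V', V''] 0) (le_iSup ![V, V', V''] 1))
        (le_iSup ![V, V', V''] 2)
  · change V' ≤ perp q V
    exact inf_le_right
  · change finrank K V + finrank K V' = _
    have := Submodule.finrank_sup_add_finrank_inf_eq V V'
    rw [hsup1, hdis1.eq_bot, finrank_bot, add_zero] at this
    exact this.symm
  · change _ + finrank K V'' = _
    exact Submodule.finrank_add_eq_of_isCompl hV''

variable (s : W →ₗ[K] W) (hq : ∀ x y : H, q x y = s (q y x))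

include hq in
omit [FiniteDimensional K H] in
theorem symm_zero {x y : H} (h : q y x = 0) : q x y = 0 := by rw [hq, h, map_zero]

include hq in
theorem backward_aux (hq0 : q ≠ 0) (V : Submodule K H) (hV0 : V ≠ ⊥)
    (hiso : ∀ x ∈ V, ∀ y ∈ V, q x y = 0)
    (hle : finrank K H ≤ finrank K V + finrank K (perp q V)) :
    ∃ (Hs : Fin 3 → Submodule K H) (m : Fin 3 → ℤ), DirectSum.IsInternal Hs ∧
      (∑ i, m i * (finrank K (Hs i) : ℤ)) = 0 ∧ (∃ i, m i ≠ 0 ∧ Hs i ≠ ⊥) ∧
      (∀ i j, (∃ x ∈ Hs i, ∃ y ∈ Hs j, q x y ≠ 0) → 0 ≤ m i + m j) ∧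
      (finrank K H < finrank K V + finrank K (perp q V) →
        ∀ i j, (∃ x ∈ Hs i, ∃ y ∈ Hs j, q x y ≠ 0) → 0 < m i + m j) := by
  obtain ⟨Hs, hint, h0, h1, hf1, hf2⟩ := decomp q V hiso
  set a := finrank K (Hs 0) with ha
  set b := finrank K (Hs 1) with hb
  set c := finrank K (Hs 2) with hc
  have haV : a = finrank K V := by rw [ha, h0]
  have hca : c ≤ a := by omega
  have hbc : 0 < b + c := by
    by_contra hcon
    have hb0 : b = 0 := by omega
    have hc0 : c = 0 := by omega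
    have hVtop : V = ⊤ := by
      apply Submodule.eq_top_of_finrank_eq
      omega
    apply hq0
    ext x y
    exact hiso x (hVtop ▸ Submodule.mem_top) y (hVtop ▸ Submodule.mem_top)
  have hapos : 0 < a := by
    by_contra hcon
    have : finrank K V = 0 := by omega
    exact hV0 (Submodule.finrank_eq_zero.mp this)
  refine ⟨Hs, ![-((b : ℤ) + c), (a : ℤ) - c, (a : ℤ) + b], hint, ?_, ?_, ?_, ?_⟩
  · rw [Fin.sum_univ_three]
    simp only [Matrix.cons_val_zero, Matrix.cons_val_one, Matrix.cons_val_two,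
      Matrix.head_cons, Matrix.tail_cons]
    rw [← ha, ← hb, ← hc]
    ring
  · refine ⟨0, ?_, by rw [h0]; exact hV0⟩
    simp only [Matrix.cons_val_zero]
    omega
  · intro i j ⟨x, hx, y, hy, hxy⟩
    fin_cases i <;> fin_cases j <;>
      simp only [Fin.zero_eta, Fin.mk_one, Fin.reduceFinMk, Matrix.cons_val_zero,
        Matrix.cons_val_one, Matrix.cons_val_two, Matrix.head_cons,
        Matrix.tail_cons] at hx hy ⊢
    · exact absurd (hiso x (h0 ▸ hx) y (h0 ▸ hy)) hxy
    · exact absurd (symm_zero q s hq ((mem_perp q).mp (h1 hy) x (h0 ▸ hx))) hxy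
    · omega
    · exact absurd ((mem_perp q).mp (h1 hx) y (h0 ▸ hy)) hxy
    · omega
    · omega
    · omega
    · omega
    · omega
  · intro hlt i j ⟨x, hx, y, hy, hxy⟩
    have hca' : c < a := by omega
    fin_cases i <;> fin_cases j <;>
      simp only [Fin.zero_eta, Fin.mk_one, Fin.reduceFinMk, Matrix.cons_val_zero,
        Matrix.cons_val_one, Matrix.cons_val_two, Matrix.head_cons,
        Matrix.tail_cons] at hx hy ⊢
    · exact absurd (hiso x (h0 ▸ hx) y (h0 ▸ hy)) hxy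
    · exact absurd (symm_zero q s hq ((mem_perp q).mp (h1 hy) x (h0 ▸ hx))) hxy
    · omega
    · exact absurd ((mem_perp q).mp (h1 hx) y (h0 ▸ hy)) hxy
    · omega
    · omega
    · omega
    · omega
    · omega

theorem main15159
    (W : Type) [AddCommGroup W] [Module ℂ W]
    (s : W →ₗ[ℂ] W)
    (H : Type) [AddCommGroup H] [Module ℂ H] [FiniteDimensional ℂ H]
    (q : H →ₗ[ℂ] H →ₗ[ℂ] W) (hq : ∀ x y : H, q x y = s (q y x)) (hq0 : q ≠ 0) :
    ((∀ V : Submodule ℂ H, V ≠ ⊥ → (∀ x ∈ V, ∀ y ∈ V, q x y = 0) →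
        Module.finrank ℂ V + Module.finrank ℂ ↥(⨅ (y : H) (_ : y ∈ V), LinearMap.ker (q.flip y) : Submodule ℂ H) ≤ Module.finrank ℂ H) ↔
      (∀ (ι : Type) [Fintype ι] [DecidableEq ι] (Hs : ι → Submodule ℂ H) (m : ι → ℤ),
        DirectSum.IsInternal Hs → (∑ i, m i * (Module.finrank ℂ (Hs i) : ℤ)) = 0 →
        (∃ i, m i ≠ 0 ∧ Hs i ≠ ⊥) →
        ∃ i j, (∃ x ∈ Hs i, ∃ y ∈ Hs j, q x y ≠ 0) ∧ m i + m j ≤ 0)) ∧
    ((∀ V : Submodule ℂ H, V ≠ ⊥ → (∀ x ∈ V, ∀ y ∈ V, q x y = 0) →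
        Module.finrank ℂ V + Module.finrank ℂ ↥(⨅ (y : H) (_ : y ∈ V), LinearMap.ker (q.flip y) : Submodule ℂ H) < Module.finrank ℂ H) ↔
      (∀ (ι : Type) [Fintype ι] [DecidableEq ι] (Hs : ι → Submodule ℂ H) (m : ι → ℤ),
        DirectSum.IsInternal Hs → (∑ i, m i * (Module.finrank ℂ (Hs i) : ℤ)) = 0 →
        (∃ i, m i ≠ 0 ∧ Hs i ≠ ⊥) →
        ∃ i j, (∃ x ∈ Hs i, ∃ y ∈ Hs j, q x y ≠ 0) ∧ m i + m j < 0)) := by
  constructor
  · constructor
    · intro hV ι _ _ Hs m hint hsum hne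
      exact forward_ss q Hs m hint hV hsum hne
    · intro hNC V hV0 hiso
      by_contra hcon
      push Not at hcon
      obtain ⟨Hs, m, hint, hsum, hne, h1, h2⟩ := backward_aux q s hq hq0 V hV0 hiso hcon.le
      obtain ⟨i, j, hex, hij⟩ := hNC (Fin 3) Hs m hint hsum hne
      have := h2 hcon i j hex
      omega
  · constructor
    · intro hV ι _ _ Hs m hint hsum hne
      exact forward_st q Hs m hint hV hsum hne
    · intro hNC V hV0 hiso
      by_contra hcon
      push Not at hcon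
      obtain ⟨Hs, m, hint, hsum, hne, h1, h2⟩ := backward_aux q s hq hq0 V hV0 hiso hcon
      obtain ⟨i, j, hex, hij⟩ := hNC (Fin 3) Hs m hint hsum hne
      have := h1 i j hex
      omega

end Groth.Agent.Helper29.SemiStC
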