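import Mathlib
import Groth.Agent.Lib.Helper29.BasicElt

set_option linter.unusedSectionVars false
set_option autoImplicit false

namespace Groth.Agent.Helper29.SerreBass

open Module Submodule TensorProduct
open Groth.Agent.Helper29.BasicElt

universe u

section Pres

variable {R : Type u} [CommRing R] {P : Type u} [AddCommGroup P] [Module R P]
variable {k : ℕ} (π : (Fin k → R) →ₗ[R] P) (i : P →ₗ[R] (Fin k → R))

/-- generators -/
def gen (l : Fin k) : P := π (Pi.single l 1)

/-- generators as vectors -/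
def G (l : Fin k) : Fin k → R := i (gen π l)

theorem π_eq_sum (v : Fin k → R) : π v = ∑ l, v l • gen π l := by
  rw [LinearMap.pi_apply_eq_sum_univ π v]
  apply Finset.sum_congr rfl
  intro l _
  congr 2
  ext j
  simp [Pi.single_apply, eq_comm]

variable (hπi : π ∘ₗ i = LinearMap.id)
include hπi

theorem πi_apply (x : P) : π (i x) = x := by
  have := congrArg (fun f => f x) hπi
  simpa using this

theorem eq_sum_gen (x : P) : x = ∑ l, (i x) l • gen π l := by
  conv_lhs => rw [← πi_apply π i hπi x]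
  exact π_eq_sum π (i x)

theorem rankAtStalk_le_rk [Module.Finite R P] [Module.Projective R P] (p : PrimeSpectrum R) :
    rankAtStalk P p ≤ rk p (G π i) Finset.univ := by
  classical
  set κ := p.asIdeal.ResidueField with hκ
  rw [rankAtStalk_eq p]
  -- the map back
  let πκ : (Fin k → κ) →ₗ[κ] κ ⊗[R] P :=
    Fintype.linearCombination κ (fun l => (1 : κ) ⊗ₜ[R] gen π l)
  have hπκ : ∀ l, πκ (red p (G π i l)) = (1 : κ) ⊗ₜ[R] gen π l := by
    intro l
    simp only [πκ, Fintype.linearCombination_apply, red]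
    have h1 : ∀ m, algebraMap R κ (G π i l m) • ((1 : κ) ⊗ₜ[R] gen π m) =
        (1 : κ) ⊗ₜ[R] (G π i l m • gen π m) := by
      intro m
      rw [TensorProduct.smul_tmul', TensorProduct.tmul_smul, TensorProduct.smul_tmul']
      congr 1
      simp [Algebra.smul_def]
    rw [Finset.sum_congr rfl (fun m _ => h1 m), ← TensorProduct.tmul_sum]
    congr 1
    have := eq_sum_gen π i hπi (gen π l)
    exact this.symm
  have htop : span κ (Set.range fun l => (1 : κ) ⊗ₜ[R] gen π l) = ⊤ := by
    rw [eq_top_iff]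
    rintro t -
    induction t using TensorProduct.induction_on with
    | zero => exact zero_mem _
    | add x y hx hy => exact add_mem hx hy
    | tmul c x =>
      rw [eq_sum_gen π i hπi x, TensorProduct.tmul_sum]
      refine sum_mem (fun l _ => ?_)
      have : c ⊗ₜ[R] ((i x) l • gen π l) =
          (c * algebraMap R κ ((i x) l)) • ((1 : κ) ⊗ₜ[R] gen π l) := by
        rw [TensorProduct.tmul_smul, TensorProduct.smul_tmul', TensorProduct.smul_tmul']
        congr 1
        simp [Algebra.smul_def, mul_comm]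
      rw [this]
      exact smul_mem _ _ (subset_span ⟨l, rfl⟩)
  -- surjectivity of restriction
  have hsurj : LinearMap.range (πκ.domRestrict (W p (G π i) Finset.univ)) = ⊤ := by
    rw [eq_top_iff, ← htop, span_le]
    rintro _ ⟨l, rfl⟩
    refine ⟨⟨red p (G π i l), subset_span ⟨l, by simp, rfl⟩⟩, ?_⟩
    simp [LinearMap.domRestrict_apply, hπκ]
  have h1 := LinearMap.finrank_range_le (πκ.domRestrict (W p (G π i) Finset.univ))
  rw [hsurj, finrank_top] at h1
  exact h1

theorem exists_functional_of_basic (x : P) (h : ∀ p : PrimeSpectrum R, red p (i x) ≠ 0) :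
    ∃ φ : P →ₗ[R] R, φ x = 1 := by
  classical
  have htop : Ideal.span (Set.range (i x)) = ⊤ := by
    by_contra hne
    obtain ⟨m, hm, hle⟩ := Ideal.exists_le_maximal _ hne
    apply h ⟨m, hm.isPrime⟩
    rw [red_eq_zero_iff]
    intro l
    exact hle (Ideal.subset_span ⟨l, rfl⟩)
  have h1 : (1 : R) ∈ Ideal.span (Set.range (i x)) := by rw [htop]; trivial
  rw [Ideal.mem_span_range_iff_exists_fun] at h1
  obtain ⟨c, hc⟩ := h1
  refine ⟨∑ l, c l • (LinearMap.proj l ∘ₗ i), ?_⟩
  simpa [LinearMap.sum_apply] using hc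

end Pres


section ThmB

variable {R : Type u} [CommRing R] [IsNoetherianRing R] {P : Type u} [AddCommGroup P] [Module R P]
  [Module.Finite R P] [Module.Projective R P]

theorem height_le_of_dim (d : ℕ) (hdim : ringKrullDim R ≤ d) (p : PrimeSpectrum R) :
    Order.height p ≤ (d : ℕ∞) := by
  have h1 : (Order.height p : WithBot ℕ∞) ≤ Order.krullDim (PrimeSpectrum R) :=
    Order.height_le_krullDim p
  have h2 : (Order.height p : WithBot ℕ∞) ≤ ((d : ℕ∞) : WithBot ℕ∞) := h1.trans hdim
  exact WithBot.coe_le_coe.mp h2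

theorem thmB (d : ℕ) (hdim : ringKrullDim R ≤ d)
    (hrk : ∀ p : PrimeSpectrum R, d + 1 ≤ rankAtStalk P p)
    (a : R) (x : P) (φ : P →ₗ[R] R) (b : R) (hu : b * a + φ x = 1) :
    ∃ (y : P) (ψ : P →ₗ[R] R), ψ (x + a • y) = 1 := by
  classical
  obtain ⟨k, π, hπ⟩ := Module.Finite.exists_fin' R P
  obtain ⟨i, hi⟩ := Module.projective_lifting_property π LinearMap.id hπ
  let f : Option (Fin k) → Fin k → R := fun o => o.elim (i x) (fun l => a • G π i l)
  let X : PrimeSpectrum R → Prop := fun p => a ∉ p.asIdeal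
  have hX : ∀ p q : PrimeSpectrum R, p ≤ q → X q → X p := fun p q hpq hq ha => hq (hpq ha)
  let δ : PrimeSpectrum R → ℕ := fun p => d - (Order.height p).toNat
  have hδ : ∀ p q : PrimeSpectrum R, p < q → δ q < δ p := by
    intro p q hpq
    have hp := height_le_of_dim d hdim p
    have hq := height_le_of_dim d hdim q
    have hpfin : Order.height p < ⊤ := lt_of_le_of_lt hp (ENat.natCast_lt_top d)
    have hlt := Order.height_strictMono hpq hpfin
    obtain ⟨mp, hmp⟩ := ENat.ne_top_iff_exists.mp hpfin.ne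
    obtain ⟨mq, hmq⟩ := ENat.ne_top_iff_exists.mp (lt_of_le_of_lt hq (ENat.natCast_lt_top d)).ne
    simp only [δ]
    rw [← hmp, ← hmq] at hlt
    rw [← hmq] at hq
    rw [← hmp, ← hmq]
    simp only [ENat.toNat_natCast]
    have h1 : mp < mq := by exact_mod_cast hlt
    have h2 : mq ≤ d := by exact_mod_cast hq
    omega
  have hyp : Hyp X δ f Finset.univ := by
    intro p hp
    have h1 : rankAtStalk P p ≤ rk p (G π i) Finset.univ := rankAtStalk_le_rk π i hi p
    have hane : algebraMap R p.asIdeal.ResidueField a ≠ 0 := by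
      intro h; exact hp (Ideal.algebraMap_residueField_eq_zero.mp h)
    have h2 : W p (G π i) Finset.univ ≤ W p f Finset.univ := by
      unfold W
      rw [span_le]
      rintro _ ⟨l, -, rfl⟩
      have hmem : red p (f (some l)) ∈
          span p.asIdeal.ResidueField ((fun j => red p (f j)) '' (Finset.univ : Finset (Option (Fin k)))) :=
        subset_span ⟨some l, by simp, rfl⟩
      have hf : red p (f (some l)) = algebraMap R p.asIdeal.ResidueField a • red p (G π i l) := by
        simp only [f, Option.elim_some]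
        rw [red_smul]
      have : red p (G π i l) = (algebraMap R p.asIdeal.ResidueField a)⁻¹ • red p (f (some l)) := by
        rw [hf, smul_smul, inv_mul_cancel₀ hane, one_smul]
      show red p (G π i l) ∈ _
      rw [this]
      exact smul_mem _ _ hmem
    have h3 : rk p (G π i) Finset.univ ≤ rk p f Finset.univ := Submodule.finrank_mono h2
    have h4 := hrk p
    have h5 : δ p ≤ d := Nat.sub_le _ _
    have : min (Finset.univ : Finset (Option (Fin k))).card (δ p + 1) ≤ δ p + 1 := min_le_right _ _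
    omega
  obtain ⟨c, hc0, hc⟩ := exists_basic X hX δ hδ _ Finset.univ none (Finset.mem_univ _) rfl f hyp
  let y : P := ∑ l, c (some l) • gen π l
  have hsum : ∑ j, c j • f j = i (x + a • y) := by
    rw [Fintype.sum_option, hc0]
    simp only [f, Option.elim_none, Option.elim_some, one_smul, y, map_add, map_smul, map_sum,
      Finset.smul_sum, G]
    congr 1
    apply Finset.sum_congr rfl
    intro l _
    rw [smul_comm]
  have hbasic : ∀ p : PrimeSpectrum R, red p (i (x + a • y)) ≠ 0 := by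
    intro p
    by_cases hap : a ∈ p.asIdeal
    · intro h0
      rw [red_eq_zero_iff] at h0
      have hz := eq_sum_gen π i hi (x + a • y)
      have hφz : φ (x + a • y) ∈ p.asIdeal := by
        rw [hz, map_sum]
        refine Ideal.sum_mem _ (fun l _ => ?_)
        rw [map_smul, smul_eq_mul]
        exact Ideal.mul_mem_right _ _ (h0 l)
      have h1 : (1 : R) = b * a + (φ (x + a • y) - a * φ y) := by
        rw [map_add, map_smul, smul_eq_mul, ← hu]; ring
      have : (1 : R) ∈ p.asIdeal := by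
        rw [h1]
        exact Ideal.add_mem _ (Ideal.mul_mem_left _ _ hap)
          (Ideal.sub_mem _ hφz (Ideal.mul_mem_right _ _ hap))
      exact p.2.ne_top ((Ideal.eq_top_iff_one _).mpr this)
    · rw [← hsum]; exact hc p hap
  obtain ⟨ψ, hψ⟩ := exists_functional_of_basic π i hi (x + a • y) hbasic
  exact ⟨y, ψ, hψ⟩

end ThmB


section Equivs

variable {R : Type u} [CommRing R] {P : Type u} [AddCommGroup P] [Module R P]

/-- splitting off a unimodular element -/
noncomputable def splitEquiv (ψ : P →ₗ[R] R) (y : P) (h : ψ y = 1) :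
    P ≃ₗ[R] (LinearMap.ker ψ × R) where
  toFun x := (⟨x - ψ x • y, by simp [h]⟩, ψ x)
  map_add' a b := by
    ext
    · simp [add_smul]; abel
    · simp
  map_smul' c a := by
    ext
    · simp [smul_sub, mul_smul]
    · simp
  invFun kr := kr.1 + kr.2 • y
  left_inv x := by simp
  right_inv kr := by
    obtain ⟨⟨k, hk⟩, r⟩ := kr
    have hk' : ψ k = 0 := hk
    ext
    · simp [hk', h]
    · simp [hk', h]

/-- `(Fin m → R) × R ≃ (Fin (m+1) → R)` -/
noncomputable def snocE (m : ℕ) : ((Fin m → R) × R) ≃ₗ[R] (Fin (m + 1) → R) :=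
  (LinearEquiv.prodCongr (LinearEquiv.refl R (Fin m → R))
      (LinearEquiv.funUnique (Fin 1) R R).symm) ≪≫ₗ
    (LinearEquiv.sumArrowLequivProdArrow (Fin m) (Fin 1) R R).symm ≪≫ₗ
    (LinearEquiv.funCongrLeft R R finSumFinEquiv).symm

/-- `(Fin N → A × B) ≃ (Fin N → A) × (Fin N → B)` -/
def piProdE (N : ℕ) (A B : Type*) [AddCommGroup A] [Module R A] [AddCommGroup B] [Module R B] :
    (Fin N → A × B) ≃ₗ[R] (Fin N → A) × (Fin N → B) where
  toFun f := (fun i => (f i).1, fun i => (f i).2)
  invFun g := fun i => (g.1 i, g.2 i)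
  map_add' _ _ := rfl
  map_smul' _ _ := rfl
  left_inv _ := rfl
  right_inv _ := rfl

/-- `(Fin N → Fin m → R) ≃ (Fin (N*m) → R)` -/
noncomputable def flatE (N m : ℕ) : (Fin N → Fin m → R) ≃ₗ[R] (Fin (N * m) → R) :=
  (LinearEquiv.curry R R (Fin N) (Fin m)).symm ≪≫ₗ
    (LinearEquiv.funCongrLeft R R finProdFinEquiv).symm

end Equivs


section Serre

variable {R : Type u} [CommRing R] [IsNoetherianRing R]

theorem rank_ker (P : Type u) [AddCommGroup P] [Module R P] [Module.Finite R P]
    [Module.Projective R P] (ψ : P →ₗ[R] R) (y : P) (h : ψ y = 1) :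
    Module.Finite R (LinearMap.ker ψ) ∧ Module.Projective R (LinearMap.ker ψ) ∧
      ∀ p : PrimeSpectrum R, rankAtStalk P p = rankAtStalk (LinearMap.ker ψ) p + 1 := by
  have hfin : Module.Finite R (LinearMap.ker ψ) := Module.IsNoetherian.finite R _
  let e := splitEquiv ψ y h
  have hproj : Module.Projective R (LinearMap.ker ψ) := by
    refine Module.Projective.of_split (LinearMap.ker ψ).subtype
      ((LinearMap.fst R _ R) ∘ₗ e.toLinearMap) ?_
    ext ⟨k, hk⟩
    have hk' : ψ k = 0 := hk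
    simp [e, splitEquiv, hk']
  refine ⟨hfin, hproj, fun p => ?_⟩
  have : Nontrivial R := p.nontrivial
  rw [rankAtStalk_eq_of_equiv e, rankAtStalk_prod]
  simp

theorem serre_equiv (d : ℕ) (hdim : ringKrullDim R ≤ d) :
    ∀ (m : ℕ) (P : Type u) [AddCommGroup P] [Module R P] [Module.Finite R P]
      [Module.Projective R P] (n : ℕ), (∀ p : PrimeSpectrum R, rankAtStalk P p = n) → d + m ≤ n →
      ∃ (P₀ : Type u) (_ : AddCommGroup P₀) (_ : Module R P₀),
        Nonempty (P ≃ₗ[R] P₀ × (Fin m → R)) := by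
  intro m
  induction m with
  | zero =>
    intro P _ _ _ _ n _ _
    exact ⟨P, inferInstance, inferInstance, ⟨(LinearEquiv.prodUnique).symm⟩⟩
  | succ m ih =>
    intro P _ _ _ _ n hrk hn
    obtain ⟨y, ψ, hψ⟩ := thmB (P := P) d hdim (fun p => by rw [hrk p]; omega) 1 0 0 1 (by simp)
    have hψy : ψ y = 1 := by simpa using hψ
    obtain ⟨hfin, hproj, hrank⟩ := rank_ker P ψ y hψy
    obtain ⟨P₀, _, _, ⟨e₀⟩⟩ := ih (LinearMap.ker ψ) (n - 1)
      (fun p => by have := hrank p; rw [hrk p] at this; omega) (by omega)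
    refine ⟨P₀, inferInstance, inferInstance, ⟨?_⟩⟩
    exact (splitEquiv ψ y hψy) ≪≫ₗ (LinearEquiv.prodCongr e₀ (LinearEquiv.refl R R)) ≪≫ₗ
      (LinearEquiv.prodAssoc R P₀ (Fin m → R) R) ≪≫ₗ
      (LinearEquiv.prodCongr (LinearEquiv.refl R P₀) (snocE m))

theorem isCompl_of_equiv {P A B : Type*} [AddCommGroup P] [Module R P] [AddCommGroup A] [Module R A]
    [AddCommGroup B] [Module R B] (e : P ≃ₗ[R] A × B) :
    ∃ (P₀ Q : Submodule R P), IsCompl P₀ Q ∧ Nonempty (Q ≃ₗ[R] B) := by
  refine ⟨(LinearMap.range (LinearMap.inl R A B)).map e.symm.toLinearMap,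
    (LinearMap.range (LinearMap.inr R A B)).map e.symm.toLinearMap, ?_, ?_⟩
  · have h := LinearMap.isCompl_range_inl_inr (R := R) (M := A) (M₂ := B)
    exact (Submodule.orderIsoMapComap e.symm).isCompl_iff.mp h |>.symm.symm
  · refine ⟨?_⟩
    exact (Submodule.equivMapOfInjective e.symm.toLinearMap e.symm.injective _).symm ≪≫ₗ
      (LinearEquiv.ofInjective (LinearMap.inr R A B) LinearMap.inr_injective).symm

end Serre


section Cancel

variable {R : Type u} [CommRing R] [IsNoetherianRing R]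

/-- shear: `(u, r) ↦ (u + r • y, r)` -/
def shear₁ {P : Type*} [AddCommGroup P] [Module R P] (y : P) : (P × R) ≃ₗ[R] (P × R) :=
  LinearEquiv.ofLinearMap
    (LinearMap.prod (LinearMap.fst R P R + (LinearMap.snd R P R).smulRight y) (LinearMap.snd R P R))
    (LinearMap.prod (LinearMap.fst R P R - (LinearMap.snd R P R).smulRight y) (LinearMap.snd R P R))
    (by ext <;> simp) (by ext <;> simp)

/-- shear: `(u, r) ↦ (u, r + c * ψ u)` -/
def shear₂ {P : Type*} [AddCommGroup P] [Module R P] (ψ : P →ₗ[R] R) (c : R) :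
    (P × R) ≃ₗ[R] (P × R) :=
  LinearEquiv.ofLinearMap
    (LinearMap.prod (LinearMap.fst R P R)
      (LinearMap.snd R P R + c • (ψ ∘ₗ LinearMap.fst R P R)))
    (LinearMap.prod (LinearMap.fst R P R)
      (LinearMap.snd R P R - c • (ψ ∘ₗ LinearMap.fst R P R)))
    (by ext <;> simp) (by ext <;> simp)

theorem shear₁_apply {P : Type*} [AddCommGroup P] [Module R P] (y : P) (u : P) (r : R) :
    shear₁ y (u, r) = (u + r • y, r) := by
  simp [shear₁]

theorem shear₂_apply {P : Type*} [AddCommGroup P] [Module R P] (ψ : P →ₗ[R] R) (c : R)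
    (u : P) (r : R) : shear₂ ψ c (u, r) = (u, r + c * ψ u) := by
  simp [shear₂]

theorem fix_key {A B : Type*} [AddCommGroup A] [Module R A] [AddCommGroup B] [Module R B]
    (F : (A × R) ≃ₗ[R] (B × R)) (hF' : F.symm (0, 1) = (0, 1)) (u : A) :
    (F.symm ((F (u, 0)).1, 0)).1 = u := by
  have h1 : ((F (u, 0)).1, (0 : R)) = F (u, 0) - (F (u, 0)).2 • ((0 : B), (1 : R)) := by
    ext <;> simp
  rw [h1, map_sub, map_smul, F.symm_apply_apply, hF']
  simp

/-- an equivalence fixing `(0,1)` descends -/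
theorem equiv_of_fix {P P' : Type*} [AddCommGroup P] [Module R P] [AddCommGroup P'] [Module R P']
    (E : (P × R) ≃ₗ[R] (P' × R)) (hE : E (0, 1) = (0, 1)) : Nonempty (P ≃ₗ[R] P') := by
  have hE' : E.symm (0, 1) = (0, 1) := by rw [← hE, E.symm_apply_apply]
  refine ⟨LinearEquiv.ofLinearMap
    ((LinearMap.fst R P' R) ∘ₗ E.toLinearMap ∘ₗ (LinearMap.inl R P R))
    ((LinearMap.fst R P R) ∘ₗ E.symm.toLinearMap ∘ₗ (LinearMap.inl R P' R)) ?_ ?_⟩
  · ext u
    have := fix_key E.symm (by simpa using hE) u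
    simpa using this
  · ext u
    have := fix_key E hE' u
    simpa using this

theorem cancel_one (d : ℕ) (hdim : ringKrullDim R ≤ d)
    (P P' : Type u) [AddCommGroup P] [Module R P] [Module.Finite R P] [Module.Projective R P]
    [AddCommGroup P'] [Module R P']
    (hrk : ∀ p : PrimeSpectrum R, d + 1 ≤ rankAtStalk P p)
    (e : (P × R) ≃ₗ[R] (P' × R)) : Nonempty (P ≃ₗ[R] P') := by
  set xa := e.symm (0, 1) with hxa
  set x := xa.1 with hx
  set a := xa.2 with ha
  let Ψ : (P × R) →ₗ[R] R := (LinearMap.snd R P' R) ∘ₗ e.toLinearMap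
  have hΨ : Ψ (x, a) = 1 := by
    have : (x, a) = xa := rfl
    simp [Ψ, this, hxa]
  have hu : Ψ (0, 1) * a + (Ψ ∘ₗ LinearMap.inl R P R) x = 1 := by
    refine Eq.trans ?_ hΨ
    have h1 : ((x, a) : P × R) = a • ((0 : P), (1 : R)) + (x, 0) := by ext <;> simp
    rw [h1, map_add, map_smul, smul_eq_mul, mul_comm]
    simp
  obtain ⟨y, ψ, hψ⟩ := thmB d hdim hrk a x (Ψ ∘ₗ LinearMap.inl R P R) (Ψ (0, 1)) hu
  set z := x + a • y with hz
  let σ : (P × R) ≃ₗ[R] (P × R) := (shear₁ y) ≪≫ₗ (shear₂ ψ (1 - a)) ≪≫ₗ (shear₁ (-z))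
  have hσ : σ (x, a) = (0, 1) := by
    simp only [σ, LinearEquiv.trans_apply, shear₁_apply, shear₂_apply]
    rw [← hz, hψ]
    ext <;> simp
  have hσ' : σ.symm (0, 1) = (x, a) := by rw [← hσ, σ.symm_apply_apply]
  refine equiv_of_fix (σ.symm ≪≫ₗ e) ?_
  rw [LinearEquiv.trans_apply, hσ']
  have : (x, a) = xa := rfl
  rw [this, hxa, e.apply_symm_apply]

end Cancel


section Final

variable {R : Type u} [CommRing R] [IsNoetherianRing R]

/-- rearrangement `(P × R) × (Fin m → R) ≃ P × (Fin (m+1) → R)` -/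
noncomputable def rearr (P : Type*) [AddCommGroup P] [Module R P] (m : ℕ) :
    ((P × R) × (Fin m → R)) ≃ₗ[R] (P × (Fin (m + 1) → R)) :=
  (LinearEquiv.prodAssoc R P R (Fin m → R)) ≪≫ₗ
    (LinearEquiv.prodCongr (LinearEquiv.refl R P)
      ((LinearEquiv.prodComm R R (Fin m → R)) ≪≫ₗ snocE m))

theorem cancel (d : ℕ) (hdim : ringKrullDim R ≤ d) :
    ∀ (m : ℕ) (P P' : Type u) [AddCommGroup P] [Module R P] [Module.Finite R P]
      [Module.Projective R P] [AddCommGroup P'] [Module R P'],
      (∀ p : PrimeSpectrum R, d + 1 ≤ rankAtStalk P p) →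
      ((P × (Fin m → R)) ≃ₗ[R] (P' × (Fin m → R))) → Nonempty (P ≃ₗ[R] P') := by
  intro m
  induction m with
  | zero =>
    intro P P' _ _ _ _ _ _ _ e
    exact ⟨(LinearEquiv.prodUnique (R := R) (M := P) (M₂ := Fin 0 → R)).symm ≪≫ₗ e ≪≫ₗ
      (LinearEquiv.prodUnique (R := R) (M := P') (M₂ := Fin 0 → R))⟩
  | succ m ih =>
    intro P P' _ _ _ _ _ _ hrk e
    have e' : ((P × R) × (Fin m → R)) ≃ₗ[R] ((P' × R) × (Fin m → R)) :=
      (rearr P m) ≪≫ₗ e ≪≫ₗ (rearr P' m).symm
    have hrk' : ∀ p : PrimeSpectrum R, d + 1 ≤ rankAtStalk (P × R) p := by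
      intro p
      rw [rankAtStalk_prod]
      have := hrk p
      simp only [Pi.add_apply]
      omega
    obtain ⟨e₁⟩ := ih (P × R) (P' × R) hrk' e'
    exact cancel_one d hdim P P' hrk e₁

theorem main_S19544 (d n : ℕ) (hdim : ringKrullDim R = d)
    (P : Type u) [AddCommGroup P] [Module R P] [Module.Finite R P] [Module.Projective R P]
    (hrk : ∀ p : PrimeSpectrum R, Module.rankAtStalk (R := R) P p = n) (hnd : d < n) :
    ∃ (P₀ Q : Submodule R P), IsCompl P₀ Q ∧ Nonempty (Q ≃ₗ[R] (Fin (n - d) → R)) := by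
  obtain ⟨P₀, _, _, ⟨e⟩⟩ := serre_equiv d hdim.le (n - d) P n hrk (by omega)
  exact isCompl_of_equiv e

theorem main_S19545 (d n : ℕ) (hdim : ringKrullDim R = d)
    (P P' : Type u) [AddCommGroup P] [Module R P] [Module.Finite R P] [Module.Projective R P]
    [AddCommGroup P'] [Module R P'] [Module.Finite R P'] [Module.Projective R P']
    (hrk : ∀ p : PrimeSpectrum R, Module.rankAtStalk (R := R) P p = n)
    (_hrk' : ∀ p : PrimeSpectrum R, Module.rankAtStalk (R := R) P' p = n) (hnd : d < n)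
    (m : ℕ) (e : (P × (Fin m → R)) ≃ₗ[R] (P' × (Fin m → R))) :
    Nonempty (P ≃ₗ[R] P') :=
  cancel d hdim.le m P P' (fun p => by rw [hrk p]; omega) e

theorem main_S19552 (d n : ℕ) (hdim : ringKrullDim R = d)
    (P Q : Type u) [AddCommGroup P] [Module R P] [Module.Finite R P] [Module.Projective R P]
    [AddCommGroup Q] [Module R Q] [Module.Finite R Q] [Module.Projective R Q]
    (hrk : ∀ p : PrimeSpectrum R, Module.rankAtStalk (R := R) P p = n)
    (hrk' : ∀ p : PrimeSpectrum R, Module.rankAtStalk (R := R) Q p = n)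
    (m : ℕ) (e : (P × (Fin m → R)) ≃ₗ[R] (Q × (Fin m → R))) :
    ∃ N : ℕ, 1 ≤ N ∧ Nonempty ((Fin N → P) ≃ₗ[R] (Fin N → Q)) := by
  by_cases hn : n = 0
  · subst hn
    have hP : Subsingleton P := by
      rw [← rankAtStalk_eq_zero_iff_subsingleton (R := R)]
      funext p; exact hrk p
    have hQ : Subsingleton Q := by
      rw [← rankAtStalk_eq_zero_iff_subsingleton (R := R)]
      funext p; exact hrk' p
    exact ⟨1, le_refl _, ⟨LinearEquiv.ofSubsingleton _ _⟩⟩
  · refine ⟨d + 1, by omega, ?_⟩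
    have hprojN : Module.Projective R (Fin (d + 1) → P) :=
      Module.Projective.of_equiv
        (DFinsupp.linearEquivFunOnFintype (R := R) (M := fun _ : Fin (d + 1) => P))
    have hrkN : ∀ p : PrimeSpectrum R, d + 1 ≤ rankAtStalk (Fin (d + 1) → P) p := by
      intro p
      rw [rankAtStalk_pi, finsum_eq_sum_of_fintype]
      simp only [hrk p, Finset.sum_const, Finset.card_univ, Fintype.card_fin, smul_eq_mul]
      have : 1 ≤ n := by omega
      nlinarith
    have E : ((Fin (d + 1) → P) × (Fin ((d + 1) * m) → R)) ≃ₗ[R]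
        ((Fin (d + 1) → Q) × (Fin ((d + 1) * m) → R)) :=
      (LinearEquiv.prodCongr (LinearEquiv.refl R _) (flatE (d + 1) m).symm) ≪≫ₗ
        (piProdE (d + 1) P (Fin m → R)).symm ≪≫ₗ
        (LinearEquiv.piCongrRight (fun _ => e)) ≪≫ₗ
        (piProdE (d + 1) Q (Fin m → R)) ≪≫ₗ
        (LinearEquiv.prodCongr (LinearEquiv.refl R _) (flatE (d + 1) m))
    exact cancel d hdim.le _ _ _ hrkN E

end Final

end Groth.Agent.Helper29.SerreBass
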