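import Mathlib

set_option linter.unusedSectionVars false
set_option autoImplicit false

namespace Groth.Agent.Helper29.SerreSplitA

open Module Submodule

universe u

variable (R : Type u) [CommRing R] (M : Type u) [AddCommGroup M] [Module R M]

/-- the subspace `B(x)` of `M(x) = M / xM`. -/
def Bq (x : MaximalSpectrum R) :
    Submodule (R ⧸ x.asIdeal) (M ⧸ (x.asIdeal • ⊤ : Submodule R M)) :=
  Submodule.span (R ⧸ x.asIdeal)
    ((x.asIdeal • ⊤ : Submodule R M).mkQ '' {m : M | ∀ φ : M →ₗ[R] R, φ m ∈ x.asIdeal})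

/-- the image of an element in `V(x) = M(x) / B(x)`. -/
def img (x : MaximalSpectrum R) (m : M) :
    (M ⧸ (x.asIdeal • ⊤ : Submodule R M)) ⧸ Bq R M x :=
  (Bq R M x).mkQ ((x.asIdeal • ⊤ : Submodule R M).mkQ m)

variable {R M}

theorem img_add (x : MaximalSpectrum R) (m m' : M) :
    img R M x (m + m') = img R M x m + img R M x m' := by
  simp [img]

theorem img_zero (x : MaximalSpectrum R) : img R M x 0 = 0 := by
  simp [img]

theorem img_smul (x : MaximalSpectrum R) (r : R) (m : M) :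
    img R M x (r • m) = Ideal.Quotient.mk x.asIdeal r • img R M x m := by
  unfold img
  rw [← map_smul, map_smul (x.asIdeal • ⊤ : Submodule R M).mkQ]
  rfl

theorem img_surjective (x : MaximalSpectrum R) : Function.Surjective (img R M x) := by
  intro y
  obtain ⟨z, rfl⟩ := Submodule.mkQ_surjective _ y
  obtain ⟨m, rfl⟩ := Submodule.mkQ_surjective _ z
  exact ⟨m, rfl⟩

theorem smul_top_le_forms (x : MaximalSpectrum R) (m : M)
    (hm : m ∈ (x.asIdeal • ⊤ : Submodule R M)) (φ : M →ₗ[R] R) : φ m ∈ x.asIdeal := by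
  refine Submodule.smul_induction_on hm (fun a ha n _ => ?_) (fun y z hy hz => ?_)
  · rw [map_smul, smul_eq_mul]; exact Ideal.mul_mem_right _ _ ha
  · rw [map_add]; exact add_mem hy hz

theorem mem_Bq_iff (x : MaximalSpectrum R) (z : M ⧸ (x.asIdeal • ⊤ : Submodule R M)) :
    z ∈ Bq R M x ↔ ∃ m : M, (∀ φ : M →ₗ[R] R, φ m ∈ x.asIdeal) ∧
      (x.asIdeal • ⊤ : Submodule R M).mkQ m = z := by
  constructor
  · intro hz
    unfold Bq at hz
    induction hz using Submodule.span_induction with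
    | mem y hy => exact hy
    | zero => exact ⟨0, fun φ => by simp, by simp⟩
    | add y z _ _ hy hz =>
      obtain ⟨m, hm, rfl⟩ := hy
      obtain ⟨m', hm', rfl⟩ := hz
      exact ⟨m + m', fun φ => by rw [map_add]; exact add_mem (hm φ) (hm' φ), by simp⟩
    | smul c y _ hy =>
      obtain ⟨m, hm, rfl⟩ := hy
      obtain ⟨r, rfl⟩ := Ideal.Quotient.mk_surjective c
      exact ⟨r • m, fun φ => by
        rw [map_smul, smul_eq_mul]; exact Ideal.mul_mem_left _ _ (hm φ), rfl⟩
  · rintro ⟨m, hm, rfl⟩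
    exact subset_span ⟨m, hm, rfl⟩

theorem img_eq_zero_iff (x : MaximalSpectrum R) (m : M) :
    img R M x m = 0 ↔ ∀ φ : M →ₗ[R] R, φ m ∈ x.asIdeal := by
  unfold img
  rw [Submodule.mkQ_apply, Submodule.Quotient.mk_eq_zero, mem_Bq_iff]
  constructor
  · rintro ⟨m', hm', h⟩ φ
    have h1 : m' - m ∈ (x.asIdeal • ⊤ : Submodule R M) := by
      rw [← Submodule.Quotient.eq]; exact h
    have h2 := smul_top_le_forms x _ h1 φ
    rw [map_sub] at h2
    have := sub_mem (hm' φ) h2
    simpa using this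
  · intro h
    exact ⟨m, h, rfl⟩

/-- independence of the images of a family at `x`. -/
def Ind (x : MaximalSpectrum R) {h : ℕ} (s : Fin h → M) : Prop :=
  LinearIndependent (R ⧸ x.asIdeal) (fun i => img R M x (s i))

theorem img_sum (x : MaximalSpectrum R) {ι : Type} (S : Finset ι) (c : ι → R) (s : ι → M) :
    img R M x (∑ j ∈ S, c j • s j) =
      ∑ j ∈ S, Ideal.Quotient.mk x.asIdeal (c j) • img R M x (s j) := by
  classical
  induction S using Finset.induction_on with
  | empty => simp [img_zero]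
  | insert a S ha ih => rw [Finset.sum_insert ha, Finset.sum_insert ha, img_add, img_smul, ih]

theorem Ind_iff (x : MaximalSpectrum R) {h : ℕ} (s : Fin h → M) :
    Ind x s ↔ ∀ c : Fin h → R, (∀ φ : M →ₗ[R] R, φ (∑ j, c j • s j) ∈ x.asIdeal) →
      ∀ j, c j ∈ x.asIdeal := by
  unfold Ind
  rw [Fintype.linearIndependent_iff]
  constructor
  · intro H c hc j
    have := H (fun j => Ideal.Quotient.mk x.asIdeal (c j))
      (by rw [← img_sum]; exact (img_eq_zero_iff _ _).mpr hc) j
    exact Ideal.Quotient.eq_zero_iff_mem.mp this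
  · intro H g hg j
    choose c hc using fun j => Ideal.Quotient.mk_surjective (g j)
    have h1 : ∀ φ : M →ₗ[R] R, φ (∑ j, c j • s j) ∈ x.asIdeal := by
      rw [← img_eq_zero_iff, img_sum]
      simp_rw [hc]
      exact hg
    rw [← hc j]
    exact Ideal.Quotient.eq_zero_iff_mem.mpr (H c h1 j)

theorem Ind_of_det (x : MaximalSpectrum R) {h : ℕ} (s : Fin h → M) (Φ : Fin h → (M →ₗ[R] R))
    (hdet : (Matrix.of fun i j => Φ i (s j)).det ∉ x.asIdeal) : Ind x s := by
  rw [Ind_iff]
  intro c hc j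
  set A : Matrix (Fin h) (Fin h) R := Matrix.of fun i j => Φ i (s j) with hA
  have h1 : ∀ i, (A.mulVec c) i ∈ x.asIdeal := by
    intro i
    have := hc (Φ i)
    rw [map_sum] at this
    simp only [map_smul, smul_eq_mul] at this
    simp only [Matrix.mulVec, dotProduct, hA, Matrix.of_apply]
    convert this using 2 with j
    ring
  have h2 : (A.adjugate.mulVec (A.mulVec c)) j ∈ x.asIdeal := by
    simp only [Matrix.mulVec, dotProduct]
    exact Ideal.sum_mem _ (fun i _ => Ideal.mul_mem_left _ _ (h1 i))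
  rw [Matrix.mulVec_mulVec, Matrix.adjugate_mul, Matrix.smul_mulVec, Matrix.one_mulVec,
    Pi.smul_apply, smul_eq_mul] at h2
  have hp : x.asIdeal.IsPrime := x.isMaximal.isPrime
  exact (hp.mem_or_mem h2).resolve_left hdet

theorem exists_det_of_Ind (x : MaximalSpectrum R) {h : ℕ} (s : Fin h → M) (hs : Ind x s) :
    ∃ Φ : Fin h → (M →ₗ[R] R), (Matrix.of fun i j => Φ i (s j)).det ∉ x.asIdeal := by
  classical
  let _ : Field (R ⧸ x.asIdeal) := Ideal.Quotient.field x.asIdeal
  let ev : (M →ₗ[R] R) → (Fin h → R ⧸ x.asIdeal) :=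
    fun φ j => Ideal.Quotient.mk x.asIdeal (φ (s j))
  let L : Submodule (R ⧸ x.asIdeal) (Fin h → R ⧸ x.asIdeal) :=
    Submodule.span (R ⧸ x.asIdeal) (Set.range ev)
  have hL : ∀ ℓ ∈ L, ∃ φ, ev φ = ℓ := by
    intro ℓ hℓ
    induction hℓ using Submodule.span_induction with
    | mem y hy => exact hy
    | zero => exact ⟨0, by funext j; simp [ev]⟩
    | add y z _ _ hy hz =>
      obtain ⟨φ, rfl⟩ := hy
      obtain ⟨ψ, rfl⟩ := hz
      exact ⟨φ + ψ, by funext j; simp [ev]⟩
    | smul c y _ hy =>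
      obtain ⟨φ, rfl⟩ := hy
      obtain ⟨r, rfl⟩ := Ideal.Quotient.mk_surjective c
      exact ⟨r • φ, by funext j; simp [ev]⟩
  have htop : L = ⊤ := by
    by_contra hne
    obtain ⟨f, hf0, hfL⟩ := Submodule.exists_le_ker_of_lt_top L (lt_top_iff_ne_top.mpr hne)
    choose c hc using fun j : Fin h =>
      Ideal.Quotient.mk_surjective (f (fun j' => if j = j' then 1 else 0))
    have h1 : ∀ φ : M →ₗ[R] R, φ (∑ j, c j • s j) ∈ x.asIdeal := by
      intro φ
      have h2 : f (ev φ) = 0 := hfL (subset_span ⟨φ, rfl⟩)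
      rw [LinearMap.pi_apply_eq_sum_univ] at h2
      rw [← Ideal.Quotient.eq_zero_iff_mem, map_sum, map_sum]
      rw [← h2]
      apply Finset.sum_congr rfl
      intro j _
      rw [map_smul, smul_eq_mul, map_mul, hc j, smul_eq_mul, mul_comm]
    have h3 := (Ind_iff x s).mp hs c h1
    apply hf0
    apply LinearMap.ext
    intro y
    rw [LinearMap.pi_apply_eq_sum_univ, LinearMap.zero_apply]
    apply Finset.sum_eq_zero
    intro j _
    rw [← hc j, Ideal.Quotient.eq_zero_iff_mem.mpr (h3 j), smul_zero]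
  have hΦ : ∀ i : Fin h, ∃ φ, ev φ = Pi.single i 1 := fun i => hL _ (by rw [htop]; trivial)
  choose Φ hΦ' using hΦ
  refine ⟨Φ, ?_⟩
  rw [← Ideal.Quotient.eq_zero_iff_mem, RingHom.map_det]
  have : (Ideal.Quotient.mk x.asIdeal).mapMatrix (Matrix.of fun i j => Φ i (s j)) = 1 := by
    ext i j
    have := congrFun (hΦ' i) j
    simp only [ev] at this
    simp only [RingHom.mapMatrix_apply, Matrix.map_apply, Matrix.of_apply, this, Matrix.one_apply,
      Pi.single_apply]
    by_cases hij : i = j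
    · subst hij; simp
    · rw [if_neg hij, if_neg (Ne.symm hij)]
  rw [this, Matrix.det_one]
  exact one_ne_zero

theorem isOpen_Ind {h : ℕ} (s : Fin h → M) : IsOpen {x : MaximalSpectrum R | Ind x s} := by
  rw [isOpen_iff_forall_mem_open]
  intro x hx
  obtain ⟨Φ, hΦ⟩ := exists_det_of_Ind x s hx
  refine ⟨{y | (Matrix.of fun i j => Φ i (s j)).det ∉ y.asIdeal}, fun y hy => Ind_of_det y s Φ hy,
    ?_, hΦ⟩
  have : {y : MaximalSpectrum R | (Matrix.of fun i j => Φ i (s j)).det ∉ y.asIdeal} =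
      MaximalSpectrum.toPrimeSpectrum ⁻¹'
        (PrimeSpectrum.basicOpen (Matrix.of fun i j => Φ i (s j)).det : Set (PrimeSpectrum R)) := by
    ext y; rfl
  rw [this]
  exact (PrimeSpectrum.basicOpen _).isOpen.preimage continuous_induced_dom

end Groth.Agent.Helper29.SerreSplitA
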