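import Mathlib
import Groth.Agent.Lib.Helper29.SerreSplitA

set_option linter.unusedSectionVars false
set_option autoImplicit false

namespace Groth.Agent.Helper29.SerreSplitB

open Module Submodule SerreSplitA

universe u

variable {R : Type u} [CommRing R] {M : Type u} [AddCommGroup M] [Module R M]

/-- the span of the images of a family at `x`. -/
def Sp (x : MaximalSpectrum R) {h : ℕ} (s : Fin h → M) :
    Submodule (R ⧸ x.asIdeal) ((M ⧸ (x.asIdeal • ⊤ : Submodule R M)) ⧸ Bq R M x) :=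
  span (R ⧸ x.asIdeal) (Set.range fun i => img R M x (s i))

theorem img_snoc (x : MaximalSpectrum R) {h : ℕ} (s : Fin h → M) (t : M) :
    (fun i => img R M x ((Fin.snoc s t : Fin (h + 1) → M) i)) =
      (Fin.snoc (fun i => img R M x (s i)) (img R M x t) :
        Fin (h + 1) → (M ⧸ (x.asIdeal • ⊤ : Submodule R M)) ⧸ Bq R M x) := by
  have := Fin.comp_snoc (img R M x) s t
  simpa [Function.comp_def] using this

theorem Ind_snoc_iff (x : MaximalSpectrum R) {h : ℕ} (s : Fin h → M) (t : M) :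
    Ind x (Fin.snoc s t : Fin (h + 1) → M) ↔ Ind x s ∧ img R M x t ∉ Sp x s := by
  let _ : Field (R ⧸ x.asIdeal) := Ideal.Quotient.field x.asIdeal
  unfold Ind Sp
  rw [img_snoc, linearIndependent_finSnoc]

theorem Sp_snoc (x : MaximalSpectrum R) {h : ℕ} (s : Fin h → M) (t : M) :
    Sp x (Fin.snoc s t : Fin (h + 1) → M) = Sp x s ⊔ span (R ⧸ x.asIdeal) {img R M x t} := by
  unfold Sp
  rw [img_snoc, Fin.range_snoc, span_insert, sup_comm]

theorem exists_indep_ext (x : MaximalSpectrum R) {h : ℕ} (s : Fin h → M)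
    (hdim : h + 1 ≤ finrank (R ⧸ x.asIdeal)
      ((M ⧸ (x.asIdeal • ⊤ : Submodule R M)) ⧸ Bq R M x)) (hs : Ind x s) :
    ∃ w : M, Ind x (Fin.snoc s w : Fin (h + 1) → M) := by
  let _ : Field (R ⧸ x.asIdeal) := Ideal.Quotient.field x.asIdeal
  have hne : Sp x s ≠ ⊤ := by
    intro htop
    have h1 : finrank (R ⧸ x.asIdeal) (Sp x s) ≤ h := by
      have := finrank_range_le_card (R := R ⧸ x.asIdeal) (fun i => img R M x (s i))
      rw [Fintype.card_fin] at this
      exact this
    rw [htop, finrank_top] at h1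
    omega
  obtain ⟨v, -, hv⟩ := SetLike.exists_of_lt (lt_top_iff_ne_top.mpr hne)
  obtain ⟨w, rfl⟩ := img_surjective x v
  exact ⟨w, (Ind_snoc_iff x s w).mpr ⟨hs, hv⟩⟩

theorem img_add_smul (x : MaximalSpectrum R) (a b : M) (r c : R) (hrc : r - c ∈ x.asIdeal) :
    img R M x (a + r • b) = img R M x a + Ideal.Quotient.mk x.asIdeal c • img R M x b := by
  rw [img_add, img_smul, (Ideal.Quotient.eq).mpr hrc]

/-- independence of `s, s', s''` gives independence of `s, s' + r s''`. -/
theorem Ind_combine (x : MaximalSpectrum R) {h : ℕ} (s : Fin h → M) (a b : M) (r : R)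
    (hind : Ind x (Fin.snoc (Fin.snoc s a : Fin (h + 1) → M) b : Fin (h + 2) → M)) :
    Ind x (Fin.snoc s (a + r • b) : Fin (h + 1) → M) := by
  let _ : Field (R ⧸ x.asIdeal) := Ideal.Quotient.field x.asIdeal
  rw [Ind_snoc_iff, Ind_snoc_iff, Sp_snoc] at hind
  obtain ⟨⟨hs, ha⟩, hb⟩ := hind
  rw [Ind_snoc_iff]
  refine ⟨hs, fun hmem => ?_⟩
  rw [img_add, img_smul] at hmem
  by_cases hr : Ideal.Quotient.mk x.asIdeal r = 0
  · rw [hr, zero_smul, add_zero] at hmem
    exact ha hmem
  · apply hb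
    have h1 : img R M x b = (Ideal.Quotient.mk x.asIdeal r)⁻¹ •
        ((img R M x a + Ideal.Quotient.mk x.asIdeal r • img R M x b) - img R M x a) := by
      rw [add_sub_cancel_left, smul_smul, inv_mul_cancel₀ hr, one_smul]
    rw [h1]
    refine Submodule.smul_mem _ _ (Submodule.sub_mem _ ?_ ?_)
    · exact Submodule.mem_sup_left hmem
    · exact Submodule.mem_sup_right (subset_span rfl)

/-- the choice of the multiplier at a point -/
theorem Ind_at_point (x : MaximalSpectrum R) {h : ℕ} (s : Fin h → M) (a b : M) (r : R)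
    (hs : Ind x s)
    (h0 : Ind x (Fin.snoc s a : Fin (h + 1) → M) → r ∈ x.asIdeal)
    (h1 : ¬ Ind x (Fin.snoc s a : Fin (h + 1) → M) →
      r - 1 ∈ x.asIdeal ∧ Ind x (Fin.snoc s b : Fin (h + 1) → M)) :
    Ind x (Fin.snoc s (a + r • b) : Fin (h + 1) → M) := by
  let _ : Field (R ⧸ x.asIdeal) := Ideal.Quotient.field x.asIdeal
  rw [Ind_snoc_iff]
  refine ⟨hs, ?_⟩
  by_cases ha : Ind x (Fin.snoc s a : Fin (h + 1) → M)
  · have hr := h0 ha
    rw [img_add, img_smul, Ideal.Quotient.eq_zero_iff_mem.mpr hr, zero_smul, add_zero]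
    exact ((Ind_snoc_iff x s a).mp ha).2
  · obtain ⟨hr, hb⟩ := h1 ha
    have ha' : img R M x a ∈ Sp x s := by
      by_contra hna
      exact ha ((Ind_snoc_iff x s a).mpr ⟨hs, hna⟩)
    have hb' := ((Ind_snoc_iff x s b).mp hb).2
    rw [img_add_smul x a b r 1 hr, map_one, one_smul]
    intro hmem
    apply hb'
    have : img R M x b = (img R M x a + img R M x b) - img R M x a := by abel
    rw [this]
    exact Submodule.sub_mem _ hmem ha'

theorem Ind_snoc_congr (x : MaximalSpectrum R) {h : ℕ} (s : Fin h → M) (a b : M)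
    (hab : img R M x a = img R M x b) :
    Ind x (Fin.snoc s a : Fin (h + 1) → M) ↔ Ind x (Fin.snoc s b : Fin (h + 1) → M) := by
  rw [Ind_snoc_iff, Ind_snoc_iff, hab]

end Groth.Agent.Helper29.SerreSplitB
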