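import Mathlib
import Groth.Agent.Lib.Helper29.SerreSplitB

set_option linter.unusedSectionVars false
set_option autoImplicit false

namespace Groth.Agent.Helper29.SerreSplitC

open Module Submodule SerreSplitA SerreSplitB

universe u

section Top

variable {Ω : Type u} [TopologicalSpace Ω]

/-- every irreducible closed subset of `G` has coheight at least `k`. -/
def CodimGE (G : Set Ω) (k : ℕ) : Prop :=
  ∀ Z : TopologicalSpace.IrreducibleCloseds Ω, (Z : Set Ω) ⊆ G → (k : ℕ∞) ≤ Order.coheight Z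

theorem exists_subset_of_irreducible (S : Set (Set Ω)) (hSf : S.Finite)
    (hScl : ∀ t ∈ S, IsClosed t) (C : Set Ω) (hC : IsIrreducible C) (hsub : C ⊆ ⋃₀ S) :
    ∃ C₁ ∈ S, C ⊆ C₁ := by
  obtain ⟨C₁, hC₁, h⟩ := (isIrreducible_iff_sUnion_isClosed.mp hC) hSf.toFinset
    (fun z hz => hScl z (hSf.mem_toFinset.mp hz)) (by simpa using hsub)
  exact ⟨C₁, hSf.mem_toFinset.mp hC₁, h⟩

theorem mem_of_coheight_lt (S : Set (Set Ω)) (hSf : S.Finite)
    (hScl : ∀ t ∈ S, IsClosed t) (hSirr : ∀ t ∈ S, IsIrreducible t) (k' : ℕ)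
    (hcod : CodimGE (⋃₀ S) k') (C : TopologicalSpace.IrreducibleCloseds Ω)
    (hC : (C : Set Ω) ⊆ ⋃₀ S) (hlt : ¬ ((k' + 1 : ℕ) : ℕ∞) ≤ Order.coheight C) :
    (C : Set Ω) ∈ S := by
  obtain ⟨C₁, hC₁, hsub⟩ := exists_subset_of_irreducible S hSf hScl C C.isIrreducible hC
  let Z₁ : TopologicalSpace.IrreducibleCloseds Ω := ⟨C₁, hSirr _ hC₁, hScl _ hC₁⟩
  have h1 : (k' : ℕ∞) ≤ Order.coheight Z₁ := hcod Z₁ (Set.subset_sUnion_of_mem hC₁)
  by_cases heq : C = Z₁
  · rw [heq]; exact hC₁
  · exfalso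
    have hlt' : C < Z₁ := lt_of_le_of_ne hsub heq
    have h2 := Order.coheight_add_one_le hlt'
    apply hlt
    calc ((k' + 1 : ℕ) : ℕ∞) = (k' : ℕ∞) + 1 := by push_cast; rfl
      _ ≤ Order.coheight Z₁ + 1 := by gcongr
      _ ≤ Order.coheight C := h2

theorem exists_points (S : Set (Set Ω)) (hSf : S.Finite) (G : Set Ω) :
    ∃ T : Finset Ω, (∀ y ∈ T, y ∉ G ∧ ∃ C ∈ S, y ∈ C) ∧
      ∀ C ∈ S, ¬ C ⊆ G → ∃ y ∈ T, y ∈ C := by
  classical
  induction S, hSf using Set.Finite.induction_on with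
  | empty => exact ⟨∅, by simp, by simp⟩
  | insert ha hS ih =>
    rename_i a S
    obtain ⟨T, hT1, hT2⟩ := ih
    by_cases hsub : a ⊆ G
    · refine ⟨T, fun y hy => ⟨(hT1 y hy).1, ?_⟩, ?_⟩
      · obtain ⟨C, hC, hyC⟩ := (hT1 y hy).2
        exact ⟨C, Set.mem_insert_of_mem _ hC, hyC⟩
      · intro C hC hCG
        rcases hC with rfl | hC
        · exact absurd hsub hCG
        · exact hT2 C hC hCG
    · obtain ⟨y, hya, hyG⟩ := Set.not_subset.mp hsub
      refine ⟨insert y T, ?_, ?_⟩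
      · intro z hz
        rcases Finset.mem_insert.mp hz with rfl | hz
        · exact ⟨hyG, a, Set.mem_insert _ _, hya⟩
        · obtain ⟨C, hC, hzC⟩ := (hT1 z hz).2
          exact ⟨(hT1 z hz).1, C, Set.mem_insert_of_mem _ hC, hzC⟩
      · intro C hC hCG
        rcases hC with rfl | hC
        · exact ⟨y, Finset.mem_insert_self _ _, hya⟩
        · obtain ⟨z, hz, hzC⟩ := hT2 C hC hCG
          exact ⟨z, Finset.mem_insert_of_mem hz, hzC⟩

end Top

section CRT

variable {R : Type u} [CommRing R] {M : Type u} [AddCommGroup M] [Module R M]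

theorem exists_crt_ring (T : Finset (MaximalSpectrum R)) (c : MaximalSpectrum R → R) :
    ∃ r : R, ∀ y ∈ T, r - c y ∈ y.asIdeal := by
  have hI : Pairwise (Function.onFun IsCoprime fun i : T => i.1.asIdeal) := by
    intro i j hij
    have := i.1.isMaximal
    have := j.1.isMaximal
    exact Ideal.isCoprime_of_isMaximal (fun h => hij (Subtype.ext (MaximalSpectrum.ext h)))
  obtain ⟨r, hr⟩ := Ideal.exists_forall_sub_mem_ideal hI (fun i => c i.1)
  exact ⟨r, fun y hy => hr ⟨y, hy⟩⟩

theorem exists_crt_module (T : Finset (MaximalSpectrum R)) (v : MaximalSpectrum R → M) :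
    ∃ t : M, ∀ x ∈ T, t - v x ∈ (x.asIdeal • ⊤ : Submodule R M) := by
  classical
  have he : ∀ y : MaximalSpectrum R, ∃ e : R, ∀ x ∈ T,
      e - (if x = y then 1 else 0) ∈ x.asIdeal :=
    fun y => exists_crt_ring T (fun x => if x = y then 1 else 0)
  choose e he using he
  refine ⟨∑ y ∈ T, e y • v y, fun x hx => ?_⟩
  have h1 : ∑ y ∈ T, e y • v y - v x = ∑ y ∈ T, (e y - if x = y then 1 else 0) • v y := by
    simp only [sub_smul, Finset.sum_sub_distrib, ite_smul, one_smul, zero_smul,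
      Finset.sum_ite_eq, hx, if_true]
  rw [h1]
  exact Submodule.sum_mem _ (fun y _ => Submodule.smul_mem_smul (he y x hx) mem_top)

theorem img_eq_of_sub_mem (x : MaximalSpectrum R) (a b : M)
    (h : a - b ∈ (x.asIdeal • ⊤ : Submodule R M)) : img R M x a = img R M x b := by
  unfold img
  congr 1
  rw [Submodule.mkQ_apply, Submodule.mkQ_apply, Submodule.Quotient.eq]
  exact h

end CRT

section Main

variable {R : Type u} [CommRing R] {M : Type u} [AddCommGroup M] [Module R M]

theorem isClosed_notInd {h : ℕ} (s : Fin h → M) :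
    IsClosed {x : MaximalSpectrum R | ¬ Ind x s} :=
  isClosed_compl_iff.mpr (isOpen_Ind (R := R) s)

variable [TopologicalSpace.NoetherianSpace (MaximalSpectrum R)]

theorem main_aux (k : ℕ) :
    ∀ (h : ℕ) (s : Fin h → M) (F : Set (MaximalSpectrum R)), IsClosed F →
      ∀ (T : Finset (MaximalSpectrum R)), (∀ x ∈ T, x ∈ F) → ∀ (v : MaximalSpectrum R → M),
      (∀ x : MaximalSpectrum R, h + k ≤ finrank (R ⧸ x.asIdeal)
        ((M ⧸ (x.asIdeal • ⊤ : Submodule R M)) ⧸ Bq R M x)) →
      (∀ x, ¬ Ind x s → x ∈ F) →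
      ∃ (t : M) (F' : Set (MaximalSpectrum R)), IsClosed F' ∧
        (∀ x ∈ T, img R M x t = img R M x (v x)) ∧
        (∀ x, ¬ Ind x (Fin.snoc s t : Fin (h + 1) → M) → x ∈ F ∪ F') ∧ CodimGE F' k := by
  induction k with
  | zero =>
    intro h s F hF T hT v hdim hZ
    obtain ⟨t, ht⟩ := exists_crt_module T v
    exact ⟨t, Set.univ, isClosed_univ, fun x hx => img_eq_of_sub_mem x _ _ (ht x hx),
      fun x _ => Or.inr trivial, fun Z _ => by simp⟩
  | succ k' ih =>
    intro h s F hF T hT v hdim hZ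
    classical
    -- step 1
    obtain ⟨s', F₁, hF₁, ha₁, hb₁, hc₁⟩ :=
      ih h s F hF T hT v (fun x => by have := hdim x; omega) hZ
    -- step 2: decomposition of F₁
    obtain ⟨S₁, hS₁f, hS₁cl, hS₁irr, hS₁eq⟩ :=
      TopologicalSpace.NoetherianSpace.exists_finite_set_isClosed_irreducible hF₁
    obtain ⟨T₁, hT₁a, hT₁b⟩ := exists_points S₁ hS₁f F
    -- step 3: w
    have hw : ∀ x : MaximalSpectrum R, ∃ w : M,
        Ind x s → Ind x (Fin.snoc s w : Fin (h + 1) → M) := by
      intro x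
      by_cases hx : Ind x s
      · obtain ⟨w, hw⟩ := exists_indep_ext x s (by have := hdim x; omega) hx
        exact ⟨w, fun _ => hw⟩
      · exact ⟨0, fun h' => absurd h' hx⟩
    choose w hw using hw
    -- step 4
    let v₂ : MaximalSpectrum R → M := fun x => if x ∈ T₁ then w x else 0
    have hT₁F₁ : ∀ y ∈ T₁, y ∈ F₁ := by
      intro y hy
      obtain ⟨C, hC, hyC⟩ := (hT₁a y hy).2
      rw [hS₁eq]; exact ⟨C, hC, hyC⟩
    obtain ⟨s'', F₂, hF₂, ha₂, hb₂, hc₂⟩ := ih (h + 1) (Fin.snoc s s') (F ∪ F₁) (hF.union hF₁)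
      (T ∪ T₁)
      (fun x hx => by
        rcases Finset.mem_union.mp hx with hx | hx
        · exact Or.inl (hT x hx)
        · exact Or.inr (hT₁F₁ x hx)) v₂
      (fun x => by have := hdim x; omega) hb₁
    -- step 5
    obtain ⟨S₂, hS₂f, hS₂cl, hS₂irr, hS₂eq⟩ :=
      TopologicalSpace.NoetherianSpace.exists_finite_set_isClosed_irreducible hF₂
    obtain ⟨T₃, hT₃a, hT₃b⟩ := exists_points S₂ hS₂f (F ∪ F₁)
    -- step 6
    let c : MaximalSpectrum R → R :=
      fun y => if Ind y (Fin.snoc s s' : Fin (h + 1) → M) then 0 else 1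
    obtain ⟨r, hr⟩ := exists_crt_ring (T₁ ∪ T₃) c
    -- step 7
    have hK : ∀ y ∈ T₁ ∪ T₃, Ind y (Fin.snoc s (s' + r • s'') : Fin (h + 1) → M) := by
      intro y hy
      have hry := hr y hy
      rcases Finset.mem_union.mp hy with hy1 | hy3
      · have hyF : y ∉ F := (hT₁a y hy1).1
        have hys : Ind y s := by by_contra hn; exact hyF (hZ y hn)
        have hs''y : img R M y s'' = img R M y (w y) := by
          have := ha₂ y (Finset.mem_union_right _ hy1)
          simpa [v₂, hy1] using this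
        apply Ind_at_point y s s' s'' r hys
        · intro hind
          have : c y = 0 := by simp [c, hind]
          rw [this, sub_zero] at hry; exact hry
        · intro hnind
          have : c y = 1 := by simp [c, hnind]
          rw [this] at hry
          exact ⟨hry, (Ind_snoc_congr y s s'' (w y) hs''y).mpr (hw y hys)⟩
      · have hyFF : y ∉ F ∪ F₁ := (hT₃a y hy3).1
        have hind : Ind y (Fin.snoc s s' : Fin (h + 1) → M) := by
          by_contra hn; exact hyFF (hb₁ y hn)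
        have hys : Ind y s := ((Ind_snoc_iff y s s').mp hind).1
        apply Ind_at_point y s s' s'' r hys
        · intro _
          have : c y = 0 := by simp [c, hind]
          rw [this, sub_zero] at hry; exact hry
        · intro hn; exact absurd hind hn
    have hG : ∀ x, Ind x (Fin.snoc (Fin.snoc s s' : Fin (h + 1) → M) s'' : Fin (h + 2) → M) →
        Ind x (Fin.snoc s (s' + r • s'') : Fin (h + 1) → M) :=
      fun x hx => Ind_combine x s s' s'' r hx
    have hZt : IsClosed {x : MaximalSpectrum R |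
        ¬ Ind x (Fin.snoc s (s' + r • s'') : Fin (h + 1) → M)} := isClosed_notInd _
    obtain ⟨S, hSf, hScl, hSirr, hSeq⟩ :=
      TopologicalSpace.NoetherianSpace.exists_finite_set_isClosed_irreducible hZt
    let S' : Set (Set (MaximalSpectrum R)) := {C | C ∈ S ∧ ¬ C ⊆ F}
    have hS'f : S'.Finite := hSf.subset (fun C hC => hC.1)
    refine ⟨s' + r • s'', ⋃₀ S', ?_, ?_, ?_, ?_⟩
    · rw [Set.sUnion_eq_biUnion]
      exact hS'f.isClosed_biUnion (fun C hC => hScl C hC.1)
    · intro x hx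
      have hxT₁ : x ∉ T₁ := fun hx1 => (hT₁a x hx1).1 (hT x hx)
      have h2 : img R M x s'' = 0 := by
        have := ha₂ x (Finset.mem_union_left _ hx)
        simpa [v₂, hxT₁, img_zero] using this
      rw [img_add, img_smul, h2, smul_zero, add_zero]
      exact ha₁ x hx
    · intro x hx
      have hxZ : x ∈ ⋃₀ S := by rw [← hSeq]; exact hx
      obtain ⟨C, hC, hxC⟩ := hxZ
      by_cases hCF : C ⊆ F
      · exact Or.inl (hCF hxC)
      · exact Or.inr ⟨C, ⟨hC, hCF⟩, hxC⟩
    · intro Z hZsub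
      obtain ⟨C, hC, hZC⟩ := exists_subset_of_irreducible S' hS'f (fun t ht => hScl t ht.1) Z
        Z.isIrreducible hZsub
      let ZC : TopologicalSpace.IrreducibleCloseds (MaximalSpectrum R) :=
        ⟨C, hSirr C hC.1, hScl C hC.1⟩
      have hle : Order.coheight ZC ≤ Order.coheight Z :=
        Order.coheight_anti (show Z ≤ ZC from hZC)
      refine le_trans ?_ hle
      by_contra hlt
      have hCZt : C ⊆ {x | ¬ Ind x (Fin.snoc s (s' + r • s'') : Fin (h + 1) → M)} := by
        rw [hSeq]; exact Set.subset_sUnion_of_mem hC.1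
      have hCsub : C ⊆ (F ∪ F₁) ∪ F₂ := fun x hx => hb₂ x (fun hind => hCZt hx (hG x hind))
      have hno : ∀ y ∈ T₁ ∪ T₃, y ∉ C := fun y hy hyC => hCZt hyC (hK y hy)
      have hCirr : IsIrreducible C := hSirr C hC.1
      by_cases h5 : C ⊆ F ∪ F₁
      · rcases (isPreirreducible_iff_isClosed_union_isClosed.mp hCirr.isPreirreducible) F F₁ hF hF₁
          h5 with h4 | h4
        · exact hC.2 h4
        · have hmem : (ZC : Set (MaximalSpectrum R)) ∈ S₁ :=
            mem_of_coheight_lt S₁ hS₁f hS₁cl hS₁irr k' (by rw [← hS₁eq]; exact hc₁) ZC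
              (by rw [← hS₁eq]; exact h4) hlt
          obtain ⟨y, hy, hyC⟩ := hT₁b C hmem hC.2
          exact hno y (Finset.mem_union_left _ hy) hyC
      · have h3 : C ⊆ F₂ := by
          rcases (isPreirreducible_iff_isClosed_union_isClosed.mp hCirr.isPreirreducible) (F ∪ F₁)
            F₂ (hF.union hF₁) hF₂ hCsub with h | h
          · exact absurd h h5
          · exact h
        have hmem : (ZC : Set (MaximalSpectrum R)) ∈ S₂ :=
          mem_of_coheight_lt S₂ hS₂f hS₂cl hS₂irr k' (by rw [← hS₂eq]; exact hc₂) ZC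
            (by rw [← hS₂eq]; exact h3) hlt
        obtain ⟨y, hy, hyC⟩ := hT₃b C hmem h5
        exact hno y (Finset.mem_union_right _ hy) hyC

theorem main (R : Type u) [CommRing R] [TopologicalSpace.NoetherianSpace (MaximalSpectrum R)]
    (M : Type u) [AddCommGroup M] [Module R M]
    (h : ℕ) (s : Fin h → M) (F : Set (MaximalSpectrum R)) (hF : IsClosed F)
    (n : ℕ) (xs : Fin n → MaximalSpectrum R) (hxs : Function.Injective xs) (hxF : ∀ i, xs i ∈ F)
    (v : ∀ i : Fin n, M ⧸ ((xs i).asIdeal • ⊤ : Submodule R M)) (k : ℕ)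
    (hdim : ∀ x : MaximalSpectrum R, h + k ≤ finrank (R ⧸ x.asIdeal)
      ((M ⧸ (x.asIdeal • ⊤ : Submodule R M)) ⧸ Bq R M x))
    (hZ : ∀ x : MaximalSpectrum R,
      ¬ LinearIndependent (R ⧸ x.asIdeal) (fun i => img R M x (s i)) → x ∈ F) :
    ∃ (t : M) (F' : Set (MaximalSpectrum R)), IsClosed F' ∧
      (∀ i : Fin n, img R M (xs i) t = (Bq R M (xs i)).mkQ (v i)) ∧
      (∀ x : MaximalSpectrum R,
        ¬ LinearIndependent (R ⧸ x.asIdeal)
          (Fin.snoc (fun i => img R M x (s i)) (img R M x t) :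
            Fin (h + 1) → (M ⧸ (x.asIdeal • ⊤ : Submodule R M)) ⧸ Bq R M x) → x ∈ F ∪ F') ∧
      ∀ Z : TopologicalSpace.IrreducibleCloseds (MaximalSpectrum R),
        (Z : Set (MaximalSpectrum R)) ⊆ F' → (k : ℕ∞) ≤ Order.coheight Z := by
  classical
  have hlift : ∀ i, ∃ m : M, ((xs i).asIdeal • ⊤ : Submodule R M).mkQ m = v i :=
    fun i => Submodule.mkQ_surjective _ (v i)
  choose vt hvt using hlift
  let v' : MaximalSpectrum R → M := fun x => if hx : ∃ i, xs i = x then vt hx.choose else 0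
  obtain ⟨t, F', hF', ha, hb, hc⟩ := main_aux k h s F hF (Finset.univ.image xs)
    (fun x hx => by
      obtain ⟨i, -, rfl⟩ := Finset.mem_image.mp hx
      exact hxF i) v' hdim hZ
  refine ⟨t, F', hF', fun i => ?_, fun x hx => hb x ?_, hc⟩
  · rw [ha (xs i) (Finset.mem_image_of_mem _ (Finset.mem_univ i))]
    have hex : ∃ j, xs j = xs i := ⟨i, rfl⟩
    have hch : hex.choose = i := hxs hex.choose_spec
    have hv' : v' (xs i) = vt i := by
      simp only [v', dif_pos hex, hch]
    rw [hv']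
    unfold img
    rw [hvt i]
  · unfold Ind
    rw [img_snoc]
    exact hx

end Main

end Groth.Agent.Helper29.SerreSplitC
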