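import Mathlib
import Groth.Agent.Lib.Helper29.SerreSplitC

set_option linter.unusedSectionVars false
set_option autoImplicit false

namespace Groth.Agent.Helper29.SerreSplitD

open Module Submodule SerreSplitA SerreSplitB SerreSplitC

universe u

variable {R : Type u} [CommRing R] {M : Type u} [AddCommGroup M] [Module R M]

theorem finite_fiber [Module.Finite R M] (x : MaximalSpectrum R) :
    Module.Finite (R ⧸ x.asIdeal) ((M ⧸ (x.asIdeal • ⊤ : Submodule R M)) ⧸ Bq R M x) := by
  classical
  obtain ⟨n, g, hg⟩ := (Module.Finite.exists_fin : ∃ (n : ℕ) (s : Fin n → M), span R (Set.range s) = ⊤)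
  constructor
  refine ⟨Finset.univ.image (fun l => img R M x (g l)), ?_⟩
  rw [eq_top_iff]
  rintro v -
  obtain ⟨m, rfl⟩ := img_surjective x v
  have hm : m ∈ span R (Set.range g) := by rw [hg]; trivial
  obtain ⟨c, rfl⟩ := (Submodule.mem_span_range_iff_exists_fun R).mp hm
  rw [img_sum]
  refine Submodule.sum_mem _ (fun l _ => Submodule.smul_mem _ _ (subset_span ?_))
  simp

theorem finrank_ge_of_local_summand [Module.FinitePresentation R M] (x : MaximalSpectrum R)
    (n : ℕ)
    (f : (Fin n → Localization.AtPrime x.asIdeal) →ₗ[Localization.AtPrime x.asIdeal]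
      LocalizedModule x.asIdeal.primeCompl M)
    (g : LocalizedModule x.asIdeal.primeCompl M →ₗ[Localization.AtPrime x.asIdeal]
      (Fin n → Localization.AtPrime x.asIdeal))
    (hgf : g ∘ₗ f = LinearMap.id) :
    n ≤ finrank (R ⧸ x.asIdeal) ((M ⧸ (x.asIdeal • ⊤ : Submodule R M)) ⧸ Bq R M x) := by
  classical
  let S := x.asIdeal.primeCompl
  let Rm := Localization.AtPrime x.asIdeal
  -- the elements
  have h1 : ∀ j : Fin n, ∃ p : M × S,
      p.2 • f (Pi.single j 1) = LocalizedModule.mkLinearMap S M p.1 :=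
    fun j => IsLocalizedModule.surj S (LocalizedModule.mkLinearMap S M) (f (Pi.single j 1))
  choose p hp using h1
  -- the forms
  let G : Fin n → (M →ₗ[R] Rm) := fun i =>
    (((LinearMap.proj i : (Fin n → Rm) →ₗ[Rm] Rm) ∘ₗ g).restrictScalars R) ∘ₗ
      LocalizedModule.mkLinearMap S M
  have h2 : ∀ i : Fin n, ∃ (φ : M →ₗ[R] R) (t : S), Algebra.linearMap R Rm ∘ₗ φ = t • G i :=
    fun i => Module.FinitePresentation.exists_lift_of_isLocalizedModule S
      (Algebra.linearMap R Rm) (G i)
  choose Φ t hΦ using h2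
  have hval : ∀ i j, algebraMap R Rm (Φ i (p j).1) =
      algebraMap R Rm ((t i : R) * ((p j).2 : R)) * (if i = j then 1 else 0) := by
    intro i j
    have e1 := LinearMap.congr_fun (hΦ i) (p j).1
    simp only [LinearMap.comp_apply, Algebra.linearMap_apply, LinearMap.smul_apply] at e1
    rw [e1]
    simp only [G, LinearMap.comp_apply, LinearMap.restrictScalars_apply, LinearMap.proj_apply]
    rw [← hp j]
    have e2 : g ((p j).2 • f (Pi.single j 1)) = ((p j).2 : R) • g (f (Pi.single j 1)) := by
      rw [Submonoid.smul_def, ← algebraMap_smul Rm ((p j).2 : R), map_smul, algebraMap_smul]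
    rw [e2]
    have e3 : g (f (Pi.single j 1)) = Pi.single j 1 := LinearMap.congr_fun hgf _
    rw [e3]
    rw [Pi.smul_apply, Pi.single_apply, Submonoid.smul_def, Algebra.smul_def, Algebra.smul_def,
      map_mul]
    split_ifs <;> ring
  have hdet : (Matrix.of fun i j => Φ i ((p j).1)).det ∉ x.asIdeal := by
    intro hmem
    have hunit : ¬ IsUnit (algebraMap R Rm (Matrix.of fun i j => Φ i ((p j).1)).det) := by
      rw [IsLocalization.AtPrime.isUnit_to_map_iff Rm x.asIdeal]
      exact fun h => h hmem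
    apply hunit
    rw [RingHom.map_det]
    have hdiag : (algebraMap R Rm).mapMatrix (Matrix.of fun i j => Φ i ((p j).1)) =
        Matrix.diagonal (fun i => algebraMap R Rm ((t i : R) * ((p i).2 : R))) := by
      ext i j
      simp only [RingHom.mapMatrix_apply, Matrix.map_apply, Matrix.of_apply, hval,
        Matrix.diagonal_apply]
      split_ifs with h
      · subst h; ring
      · ring
    rw [hdiag, Matrix.det_diagonal]
    refine Finset.prod_induction _ IsUnit (fun a b ha hb => ha.mul hb) isUnit_one (fun i _ => ?_)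
    exact IsLocalization.map_units Rm (⟨(t i : R) * ((p i).2 : R), mul_mem (t i).2 (p i).2.2⟩ : S)
  have hind : Ind x (fun j => (p j).1) := Ind_of_det x _ Φ hdet
  have hfin := finite_fiber (M := M) x
  let _ : Field (R ⧸ x.asIdeal) := Ideal.Quotient.field x.asIdeal
  have hle := LinearIndependent.fintype_card_le_finrank hind
  rw [Fintype.card_fin] at hle
  exact hle

theorem main7113 (R : Type u) [CommRing R] (d : ℕ)
    [TopologicalSpace.NoetherianSpace (MaximalSpectrum R)]
    (hdim : topologicalKrullDim (MaximalSpectrum R) ≤ d)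
    (M : Type u) [AddCommGroup M] [Module R M] [Module.FinitePresentation R M]
    (hM : ∀ (m : Ideal R) [m.IsMaximal],
      ∃ (f : (Fin (d + 1) → Localization.AtPrime m) →ₗ[Localization.AtPrime m]
          LocalizedModule m.primeCompl M)
        (g : LocalizedModule m.primeCompl M →ₗ[Localization.AtPrime m]
          (Fin (d + 1) → Localization.AtPrime m)),
        g ∘ₗ f = LinearMap.id) :
    ∃ (s : M) (φ : M →ₗ[R] R), φ s = 1 := by
  classical
  have hV : ∀ x : MaximalSpectrum R, 0 + (d + 1) ≤ finrank (R ⧸ x.asIdeal)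
      ((M ⧸ (x.asIdeal • ⊤ : Submodule R M)) ⧸ Bq R M x) := by
    intro x
    obtain ⟨f, g, hgf⟩ := hM x.asIdeal
    rw [zero_add]
    exact finrank_ge_of_local_summand x (d + 1) f g hgf
  obtain ⟨t, F', -, -, hb, hc⟩ := main_aux (R := R) (M := M) (d + 1) 0 (fun i => i.elim0) ∅
    isClosed_empty ∅ (by simp) (fun _ => 0) hV (fun x hx => by
      exfalso
      apply hx
      unfold Ind
      exact linearIndependent_empty_type)
  have hF' : F' = ∅ := by
    rw [Set.eq_empty_iff_forall_notMem]
    intro x hx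
    let Z : TopologicalSpace.IrreducibleCloseds (MaximalSpectrum R) :=
      ⟨{x}, isIrreducible_singleton, isClosed_singleton⟩
    have h1 := hc Z (by simpa [Z] using hx)
    have h2 : (Order.coheight Z : WithBot ℕ∞) ≤ topologicalKrullDim (MaximalSpectrum R) :=
      Order.coheight_le_krullDim Z
    have h3 : ((Order.coheight Z : ℕ∞) : WithBot ℕ∞) ≤ ((d : ℕ∞) : WithBot ℕ∞) := h2.trans hdim
    rw [WithBot.coe_le_coe] at h3
    have h4 := h1.trans h3
    have h5 : (d + 1 : ℕ) ≤ d := by exact_mod_cast h4
    omega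
  have hne : ∀ x : MaximalSpectrum R, ∃ φ : M →ₗ[R] R, φ t ∉ x.asIdeal := by
    intro x
    have hind : Ind x (Fin.snoc (fun i : Fin 0 => (i.elim0 : M)) t : Fin (0 + 1) → M) := by
      by_contra hn
      have := hb x hn
      rw [hF'] at this
      simp at this
    have h0 : img R M x t ≠ 0 := by
      intro h0
      apply ((Ind_snoc_iff x _ t).mp hind).2
      rw [h0]
      exact zero_mem _
    rw [Ne, img_eq_zero_iff] at h0
    push Not at h0
    exact h0
  let I : Ideal R := LinearMap.range (LinearMap.applyₗ t : (M →ₗ[R] R) →ₗ[R] R)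
  have hI : I = ⊤ := by
    by_contra hI
    obtain ⟨m, hm, hIm⟩ := Ideal.exists_le_maximal I hI
    obtain ⟨φ, hφ⟩ := hne ⟨m, hm⟩
    exact hφ (hIm ⟨φ, rfl⟩)
  have h1 : (1 : R) ∈ I := by rw [hI]; trivial
  obtain ⟨φ, hφ⟩ := h1
  exact ⟨t, φ, hφ⟩

end Groth.Agent.Helper29.SerreSplitD
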