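import Groth.Agent.Lib.Helper29.ShQBase
import Mathlib.CategoryTheory.Sites.CartesianMonoidal
import Mathlib.CategoryTheory.Sites.Sheafification
import Mathlib.CategoryTheory.Sites.Limits
import Mathlib.CategoryTheory.Monoidal.Cartesian.Grp
import Mathlib.CategoryTheory.Monoidal.Grp

/-!
# Generalized-element calculus in topos-like categories

We work in an abstract category `𝒮` (to be instantiated with `Sheaf J (Type w)`) in which
epimorphisms are regular and stable under base change and equivalence relations are effective.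
-/

set_option autoImplicit false
open CategoryTheory CategoryTheory.Limits MonoidalCategory CartesianMonoidalCategory
universe w v₁ u₁ v u

namespace Groth.Agent.Helper29.ShQA

/-- The exactness properties of a topos which we use. -/
class Topish (𝒮 : Type u) [Category.{v} 𝒮] : Prop where
  epi_of_isPullback : ∀ {X Y X' Y' : 𝒮} {f : X ⟶ Y} {i₁ : X' ⟶ X} {i₂ : Y' ⟶ Y} {f' : X' ⟶ Y'},
    Epi f → IsPullback f' i₁ i₂ f → Epi f'
  effective : ∀ {R X : 𝒮} {p₁ p₂ : R ⟶ X}, EquivalenceRelation p₁ p₂ →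
    Nonempty (EffectiveEquivalenceRelation p₁ p₂)

section General

variable {D : Type*} [Category D]

/-- A square is a pullback as soon as it has the universal property on generalized elements. -/
theorem isPullback_of_existsUnique {P X Y Z : D} (fst : P ⟶ X) (snd : P ⟶ Y) (f : X ⟶ Z) (g : Y ⟶ Z)
    (w : fst ≫ f = snd ≫ g)
    (h : ∀ (W : D) (a : W ⟶ X) (b : W ⟶ Y), a ≫ f = b ≫ g → ∃ l : W ⟶ P, l ≫ fst = a ∧ l ≫ snd = b)
    (hu : ∀ (W : D) (l l' : W ⟶ P), l ≫ fst = l' ≫ fst → l ≫ snd = l' ≫ snd → l = l') :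
    IsPullback fst snd f g := by
  refine ⟨⟨w⟩, ⟨PullbackCone.IsLimit.mk w (fun s => (h s.pt s.fst s.snd s.condition).choose)
    (fun s => (h s.pt s.fst s.snd s.condition).choose_spec.1)
    (fun s => (h s.pt s.fst s.snd s.condition).choose_spec.2) ?_⟩⟩
  intro s m h1 h2
  apply hu
  · rw [h1, (h s.pt s.fst s.snd s.condition).choose_spec.1]
  · rw [h2, (h s.pt s.fst s.snd s.condition).choose_spec.2]

end General

section Abstract

variable {𝒮 : Type u} [Category.{v} 𝒮] [HasPullbacks 𝒮] [IsRegularEpiCategory 𝒮] [Topish 𝒮]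

/-- Epimorphisms are stable under base change. -/
theorem epi_of_isPullback {X Y X' Y' : 𝒮} {f : X ⟶ Y} [hf : Epi f] {i₁ : X' ⟶ X}
    {i₂ : Y' ⟶ Y} {f' : X' ⟶ Y'} (h : IsPullback f' i₁ i₂ f) : Epi f' :=
  Topish.epi_of_isPullback hf h

omit [HasPullbacks 𝒮] [Topish 𝒮] in
/-- descent of a morphism along an epimorphism. -/
theorem epi_desc {A B Z : 𝒮} (f : A ⟶ B) [Epi f] (g : A ⟶ Z)
    (h : ∀ (Y : 𝒮) (a b : Y ⟶ A), a ≫ f = b ≫ f → a ≫ g = b ≫ g) :
    ∃ d : B ⟶ Z, f ≫ d = g := by
  have hr : IsRegularEpi f := IsRegularEpiCategory.regularEpiOfEpi f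
  obtain ⟨r⟩ := hr.regularEpi
  exact ⟨Cofork.IsColimit.desc r.isColimit g (h _ _ _ r.w), Cofork.IsColimit.π_desc r.isColimit⟩

/-- refinement: generalized elements lift along epimorphisms after an epi base change. -/
theorem exists_refinement {A B Y : 𝒮} (f : A ⟶ B) [Epi f] (b : Y ⟶ B) :
    ∃ (Y' : 𝒮) (e : Y' ⟶ Y) (a : Y' ⟶ A), Epi e ∧ a ≫ f = e ≫ b := by
  refine ⟨pullback b f, pullback.fst b f, pullback.snd b f, ?_, pullback.condition.symm⟩
  exact epi_of_isPullback (IsPullback.of_hasPullback b f)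

omit [HasPullbacks 𝒮] [Topish 𝒮] in
/-- factorization through a monomorphism can be checked after an epi base change. -/
theorem factor_of_epi {W' W Z T : 𝒮} (e : W' ⟶ W) [Epi e] (ι : Z ⟶ T) [Mono ι]
    (t : W ⟶ T) (z' : W' ⟶ Z) (hz : z' ≫ ι = e ≫ t) : ∃ z : W ⟶ Z, z ≫ ι = t := by
  obtain ⟨z, hz'⟩ := epi_desc e z' (fun Y a b hab => by
    rw [← cancel_mono ι, Category.assoc, Category.assoc, hz, reassoc_of% hab])
  refine ⟨z, ?_⟩
  rw [← cancel_epi e, reassoc_of% hz', hz]

variable [CartesianMonoidalCategory 𝒮]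

omit [HasPullbacks 𝒮] [IsRegularEpiCategory 𝒮] [Topish 𝒮] in
theorem isPullback_whiskerLeft (X : 𝒮) {A B : 𝒮} (f : A ⟶ B) :
    IsPullback (X ◁ f) (snd X A) (snd X B) f := by
  refine isPullback_of_existsUnique _ _ _ _ (by simp) ?_ ?_
  · intro W a b hab
    refine ⟨lift (a ≫ fst _ _) b, ?_, by simp⟩
    apply CartesianMonoidalCategory.hom_ext
    · simp
    · simp [hab]
  · intro W l l' h1 h2
    apply CartesianMonoidalCategory.hom_ext
    · have := h1 =≫ fst _ _
      simpa using this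
    · exact h2

omit [HasPullbacks 𝒮] [IsRegularEpiCategory 𝒮] [Topish 𝒮] in
theorem isPullback_whiskerRight (X : 𝒮) {A B : 𝒮} (f : A ⟶ B) :
    IsPullback (f ▷ X) (fst A X) (fst B X) f := by
  refine isPullback_of_existsUnique _ _ _ _ (by simp) ?_ ?_
  · intro W a b hab
    refine ⟨lift b (a ≫ snd _ _), ?_, by simp⟩
    apply CartesianMonoidalCategory.hom_ext
    · simp [hab]
    · simp
  · intro W l l' h1 h2
    apply CartesianMonoidalCategory.hom_ext
    · exact h2
    · have := h1 =≫ snd _ _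
      simpa using this

instance epi_whiskerLeft (X : 𝒮) {A B : 𝒮} (f : A ⟶ B) [Epi f] :
    Epi (X ◁ f) := epi_of_isPullback (isPullback_whiskerLeft X f)

instance epi_whiskerRight (X : 𝒮) {A B : 𝒮} (f : A ⟶ B) [Epi f] :
    Epi (f ▷ X) := epi_of_isPullback (isPullback_whiskerRight X f)

instance epi_tensorHom {A B A' B' : 𝒮} (f : A ⟶ B) (g : A' ⟶ B') [Epi f] [Epi g] :
    Epi (f ⊗ₘ g) := by
  rw [tensorHom_def]
  infer_instance

end Abstract

section Sheaf

variable {C : Type u₁} [Category.{v₁} C] {J : GrothendieckTopology C} [HasSheafify J (Type w)]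

instance : Topish (Sheaf J (Type w)) where
  epi_of_isPullback {X Y X' Y' f i₁ i₂ f'} hf h :=
    ShQBase.sheaf_epi_of_isPullback J f i₁ i₂ f' h
  effective e := ⟨ShQBase.sheafEffective e⟩

end Sheaf

end Groth.Agent.Helper29.ShQA
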