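import Groth.Agent.Lib.Helper29.ShQA

/-!
# Quotient of a group object by a subgroup object: kernel pair and the induced action
-/

set_option autoImplicit false
open CategoryTheory CategoryTheory.Limits MonoidalCategory CartesianMonoidalCategory MonObj
universe v u

namespace Groth.Agent.Helper29.ShQB
open ShQA

section EqRel

variable {𝒮 : Type u} [Category.{v} 𝒮]

/-- the quotient map of an equivalence relation (any coequalizer) has the relation as kernel pair. -/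
theorem isKernelPair_of_isColimit [Topish 𝒮] {R X : 𝒮} {p₁ p₂ : R ⟶ X}
    (e : EquivalenceRelation p₁ p₂) {Q : 𝒮} {π : X ⟶ Q} {w : p₁ ≫ π = p₂ ≫ π}
    (hc : IsColimit (Cofork.ofπ π w)) : IsKernelPair π p₁ p₂ := by
  obtain ⟨e'⟩ := Topish.effective e
  let i : Q ≅ e'.B := hc.coconePointUniqueUpToIso (e'.isCoequalizer)
  have hi : π ≫ i.hom = e'.π :=
    hc.comp_coconePointUniqueUpToIso_hom (e'.isCoequalizer) WalkingParallelPair.one
  have hk : IsKernelPair (π ≫ i.hom) p₁ p₂ := by rw [hi]; exact e'.isKernelPair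
  exact hk.cancel_right_of_mono

end EqRel

variable {𝒮 : Type u} [Category.{v} 𝒮] [CartesianMonoidalCategory 𝒮]
variable {H G : 𝒮} [GrpObj H] [GrpObj G] (u : H ⟶ G)

theorem lift_p₂ {Y : 𝒮} (g : Y ⟶ G) (h : Y ⟶ H) : lift g h ≫ (G ◁ u) ≫ μ = g * (h ≫ u) := by
  rw [lift_whiskerLeft_assoc, Hom.mul_def]

theorem comp_p₂ {Y : 𝒮} (x : Y ⟶ G ⊗ H) :
    x ≫ (G ◁ u) ≫ μ = (x ≫ fst _ _) * (x ≫ snd _ _ ≫ u) := by
  conv_lhs => rw [← lift_comp_fst_snd x]
  rw [lift_p₂, Category.assoc]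

variable [Mono u] [IsMonHom u]

/-- `G ⊗ H ⇉ G` is an equivalence relation. -/
noncomputable def eqvRel [HasPullbacks 𝒮] : EquivalenceRelation (fst G H) ((G ◁ u) ≫ μ) where
  right_cancellation Y f g h1 h2 := by
    apply CartesianMonoidalCategory.hom_ext
    · exact h1
    · rw [← cancel_mono u]
      rw [comp_p₂, comp_p₂, h1] at h2
      simpa using mul_left_cancel h2
  r := lift (𝟙 G) 1
  reflexivity₁ := by simp
  reflexivity₂ := by rw [lift_p₂, MonObj.one_comp, _root_.mul_one]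
  s := lift ((G ◁ u) ≫ μ) (snd G H)⁻¹
  symmetry₁ := by simp
  symmetry₂ := by
    rw [lift_p₂, GrpObj.inv_comp, ← Category.id_comp ((G ◁ u) ≫ μ), comp_p₂]
    simp
  c := pullback.cone _ _
  isLimit := pullback.isLimit _ _
  t := lift (pullback.fst ((G ◁ u) ≫ μ) (fst G H) ≫ fst _ _)
    ((pullback.fst ((G ◁ u) ≫ μ) (fst G H) ≫ snd _ _) *
      (pullback.snd ((G ◁ u) ≫ μ) (fst G H) ≫ snd _ _))
  transitivity₁ := by simp
  transitivity₂ := by
    have hc := pullback.condition (f := (G ◁ u) ≫ μ) (g := fst G H)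
    rw [comp_p₂] at hc
    rw [lift_p₂, MonObj.mul_comp, ← _root_.mul_assoc]
    change _ = pullback.snd ((G ◁ u) ≫ μ) (fst G H) ≫ (G ◁ u) ≫ μ
    rw [comp_p₂ u (pullback.snd ((G ◁ u) ≫ μ) (fst G H)), ← hc]
    simp

section Quot

variable [HasPullbacks 𝒮] [IsRegularEpiCategory 𝒮] [Topish 𝒮]
variable {Q : 𝒮} {π : G ⟶ Q} {w : fst G H ≫ π = ((G ◁ u) ≫ μ) ≫ π}
  (hc : IsColimit (Cofork.ofπ π w))

include hc

omit [IsRegularEpiCategory 𝒮] in
theorem isKernelPair : IsKernelPair π (fst G H) ((G ◁ u) ≫ μ) :=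
  isKernelPair_of_isColimit (eqvRel u) hc

omit [HasPullbacks 𝒮] [IsRegularEpiCategory 𝒮] [Topish 𝒮] [Mono u] [IsMonHom u] in
theorem epi_π : Epi π := epi_of_isColimit_cofork hc

omit [IsRegularEpiCategory 𝒮] in
theorem π_eq_iff {Y : 𝒮} (x y : Y ⟶ G) :
    x ≫ π = y ≫ π ↔ ∃ h : Y ⟶ H, y = x * (h ≫ u) := by
  constructor
  · intro hxy
    refine ⟨(isKernelPair u hc).lift x y hxy ≫ snd _ _, ?_⟩
    have h1 := (isKernelPair u hc).lift_fst x y hxy
    have h2 := (isKernelPair u hc).lift_snd x y hxy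
    rw [comp_p₂, h1] at h2
    rw [Category.assoc]
    exact h2.symm
  · rintro ⟨h, rfl⟩
    have := lift x h ≫= w
    rw [lift_fst_assoc, Category.assoc, lift_whiskerLeft_assoc] at this
    rw [this, Hom.mul_def, Category.assoc]

omit [IsRegularEpiCategory 𝒮] in
theorem π_mul_right {Y : 𝒮} (x : Y ⟶ G) (h : Y ⟶ H) : (x * (h ≫ u)) ≫ π = x ≫ π :=
  ((π_eq_iff u hc x _).2 ⟨h, rfl⟩).symm

end Quot

end Groth.Agent.Helper29.ShQB
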