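import Groth.Agent.Lib.Helper29.ShQB

/-!
# The action of `G` on `G/H` (S6051) and the kernel pair of `L ⟶ G/H` (S6055)
-/

set_option autoImplicit false
open CategoryTheory CategoryTheory.Limits MonoidalCategory CartesianMonoidalCategory MonObj
universe v u

namespace Groth.Agent.Helper29.ShQC
open ShQA ShQB

variable {𝒮 : Type u} [Category.{v} 𝒮] [CartesianMonoidalCategory 𝒮]

theorem comp_mul_eq {G : 𝒮} [MonObj G] {Y : 𝒮} (a : Y ⟶ G ⊗ G) :
    a ≫ μ = (a ≫ fst _ _) * (a ≫ snd _ _) := by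
  rw [Hom.mul_def, lift_comp_fst_snd]

theorem ext_lift {A B Z : 𝒮} (f g : A ⊗ B ⟶ Z)
    (h : ∀ (Y : 𝒮) (a : Y ⟶ A) (b : Y ⟶ B), lift a b ≫ f = lift a b ≫ g) : f = g := by
  have := h _ (fst _ _) (snd _ _)
  simpa using this

variable {H G : 𝒮} [GrpObj H] [GrpObj G] (u : H ⟶ G) [Mono u] [IsMonHom u]
variable [HasPullbacks 𝒮] [IsRegularEpiCategory 𝒮] [Topish 𝒮]
variable {Q : 𝒮} {π : G ⟶ Q} {w : fst G H ≫ π = ((G ◁ u) ≫ μ) ≫ π}
  (hc : IsColimit (Cofork.ofπ π w))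

include hc

/-- existence of the action morphism -/
theorem exists_act : ∃ act : G ⊗ Q ⟶ Q, (G ◁ π) ≫ act = μ ≫ π := by
  haveI := epi_π u hc
  refine epi_desc (G ◁ π) (μ ≫ π) (fun Y a b hab => ?_)
  have h1 : a ≫ fst _ _ = b ≫ fst _ _ := by
    have := hab =≫ fst _ _
    simpa using this
  have h2 : (a ≫ snd _ _) ≫ π = (b ≫ snd _ _) ≫ π := by
    have := hab =≫ snd _ _
    simpa using this
  obtain ⟨h, hh⟩ := (π_eq_iff u hc _ _).1 h2
  rw [← Category.assoc, ← Category.assoc, comp_mul_eq, comp_mul_eq, ← h1, hh, ← _root_.mul_assoc,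
    π_mul_right u hc]

theorem main6051 : ∃! act : G ⊗ Q ⟶ Q,
    (η ▷ Q) ≫ act = (λ_ Q).hom ∧ (μ ▷ Q) ≫ act = (α_ G G Q).hom ≫ (G ◁ act) ≫ act ∧
      μ ≫ π = (G ◁ π) ≫ act := by
  haveI := epi_π u hc
  obtain ⟨act, hact⟩ := exists_act u hc
  refine ⟨act, ⟨?_, ?_, hact.symm⟩, ?_⟩
  · rw [← cancel_epi (𝟙_ 𝒮 ◁ π), whisker_exchange_assoc, hact, MonObj.one_mul_assoc,
      leftUnitor_naturality]
  · rw [← cancel_epi ((G ⊗ G) ◁ π), whisker_exchange_assoc, hact, MonObj.mul_assoc_assoc,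
      associator_naturality_right_assoc, ← MonoidalCategory.whiskerLeft_comp_assoc, hact,
      MonoidalCategory.whiskerLeft_comp_assoc, hact]
  · rintro act' ⟨-, -, h3⟩
    rw [← cancel_epi (G ◁ π), ← h3, hact]

end Groth.Agent.Helper29.ShQC
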