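import Groth.Agent.Lib.Helper29.ShQC

/-!
# kernel pair of `L ⟶ G ⟶ G/H` (S6055)
-/

set_option autoImplicit false
open CategoryTheory CategoryTheory.Limits MonoidalCategory CartesianMonoidalCategory MonObj
universe v u

namespace Groth.Agent.Helper29.ShQD
open ShQA ShQB ShQC

variable {𝒮 : Type u} [Category.{v} 𝒮] [CartesianMonoidalCategory 𝒮]
variable {H L G : 𝒮} [GrpObj H] [GrpObj L] [GrpObj G] (u : H ⟶ G) (l : L ⟶ G) [Mono u] [Mono l]
  [IsMonHom u] [IsMonHom l]
variable [HasPullbacks 𝒮] [IsRegularEpiCategory 𝒮] [Topish 𝒮]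
variable {Q : 𝒮} {π : G ⟶ Q} {w : fst G H ≫ π = ((G ◁ u) ≫ μ) ≫ π}
  (hc : IsColimit (Cofork.ofπ π w))

include hc

omit [IsRegularEpiCategory 𝒮] in
theorem main6055 : IsKernelPair (l ≫ π) (fst L (pullback u l)) ((L ◁ pullback.snd u l) ≫ μ) := by
  refine isPullback_of_existsUnique _ _ _ _ ?_ ?_ ?_
  · apply ext_lift
    intro Y a p
    have e1 : lift a p ≫ (L ◁ pullback.snd u l) ≫ μ = a * (p ≫ pullback.snd u l) := by
      rw [lift_whiskerLeft_assoc, Hom.mul_def]
    simp only [Category.assoc]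
    rw [lift_fst_assoc, reassoc_of% e1, ← Category.assoc (a * _) l π, MonObj.mul_comp, Category.assoc p,
      ← pullback.condition, ← Category.assoc p, π_mul_right u hc, Category.assoc]
  · intro W a b hab
    rw [← Category.assoc, ← Category.assoc] at hab
    obtain ⟨h, hh⟩ := (π_eq_iff u hc _ _).1 hab
    have hh' : h ≫ u = (a⁻¹ * b) ≫ l := by
      rw [MonObj.mul_comp, GrpObj.inv_comp, hh, inv_mul_cancel_left]
    refine ⟨lift a (pullback.lift h (a⁻¹ * b) hh'), by simp, ?_⟩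
    rw [lift_whiskerLeft_assoc, pullback.lift_snd, ← Hom.mul_def, mul_inv_cancel_left]
  · intro W l₁ l₂ h1 h2
    apply CartesianMonoidalCategory.hom_ext
    · exact h1
    · rw [← cancel_mono (pullback.snd u l)]
      have e1 : l₁ ≫ (L ◁ pullback.snd u l) ≫ μ = (l₁ ≫ fst _ _) * (l₁ ≫ snd _ _ ≫ pullback.snd u l) := by
        rw [← Category.assoc, comp_mul_eq]; simp
      have e2 : l₂ ≫ (L ◁ pullback.snd u l) ≫ μ = (l₂ ≫ fst _ _) * (l₂ ≫ snd _ _ ≫ pullback.snd u l) := by
        rw [← Category.assoc, comp_mul_eq]; simp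
      rw [e1, e2, h1] at h2
      simpa using mul_left_cancel h2

end Groth.Agent.Helper29.ShQD
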