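import Groth.Agent.Lib.Helper29.ShQC
import Mathlib.Tactic.Group

/-!
# The group structure on `G/H` for `H` normal (S6047)
-/

set_option autoImplicit false
open CategoryTheory CategoryTheory.Limits MonoidalCategory CartesianMonoidalCategory MonObj
universe v u

namespace Groth.Agent.Helper29.ShQE
open ShQA ShQB ShQC

variable {𝒮 : Type u} [Category.{v} 𝒮] [CartesianMonoidalCategory 𝒮]

theorem ext_lift₃ {A B C Z : 𝒮} (f g : (A ⊗ B) ⊗ C ⟶ Z)
    (h : ∀ (Y : 𝒮) (a : Y ⟶ A) (b : Y ⟶ B) (c : Y ⟶ C),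
      lift (lift a b) c ≫ f = lift (lift a b) c ≫ g) : f = g := by
  apply ext_lift
  intro Y ab c
  have := h Y (ab ≫ fst _ _) (ab ≫ snd _ _) c
  simpa using this

variable {H G : 𝒮} [GrpObj H] [GrpObj G] (u : H ⟶ G) [Mono u] [IsMonHom u]
variable [HasPullbacks 𝒮] [IsRegularEpiCategory 𝒮] [Topish 𝒮]
variable {Q : 𝒮} {π : G ⟶ Q} {w : fst G H ≫ π = ((G ◁ u) ≫ μ) ≫ π}
  (hc : IsColimit (Cofork.ofπ π w))
  (hn : ∀ (Y : 𝒮) (g : Y ⟶ G) (h : Y ⟶ H), ∃ h' : Y ⟶ H, g * (h ≫ u) * g⁻¹ = h' ≫ u)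

include hc hn

theorem exists_mul : ∃ m : Q ⊗ Q ⟶ Q, (π ⊗ₘ π) ≫ m = μ ≫ π := by
  haveI := epi_π u hc
  refine epi_desc (π ⊗ₘ π) (μ ≫ π) (fun Y a b hab => ?_)
  have h1 : (a ≫ fst _ _) ≫ π = (b ≫ fst _ _) ≫ π := by
    have := hab =≫ fst _ _
    simpa using this
  have h2 : (a ≫ snd _ _) ≫ π = (b ≫ snd _ _) ≫ π := by
    have := hab =≫ snd _ _
    simpa using this
  obtain ⟨k1, hk1⟩ := (π_eq_iff u hc _ _).1 h1
  obtain ⟨k2, hk2⟩ := (π_eq_iff u hc _ _).1 h2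
  obtain ⟨k', hk'⟩ := hn Y (a ≫ snd _ _)⁻¹ k1
  rw [inv_inv] at hk'
  rw [← Category.assoc, ← Category.assoc, comp_mul_eq, comp_mul_eq, hk1, hk2]
  have : (a ≫ fst G G * k1 ≫ u) * (a ≫ snd G G * k2 ≫ u) =
      (a ≫ fst G G * a ≫ snd G G) * ((k' * k2) ≫ u) := by
    rw [MonObj.mul_comp, ← hk']
    group
  rw [this, π_mul_right u hc]

theorem exists_inv : ∃ i : Q ⟶ Q, π ≫ i = ι ≫ π := by
  haveI := epi_π u hc
  refine epi_desc π (ι ≫ π) (fun Y a b hab => ?_)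
  obtain ⟨k, hk⟩ := (π_eq_iff u hc _ _).1 hab
  obtain ⟨k', hk'⟩ := hn Y a k⁻¹
  rw [← Category.assoc, ← Category.assoc, ← Hom.inv_def, ← Hom.inv_def, hk]
  have : (a * k ≫ u)⁻¹ = a⁻¹ * (k' ≫ u) := by
    rw [← hk', GrpObj.inv_comp]
    group
  rw [this, π_mul_right u hc]

omit hn in
theorem lift_π_m {m : Q ⊗ Q ⟶ Q} (hm : (π ⊗ₘ π) ≫ m = μ ≫ π) {Y : 𝒮} (x y : Y ⟶ G) :
    lift (x ≫ π) (y ≫ π) ≫ m = (x * y) ≫ π := by
  rw [← lift_map_assoc, hm, Hom.mul_def, Category.assoc]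

omit hn in
/-- the group structure on the quotient -/
@[reducible] noncomputable def grpObj {m : Q ⊗ Q ⟶ Q} (hm : (π ⊗ₘ π) ≫ m = μ ≫ π) {i : Q ⟶ Q}
    (hi : π ≫ i = ι ≫ π) : GrpObj Q where
  one := η ≫ π
  mul := m
  one_mul := by
    haveI := epi_π u hc
    rw [← cancel_epi (𝟙_ 𝒮 ◁ π)]
    apply ext_lift
    intro Y a x
    rw [lift_whiskerLeft_assoc, lift_whiskerLeft_assoc, lift_whiskerRight_assoc,
      ← Category.assoc a, lift_π_m u hc hm, lift_leftUnitor_hom]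
    have : a ≫ η[G] = 1 := by rw [Hom.one_def, toUnit_unique a (toUnit Y)]
    rw [this, _root_.one_mul]
  mul_one := by
    haveI := epi_π u hc
    rw [← cancel_epi (π ▷ 𝟙_ 𝒮)]
    apply ext_lift
    intro Y x a
    rw [lift_whiskerRight_assoc, lift_whiskerRight_assoc, lift_whiskerLeft_assoc,
      ← Category.assoc a, lift_π_m u hc hm, lift_rightUnitor_hom]
    have : a ≫ η[G] = 1 := by rw [Hom.one_def, toUnit_unique a (toUnit Y)]
    rw [this, _root_.mul_one]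
  mul_assoc := by
    haveI := epi_π u hc
    rw [← cancel_epi ((π ⊗ₘ π) ⊗ₘ π)]
    apply ext_lift₃
    intro Y a b c
    rw [lift_map_assoc, lift_map_assoc, lift_map, lift_whiskerRight_assoc, lift_π_m u hc hm,
      lift_π_m u hc hm, lift_lift_associator_hom_assoc, lift_whiskerLeft_assoc, lift_π_m u hc hm,
      lift_π_m u hc hm, _root_.mul_assoc]
  inv := i
  left_inv := by
    haveI := epi_π u hc
    rw [← cancel_epi π, comp_lift_assoc, hi, Category.comp_id]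
    have e : lift (ι ≫ π) π ≫ m = (ι * 𝟙 G) ≫ π := by
      have := lift_π_m u hc hm ι (𝟙 G)
      rwa [Category.id_comp] at this
    rw [e, GrpObj.inv_eq_inv, inv_mul_cancel]
    rw [← Category.assoc, comp_toUnit, Hom.one_def, Category.assoc]
  right_inv := by
    haveI := epi_π u hc
    rw [← cancel_epi π, comp_lift_assoc, hi, Category.comp_id]
    have e : lift π (ι ≫ π) ≫ m = (𝟙 G * ι) ≫ π := by
      have := lift_π_m u hc hm (𝟙 G) ι
      rwa [Category.id_comp] at this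
    rw [e, GrpObj.inv_eq_inv, mul_inv_cancel]
    rw [← Category.assoc, comp_toUnit, Hom.one_def, Category.assoc]

theorem main6047 : ∃! str : GrpObj Q, @IsMonHom 𝒮 _ _ G Q _ str.toMonObj π := by
  haveI := epi_π u hc
  obtain ⟨m, hm⟩ := exists_mul u hc hn
  obtain ⟨i, hi⟩ := exists_inv u hc hn
  refine ⟨grpObj u hc hm hi, ?_, ?_⟩
  · exact @IsMonHom.mk 𝒮 _ _ G Q _ (grpObj u hc hm hi).toMonObj π rfl hm.symm
  · intro str' h'
    apply GrpObj.ext
    apply MonObj.ext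
    rw [← cancel_epi (π ⊗ₘ π)]
    have := @IsMonHom.mul_hom 𝒮 _ _ G Q _ str'.toMonObj π h'
    exact this.symm.trans hm.symm

end Groth.Agent.Helper29.ShQE
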