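import Groth.Agent.Lib.Helper29.ShQE

/-!
# `K/H` acts freely on `G/H` with quotient `G/K` (S6054)
-/

set_option autoImplicit false
open CategoryTheory CategoryTheory.Limits MonoidalCategory CartesianMonoidalCategory MonObj
universe v u

namespace Groth.Agent.Helper29.ShQF
open ShQA ShQB ShQC ShQE

section Refine

variable {𝒮 : Type u} [Category.{v} 𝒮] [HasPullbacks 𝒮] [IsRegularEpiCategory 𝒮] [Topish 𝒮]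

theorem exists_refinement₂ {A₁ B₁ A₂ B₂ Y : 𝒮} (f₁ : A₁ ⟶ B₁) (f₂ : A₂ ⟶ B₂) [Epi f₁] [Epi f₂]
    (b₁ : Y ⟶ B₁) (b₂ : Y ⟶ B₂) :
    ∃ (Y' : 𝒮) (e : Y' ⟶ Y) (a₁ : Y' ⟶ A₁) (a₂ : Y' ⟶ A₂), Epi e ∧ a₁ ≫ f₁ = e ≫ b₁ ∧
      a₂ ≫ f₂ = e ≫ b₂ := by
  obtain ⟨Y₁, e₁, a₁, he₁, h₁⟩ := exists_refinement f₁ b₁
  obtain ⟨Y₂, e₂, a₂, he₂, h₂⟩ := exists_refinement f₂ (e₁ ≫ b₂)
  refine ⟨Y₂, e₂ ≫ e₁, e₂ ≫ a₁, a₂, epi_comp _ _, ?_, ?_⟩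
  · rw [Category.assoc, h₁, Category.assoc]
  · rw [h₂, Category.assoc]

theorem exists_refinement₃ {A₁ B₁ A₂ B₂ A₃ B₃ Y : 𝒮} (f₁ : A₁ ⟶ B₁) (f₂ : A₂ ⟶ B₂) (f₃ : A₃ ⟶ B₃)
    [Epi f₁] [Epi f₂] [Epi f₃] (b₁ : Y ⟶ B₁) (b₂ : Y ⟶ B₂) (b₃ : Y ⟶ B₃) :
    ∃ (Y' : 𝒮) (e : Y' ⟶ Y) (a₁ : Y' ⟶ A₁) (a₂ : Y' ⟶ A₂) (a₃ : Y' ⟶ A₃), Epi e ∧
      a₁ ≫ f₁ = e ≫ b₁ ∧ a₂ ≫ f₂ = e ≫ b₂ ∧ a₃ ≫ f₃ = e ≫ b₃ := by
  obtain ⟨Y₁, e₁, a₁, a₂, he₁, h₁, h₂⟩ := exists_refinement₂ f₁ f₂ b₁ b₂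
  obtain ⟨Y₂, e₂, a₃, he₂, h₃⟩ := exists_refinement f₃ (e₁ ≫ b₃)
  refine ⟨Y₂, e₂ ≫ e₁, e₂ ≫ a₁, e₂ ≫ a₂, a₃, epi_comp _ _, ?_, ?_, ?_⟩
  · rw [Category.assoc, h₁, Category.assoc]
  · rw [Category.assoc, h₂, Category.assoc]
  · rw [h₃, Category.assoc]

end Refine

variable {𝒮 : Type u} [Category.{v} 𝒮] [CartesianMonoidalCategory 𝒮]
variable {H K G : 𝒮} [GrpObj H] [GrpObj K] [GrpObj G] (h : H ⟶ K) (k : K ⟶ G) [Mono h] [Mono k]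
  [IsMonHom h] [IsMonHom k]
variable [HasPullbacks 𝒮] [IsRegularEpiCategory 𝒮] [Topish 𝒮]
variable {QGH : 𝒮} {πGH : G ⟶ QGH} {wGH : fst G H ≫ πGH = ((G ◁ (h ≫ k)) ≫ μ) ≫ πGH}
  (hcGH : IsColimit (Cofork.ofπ πGH wGH))
variable {QKH : 𝒮} {πKH : K ⟶ QKH} {wKH : fst K H ≫ πKH = ((K ◁ h) ≫ μ) ≫ πKH}
  (hcKH : IsColimit (Cofork.ofπ πKH wKH))
variable {QGK : 𝒮} {πGK : G ⟶ QGK} {wGK : fst G K ≫ πGK = ((G ◁ k) ≫ μ) ≫ πGK}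
  (hcGK : IsColimit (Cofork.ofπ πGK wGK))
variable (act : QGH ⊗ QKH ⟶ QGH) (hact : (πGH ⊗ₘ πKH) ≫ act = (G ◁ k) ≫ μ ≫ πGH)
  (qbar : QGH ⟶ QGK) (hq : πGH ≫ qbar = πGK)

include hcGH hcKH hact in
theorem mono_lift : Mono (lift act (fst _ _)) := by
  haveI := epi_π (h ≫ k) hcGH
  haveI := epi_π h hcKH
  constructor
  intro Y a b hab
  have h1 : a ≫ act = b ≫ act := by
    have := hab =≫ fst _ _
    simpa using this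
  have h2 : a ≫ fst _ _ = b ≫ fst _ _ := by
    have := hab =≫ snd _ _
    simpa using this
  apply CartesianMonoidalCategory.hom_ext _ _ h2
  obtain ⟨Y', e, g, k₁, k₂, he, hg, hk₁, hk₂⟩ :=
    exists_refinement₃ πGH πKH πKH (a ≫ fst _ _) (a ≫ snd _ _) (b ≫ snd _ _)
  rw [← cancel_epi e, ← hk₁, ← hk₂]
  have ea : e ≫ a = lift g k₁ ≫ (πGH ⊗ₘ πKH) := by
    apply CartesianMonoidalCategory.hom_ext <;> simp [hg, hk₁]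
  have eb : e ≫ b = lift g k₂ ≫ (πGH ⊗ₘ πKH) := by
    apply CartesianMonoidalCategory.hom_ext <;> simp [hg, hk₂, h2]
  have h3 := e ≫= h1
  rw [← Category.assoc, ← Category.assoc, ea, eb, Category.assoc, Category.assoc, hact,
    lift_whiskerLeft_assoc, lift_whiskerLeft_assoc, ← Category.assoc, ← Category.assoc,
    ← Hom.mul_def, ← Hom.mul_def] at h3
  obtain ⟨h₀, hh₀⟩ := (π_eq_iff (h ≫ k) hcGH _ _).1 h3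
  have h4 : k₂ = k₁ * (h₀ ≫ h) := by
    rw [← cancel_mono k, MonObj.mul_comp, Category.assoc]
    rw [_root_.mul_assoc] at hh₀
    exact mul_left_cancel hh₀
  exact (π_eq_iff h hcKH _ _).2 ⟨h₀, h4⟩

include hcGH hcKH hcGK hact hq in
theorem main6054 : Mono (lift act (fst _ _)) ∧
    ∃ wq : fst _ _ ≫ qbar = act ≫ qbar, Nonempty (IsColimit (Cofork.ofπ qbar wq)) := by
  haveI := epi_π (h ≫ k) hcGH
  haveI := epi_π h hcKH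
  haveI := epi_π k hcGK
  refine ⟨mono_lift h k hcGH hcKH act hact, ?_⟩
  have wq : fst _ _ ≫ qbar = act ≫ qbar := by
    rw [← cancel_epi (πGH ⊗ₘ πKH), tensorHom_fst_assoc, reassoc_of% hact, hq, wGK,
      Category.assoc]
  haveI : Epi qbar := by
    have : Epi (πGH ≫ qbar) := by rw [hq]; infer_instance
    exact epi_of_epi πGH qbar
  refine ⟨wq, ⟨Cofork.IsColimit.mk' _ (fun s => ?_)⟩⟩
  have hs : fst G K ≫ πGH ≫ s.π = ((G ◁ k) ≫ μ) ≫ πGH ≫ s.π := by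
    have := s.condition
    have e1 : (πGH ⊗ₘ πKH) ≫ fst _ _ ≫ s.π = (πGH ⊗ₘ πKH) ≫ act ≫ s.π := by
      rw [this]
    rw [tensorHom_fst_assoc, reassoc_of% hact] at e1
    rw [Category.assoc]
    exact e1
  refine ⟨Cofork.IsColimit.desc hcGK (πGH ≫ s.π) hs, ?_, ?_⟩
  · rw [← cancel_epi πGH]
    change πGH ≫ qbar ≫ _ = πGH ≫ s.π
    rw [reassoc_of% hq]
    exact Cofork.IsColimit.π_desc hcGK
  · intro m hm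
    have hm' : qbar ≫ m = s.π := hm
    rw [← cancel_epi qbar, hm']
    rw [← cancel_epi πGH]
    change πGH ≫ s.π = πGH ≫ qbar ≫ _
    rw [reassoc_of% hq]
    exact (Cofork.IsColimit.π_desc' hcGK (πGH ≫ s.π) hs).symm

end Groth.Agent.Helper29.ShQF
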