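import Groth.Agent.Lib.Helper29.ShQF

/-!
# Morphisms to a quotient `X/R` as saturated subobjects of `X × Y` (S6048)
-/

set_option autoImplicit false
open CategoryTheory CategoryTheory.Limits MonoidalCategory CartesianMonoidalCategory
universe v u

namespace Groth.Agent.Helper29.ShQG
open ShQA

variable {𝒮 : Type u} [Category.{v} 𝒮] [CartesianMonoidalCategory 𝒮]
variable [HasPullbacks 𝒮] [IsRegularEpiCategory 𝒮] [Topish 𝒮]
variable {R X : 𝒮} {p₁ p₂ : R ⟶ X} (e : EffectiveEquivalenceRelation p₁ p₂) (Y : 𝒮)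

theorem part1 (Z : 𝒮) (ι : Z ⟶ X ⊗ Y) [Mono ι]
    (hsat : ∀ (W : 𝒮) (r : W ⟶ R) (y : W ⟶ Y),
        (∃ z : W ⟶ Z, z ≫ ι = lift (r ≫ p₁) y) ↔ (∃ z : W ⟶ Z, z ≫ ι = lift (r ≫ p₂) y))
    [Epi (ι ≫ snd X Y)]
    (hfib : ∀ (W : 𝒮) (z₁ z₂ : W ⟶ Z), z₁ ≫ ι ≫ snd X Y = z₂ ≫ ι ≫ snd X Y →
        ∃ r : W ⟶ R, r ≫ p₁ = z₁ ≫ ι ≫ fst X Y ∧ r ≫ p₂ = z₂ ≫ ι ≫ fst X Y) :
    ∃! f : Y ⟶ e.B, IsPullback (ι ≫ fst X Y) (ι ≫ snd X Y) e.π f := by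
  obtain ⟨f, hf⟩ := epi_desc (ι ≫ snd X Y) (ι ≫ fst X Y ≫ e.π) (fun W a b hab => by
    obtain ⟨r, hr1, hr2⟩ := hfib W a b hab
    calc a ≫ ι ≫ fst X Y ≫ e.π = (a ≫ ι ≫ fst X Y) ≫ e.π := by simp only [Category.assoc]
      _ = (r ≫ p₁) ≫ e.π := by rw [hr1]
      _ = (r ≫ p₂) ≫ e.π := by rw [Category.assoc, e.isKernelPair.w, Category.assoc]
      _ = (b ≫ ι ≫ fst X Y) ≫ e.π := by rw [hr2]
      _ = _ := by simp only [Category.assoc])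
  have hpb : IsPullback (ι ≫ fst X Y) (ι ≫ snd X Y) e.π f := by
    refine isPullback_of_existsUnique _ _ _ _ ?_ ?_ ?_
    · rw [hf, Category.assoc]
    · intro W a b hab
      obtain ⟨W', e', z, he', hz⟩ := exists_refinement (ι ≫ snd X Y) b
      have h1 : (z ≫ ι ≫ fst X Y) ≫ e.π = (e' ≫ a) ≫ e.π := by
        calc (z ≫ ι ≫ fst X Y) ≫ e.π = z ≫ (ι ≫ fst X Y ≫ e.π) := by simp only [Category.assoc]
          _ = (z ≫ ι ≫ snd X Y) ≫ f := by rw [← hf]; simp only [Category.assoc]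
          _ = (e' ≫ b) ≫ f := by rw [hz]
          _ = (e' ≫ a) ≫ e.π := by rw [Category.assoc, ← hab, Category.assoc]
      let r := e.isKernelPair.lift _ _ h1
      have hr1 : r ≫ p₁ = z ≫ ι ≫ fst X Y := e.isKernelPair.lift_fst _ _ h1
      have hr2 : r ≫ p₂ = e' ≫ a := e.isKernelPair.lift_snd _ _ h1
      obtain ⟨z', hz'⟩ := (hsat W' r (e' ≫ b)).1 ⟨z, by
        apply CartesianMonoidalCategory.hom_ext
        · rw [Category.assoc, lift_fst, hr1]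
        · rw [Category.assoc, lift_snd]
          exact hz⟩
      rw [hr2, ← comp_lift] at hz'
      obtain ⟨l, hl⟩ := factor_of_epi e' ι (lift a b) z' hz'
      exact ⟨l, by rw [reassoc_of% hl, lift_fst], by rw [reassoc_of% hl, lift_snd]⟩
    · intro W l l' h1 h2
      rw [← cancel_mono ι]
      apply CartesianMonoidalCategory.hom_ext
      · simpa using h1
      · simpa using h2
  refine ⟨f, hpb, ?_⟩
  intro f' hf'
  rw [← cancel_epi (ι ≫ snd X Y), ← hf'.w, ← hpb.w]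

theorem part2 (f : Y ⟶ e.B) : ∃ (Z : 𝒮) (ι : Z ⟶ X ⊗ Y), Mono ι ∧
      (∀ (W : 𝒮) (r : W ⟶ R) (y : W ⟶ Y),
        (∃ z : W ⟶ Z, z ≫ ι = lift (r ≫ p₁) y) ↔ (∃ z : W ⟶ Z, z ≫ ι = lift (r ≫ p₂) y)) ∧
      Epi (ι ≫ snd X Y) ∧
      (∀ (W : 𝒮) (z₁ z₂ : W ⟶ Z), z₁ ≫ ι ≫ snd X Y = z₂ ≫ ι ≫ snd X Y →
        ∃ r : W ⟶ R, r ≫ p₁ = z₁ ≫ ι ≫ fst X Y ∧ r ≫ p₂ = z₂ ≫ ι ≫ fst X Y) ∧
      IsPullback (ι ≫ fst X Y) (ι ≫ snd X Y) e.π f := by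
  have key : ∀ (W : 𝒮) (x : W ⟶ X) (y : W ⟶ Y),
      (∃ z : W ⟶ pullback e.π f, z ≫ lift (pullback.fst e.π f) (pullback.snd e.π f) = lift x y) ↔
        x ≫ e.π = y ≫ f := by
    intro W x y
    constructor
    · rintro ⟨z, hz⟩
      have h1 : z ≫ pullback.fst e.π f = x := by
        have := hz =≫ fst _ _
        simpa using this
      have h2 : z ≫ pullback.snd e.π f = y := by
        have := hz =≫ snd _ _
        simpa using this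
      rw [← h1, ← h2, Category.assoc, Category.assoc, pullback.condition]
    · intro h
      refine ⟨pullback.lift x y h, ?_⟩
      apply CartesianMonoidalCategory.hom_ext
      · rw [Category.assoc, lift_fst, lift_fst, pullback.lift_fst]
      · rw [Category.assoc, lift_snd, lift_snd, pullback.lift_snd]
  refine ⟨pullback e.π f, lift (pullback.fst e.π f) (pullback.snd e.π f), ?_, ?_, ?_, ?_, ?_⟩
  · constructor
    intro W a b hab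
    apply pullback.hom_ext
    · have := hab =≫ fst _ _
      simpa using this
    · have := hab =≫ snd _ _
      simpa using this
  · intro W r y
    rw [key, key, Category.assoc, Category.assoc, e.isKernelPair.w]
  · rw [lift_snd]
    haveI : Epi e.π := inferInstance
    exact epi_of_isPullback (IsPullback.of_hasPullback e.π f).flip
  · intro W z₁ z₂ h
    rw [lift_snd] at h
    have h1 : (z₁ ≫ pullback.fst e.π f) ≫ e.π = (z₂ ≫ pullback.fst e.π f) ≫ e.π := by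
      rw [Category.assoc, Category.assoc, pullback.condition, reassoc_of% h]
    refine ⟨e.isKernelPair.lift _ _ h1, ?_, ?_⟩
    · rw [e.isKernelPair.lift_fst, lift_fst]
    · rw [e.isKernelPair.lift_snd, lift_fst]
  · rw [lift_fst, lift_snd]
    exact IsPullback.of_hasPullback e.π f

theorem main6048 :
    (∀ (Z : 𝒮) (ι : Z ⟶ X ⊗ Y), Mono ι →
      (∀ (W : 𝒮) (r : W ⟶ R) (y : W ⟶ Y),
        (∃ z : W ⟶ Z, z ≫ ι = lift (r ≫ p₁) y) ↔ (∃ z : W ⟶ Z, z ≫ ι = lift (r ≫ p₂) y)) →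
      Epi (ι ≫ snd X Y) →
      (∀ (W : 𝒮) (z₁ z₂ : W ⟶ Z), z₁ ≫ ι ≫ snd X Y = z₂ ≫ ι ≫ snd X Y →
        ∃ r : W ⟶ R, r ≫ p₁ = z₁ ≫ ι ≫ fst X Y ∧ r ≫ p₂ = z₂ ≫ ι ≫ fst X Y) →
      ∃! f : Y ⟶ e.B, IsPullback (ι ≫ fst X Y) (ι ≫ snd X Y) e.π f) ∧
    (∀ f : Y ⟶ e.B, ∃ (Z : 𝒮) (ι : Z ⟶ X ⊗ Y), Mono ι ∧
      (∀ (W : 𝒮) (r : W ⟶ R) (y : W ⟶ Y),
        (∃ z : W ⟶ Z, z ≫ ι = lift (r ≫ p₁) y) ↔ (∃ z : W ⟶ Z, z ≫ ι = lift (r ≫ p₂) y)) ∧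
      Epi (ι ≫ snd X Y) ∧
      (∀ (W : 𝒮) (z₁ z₂ : W ⟶ Z), z₁ ≫ ι ≫ snd X Y = z₂ ≫ ι ≫ snd X Y →
        ∃ r : W ⟶ R, r ≫ p₁ = z₁ ≫ ι ≫ fst X Y ∧ r ≫ p₂ = z₂ ≫ ι ≫ fst X Y) ∧
      IsPullback (ι ≫ fst X Y) (ι ≫ snd X Y) e.π f) :=
  ⟨fun Z ι hι hsat hepi hfib => part1 e Y Z ι hsat hfib, part2 e Y⟩

end Groth.Agent.Helper29.ShQG
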