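import Groth.Agent.Lib.Helper29.ShQG
import Mathlib.CategoryTheory.Sites.Subsheaf
import Mathlib.CategoryTheory.Subobject.Limits

/-!
# Subobjects of a quotient `X/R` (S5226, S5227)
-/

set_option autoImplicit false
open CategoryTheory CategoryTheory.Limits
universe w v₁ u₁ v u

namespace Groth.Agent.Helper29.ShQH
open ShQA ShQF

/-- epi-mono factorizations exist. -/
class EpiMonoFac (𝒮 : Type u) [Category.{v} 𝒮] : Prop where
  fac : ∀ {X Y : 𝒮} (f : X ⟶ Y), ∃ (I : 𝒮) (p : X ⟶ I) (i : I ⟶ Y), Epi p ∧ Mono i ∧ p ≫ i = f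

instance {C : Type u₁} [Category.{v₁} C] {J : GrothendieckTopology C} :
    EpiMonoFac (Sheaf J (Type w)) where
  fac f := ⟨Sheaf.image f, Sheaf.toImage f, Sheaf.imageι f, inferInstance, inferInstance,
    Sheaf.toImage_ι f⟩

section

variable {𝒮 : Type u} [Category.{v} 𝒮] [HasPullbacks 𝒮] [IsRegularEpiCategory 𝒮] [Topish 𝒮]

omit [HasPullbacks 𝒮] [Topish 𝒮] in
theorem factors_of_epi {W' W X : 𝒮} (S : Subobject X) (e : W' ⟶ W) [Epi e] (a : W ⟶ X)
    (h : S.Factors (e ≫ a)) : S.Factors a := by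
  obtain ⟨z, hz⟩ := factor_of_epi e S.arrow a (S.factorThru _ h) (S.factorThru_arrow _ h)
  rw [← hz]
  exact Subobject.factors_comp_arrow z

omit [HasPullbacks 𝒮] [IsRegularEpiCategory 𝒮] [Topish 𝒮] in
theorem le_of_forall_factors {X : 𝒮} {S T : Subobject X}
    (h : ∀ (W : 𝒮) (a : W ⟶ X), S.Factors a → T.Factors a) : S ≤ T :=
  Subobject.le_of_comm (T.factorThru S.arrow (h _ _ S.factors_self)) (T.factorThru_arrow _ _)

omit [HasPullbacks 𝒮] [IsRegularEpiCategory 𝒮] [Topish 𝒮] in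
theorem eq_of_forall_factors {X : 𝒮} {S T : Subobject X}
    (h : ∀ (W : 𝒮) (a : W ⟶ X), S.Factors a ↔ T.Factors a) : S = T :=
  le_antisymm (le_of_forall_factors fun W a => (h W a).1)
    (le_of_forall_factors fun W a => (h W a).2)

omit [HasPullbacks 𝒮] [IsRegularEpiCategory 𝒮] [Topish 𝒮] in
theorem mk_factors_iff' {X I W : 𝒮} (i : I ⟶ X) [Mono i] (a : W ⟶ X) :
    (Subobject.mk i).Factors a ↔ ∃ k : W ⟶ I, k ≫ i = a := Iff.rfl

/-- pulling back subobjects along an epimorphism is injective. -/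
theorem pullback_injective_of_epi {X B : 𝒮} (π : X ⟶ B) [Epi π] :
    Function.Injective (Subobject.pullback π).obj := by
  intro S T hST
  apply eq_of_forall_factors
  intro W a
  obtain ⟨W', e, x, he, hx⟩ := exists_refinement π a
  have key : ∀ U : Subobject B, U.Factors a ↔ ((Subobject.pullback π).obj U).Factors x := by
    intro U
    rw [pullback_factors_iff, hx]
    exact ⟨fun h => Subobject.factors_of_factors_right e h, fun h => factors_of_epi U e a h⟩
  rw [key S, key T, hST]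

variable [EpiMonoFac 𝒮]

theorem mem_range_pullback {R X B : 𝒮} {p₁ p₂ : R ⟶ X} {π : X ⟶ B} [Epi π]
    (hk : IsKernelPair π p₁ p₂) (Y : Subobject X)
    (hY : (Subobject.pullback p₁).obj Y = (Subobject.pullback p₂).obj Y) :
    ∃ S : Subobject B, (Subobject.pullback π).obj S = Y := by
  obtain ⟨I, q, i, hq, hi, hqi⟩ := EpiMonoFac.fac (Y.arrow ≫ π)
  refine ⟨Subobject.mk i, ?_⟩
  apply eq_of_forall_factors
  intro W x
  rw [pullback_factors_iff, mk_factors_iff']
  constructor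
  · rintro ⟨k, hk'⟩
    obtain ⟨W', e', y, he', hy⟩ := exists_refinement q k
    have h1 : (y ≫ Y.arrow) ≫ π = (e' ≫ x) ≫ π := by
      rw [Category.assoc, ← hqi, reassoc_of% hy, hk', Category.assoc]
    have hr1 := hk.lift_fst _ _ h1
    have hr2 := hk.lift_snd _ _ h1
    have h2 : ((Subobject.pullback p₁).obj Y).Factors (hk.lift _ _ h1) := by
      rw [pullback_factors_iff, hr1]
      exact Subobject.factors_comp_arrow y
    rw [hY, pullback_factors_iff, hr2] at h2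
    exact factors_of_epi Y e' x h2
  · intro h
    refine ⟨Y.factorThru x h ≫ q, ?_⟩
    rw [Category.assoc, hqi, Subobject.factorThru_arrow_assoc]

theorem main5227 {R X : 𝒮} {p₁ p₂ : R ⟶ X} (e : EffectiveEquivalenceRelation p₁ p₂) :
    Function.Injective (Subobject.pullback e.π).obj ∧
      Set.range (Subobject.pullback e.π).obj =
        {Y : Subobject X | (Subobject.pullback p₁).obj Y = (Subobject.pullback p₂).obj Y} := by
  haveI : Epi e.π := inferInstance
  refine ⟨pullback_injective_of_epi e.π, ?_⟩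
  ext Y
  constructor
  · rintro ⟨S, rfl⟩
    change (Subobject.pullback p₁).obj _ = (Subobject.pullback p₂).obj _
    rw [← Subobject.pullback_comp, ← Subobject.pullback_comp, e.isKernelPair.w]
  · intro hY
    exact mem_range_pullback e.isKernelPair Y hY

end

section S5226

variable {𝒮 : Type u} [Category.{v} 𝒮] [HasPullbacks 𝒮] [IsRegularEpiCategory 𝒮] [Topish 𝒮]

theorem mono_of_relation {R X Y P : 𝒮} {p₁ p₂ : R ⟶ X} (e : EffectiveEquivalenceRelation p₁ p₂)
    (ι : Y ⟶ X) (q₁ q₂ : P ⟶ Y) [HasCoequalizer q₁ q₂] (g : coequalizer q₁ q₂ ⟶ e.B)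
    (hg : coequalizer.π q₁ q₂ ≫ g = ι ≫ e.π)
    (hP : ∀ (W : 𝒮) (a b : W ⟶ Y) (r : W ⟶ R), r ≫ p₁ = a ≫ ι → r ≫ p₂ = b ≫ ι →
      ∃ t : W ⟶ P, t ≫ q₁ = a ∧ t ≫ q₂ = b) : Mono g := by
  have key : ∀ (W : 𝒮) (a b : W ⟶ Y), a ≫ coequalizer.π q₁ q₂ ≫ g = b ≫ coequalizer.π q₁ q₂ ≫ g →
      a ≫ coequalizer.π q₁ q₂ = b ≫ coequalizer.π q₁ q₂ := by
    intro W a b hab
    rw [hg] at hab
    have h1 : (a ≫ ι) ≫ e.π = (b ≫ ι) ≫ e.π := by simpa using hab
    have hr1 := e.isKernelPair.lift_fst _ _ h1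
    have hr2 := e.isKernelPair.lift_snd _ _ h1
    obtain ⟨t, ht1, ht2⟩ := hP W a b _ hr1 hr2
    rw [← ht1, ← ht2, Category.assoc, Category.assoc, coequalizer.condition]
  constructor
  intro W x y hxy
  obtain ⟨W', e', a, b, he', ha, hb⟩ :=
    exists_refinement₂ (coequalizer.π q₁ q₂) (coequalizer.π q₁ q₂) x y
  rw [← cancel_epi e', ← ha, ← hb]
  apply key
  rw [reassoc_of% ha, reassoc_of% hb, hxy]

theorem main5226 {R X Y : 𝒮} {p₁ p₂ : R ⟶ X} (e : EffectiveEquivalenceRelation p₁ p₂)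
    (ι : Y ⟶ X) [Mono ι]
    [HasCoequalizer (pullback.fst (pullback.fst p₁ ι ≫ p₂) ι ≫ pullback.snd p₁ ι)
      (pullback.snd (pullback.fst p₁ ι ≫ p₂) ι)]
    (g : coequalizer (pullback.fst (pullback.fst p₁ ι ≫ p₂) ι ≫ pullback.snd p₁ ι)
      (pullback.snd (pullback.fst p₁ ι ≫ p₂) ι) ⟶ e.B)
    (hg : coequalizer.π _ _ ≫ g = ι ≫ e.π) :
    Mono g := by
  refine mono_of_relation e ι _ _ g hg ?_
  intro W a b r hr1 hr2
  have hs : (pullback.lift r a hr1 ≫ pullback.fst p₁ ι ≫ p₂) = b ≫ ι := by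
    rw [pullback.lift_fst_assoc, hr2]
  refine ⟨pullback.lift (pullback.lift r a hr1) b hs, ?_, ?_⟩
  · rw [pullback.lift_fst_assoc, pullback.lift_snd]
  · rw [pullback.lift_snd]

end S5226

end Groth.Agent.Helper29.ShQH
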