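import Groth.Agent.Lib.Helper29.ShQH

/-!
# Subgroup objects as subobjects closed under the group operations
-/

set_option autoImplicit false
open CategoryTheory CategoryTheory.Limits MonoidalCategory CartesianMonoidalCategory MonObj
universe v u

namespace Groth.Agent.Helper29.ShQI
open ShQA ShQC ShQE

variable {𝒮 : Type u} [Category.{v} 𝒮] [CartesianMonoidalCategory 𝒮]

theorem factors_iff_exists {X W : 𝒮} (S : Subobject X) (a : W ⟶ X) :
    S.Factors a ↔ ∃ k : W ⟶ (S : 𝒮), k ≫ S.arrow = a :=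
  ⟨fun h => ⟨S.factorThru a h, S.factorThru_arrow a h⟩,
    fun ⟨k, hk⟩ => hk ▸ Subobject.factors_comp_arrow k⟩

variable {M : 𝒮} [GrpObj M]

/-- a subobject of a group object closed under the group operations (on generalized elements) -/
structure IsSubgrp (S : Subobject M) : Prop where
  one : ∀ W : 𝒮, S.Factors (1 : W ⟶ M)
  mul : ∀ (W : 𝒮) (a b : W ⟶ M), S.Factors a → S.Factors b → S.Factors (a * b)
  inv : ∀ (W : 𝒮) (a : W ⟶ M), S.Factors a → S.Factors a⁻¹

theorem isSubgrp_of_str (S : Subobject M) (str : GrpObj (S : 𝒮))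
    (h : @IsMonHom 𝒮 _ _ _ _ str.toMonObj _ S.arrow) : IsSubgrp S := by
  letI := str
  haveI := h
  refine ⟨fun W => ?_, fun W a b ha hb => ?_, fun W a ha => ?_⟩
  · rw [← MonObj.one_comp (X := W) S.arrow]
    exact Subobject.factors_comp_arrow _
  · obtain ⟨a', rfl⟩ := (factors_iff_exists S a).1 ha
    obtain ⟨b', rfl⟩ := (factors_iff_exists S b).1 hb
    rw [← MonObj.mul_comp]
    exact Subobject.factors_comp_arrow _
  · obtain ⟨a', rfl⟩ := (factors_iff_exists S a).1 ha
    rw [← GrpObj.inv_comp]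
    exact Subobject.factors_comp_arrow _

section Construct

variable (S : Subobject M) (h : IsSubgrp S)

/-- unit of the subgroup -/
noncomputable def one' : 𝟙_ 𝒮 ⟶ (S : 𝒮) := S.factorThru (1 : 𝟙_ 𝒮 ⟶ M) (h.one _)

/-- multiplication of the subgroup -/
noncomputable def mul' : (S : 𝒮) ⊗ (S : 𝒮) ⟶ (S : 𝒮) :=
  S.factorThru ((fst _ _ ≫ S.arrow) * (snd _ _ ≫ S.arrow))
    (h.mul _ _ _ (Subobject.factors_comp_arrow _) (Subobject.factors_comp_arrow _))

/-- inverse of the subgroup -/
noncomputable def inv' : (S : 𝒮) ⟶ (S : 𝒮) :=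
  S.factorThru (S.arrow)⁻¹ (h.inv _ _ S.factors_self)

theorem one'_arrow {W : 𝒮} (t : W ⟶ 𝟙_ 𝒮) : t ≫ one' S h ≫ S.arrow = 1 := by
  rw [one', Subobject.factorThru_arrow, MonObj.comp_one]

theorem mul'_arrow {W : 𝒮} (a b : W ⟶ (S : 𝒮)) :
    lift a b ≫ mul' S h ≫ S.arrow = (a ≫ S.arrow) * (b ≫ S.arrow) := by
  rw [mul', Subobject.factorThru_arrow, MonObj.comp_mul, lift_fst_assoc, lift_snd_assoc]

theorem inv'_arrow {W : 𝒮} (a : W ⟶ (S : 𝒮)) :
    a ≫ inv' S h ≫ S.arrow = (a ≫ S.arrow)⁻¹ := by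
  rw [inv', Subobject.factorThru_arrow, GrpObj.comp_inv]

theorem inv'_arrow' : inv' S h ≫ S.arrow = (S.arrow)⁻¹ := by
  rw [inv', Subobject.factorThru_arrow]

/-- the group structure on a subgroup -/
@[reducible] noncomputable def grpObj : GrpObj (S : 𝒮) where
  one := one' S h
  mul := mul' S h
  one_mul := by
    apply ext_lift
    intro W t a
    rw [← cancel_mono S.arrow, Category.assoc, Category.assoc, lift_whiskerRight_assoc,
      mul'_arrow, Category.assoc, one'_arrow, _root_.one_mul, Category.assoc,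
      lift_leftUnitor_hom_assoc]
  mul_one := by
    apply ext_lift
    intro W a t
    rw [← cancel_mono S.arrow, Category.assoc, Category.assoc, lift_whiskerLeft_assoc,
      mul'_arrow, Category.assoc, one'_arrow, _root_.mul_one, Category.assoc,
      lift_rightUnitor_hom_assoc]
  mul_assoc := by
    apply ext_lift₃
    intro W a b c
    rw [← cancel_mono S.arrow]
    simp only [Category.assoc]
    rw [lift_whiskerRight_assoc, mul'_arrow, Category.assoc, mul'_arrow,
      lift_lift_associator_hom_assoc, lift_whiskerLeft_assoc, mul'_arrow, Category.assoc,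
      mul'_arrow, _root_.mul_assoc]
  inv := inv' S h
  left_inv := by
    rw [← cancel_mono S.arrow, Category.assoc, mul'_arrow, inv'_arrow', Category.id_comp,
      inv_mul_cancel, Category.assoc, one'_arrow]
  right_inv := by
    rw [← cancel_mono S.arrow, Category.assoc, mul'_arrow, inv'_arrow', Category.id_comp,
      mul_inv_cancel, Category.assoc, one'_arrow]

include h in
theorem exists_str_of_isSubgrp :
    ∃ str : GrpObj (S : 𝒮), @IsMonHom 𝒮 _ _ _ _ str.toMonObj _ S.arrow := by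
  refine ⟨grpObj S h, @IsMonHom.mk 𝒮 _ _ _ _ (grpObj S h).toMonObj _ S.arrow ?_ ?_⟩
  · change one' S h ≫ S.arrow = η
    have := one'_arrow S h (𝟙 _)
    rw [Category.id_comp] at this
    rw [this, Hom.one_def, toUnit_unique (toUnit (𝟙_ 𝒮)) (𝟙 _), Category.id_comp]
  · change mul' S h ≫ S.arrow = (S.arrow ⊗ₘ S.arrow) ≫ μ
    apply ext_lift
    intro W a b
    rw [mul'_arrow, lift_map_assoc, Hom.mul_def]

end Construct

theorem isSubgrp_iff (S : Subobject M) :
    (∃ str : GrpObj (S : 𝒮), @IsMonHom 𝒮 _ _ _ _ str.toMonObj _ S.arrow) ↔ IsSubgrp S :=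
  ⟨fun ⟨str, h⟩ => isSubgrp_of_str S str h, fun h => exists_str_of_isSubgrp S h⟩

end Groth.Agent.Helper29.ShQI
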