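import Groth.Agent.Lib.Helper29.ShQI

/-!
# Subgroups of `G/H` correspond to subgroups of `G` containing `H` (S6050)
-/

set_option autoImplicit false
open CategoryTheory CategoryTheory.Limits MonoidalCategory CartesianMonoidalCategory MonObj
universe v u

namespace Groth.Agent.Helper29.ShQJ
open ShQA ShQB ShQC ShQE ShQF ShQH ShQI

variable {𝒮 : Type u} [Category.{v} 𝒮] [CartesianMonoidalCategory 𝒮]
variable {H G : 𝒮} [GrpObj H] [GrpObj G] (u : H ⟶ G) [Mono u] [IsMonHom u]
variable [HasPullbacks 𝒮] [IsRegularEpiCategory 𝒮] [Topish 𝒮] [EpiMonoFac 𝒮]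
variable {Q : 𝒮} {π : G ⟶ Q} {w : fst G H ≫ π = ((G ◁ u) ≫ μ) ≫ π}
  (hc : IsColimit (Cofork.ofπ π w))
variable [hQ : GrpObj Q] [IsMonHom π]

omit [IsRegularEpiCategory 𝒮] [Topish 𝒮] [EpiMonoFac 𝒮] in
theorem isSubgrp_pullback (K' : Subobject Q) (h : IsSubgrp K') :
    IsSubgrp ((Subobject.pullback π).obj K') := by
  refine ⟨fun W => ?_, fun W a b ha hb => ?_, fun W a ha => ?_⟩
  · rw [pullback_factors_iff, MonObj.one_comp]
    exact h.one W
  · rw [pullback_factors_iff] at ha hb ⊢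
    rw [MonObj.mul_comp]
    exact h.mul W _ _ ha hb
  · rw [pullback_factors_iff] at ha ⊢
    rw [GrpObj.inv_comp]
    exact h.inv W _ ha

include hc in
omit [IsRegularEpiCategory 𝒮] [EpiMonoFac 𝒮] in
theorem mk_u_le (K' : Subobject Q) (h : IsSubgrp K') :
    Subobject.mk u ≤ (Subobject.pullback π).obj K' := by
  apply le_of_forall_factors
  intro W a ha
  obtain ⟨k, rfl⟩ := (mk_factors_iff' u a).1 ha
  rw [pullback_factors_iff]
  have := π_mul_right u hc (1 : W ⟶ G) k
  rw [_root_.one_mul, MonObj.one_comp] at this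
  rw [this]
  exact h.one W

omit [IsRegularEpiCategory 𝒮] [Topish 𝒮] [EpiMonoFac 𝒮] [IsMonHom u] in
theorem saturated (K : Subobject G) (hK : IsSubgrp K) (hle : Subobject.mk u ≤ K) :
    (Subobject.pullback (fst G H)).obj K = (Subobject.pullback ((G ◁ u) ≫ μ)).obj K := by
  apply eq_of_forall_factors
  intro W r
  rw [pullback_factors_iff, pullback_factors_iff, comp_p₂]
  have hx : K.Factors (r ≫ snd _ _ ≫ u) :=
    Subobject.factors_of_le _ hle ((mk_factors_iff' u _).2 ⟨r ≫ snd _ _, by rw [Category.assoc]⟩)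
  constructor
  · intro h
    exact hK.mul W _ _ h hx
  · intro h
    have := hK.mul W _ _ h (hK.inv W _ hx)
    rwa [mul_inv_cancel_right] at this

omit [EpiMonoFac 𝒮] [Mono u] [IsMonHom u] in
include hc in
theorem isSubgrp_of_pullback (K' : Subobject Q) (h : IsSubgrp ((Subobject.pullback π).obj K')) :
    IsSubgrp K' := by
  haveI := epi_π u hc
  refine ⟨fun W => ?_, fun W x y hx hy => ?_, fun W x hx => ?_⟩
  · have := h.one W
    rwa [pullback_factors_iff, MonObj.one_comp] at this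
  · obtain ⟨W', e, a, b, he, ha, hb⟩ := exists_refinement₂ π π x y
    have h1 : ((Subobject.pullback π).obj K').Factors a := by
      rw [pullback_factors_iff, ha]
      exact Subobject.factors_of_factors_right e hx
    have h2 : ((Subobject.pullback π).obj K').Factors b := by
      rw [pullback_factors_iff, hb]
      exact Subobject.factors_of_factors_right e hy
    have h3 := h.mul W' a b h1 h2
    rw [pullback_factors_iff, MonObj.mul_comp, ha, hb, ← MonObj.comp_mul] at h3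
    exact factors_of_epi K' e _ h3
  · obtain ⟨W', e, a, he, ha⟩ := exists_refinement π x
    have h1 : ((Subobject.pullback π).obj K').Factors a := by
      rw [pullback_factors_iff, ha]
      exact Subobject.factors_of_factors_right e hx
    have h3 := h.inv W' a h1
    rw [pullback_factors_iff, GrpObj.inv_comp, ha, ← GrpObj.comp_inv] at h3
    exact factors_of_epi K' e _ h3

include hc in
theorem bijOn : Set.BijOn (Subobject.pullback π).obj
      {K' : Subobject Q | ∃ str : GrpObj (K' : 𝒮), @IsMonHom 𝒮 _ _ _ _ str.toMonObj _ K'.arrow}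
      {K : Subobject G | Subobject.mk u ≤ K ∧
        ∃ str : GrpObj (K : 𝒮), @IsMonHom 𝒮 _ _ _ _ str.toMonObj _ K.arrow} := by
  haveI := epi_π u hc
  refine ⟨?_, (pullback_injective_of_epi π).injOn, ?_⟩
  · intro K' hK'
    have hs : IsSubgrp K' := (isSubgrp_iff K').1 hK'
    exact ⟨mk_u_le u hc K' hs, (isSubgrp_iff _).2 (isSubgrp_pullback K' hs)⟩
  · rintro K ⟨hle, hK⟩
    have hs : IsSubgrp K := (isSubgrp_iff K).1 hK
    obtain ⟨K', rfl⟩ := mem_range_pullback (isKernelPair u hc) K (saturated u K hs hle)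
    exact ⟨K', (isSubgrp_iff K').2 (isSubgrp_of_pullback u hc K' hs), rfl⟩

omit [EpiMonoFac 𝒮] [Mono u] [IsMonHom u] in
include hc in
theorem normal_iff (K' : Subobject Q) :
    ((∀ (Y : 𝒮) (g : Y ⟶ Q) (k : Y ⟶ (K' : 𝒮)),
          ∃ k' : Y ⟶ (K' : 𝒮), g * (k ≫ K'.arrow) * g⁻¹ = k' ≫ K'.arrow) ↔
        (∀ (Y : 𝒮) (g : Y ⟶ G) (k : Y ⟶ ((Subobject.pullback π).obj K' : 𝒮)),
          ∃ k' : Y ⟶ ((Subobject.pullback π).obj K' : 𝒮),
            g * (k ≫ ((Subobject.pullback π).obj K').arrow) * g⁻¹ =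
              k' ≫ ((Subobject.pullback π).obj K').arrow)) := by
  haveI := epi_π u hc
  have conv : ∀ {M : 𝒮} (S : Subobject M) [GrpObj M],
      (∀ (Y : 𝒮) (g : Y ⟶ M) (k : Y ⟶ (S : 𝒮)),
          ∃ k' : Y ⟶ (S : 𝒮), g * (k ≫ S.arrow) * g⁻¹ = k' ≫ S.arrow) ↔
      (∀ (Y : 𝒮) (g x : Y ⟶ M), S.Factors x → S.Factors (g * x * g⁻¹)) := by
    intro M S _
    constructor
    · intro h Y g x hx
      obtain ⟨k, rfl⟩ := (factors_iff_exists S x).1 hx
      obtain ⟨k', hk'⟩ := h Y g k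
      rw [hk']
      exact Subobject.factors_comp_arrow _
    · intro h Y g k
      obtain ⟨k', hk'⟩ := (factors_iff_exists S _).1 (h Y g _ (Subobject.factors_comp_arrow k))
      exact ⟨k', hk'.symm⟩
  rw [conv, conv]
  constructor
  · intro h Y g a ha
    rw [pullback_factors_iff] at ha ⊢
    rw [MonObj.mul_comp, MonObj.mul_comp, GrpObj.inv_comp]
    exact h Y _ _ ha
  · intro h Y g x hx
    obtain ⟨W', e, g₀, a, he, hg, ha⟩ := exists_refinement₂ π π g x
    have h1 : ((Subobject.pullback π).obj K').Factors a := by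
      rw [pullback_factors_iff, ha]
      exact Subobject.factors_of_factors_right e hx
    have h3 := h W' g₀ a h1
    rw [pullback_factors_iff, MonObj.mul_comp, MonObj.mul_comp, GrpObj.inv_comp, hg, ha,
      ← GrpObj.comp_inv, ← MonObj.comp_mul, ← MonObj.comp_mul] at h3
    exact factors_of_epi K' e _ h3

include hc in
theorem main6050 :
    Set.BijOn (Subobject.pullback π).obj
      {K' : Subobject Q | ∃ str : GrpObj (K' : 𝒮), @IsMonHom 𝒮 _ _ _ _ str.toMonObj _ K'.arrow}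
      {K : Subobject G | Subobject.mk u ≤ K ∧
        ∃ str : GrpObj (K : 𝒮), @IsMonHom 𝒮 _ _ _ _ str.toMonObj _ K.arrow} ∧
    ∀ (K' : Subobject Q) (str' : GrpObj (K' : 𝒮))
      (str : GrpObj ((Subobject.pullback π).obj K' : 𝒮)),
      @IsMonHom 𝒮 _ _ _ _ str'.toMonObj _ K'.arrow →
      @IsMonHom 𝒮 _ _ _ _ str.toMonObj _ ((Subobject.pullback π).obj K').arrow →
      ((∀ (Y : 𝒮) (g : Y ⟶ Q) (k : Y ⟶ (K' : 𝒮)),
          ∃ k' : Y ⟶ (K' : 𝒮), g * (k ≫ K'.arrow) * g⁻¹ = k' ≫ K'.arrow) ↔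
        (∀ (Y : 𝒮) (g : Y ⟶ G) (k : Y ⟶ ((Subobject.pullback π).obj K' : 𝒮)),
          ∃ k' : Y ⟶ ((Subobject.pullback π).obj K' : 𝒮),
            g * (k ≫ ((Subobject.pullback π).obj K').arrow) * g⁻¹ =
              k' ≫ ((Subobject.pullback π).obj K').arrow)) :=
  ⟨bijOn u hc, fun K' _ _ _ _ => normal_iff u hc K'⟩

end Groth.Agent.Helper29.ShQJ
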