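import Mathlib
import Groth.Prelude.Def_ModSite
import Groth.Agent.Lib.Helper17.MT18
import Groth.Agent.Lib.Helper17.MP2

/-!
# The internal hom of sheaves of modules as a contravariant functor of the first variable
-/

open CategoryTheory Limits MonoidalCategory Opposite

namespace Groth.Agent.Helper29.ShomA

open Groth.Agent.Helper17.MT

universe u

section Abstract

variable {𝒜 : Type*} [Category 𝒜] {Λ : Type*} [Category Λ] [HasColimitsOfShape Λ 𝒜]

/-- naturality of `colimit.post` in the functor -/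
theorem colimit_post_naturality (D : Λ ⥤ 𝒜) {H H' : 𝒜 ⥤ 𝒜} (τ : H ⟶ H') :
    colimMap (Functor.whiskerLeft D τ) ≫ colimit.post D H' =
      colimit.post D H ≫ τ.app (colimit D) := by
  apply colimit.hom_ext
  intro j
  simp

/-- `H ↦ colim (D ⋙ H)` -/
noncomputable abbrev PhiF (D : Λ ⥤ 𝒜) : (𝒜 ⥤ 𝒜) ⥤ 𝒜 :=
  (Functor.whiskeringLeft Λ 𝒜 𝒜).obj D ⋙ colim

/-- `H ↦ H (colim D)` -/
noncomputable abbrev PsiF (D : Λ ⥤ 𝒜) : (𝒜 ⥤ 𝒜) ⥤ 𝒜 :=
  (evaluation 𝒜 𝒜).obj (colimit D)

/-- the comparison `colim (D ⋙ H) ⟶ H (colim D)`, naturally in `H` -/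
noncomputable def kappa (D : Λ ⥤ 𝒜) : PhiF D ⟶ PsiF D where
  app H := colimit.post D H
  naturality _ _ τ := colimit_post_naturality D τ

/-- Lemma M: if `colim` commutes with limits of shape `𝒦`, then the functors `H` for which
`colimit.post D H` is an isomorphism are closed under limits of shape `𝒦`. -/
theorem isIso_post_of_isLimit {𝒦 : Type*} [Category 𝒦] [HasLimitsOfShape 𝒦 𝒜]
    [PreservesLimitsOfShape 𝒦 (colim : (Λ ⥤ 𝒜) ⥤ 𝒜)]
    (D : Λ ⥤ 𝒜) (G : 𝒦 ⥤ (𝒜 ⥤ 𝒜)) (s : Cone G) (hs : IsLimit s)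
    (h : ∀ k, IsIso (colimit.post D (G.obj k))) : IsIso (colimit.post D s.pt) := by
  have h1 : IsLimit ((PhiF D).mapCone s) := isLimitOfPreserves (PhiF D) hs
  have h2 : IsLimit ((PsiF D).mapCone s) := isLimitOfPreserves (PsiF D) hs
  have hk : ∀ k, IsIso ((kappa D).app (G.obj k)) := h
  let e : G ⋙ PhiF D ≅ G ⋙ PsiF D :=
    NatIso.ofComponents (fun k => asIso ((kappa D).app (G.obj k)))
      (fun f => ((kappa D).naturality (G.map f)))
  let E := IsLimit.conePointsIsoOfNatIso h1 h2 e
  have : colimit.post D s.pt = E.hom := by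
    apply h2.hom_ext
    intro k
    rw [IsLimit.conePointsIsoOfNatIso_hom_comp]
    exact ((kappa D).naturality (s.π.app k)).symm
  rw [this]
  infer_instance

end Abstract

variable {C : Type u} [SmallCategory C] {J : GrothendieckTopology C} (O : Sheaf J CommRingCat.{u})

/-- the internal hom always exists -/
theorem hasSheafHom (A : ModSite.Mod O) : ModSite.HasSheafHom A := main6165 O A

attribute [local instance] hasSheafHom

variable {O}

/-- precomposition: `a : A ⟶ B` induces `Hom(B, -) ⟶ Hom(A, -)` -/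
noncomputable def pre {A B : ModSite.Mod O} (a : A ⟶ B) :
    ModSite.sheafHom B ⟶ ModSite.sheafHom A :=
  conjugateEquiv (ModSite.sheafHomAdj B) (ModSite.sheafHomAdj A) ((ModSite.tensorBi O).flip.map a)

theorem pre_id (A : ModSite.Mod O) : pre (𝟙 A) = 𝟙 _ := by
  unfold pre
  rw [CategoryTheory.Functor.map_id]
  exact conjugateEquiv_id _

theorem pre_comp {A B B' : ModSite.Mod O} (a : A ⟶ B) (b : B ⟶ B') :
    pre (a ≫ b) = pre b ≫ pre a := by
  unfold pre
  rw [Functor.map_comp]
  exact (conjugateEquiv_comp _ _ _ _ _).symm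

/-- the mate formula on hom-sets -/
theorem homEquiv_symm_comp_pre {A B : ModSite.Mod O} (a : A ⟶ B) {T N : ModSite.Mod O}
    (g : T ⟶ (ModSite.sheafHom B).obj N) :
    ((ModSite.sheafHomAdj A).homEquiv T N).symm (g ≫ (pre a).app N) =
      (TL O T).map a ≫ ((ModSite.sheafHomAdj B).homEquiv T N).symm g := by
  rw [Adjunction.homEquiv_counit, Adjunction.homEquiv_counit, Functor.map_comp, Category.assoc]
  have h1 := conjugateEquiv_counit (ModSite.sheafHomAdj B) (ModSite.sheafHomAdj A)
    ((ModSite.tensorBi O).flip.map a) N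
  have h2 := ((ModSite.tensorBi O).flip.map a).naturality g
  unfold pre
  rw [h1, ← Category.assoc, h2, Category.assoc]
  rfl

/-- `A ↦ Hom(A, -)` as a contravariant functor -/
noncomputable def shomFunctor : (ModSite.Mod O)ᵒᵖ ⥤ (ModSite.Mod O ⥤ ModSite.Mod O) where
  obj A := ModSite.sheafHom A.unop
  map f := pre f.unop
  map_id A := pre_id A.unop
  map_comp f g := pre_comp g.unop f.unop

section Limit

variable {𝒥 : Type*} [Category 𝒥] {A : 𝒥 ⥤ ModSite.Mod O} (c : Cocone A) (hc : IsColimit c)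

/-- the leg of a cone over `j ↦ Hom(A j, N)`, with its type unfolded -/
noncomputable def leg (N : ModSite.Mod O)
    (s : Cone ((A.op ⋙ shomFunctor) ⋙ (evaluation _ _).obj N)) (j : 𝒥) :
    s.pt ⟶ (ModSite.sheafHom (A.obj j)).obj N := s.π.app (op j)

theorem leg_comp_pre (N : ModSite.Mod O)
    (s : Cone ((A.op ⋙ shomFunctor) ⋙ (evaluation _ _).obj N)) {j j' : 𝒥} (f : j ⟶ j') :
    leg N s j' ≫ (pre (A.map f)).app N = leg N s j :=
  ((s.π.naturality f.op).symm.trans (Category.id_comp _))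

variable [∀ T : ModSite.Mod O, PreservesColimit A (TL O T)]

/-- the cocone under `A ⋙ (T ⊗ -)` attached to a cone over `j ↦ Hom(A j, N)` -/
noncomputable def transposeCocone (N : ModSite.Mod O)
    (s : Cone ((A.op ⋙ shomFunctor) ⋙ (evaluation _ _).obj N)) : Cocone (A ⋙ TL O s.pt) where
  pt := N
  ι :=
    { app := fun j => ((ModSite.sheafHomAdj (A.obj j)).homEquiv s.pt N).symm (leg N s j)
      naturality := fun j j' f => by
        have h' := leg_comp_pre N s f
        refine Eq.trans ?_ (Category.comp_id _).symm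
        rw [← h', homEquiv_symm_comp_pre]
        rfl }

/-- the transposed lift -/
noncomputable def descT (N : ModSite.Mod O)
    (s : Cone ((A.op ⋙ shomFunctor) ⋙ (evaluation _ _).obj N)) :
    (TL O s.pt).obj c.pt ⟶ N :=
  (isColimitOfPreserves (TL O s.pt) hc).desc (transposeCocone N s)

theorem ι_descT (N : ModSite.Mod O)
    (s : Cone ((A.op ⋙ shomFunctor) ⋙ (evaluation _ _).obj N)) (j : 𝒥) :
    (TL O s.pt).map (c.ι.app j) ≫ descT c hc N s =
      ((ModSite.sheafHomAdj (A.obj j)).homEquiv s.pt N).symm (leg N s j) :=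
  (isColimitOfPreserves (TL O s.pt) hc).fac (transposeCocone N s) j

theorem descT_uniq (N : ModSite.Mod O)
    (s : Cone ((A.op ⋙ shomFunctor) ⋙ (evaluation _ _).obj N))
    (m : (TL O s.pt).obj c.pt ⟶ N)
    (h : ∀ j, (TL O s.pt).map (c.ι.app j) ≫ m =
      ((ModSite.sheafHomAdj (A.obj j)).homEquiv s.pt N).symm (leg N s j)) :
    m = descT c hc N s :=
  (isColimitOfPreserves (TL O s.pt) hc).uniq (transposeCocone N s) m h

/-- the lift -/
noncomputable def liftT (N : ModSite.Mod O)
    (s : Cone ((A.op ⋙ shomFunctor) ⋙ (evaluation _ _).obj N)) :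
    s.pt ⟶ (ModSite.sheafHom c.pt).obj N :=
  ((ModSite.sheafHomAdj c.pt).homEquiv s.pt N) (descT c hc N s)

theorem liftT_comp_pre (N : ModSite.Mod O)
    (s : Cone ((A.op ⋙ shomFunctor) ⋙ (evaluation _ _).obj N)) (j : 𝒥) :
    liftT c hc N s ≫ (pre (c.ι.app j)).app N = leg N s j := by
  apply ((ModSite.sheafHomAdj (A.obj j)).homEquiv s.pt N).symm.injective
  refine Eq.trans (homEquiv_symm_comp_pre (c.ι.app j) _) ?_
  have h : ((ModSite.sheafHomAdj c.pt).homEquiv s.pt N).symm (liftT c hc N s) = descT c hc N s :=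
    Equiv.symm_apply_apply _ _
  exact (congrArg (fun z => (TL O s.pt).map (c.ι.app j) ≫ z) h).trans (ι_descT c hc N s j)

theorem liftT_uniq (N : ModSite.Mod O)
    (s : Cone ((A.op ⋙ shomFunctor) ⋙ (evaluation _ _).obj N))
    (m : s.pt ⟶ (ModSite.sheafHom c.pt).obj N)
    (hm : ∀ j, m ≫ (pre (c.ι.app j)).app N = leg N s j) : m = liftT c hc N s := by
  apply ((ModSite.sheafHomAdj c.pt).homEquiv s.pt N).symm.injective
  have h : ((ModSite.sheafHomAdj c.pt).homEquiv s.pt N).symm (liftT c hc N s) = descT c hc N s :=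
    Equiv.symm_apply_apply _ _
  refine Eq.trans ?_ h.symm
  apply descT_uniq
  intro j
  refine Eq.trans ?_ (congrArg ((ModSite.sheafHomAdj (A.obj j)).homEquiv s.pt N).symm (hm j))
  exact (homEquiv_symm_comp_pre (c.ι.app j) m).symm

include hc in
/-- `Hom(colim A, N) = lim Hom(A j, N)` -/
theorem nonempty_isLimit_eval (N : ModSite.Mod O) :
    Nonempty (IsLimit (((evaluation _ _).obj N).mapCone (shomFunctor.mapCone c.op))) := by
  refine ⟨{ lift := fun s => liftT c hc N s
            fac := ?_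
            uniq := ?_ }⟩
  · intro s j
    obtain ⟨j⟩ := j
    exact liftT_comp_pre c hc N s j
  · intro s m hm
    exact liftT_uniq c hc N s m (fun j => hm (op j))

include hc in
/-- `Hom(colim A, -) = lim Hom(A j, -)` as functors -/
theorem nonempty_isLimit_shom : Nonempty (IsLimit (shomFunctor.mapCone c.op)) :=
  ⟨evaluationJointlyReflectsLimits _ (fun N => (nonempty_isLimit_eval c hc N).some)⟩

end Limit

end Groth.Agent.Helper29.ShomA
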