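import Mathlib
import Groth.Prelude.Def_ModSite
import Groth.Agent.Lib.Helper17.MT18
import Groth.Agent.Lib.Helper17.MP2
import Groth.Agent.Lib.Helper29.ShomA

/-!
# The internal hom out of a finitely presented module commutes with filtered colimits (global case)
-/

open CategoryTheory Limits MonoidalCategory Opposite

namespace Groth.Agent.Helper29.ShomB

open Groth.Agent.Helper17.MT Groth.Agent.Helper29.ShomA

universe u w

variable {C : Type u} [SmallCategory C] {J : GrothendieckTopology C} {O : Sheaf J CommRingCat.{u}}

attribute [local instance] hasSheafHom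

variable {Λ : Type u} [SmallCategory Λ] [IsFiltered Λ] (D : Λ ⥤ ModSite.Mod O)

/-- the modules whose internal hom commutes with the colimit of `D` -/
def Good (A : ModSite.Mod O) : Prop := PreservesColimit D (ModSite.sheafHom A)

/-- `Hom(O, -) ≅ id` -/
noncomputable def shomUnitIso : ModSite.sheafHom (ModSite.unit O) ≅ 𝟭 (ModSite.Mod O) :=
  (ModSite.sheafHomAdj (ModSite.unit O)).rightAdjointUniq
    (Adjunction.id.ofNatIsoLeft ((TLIsoTR O (ModSite.unit O)).symm ≪≫ TLunitIso O).symm)

theorem good_unit : Good D (ModSite.unit O) :=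
  preservesColimit_of_natIso D (shomUnitIso (O := O)).symm

theorem good_of_isColimit {𝒥 : Type w} [SmallCategory 𝒥] [FinCategory 𝒥] {A : 𝒥 ⥤ ModSite.Mod O}
    (c : Cocone A) (hc : IsColimit c) [∀ T : ModSite.Mod O, PreservesColimit A (TL O T)]
    (h : ∀ j, Good D (A.obj j)) : Good D c.pt := by
  have hex : HasExactColimitsOfShape Λ (ModSite.Mod O) :=
    Groth.Agent.Helper17.MP.hasExactColimitsOfShape_filtered (ModSite.ringSh O) Λ
  have hpf : PreservesFiniteLimits (colim : (Λ ⥤ ModSite.Mod O) ⥤ ModSite.Mod O) :=
    HasExactColimitsOfShape.preservesFiniteLimits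
  have : PreservesLimitsOfShape 𝒥ᵒᵖ (colim : (Λ ⥤ ModSite.Mod O) ⥤ ModSite.Mod O) :=
    inferInstance
  have hiso : IsIso (colimit.post D (shomFunctor.mapCone c.op).pt) := by
    apply isIso_post_of_isLimit D (A.op ⋙ shomFunctor) (shomFunctor.mapCone c.op)
      (nonempty_isLimit_shom c hc).some
    intro k
    have : PreservesColimit D (ModSite.sheafHom (A.obj k.unop)) := h k.unop
    exact inferInstanceAs (IsIso (colimit.post D (ModSite.sheafHom (A.obj k.unop))))
  have hiso' : IsIso (colimit.post D (ModSite.sheafHom c.pt)) := hiso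
  exact preservesColimit_of_isIso_post (F := D) (G := ModSite.sheafHom c.pt)

theorem good_free (I : Type u) [Finite I] :
    Good D (SheafOfModules.free (R := ModSite.ringSh O) I) := by
  have : Fintype I := Fintype.ofFinite I
  exact good_of_isColimit D (SheafOfModules.freeCofan (R := ModSite.ringSh O) I)
    (SheafOfModules.isColimitFreeCofan I) (fun _ => good_unit D)

theorem good_of_presentation {F : ModSite.Mod O} (P : F.Presentation) [P.IsFinite] :
    Good D F := by
  have h : ∀ j, Good D ((parallelPair
      ((SheafOfModules.freeHomEquiv _).symm P.relations.s ≫ kernel.ι P.generators.π) 0).obj j) := by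
    rintro (_ | _)
    · exact good_free D P.relations.I
    · exact good_free D P.generators.I
  exact good_of_isColimit D _ P.isColimit h

end Groth.Agent.Helper29.ShomB
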