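import Mathlib
import Groth.Prelude.Def_ModSite
import Groth.Agent.Lib.Helper17.MT18

/-!
# Restriction of sheaves of modules to `C/U` preserves colimits
-/

open CategoryTheory Limits MonoidalCategory Opposite

namespace Groth.Agent.Helper29.ShomC

open Groth.Agent.Helper17.MT

universe u

section Presheaf

variable {C₁ : Type u} [SmallCategory C₁] {C₂ : Type u} [SmallCategory C₂] {F : C₁ ⥤ C₂}
  {R : C₂ᵒᵖ ⥤ RingCat.{u}} {S : C₁ᵒᵖ ⥤ RingCat.{u}} (φ : S ⟶ F.op ⋙ R)

/-- pushforward of presheaves of modules preserves colimits -/
instance preservesColimits_pushforward :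
    PreservesColimitsOfSize.{u, u} (PresheafOfModules.pushforward.{u} φ) := by
  refine ⟨fun {K} _ => ⟨fun {Dg} => ⟨fun {c} hc => ⟨?_⟩⟩⟩⟩
  refine PresheafOfModules.evaluationJointlyReflectsColimits _ _ (fun X => ?_)
  have h1 : IsColimit ((PresheafOfModules.evaluation R (F.op.obj X)).mapCocone c) :=
    isColimitOfPreserves _ hc
  have h2 := isColimitOfPreserves (ModuleCat.restrictScalars.{u} (φ.app X).hom) h1
  exact h2

end Presheaf

variable {C : Type u} [SmallCategory C] {J : GrothendieckTopology C} (O : Sheaf J CommRingCat.{u})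
  (U : C)

instance preservesColimits_rP : PreservesColimitsOfSize.{u, u} (rP O U) :=
  preservesColimits_pushforward _

/-- the comparison `a j^* ⟶ j^* a` -/
noncomputable def shfRestrHom : rP O U ⋙ shf (O.over U) ⟶ shf O ⋙ ModSite.restr O U :=
  Functor.whiskerRight
      (PresheafOfModules.sheafificationAdjunction (𝟙 (ModSite.ringSh O).obj)).unit
      (rP O U ⋙ shf (O.over U)) ≫
    (Functor.associator _ _ _).hom ≫
    Functor.whiskerLeft (shf O) ((Functor.associator _ _ _).inv ≫
      Functor.whiskerRight (fgtRPIso O U).hom (shf (O.over U)) ≫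
      (Functor.associator _ _ _).hom ≫
      Functor.whiskerLeft (ModSite.restr O U) (fgtShfIso (O.over U)).hom ≫
      (Functor.rightUnitor _).hom)

instance isIso_shfRestrHom : IsIso (shfRestrHom O U) := by
  have : ∀ P, IsIso ((shfRestrHom O U).app P) := by
    intro P
    have h : IsIso ((shf (O.over U)).map ((rP O U).map (η O P))) := isIso_shf_rP_map O U (η O P)
    have e : (shfRestrHom O U).app P = (shf (O.over U)).map ((rP O U).map (η O P)) ≫
        (shf (O.over U)).map ((fgtRPIso O U).hom.app ((shf O).obj P)) ≫
        (fgtShfIso (O.over U)).hom.app ((ModSite.restr O U).obj ((shf O).obj P)) := by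
      simp [shfRestrHom, η]
      rfl
    rw [e]
    infer_instance
  exact NatIso.isIso_of_isIso_app _

/-- sheafification commutes with restriction -/
noncomputable def shfRestrIso : rP O U ⋙ shf (O.over U) ≅ shf O ⋙ ModSite.restr O U :=
  asIso (shfRestrHom O U)

/-- restriction to `C/U` preserves colimits -/
instance preservesColimits_restr : PreservesColimitsOfSize.{u, u} (ModSite.restr O U) := by
  have h1 : PreservesColimitsOfSize.{u, u} (shf (O.over U)) := inferInstance
  have h2 : PreservesColimitsOfSize.{u, u} (rP O U ⋙ shf (O.over U)) := inferInstance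
  have : PreservesColimitsOfSize.{u, u} (shf O ⋙ ModSite.restr O U) :=
    preservesColimits_of_natIso (shfRestrIso O U)
  exact preservesColimits_of_shf_comp O _

end Groth.Agent.Helper29.ShomC
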