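import Mathlib
import Groth.Prelude.Def_ModSite
import Groth.Agent.Lib.Helper17.MT20
import Groth.Agent.Lib.Helper29.ShomB
import Groth.Agent.Lib.Helper29.ShomC

/-!
# The internal hom out of a module of finite presentation commutes with filtered colimits
-/

open CategoryTheory Limits MonoidalCategory Opposite

namespace Groth.Agent.Helper29.ShomD

open Groth.Agent.Helper17.MT Groth.Agent.Helper29.ShomA Groth.Agent.Helper29.ShomB
  Groth.Agent.Helper29.ShomC

universe u

variable {C : Type u} [SmallCategory C] {J : GrothendieckTopology C} (O : Sheaf J CommRingCat.{u})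

attribute [local instance] hasSheafHom

/-- restriction commutes with the internal hom, as functors -/
noncomputable def shomRestrIso (U : C) (M : ModSite.Mod O) :
    ModSite.sheafHom M ⋙ ModSite.restr O U ≅
      ModSite.restr O U ⋙ ModSite.sheafHom ((ModSite.restr O U).obj M) :=
  ((eSAdj O U).comp (ModSite.sheafHomAdj M)).rightAdjointUniq
    (((ModSite.sheafHomAdj ((ModSite.restr O U).obj M)).comp (eSAdj O U)).ofNatIsoLeft
      (PsiIso O U M))

section Zero

variable {O}

theorem subsingleton_sections_of_isZero {A : ModSite.Mod O} (hA : IsZero A) (Y : Cᵒᵖ) :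
    Subsingleton (A.val.obj Y) := by
  refine ⟨fun y y' => ?_⟩
  have h : (𝟙 A : A ⟶ A) = 0 := hA.eq_of_src _ _
  have h1 : ∀ z : A.val.obj Y, z = 0 := by
    intro z
    have := congrArg (fun f : A ⟶ A => f.val.app Y z) h
    exact this
  rw [h1 y, h1 y']

/-- a module vanishing on a family covering the final object vanishes -/
theorem isZero_of_coversTop {I : Type*} (X : I → C) (hX : J.CoversTop X) (M : ModSite.Mod O)
    (h : ∀ i, IsZero ((ModSite.restr O (X i)).obj M)) : IsZero M := by
  rw [IsZero.iff_id_eq_zero]
  apply (SheafOfModules.forget _).map_injective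
  apply (PresheafOfModules.toPresheaf _).map_injective
  ext W s
  refine (isSeparated_val' O M _ (hX W.unop)).ext (fun Z k hk => ?_)
  obtain ⟨i, ⟨g⟩⟩ := hk
  have hsub : Subsingleton (M.val.obj (op Z)) :=
    subsingleton_sections_of_isZero (h i) (op (Over.mk g))
  exact Subsingleton.elim (α := M.val.obj (op Z)) _ _

/-- restrictions to a family covering the final object are jointly conservative -/
theorem isIso_of_coversTop {I : Type*} (X : I → C) (hX : J.CoversTop X) {M N : ModSite.Mod O}
    (f : M ⟶ N) (h : ∀ i, IsIso ((ModSite.restr O (X i)).map f)) : IsIso f := by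
  have hk : IsZero (kernel f) := by
    apply isZero_of_coversTop X hX
    intro i
    have := h i
    exact IsZero.of_iso (isZero_kernel_of_mono ((ModSite.restr O (X i)).map f))
      (PreservesKernel.iso (ModSite.restr O (X i)) f)
  have hc : IsZero (cokernel f) := by
    apply isZero_of_coversTop X hX
    intro i
    have := h i
    have : PreservesColimitsOfSize.{0, 0} (ModSite.restr O (X i)) :=
      preservesColimitsOfSize_shrink.{0, u, 0, u} _
    exact IsZero.of_iso (isZero_cokernel_of_epi ((ModSite.restr O (X i)).map f))
      (PreservesCokernel.iso (ModSite.restr O (X i)) f)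
  have : Mono f := Preadditive.mono_of_isZero_kernel f hk
  have : Epi f := Preadditive.epi_of_isZero_cokernel f hc
  exact isIso_of_mono_of_epi f

end Zero

theorem main9096 (F : ModSite.Mod O) [ModSite.HasSheafHom F]
    [SheafOfModules.IsFinitePresentation (R := ModSite.ringSh O) F] {Λ : Type u} [SmallCategory Λ]
    [IsFiltered Λ] (D : Λ ⥤ ModSite.Mod O) :
    PreservesColimit D (ModSite.sheafHom F) := by
  obtain ⟨σ, hσ⟩ := SheafOfModules.IsFinitePresentation.exists_quasicoherentData
    (R := ModSite.ringSh O) F
  have hiso : IsIso (colimit.post D (ModSite.sheafHom F)) := by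
    apply isIso_of_coversTop σ.X σ.coversTop
    intro i
    let R := ModSite.restr O (σ.X i)
    have hfin : (σ.presentation i).IsFinite := hσ.isFinite_presentation i
    have hgood : PreservesColimit (D ⋙ R) (ModSite.sheafHom (R.obj F)) :=
      @good_of_presentation _ _ _ (O.over (σ.X i)) _ _ _ (D ⋙ R) (R.obj F) (σ.presentation i) hfin
    have h1 : PreservesColimit D (R ⋙ ModSite.sheafHom (R.obj F)) := inferInstance
    have h2 : PreservesColimit D (ModSite.sheafHom F ⋙ R) :=
      preservesColimit_of_natIso D (shomRestrIso O (σ.X i) F).symm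
    have h3 := colimit.post_post D (ModSite.sheafHom F) R
    have h4 : IsIso (colimit.post D (ModSite.sheafHom F ⋙ R)) := inferInstance
    have h5 : IsIso (colimit.post (D ⋙ ModSite.sheafHom F) R) := inferInstance
    rw [← h3] at h4
    exact IsIso.of_isIso_comp_left (colimit.post (D ⋙ ModSite.sheafHom F) R) _
  exact preservesColimit_of_isIso_post (F := D) (G := ModSite.sheafHom F)

end Groth.Agent.Helper29.ShomD
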