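import Mathlib
import Groth.Prelude.Def_W4bk4bump814p2PDiff

set_option linter.unusedSectionVars false

/-!
# The filtration `Σ^i` of Kähler differentials by `p^i`-th power differentials

Main input: the Witt addition polynomials give, for all `a b`, elements `σ_0 = a + b, σ_1, …` with
`∑_{j ≤ i} δ_{i-j}(σ_j) = δ_i(a) + δ_i(b)`.
-/

namespace Groth.Agent.Helper29.SigmaDelta

open MvPolynomial Finset W4bk4bump814p2

universe u v

section Universal

variable (p : ℕ) [hp : Fact p.Prime]

/-- Specialisation `X_{b,0} ↦ X_b`, `X_{b,k} ↦ 0` for `k ≥ 1`. -/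
noncomputable def ev : MvPolynomial (Fin 2 × ℕ) ℤ →ₐ[ℤ] MvPolynomial (Fin 2) ℤ :=
  aeval (fun bk : Fin 2 × ℕ => if bk.2 = 0 then X bk.1 else 0)

/-- The specialised Witt addition polynomials. -/
noncomputable def s (j : ℕ) : MvPolynomial (Fin 2) ℤ :=
  ev (wittStructureInt p (X 0 + X 1 : MvPolynomial (Fin 2) ℤ) j)

theorem ev_rename_witt (b : Fin 2) (n : ℕ) :
    ev (rename (Prod.mk b) (wittPolynomial p ℤ n)) = X b ^ p ^ n := by
  rw [ev, aeval_rename, wittPolynomial_eq_sum_C_mul_X_pow, map_sum]
  rw [Finset.sum_eq_single 0]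
  · simp
  · intro k _ hk
    simp only [map_mul, map_pow, aeval_X, Function.comp_apply, if_neg hk]
    rw [zero_pow (pow_ne_zero _ hp.out.ne_zero), mul_zero]
  · intro h
    exact absurd (Finset.mem_range.2 (Nat.succ_pos n)) h

theorem ghost (i : ℕ) :
    ∑ j ∈ range (i + 1), C ((p : ℤ) ^ j) * s p j ^ p ^ (i - j) =
      (X 0 : MvPolynomial (Fin 2) ℤ) ^ p ^ i + X 1 ^ p ^ i := by
  have h := congrArg ev (wittStructureInt_prop p (X 0 + X 1 : MvPolynomial (Fin 2) ℤ) i)
  rw [map_add, bind₁_X_right, bind₁_X_right, map_add, ev_rename_witt, ev_rename_witt] at h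
  rw [← h, ev, aeval_bind₁, wittPolynomial_eq_sum_C_mul_X_pow, map_sum]
  apply Finset.sum_congr rfl
  intro j _
  simp only [map_mul, map_pow, aeval_X, aeval_C, s, ev]
  rfl

omit hp in
/-- `D (f ^ m) = m • δ`-type formula: `D (f ^ (p ^ k)) = p ^ k • δ_k f`. -/
theorem D_pow_eq {K : Type*} {A : Type*} [CommRing K] [CommRing A] [Algebra K A] (k : ℕ) (f : A) :
    KaehlerDifferential.D K A (f ^ p ^ k) = (p ^ k : ℕ) • delta K A p k f := by
  rw [Derivation.leibniz_pow, delta]

theorem int_smul_eq_zero {ω : Ω[MvPolynomial (Fin 2) ℤ⁄ℤ]} {n : ℕ} (hn : n ≠ 0)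
    (h : n • ω = 0) : ω = 0 := by
  have : Module.Free (MvPolynomial (Fin 2) ℤ) (Ω[MvPolynomial (Fin 2) ℤ⁄ℤ]) :=
    Module.Free.of_basis (KaehlerDifferential.mvPolynomialBasis ℤ (Fin 2))
  have h2 : ((n : MvPolynomial (Fin 2) ℤ)) • ω = 0 := by
    rw [Nat.cast_smul_eq_nsmul]; exact h
  rcases smul_eq_zero.1 h2 with h3 | h3
  · exact absurd (by exact_mod_cast h3) hn
  · exact h3

/-- The universal identity in `Ω[ℤ[X,Y]/ℤ]`. -/
theorem universal (i : ℕ) :
    ∑ j ∈ range (i + 1), delta ℤ (MvPolynomial (Fin 2) ℤ) p (i - j) (s p j) =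
      delta ℤ (MvPolynomial (Fin 2) ℤ) p i (X 0) + delta ℤ (MvPolynomial (Fin 2) ℤ) p i (X 1) := by
  have h := congrArg (KaehlerDifferential.D ℤ (MvPolynomial (Fin 2) ℤ)) (ghost p i)
  rw [map_add, D_pow_eq, D_pow_eq, map_sum] at h
  have h1 : ∀ j ∈ range (i + 1),
      KaehlerDifferential.D ℤ (MvPolynomial (Fin 2) ℤ) (C ((p : ℤ) ^ j) * s p j ^ p ^ (i - j)) =
        (p ^ i : ℕ) • delta ℤ (MvPolynomial (Fin 2) ℤ) p (i - j) (s p j) := by
    intro j hj
    have hj' : j ≤ i := Nat.lt_succ_iff.1 (Finset.mem_range.1 hj)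
    rw [Derivation.leibniz, D_pow_eq]
    have : KaehlerDifferential.D ℤ (MvPolynomial (Fin 2) ℤ) (C ((p : ℤ) ^ j)) = 0 := by
      rw [← algebraMap_eq]; exact Derivation.map_algebraMap _ _
    rw [this, smul_zero, add_zero]
    have h2 : (C ((p : ℤ) ^ j) : MvPolynomial (Fin 2) ℤ) = ((p ^ j : ℕ) : MvPolynomial (Fin 2) ℤ) := by
      push_cast; simp
    rw [h2, Nat.cast_smul_eq_nsmul, ← mul_smul, ← pow_add, Nat.add_sub_cancel' hj']
  rw [Finset.sum_congr rfl h1, ← Finset.smul_sum, ← smul_add] at h
  have h3 : (p ^ i) • (∑ j ∈ range (i + 1), delta ℤ (MvPolynomial (Fin 2) ℤ) p (i - j) (s p j) -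
      (delta ℤ (MvPolynomial (Fin 2) ℤ) p i (X 0) + delta ℤ (MvPolynomial (Fin 2) ℤ) p i (X 1))) = 0 := by
    rw [smul_sub, h, sub_self]
  exact sub_eq_zero.1 (int_smul_eq_zero (pow_ne_zero _ hp.out.ne_zero) h3)

theorem s_zero : s p 0 = X 0 + X 1 := by
  have := ghost p 0
  simpa using this

section Transport

variable {K : Type u} {A : Type v} [CommRing K] [CommRing A] [Algebra K A]

/-- The elements `σ_j(a, b)`. -/
noncomputable def sig (a b : A) (j : ℕ) : A := aeval ![a, b] (s p j)

theorem sig_zero (a b : A) : sig p a b 0 = a + b := by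
  simp [sig, s_zero]

theorem delta_sum (i : ℕ) (a b : A) :
    ∑ j ∈ range (i + 1), delta K A p (i - j) (sig p a b j) =
      delta K A p i a + delta K A p i b := by
  let φ : MvPolynomial (Fin 2) ℤ →ₐ[ℤ] A := aeval ![a, b]
  let _ : Algebra (MvPolynomial (Fin 2) ℤ) A := φ.toRingHom.toAlgebra
  have hsc : SMulCommClass K (MvPolynomial (Fin 2) ℤ) A :=
    ⟨fun k f x => by simp only [Algebra.smul_def]; ring⟩
  have key : ∀ (k : ℕ) (f : MvPolynomial (Fin 2) ℤ),
      KaehlerDifferential.map ℤ K (MvPolynomial (Fin 2) ℤ) A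
        (delta ℤ (MvPolynomial (Fin 2) ℤ) p k f) = delta K A p k (φ f) := by
    intro k f
    rw [delta, delta, LinearMap.map_smul, KaehlerDifferential.map_D]
    rw [← algebraMap_smul A (f ^ (p ^ k - 1))
      (KaehlerDifferential.D K A (algebraMap (MvPolynomial (Fin 2) ℤ) A f)), map_pow]
    rfl
  have h := congrArg (KaehlerDifferential.map ℤ K (MvPolynomial (Fin 2) ℤ) A) (universal p i)
  rw [map_sum, map_add, key, key] at h
  simp only [key] at h
  have h0 : φ (X 0) = a := by simp [φ]
  have h1 : φ (X 1) = b := by simp [φ]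
  rw [h0, h1] at h
  exact h

end Transport

end Universal

end Groth.Agent.Helper29.SigmaDelta

namespace Groth.Agent.Helper29.SigmaDelta

open MvPolynomial Finset W4bk4bump814p2

universe u v

section CharP

variable (K : Type u) (A : Type v) [CommRing K] [CommRing A] [Algebra K A]
  (p : ℕ) [hp : Fact p.Prime] [CharP K p]

omit hp in
theorem p_smul_eq_zero (ω : Ω[A⁄K]) : p • ω = 0 := by
  rw [← Nat.cast_smul_eq_nsmul K, CharP.cast_eq_zero K p, zero_smul]

omit hp [CharP K p] in
theorem delta_zero' (i : ℕ) : delta K A p i 0 = 0 := by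
  rw [delta, map_zero, smul_zero]

include K hp in
theorem neg_one_pow_pred (i : ℕ) : (-1 : A) ^ (p ^ i - 1) = 1 := by
  have h1 : (-1 : K) ^ (p ^ i - 1) = 1 := by
    have h2 : (-1 : K) ^ (p ^ i - 1) * (-1) = -1 := by
      rw [← pow_succ, Nat.sub_add_cancel (Nat.one_le_pow _ _ hp.out.pos)]
      exact neg_one_pow_char_pow K p i
    have := congrArg (fun t => t * (-1 : K)) h2
    simpa [mul_assoc] using this
  have := congrArg (algebraMap K A) h1
  simpa using this

include hp in
theorem delta_neg (i : ℕ) (x : A) : delta K A p i (-x) = -delta K A p i x := by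
  rw [delta, delta, map_neg, smul_neg, neg_pow, neg_one_pow_pred K A p i, one_mul]

/-- The additive defect of `δ_i`. -/
noncomputable def defect (i : ℕ) (x y : A) : Ω[A⁄K] :=
  delta K A p i (x + y) - delta K A p i x - delta K A p i y

structure Good (i : ℕ) : Prop where
  zero : (0 : Ω[A⁄K]) ∈ sigma K A p i
  add : ∀ a b, a ∈ sigma K A p i → b ∈ sigma K A p i → a + b ∈ sigma K A p i
  neg : ∀ a, a ∈ sigma K A p i → -a ∈ sigma K A p i
  delta_mem : ∀ j, j < i → ∀ x, delta K A p j x ∈ sigma K A p i

variable {K A p}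

omit hp [CharP K p] in
theorem Good.sum_mem {i : ℕ} (h : Good K A p i) {ι : Type*} (t : Finset ι) (f : ι → Ω[A⁄K])
    (hf : ∀ k ∈ t, f k ∈ sigma K A p i) : ∑ k ∈ t, f k ∈ sigma K A p i := by
  classical
  induction t using Finset.induction_on with
  | empty => simpa using h.zero
  | insert a t ha ih =>
    rw [Finset.sum_insert ha]
    exact h.add _ _ (hf a (Finset.mem_insert_self _ _))
      (ih fun k hk => hf k (Finset.mem_insert_of_mem hk))

include hp in
theorem Good.defect_mem {i : ℕ} (h : Good K A p i) (x y : A) :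
    defect K A p i x y ∈ sigma K A p i := by
  have hsum := delta_sum (K := K) p i x y
  rw [Finset.sum_range_succ', sig_zero, Nat.sub_zero] at hsum
  have : defect K A p i x y =
      -∑ j ∈ range i, delta K A p (i - (j + 1)) (sig p x y (j + 1)) := by
    rw [defect, eq_neg_iff_add_eq_zero]
    rw [← sub_eq_zero] at hsum
    rw [← hsum]; abel
  rw [this]
  apply h.neg
  apply h.sum_mem
  intro j hj
  have hj' := Finset.mem_range.1 hj
  exact h.delta_mem _ (by omega) _

variable (K A p)

include hp in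
theorem good : ∀ i, Good K A p i := by
  intro i
  induction i with
  | zero =>
    refine ⟨by simp, ?_, ?_, ?_⟩
    · intro a b ha hb
      simp only [sigma_zero, Set.mem_singleton_iff] at *
      rw [ha, hb, add_zero]
    · intro a ha
      simp only [sigma_zero, Set.mem_singleton_iff] at *
      rw [ha, neg_zero]
    · intro j hj; omega
  | succ i ih =>
    refine ⟨?_, ?_, ?_, ?_⟩
    · rw [mem_sigma_succ]
      exact ⟨0, by rw [delta_zero', sub_zero]; exact ih.zero⟩
    · intro a b ha hb
      rw [mem_sigma_succ] at *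
      obtain ⟨x, hx⟩ := ha
      obtain ⟨y, hy⟩ := hb
      refine ⟨x + y, ?_⟩
      have : a + b - delta K A p i (x + y) =
          (a - delta K A p i x) + (b - delta K A p i y) + -defect K A p i x y := by
        rw [defect]; abel
      rw [this]
      exact ih.add _ _ (ih.add _ _ hx hy) (ih.neg _ (ih.defect_mem x y))
    · intro a ha
      rw [mem_sigma_succ] at *
      obtain ⟨x, hx⟩ := ha
      refine ⟨-x, ?_⟩
      rw [delta_neg]
      have : -a - -delta K A p i x = -(a - delta K A p i x) := by abel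
      rw [this]
      exact ih.neg _ hx
    · intro j hj x
      rw [mem_sigma_succ]
      rcases Nat.lt_succ_iff_lt_or_eq.1 hj with h | h
      · exact ⟨0, by rw [delta_zero', sub_zero]; exact ih.delta_mem j h x⟩
      · subst h
        exact ⟨x, by rw [sub_self]; exact ih.zero⟩

theorem sigma_mono (i : ℕ) {ω : Ω[A⁄K]} (h : ω ∈ sigma K A p i) : ω ∈ sigma K A p (i + 1) := by
  rw [mem_sigma_succ]
  exact ⟨0, by rw [delta_zero', sub_zero]; exact h⟩

include hp in
/-- S12623 -/
theorem main_defect (i : ℕ) (x y : A) :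
    delta K A p i (x + y) - delta K A p i x - delta K A p i y ∈ sigma K A p i :=
  (good K A p i).defect_mem x y

include hp in
/-- S12625 -/
theorem main_closure (i : ℕ) :
    sigma K A p i =
      (AddSubgroup.closure (⋃ j ∈ Finset.range i, Set.range (delta K A p j)) : Set (Ω[A⁄K])) := by
  apply Set.Subset.antisymm
  · induction i with
    | zero =>
      intro ω hω
      simp only [sigma_zero, Set.mem_singleton_iff] at hω
      rw [hω]
      exact zero_mem _
    | succ i ih =>
      intro ω hω
      rw [mem_sigma_succ] at hω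
      obtain ⟨x, hx⟩ := hω
      have h1 : ω - delta K A p i x ∈
          AddSubgroup.closure (⋃ j ∈ Finset.range (i + 1), Set.range (delta K A p j)) := by
        refine AddSubgroup.closure_mono ?_ (ih hx)
        apply Set.biUnion_subset_biUnion_left
        intro j hj
        exact Finset.mem_range.2 (Nat.lt_succ_of_lt (Finset.mem_range.1 hj))
      have h2 : delta K A p i x ∈
          AddSubgroup.closure (⋃ j ∈ Finset.range (i + 1), Set.range (delta K A p j)) := by
        apply AddSubgroup.subset_closure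
        simp only [Set.mem_iUnion, Set.mem_range]
        exact ⟨i, Finset.mem_range.2 (Nat.lt_succ_self i), x, rfl⟩
      have := add_mem h1 h2
      rwa [sub_add_cancel] at this
  · have hg := good K A p i
    let T : AddSubgroup (Ω[A⁄K]) :=
      { carrier := sigma K A p i
        zero_mem' := hg.zero
        add_mem' := fun {a b} ha hb => hg.add a b ha hb
        neg_mem' := fun {a} ha => hg.neg a ha }
    have : AddSubgroup.closure (⋃ j ∈ Finset.range i, Set.range (delta K A p j)) ≤ T := by
      rw [AddSubgroup.closure_le]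
      intro ω hω
      simp only [Set.mem_iUnion, Set.mem_range] at hω
      obtain ⟨j, hj, x, rfl⟩ := hω
      exact hg.delta_mem j (Finset.mem_range.1 hj) x
    exact this

include hp in
/-- S12626 -/
theorem main_pow_smul : ∀ (i : ℕ) (x : A) (ω : Ω[A⁄K]), ω ∈ sigma K A p i →
    (x ^ (p ^ i)) • ω ∈ sigma K A p i := by
  intro i
  induction i with
  | zero =>
    intro x ω hω
    simp only [sigma_zero, Set.mem_singleton_iff] at *
    rw [hω, smul_zero]
  | succ i ih =>
    intro x ω hω
    have hg := good K A p (i + 1)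
    rw [mem_sigma_succ] at hω
    obtain ⟨y, hy⟩ := hω
    have h1 : (x ^ p ^ (i + 1)) • (ω - delta K A p i y) ∈ sigma K A p (i + 1) := by
      apply sigma_mono
      have := ih (x ^ p) _ hy
      rwa [← pow_mul, ← pow_succ'] at this
    have h2 : (x ^ p ^ (i + 1)) • delta K A p i y = delta K A p i (x ^ p * y) := by
      have hD : KaehlerDifferential.D K A (x ^ p) = 0 := by
        rw [Derivation.leibniz_pow, p_smul_eq_zero K A p]
      rw [delta, delta, Derivation.leibniz, hD, smul_zero, add_zero, smul_smul, smul_smul]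
      congr 1
      have h3 : p ^ i - 1 + 1 = p ^ i := Nat.sub_add_cancel (Nat.one_le_pow _ _ hp.out.pos)
      calc x ^ p ^ (i + 1) * y ^ (p ^ i - 1)
          = (x ^ p) ^ (p ^ i - 1 + 1) * y ^ (p ^ i - 1) := by
            rw [h3, ← pow_mul, ← pow_succ']
        _ = (x ^ p * y) ^ (p ^ i - 1) * x ^ p := by
            rw [pow_succ, mul_pow]; ring
    have h4 : (x ^ p ^ (i + 1)) • ω =
        (x ^ p ^ (i + 1)) • (ω - delta K A p i y) + delta K A p i (x ^ p * y) := by
      rw [← h2, ← smul_add, sub_add_cancel]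
    rw [h4]
    exact hg.add _ _ h1 (hg.delta_mem i (Nat.lt_succ_self i) _)

end CharP

section Perfect

variable (K : Type u) (A : Type v) [Field K] [PerfectField K] (p : ℕ) [hp : Fact p.Prime]
  [CharP K p] [CommRing A] [Algebra K A]

theorem smul_mem : ∀ (i : ℕ) (c : K) (ω : Ω[A⁄K]), ω ∈ sigma K A p i → c • ω ∈ sigma K A p i := by
  intro i
  induction i with
  | zero =>
    intro c ω hω
    simp only [sigma_zero, Set.mem_singleton_iff] at *
    rw [hω, smul_zero]
  | succ i ih =>
    intro c ω hω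
    rw [mem_sigma_succ] at *
    obtain ⟨x, hx⟩ := hω
    have : PerfectRing K p := PerfectField.toPerfectRing p
    let e : K := (iterateFrobeniusEquiv K p i).symm c
    have he : e ^ p ^ i = c := by
      have := (iterateFrobeniusEquiv K p i).apply_symm_apply c
      rwa [iterateFrobeniusEquiv_def] at this
    refine ⟨e • x, ?_⟩
    have h1 : delta K A p i (e • x) = c • delta K A p i x := by
      rw [delta, delta, Derivation.map_smul, smul_pow, smul_assoc, smul_comm (x ^ (p ^ i - 1)) e,
        smul_smul, ← pow_succ, Nat.sub_add_cancel (Nat.one_le_pow _ _ hp.out.pos), he]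
    rw [h1, ← smul_sub]
    exact ih c _ hx

/-- S12624 -/
theorem main_submodule (i : ℕ) :
    ∃ S : Submodule K (Ω[A⁄K]), (S : Set (Ω[A⁄K])) = sigma K A p i := by
  have hg := good K A p i
  exact ⟨{ carrier := sigma K A p i
           zero_mem' := hg.zero
           add_mem' := fun {a b} ha hb => hg.add a b ha hb
           smul_mem' := fun c ω hω => smul_mem K A p i c ω hω }, rfl⟩

end Perfect

end Groth.Agent.Helper29.SigmaDelta
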