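import Mathlib

set_option autoImplicit false
universe u v

namespace Groth.Agent.Helper29

open Polynomial

variable {k : Type u} [Field k] {V : Type v} [AddCommGroup V] [Module k V]

theorem sim_pow_adjoint (B : LinearMap.BilinForm k V) (q : k) (M : V ≃ₗ[k] V)
    (hM : ∀ x y : V, B (M x) (M y) = q * B x y) (n : ℕ) (x y : V) :
    B (((M : V →ₗ[k] V) ^ n) x) y = q ^ n * B x (((M.symm : V →ₗ[k] V) ^ n) y) := by
  induction n generalizing x y with
  | zero => simp
  | succ n ih =>
    rw [pow_succ', pow_succ (M.symm : V →ₗ[k] V)]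
    simp only [Module.End.mul_apply, LinearEquiv.coe_coe]
    have := hM (((M : V →ₗ[k] V) ^ n) x) (M.symm y)
    rw [M.apply_symm_apply] at this
    rw [this, ih, pow_succ]
    ring

theorem sim_pow_adjoint' (B : LinearMap.BilinForm k V) (q : k) (M : V ≃ₗ[k] V)
    (hM : ∀ x y : V, B (M x) (M y) = q * B x y) (n : ℕ) (x y : V) :
    B x (((M : V →ₗ[k] V) ^ n) y) = q ^ n * B (((M.symm : V →ₗ[k] V) ^ n) x) y := by
  induction n generalizing x y with
  | zero => simp
  | succ n ih =>
    rw [pow_succ', pow_succ (M.symm : V →ₗ[k] V)]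
    simp only [Module.End.mul_apply, LinearEquiv.coe_coe]
    have := hM (M.symm x) (((M : V →ₗ[k] V) ^ n) y)
    rw [M.apply_symm_apply] at this
    rw [this, ih, pow_succ]
    ring

theorem sim_aeval_adjoint (B : LinearMap.BilinForm k V) (q : k) (M : V ≃ₗ[k] V)
    (hM : ∀ x y : V, B (M x) (M y) = q * B x y) (P : k[X]) (x y : V) :
    B (aeval (M : V →ₗ[k] V) P x) y = B x (aeval (q • (M.symm : V →ₗ[k] V)) P y) := by
  induction P using Polynomial.induction_on' with
  | add p r hp hr =>
    simp only [map_add, LinearMap.add_apply, hp, hr]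
  | monomial n a =>
    simp only [aeval_monomial, Module.algebraMap_end_eq_smul_id, LinearMap.smul_apply,
      Module.End.mul_apply, LinearMap.id_coe, id_eq, map_smul, _root_.smul_pow]
    rw [sim_pow_adjoint B q M hM]
    simp only [smul_eq_mul]
    ring

theorem sim_aeval_adjoint' (B : LinearMap.BilinForm k V) (q : k) (M : V ≃ₗ[k] V)
    (hM : ∀ x y : V, B (M x) (M y) = q * B x y) (P : k[X]) (x y : V) :
    B x (aeval (M : V →ₗ[k] V) P y) = B (aeval (q • (M.symm : V →ₗ[k] V)) P x) y := by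
  induction P using Polynomial.induction_on' with
  | add p r hp hr =>
    simp only [map_add, LinearMap.add_apply, hp, hr]
  | monomial n a =>
    simp only [aeval_monomial, Module.algebraMap_end_eq_smul_id, LinearMap.smul_apply,
      Module.End.mul_apply, LinearMap.id_coe, id_eq, map_smul, _root_.smul_pow]
    rw [sim_pow_adjoint' B q M hM]
    simp only [smul_eq_mul]
    ring

theorem equiv_symm_mul_self (M : V ≃ₗ[k] V) : (M.symm : V →ₗ[k] V) * (M : V →ₗ[k] V) = 1 := by
  ext v; simp

theorem equiv_self_mul_symm (M : V ≃ₗ[k] V) : (M : V →ₗ[k] V) * (M.symm : V →ₗ[k] V) = 1 := by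
  ext v; simp

/-- if `μ ν = q` and `(M - μ)^N x = 0` then `(q M⁻¹ - ν)^N x = 0`. -/
theorem sim_key (q μ ν : k) (hq : μ * ν = q) (M : V ≃ₗ[k] V) (N : ℕ) (x : V)
    (hx : (((M : V →ₗ[k] V) - μ • (1 : Module.End k V)) ^ N) x = 0) :
    ((q • (M.symm : V →ₗ[k] V) - ν • (1 : Module.End k V)) ^ N) x = 0 := by
  have hfac : q • (M.symm : V →ₗ[k] V) - ν • (1 : Module.End k V) =
      (-ν • (M.symm : V →ₗ[k] V)) * ((M : V →ₗ[k] V) - μ • (1 : Module.End k V)) := by
    ext v
    subst hq
    simp only [LinearMap.sub_apply, LinearMap.smul_apply, LinearEquiv.coe_coe, Module.End.one_apply,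
      Module.End.mul_apply, map_sub, map_smul, LinearEquiv.symm_apply_apply]
    module
  have hcomm : Commute (-ν • (M.symm : V →ₗ[k] V)) ((M : V →ₗ[k] V) - μ • (1 : Module.End k V)) := by
    apply Commute.smul_left
    apply Commute.sub_right
    · show (M.symm : V →ₗ[k] V) * (M : V →ₗ[k] V) = (M : V →ₗ[k] V) * (M.symm : V →ₗ[k] V)
      rw [equiv_symm_mul_self, equiv_self_mul_symm]
    · exact (Commute.one_right _).smul_right _
  rw [hfac, hcomm.mul_pow, Module.End.mul_apply, hx, map_zero]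

/-- orthogonality: if `μ ν = q` and `x ∈ ker (M - μ)^N`, then `x` is orthogonal (on both sides) to
the range of `(M - ν)^N`. -/
theorem sim_orth (B : LinearMap.BilinForm k V) (q μ ν : k) (hq : μ * ν = q) (M : V ≃ₗ[k] V)
    (hM : ∀ x y : V, B (M x) (M y) = q * B x y) (N : ℕ) (x : V)
    (hx : (((M : V →ₗ[k] V) - μ • (1 : Module.End k V)) ^ N) x = 0) (w : V) :
    B x ((((M : V →ₗ[k] V) - ν • (1 : Module.End k V)) ^ N) w) = 0 ∧
    B ((((M : V →ₗ[k] V) - ν • (1 : Module.End k V)) ^ N) w) x = 0 := by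
  have hP : ∀ T : Module.End k V, aeval T ((X - C ν) ^ N : k[X]) = (T - ν • (1 : Module.End k V)) ^ N := by
    intro T
    simp [Algebra.algebraMap_eq_smul_one]
  have hz := sim_key q μ ν hq M N x hx
  constructor
  · have := sim_aeval_adjoint' B q M hM ((X - C ν) ^ N) x w
    rw [hP, hP] at this
    rw [this, hz, map_zero, LinearMap.zero_apply]
  · have := sim_aeval_adjoint B q M hM ((X - C ν) ^ N) w x
    rw [hP, hP] at this
    rw [this, hz, map_zero]

theorem pow_apply_eq_zero_of_le (g : Module.End k V) {n N : ℕ} (h : n ≤ N) (x : V)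
    (hx : (g ^ n) x = 0) : (g ^ N) x = 0 := by
  obtain ⟨m, rfl⟩ := Nat.exists_eq_add_of_le h
  rw [add_comm, pow_add, Module.End.mul_apply, hx, map_zero]

/-- if `μ ≠ ν` and `(M - μ)^N x = 0` then `x` is in the range of `(M - ν)^N`. -/
theorem mem_range_of_coprime (μ ν : k) (hne : μ ≠ ν) (T : Module.End k V) (N : ℕ) (x : V)
    (hx : ((T - μ • (1 : Module.End k V)) ^ N) x = 0) :
    ∃ w : V, ((T - ν • (1 : Module.End k V)) ^ N) w = x := by
  have hcop : IsCoprime ((X - C μ : k[X]) ^ N) ((X - C ν) ^ N) :=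
    (Polynomial.isCoprime_X_sub_C_of_isUnit_sub (sub_ne_zero.mpr hne).isUnit).pow
  obtain ⟨a, b, hab⟩ := hcop
  have hP : ∀ c : k, aeval T ((X - C c) ^ N : k[X]) = (T - c • (1 : Module.End k V)) ^ N := by
    intro c
    simp [Algebra.algebraMap_eq_smul_one]
  have h1 := congrArg (fun P => aeval T P x) hab
  simp only [map_add, map_mul, LinearMap.add_apply, Module.End.mul_apply, map_one,
    Module.End.one_apply, hP] at h1
  rw [hx, map_zero, zero_add] at h1
  refine ⟨aeval T b x, ?_⟩
  have hc : Commute (aeval T b) (aeval T ((X - C ν) ^ N : k[X])) :=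
    (Commute.all b _).map (aeval T)
  rw [hP] at hc
  have := congrArg (fun S : Module.End k V => S x) hc.eq
  simp only [Module.End.mul_apply] at this
  rw [← this, h1]

end Groth.Agent.Helper29
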