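import Mathlib
import Groth.Prelude.Def_ModSite
import Groth.Prelude.Def_ModSite2
import Groth.Agent.Lib.Helper29.SkyA
import Groth.Agent.Lib.Helper29.SkyB

open CategoryTheory Limits Opposite TopologicalSpace

namespace Groth.Agent.Helper29.SkyD

open Groth.Agent.Helper29.SkyA Groth.Agent.Helper29.SkyB

universe u

section cmp

variable {X : TopCat.{u}} (O : Sheaf (Opens.grothendieckTopology X) CommRingCat.{u}) (x : X)

noncomputable abbrev pt : GrothendieckTopology.Point.{u} (Opens.grothendieckTopology X) :=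
  Opens.pointGrothendieckTopology x

theorem memF (U : Opens X) (y : (pt x).fiber.obj U) : x ∈ U := y.down.down

def fibE (U : Opens X) (h : x ∈ U) : (pt x).fiber.obj U := ⟨⟨h⟩⟩

/-- site stalk to topological stalk, for the structure sheaf -/
noncomputable def dO : ModSite.stalkRing (pt x) O ⟶ Rg O x :=
  (pt x).presheafFiberDesc (P := O.obj)
    (fun U y => TopCat.Presheaf.germ (O.obj : TopCat.Presheaf CommRingCat.{u} X) U x (memF x U y))
    (fun U _ g y => TopCat.Presheaf.germ_res (O.obj : TopCat.Presheaf CommRingCat.{u} X) g x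
      (memF x _ y))

theorem dO_germ (U : Opens X) (y : (pt x).fiber.obj U) (a : O.obj.obj (op U)) :
    (dO O x).hom (ModSite.germRing (pt x) U y a) = gR O x U (memF x U y) a := by
  have h := (pt x).toPresheafFiber_presheafFiberDesc (P := O.obj)
    (fun U y => TopCat.Presheaf.germ (O.obj : TopCat.Presheaf CommRingCat.{u} X) U x (memF x U y))
    (fun U _ g y => TopCat.Presheaf.germ_res (O.obj : TopCat.Presheaf CommRingCat.{u} X) g x
      (memF x _ y)) U y
  exact ConcreteCategory.congr_hom h a

theorem dO_surjective : Function.Surjective (dO O x).hom := by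
  intro m
  obtain ⟨U, hxU, s, rfl⟩ := gR_exists O x m
  exact ⟨ModSite.germRing (pt x) U (fibE x U hxU) s, dO_germ O x U _ s⟩

theorem dO_injective : Function.Injective (dO O x).hom := by
  intro z₁ z₂ h
  obtain ⟨U, y, s₁, s₂, rfl, rfl⟩ := (pt x).toPresheafFiber_jointly_surjective₂
    (P := O.obj) z₁ z₂
  have h1 : gR O x U (memF x U y) s₁ = gR O x U (memF x U y) s₂ :=
    (dO_germ O x U y s₁).symm.trans (h.trans (dO_germ O x U y s₂))
  obtain ⟨W, hxW, i₁, i₂, hW⟩ := TopCat.Presheaf.germ_eq
    (O.obj : TopCat.Presheaf CommRingCat.{u} X) x _ _ s₁ s₂ h1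
  have hi : i₂ = i₁ := Subsingleton.elim _ _
  rw [hi] at hW
  exact ((pt x).toPresheafFiber_eq_iff' (P := O.obj) U y s₁ s₂).2
    ⟨W, i₁, fibE x W hxW, Subsingleton.elim _ _, hW⟩

variable {O}
variable (F : ModSite.Mod O)

/-- site stalk to topological stalk -/
noncomputable def dM : ModSite.stalkAb (pt x) F ⟶ St O F x :=
  (pt x).presheafFiberDesc (P := (ModSite.toAb F).obj)
    (fun U y => TopCat.Presheaf.germ (F.val.presheaf : TopCat.Presheaf Ab.{u} X) U x (memF x U y))
    (fun U _ g y => TopCat.Presheaf.germ_res (F.val.presheaf : TopCat.Presheaf Ab.{u} X) g x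
      (memF x _ y))

theorem dM_germ (U : Opens X) (y : (pt x).fiber.obj U) (s : F.val.obj (op U)) :
    (dM x F).hom (ModSite.germ (pt x) F U y s) = gM O F x U (memF x U y) s := by
  have h := (pt x).toPresheafFiber_presheafFiberDesc (P := (ModSite.toAb F).obj)
    (fun U y => TopCat.Presheaf.germ (F.val.presheaf : TopCat.Presheaf Ab.{u} X) U x (memF x U y))
    (fun U _ g y => TopCat.Presheaf.germ_res (F.val.presheaf : TopCat.Presheaf Ab.{u} X) g x
      (memF x _ y)) U y
  exact ConcreteCategory.congr_hom h s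

theorem dM_surjective : Function.Surjective (dM x F).hom := by
  intro m
  obtain ⟨U, hxU, s, rfl⟩ := gM_exists O F x m
  exact ⟨ModSite.germ (pt x) F U (fibE x U hxU) s, dM_germ x F U _ s⟩

theorem dM_injective : Function.Injective (dM x F).hom := by
  intro z₁ z₂ h
  obtain ⟨U, y, s₁, s₂, rfl, rfl⟩ := (pt x).toPresheafFiber_jointly_surjective₂
    (P := (ModSite.toAb F).obj) z₁ z₂
  have h1 : gM O F x U (memF x U y) s₁ = gM O F x U (memF x U y) s₂ :=
    (dM_germ x F U y s₁).symm.trans (h.trans (dM_germ x F U y s₂))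
  obtain ⟨W, hxW, i₁, i₂, hW⟩ := TopCat.Presheaf.germ_eq
    (F.val.presheaf : TopCat.Presheaf Ab.{u} X) x _ _ s₁ s₂ h1
  have hi : i₂ = i₁ := Subsingleton.elim _ _
  rw [hi] at hW
  exact ((pt x).toPresheafFiber_eq_iff' (P := (ModSite.toAb F).obj) U y s₁ s₂).2
    ⟨W, i₁, fibE x W hxW, Subsingleton.elim _ _, hW⟩

theorem dM_smul (r : ModSite.stalkRing (pt x) O) (m : ModSite.stalkAb (pt x) F) :
    (dM x F).hom (r • m) = (dO O x).hom r • (dM x F).hom m := by
  obtain ⟨U, y, r0, rfl⟩ := (pt x).toPresheafFiber_jointly_surjective (P := O.obj) r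
  obtain ⟨V, y', m0, rfl⟩ := (pt x).toPresheafFiber_jointly_surjective
    (P := (ModSite.toAb F).obj) m
  have hxU : x ∈ U := memF x U y
  have hxV : x ∈ V := memF x V y'
  have hxW : x ∈ U ⊓ V := ⟨hxU, hxV⟩
  have hX : ((pt x).toPresheafFiber U y O.obj).hom r0 =
      ((pt x).toPresheafFiber (U ⊓ V) (fibE x _ hxW) O.obj).hom
        ((O.obj.map (homOfLE inf_le_left : U ⊓ V ⟶ U).op).hom r0) := by
    have := (pt x).toPresheafFiber_w_apply (homOfLE inf_le_left : U ⊓ V ⟶ U) (fibE x _ hxW) O.obj r0
    rw [this]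
    congr 1
  have hY : ((pt x).toPresheafFiber V y' (ModSite.toAb F).obj).hom m0 =
      ((pt x).toPresheafFiber (U ⊓ V) (fibE x _ hxW) (ModSite.toAb F).obj).hom
        (((ModSite.toAb F).obj.map (homOfLE inf_le_right : U ⊓ V ⟶ V).op).hom m0) := by
    have := (pt x).toPresheafFiber_w_apply (homOfLE inf_le_right : U ⊓ V ⟶ V) (fibE x _ hxW)
      (ModSite.toAb F).obj m0
    rw [this]
    congr 1
  rw [hX, hY]
  change (dM x F).hom (ModSite.germRing (pt x) (U ⊓ V) (fibE x _ hxW) _ •
      ModSite.germ (pt x) F (U ⊓ V) (fibE x _ hxW) _) =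
    (dO O x).hom (ModSite.germRing (pt x) (U ⊓ V) (fibE x _ hxW) _) •
      (dM x F).hom (ModSite.germ (pt x) F (U ⊓ V) (fibE x _ hxW) _)
  rw [← ModSite.germ_smul, dM_germ, dO_germ, dM_germ]
  exact SkyA.germ_smul O F x (U ⊓ V) hxW _ _

end cmp



section comap

variable {X Y : TopCat.{u}} (f : X ⟶ Y) (O_X : Sheaf (Opens.grothendieckTopology X) CommRingCat.{u})
  (O_Y : Sheaf (Opens.grothendieckTopology Y) CommRingCat.{u})
  (c : O_Y ⟶ ((TopologicalSpace.Opens.map f).sheafPushforwardContinuous CommRingCat.{u}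
      (Opens.grothendieckTopology Y) (Opens.grothendieckTopology X)).obj O_X)
  (x : X)

instance : InitiallySmall.{u} (Opens.map f ⋙ (pt x).fiber).Elements :=
  initiallySmall_of_essentiallySmall _

/-- the comap point -/
noncomputable abbrev pc : GrothendieckTopology.Point.{u} (Opens.grothendieckTopology Y) :=
  (pt x).comap (Opens.map f) (coverPreserving_opens_map f)


noncomputable abbrev adjR := (Opens.map f).sheafAdjunctionContinuous CommRingCat.{u}
  (Opens.grothendieckTopology Y) (Opens.grothendieckTopology X)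

noncomputable abbrev adjS := (pt x).skyscraperSheafAdjunction (A := CommRingCat.{u})

noncomputable abbrev adj2 := (pc f x).skyscraperSheafAdjunction (A := CommRingCat.{u})

noncomputable abbrev adj1 := (adjR f).comp (adjS x)

/-- the comparison iso -/
noncomputable def psi : (pc f x).sheafFiber.obj O_Y ⟶
    (pt x).sheafFiber.obj (FF f O_X O_Y c).invRing :=
  ((pt x).sheafFiberComapIso (Opens.map f) (coverPreserving_opens_map f)
    CommRingCat.{u}).hom.app O_Y

instance : IsIso (psi f O_X O_Y c x) :=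
  Iso.isIso_hom (((pt x).sheafFiberComapIso (Opens.map f) (coverPreserving_opens_map f)
    CommRingCat.{u}).app O_Y)

theorem psi_homEquiv (B : CommRingCat.{u})
    (g : (pt x).sheafFiber.obj (FF f O_X O_Y c).invRing ⟶ B) :
    (adj2 f x).homEquiv O_Y B (psi f O_X O_Y c x ≫ g) =
      (adjR f).homEquiv O_Y ((pt x).skyscraperSheaf B) ((adjS x).homEquiv _ _ g) := by
  have h1 := unit_conjugateEquiv_symm (adj1 f x) (adj2 f x) (𝟙 _) O_Y
  rw [Adjunction.homEquiv_unit, Functor.map_comp, ← Category.assoc]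
  have h2 : (adj2 f x).unit.app O_Y ≫ (pc f x).skyscraperSheafFunctor.map (psi f O_X O_Y c x) =
      (adj1 f x).unit.app O_Y := by
    refine Eq.trans ?_ (Category.comp_id _)
    exact h1.symm
  rw [h2]
  rw [Adjunction.comp_unit_app, Adjunction.homEquiv_unit, Adjunction.homEquiv_unit,
    Functor.map_comp]
  exact Category.assoc _ _ _

theorem unit_app_π (G : Sheaf (Opens.grothendieckTopology X) CommRingCat.{u}) (W : Opens X)
    (y : (pt x).fiber.obj W) :
    ((adjS x).unit.app G).hom.app (op W) ≫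
      Pi.π (fun (_ : (pt x).fiber.obj W) => (pt x).sheafFiber.obj G) y =
      (pt x).toPresheafFiber W y G.obj := by
  have h1 : (adjS x).unit.app G = (adjS x).homEquiv _ _ (𝟙 _) := (Adjunction.homEquiv_id _ _).symm
  have h2 := (pt x).skyscraperSheafAdjunction_homEquiv_apply_hom (A := CommRingCat.{u}) (F := G)
    (𝟙 ((pt x).presheafFiber.obj G.obj))
  have h3 := (pt x).skyscraperPresheafHomEquiv_app_π (A := CommRingCat.{u}) (P := G.obj)
    (𝟙 ((pt x).presheafFiber.obj G.obj)) W y
  rw [Category.comp_id] at h3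
  rw [← h3, h1]
  congr 2

theorem sharp_eq : (FF f O_X O_Y c).invSharp = ((adjR f).homEquiv O_Y O_X).symm c := rfl

theorem psi_sharp (V : Opens Y) (y : (pc f x).fiber.obj V) :
    (pc f x).toPresheafFiber V y O_Y.obj ≫ psi f O_X O_Y c x ≫
        (pt x).sheafFiber.map (FF f O_X O_Y c).invSharp =
      c.hom.app (op V) ≫ (pt x).toPresheafFiber ((Opens.map f).obj V) y O_X.obj := by
  have h1 := psi_homEquiv f O_X O_Y c x _ ((pt x).sheafFiber.map (FF f O_X O_Y c).invSharp)
  have h2 : (adjS x).homEquiv _ _ ((pt x).sheafFiber.map (FF f O_X O_Y c).invSharp) =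
      (FF f O_X O_Y c).invSharp ≫ (adjS x).unit.app O_X := by
    rw [Adjunction.homEquiv_unit]
    exact ((adjS x).unit.naturality (FF f O_X O_Y c).invSharp).symm
  replace h1 : (adj2 f x).homEquiv O_Y _ (psi f O_X O_Y c x ≫
      (pt x).sheafFiber.map (FF f O_X O_Y c).invSharp) =
      c ≫ ((Opens.map f).sheafPushforwardContinuous CommRingCat.{u}
        (Opens.grothendieckTopology Y) (Opens.grothendieckTopology X)).map
          ((adjS x).unit.app O_X) := by
    refine h1.trans ?_
    refine (congrArg ((adjR f).homEquiv O_Y _) h2).trans ?_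
    refine ((adjR f).homEquiv_naturality_right (FF f O_X O_Y c).invSharp
      ((adjS x).unit.app O_X)).trans ?_
    exact congrArg (fun k => k ≫ ((Opens.map f).sheafPushforwardContinuous CommRingCat.{u}
        (Opens.grothendieckTopology Y) (Opens.grothendieckTopology X)).map
          ((adjS x).unit.app O_X)) (Equiv.apply_symm_apply ((adjR f).homEquiv O_Y O_X) c)
  have h3 := (pc f x).skyscraperSheafAdjunction_homEquiv_apply_hom (A := CommRingCat.{u}) (F := O_Y)
    (psi f O_X O_Y c x ≫ (pt x).sheafFiber.map (FF f O_X O_Y c).invSharp)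
  have h4 := (pc f x).skyscraperPresheafHomEquiv_app_π (A := CommRingCat.{u}) (P := O_Y.obj)
    (psi f O_X O_Y c x ≫ (pt x).sheafFiber.map (FF f O_X O_Y c).invSharp) V y
  refine h4.symm.trans ?_
  have h5 := unit_app_π x O_X ((Opens.map f).obj V) y
  refine Eq.trans ?_ (congrArg (fun k => c.hom.app (op V) ≫ k) h5)
  refine Eq.trans ?_ (Category.assoc _ _ _)
  have h6 := congrArg (fun k => k.hom.app (op V)) h1
  exact congrArg (fun k => k ≫ Pi.π (fun (_ : (pt x).fiber.obj ((Opens.map f).obj V)) =>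
    (pt x).sheafFiber.obj O_X) y) ((congrArg (fun k => k.app (op V)) h3).symm.trans h6)



/-- comap-point stalk to topological stalk at `f x` -/
noncomputable def dC : (pc f x).sheafFiber.obj O_Y ⟶ Rg O_Y (f x) :=
  (pc f x).presheafFiberDesc (P := O_Y.obj)
    (fun V y => TopCat.Presheaf.germ (O_Y.obj : TopCat.Presheaf CommRingCat.{u} Y) V (f x)
      (memF x ((Opens.map f).obj V) y))
    (fun V _ g y => TopCat.Presheaf.germ_res (O_Y.obj : TopCat.Presheaf CommRingCat.{u} Y) g (f x)
      (memF x ((Opens.map f).obj _) y))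

theorem dC_germ (V : Opens Y) (y : (pc f x).fiber.obj V) (a : O_Y.obj.obj (op V)) :
    (dC f O_Y x).hom (((pc f x).toPresheafFiber V y O_Y.obj).hom a) =
      gR O_Y (f x) V (memF x ((Opens.map f).obj V) y) a := by
  have h := (pc f x).toPresheafFiber_presheafFiberDesc (P := O_Y.obj)
    (fun V y => TopCat.Presheaf.germ (O_Y.obj : TopCat.Presheaf CommRingCat.{u} Y) V (f x)
      (memF x ((Opens.map f).obj V) y))
    (fun V _ g y => TopCat.Presheaf.germ_res (O_Y.obj : TopCat.Presheaf CommRingCat.{u} Y) g (f x)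
      (memF x ((Opens.map f).obj _) y)) V y
  exact ConcreteCategory.congr_hom h a

theorem dC_surjective : Function.Surjective (dC f O_Y x).hom := by
  intro m
  obtain ⟨V, hxV, s, rfl⟩ := gR_exists O_Y (f x) m
  exact ⟨((pc f x).toPresheafFiber V (fibE x ((Opens.map f).obj V) hxV) O_Y.obj).hom s,
    dC_germ f O_Y x V _ s⟩

theorem dC_injective : Function.Injective (dC f O_Y x).hom := by
  intro z₁ z₂ h
  obtain ⟨V, y, s₁, s₂, rfl, rfl⟩ := (pc f x).toPresheafFiber_jointly_surjective₂
    (P := O_Y.obj) z₁ z₂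
  have h1 : gR O_Y (f x) V (memF x ((Opens.map f).obj V) y) s₁ =
      gR O_Y (f x) V (memF x ((Opens.map f).obj V) y) s₂ :=
    (dC_germ f O_Y x V y s₁).symm.trans (h.trans (dC_germ f O_Y x V y s₂))
  obtain ⟨W, hxW, i₁, i₂, hW⟩ := TopCat.Presheaf.germ_eq
    (O_Y.obj : TopCat.Presheaf CommRingCat.{u} Y) (f x) _ _ s₁ s₂ h1
  have hi : i₂ = i₁ := Subsingleton.elim _ _
  rw [hi] at hW
  exact ((pc f x).toPresheafFiber_eq_iff' (P := O_Y.obj) V y s₁ s₂).2
    ⟨W, i₁, fibE x ((Opens.map f).obj W) hxW, Subsingleton.elim _ _, hW⟩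


theorem rho_dC (z : ((pc f x).sheafFiber (A := CommRingCat.{u})).obj O_Y) :
    (rhoSt f O_X O_Y c x).hom ((dC f O_Y x).hom z) =
      (dO O_X x).hom (((pt x).sheafFiber.map (FF f O_X O_Y c).invSharp).hom
        ((psi f O_X O_Y c x).hom z)) := by
  obtain ⟨V, y, r, rfl⟩ := (pc f x).toPresheafFiber_jointly_surjective (P := O_Y.obj) z
  rw [dC_germ, rhoSt_germ]
  have h := ConcreteCategory.congr_hom (psi_sharp f O_X O_Y c x V y) r
  have h' : ((pt x).sheafFiber.map (FF f O_X O_Y c).invSharp).hom
        ((psi f O_X O_Y c x).hom (((pc f x).toPresheafFiber V y O_Y.obj).hom r)) =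
      ((pt x).toPresheafFiber ((Opens.map f).obj V) y O_X.obj).hom ((c.hom.app (op V)).hom r) := h
  rw [h']
  exact (dO_germ O_X x ((Opens.map f).obj V) y _).symm

end comap

section alg

theorem flat_of_semilinear {A B : Type u} [CommRing A] [CommRing B]
    {M N : Type u} [AddCommGroup M] [AddCommGroup N] [Module A M] [Module B N]
    (e : B →+* A) (he : Function.Bijective e) (d : M →+ N) (hd : Function.Bijective d)
    (hsm : ∀ (b : B) (m : M), d (e b • m) = b • d m) (h : Module.Flat A M) : Module.Flat B N := by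
  letI : Algebra B A := e.toAlgebra
  letI : Module B M := Module.compHom M e
  haveI : IsScalarTower B A M := IsScalarTower.of_algebraMap_smul (fun r m => rfl)
  haveI : Module.Flat B A :=
    Module.Flat.of_linearEquiv (LinearEquiv.ofBijective (Algebra.linearMap B A) he).symm
  haveI : Module.Flat B M := Module.Flat.trans B A M
  let dl : M ≃ₗ[B] N := LinearEquiv.ofBijective
    { toFun := d
      map_add' := map_add d
      map_smul' := fun b m => hsm b m } hd
  exact Module.Flat.of_linearEquiv dl.symm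

end alg

section final

variable {X Y : TopCat.{u}} (f : X ⟶ Y) (O_X : Sheaf (Opens.grothendieckTopology X) CommRingCat.{u})
  (O_Y : Sheaf (Opens.grothendieckTopology Y) CommRingCat.{u})
  (c : O_Y ⟶ ((TopologicalSpace.Opens.map f).sheafPushforwardContinuous CommRingCat.{u}
      (Opens.grothendieckTopology Y) (Opens.grothendieckTopology X)).obj O_X)
  (F : ModSite.Mod O_X)

theorem flat_translate (x : X)
    (hF : @Module.Flat
      (ModSite.stalkRing (Opens.pointGrothendieckTopology x) (FF f O_X O_Y c).invRing)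
      (ModSite.stalkAb (Opens.pointGrothendieckTopology x) F) _ _
      (Module.compHom (ModSite.stalkAb (Opens.pointGrothendieckTopology x) F)
        (((Opens.pointGrothendieckTopology x).sheafFiber (A := CommRingCat.{u})).map
          (FF f O_X O_Y c).invSharp).hom)) :
    @Module.Flat (Rg O_Y (f x)) (St O_X F x) _ _
      (Module.compHom (St O_X F x) (rhoSt f O_X O_Y c x).hom) := by
  let eC : (((pc f x).sheafFiber (A := CommRingCat.{u})).obj O_Y) ≃+* (Rg O_Y (f x)) :=
    RingEquiv.ofBijective (dC f O_Y x).hom ⟨dC_injective f O_Y x, dC_surjective f O_Y x⟩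
  have hpsi : Function.Bijective (psi f O_X O_Y c x).hom :=
    ConcreteCategory.bijective_of_isIso (psi f O_X O_Y c x)
  refine @flat_of_semilinear
    (ModSite.stalkRing (Opens.pointGrothendieckTopology x) (FF f O_X O_Y c).invRing)
    (Rg O_Y (f x)) _ _
    (ModSite.stalkAb (Opens.pointGrothendieckTopology x) F) (St O_X F x) _ _
    (Module.compHom (ModSite.stalkAb (Opens.pointGrothendieckTopology x) F)
        (((Opens.pointGrothendieckTopology x).sheafFiber (A := CommRingCat.{u})).map
          (FF f O_X O_Y c).invSharp).hom)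
    (Module.compHom (St O_X F x) (rhoSt f O_X O_Y c x).hom)
    ((psi f O_X O_Y c x).hom.comp eC.symm.toRingHom) ?_
    (AddMonoidHom.mk' (dM x F).hom (map_add (dM x F).hom))
    ⟨dM_injective x F, dM_surjective x F⟩ ?_ hF
  · exact hpsi.comp eC.symm.bijective
  · intro b m
    change (dM x F).hom ((((Opens.pointGrothendieckTopology x).sheafFiber
      (A := CommRingCat.{u})).map (FF f O_X O_Y c).invSharp).hom
        ((psi f O_X O_Y c x).hom (eC.symm b)) • m) = (rhoSt f O_X O_Y c x).hom b • (dM x F).hom m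
    rw [dM_smul, ← rho_dC]
    congr 2
    exact eC.apply_symm_apply b

end final

end Groth.Agent.Helper29.SkyD
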