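import Mathlib
import Groth.Prelude.Def_ModSite
import Groth.Prelude.Def_ModSite2
import Groth.Agent.Lib.Helper29.SkyA
import Groth.Agent.Lib.Helper17.MT2

open CategoryTheory Limits Opposite TopologicalSpace MonoidalCategory

namespace Groth.Agent.Helper29.SkyE

open Groth.Agent.Helper29.SkyA Groth.Agent.Helper17.MT

universe u

variable {X : TopCat.{u}} (O : Sheaf (Opens.grothendieckTopology X) CommRingCat.{u}) (x : X)
  (F : ModSite.Mod O) (E : Type u) [AddCommGroup E] [Module (Rg O x) E]

/-- `Hom_{O_x}(F_x, E)` -/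
abbrev HomE : Type u := St O F x →ₗ[Rg O x] E

/-- evaluation on presheaves -/
noncomputable def evPre :
    (fgt O).obj (sky O x (HomE O x F E)) ⊗ (fgt O).obj F ⟶ (fgt O).obj (sky O x E) where
  app U := ModuleCat.MonoidalCategory.tensorLift
    (fun (e' : PLift (x ∈ U.unop) → HomE O x F E) (m : F.val.obj U) =>
      (fun h => e' h (gM O F x U.unop h.down m) : PLift (x ∈ U.unop) → E))
    (fun e₁ e₂ m => by
      funext h
      rfl)
    (fun a e' m => by
      funext h
      rfl)
    (fun e' m₁ m₂ => by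
      funext h
      exact (congrArg (e' h) (gM_add O F x U.unop h.down m₁ m₂)).trans (map_add (e' h) _ _))
    (fun a e' m => by
      funext h
      exact (congrArg (e' h) (germ_smul O F x U.unop h.down a m)).trans (map_smul (e' h) _ _))
  naturality {U V} i := by
    apply ModuleCat.MonoidalCategory.tensor_ext
    intro e' m
    funext h
    change (e' ⟨i.unop.le h.down⟩) (gM O F x V.unop h.down (F.val.map i m)) =
      (e' ⟨i.unop.le h.down⟩) (gM O F x U.unop (i.unop.le h.down) m)
    exact congrArg _ (gM_res O F x i.unop h.down m)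


variable {O x F E}
variable {P : ModSite.Mod O}

/-- value at `x` of `β (p ⊗ m)` -/
noncomputable def bval (β : (fgt O).obj P ⊗ (fgt O).obj F ⟶ (fgt O).obj (sky O x E))
    (W : Opens X) (hW : x ∈ W) (p : ((fgt O).obj P).obj (op W)) (m : ((fgt O).obj F).obj (op W)) :
    E :=
  ((β.app (op W)).hom (p ⊗ₜ m) : PLift (x ∈ W) → E) ⟨hW⟩

theorem bval_add_left (β : (fgt O).obj P ⊗ (fgt O).obj F ⟶ (fgt O).obj (sky O x E))
    (W : Opens X) (hW : x ∈ W) (p p' : ((fgt O).obj P).obj (op W))
    (m : ((fgt O).obj F).obj (op W)) :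
    bval β W hW (p + p') m = bval β W hW p m + bval β W hW p' m := by
  have h1 : (β.app (op W)).hom ((p + p') ⊗ₜ m) =
      (β.app (op W)).hom (p ⊗ₜ m) + (β.app (op W)).hom (p' ⊗ₜ m) :=
    (congrArg (β.app (op W)).hom (TensorProduct.add_tmul p p' m)).trans
      (map_add (β.app (op W)).hom _ _)
  exact congrFun h1 ⟨hW⟩

theorem bval_add_right (β : (fgt O).obj P ⊗ (fgt O).obj F ⟶ (fgt O).obj (sky O x E))
    (W : Opens X) (hW : x ∈ W) (p : ((fgt O).obj P).obj (op W))
    (m m' : ((fgt O).obj F).obj (op W)) :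
    bval β W hW p (m + m') = bval β W hW p m + bval β W hW p m' := by
  have h1 : (β.app (op W)).hom (p ⊗ₜ (m + m')) =
      (β.app (op W)).hom (p ⊗ₜ m) + (β.app (op W)).hom (p ⊗ₜ m') :=
    (congrArg (β.app (op W)).hom (TensorProduct.tmul_add p m m')).trans
      (map_add (β.app (op W)).hom _ _)
  exact congrFun h1 ⟨hW⟩

theorem bval_smul_left (β : (fgt O).obj P ⊗ (fgt O).obj F ⟶ (fgt O).obj (sky O x E))
    (W : Opens X) (hW : x ∈ W) (r : (O.obj ⋙ forget₂ CommRingCat RingCat).obj (op W))
    (p : ((fgt O).obj P).obj (op W)) (m : ((fgt O).obj F).obj (op W)) :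
    bval β W hW (r • p) m = gR O x W hW r • bval β W hW p m := by
  have h1 : (β.app (op W)).hom ((r • p) ⊗ₜ m) = r • (β.app (op W)).hom (p ⊗ₜ m) :=
    (congrArg (β.app (op W)).hom (TensorProduct.smul_tmul' r p m).symm).trans
      (map_smul (β.app (op W)).hom _ _)
  exact congrFun h1 ⟨hW⟩

theorem bval_smul_right (β : (fgt O).obj P ⊗ (fgt O).obj F ⟶ (fgt O).obj (sky O x E))
    (W : Opens X) (hW : x ∈ W) (r : (O.obj ⋙ forget₂ CommRingCat RingCat).obj (op W))
    (p : ((fgt O).obj P).obj (op W)) (m : ((fgt O).obj F).obj (op W)) :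
    bval β W hW p (r • m) = gR O x W hW r • bval β W hW p m := by
  have h1 : (β.app (op W)).hom (p ⊗ₜ (r • m)) = r • (β.app (op W)).hom (p ⊗ₜ m) :=
    (congrArg (β.app (op W)).hom (TensorProduct.tmul_smul r p m)).trans
      (map_smul (β.app (op W)).hom _ _)
  exact congrFun h1 ⟨hW⟩

theorem bval_res (β : (fgt O).obj P ⊗ (fgt O).obj F ⟶ (fgt O).obj (sky O x E))
    {W W' : Opens X} (i : W' ⟶ W) (hW' : x ∈ W') (p : ((fgt O).obj P).obj (op W))
    (m : ((fgt O).obj F).obj (op W)) :
    bval β W' hW' (((fgt O).obj P).map i.op p) (((fgt O).obj F).map i.op m) =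
      bval β W (i.le hW') p m := by
  unfold bval
  have h := PresheafOfModules.naturality_apply β i.op (p ⊗ₜ m)
  have h' : (β.app (op W')).hom (((fgt O).obj P).map i.op p ⊗ₜ ((fgt O).obj F).map i.op m) =
      ((fgt O).obj (sky O x E)).map i.op ((β.app (op W)).hom (p ⊗ₜ m)) := h
  rw [h']
  rfl


theorem bval_zero_right (β : (fgt O).obj P ⊗ (fgt O).obj F ⟶ (fgt O).obj (sky O x E))
    (W : Opens X) (hW : x ∈ W) (p : ((fgt O).obj P).obj (op W)) :
    bval β W hW p 0 = 0 := by
  have h0 := bval_add_right β W hW p 0 0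
  rw [add_zero] at h0
  exact add_eq_left.mp h0.symm

/-- restriction to `U ⊓ V` from `U` -/
noncomputable abbrev resL (Q : ModSite.Mod O) (U V : Opens X) (p : ((fgt O).obj Q).obj (op U)) :
    ((fgt O).obj Q).obj (op (U ⊓ V)) :=
  ((fgt O).obj Q).map (homOfLE (inf_le_left : U ⊓ V ≤ U)).op p

/-- restriction to `U ⊓ V` from `V` -/
noncomputable abbrev resR (Q : ModSite.Mod O) (U V : Opens X) (m : ((fgt O).obj Q).obj (op V)) :
    ((fgt O).obj Q).obj (op (U ⊓ V)) :=
  ((fgt O).obj Q).map (homOfLE (inf_le_right : U ⊓ V ≤ V)).op m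

theorem map_map (Q : ModSite.Mod O) {U V W : Opens X} (i : V ⟶ U) (j : W ⟶ V) (k : W ⟶ U)
    (p : ((fgt O).obj Q).obj (op U)) :
    ((fgt O).obj Q).map j.op (((fgt O).obj Q).map i.op p) = ((fgt O).obj Q).map k.op p := by
  have h := PresheafOfModules.map_comp_apply ((fgt O).obj Q) i.op j.op p
  rw [← h]
  exact PresheafOfModules.congr_map_apply _ (Subsingleton.elim _ _) p

/-- for a fixed section `p` of `P` near `x`, the morphism `F ⟶ sky E` -/
noncomputable def cur (β : (fgt O).obj P ⊗ (fgt O).obj F ⟶ (fgt O).obj (sky O x E))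
    (U : Opens X) (hx : x ∈ U) (p : ((fgt O).obj P).obj (op U)) : F ⟶ sky O x E where
  val := PresheafOfModules.homMk (M₂ := skyPre O x E)
    { app := fun V => AddCommGrpCat.ofHom
        { toFun := fun m => (fun h => bval β (U ⊓ V.unop) ⟨hx, h.down⟩ (resL P U V.unop p)
            (resR F U V.unop m) : PLift (x ∈ V.unop) → E)
          map_zero' := by
            funext h
            have h1 : resR F U V.unop (0 : ((fgt O).obj F).obj V) = 0 := map_zero _
            exact (congrArg (bval β (U ⊓ V.unop) ⟨hx, h.down⟩ (resL P U V.unop p)) h1).trans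
              (bval_zero_right β _ _ _)
          map_add' := fun m m' => by
            funext h
            have h1 : resR F U V.unop (m + m') = resR F U V.unop m + resR F U V.unop m' :=
              map_add _ _ _
            exact (congrArg (bval β (U ⊓ V.unop) ⟨hx, h.down⟩ (resL P U V.unop p)) h1).trans
              (bval_add_right β _ _ _ _ _) }
      naturality := fun V V' i => by
        ext m
        funext h
        change bval β (U ⊓ V'.unop) ⟨hx, h.down⟩ (resL P U V'.unop p)
            (resR F U V'.unop (((fgt O).obj F).map i m)) =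
          bval β (U ⊓ V.unop) ⟨hx, i.unop.le h.down⟩ (resL P U V.unop p) (resR F U V.unop m)
        have j : U ⊓ V'.unop ⟶ U ⊓ V.unop := homOfLE (inf_le_inf_left U i.unop.le)
        rw [← bval_res β j ⟨hx, h.down⟩]
        congr 1
        · exact (map_map P _ j _ p).symm
        · exact (map_map F i.unop _ (homOfLE (le_trans inf_le_right i.unop.le)) m).trans
            (map_map F _ j (homOfLE (le_trans inf_le_right i.unop.le)) m).symm }
    (fun V r m => by
      funext h
      change bval β (U ⊓ V.unop) ⟨hx, h.down⟩ (resL P U V.unop p) (resR F U V.unop (r • m)) =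
        gR O x V.unop h.down r • bval β (U ⊓ V.unop) ⟨hx, h.down⟩ (resL P U V.unop p)
          (resR F U V.unop m)
      have h1 : resR F U V.unop (r • m) =
          ((O.obj ⋙ forget₂ CommRingCat RingCat).map
            (homOfLE (inf_le_right : U ⊓ V.unop ≤ V.unop)).op r) • resR F U V.unop m :=
        PresheafOfModules.map_smul ((fgt O).obj F) _ r m
      rw [h1, bval_smul_right]
      congr 1
      exact gR_res O x (homOfLE (inf_le_right : U ⊓ V.unop ≤ V.unop)) ⟨hx, h.down⟩ r)


/-- the linear map `F_x → E` attached to a section `p` of `P` near `x` -/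
noncomputable def cval (β : (fgt O).obj P ⊗ (fgt O).obj F ⟶ (fgt O).obj (sky O x E))
    (U : Opens X) (hx : x ∈ U) (p : ((fgt O).obj P).obj (op U)) : HomE O x F E :=
  alpha (cur β U hx p)

theorem cval_germ (β : (fgt O).obj P ⊗ (fgt O).obj F ⟶ (fgt O).obj (sky O x E))
    (U : Opens X) (hx : x ∈ U) (p : ((fgt O).obj P).obj (op U))
    (V : Opens X) (hV : x ∈ V) (m : ((fgt O).obj F).obj (op V)) :
    cval β U hx p (gM O F x V hV m) =
      bval β (U ⊓ V) ⟨hx, hV⟩ (resL P U V p) (resR F U V m) :=
  alpha_germ (cur β U hx p) V hV m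

theorem cval_add (β : (fgt O).obj P ⊗ (fgt O).obj F ⟶ (fgt O).obj (sky O x E))
    (U : Opens X) (hx : x ∈ U) (p p' : ((fgt O).obj P).obj (op U)) :
    cval β U hx (p + p') = cval β U hx p + cval β U hx p' := by
  apply LinearMap.ext
  intro t
  obtain ⟨V, hV, m, rfl⟩ := gM_exists O F x t
  rw [LinearMap.add_apply, cval_germ, cval_germ, cval_germ]
  have h1 : resL P U V (p + p') = resL P U V p + resL P U V p' := map_add _ _ _
  rw [h1, bval_add_left]

theorem cval_zero (β : (fgt O).obj P ⊗ (fgt O).obj F ⟶ (fgt O).obj (sky O x E))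
    (U : Opens X) (hx : x ∈ U) : cval β U hx 0 = 0 := by
  have h0 := cval_add β U hx 0 0
  rw [add_zero] at h0
  exact add_eq_left.mp h0.symm

theorem cval_smul (β : (fgt O).obj P ⊗ (fgt O).obj F ⟶ (fgt O).obj (sky O x E))
    (U : Opens X) (hx : x ∈ U) (r : (O.obj ⋙ forget₂ CommRingCat RingCat).obj (op U))
    (p : ((fgt O).obj P).obj (op U)) :
    cval β U hx (r • p) = gR O x U hx r • cval β U hx p := by
  apply LinearMap.ext
  intro t
  obtain ⟨V, hV, m, rfl⟩ := gM_exists O F x t
  rw [LinearMap.smul_apply, cval_germ, cval_germ]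
  have h1 : resL P U V (r • p) =
      ((O.obj ⋙ forget₂ CommRingCat RingCat).map
        (homOfLE (inf_le_left : U ⊓ V ≤ U)).op r) • resL P U V p :=
    PresheafOfModules.map_smul ((fgt O).obj P) _ r p
  rw [h1, bval_smul_left]
  congr 1
  exact gR_res O x (homOfLE (inf_le_left : U ⊓ V ≤ U)) ⟨hx, hV⟩ r

theorem cval_res (β : (fgt O).obj P ⊗ (fgt O).obj F ⟶ (fgt O).obj (sky O x E))
    {U U' : Opens X} (i : U' ⟶ U) (hx : x ∈ U') (p : ((fgt O).obj P).obj (op U)) :
    cval β U' hx (((fgt O).obj P).map i.op p) = cval β U (i.le hx) p := by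
  apply LinearMap.ext
  intro t
  obtain ⟨V, hV, m, rfl⟩ := gM_exists O F x t
  rw [cval_germ, cval_germ]
  have j : U' ⊓ V ⟶ U ⊓ V := homOfLE (inf_le_inf_right V i.le)
  rw [← bval_res β j ⟨hx, hV⟩]
  congr 1
  · exact (map_map P i _ (homOfLE (le_trans inf_le_left i.le)) p).trans
      (map_map P _ j (homOfLE (le_trans inf_le_left i.le)) p).symm
  · exact (map_map F _ j _ m).symm

/-- currying a morphism out of the tensor product -/
noncomputable def curry (β : (fgt O).obj P ⊗ (fgt O).obj F ⟶ (fgt O).obj (sky O x E)) :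
    P ⟶ sky O x (HomE O x F E) where
  val := PresheafOfModules.homMk (M₂ := skyPre O x (HomE O x F E))
    { app := fun U => AddCommGrpCat.ofHom
        { toFun := fun p => (fun h => cval β U.unop h.down p :
            PLift (x ∈ U.unop) → HomE O x F E)
          map_zero' := by
            funext h
            exact cval_zero β U.unop h.down
          map_add' := fun p p' => by
            funext h
            exact cval_add β U.unop h.down p p' }
      naturality := fun U U' i => by
        ext p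
        funext h
        exact cval_res β i.unop h.down p }
    (fun U r p => by
      funext h
      exact cval_smul β U.unop h.down r p)

theorem curry_apply (β : (fgt O).obj P ⊗ (fgt O).obj F ⟶ (fgt O).obj (sky O x E))
    (U : Opens X) (hx : x ∈ U) (p : ((fgt O).obj P).obj (op U)) :
    (((curry β).val.app (op U)).hom p : PLift (x ∈ U) → HomE O x F E) ⟨hx⟩ = cval β U hx p := rfl


theorem curry_evPre (β : (fgt O).obj P ⊗ (fgt O).obj F ⟶ (fgt O).obj (sky O x E)) :
    ((fgt O).map (curry β) ▷ (fgt O).obj F) ≫ evPre O x F E = β := by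
  apply PresheafOfModules.hom_ext
  intro U
  apply ModuleCat.MonoidalCategory.tensor_ext
  intro p m
  funext h
  change cval β U.unop h.down p (gM O F x U.unop h.down m) = bval β U.unop h.down p m
  rw [cval_germ]
  have j : U.unop ⊓ U.unop ⟶ U.unop := homOfLE inf_le_left
  rw [← bval_res β j ⟨h.down, h.down⟩]
  congr 1

/-- evaluation -/
noncomputable def ev :
    ((ModSite.tensorBi O).obj (sky O x (HomE O x F E))).obj F ⟶ sky O x E :=
  ((PresheafOfModules.sheafificationAdjunction (𝟙 (ModSite.ringSh O).obj)).homEquiv _ _).symm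
    (evPre O x F E)

theorem η_ev : η O _ ≫ (fgt O).map (ev (O := O) (x := x) (F := F) (E := E)) = evPre O x F E := by
  have h := (PresheafOfModules.sheafificationAdjunction (𝟙 (ModSite.ringSh O).obj)).homEquiv_unit
    (f := ev (O := O) (x := x) (F := F) (E := E))
  refine h.symm.trans ?_
  exact Equiv.apply_symm_apply _ _

theorem uncurry_curry (t : ((ModSite.tensorBi O).obj P).obj F ⟶ sky O x E) :
    ((ModSite.tensorBi O).flip.obj F).map (curry (η O _ ≫ (fgt O).map t)) ≫
      ev (O := O) (x := x) (F := F) (E := E) = t := by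
  apply ((PresheafOfModules.sheafificationAdjunction
    (𝟙 (ModSite.ringSh O).obj)).homEquiv _ _).injective
  rw [Adjunction.homEquiv_unit, Adjunction.homEquiv_unit]
  change η O ((fgt O).obj P ⊗ (fgt O).obj F) ≫ (fgt O).map _ =
    η O ((fgt O).obj P ⊗ (fgt O).obj F) ≫ (fgt O).map t
  let β : (fgt O).obj P ⊗ (fgt O).obj F ⟶ (fgt O).obj (sky O x E) :=
    η O ((fgt O).obj P ⊗ (fgt O).obj F) ≫ (fgt O).map t
  let w : (fgt O).obj P ⊗ (fgt O).obj F ⟶
      (fgt O).obj (sky O x (HomE O x F E)) ⊗ (fgt O).obj F :=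
    (fgt O).map (curry β) ▷ (fgt O).obj F
  have h1 : (fgt O).map (((ModSite.tensorBi O).flip.obj F).map (curry β) ≫
      ev (O := O) (x := x) (F := F) (E := E)) =
      (fgt O).map ((shf O).map w) ≫ (fgt O).map (ev (O := O) (x := x) (F := F) (E := E)) :=
    (fgt O).map_comp _ _
  calc η O ((fgt O).obj P ⊗ (fgt O).obj F) ≫ (fgt O).map
        (((ModSite.tensorBi O).flip.obj F).map (curry β) ≫ ev (O := O) (x := x) (F := F) (E := E))
      = η O ((fgt O).obj P ⊗ (fgt O).obj F) ≫ ((fgt O).map ((shf O).map w) ≫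
          (fgt O).map (ev (O := O) (x := x) (F := F) (E := E))) := congrArg _ h1
    _ = (η O ((fgt O).obj P ⊗ (fgt O).obj F) ≫ (fgt O).map ((shf O).map w)) ≫
          (fgt O).map (ev (O := O) (x := x) (F := F) (E := E)) := (Category.assoc _ _ _).symm
    _ = (w ≫ η O _) ≫ (fgt O).map (ev (O := O) (x := x) (F := F) (E := E)) :=
          congrArg (fun k => k ≫ (fgt O).map (ev (O := O) (x := x) (F := F) (E := E)))
            (η_naturality O w).symm
    _ = w ≫ (η O _ ≫ (fgt O).map (ev (O := O) (x := x) (F := F) (E := E))) :=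
          Category.assoc _ _ _
    _ = w ≫ evPre O x F E := congrArg (fun k => w ≫ k) η_ev
    _ = β := curry_evPre β

end Groth.Agent.Helper29.SkyE
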