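import Mathlib
import Groth.Prelude.Def_ModSite
import Groth.Prelude.Def_ModSite2
import Groth.Agent.Lib.Helper29.SkyA
import Groth.Agent.Lib.Helper29.SkyB
import Groth.Agent.Lib.Helper29.SkyD
import Groth.Agent.Lib.Helper29.SkyE

open CategoryTheory Limits Opposite TopologicalSpace MonoidalCategory

namespace Groth.Agent.Helper29.SkyF

open Groth.Agent.Helper29.SkyA Groth.Agent.Helper29.SkyB Groth.Agent.Helper29.SkyE
  Groth.Agent.Helper17.MT

universe u

section alg

open TensorProduct

theorem ext_flat_hom {R S : Type u} [CommRing R] [CommRing S] (ρ : R →+* S)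
    {N E : Type u} [AddCommGroup N] [Module S N] [AddCommGroup E] [Module S E]
    [Module.Injective S E]
    (hflat : @Module.Flat R N _ _ (Module.compHom N ρ))
    {A B : Type u} [AddCommGroup A] [AddCommGroup B] [Module R A] [Module R B]
    (i : A →ₗ[R] B) (hi : Function.Injective i)
    (g : A →+ (N →ₗ[S] E)) (hg : ∀ (r : R) (a : A), g (r • a) = ρ r • g a) :
    ∃ h : B →+ (N →ₗ[S] E), (∀ (r : R) (b : B), h (r • b) = ρ r • h b) ∧ ∀ a, h (i a) = g a := by
  letI : Algebra R S := ρ.toAlgebra
  letI : Module R N := Module.compHom N ρ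
  haveI : IsScalarTower R S N := IsScalarTower.of_algebraMap_smul (fun r n => rfl)
  letI : Module R E := Module.compHom E ρ
  haveI : IsScalarTower R S E := IsScalarTower.of_algebraMap_smul (fun r e => rfl)
  haveI : Module.Flat R N := hflat
  let ι : N ⊗[R] A →ₗ[S] N ⊗[R] B := TensorProduct.AlgebraTensorModule.lTensor S N i
  have hι : Function.Injective ι :=
    Module.Flat.lTensor_preserves_injective_linearMap (M := N) i hi
  let g₂ : N →ₗ[S] A →ₗ[R] E :=
    { toFun := fun n =>
        { toFun := fun a => g a n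
          map_add' := fun a a' => by rw [map_add]; rfl
          map_smul' := fun r a => by rw [hg]; rfl }
      map_add' := fun n n' => by
        apply LinearMap.ext
        intro a
        exact map_add (g a) n n'
      map_smul' := fun s n => by
        apply LinearMap.ext
        intro a
        exact map_smul (g a) s n }
  let g₃ : N ⊗[R] A →ₗ[S] E := TensorProduct.AlgebraTensorModule.lift g₂
  obtain ⟨h₃, hh₃⟩ := Module.Injective.extension_property S E _ _ ι hι g₃
  refine ⟨
    { toFun := fun b =>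
        { toFun := fun n => h₃ (n ⊗ₜ b)
          map_add' := fun n n' => by rw [TensorProduct.add_tmul, map_add]
          map_smul' := fun s n => by
            rw [← TensorProduct.smul_tmul', map_smul]
            rfl }
      map_zero' := by
        apply LinearMap.ext
        intro n
        change h₃ (n ⊗ₜ 0) = 0
        rw [TensorProduct.tmul_zero, map_zero]
      map_add' := fun b b' => by
        apply LinearMap.ext
        intro n
        change h₃ (n ⊗ₜ (b + b')) = h₃ (n ⊗ₜ b) + h₃ (n ⊗ₜ b')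
        rw [TensorProduct.tmul_add, map_add] }, ?_, ?_⟩
  · intro r b
    apply LinearMap.ext
    intro n
    change h₃ (n ⊗ₜ (r • b)) = ρ r • h₃ (n ⊗ₜ b)
    have e1 : n ⊗ₜ[R] (r • b) = (ρ r) • (n ⊗ₜ[R] b) := by
      rw [TensorProduct.tmul_smul, TensorProduct.smul_tmul', TensorProduct.smul_tmul']
      rfl
    rw [e1, map_smul]
  · intro a
    apply LinearMap.ext
    intro n
    change h₃ (n ⊗ₜ i a) = g a n
    have := LinearMap.congr_fun hh₃ (n ⊗ₜ a)
    exact this

end alg


section main

variable {X Y : TopCat.{u}} (f : X ⟶ Y) (O_X : Sheaf (Opens.grothendieckTopology X) CommRingCat.{u})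
  (O_Y : Sheaf (Opens.grothendieckTopology Y) CommRingCat.{u})
  (c : O_Y ⟶ ((TopologicalSpace.Opens.map f).sheafPushforwardContinuous CommRingCat.{u}
      (Opens.grothendieckTopology Y) (Opens.grothendieckTopology X)).obj O_X)
  (F : ModSite.Mod O_X)

/-- the functor `G ↦ f^*G ⊗ F` -/
noncomputable abbrev TT : ModSite.Mod O_Y ⥤ ModSite.Mod O_X :=
  (FF f O_X O_Y c).pull ⋙ (ModSite.tensorBi O_X).flip.obj F

theorem TT_preserves_mono
    (hflat : ∀ x : X, @Module.Flat (Rg O_Y (f x)) (St O_X F x) _ _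
      (Module.compHom (St O_X F x) (rhoSt f O_X O_Y c x).hom))
    {M' M : ModSite.Mod O_Y} (φ : M' ⟶ M) [Mono φ] :
    Mono ((TT f O_X O_Y c F).map φ) := by
  rw [mono_iff_stalkLin_injective]
  intro x
  let A : ModuleCat.{u} (Rg O_X x) :=
    ModuleCat.of (Rg O_X x) (St O_X ((TT f O_X O_Y c F).obj M') x)
  let J : ModuleCat.{u} (Rg O_X x) := Injective.under A
  let θc : A ⟶ J := Injective.ι A
  have hθ : Function.Injective θc.hom := (ModuleCat.mono_iff_injective θc).mp inferInstance
  have hJ : Injective J := inferInstance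
  haveI : Module.Injective (Rg O_X x) J :=
    @Module.injective_module_of_injective_object (Rg O_X x) J _ _ _ hJ
  let θ' : St O_X ((TT f O_X O_Y c F).obj M') x →ₗ[Rg O_X x] J := θc.hom
  let t' : (TT f O_X O_Y c F).obj M' ⟶ sky O_X x J := gamma θ'
  let s' : (FF f O_X O_Y c).pull.obj M' ⟶ sky O_X x (HomE O_X x F J) :=
    curry (η O_X _ ≫ (fgt O_X).map t')
  have ht' : ((ModSite.tensorBi O_X).flip.obj F).map s' ≫
      ev (O := O_X) (x := x) (F := F) (E := J) = t' := uncurry_curry t'
  let g : M' ⟶ (FF f O_X O_Y c).push.obj (sky O_X x (HomE O_X x F J)) :=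
    (FF f O_X O_Y c).adj.homEquiv _ _ s'
  let g₁ : M' ⟶ sky O_Y (f x) (Res f O_X O_Y c x (HomE O_X x F J)) :=
    g ≫ pushSkyHom f O_X O_Y c x (HomE O_X x F J)
  have hi : Function.Injective (stalkLin φ (f x)) :=
    (mono_iff_stalkLin_injective φ).mp inferInstance (f x)
  obtain ⟨h, hsm, hh⟩ := ext_flat_hom (rhoSt f O_X O_Y c x).hom (N := St O_X F x) (E := J)
    (hflat x) (stalkLin φ (f x)) hi
    (AddMonoidHom.mk' (fun a => (show HomE O_X x F J from alpha g₁ a))
      (fun a b => map_add (alpha g₁) a b))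
    (fun r a => map_smul (alpha g₁) r a)
  let h₀ : St O_Y M (f x) →ₗ[Rg O_Y (f x)] Res f O_X O_Y c x (HomE O_X x F J) :=
    { toFun := fun b => h b
      map_add' := fun b b' => map_add h b b'
      map_smul' := fun r b => hsm r b }
  have hh₀ : h₀ ∘ₗ stalkLin φ (f x) = alpha g₁ := LinearMap.ext hh
  have e1 : φ ≫ gamma h₀ = g₁ := alpha_injective (by rw [alpha_comp, alpha_gamma, hh₀])
  have e2 : φ ≫ (gamma h₀ ≫ pushSkyInv f O_X O_Y c x (HomE O_X x F J)) = g := by
    rw [← Category.assoc, e1, Category.assoc, pushSkyHom_inv, Category.comp_id]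
  let s : (FF f O_X O_Y c).pull.obj M ⟶ sky O_X x (HomE O_X x F J) :=
    ((FF f O_X O_Y c).adj.homEquiv _ _).symm
      (gamma h₀ ≫ pushSkyInv f O_X O_Y c x (HomE O_X x F J))
  have e3 : (FF f O_X O_Y c).pull.map φ ≫ s = s' := by
    rw [← Adjunction.homEquiv_naturality_left_symm, e2]
    exact Equiv.symm_apply_apply _ _
  let t : (TT f O_X O_Y c F).obj M ⟶ sky O_X x J :=
    ((ModSite.tensorBi O_X).flip.obj F).map s ≫ ev (O := O_X) (x := x) (F := F) (E := J)
  have e4 : (TT f O_X O_Y c F).map φ ≫ t = t' := by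
    change ((ModSite.tensorBi O_X).flip.obj F).map ((FF f O_X O_Y c).pull.map φ) ≫
      ((ModSite.tensorBi O_X).flip.obj F).map s ≫ ev (O := O_X) (x := x) (F := F) (E := J) = t'
    rw [← Category.assoc, ← Functor.map_comp, e3]
    exact ht'
  have e5 : (alpha t).comp (stalkLin ((TT f O_X O_Y c F).map φ) x) = θ' := by
    rw [← alpha_comp, e4, alpha_gamma]
  intro a b hab
  apply hθ
  have h5 := LinearMap.congr_fun e5 a
  have h6 := LinearMap.congr_fun e5 b
  rw [LinearMap.comp_apply] at h5 h6
  rw [hab] at h5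
  exact h5.symm.trans h6


theorem main
    (hflat : ∀ x : X, @Module.Flat (Rg O_Y (f x)) (St O_X F x) _ _
      (Module.compHom (St O_X F x) (rhoSt f O_X O_Y c x).hom)) :
    PreservesFiniteLimits (TT f O_X O_Y c F) ∧ PreservesFiniteColimits (TT f O_X O_Y c F) := by
  haveI : ((ModSite.tensorBi O_X).flip.obj F).IsLeftAdjoint := main6165 O_X F
  haveI : (TT f O_X O_Y c F).IsLeftAdjoint := inferInstance
  have h0 : PreservesFiniteColimits (TT f O_X O_Y c F) := by
    haveI := (Adjunction.ofIsLeftAdjoint (TT f O_X O_Y c F)).leftAdjoint_preservesColimits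
    infer_instance
  haveI : (TT f O_X O_Y c F).Additive := by
    have := preservesBinaryBiproducts_of_preservesBinaryCoproducts (TT f O_X O_Y c F)
    exact Functor.additive_of_preservesBinaryBiproducts (TT f O_X O_Y c F)
  refine ⟨?_, h0⟩
  rw [Functor.preservesFiniteLimits_iff_forall_exact_map_and_mono]
  intro S hS
  have h1' : ∀ (S : ShortComplex (ModSite.Mod O_Y)), S.ShortExact →
      (S.map (TT f O_X O_Y c F)).Exact ∧ Epi ((TT f O_X O_Y c F).map S.g) :=
    ((Functor.preservesFiniteColimits_tfae (TT f O_X O_Y c F)).out 3 0).mp h0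
  have h1 := h1' S hS
  haveI : Mono S.f := hS.mono_f
  exact ⟨h1.1, TT_preserves_mono f O_X O_Y c F hflat S.f⟩

end main

end Groth.Agent.Helper29.SkyF
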