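import Mathlib

/-!
# Helper29.SpTrA : linear algebra for traces along exact sequences

Pure linear algebra over a field: additivity of the trace on short exact sequences of
vector spaces with compatible endomorphisms, transport of eigenvalues to sub- and quotient
objects, and the bound `‖tr φ‖ ≤ dim · max |eigenvalue|` over `ℂ`.
-/

namespace Groth.Agent.Helper29.SpTrA

open Module

section Field

variable {k : Type*} [Field k]
variable {V₁ V₂ V₃ : Type*} [AddCommGroup V₁] [Module k V₁] [AddCommGroup V₂] [Module k V₂]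
  [AddCommGroup V₃] [Module k V₃]

/-- Additivity of the trace on a short exact sequence with compatible endomorphisms. -/
theorem trace_add_of_exact [FiniteDimensional k V₂]
    (f : V₁ →ₗ[k] V₂) (g : V₂ →ₗ[k] V₃) (hf : Function.Injective f) (hg : Function.Surjective g)
    (hfg : Function.Exact f g)
    (φ₁ : V₁ →ₗ[k] V₁) (φ₂ : V₂ →ₗ[k] V₂) (φ₃ : V₃ →ₗ[k] V₃)
    (h₁ : f ∘ₗ φ₁ = φ₂ ∘ₗ f) (h₂ : g ∘ₗ φ₂ = φ₃ ∘ₗ g) :
    LinearMap.trace k V₂ φ₂ = LinearMap.trace k V₁ φ₁ + LinearMap.trace k V₃ φ₃ := by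
  haveI : FiniteDimensional k V₁ := FiniteDimensional.of_injective f hf
  haveI : FiniteDimensional k V₃ := FiniteDimensional.of_surjective g hg
  obtain ⟨σ, hσ⟩ := LinearMap.exists_rightInverse_of_surjective g (LinearMap.range_eq_top.2 hg)
  obtain ⟨ρ₀, hρ₀⟩ := LinearMap.exists_leftInverse_of_injective f (LinearMap.ker_eq_bot.2 hf)
  have hgf : g ∘ₗ f = 0 := by
    ext v
    exact hfg.apply_apply_eq_zero v
  set ρ : V₂ →ₗ[k] V₁ := ρ₀ ∘ₗ (LinearMap.id - σ ∘ₗ g) with hρ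
  have hρf : ρ ∘ₗ f = LinearMap.id := by
    ext v
    have h1 : g (f v) = 0 := hfg.apply_apply_eq_zero v
    have h2 : ρ₀ (f v) = v := LinearMap.congr_fun hρ₀ v
    simp [hρ, h1, h2]
  have hsum : f ∘ₗ ρ + σ ∘ₗ g = LinearMap.id := by
    ext v
    have hv : g (v - σ (g v)) = 0 := by
      have : g (σ (g v)) = g v := LinearMap.congr_fun hσ (g v)
      simp [this]
    obtain ⟨w, hw⟩ := (hfg (v - σ (g v))).1 hv
    have h2 : ρ₀ (f w) = w := LinearMap.congr_fun hρ₀ w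
    have : f (ρ v) = v - σ (g v) := by
      simp only [hρ, LinearMap.comp_apply, LinearMap.sub_apply, LinearMap.id_apply]
      rw [← hw, h2]
    simp [this]
  have e1 : LinearMap.trace k V₂ (φ₂ ∘ₗ (f ∘ₗ ρ)) = LinearMap.trace k V₁ φ₁ := by
    have : φ₂ ∘ₗ (f ∘ₗ ρ) = (φ₂ ∘ₗ f) ∘ₗ ρ := by rw [LinearMap.comp_assoc]
    rw [this, LinearMap.trace_comp_comm' ρ (φ₂ ∘ₗ f), ← h₁, ← LinearMap.comp_assoc, hρf,
      LinearMap.id_comp]
  have e2 : LinearMap.trace k V₂ (φ₂ ∘ₗ (σ ∘ₗ g)) = LinearMap.trace k V₃ φ₃ := by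
    have : φ₂ ∘ₗ (σ ∘ₗ g) = (φ₂ ∘ₗ σ) ∘ₗ g := by rw [LinearMap.comp_assoc]
    rw [this, LinearMap.trace_comp_comm' g (φ₂ ∘ₗ σ), ← LinearMap.comp_assoc, h₂,
      LinearMap.comp_assoc, hσ, LinearMap.comp_id]
  calc LinearMap.trace k V₂ φ₂ = LinearMap.trace k V₂ (φ₂ ∘ₗ (f ∘ₗ ρ + σ ∘ₗ g)) := by
        rw [hsum, LinearMap.comp_id]
    _ = LinearMap.trace k V₂ (φ₂ ∘ₗ (f ∘ₗ ρ)) + LinearMap.trace k V₂ (φ₂ ∘ₗ (σ ∘ₗ g)) := by
        rw [LinearMap.comp_add, map_add]
    _ = _ := by rw [e1, e2]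

/-- Invariance of the trace under equivariant isomorphisms. -/
theorem trace_eq_of_equiv (e : V₁ ≃ₗ[k] V₂) (φ₁ : V₁ →ₗ[k] V₁) (φ₂ : V₂ →ₗ[k] V₂)
    (h : (e : V₁ →ₗ[k] V₂) ∘ₗ φ₁ = φ₂ ∘ₗ (e : V₁ →ₗ[k] V₂)) :
    LinearMap.trace k V₂ φ₂ = LinearMap.trace k V₁ φ₁ := by
  have : φ₂ = e.conj φ₁ := by
    ext v
    have := LinearMap.congr_fun h (e.symm v)
    simp only [LinearMap.comp_apply, LinearEquiv.coe_coe, LinearEquiv.apply_symm_apply] at this
    simp [LinearEquiv.conj_apply, this]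
  rw [this, LinearMap.trace_conj']

/-- Eigenvalues pass from a sub-object to the ambient object. -/
theorem hasEigenvalue_of_injective (f : V₁ →ₗ[k] V₂) (hf : Function.Injective f)
    (φ₁ : V₁ →ₗ[k] V₁) (φ₂ : V₂ →ₗ[k] V₂) (h : f ∘ₗ φ₁ = φ₂ ∘ₗ f) {μ : k}
    (hμ : Module.End.HasEigenvalue φ₁ μ) : Module.End.HasEigenvalue φ₂ μ := by
  obtain ⟨v, hv⟩ := hμ.exists_hasEigenvector
  refine Module.End.hasEigenvalue_of_hasEigenvector (x := f v) ⟨?_, ?_⟩
  · rw [Module.End.mem_eigenspace_iff]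
    have h1 := LinearMap.congr_fun h v
    simp only [LinearMap.comp_apply] at h1
    rw [← h1, hv.apply_eq_smul, map_smul]
  · intro h0
    exact hv.2 (hf (by rw [h0, map_zero]))

/-- Eigenvalues pass from a quotient object to the (finite-dimensional) ambient object. -/
theorem hasEigenvalue_of_surjective [FiniteDimensional k V₂] (g : V₂ →ₗ[k] V₃)
    (hg : Function.Surjective g)
    (φ₂ : V₂ →ₗ[k] V₂) (φ₃ : V₃ →ₗ[k] V₃) (h : g ∘ₗ φ₂ = φ₃ ∘ₗ g) {μ : k}
    (hμ : Module.End.HasEigenvalue φ₃ μ) : Module.End.HasEigenvalue φ₂ μ := by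
  haveI : FiniteDimensional k V₃ := FiniteDimensional.of_surjective g hg
  by_contra hcon
  rw [Module.End.hasEigenvalue_iff, not_not, Module.End.eigenspace_def] at hcon
  have hinj : Function.Injective (φ₂ - μ • (1 : Module.End k V₂)) := LinearMap.ker_eq_bot.1 hcon
  have hsurj : Function.Surjective (φ₂ - μ • (1 : Module.End k V₂)) :=
    LinearMap.injective_iff_surjective.1 hinj
  have hcomm : g ∘ₗ (φ₂ - μ • (1 : Module.End k V₂)) = (φ₃ - μ • (1 : Module.End k V₃)) ∘ₗ g := by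
    ext v
    have h1 := LinearMap.congr_fun h v
    simp only [LinearMap.comp_apply] at h1
    simp [h1]
  have hsurj3 : Function.Surjective (φ₃ - μ • (1 : Module.End k V₃)) := by
    intro w
    obtain ⟨v, rfl⟩ := hg w
    obtain ⟨v', rfl⟩ := hsurj v
    refine ⟨g v', ?_⟩
    have := LinearMap.congr_fun hcomm v'
    simpa using this.symm
  have hinj3 : Function.Injective (φ₃ - μ • (1 : Module.End k V₃)) :=
    LinearMap.injective_iff_surjective.2 hsurj3
  apply (Module.End.hasEigenvalue_iff.1 hμ)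
  rw [Module.End.eigenspace_def]
  exact LinearMap.ker_eq_bot.2 hinj3

end Field

section Complex

variable {V : Type*} [AddCommGroup V] [Module ℂ V] [FiniteDimensional ℂ V]

/-- `‖tr φ‖ ≤ dim V · c` when every eigenvalue of `φ` has norm at most `c`. -/
theorem norm_trace_le (φ : V →ₗ[ℂ] V) (c : ℝ)
    (hc : ∀ μ : ℂ, Module.End.HasEigenvalue φ μ → ‖μ‖ ≤ c) :
    ‖LinearMap.trace ℂ V φ‖ ≤ (Module.finrank ℂ V : ℝ) * c := by
  have hs : (LinearMap.charpoly φ).Splits := IsAlgClosed.splits _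
  rw [Module.End.trace_eq_sum_roots_charpoly_of_splits hs]
  have hcard : Multiset.card (LinearMap.charpoly φ).roots = Module.finrank ℂ V := by
    rw [← LinearMap.charpoly_natDegree φ]
    exact (Polynomial.splits_iff_card_roots.1 hs)
  have h1 : ‖(LinearMap.charpoly φ).roots.sum‖ ≤ ((LinearMap.charpoly φ).roots.map (fun z => ‖z‖)).sum :=
    norm_multiset_sum_le _
  have h2 : ((LinearMap.charpoly φ).roots.map (fun z => ‖z‖)).sum ≤
      Multiset.card ((LinearMap.charpoly φ).roots.map (fun z => ‖z‖)) • c := by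
    apply Multiset.sum_le_card_nsmul
    intro x hx
    obtain ⟨z, hz, rfl⟩ := Multiset.mem_map.1 hx
    apply hc
    rw [Module.End.hasEigenvalue_iff_isRoot_charpoly]
    exact (Polynomial.mem_roots'.1 hz).2
  rw [Multiset.card_map, hcard, nsmul_eq_mul] at h2
  exact h1.trans h2

end Complex

end Groth.Agent.Helper29.SpTrA
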