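import Groth.Agent.Lib.Helper29.SpTrA

/-!
# Helper29.SpTrB : traces of `X` on `ℂ[X]`-modules, additivity and homology
-/

namespace Groth.Agent.Helper29.SpTrB

open CategoryTheory CategoryTheory.Limits Polynomial Groth.Agent.Helper29.SpTrA

universe u

/-- restriction of scalars `ℂ[X]`-modules to `ℂ`-vector spaces -/
noncomputable abbrev RS : ModuleCat.{u} ℂ[X] ⥤ ModuleCat.{u} ℂ := ModuleCat.restrictScalars (algebraMap ℂ ℂ[X])

/-- the underlying complex vector space -/
noncomputable abbrev VV (M : ModuleCat.{u} ℂ[X]) : ModuleCat.{u} ℂ := RS.obj M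

/-- the endomorphism "multiplication by `X`" -/
noncomputable abbrev Phi (M : ModuleCat.{u} ℂ[X]) : VV M →ₗ[ℂ] VV M :=
  (RS.map ((X : ℂ[X]) • 𝟙 M)).hom

/-- the trace of `X` -/
noncomputable abbrev tr (M : ModuleCat.{u} ℂ[X]) : ℂ := LinearMap.trace ℂ _ (Phi M)

/-- the `ℂ`-linear map underlying a morphism -/
noncomputable abbrev lin {M N : ModuleCat.{u} ℂ[X]} (f : M ⟶ N) : VV M →ₗ[ℂ] VV N := (RS.map f).hom

theorem lin_comm {M N : ModuleCat.{u} ℂ[X]} (f : M ⟶ N) : lin f ∘ₗ Phi M = Phi N ∘ₗ lin f := by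
  have h : ((X : ℂ[X]) • 𝟙 M) ≫ f = f ≫ ((X : ℂ[X]) • 𝟙 N) := by
    rw [Linear.smul_comp, Linear.comp_smul, Category.id_comp, Category.comp_id]
  have h2 := congrArg (fun t => (RS.map t).hom) h
  simp only [Functor.map_comp, ModuleCat.hom_comp] at h2
  exact h2

theorem lin_apply {M N : ModuleCat.{u} ℂ[X]} (f : M ⟶ N) (x : M) : lin f x = f.hom x := rfl

theorem lin_injective {M N : ModuleCat.{u} ℂ[X]} (f : M ⟶ N) [Mono f] : Function.Injective (lin f) :=
  (ModuleCat.mono_iff_injective f).1 inferInstance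

theorem lin_surjective {M N : ModuleCat.{u} ℂ[X]} (f : M ⟶ N) [Epi f] : Function.Surjective (lin f) :=
  (ModuleCat.epi_iff_surjective f).1 inferInstance

section mono

variable {M N : ModuleCat.{u} ℂ[X]}

theorem finite_of_mono (f : M ⟶ N) [Mono f] [Module.Finite ℂ (VV N)] : Module.Finite ℂ (VV M) :=
  FiniteDimensional.of_injective (lin f) (lin_injective f)

theorem finrank_le_of_mono (f : M ⟶ N) [Mono f] [Module.Finite ℂ (VV N)] :
    Module.finrank ℂ (VV M) ≤ Module.finrank ℂ (VV N) :=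
  LinearMap.finrank_le_finrank_of_injective (lin_injective f)

theorem eig_of_mono (f : M ⟶ N) [Mono f] {μ : ℂ} (h : Module.End.HasEigenvalue (Phi M) μ) :
    Module.End.HasEigenvalue (Phi N) μ :=
  hasEigenvalue_of_injective (lin f) (lin_injective f) _ _ (lin_comm f) h

end mono

section epi

variable {M N : ModuleCat.{u} ℂ[X]}

theorem finite_of_epi (f : M ⟶ N) [Epi f] [Module.Finite ℂ (VV M)] : Module.Finite ℂ (VV N) :=
  FiniteDimensional.of_surjective (lin f) (lin_surjective f)

theorem finrank_le_of_epi (f : M ⟶ N) [Epi f] [Module.Finite ℂ (VV M)] :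
    Module.finrank ℂ (VV N) ≤ Module.finrank ℂ (VV M) :=
  LinearMap.finrank_le_finrank_of_surjective (lin_surjective f)

theorem eig_of_epi (f : M ⟶ N) [Epi f] [Module.Finite ℂ (VV M)] {μ : ℂ}
    (h : Module.End.HasEigenvalue (Phi N) μ) :
    Module.End.HasEigenvalue (Phi M) μ :=
  hasEigenvalue_of_surjective (lin f) (lin_surjective f) _ _ (lin_comm f) h

end epi

section iso

variable {M N : ModuleCat.{u} ℂ[X]}

theorem tr_iso (e : M ≅ N) : tr M = tr N := by
  have := trace_eq_of_equiv (RS.mapIso e).toLinearEquiv (Phi M) (Phi N) (lin_comm e.hom)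
  exact this.symm

theorem finite_iso (e : M ≅ N) [Module.Finite ℂ (VV M)] : Module.Finite ℂ (VV N) :=
  finite_of_epi e.hom

theorem finrank_iso (e : M ≅ N) : Module.finrank ℂ (VV M) = Module.finrank ℂ (VV N) :=
  LinearEquiv.finrank_eq (RS.mapIso e).toLinearEquiv

theorem eig_iso (e : M ≅ N) {μ : ℂ} (h : Module.End.HasEigenvalue (Phi M) μ) :
    Module.End.HasEigenvalue (Phi N) μ := eig_of_mono e.hom h

end iso

theorem subsingleton_of_isZero {M : ModuleCat.{u} ℂ[X]} (h : IsZero M) : Subsingleton (VV M) :=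
  (ModuleCat.subsingleton_of_isZero h : Subsingleton M)

theorem tr_of_isZero {M : ModuleCat.{u} ℂ[X]} (h : IsZero M) : tr M = 0 := by
  haveI := subsingleton_of_isZero h
  have : Phi M = 0 := Subsingleton.elim _ _
  rw [tr, this, map_zero]

theorem finrank_of_isZero {M : ModuleCat.{u} ℂ[X]} (h : IsZero M) : Module.finrank ℂ (VV M) = 0 := by
  haveI := subsingleton_of_isZero h
  exact Module.finrank_zero_of_subsingleton

theorem finite_of_isZero {M : ModuleCat.{u} ℂ[X]} (h : IsZero M) : Module.Finite ℂ (VV M) := by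
  haveI := subsingleton_of_isZero h
  infer_instance

theorem not_eig_of_isZero {M : ModuleCat.{u} ℂ[X]} (h : IsZero M) (μ : ℂ) :
    ¬ Module.End.HasEigenvalue (Phi M) μ := by
  haveI := subsingleton_of_isZero h
  intro hμ
  obtain ⟨v, hv⟩ := hμ.exists_hasEigenvector
  exact hv.2 (Subsingleton.elim _ _)

/-- additivity of the trace on short exact sequences -/
theorem tr_add (S : ShortComplex (ModuleCat.{u} ℂ[X])) (hS : S.ShortExact)
    [Module.Finite ℂ (VV S.X₂)] : tr S.X₂ = tr S.X₁ + tr S.X₃ := by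
  haveI := hS.mono_f
  haveI := hS.epi_g
  refine trace_add_of_exact (lin S.f) (lin S.g) (lin_injective S.f) (lin_surjective S.g) ?_
    (Phi S.X₁) (Phi S.X₂) (Phi S.X₃) (lin_comm S.f) (lin_comm S.g)
  exact (ShortComplex.ShortExact.moduleCat_exact_iff_function_exact S).1 hS.exact

theorem norm_tr_le (M : ModuleCat.{u} ℂ[X]) [Module.Finite ℂ (VV M)] (c : ℝ)
    (hc : ∀ μ : ℂ, Module.End.HasEigenvalue (Phi M) μ → ‖μ‖ ≤ c) :
    ‖tr M‖ ≤ (Module.finrank ℂ (VV M) : ℝ) * c :=
  norm_trace_le (Phi M) c hc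

/-! ### Homology of a short complex -/

section homology

variable (S : ShortComplex (ModuleCat.{u} ℂ[X]))

theorem finite_homology [Module.Finite ℂ (VV S.X₂)] : Module.Finite ℂ (VV S.homology) := by
  haveI : Module.Finite ℂ (VV S.cycles) := finite_of_mono S.iCycles
  exact finite_of_epi S.homologyπ

theorem finrank_homology_le [Module.Finite ℂ (VV S.X₂)] :
    Module.finrank ℂ (VV S.homology) ≤ Module.finrank ℂ (VV S.X₂) := by
  haveI : Module.Finite ℂ (VV S.cycles) := finite_of_mono S.iCycles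
  exact (finrank_le_of_epi S.homologyπ).trans (finrank_le_of_mono S.iCycles)

theorem eig_homology [Module.Finite ℂ (VV S.X₂)] {μ : ℂ}
    (h : Module.End.HasEigenvalue (Phi S.homology) μ) : Module.End.HasEigenvalue (Phi S.X₂) μ := by
  haveI : Module.Finite ℂ (VV S.cycles) := finite_of_mono S.iCycles
  exact eig_of_mono S.iCycles (eig_of_epi S.homologyπ h)

/-- the image of a morphism, as a `ℂ[X]`-module -/
noncomputable abbrev im {M N : ModuleCat.{u} ℂ[X]} (f : M ⟶ N) : ModuleCat.{u} ℂ[X] :=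
  ModuleCat.of ℂ[X] (LinearMap.range f.hom)

noncomputable abbrev imι {M N : ModuleCat.{u} ℂ[X]} (f : M ⟶ N) : im f ⟶ N :=
  ModuleCat.ofHom (LinearMap.range f.hom).subtype

instance {M N : ModuleCat.{u} ℂ[X]} (f : M ⟶ N) : Mono (imι f) :=
  (ModuleCat.mono_iff_injective _).2 (Submodule.injective_subtype _)

/-- the first short exact sequence `0 → ker g → X₂ → im g → 0` -/
noncomputable abbrev ses1 : ShortComplex (ModuleCat.{u} ℂ[X]) :=
  ShortComplex.mk (ModuleCat.ofHom (LinearMap.ker S.g.hom).subtype :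
      ModuleCat.of ℂ[X] (LinearMap.ker S.g.hom) ⟶ S.X₂)
    (ModuleCat.ofHom S.g.hom.rangeRestrict : S.X₂ ⟶ im S.g) (by
      ext x
      exact x.2)

theorem ses1_shortExact : (ses1 S).ShortExact := by
  apply ModuleCat.shortComplex_shortExact
  · intro x
    constructor
    · intro h
      have hx : S.g.hom x = 0 := congrArg Subtype.val h
      exact ⟨⟨x, hx⟩, rfl⟩
    · rintro ⟨y, rfl⟩
      apply Subtype.ext
      exact y.2
  · exact Submodule.injective_subtype _
  · exact LinearMap.surjective_rangeRestrict _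

/-- the second short exact sequence `0 → im(toCycles) → ker g → H → 0` -/
noncomputable abbrev ses2 : ShortComplex (ModuleCat.{u} ℂ[X]) :=
  ShortComplex.mk (ModuleCat.ofHom (LinearMap.range S.moduleCatToCycles).subtype :
      ModuleCat.of ℂ[X] (LinearMap.range S.moduleCatToCycles) ⟶
        ModuleCat.of ℂ[X] (LinearMap.ker S.g.hom))
    (ModuleCat.ofHom (LinearMap.range S.moduleCatToCycles).mkQ :
      ModuleCat.of ℂ[X] (LinearMap.ker S.g.hom) ⟶
        ModuleCat.of ℂ[X] (LinearMap.ker S.g.hom ⧸ LinearMap.range S.moduleCatToCycles)) (by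
      ext x
      exact (Submodule.Quotient.mk_eq_zero _).2 x.2)

theorem ses2_shortExact : (ses2 S).ShortExact := by
  apply ModuleCat.shortComplex_shortExact
  · intro x
    constructor
    · intro h
      have hx : x ∈ LinearMap.range S.moduleCatToCycles := (Submodule.Quotient.mk_eq_zero _).1 h
      exact ⟨⟨x, hx⟩, rfl⟩
    · rintro ⟨y, rfl⟩
      exact (Submodule.Quotient.mk_eq_zero _).2 y.2
  · exact Submodule.injective_subtype _
  · exact Submodule.mkQ_surjective _

/-- `im(toCycles) ≅ im f` -/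
noncomputable def imToCyclesIso :
    ModuleCat.of ℂ[X] (LinearMap.range S.moduleCatToCycles) ≅ im S.f :=
  LinearEquiv.toModuleIso
    ((LinearMap.quotKerEquivRange S.moduleCatToCycles).symm.trans
      ((Submodule.quotEquivOfEq _ _ (by
        rw [LinearMap.ker_codRestrict])).trans (LinearMap.quotKerEquivRange S.f.hom)))

/-- The key identity: `tr X₂ = tr(im f) + tr H + tr(im g)`. -/
theorem tr_X₂ [Module.Finite ℂ (VV S.X₂)] :
    tr S.X₂ = tr (im S.f) + tr S.homology + tr (im S.g) := by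
  have h1 := tr_add (ses1 S) (ses1_shortExact S)
  haveI : Module.Finite ℂ (VV (ses2 S).X₂) := by
    haveI := (ses1_shortExact S).mono_f
    exact finite_of_mono (ses1 S).f
  have h2 := tr_add (ses2 S) (ses2_shortExact S)
  have h3 : tr (ses2 S).X₃ = tr S.homology := (tr_iso S.moduleCatHomologyIso).symm
  have h4 : tr (ses2 S).X₁ = tr (im S.f) := tr_iso (imToCyclesIso S)
  have h5 : tr (ses1 S).X₁ = tr (ses2 S).X₂ := rfl
  have h6 : tr (ses1 S).X₂ = tr S.X₂ := rfl
  have h7 : tr (ses1 S).X₃ = tr (im S.g) := rfl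
  rw [← h6, h1, h5, h2, h3, h4, h7]

end homology

end Groth.Agent.Helper29.SpTrB
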