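import Groth.Agent.Lib.Helper29.SpTrB

/-!
# Helper29.SpTrC : bounded first-quadrant bigraded complexes of `ℂ[X]`-modules and the trace identity
-/

namespace Groth.Agent.Helper29.SpTrC

open CategoryTheory CategoryTheory.Limits Polynomial Groth.Agent.Helper29.SpTrA
  Groth.Agent.Helper29.SpTrB

universe u

/-- the boundedness condition on a bigraded family of `ℂ[X]`-modules -/
structure Bdd (Y : ℤ × ℤ → ModuleCat.{u} ℂ[X]) (N : ℕ) (a c : ℕ → ℝ) (b d : ℕ → ℕ) : Prop where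
  quad : ∀ pq : ℤ × ℤ, pq.1 < 0 ∨ pq.2 < 0 → IsZero (Y pq)
  fin : ∀ pq : ℤ × ℤ, Module.Finite ℂ (VV (Y pq))
  van : ∀ p q : ℕ, N < q → IsZero (Y ((p : ℤ), (q : ℤ)))
  eig : ∀ (p q : ℕ) (μ : ℂ), Module.End.HasEigenvalue (Phi (Y ((p : ℤ), (q : ℤ)))) μ →
    ‖μ‖ ≤ a q * c p
  rank : ∀ p q : ℕ, Module.finrank ℂ (VV (Y ((p : ℤ), (q : ℤ)))) ≤ b q * d p

/-- the cast `ℕ × ℕ → ℤ × ℤ` -/
def cast2 (pq : ℕ × ℕ) : ℤ × ℤ := ((pq.1 : ℤ), (pq.2 : ℤ))

theorem cast2_injective : Function.Injective cast2 := by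
  intro x y h
  have h1 : (x.1 : ℤ) = y.1 := congrArg Prod.fst h
  have h2 : (x.2 : ℤ) = y.2 := congrArg Prod.snd h
  exact Prod.ext (by exact_mod_cast h1) (by exact_mod_cast h2)

theorem mem_range_cast2 (j : ℤ × ℤ) (h1 : 0 ≤ j.1) (h2 : 0 ≤ j.2) : j ∈ Set.range cast2 :=
  ⟨(j.1.toNat, j.2.toNat), by
    apply Prod.ext
    · exact Int.toNat_of_nonneg h1
    · exact Int.toNat_of_nonneg h2⟩

/-- the summable bound -/
noncomputable def Bf (N : ℕ) (a c : ℕ → ℝ) (b d : ℕ → ℕ) (pq : ℕ × ℕ) : ℝ :=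
  (c pq.1 * (d pq.1 : ℝ)) * (if pq.2 ≤ N then (b pq.2 : ℝ) * a pq.2 else 0)

theorem summable_Bf (N : ℕ) (a c : ℕ → ℝ) (b d : ℕ → ℕ) (ha : ∀ q, 0 ≤ a q) (hc : ∀ p, 0 ≤ c p)
    (hsum : Summable fun p : ℕ => c p * (d p : ℝ)) : Summable (Bf N a c b d) := by
  refine Summable.mul_of_nonneg (f := fun p : ℕ => c p * (d p : ℝ))
    (g := fun q : ℕ => if q ≤ N then (b q : ℝ) * a q else 0) hsum ?_ ?_ ?_
  · apply summable_of_ne_finset_zero (s := Finset.range (N + 1))
    intro q hq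
    have : ¬ q ≤ N := by
      intro h
      exact hq (Finset.mem_range.2 (Nat.lt_succ_of_le h))
    simp [this]
  · intro p
    exact mul_nonneg (hc p) (Nat.cast_nonneg _)
  · intro q
    dsimp only
    split_ifs
    · exact mul_nonneg (Nat.cast_nonneg _) (ha q)
    · exact le_refl _

theorem Bf_nonneg (N : ℕ) (a c : ℕ → ℝ) (b d : ℕ → ℕ) (ha : ∀ q, 0 ≤ a q) (hc : ∀ p, 0 ≤ c p)
    (pq : ℕ × ℕ) : 0 ≤ Bf N a c b d pq := by
  unfold Bf
  refine mul_nonneg (mul_nonneg (hc _) (Nat.cast_nonneg _)) ?_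
  split_ifs
  · exact mul_nonneg (Nat.cast_nonneg _) (ha _)
  · exact le_refl _

section bound

variable {Y : ℤ × ℤ → ModuleCat.{u} ℂ[X]} {N : ℕ} {a c : ℕ → ℝ} {b d : ℕ → ℕ}

/-- A module whose rank and eigenvalues are controlled by those of `Y (p, q)` has trace bounded
by `Bf (p, q)`. -/
theorem norm_tr_le_Bf (hY : Bdd Y N a c b d) (ha : ∀ q, 0 ≤ a q) (hc : ∀ p, 0 ≤ c p)
    (pq : ℕ × ℕ) (M : ModuleCat.{u} ℂ[X]) [Module.Finite ℂ (VV M)]
    (hrank : Module.finrank ℂ (VV M) ≤ Module.finrank ℂ (VV (Y (cast2 pq))))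
    (heig : ∀ μ : ℂ, Module.End.HasEigenvalue (Phi M) μ →
      Module.End.HasEigenvalue (Phi (Y (cast2 pq))) μ) :
    ‖tr M‖ ≤ Bf N a c b d pq := by
  obtain ⟨p, q⟩ := pq
  have h1 : ‖tr M‖ ≤ (Module.finrank ℂ (VV M) : ℝ) * (a q * c p) :=
    norm_tr_le M (a q * c p) (fun μ hμ => hY.eig p q μ (heig μ hμ))
  have hac : 0 ≤ a q * c p := mul_nonneg (ha q) (hc p)
  unfold Bf
  by_cases hq : q ≤ N
  · have h2 : (Module.finrank ℂ (VV M) : ℝ) ≤ (b q : ℝ) * (d p : ℝ) := by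
      have := hrank.trans (hY.rank p q)
      exact_mod_cast this
    have h3 : (Module.finrank ℂ (VV M) : ℝ) * (a q * c p) ≤ ((b q : ℝ) * (d p : ℝ)) * (a q * c p) :=
      mul_le_mul_of_nonneg_right h2 hac
    simp only [hq, if_true]
    calc ‖tr M‖ ≤ _ := h1
      _ ≤ _ := h3
      _ = _ := by ring
  · have hz : IsZero (Y (cast2 (p, q))) := hY.van p q (not_le.1 hq)
    have h2 : Module.finrank ℂ (VV M) = 0 := by
      have := finrank_of_isZero hz
      omega
    simp only [hq, if_false, mul_zero]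
    rw [h2] at h1
    simpa using h1

end bound

/-! ### The complex -/

section complex

variable {a' : ℤ × ℤ} (K : HomologicalComplex (ModuleCat.{u} ℂ[X]) (ComplexShape.up' a'))

/-- trace of `X` on the image of the differential `i → j` -/
noncomputable def gg (i j : ℤ × ℤ) : ℂ := tr (im (K.d i j))

theorem prev_eq (j : ℤ × ℤ) : (ComplexShape.up' a').prev j = j - a' :=
  (ComplexShape.up' a').prev_eq' (show (j - a') + a' = j from sub_add_cancel j a')

theorem next_eq (j : ℤ × ℤ) : (ComplexShape.up' a').next j = j + a' :=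
  (ComplexShape.up' a').next_eq' (show j + a' = j + a' from rfl)

/-- homology at `j` via the explicit short complex -/
noncomputable def homIso (j : ℤ × ℤ) : K.homology j ≅ (K.sc' (j - a') j (j + a')).homology :=
  K.homologyIsoSc' _ j _ (prev_eq j) (next_eq j)

theorem tr_X (j : ℤ × ℤ) [Module.Finite ℂ (VV (K.X j))] :
    tr (K.X j) = gg K (j - a') j + tr (K.homology j) + gg K j (j + a') := by
  haveI : Module.Finite ℂ (VV (K.sc' (j - a') j (j + a')).X₂) := ‹Module.Finite ℂ (VV (K.X j))›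
  have := tr_X₂ (K.sc' (j - a') j (j + a'))
  rw [tr_iso (homIso K j)]
  exact this

theorem finite_homology' (j : ℤ × ℤ) [Module.Finite ℂ (VV (K.X j))] :
    Module.Finite ℂ (VV (K.homology j)) := by
  haveI : Module.Finite ℂ (VV (K.sc j).X₂) := ‹Module.Finite ℂ (VV (K.X j))›
  exact finite_homology (K.sc j)

theorem finrank_homology_le' (j : ℤ × ℤ) [Module.Finite ℂ (VV (K.X j))] :
    Module.finrank ℂ (VV (K.homology j)) ≤ Module.finrank ℂ (VV (K.X j)) := by
  haveI : Module.Finite ℂ (VV (K.sc j).X₂) := ‹Module.Finite ℂ (VV (K.X j))›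
  exact finrank_homology_le (K.sc j)

theorem eig_homology' (j : ℤ × ℤ) [Module.Finite ℂ (VV (K.X j))] {μ : ℂ}
    (h : Module.End.HasEigenvalue (Phi (K.homology j)) μ) :
    Module.End.HasEigenvalue (Phi (K.X j)) μ := by
  haveI : Module.Finite ℂ (VV (K.sc j).X₂) := ‹Module.Finite ℂ (VV (K.X j))›
  exact eig_homology (K.sc j) h

theorem isZero_homology' (j : ℤ × ℤ) (h : IsZero (K.X j)) : IsZero (K.homology j) :=
  ShortComplex.isZero_homology_of_isZero_X₂ (K.sc j) h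

/-- The boundedness condition passes to homology (transported along isomorphisms). -/
theorem Bdd.homology {N : ℕ} {a c : ℕ → ℝ} {b d : ℕ → ℕ} (hK : Bdd K.X N a c b d)
    (Y : ℤ × ℤ → ModuleCat.{u} ℂ[X]) (e : ∀ pq, K.homology pq ≅ Y pq) : Bdd Y N a c b d := by
  haveI := hK.fin
  refine ⟨?_, ?_, ?_, ?_, ?_⟩
  · intro pq h
    exact (isZero_homology' K pq (hK.quad pq h)).of_iso (e pq).symm
  · intro pq
    haveI := finite_homology' K pq
    exact finite_iso (e pq)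
  · intro p q h
    exact (isZero_homology' K _ (hK.van p q h)).of_iso (e _).symm
  · intro p q μ hμ
    exact hK.eig p q μ (eig_homology' K _ (eig_iso (e _).symm hμ))
  · intro p q
    rw [← finrank_iso (e _)]
    exact (finrank_homology_le' K _).trans (hK.rank p q)

end complex

end Groth.Agent.Helper29.SpTrC
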