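import Groth.Agent.Lib.Helper29.SpTrC

/-!
# Helper29.SpTrD : the trace identity between a page and its homology
-/

namespace Groth.Agent.Helper29.SpTrD

open CategoryTheory CategoryTheory.Limits Polynomial Groth.Agent.Helper29.SpTrA
  Groth.Agent.Helper29.SpTrB Groth.Agent.Helper29.SpTrC

universe u

/-- the projection onto the image -/
noncomputable abbrev imπ {M N : ModuleCat.{u} ℂ[X]} (f : M ⟶ N) : M ⟶ im f :=
  ModuleCat.ofHom f.hom.rangeRestrict

instance {M N : ModuleCat.{u} ℂ[X]} (f : M ⟶ N) : Epi (imπ f) :=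
  (ModuleCat.epi_iff_surjective _).2 (LinearMap.surjective_rangeRestrict _)

/-- the sign `(-1)^(p+q)` on `ℤ × ℤ` -/
noncomputable def sgn (j : ℤ × ℤ) : ℂ := (-1 : ℂ) ^ (j.1 + j.2)

theorem sgn_cast2 (pq : ℕ × ℕ) : sgn (cast2 pq) = (-1 : ℂ) ^ (pq.1 + pq.2) := by
  unfold sgn cast2
  dsimp only
  rw [← Nat.cast_add, zpow_natCast]

theorem norm_sgn (j : ℤ × ℤ) : ‖sgn j‖ = 1 := by
  unfold sgn
  rw [norm_zpow, norm_neg, norm_one, one_zpow]

theorem sgn_add {a' : ℤ × ℤ} (ha' : a'.1 + a'.2 = 1) (j : ℤ × ℤ) : sgn (j + a') = - sgn j := by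
  unfold sgn
  have : (j + a').1 + (j + a').2 = (j.1 + j.2) + 1 := by
    simp only [Prod.fst_add, Prod.snd_add]
    omega
  rw [this, zpow_add₀ (neg_ne_zero.2 one_ne_zero), zpow_one, mul_neg_one]

section

variable {a' : ℤ × ℤ} (K : HomologicalComplex (ModuleCat.{u} ℂ[X]) (ComplexShape.up' a'))

theorem gg_eq_zero_of_tgt (i j : ℤ × ℤ) (h : IsZero (K.X j)) : gg K i j = 0 :=
  tr_of_isZero (IsZero.of_mono (imι (K.d i j)) h)

theorem gg_eq_zero_of_src (i j : ℤ × ℤ) (h : IsZero (K.X i)) : gg K i j = 0 :=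
  tr_of_isZero (IsZero.of_epi (imπ (K.d i j)) h)

/-- the signed trace on the image of the incoming differential -/
noncomputable def ss (j : ℤ × ℤ) : ℂ := sgn j * gg K (j - a') j

/-- the shifted cast -/
def shift2 (a' : ℤ × ℤ) (pq : ℕ × ℕ) : ℤ × ℤ := cast2 pq + a'

theorem shift2_injective : Function.Injective (shift2 a') := by
  intro x y h
  exact cast2_injective (add_right_cancel h)

variable {N : ℕ} {a c : ℕ → ℝ} {b d : ℕ → ℕ}

theorem ss_support (hK : Bdd K.X N a c b d) (j : ℤ × ℤ) (hj : ss K j ≠ 0) :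
    j ∈ Set.range cast2 ∧ j ∈ Set.range (shift2 a') := by
  have h1 : 0 ≤ j.1 ∧ 0 ≤ j.2 := by
    by_contra hcon
    apply hj
    have : j.1 < 0 ∨ j.2 < 0 := by omega
    unfold ss
    rw [gg_eq_zero_of_tgt K _ _ (hK.quad j this), mul_zero]
  have h2 : 0 ≤ (j - a').1 ∧ 0 ≤ (j - a').2 := by
    by_contra hcon
    apply hj
    have : (j - a').1 < 0 ∨ (j - a').2 < 0 := by omega
    unfold ss
    rw [gg_eq_zero_of_src K _ _ (hK.quad (j - a') this), mul_zero]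
  refine ⟨mem_range_cast2 j h1.1 h1.2, ?_⟩
  obtain ⟨x, hx⟩ := mem_range_cast2 (j - a') h2.1 h2.2
  exact ⟨x, by unfold shift2; rw [hx, sub_add_cancel]⟩

theorem norm_tr_X_le (hK : Bdd K.X N a c b d) (ha : ∀ q, 0 ≤ a q) (hc : ∀ p, 0 ≤ c p)
    (pq : ℕ × ℕ) : ‖tr (K.X (cast2 pq))‖ ≤ Bf N a c b d pq := by
  haveI := hK.fin
  exact norm_tr_le_Bf hK ha hc pq _ le_rfl (fun μ h => h)

theorem norm_tr_homology_le (hK : Bdd K.X N a c b d) (ha : ∀ q, 0 ≤ a q) (hc : ∀ p, 0 ≤ c p)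
    (pq : ℕ × ℕ) : ‖tr (K.homology (cast2 pq))‖ ≤ Bf N a c b d pq := by
  haveI := hK.fin
  haveI := finite_homology' K (cast2 pq)
  exact norm_tr_le_Bf hK ha hc pq _ (finrank_homology_le' K _) (fun μ h => eig_homology' K _ h)

theorem norm_gg_le (hK : Bdd K.X N a c b d) (ha : ∀ q, 0 ≤ a q) (hc : ∀ p, 0 ≤ c p)
    (i : ℤ × ℤ) (pq : ℕ × ℕ) : ‖gg K i (cast2 pq)‖ ≤ Bf N a c b d pq := by
  haveI := hK.fin
  haveI : Module.Finite ℂ (VV (im (K.d i (cast2 pq)))) := finite_of_mono (imι (K.d i (cast2 pq)))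
  exact norm_tr_le_Bf hK ha hc pq _ (finrank_le_of_mono (imι (K.d i (cast2 pq))))
    (fun μ h => eig_of_mono (imι (K.d i (cast2 pq))) h)

theorem norm_sign_mul (n : ℕ) (z : ℂ) : ‖(-1 : ℂ) ^ n * z‖ = ‖z‖ := by
  rw [norm_mul, norm_pow, norm_neg, norm_one, one_pow, one_mul]

/-- The trace identity. -/
theorem trace_identity (ha' : a'.1 + a'.2 = 1) (hK : Bdd K.X N a c b d) (ha : ∀ q, 0 ≤ a q)
    (hc : ∀ p, 0 ≤ c p) (hsum : Summable fun p : ℕ => c p * (d p : ℝ)) :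
    ∑' pq : ℕ × ℕ, (-1 : ℂ) ^ (pq.1 + pq.2) * tr (K.homology (cast2 pq)) =
      ∑' pq : ℕ × ℕ, (-1 : ℂ) ^ (pq.1 + pq.2) * tr (K.X (cast2 pq)) := by
  haveI := hK.fin
  have hB := summable_Bf N a c b d ha hc hsum
  have hH : Summable (fun pq : ℕ × ℕ => (-1 : ℂ) ^ (pq.1 + pq.2) * tr (K.homology (cast2 pq))) :=
    Summable.of_norm_bounded hB (fun pq => by
      rw [norm_sign_mul]; exact norm_tr_homology_le K hK ha hc pq)
  have hs1 : Summable (ss K ∘ cast2) :=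
    Summable.of_norm_bounded hB (fun pq => by
      simp only [Function.comp_apply, ss, norm_mul, norm_sgn, one_mul]
      exact norm_gg_le K hK ha hc _ pq)
  have hs : Summable (ss K) :=
    (cast2_injective.summable_iff (fun x hx => by
      by_contra hne
      exact hx (ss_support K hK x hne).1)).1 hs1
  have hs2 : Summable (ss K ∘ shift2 a') := hs.comp_injective shift2_injective
  have e1 : ∑' pq : ℕ × ℕ, ss K (cast2 pq) = ∑' j, ss K j :=
    cast2_injective.tsum_eq (fun j hj => (ss_support K hK j hj).1)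
  have e2 : ∑' pq : ℕ × ℕ, ss K (shift2 a' pq) = ∑' j, ss K j :=
    shift2_injective.tsum_eq (fun j hj => (ss_support K hK j hj).2)
  have key : ∀ pq : ℕ × ℕ, (-1 : ℂ) ^ (pq.1 + pq.2) * tr (K.X (cast2 pq)) =
      (-1 : ℂ) ^ (pq.1 + pq.2) * tr (K.homology (cast2 pq)) +
        ((ss K ∘ cast2) pq - (ss K ∘ shift2 a') pq) := by
    intro pq
    simp only [Function.comp_apply, ss, shift2]
    rw [sgn_add ha', add_sub_cancel_right, tr_X K (cast2 pq), ← sgn_cast2]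
    ring
  calc ∑' pq : ℕ × ℕ, (-1 : ℂ) ^ (pq.1 + pq.2) * tr (K.homology (cast2 pq))
      = ∑' pq : ℕ × ℕ, (-1 : ℂ) ^ (pq.1 + pq.2) * tr (K.homology (cast2 pq)) +
          (∑' pq : ℕ × ℕ, (ss K ∘ cast2) pq - ∑' pq : ℕ × ℕ, (ss K ∘ shift2 a') pq) := by
        simp only [Function.comp_apply]
        rw [e1, e2, sub_self, add_zero]
    _ = ∑' pq : ℕ × ℕ, ((-1 : ℂ) ^ (pq.1 + pq.2) * tr (K.homology (cast2 pq)) +
          ((ss K ∘ cast2) pq - (ss K ∘ shift2 a') pq)) := by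
        rw [← hs1.tsum_sub hs2, ← hH.tsum_add (hs1.sub hs2)]
    _ = _ := by
        exact tsum_congr (fun pq => (key pq).symm)

end

end Groth.Agent.Helper29.SpTrD
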