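import Groth.Agent.Lib.Helper29.SpTrD
import Groth.Prelude.Def_SpSeq

/-!
# Helper29.SpTrE : all pages of an E₂ spectral sequence of `ℂ[X]`-modules, stationarity and the limit
-/

namespace Groth.Agent.Helper29.SpTrE

open CategoryTheory CategoryTheory.Limits Polynomial Groth.Agent.Helper29.SpTrA
  Groth.Agent.Helper29.SpTrB Groth.Agent.Helper29.SpTrC Groth.Agent.Helper29.SpTrD

universe u

variable (E : E₂CohomologicalSpectralSequence (ModuleCat.{u} ℂ[X]))

/-- the alternating sum of traces on page `r` -/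
noncomputable def SS (r : ℤ) (hr : 2 ≤ r) : ℂ :=
  ∑' pq : ℕ × ℕ, (-1 : ℂ) ^ (pq.1 + pq.2) * tr ((E.page r hr).X (cast2 pq))

variable {N : ℕ} {a c : ℕ → ℝ} {b d : ℕ → ℕ}

theorem pages (h2 : Bdd (E.page 2 le_rfl).X N a c b d) (ha : ∀ q, 0 ≤ a q) (hc : ∀ p, 0 ≤ c p)
    (hsum : Summable fun p : ℕ => c p * (d p : ℝ)) :
    ∀ (r : ℤ) (hr : 2 ≤ r), Bdd (E.page r hr).X N a c b d ∧ SS E r hr = SS E 2 le_rfl := by
  intro r hr
  induction r, hr using Int.leInduction with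
  | base => exact ⟨h2, rfl⟩
  | succ r hr ih =>
    obtain ⟨hK, hS⟩ := ih
    have hK' : Bdd (E.page (r + 1) (Int.le_add_one hr)).X N a c b d :=
      Bdd.homology (E.page r hr) hK _ (fun pq => E.iso r (r + 1) pq rfl hr)
    refine ⟨hK', ?_⟩
    rw [← hS]
    have key := trace_identity (E.page r hr) (show (r + (1 - r) : ℤ) = 1 by ring) hK ha hc hsum
    refine Eq.trans (tsum_congr (fun pq => ?_)) key
    congr 1
    exact (tr_iso (E.iso r (r + 1) (cast2 pq) rfl hr)).symm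

/-- homology is the object itself when both differentials vanish -/
noncomputable def isoOfZero {a' : ℤ × ℤ}
    (K : HomologicalComplex (ModuleCat.{u} ℂ[X]) (ComplexShape.up' a')) (j : ℤ × ℤ)
    (h1 : K.d (j - a') j = 0) (h2 : K.d j (j + a') = 0) : K.homology j ≅ K.X j :=
  homIso K j ≪≫ ((K.sc' (j - a') j (j + a')).asIsoHomologyπ h1).symm ≪≫
    (K.sc' (j - a') j (j + a')).cyclesIsoX₂ h2

/-- From a stationary page on, the trace at a position does not change. -/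
theorem tr_stationary (pq : ℤ × ℤ) (ρ : ℤ) (hst : SpSeq.StationaryAt E pq ρ) :
    ∀ (r' : ℤ) (h : ρ ≤ r'), tr ((E.page r' (hst.1.trans h)).X pq) = tr ((E.page ρ hst.1).X pq) := by
  intro r' h
  induction r', h using Int.leInduction with
  | base => rfl
  | succ r' h ih =>
    rw [← ih]
    have hz := hst.2 r' (hst.1.trans h) h
    have e1 := E.iso r' (r' + 1) pq rfl (hst.1.trans h)
    have e2 := isoOfZero (E.page r' (hst.1.trans h)) pq hz.1 hz.2
    exact (tr_iso (e1.symm ≪≫ e2))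

/-- the trace on the limit term given by abutment data -/
noncomputable def tinf {H : ℤ → ModuleCat.{u} ℂ[X]} (abut : SpSeq.Abutment E H) (pq : ℤ × ℤ) : ℂ :=
  tr ((E.page (abut.rk pq) (abut.stat pq).1).X pq)

variable {H : ℤ → ModuleCat.{u} ℂ[X]} (abut : SpSeq.Abutment E H)

theorem norm_tinf_le (h2 : Bdd (E.page 2 le_rfl).X N a c b d) (ha : ∀ q, 0 ≤ a q)
    (hc : ∀ p, 0 ≤ c p) (hsum : Summable fun p : ℕ => c p * (d p : ℝ)) (pq : ℕ × ℕ) :
    ‖tinf E abut (cast2 pq)‖ ≤ Bf N a c b d pq :=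
  norm_tr_X_le _ (pages E h2 ha hc hsum _ _).1 ha hc pq

theorem tinf_eq_zero (h2 : Bdd (E.page 2 le_rfl).X N a c b d) (ha : ∀ q, 0 ≤ a q)
    (hc : ∀ p, 0 ≤ c p) (hsum : Summable fun p : ℕ => c p * (d p : ℝ)) (pq : ℤ × ℤ)
    (h : pq.1 < 0 ∨ pq.2 < 0) : tinf E abut pq = 0 :=
  tr_of_isZero ((pages E h2 ha hc hsum _ _).1.quad pq h)

theorem summable_tinf (h2 : Bdd (E.page 2 le_rfl).X N a c b d) (ha : ∀ q, 0 ≤ a q)
    (hc : ∀ p, 0 ≤ c p) (hsum : Summable fun p : ℕ => c p * (d p : ℝ)) :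
    Summable (fun pq : ℕ × ℕ => (-1 : ℂ) ^ (pq.1 + pq.2) * tinf E abut (cast2 pq)) :=
  Summable.of_norm_bounded (summable_Bf N a c b d ha hc hsum) (fun pq => by
    rw [norm_sign_mul]; exact norm_tinf_le E abut h2 ha hc hsum pq)

/-- The alternating sum of the traces on the limit terms equals that on the second page. -/
theorem limit_sum (h2 : Bdd (E.page 2 le_rfl).X N a c b d) (ha : ∀ q, 0 ≤ a q)
    (hc : ∀ p, 0 ≤ c p) (hsum : Summable fun p : ℕ => c p * (d p : ℝ)) :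
    ∑' pq : ℕ × ℕ, (-1 : ℂ) ^ (pq.1 + pq.2) * tinf E abut (cast2 pq) = SS E 2 le_rfl := by
  have hr : ∀ n : ℕ, (2 : ℤ) ≤ (n : ℤ) + 2 := fun n => by omega
  have lim := tendsto_tsum_of_dominated_convergence (𝓕 := Filter.atTop)
    (f := fun (n : ℕ) (pq : ℕ × ℕ) =>
      (-1 : ℂ) ^ (pq.1 + pq.2) * tr ((E.page ((n : ℤ) + 2) (hr n)).X (cast2 pq)))
    (g := fun pq : ℕ × ℕ => (-1 : ℂ) ^ (pq.1 + pq.2) * tinf E abut (cast2 pq))
    (bound := Bf N a c b d) (summable_Bf N a c b d ha hc hsum) ?_ ?_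
  · have hconst : ∀ n : ℕ, (∑' pq : ℕ × ℕ,
        (-1 : ℂ) ^ (pq.1 + pq.2) * tr ((E.page ((n : ℤ) + 2) (hr n)).X (cast2 pq))) =
        SS E 2 le_rfl := fun n => (pages E h2 ha hc hsum _ (hr n)).2
    exact tendsto_nhds_unique lim (tendsto_const_nhds.congr (fun n => (hconst n).symm))
  · intro pq
    apply tendsto_const_nhds.congr'
    rw [Filter.EventuallyEq, Filter.eventually_atTop]
    refine ⟨(abut.rk (cast2 pq) - 2).toNat, fun n hn => ?_⟩
    have hle : abut.rk (cast2 pq) ≤ (n : ℤ) + 2 := by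
      have := Int.self_le_toNat (abut.rk (cast2 pq) - 2)
      have h3 : ((abut.rk (cast2 pq) - 2).toNat : ℤ) ≤ n := by exact_mod_cast hn
      omega
    rw [tinf, tr_stationary E (cast2 pq) _ (abut.stat (cast2 pq)) _ hle]
  · exact Filter.Eventually.of_forall (fun n pq => by
      rw [norm_sign_mul]
      exact norm_tr_X_le _ (pages E h2 ha hc hsum _ (hr n)).1 ha hc pq)

end Groth.Agent.Helper29.SpTrE
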