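import Groth.Agent.Lib.Helper29.SpTrE

/-!
# Helper29.SpTrF : the trace along a finite filtration
-/

namespace Groth.Agent.Helper29.SpTrF

open CategoryTheory CategoryTheory.Limits Polynomial Groth.Agent.Helper29.SpTrA
  Groth.Agent.Helper29.SpTrB Groth.Agent.Helper29.SpTrC Groth.Agent.Helper29.SpTrD
  Groth.Agent.Helper29.SpTrE

universe u

theorem finite_of_shortExact (S : ShortComplex (ModuleCat.{u} ℂ[X])) (hS : S.ShortExact)
    [Module.Finite ℂ (VV S.X₁)] [Module.Finite ℂ (VV S.X₃)] : Module.Finite ℂ (VV S.X₂) := by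
  haveI := hS.mono_f
  haveI := hS.epi_g
  have hex : Function.Exact (lin S.f) (lin S.g) :=
    (ShortComplex.ShortExact.moduleCat_exact_iff_function_exact S).1 hS.exact
  have hker : LinearMap.ker (lin S.g) = LinearMap.range (lin S.f) := LinearMap.exact_iff.1 hex
  haveI : Module.Finite ℂ (LinearMap.ker (lin S.g)) := by
    rw [hker]
    infer_instance
  haveI : Module.Finite ℂ (VV S.X₂ ⧸ LinearMap.ker (lin S.g)) :=
    Module.Finite.equiv ((lin S.g).quotKerEquivOfSurjective (lin_surjective S.g)).symm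
  exact Module.Finite.of_submodule_quotient (LinearMap.ker (lin S.g))

section

variable {H : ModuleCat.{u} ℂ[X]} (F : ℤ → Subobject H) (anti : Antitone F)

/-- the short exact sequence `0 → F (p+1) → F p → gr p → 0` -/
noncomputable abbrev grSES (p : ℤ) : ShortComplex (ModuleCat.{u} ℂ[X]) :=
  ShortComplex.cokernelSequence ((F (p + 1)).ofLE (F p) (anti (Int.le_add_one le_rfl)))

theorem grSES_shortExact (p : ℤ) : (grSES F anti p).ShortExact :=
  { exact := ShortComplex.cokernelSequence_exact _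
    mono_f := (inferInstance : Mono ((F (p + 1)).ofLE (F p) (anti (Int.le_add_one le_rfl))))
    epi_g := (inferInstance : Epi (cokernel.π ((F (p + 1)).ofLE (F p) (anti (Int.le_add_one le_rfl))))) }

theorem step (hi p : ℤ) (hp : p < hi)
    (hfin : ∀ p, Module.Finite ℂ (VV (SpSeq.grPiece F anti p)))
    (h : Module.Finite ℂ (VV (F (p + 1) : ModuleCat.{u} ℂ[X])) ∧
      tr (F (p + 1) : ModuleCat.{u} ℂ[X]) = ∑ i ∈ Finset.Ico (p + 1) hi, tr (SpSeq.grPiece F anti i)) :
    Module.Finite ℂ (VV (F p : ModuleCat.{u} ℂ[X])) ∧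
      tr (F p : ModuleCat.{u} ℂ[X]) = ∑ i ∈ Finset.Ico p hi, tr (SpSeq.grPiece F anti i) := by
  obtain ⟨h1, h2⟩ := h
  haveI : Module.Finite ℂ (VV (grSES F anti p).X₁) := h1
  haveI : Module.Finite ℂ (VV (grSES F anti p).X₃) := hfin p
  haveI hX2 : Module.Finite ℂ (VV (grSES F anti p).X₂) :=
    finite_of_shortExact _ (grSES_shortExact F anti p)
  refine ⟨hX2, ?_⟩
  have hadd := tr_add (grSES F anti p) (grSES_shortExact F anti p)
  have hIco : Finset.Ico p hi = insert p (Finset.Ico (p + 1) hi) := by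
    ext x
    simp only [Finset.mem_Ico, Finset.mem_insert]
    omega
  have hnot : p ∉ Finset.Ico (p + 1) hi := by
    simp only [Finset.mem_Ico]
    omega
  rw [hIco, Finset.sum_insert hnot, ← h2, add_comm]
  exact hadd

theorem tr_filtration (lo hi : ℤ) (hlo : F lo = ⊤) (hhi : F hi = ⊥) (hle : lo ≤ hi)
    (hfin : ∀ p, Module.Finite ℂ (VV (SpSeq.grPiece F anti p))) :
    Module.Finite ℂ (VV H) ∧ tr H = ∑ i ∈ Finset.Ico lo hi, tr (SpSeq.grPiece F anti i) := by
  have main : ∀ (n : ℤ) (hn : n ≤ hi), Module.Finite ℂ (VV (F n : ModuleCat.{u} ℂ[X])) ∧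
      tr (F n : ModuleCat.{u} ℂ[X]) = ∑ i ∈ Finset.Ico n hi, tr (SpSeq.grPiece F anti i) := by
    intro n hn
    induction n, hn using Int.leInductionDown with
    | base =>
      have hz : IsZero (F hi : ModuleCat.{u} ℂ[X]) :=
        IsZero.of_iso (isZero_zero _) (Subobject.isoOfEq _ _ hhi ≪≫ Subobject.botCoeIsoZero)
      refine ⟨finite_of_isZero hz, ?_⟩
      rw [tr_of_isZero hz, Finset.Ico_self, Finset.sum_empty]
    | pred n hn ih =>
      apply step F anti hi (n - 1) (by omega) hfin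
      rw [sub_add_cancel]
      exact ih
  obtain ⟨h1, h2⟩ := main lo hle
  let e : (F lo : ModuleCat.{u} ℂ[X]) ≅ H :=
    Subobject.isoOfEq _ _ hlo ≪≫ asIso (⊤ : Subobject H).arrow
  haveI := h1
  exact ⟨finite_iso e, by rw [← tr_iso e, h2]⟩

end

end Groth.Agent.Helper29.SpTrF
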