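import Groth.Agent.Lib.Helper29.SpTrF

/-!
# Helper29.SpTrG : the trace on the abutment
-/

namespace Groth.Agent.Helper29.SpTrG

open CategoryTheory CategoryTheory.Limits Polynomial Groth.Agent.Helper29.SpTrA
  Groth.Agent.Helper29.SpTrB Groth.Agent.Helper29.SpTrC Groth.Agent.Helper29.SpTrD
  Groth.Agent.Helper29.SpTrE Groth.Agent.Helper29.SpTrF

open Finset.HasAntidiagonal

universe u

theorem tsum_antidiagonal (T : ℕ × ℕ → ℂ) (hT : Summable T) :
    ∑' kl, T kl = ∑' n : ℕ, ∑ kl ∈ antidiagonal n, T kl := by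
  have hs : Summable (T ∘ (sigmaAntidiagonalEquivProd (A := ℕ))) :=
    (sigmaAntidiagonalEquivProd (A := ℕ)).summable_iff.2 hT
  have h1 := hs.tsum_sigma' (fun n => (hasSum_fintype _).summable)
  have h2 : ∑' p, (T ∘ (sigmaAntidiagonalEquivProd (A := ℕ))) p = ∑' kl, T kl :=
    (sigmaAntidiagonalEquivProd (A := ℕ)).tsum_eq T
  rw [← h2, h1]
  refine tsum_congr (fun n => ?_)
  rw [tsum_fintype]
  exact Finset.sum_coe_sort (antidiagonal n) T

theorem summable_antidiagonal (T : ℕ × ℕ → ℝ) (hT : Summable T) :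
    Summable (fun n : ℕ => ∑ kl ∈ antidiagonal n, T kl) := by
  have h1 := ((sigmaAntidiagonalEquivProd (A := ℕ)).summable_iff.2 hT).sigma
  refine h1.congr (fun n => ?_)
  rw [tsum_fintype]
  exact (Finset.sum_coe_sort (antidiagonal n) T)

variable (E : E₂CohomologicalSpectralSequence (ModuleCat.{u} ℂ[X]))
  {H : ℤ → ModuleCat.{u} ℂ[X]} (abut : SpSeq.Abutment E H)
  {N : ℕ} {a c : ℕ → ℝ} {b d : ℕ → ℕ}

theorem tr_gr (m : ℤ) (pq : ℤ × ℤ) (h : pq.1 + pq.2 = m) :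
    tr (SpSeq.grPiece (abut.fil m) (abut.anti m) pq.1) = tinf E abut pq := by
  subst h
  exact (tr_iso (abut.β pq)).symm

theorem finite_gr (h2 : Bdd (E.page 2 le_rfl).X N a c b d) (ha : ∀ q, 0 ≤ a q)
    (hc : ∀ p, 0 ≤ c p) (hsum : Summable fun p : ℕ => c p * (d p : ℝ))
    (m : ℤ) (pq : ℤ × ℤ) (h : pq.1 + pq.2 = m) :
    Module.Finite ℂ (VV (SpSeq.grPiece (abut.fil m) (abut.anti m) pq.1)) := by
  subst h
  haveI := (pages E h2 ha hc hsum _ (abut.stat pq).1).1.fin pq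
  exact finite_iso (abut.β pq)

/-- The trace on `H n` is the sum of the traces on the limit terms of total degree `n`. -/
theorem tr_H (h2 : Bdd (E.page 2 le_rfl).X N a c b d) (ha : ∀ q, 0 ≤ a q)
    (hc : ∀ p, 0 ≤ c p) (hsum : Summable fun p : ℕ => c p * (d p : ℝ))
    (n : ℕ) (hfin : abut.IsFinite (n : ℤ)) :
    tr (H (n : ℤ)) = ∑ kl ∈ antidiagonal n, tinf E abut (cast2 kl) := by
  obtain ⟨⟨a₀, ha₀⟩, ⟨b₀, hb₀⟩⟩ := hfin
  change abut.fil (n : ℤ) a₀ = ⊤ at ha₀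
  change abut.fil (n : ℤ) b₀ = ⊥ at hb₀
  have hlo : abut.fil (n : ℤ) (min a₀ 0) = ⊤ :=
    top_le_iff.1 (ha₀ ▸ abut.anti (n : ℤ) (min_le_left a₀ 0))
  have hhi : abut.fil (n : ℤ) (max b₀ ((n : ℤ) + 1)) = ⊥ :=
    le_bot_iff.1 (hb₀ ▸ abut.anti (n : ℤ) (le_max_left b₀ ((n : ℤ) + 1)))
  have hle : min a₀ 0 ≤ max b₀ ((n : ℤ) + 1) := by
    have h1 : min a₀ 0 ≤ 0 := min_le_right _ _
    have h2 : (n : ℤ) + 1 ≤ max b₀ ((n : ℤ) + 1) := le_max_right _ _
    omega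
  have hF := (tr_filtration (abut.fil (n : ℤ)) (abut.anti (n : ℤ)) _ _ hlo hhi hle
    (fun p => finite_gr E abut h2 ha hc hsum (n : ℤ) (p, (n : ℤ) - p) (by simp))).2
  rw [hF]
  have e1 : ∑ i ∈ Finset.Ico (min a₀ 0) (max b₀ ((n : ℤ) + 1)),
      tr (SpSeq.grPiece (abut.fil (n : ℤ)) (abut.anti (n : ℤ)) i) =
      ∑ i ∈ Finset.Ico (min a₀ 0) (max b₀ ((n : ℤ) + 1)), tinf E abut (i, (n : ℤ) - i) :=
    Finset.sum_congr rfl (fun i _ => tr_gr E abut (n : ℤ) (i, (n : ℤ) - i) (by simp))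
  have e2 : ∑ i ∈ Finset.Ico (0 : ℤ) ((n : ℤ) + 1), tinf E abut (i, (n : ℤ) - i) =
      ∑ i ∈ Finset.Ico (min a₀ 0) (max b₀ ((n : ℤ) + 1)), tinf E abut (i, (n : ℤ) - i) := by
    apply Finset.sum_subset
    · intro x hx
      rw [Finset.mem_Ico] at hx ⊢
      have h1 : min a₀ 0 ≤ 0 := min_le_right _ _
      have h2 : (n : ℤ) + 1 ≤ max b₀ ((n : ℤ) + 1) := le_max_right _ _
      omega
    · intro x _ hx
      rw [Finset.mem_Ico] at hx
      apply tinf_eq_zero E abut h2 ha hc hsum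
      dsimp only
      omega
  have e3 : ∑ i ∈ Finset.Ico (0 : ℤ) ((n : ℤ) + 1), tinf E abut (i, (n : ℤ) - i) =
      ∑ k ∈ Finset.range n.succ, tinf E abut (cast2 (k, n - k)) := by
    refine Finset.sum_nbij' (fun i : ℤ => i.toNat) (fun k : ℕ => (k : ℤ)) ?_ ?_ ?_ ?_ ?_
    · intro i hi
      rw [Finset.mem_Ico] at hi
      rw [Finset.mem_range]
      omega
    · intro k hk
      rw [Finset.mem_range] at hk
      rw [Finset.mem_Ico]
      omega
    · intro i hi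
      rw [Finset.mem_Ico] at hi
      exact Int.toNat_of_nonneg hi.1
    · intro k _
      exact Int.toNat_natCast k
    · intro i hi
      rw [Finset.mem_Ico] at hi
      congr 1
      unfold cast2
      apply Prod.ext
      · exact (Int.toNat_of_nonneg hi.1).symm
      · dsimp only
        have : i.toNat ≤ n := by omega
        rw [Nat.cast_sub this, Int.toNat_of_nonneg hi.1]
  rw [e1, ← e2, e3, Finset.Nat.sum_antidiagonal_eq_sum_range_succ_mk]

theorem finite_H (h2 : Bdd (E.page 2 le_rfl).X N a c b d) (ha : ∀ q, 0 ≤ a q)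
    (hc : ∀ p, 0 ≤ c p) (hsum : Summable fun p : ℕ => c p * (d p : ℝ))
    (n : ℤ) (hfin : abut.IsFinite n) : Module.Finite ℂ (VV (H n)) := by
  obtain ⟨⟨a₀, ha₀⟩, ⟨b₀, hb₀⟩⟩ := hfin
  change abut.fil n a₀ = ⊤ at ha₀
  change abut.fil n b₀ = ⊥ at hb₀
  have hlo : abut.fil n (min a₀ b₀) = ⊤ :=
    top_le_iff.1 (ha₀ ▸ abut.anti n (min_le_left a₀ b₀))
  exact (tr_filtration (abut.fil n) (abut.anti n) _ _ hlo hb₀ (min_le_right _ _)
    (fun p => finite_gr E abut h2 ha hc hsum n (p, n - p) (by simp))).1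

/-- The final statement. -/
theorem main (hfin : ∀ n, abut.IsFinite n) (h2 : Bdd (E.page 2 le_rfl).X N a c b d)
    (ha : ∀ q, 0 ≤ a q) (hc : ∀ p, 0 ≤ c p) (hsum : Summable fun p : ℕ => c p * (d p : ℝ)) :
    Summable (fun n : ℕ => ‖tr (H (n : ℤ))‖) ∧
      ∑' n : ℕ, (-1 : ℂ) ^ n * tr (H (n : ℤ)) =
        ∑' pq : ℕ × ℕ, (-1 : ℂ) ^ (pq.1 + pq.2) * tr ((E.page 2 le_rfl).X (cast2 pq)) := by
  have hB := summable_Bf N a c b d ha hc hsum
  constructor
  · refine Summable.of_nonneg_of_le (fun n => norm_nonneg _) (fun n => ?_)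
      (summable_antidiagonal _ hB)
    rw [tr_H E abut h2 ha hc hsum n (hfin n)]
    exact (norm_sum_le _ _).trans
      (Finset.sum_le_sum (fun kl _ => norm_tinf_le E abut h2 ha hc hsum kl))
  · have hT := summable_tinf E abut h2 ha hc hsum
    have h3 := limit_sum E abut h2 ha hc hsum
    rw [tsum_antidiagonal _ hT] at h3
    refine Eq.trans (tsum_congr (fun n => ?_)) h3
    rw [tr_H E abut h2 ha hc hsum n (hfin n), Finset.mul_sum]
    refine Finset.sum_congr rfl (fun kl hkl => ?_)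
    rw [Finset.HasAntidiagonal.mem_antidiagonal.1 hkl]

end Groth.Agent.Helper29.SpTrG
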