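import Mathlib
import Groth.Prelude.Def_FibClv

namespace Groth.Agent.Helper29.SplitClv

open CategoryTheory CategoryTheory.Functor FibCat Opposite

universe v₁ v₂ v₃ u₁ u₂ u₃

section Transport

variable {𝒮 : Type u₁} [Category.{v₁} 𝒮] {𝒳 : Type u₂} [Category.{v₂} 𝒳]
  {𝒴 : Type u₃} [Category.{v₃} 𝒴]

lemma lift_congr {q : 𝒴 ⥤ 𝒮} (L : Cleavage q) {R T : 𝒮} {b b' : 𝒴} (e : b' = b)
    (hb' : q.obj b' = T) (hb : q.obj b = T) (g : R ⟶ T) :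
    ∃ h : L.obj hb' g = L.obj hb g, L.lift hb' g = eqToHom h ≫ L.lift hb g ≫ eqToHom e.symm := by
  subst e
  exact ⟨rfl, by simp⟩

variable (p : 𝒳 ⥤ 𝒮) (Φ : 𝒳 ⥤ 𝒴) (Ψ : 𝒴 ⥤ 𝒳)

lemma isHomLift_comp_iff {R S : 𝒮} (f : R ⟶ S) {x y : 𝒴} (θ : x ⟶ y) :
    (Ψ ⋙ p).IsHomLift f θ ↔ p.IsHomLift f (Ψ.map θ) := by
  constructor
  · intro h
    exact IsHomLift.of_fac p f (Ψ.map θ) (IsHomLift.domain_eq (Ψ ⋙ p) f θ)
      (IsHomLift.codomain_eq (Ψ ⋙ p) f θ) (IsHomLift.fac (Ψ ⋙ p) f θ)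
  · intro h
    exact IsHomLift.of_fac (Ψ ⋙ p) f θ (IsHomLift.domain_eq p f (Ψ.map θ))
      (IsHomLift.codomain_eq p f (Ψ.map θ)) (IsHomLift.fac p f (Ψ.map θ))

variable (h₁ : Φ ⋙ Ψ = 𝟭 𝒳) (h₂ : Ψ ⋙ Φ = 𝟭 𝒴)

include h₁ in
lemma ΨΦ_map {a' a : 𝒳} (φ : a' ⟶ a) :
    Ψ.map (Φ.map φ) = eqToHom (Functor.congr_obj h₁ a') ≫ φ ≫
      eqToHom (Functor.congr_obj h₁ a).symm :=
  Functor.congr_hom h₁ φ

include h₂ in
lemma ΦΨ_map {x y : 𝒴} (θ : x ⟶ y) :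
    Φ.map (Ψ.map θ) = eqToHom (Functor.congr_obj h₂ x) ≫ θ ≫
      eqToHom (Functor.congr_obj h₂ y).symm :=
  Functor.congr_hom h₂ θ

include h₁ h₂ in
lemma isCartesian_map {R S : 𝒮} (f : R ⟶ S) {x y : 𝒴} (ℓ : x ⟶ y) [(Ψ ⋙ p).IsCartesian f ℓ] :
    p.IsCartesian f (Ψ.map ℓ) := by
  have h0 : p.IsHomLift f (Ψ.map ℓ) := (isHomLift_comp_iff p Ψ f ℓ).mp inferInstance
  refine { toIsHomLift := h0, universal_property := ?_ }
  intro a' φ' hφ'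
  -- the corresponding morphism in 𝒴
  have hθ : (Ψ ⋙ p).IsHomLift f (Φ.map φ' ≫ eqToHom (Functor.congr_obj h₂ y)) := by
    rw [isHomLift_comp_iff, Functor.map_comp, ΨΦ_map Φ Ψ h₁, eqToHom_map]
    infer_instance
  let χ₀ := IsCartesian.map (Ψ ⋙ p) f ℓ (Φ.map φ' ≫ eqToHom (Functor.congr_obj h₂ y))
  have hχ₀ : p.IsHomLift (𝟙 R) (Ψ.map χ₀) := (isHomLift_comp_iff p Ψ (𝟙 R) χ₀).mp inferInstance
  have hfac : χ₀ ≫ ℓ = Φ.map φ' ≫ eqToHom (Functor.congr_obj h₂ y) := IsCartesian.fac _ _ _ _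
  refine ⟨eqToHom (Functor.congr_obj h₁ a').symm ≫ Ψ.map χ₀, ⟨inferInstance, ?_⟩, ?_⟩
  · rw [Category.assoc, ← Functor.map_comp, hfac, Functor.map_comp, ΨΦ_map Φ Ψ h₁, eqToHom_map]
    simp
  · rintro χ' ⟨hχ', hχ'2⟩
    have hθ' : (Ψ ⋙ p).IsHomLift (𝟙 R) (Φ.map χ' ≫ eqToHom (Functor.congr_obj h₂ x)) := by
      rw [isHomLift_comp_iff, Functor.map_comp, ΨΦ_map Φ Ψ h₁, eqToHom_map]
      infer_instance
    have h3 : (Φ.map χ' ≫ eqToHom (Functor.congr_obj h₂ x)) ≫ ℓ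
        = Φ.map φ' ≫ eqToHom (Functor.congr_obj h₂ y) := by
      rw [← hχ'2, Functor.map_comp, ΦΨ_map Φ Ψ h₂]
      simp
    have h4 : Φ.map χ' ≫ eqToHom (Functor.congr_obj h₂ x) = χ₀ :=
      IsCartesian.map_uniq (Ψ ⋙ p) f ℓ _ _ h3
    rw [← h4, Functor.map_comp, ΨΦ_map Φ Ψ h₁, eqToHom_map]
    simp

include h₁ h₂ in
/-- transport of a splitting along a strict isomorphism of categories -/
theorem transport (q : 𝒴 ⥤ 𝒮) (hq : q = Ψ ⋙ p) (L : Cleavage q) (hL : L.IsSplitting) :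
    ∃ K : Cleavage p, K.IsSplitting := by
  subst hq
  have ha' : ∀ {S : 𝒮} {a : 𝒳}, p.obj a = S → (Ψ ⋙ p).obj (Φ.obj a) = S := fun {S a} ha =>
    (congrArg p.obj (Functor.congr_obj h₁ a)).trans ha
  let K : Cleavage p :=
    { obj := fun {R S a} ha f => Ψ.obj (L.obj (a := Φ.obj a) (ha' ha) f)
      lift := fun {R S a} ha f =>
        Ψ.map (L.lift (a := Φ.obj a) (ha' ha) f) ≫ eqToHom (Functor.congr_obj h₁ a)
      isCartesian := fun {R S a} ha f => by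
        have h1 : p.IsCartesian f (Ψ.map (L.lift (a := Φ.obj a) (ha' ha) f)) :=
          isCartesian_map p Φ Ψ h₁ h₂ f _
        have h2 : p.IsHomLift (𝟙 S) (eqToIso (Functor.congr_obj h₁ a)).hom :=
          IsHomLift.eqToHom_codomain_lift_id (Functor.congr_obj h₁ a) ha
        exact IsCartesian.of_comp_iso p f (Ψ.map (L.lift (a := Φ.obj a) (ha' ha) f))
          (eqToIso (Functor.congr_obj h₁ a)) }
  refine ⟨K, ?_, ?_⟩
  · intro S a ha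
    obtain ⟨hL1, hL2⟩ := hL.1 (ha' ha)
    refine ⟨(congrArg Ψ.obj hL1).trans (Functor.congr_obj h₁ a), ?_⟩
    show Ψ.map (L.lift (a := Φ.obj a) (ha' ha) (𝟙 S)) ≫ eqToHom (Functor.congr_obj h₁ a) = _
    rw [hL2, eqToHom_map, eqToHom_trans]
  · intro S T U f g a ha
    obtain ⟨hL1, hL2⟩ := hL.2 f g (ha' ha)
    obtain ⟨h', h'2⟩ := lift_congr L
      (Functor.congr_obj h₂ (L.obj (a := Φ.obj a) (ha' ha) f))
      (ha' (K.obj_proj ha f)) (L.obj_proj (ha' ha) f) g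
    refine ⟨congrArg Ψ.obj (h'.trans hL1), ?_⟩
    show (Ψ.map (L.lift (ha' (K.obj_proj ha f)) g) ≫ eqToHom _) ≫
        (Ψ.map (L.lift (a := Φ.obj a) (ha' ha) f) ≫ eqToHom (Functor.congr_obj h₁ a))
      = eqToHom _ ≫ (Ψ.map (L.lift (a := Φ.obj a) (ha' ha) (g ≫ f)) ≫
          eqToHom (Functor.congr_obj h₁ a))
    have key : Ψ.map (L.lift (L.obj_proj (ha' ha) f) g) ≫ Ψ.map (L.lift (a := Φ.obj a) (ha' ha) f)
        = eqToHom (congrArg Ψ.obj hL1) ≫ Ψ.map (L.lift (a := Φ.obj a) (ha' ha) (g ≫ f)) := by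
      rw [← Functor.map_comp, hL2, Functor.map_comp, eqToHom_map]
    rw [h'2]
    simp only [Functor.map_comp, eqToHom_map, Category.assoc, eqToHom_trans_assoc, eqToHom_refl,
      Category.id_comp]
    rw [reassoc_of% key]
    simp

end Transport

section Canonical

open Pseudofunctor Pseudofunctor.CoGrothendieck

/-- a morphism which is an `eqToHom` -/
def IsEqHom {C : Type*} [Category C] {X Y : C} (m : X ⟶ Y) : Prop := ∃ e : X = Y, m = eqToHom e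

section
variable {C : Type*} [Category C] {D : Type*} [Category D] {X Y Z : C}

lemma IsEqHom.eqToHom (e : X = Y) : IsEqHom (eqToHom e) := ⟨e, rfl⟩

lemma IsEqHom.id (X : C) : IsEqHom (𝟙 X) := ⟨rfl, rfl⟩

lemma IsEqHom.comp {m : X ⟶ Y} {n : Y ⟶ Z} (h1 : IsEqHom m) (h2 : IsEqHom n) :
    IsEqHom (m ≫ n) := by
  obtain ⟨e1, rfl⟩ := h1
  obtain ⟨e2, rfl⟩ := h2
  exact ⟨e1.trans e2, eqToHom_trans _ _⟩

lemma IsEqHom.map (G : C ⥤ D) {m : X ⟶ Y} (h : IsEqHom m) : IsEqHom (G.map m) := by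
  obtain ⟨e, rfl⟩ := h
  exact ⟨congrArg G.obj e, eqToHom_map _ _⟩

lemma IsEqHom.app {G G' : C ⥤ D} {α : G ⟶ G'} (h : IsEqHom α) (x : C) : IsEqHom (α.app x) := by
  obtain ⟨e, rfl⟩ := h
  exact ⟨_, eqToHom_app e x⟩

lemma IsEqHom.toNatTrans {C D : Cat} {G G' : C ⟶ D} {η : G ⟶ G'} (h : IsEqHom η) :
    IsEqHom η.toNatTrans := by
  obtain ⟨e, rfl⟩ := h
  exact ⟨_, Cat.Hom₂.eqToHom_toNatTrans e⟩

end

variable {𝒮 : Type u₁} [Category.{v₁} 𝒮] (F : 𝒮ᵒᵖ ⥤ Cat.{v₂, u₂})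

lemma eqToHom_as {C : Type*} [Category C] {a b : LocallyDiscrete C} (h : a = b) :
    (eqToHom h).as = eqToHom (congrArg LocallyDiscrete.as h) := by
  subst h
  rfl

lemma obj_eqToHom_heq {𝒮 : Type u₁} [Category.{v₁} 𝒮] (F : 𝒮ᵒᵖ ⥤ Cat.{v₂, u₂}) {A B : 𝒮ᵒᵖ}
    (h : A = B) (x : F.obj A) : HEq ((F.map (eqToHom h)).toFunctor.obj x) x := by
  subst h
  simp

lemma mapF {X Y : 𝒮ᵒᵖ} (m : LocallyDiscrete.mk X ⟶ LocallyDiscrete.mk Y) :
    F.toPseudofunctor'.map m = F.map m.as := rfl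

/-- morphisms of `∫ᶜ F` whose fibre component is an `eqToHom` -/
def IsEq {a b : ∫ᶜ F.toPseudofunctor'} (φ : a ⟶ b) : Prop := IsEqHom φ.fiber

lemma isEq_ext {a b : ∫ᶜ F.toPseudofunctor'} (φ ψ : a ⟶ b) (hb : φ.base = ψ.base)
    (h1 : IsEq F φ) (h2 : IsEq F ψ) : φ = ψ := by
  obtain ⟨e1, h1⟩ := h1
  obtain ⟨e2, h2⟩ := h2
  exact Hom.ext φ ψ hb (by rw [h1, h2, eqToHom_trans])

lemma eqToHom_base {a b : ∫ᶜ F.toPseudofunctor'} (h : a = b) :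
    (eqToHom h).base = eqToHom (congrArg CoGrothendieck.base h) := by
  subst h
  rfl

lemma isEq_id (a : ∫ᶜ F.toPseudofunctor') : IsEq F (𝟙 a) := by
  show IsEqHom ((F.toPseudofunctor'.mapId ⟨op a.base⟩).inv.toNatTrans.app a.fiber)
  apply IsEqHom.app
  apply IsEqHom.toNatTrans
  rw [Functor.toPseudofunctor'_mapId, eqToIso.inv]
  exact IsEqHom.eqToHom _

lemma isEq_eqToHom {a b : ∫ᶜ F.toPseudofunctor'} (h : a = b) : IsEq F (eqToHom h) := by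
  subst h
  exact isEq_id F a

lemma isEq_cartesianLift {R S : 𝒮} (x : F.toPseudofunctor'.obj ⟨op S⟩) (f : R ⟶ S) :
    IsEq F (cartesianLift x f) := IsEqHom.id _

lemma isEq_comp {a b c : ∫ᶜ F.toPseudofunctor'} (φ : a ⟶ b) (ψ : b ⟶ c)
    (h1 : IsEq F φ) (h2 : IsEq F ψ) : IsEq F (φ ≫ ψ) := by
  show IsEqHom (φ.fiber ≫ (F.toPseudofunctor'.map φ.base.op.toLoc).toFunctor.map ψ.fiber ≫
      (F.toPseudofunctor'.mapComp ψ.base.op.toLoc φ.base.op.toLoc).inv.toNatTrans.app c.fiber)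
  refine IsEqHom.comp h1 (IsEqHom.comp (IsEqHom.map _ h2) ?_)
  apply IsEqHom.app
  apply IsEqHom.toNatTrans
  rw [Functor.toPseudofunctor'_mapComp, eqToIso.inv]
  exact IsEqHom.eqToHom _

theorem isSplitting : (Cleavage.ofCoGrothendieck F.toPseudofunctor').IsSplitting := by
  refine ⟨?_, ?_⟩
  · intro S a ha
    obtain ⟨S', x⟩ := a
    change S' = S at ha
    subst ha
    have h : (Cleavage.ofCoGrothendieck F.toPseudofunctor').obj
        (rfl : (CoGrothendieck.forget F.toPseudofunctor').obj ⟨S', x⟩ = S') (𝟙 _)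
          = ⟨S', x⟩ := by
      dsimp only [Cleavage.ofCoGrothendieck, CoGrothendieck.forget_obj]
      simp [-Functor.toPseudofunctor'_map, mapF, eqToHom_as]
      exact obj_eqToHom_heq F _ x
    refine ⟨h, ?_⟩
    apply isEq_ext F
    · rw [eqToHom_base]
      simp [Cleavage.ofCoGrothendieck]
    · exact isEq_cartesianLift F _ _
    · exact isEq_eqToHom F h
  · intro S T U f g a ha
    obtain ⟨S', x⟩ := a
    change S' = S at ha
    subst ha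
    have h : (Cleavage.ofCoGrothendieck F.toPseudofunctor').obj
        ((Cleavage.ofCoGrothendieck F.toPseudofunctor').obj_proj
          (rfl : (CoGrothendieck.forget F.toPseudofunctor').obj ⟨S', x⟩ = S') f) g
        = (Cleavage.ofCoGrothendieck F.toPseudofunctor').obj
          (rfl : (CoGrothendieck.forget F.toPseudofunctor').obj ⟨S', x⟩ = S') (g ≫ f) := by
      dsimp only [Cleavage.ofCoGrothendieck, CoGrothendieck.forget_obj]
      simp [-Functor.toPseudofunctor'_map, mapF, eqToHom_as]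
    refine ⟨h, ?_⟩
    apply isEq_ext F
    · simp only [categoryStruct_comp_base, eqToHom_base]
      simp [Cleavage.ofCoGrothendieck]
    · exact isEq_comp F _ _ (isEq_cartesianLift F _ _) (isEq_cartesianLift F _ _)
    · exact isEq_comp F _ _ (isEq_eqToHom F h) (isEq_cartesianLift F _ _)

end Canonical

theorem main {𝒮 : Type u₁} [Category.{v₁} 𝒮] {𝒳 : Type u₂} [Category.{v₂} 𝒳]
    (p : 𝒳 ⥤ 𝒮) (F : 𝒮ᵒᵖ ⥤ Cat.{v₂, u₂})
    (Φ : 𝒳 ⥤ Pseudofunctor.CoGrothendieck F.toPseudofunctor')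
    (Ψ : Pseudofunctor.CoGrothendieck F.toPseudofunctor' ⥤ 𝒳)
    (h₁ : Φ ⋙ Ψ = 𝟭 𝒳) (h₂ : Ψ ⋙ Φ = 𝟭 _)
    (h₃ : Φ ⋙ Pseudofunctor.CoGrothendieck.forget F.toPseudofunctor' = p) :
    ∃ K : FibCat.Cleavage p, K.IsSplitting := by
  have hq : Pseudofunctor.CoGrothendieck.forget F.toPseudofunctor' = Ψ ⋙ p := by
    rw [← h₃, ← Functor.assoc, h₂, Functor.id_comp]
  exact transport p Φ Ψ h₁ h₂ _ hq (Cleavage.ofCoGrothendieck F.toPseudofunctor') (isSplitting F)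

end Groth.Agent.Helper29.SplitClv
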