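import Mathlib
import Groth.Prelude.Def_AlgSt
import Groth.Agent.Lib.Helper19.FibLib
import Groth.Agent.Lib.Helper29.StkPbA

/-!
# The 2-fibre product `C ×_D 𝒮` along a functor `u : C ⥤ D`: fibred in groupoids, decoding of descent
data and cocones (helper29)
-/

set_option autoImplicit false
set_option backward.isDefEq.respectTransparency false

universe v₃ u₃ v₂ u₂ v u

open CategoryTheory CategoryTheory.Limits

namespace Groth.Agent.Helper29.StkPbB

open FibCat Stk Groth.Agent.Helper19.FibLib Groth.Agent.Helper29.StkPbA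

variable {C : Type u} [Category.{v} C] {D : Type u₂} [Category.{v₂} D] (u : C ⥤ D)
  (𝒮 : BasedCategory.{v₃, u₃} D)

/-- the 2-fibre product `C ×_D 𝒮` as a category over `C`. -/
abbrev P : BasedCategory.{max v v₃, max u u₃ v₂} C :=
  BasedCategory.ofFunctor (CategoricalPullback.π₁ u 𝒮.p)

variable {u 𝒮}

theorem isFibGrpd_P (h𝒮 : IsFibGrpd 𝒮.p) : IsFibGrpd (P u 𝒮).p where
  exists_lift := by
    intro x V f
    have x' : CategoricalPullback u 𝒮.p := x
    obtain ⟨t, ψ, hψ⟩ := h𝒮.exists_lift (x := (x : CategoricalPullback u 𝒮.p).snd)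
      (u.map f ≫ (x : CategoricalPullback u 𝒮.p).iso.hom)
    have ht : 𝒮.p.obj t = u.obj V :=
      IsHomLift.domain_eq 𝒮.p (u.map f ≫ (x : CategoricalPullback u 𝒮.p).iso.hom) ψ
    let y : CategoricalPullback u 𝒮.p := ⟨V, t, eqToIso ht.symm⟩
    have hw : u.map f ≫ (x : CategoricalPullback u 𝒮.p).iso.hom = y.iso.hom ≫ 𝒮.p.map ψ := by
      have := IsHomLift.fac' 𝒮.p (u.map f ≫ (x : CategoricalPullback u 𝒮.p).iso.hom) ψ
      rw [this]
      simp [y]
    let φ : y ⟶ x := ⟨f, ψ, hw⟩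
    exact ⟨y, φ, IsHomLift.map (CategoricalPullback.π₁ u 𝒮.p) φ⟩
  isStronglyCartesian := by
    intro y x φ
    refine { toIsHomLift := IsHomLift.map _ φ, universal_property' := ?_ }
    intro z g φ' hφ'
    have hφ'' : (CategoricalPullback.π₁ u 𝒮.p).IsHomLift (g ≫ φ.fst) φ' := hφ'
    have e0 : g ≫ φ.fst = φ'.fst :=
      IsHomLift.eq_of_isHomLift (CategoricalPullback.π₁ u 𝒮.p) (g ≫ φ.fst) φ'
    have hf' : 𝒮.p.map φ'.snd =
        (z.iso.inv ≫ u.map g ≫ y.iso.hom) ≫ 𝒮.p.map φ.snd := by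
      have w1 := φ.w
      have w2 := φ'.w
      rw [Category.assoc, Category.assoc, ← w1, ← Category.assoc (u.map g), ← u.map_comp, e0, w2,
        Iso.inv_hom_id_assoc]
    have hl : 𝒮.p.IsHomLift (𝒮.p.map φ'.snd) φ'.snd := inferInstance
    obtain ⟨k, ⟨hk1, hk2⟩, hk3⟩ := existsUnique_fac h𝒮 (𝒮.p.map φ.snd) φ.snd
      (z.iso.inv ≫ u.map g ≫ y.iso.hom) (𝒮.p.map φ'.snd) hf' φ'.snd
    have ek : 𝒮.p.map k = z.iso.inv ≫ u.map g ≫ y.iso.hom :=
      (IsHomLift.eq_of_isHomLift 𝒮.p _ k).symm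
    let χ : z ⟶ y := ⟨g, k, by rw [ek]; simp⟩
    refine ⟨χ, ⟨IsHomLift.map (CategoricalPullback.π₁ u 𝒮.p) χ, ?_⟩, ?_⟩
    · apply CategoricalPullback.hom_ext
      · exact e0
      · exact hk2
    · rintro χ' ⟨h1, h2⟩
      have h1' : (CategoricalPullback.π₁ u 𝒮.p).IsHomLift g χ' := h1
      have e1 : g = χ'.fst := IsHomLift.eq_of_isHomLift (CategoricalPullback.π₁ u 𝒮.p) g χ'
      have e2 : 𝒮.p.map χ'.snd = z.iso.inv ≫ u.map g ≫ y.iso.hom := by
        have := χ'.w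
        rw [e1, this, Iso.inv_hom_id_assoc]
      have hl' : 𝒮.p.IsHomLift (z.iso.inv ≫ u.map g ≫ y.iso.hom) χ'.snd := by
        rw [← e2]; infer_instance
      have e3 : χ'.snd ≫ φ.snd = φ'.snd := by
        have := congrArg (fun ξ : z ⟶ x => ξ.snd) h2
        exact this
      apply CategoricalPullback.hom_ext
      · exact e1.symm
      · exact hk3 χ'.snd ⟨hl', e3⟩

section Decode

variable {U : C} {R : Sieve U} (Ψ : sieveCat R ⥤ᵇ P u 𝒮)

/-- the `𝒮`-component of a descent datum. -/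
def sA (a : (sieveCat R).obj) : 𝒮.obj := (Ψ.obj a : CategoricalPullback u 𝒮.p).snd

theorem fst_eq (a : (sieveCat R).obj) : (Ψ.obj a : CategoricalPullback u 𝒮.p).fst = a.obj.left :=
  Ψ.w_obj a

/-- the structural isomorphism of a descent datum. -/
def φA (a : (sieveCat R).obj) : u.obj a.obj.left ≅ 𝒮.p.obj (sA Ψ a) :=
  eqToIso (congrArg u.obj (fst_eq Ψ a).symm) ≪≫ (Ψ.obj a : CategoricalPullback u 𝒮.p).iso

/-- the transition morphisms of a descent datum. -/
def gA {a a' : (sieveCat R).obj} (n : a ⟶ a') : sA Ψ a ⟶ sA Ψ a' :=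
  CategoricalPullback.Hom.snd (Ψ.map n)

theorem gA_id (a : (sieveCat R).obj) : gA Ψ (𝟙 a) = 𝟙 (sA Ψ a) := by
  unfold gA
  have : Ψ.map (𝟙 a) = 𝟙 _ := Ψ.toFunctor.map_id a
  rw [this]
  rfl

theorem gA_comp {a a' a'' : (sieveCat R).obj} (n : a ⟶ a') (n' : a' ⟶ a'') :
    gA Ψ (n ≫ n') = gA Ψ n ≫ gA Ψ n' := by
  unfold gA
  have : Ψ.map (n ≫ n') = Ψ.map n ≫ Ψ.map n' := Ψ.toFunctor.map_comp n n'
  rw [this]
  rfl

theorem map_fst {a a' : (sieveCat R).obj} (n : a ⟶ a') :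
    CategoricalPullback.Hom.fst (Ψ.map n) =
      eqToHom (fst_eq Ψ a) ≫ n.hom.left ≫ eqToHom (fst_eq Ψ a').symm := by
  have hl := isHomLift_map_sieve Ψ n
  exact IsHomLift.fac' (P u 𝒮).p n.hom.left (Ψ.map n)

theorem φA_gA {a a' : (sieveCat R).obj} (n : a ⟶ a') :
    (φA Ψ a).hom ≫ 𝒮.p.map (gA Ψ n) = u.map n.hom.left ≫ (φA Ψ a').hom := by
  have h2 := CategoricalPullback.Hom.w (Ψ.map n)
  unfold φA gA
  simp only [Iso.trans_hom, eqToIso.hom, Category.assoc]
  rw [← h2, map_fst Ψ n]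
  simp [eqToHom_map]

/-- a cocone of the decoded datum on an object `t` of `𝒮` over `u U`. -/
structure UCocone (t : 𝒮.obj) where
  base : 𝒮.p.obj t = u.obj U
  mu : ∀ a : (sieveCat R).obj, sA Ψ a ⟶ t
  lift : ∀ a : (sieveCat R).obj, 𝒮.p.IsHomLift ((φA Ψ a).inv ≫ u.map a.obj.hom) (mu a)
  nat : ∀ {a a' : (sieveCat R).obj} (n : a ⟶ a'), gA Ψ n ≫ mu a' = mu a

/-- a cocone of the decoded datum on an object `t` of `𝒮` with an isomorphism `u U ≅ p t`. -/
structure ICocone (t : 𝒮.obj) where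
  tau : u.obj U ≅ 𝒮.p.obj t
  mu : ∀ a : (sieveCat R).obj, sA Ψ a ⟶ t
  compat : ∀ a : (sieveCat R).obj, (φA Ψ a).hom ≫ 𝒮.p.map (mu a) = u.map a.obj.hom ≫ tau.hom
  nat : ∀ {a a' : (sieveCat R).obj} (n : a ⟶ a'), gA Ψ n ≫ mu a' = mu a

variable {Ψ}

theorem lam_fst {x : (P u 𝒮).obj} (c : Cocone Ψ x) (a : (sieveCat R).obj) :
    CategoricalPullback.Hom.fst (c.lam a) =
      eqToHom (fst_eq Ψ a) ≫ a.obj.hom ≫ eqToHom c.base.symm := by
  have hl := c.lift a
  exact IsHomLift.fac' (P u 𝒮).p a.obj.hom (c.lam a)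

/-- decode a cocone in `C ×_D 𝒮`. -/
def ICocone.ofCocone {x : (P u 𝒮).obj} (c : Cocone Ψ x) :
    ICocone Ψ (x : CategoricalPullback u 𝒮.p).snd where
  tau := eqToIso (congrArg u.obj c.base.symm) ≪≫ (x : CategoricalPullback u 𝒮.p).iso
  mu a := CategoricalPullback.Hom.snd (c.lam a)
  compat a := by
    have h2 := CategoricalPullback.Hom.w (c.lam a)
    unfold φA
    simp only [Iso.trans_hom, eqToIso.hom, Category.assoc]
    change _ ≫ _ ≫ 𝒮.p.map (CategoricalPullback.Hom.snd (c.lam a)) = _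
    rw [← h2, lam_fst c a]
    simp [eqToHom_map]
  nat {a a'} n := by
    have := congrArg (fun ξ : Ψ.obj a ⟶ x => CategoricalPullback.Hom.snd ξ) (c.nat n)
    exact this

/-- encode a strict cocone as a cocone in `C ×_D 𝒮`. -/
def UCocone.toCocone {t : 𝒮.obj} (cu : UCocone Ψ t) :
    Cocone Ψ (⟨U, t, eqToIso cu.base.symm⟩ : CategoricalPullback u 𝒮.p) where
  base := rfl
  lam a :=
    { fst := eqToHom (fst_eq Ψ a) ≫ a.obj.hom
      snd := cu.mu a
      w := by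
        have hl := cu.lift a
        have := IsHomLift.fac' 𝒮.p ((φA Ψ a).inv ≫ u.map a.obj.hom) (cu.mu a)
        rw [this]
        simp [φA, eqToHom_map] }
  lift a := by
    apply IsHomLift.of_fac' _ _ _ (fst_eq Ψ a) rfl
    simp
    rfl
  nat {a a'} n := by
    apply CategoricalPullback.hom_ext
    · change CategoricalPullback.Hom.fst (Ψ.map n) ≫ eqToHom (fst_eq Ψ a') ≫ a'.obj.hom =
        eqToHom (fst_eq Ψ a) ≫ a.obj.hom
      rw [map_fst Ψ n]
      have := Over.w n.hom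
      simp [this]
    · exact cu.nat n

/-- strictify a cocone along a lift of its structural isomorphism. -/
noncomputable def ICocone.toU (h𝒮 : IsFibGrpd 𝒮.p) {t t' : 𝒮.obj} (ic : ICocone Ψ t) (ρ : t' ⟶ t)
    [hρ : 𝒮.p.IsHomLift ic.tau.hom ρ] : UCocone Ψ t' :=
  haveI : IsIso ρ := isIso_of_isHomLift h𝒮 ic.tau.hom ρ
  { base := IsHomLift.domain_eq 𝒮.p ic.tau.hom ρ
    mu := fun a => ic.mu a ≫ inv ρ
    lift := fun a => by
      have h1 : 𝒮.p.IsHomLift (𝒮.p.map (ic.mu a) ≫ inv ic.tau.hom) (ic.mu a ≫ inv ρ) := inferInstance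
      have e : 𝒮.p.map (ic.mu a) ≫ inv ic.tau.hom = (φA Ψ a).inv ≫ u.map a.obj.hom := by
        rw [IsIso.comp_inv_eq, Category.assoc, ← ic.compat a, Iso.inv_hom_id_assoc]
      exact isHomLift_congr 𝒮.p e _
    nat := fun {a a'} n => by
      rw [← Category.assoc, ic.nat n] }

theorem ICocone.toU_mu (h𝒮 : IsFibGrpd 𝒮.p) {t t' : 𝒮.obj} (ic : ICocone Ψ t) (ρ : t' ⟶ t)
    [hρ : 𝒮.p.IsHomLift ic.tau.hom ρ] (a : (sieveCat R).obj) :
    (ic.toU h𝒮 ρ).mu a ≫ ρ = ic.mu a := by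
  haveI : IsIso ρ := isIso_of_isHomLift h𝒮 ic.tau.hom ρ
  change (ic.mu a ≫ inv ρ) ≫ ρ = ic.mu a
  simp

/-- uniqueness of comparison morphisms in `C ×_D 𝒮` from the corresponding statement in `𝒮`. -/
theorem existsUnique_of_snd {x x' : (P u 𝒮).obj} (c : Cocone Ψ x) (c' : Cocone Ψ x')
    (h : ∃! h₂ : (x : CategoricalPullback u 𝒮.p).snd ⟶ (x' : CategoricalPullback u 𝒮.p).snd,
      𝒮.p.map h₂ = (ICocone.ofCocone c).tau.inv ≫ (ICocone.ofCocone c').tau.hom ∧
        ∀ a, (ICocone.ofCocone c).mu a ≫ h₂ = (ICocone.ofCocone c').mu a) :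
    ∃! h : x ⟶ x', (P u 𝒮).p.IsHomLift (𝟙 U) h ∧ ∀ a, c.lam a ≫ h = c'.lam a := by
  obtain ⟨h₂, ⟨e1, e2⟩, huniq⟩ := h
  have hb : (x : CategoricalPullback u 𝒮.p).fst = (x' : CategoricalPullback u 𝒮.p).fst :=
    c.base.trans c'.base.symm
  let h : x ⟶ x' :=
    { fst := eqToHom hb
      snd := h₂
      w := by
        rw [e1]
        simp [ICocone.ofCocone, eqToHom_map] }
  have hlift : (P u 𝒮).p.IsHomLift (𝟙 U) h := by
    apply IsHomLift.of_fac' _ _ _ c.base c'.base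
    change eqToHom hb = _
    simp
  refine ⟨h, ⟨hlift, fun a => ?_⟩, ?_⟩
  · apply CategoricalPullback.hom_ext
    · change CategoricalPullback.Hom.fst (c.lam a) ≫ eqToHom hb = CategoricalPullback.Hom.fst (c'.lam a)
      rw [lam_fst c a, lam_fst c' a]
      simp
    · exact e2 a
  · rintro h' ⟨hl', hh'⟩
    have ef : CategoricalPullback.Hom.fst h' = eqToHom hb := by
      have := IsHomLift.fac' (P u 𝒮).p (𝟙 U) h'
      change CategoricalPullback.Hom.fst h' = _ at this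
      rw [this]
      simp
    have es : CategoricalPullback.Hom.snd h' = h₂ := by
      apply huniq
      refine ⟨?_, fun a => ?_⟩
      · have w := CategoricalPullback.Hom.w h'
        rw [ef] at w
        simp only [ICocone.ofCocone, Iso.trans_inv, Iso.trans_hom, eqToIso.hom, eqToIso.inv,
          Category.assoc]
        rw [← cancel_epi (x : CategoricalPullback u 𝒮.p).iso.hom, ← w]
        simp [eqToHom_map]
      · have := congrArg (fun ξ : Ψ.obj a ⟶ x' => CategoricalPullback.Hom.snd ξ) (hh' a)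
        exact this
    apply CategoricalPullback.hom_ext
    · exact ef
    · exact es

end Decode

end Groth.Agent.Helper29.StkPbB
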