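import Mathlib
import Groth.Prelude.Def_AlgSt
import Groth.Agent.Lib.Helper19.FibLib
import Groth.Agent.Lib.Helper29.StkPbA
import Groth.Agent.Lib.Helper29.StkPbB

/-!
# Extending a descent datum relative to `u : C ⥤ D` from a sieve to its pushforward (helper29)
-/

set_option autoImplicit false
set_option backward.isDefEq.respectTransparency false

universe v₃ u₃ v₂ u₂ v u

open CategoryTheory CategoryTheory.Limits

namespace Groth.Agent.Helper29.StkPbC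

open FibCat Stk Groth.Agent.Helper19.FibLib Groth.Agent.Helper29.StkPbA Groth.Agent.Helper29.StkPbB

variable {C : Type u} [Category.{v} C] {D : Type u₂} [Category.{v₂} D] {u : C ⥤ D}
  {𝒮 : BasedCategory.{v₃, u₃} D} {U : C} {R : Sieve U}

section SieveCat

/-- an object of the sieve category. -/
def mkObj (R : Sieve U) {V : C} (g : V ⟶ U) (hg : R g) : (sieveCat R).obj := ⟨Over.mk g, hg⟩

@[simp] theorem mkObj_left (R : Sieve U) {V : C} (g : V ⟶ U) (hg : R g) :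
    (mkObj R g hg).obj.left = V := rfl

@[simp] theorem mkObj_hom (R : Sieve U) {V : C} (g : V ⟶ U) (hg : R g) :
    (mkObj R g hg).obj.hom = g := rfl

/-- a morphism of the sieve category. -/
def mkHom {a b : (sieveCat R).obj} (f : a.obj.left ⟶ b.obj.left) (w : f ≫ b.obj.hom = a.obj.hom) :
    a ⟶ b := ObjectProperty.homMk (Over.homMk f w)

@[simp] theorem mkHom_left {a b : (sieveCat R).obj} (f : a.obj.left ⟶ b.obj.left)
    (w : f ≫ b.obj.hom = a.obj.hom) : (mkHom f w).hom.left = f := rfl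

theorem hom_ext' {a b : (sieveCat R).obj} {n n' : a ⟶ b} (h : n.hom.left = n'.hom.left) : n = n' := by
  apply ObjectProperty.hom_ext
  apply Over.OverMorphism.ext
  exact h

theorem comp_left {a b c : (sieveCat R).obj} (n : a ⟶ b) (n' : b ⟶ c) :
    (n ≫ n').hom.left = n.hom.left ≫ n'.hom.left := rfl

theorem id_left (a : (sieveCat R).obj) : (𝟙 a : a ⟶ a).hom.left = 𝟙 a.obj.left := rfl

theorem hom_w {a b : (sieveCat R).obj} (n : a ⟶ b) : n.hom.left ≫ b.obj.hom = a.obj.hom :=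
  Over.w n.hom

end SieveCat

/-- a presentation of an arrow `w : W ⟶ u U` as factoring through `u` of an arrow of the sieve. -/
structure Pres (R : Sieve U) (u : C ⥤ D) (W : D) (w : W ⟶ u.obj U) where
  a : (sieveCat R).obj
  h : W ⟶ u.obj a.obj.left
  fac : h ≫ u.map a.obj.hom = w

variable (h𝒮 : IsFibGrpd 𝒮.p) (Ψ : sieveCat R ⥤ᵇ P u 𝒮)

section E

variable {W : D} {w : W ⟶ u.obj U} (π : Pres R u W w)

include h𝒮 in
theorem exists_E : ∃ (y : 𝒮.obj) (l : y ⟶ sA Ψ π.a), 𝒮.p.IsHomLift (π.h ≫ (φA Ψ π.a).hom) l :=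
  h𝒮.exists_lift _

/-- the chosen pullback attached to a presentation. -/
noncomputable def E : 𝒮.obj := (exists_E h𝒮 Ψ π).choose

/-- the chosen cartesian arrow attached to a presentation. -/
noncomputable def lamE : E h𝒮 Ψ π ⟶ sA Ψ π.a := (exists_E h𝒮 Ψ π).choose_spec.choose

theorem lamE_lift : 𝒮.p.IsHomLift (π.h ≫ (φA Ψ π.a).hom) (lamE h𝒮 Ψ π) :=
  (exists_E h𝒮 Ψ π).choose_spec.choose_spec

theorem E_base : 𝒮.p.obj (E h𝒮 Ψ π) = W := by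
  have := lamE_lift h𝒮 Ψ π
  exact IsHomLift.domain_eq 𝒮.p (π.h ≫ (φA Ψ π.a).hom) (lamE h𝒮 Ψ π)

theorem existsUnique_theta (a'' : (sieveCat R).obj) (n₁ : a'' ⟶ π.a)
    (k : W ⟶ u.obj a''.obj.left) (hk : k ≫ u.map n₁.hom.left = π.h) :
    ∃! θ : E h𝒮 Ψ π ⟶ sA Ψ a'', 𝒮.p.IsHomLift (k ≫ (φA Ψ a'').hom) θ ∧
      θ ≫ gA Ψ n₁ = lamE h𝒮 Ψ π := by
  have := lamE_lift h𝒮 Ψ π
  have hf' : π.h ≫ (φA Ψ π.a).hom = (k ≫ (φA Ψ a'').hom) ≫ 𝒮.p.map (gA Ψ n₁) := by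
    rw [Category.assoc, φA_gA, ← Category.assoc, hk]
  exact existsUnique_fac h𝒮 (𝒮.p.map (gA Ψ n₁)) (gA Ψ n₁) (k ≫ (φA Ψ a'').hom)
    (π.h ≫ (φA Ψ π.a).hom) hf' (lamE h𝒮 Ψ π)

end E

section Wit

variable {W W' : D} {w : W ⟶ u.obj U} {w' : W' ⟶ u.obj U}

/-- a witness for the comparison of two presentations along `m`. -/
structure Wit (π : Pres R u W w) (π' : Pres R u W' w') (m : W ⟶ W') where
  a : (sieveCat R).obj
  n₁ : a ⟶ π.a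
  n₂ : a ⟶ π'.a
  k : W ⟶ u.obj a.obj.left
  hk₁ : k ≫ u.map n₁.hom.left = π.h
  hk₂ : k ≫ u.map n₂.hom.left = m ≫ π'.h

variable {π : Pres R u W w} {π' : Pres R u W' w'} {m : W ⟶ W'}

/-- the arrow to the datum at the witness. -/
noncomputable def Wit.theta (wit : Wit π π' m) : E h𝒮 Ψ π ⟶ sA Ψ wit.a :=
  (existsUnique_theta h𝒮 Ψ π wit.a wit.n₁ wit.k wit.hk₁).choose

theorem Wit.theta_lift (wit : Wit π π' m) :
    𝒮.p.IsHomLift (wit.k ≫ (φA Ψ wit.a).hom) (wit.theta h𝒮 Ψ) :=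
  (existsUnique_theta h𝒮 Ψ π wit.a wit.n₁ wit.k wit.hk₁).choose_spec.1.1

theorem Wit.theta_fac (wit : Wit π π' m) : wit.theta h𝒮 Ψ ≫ gA Ψ wit.n₁ = lamE h𝒮 Ψ π :=
  (existsUnique_theta h𝒮 Ψ π wit.a wit.n₁ wit.k wit.hk₁).choose_spec.1.2

theorem Wit.theta_uniq (wit : Wit π π' m) (θ : E h𝒮 Ψ π ⟶ sA Ψ wit.a)
    (h1 : 𝒮.p.IsHomLift (wit.k ≫ (φA Ψ wit.a).hom) θ) (h2 : θ ≫ gA Ψ wit.n₁ = lamE h𝒮 Ψ π) :
    θ = wit.theta h𝒮 Ψ :=
  (existsUnique_theta h𝒮 Ψ π wit.a wit.n₁ wit.k wit.hk₁).choose_spec.2 θ ⟨h1, h2⟩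

/-- the composite `E π ⟶ s_{π'.a}` determined by a witness. -/
noncomputable def Wit.out (wit : Wit π π' m) : E h𝒮 Ψ π ⟶ sA Ψ π'.a :=
  wit.theta h𝒮 Ψ ≫ gA Ψ wit.n₂

theorem Wit.out_lift (wit : Wit π π' m) :
    𝒮.p.IsHomLift (m ≫ π'.h ≫ (φA Ψ π'.a).hom) (wit.out h𝒮 Ψ) := by
  have := wit.theta_lift h𝒮 Ψ
  have h1 : 𝒮.p.IsHomLift ((wit.k ≫ (φA Ψ wit.a).hom) ≫ 𝒮.p.map (gA Ψ wit.n₂))
      (wit.theta h𝒮 Ψ ≫ gA Ψ wit.n₂) := inferInstance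
  have e : (wit.k ≫ (φA Ψ wit.a).hom) ≫ 𝒮.p.map (gA Ψ wit.n₂) = m ≫ π'.h ≫ (φA Ψ π'.a).hom := by
    rw [Category.assoc, φA_gA, ← Category.assoc, wit.hk₂, Category.assoc]
  exact isHomLift_congr 𝒮.p e (wit.theta h𝒮 Ψ ≫ gA Ψ wit.n₂)

/-- a morphism of witnesses does not change the output. -/
theorem Wit.out_eq_of_map (wit wit' : Wit π π' m) (n : wit.a ⟶ wit'.a)
    (h1 : n ≫ wit'.n₁ = wit.n₁) (h2 : n ≫ wit'.n₂ = wit.n₂)
    (hk : wit.k ≫ u.map n.hom.left = wit'.k) : wit.out h𝒮 Ψ = wit'.out h𝒮 Ψ := by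
  have e : wit.theta h𝒮 Ψ ≫ gA Ψ n = wit'.theta h𝒮 Ψ := by
    apply wit'.theta_uniq h𝒮 Ψ
    · have := wit.theta_lift h𝒮 Ψ
      have h1 : 𝒮.p.IsHomLift ((wit.k ≫ (φA Ψ wit.a).hom) ≫ 𝒮.p.map (gA Ψ n))
          (wit.theta h𝒮 Ψ ≫ gA Ψ n) := inferInstance
      have e : (wit.k ≫ (φA Ψ wit.a).hom) ≫ 𝒮.p.map (gA Ψ n) = wit'.k ≫ (φA Ψ wit'.a).hom := by
        rw [Category.assoc, φA_gA, ← Category.assoc, hk]
      exact isHomLift_congr 𝒮.p e _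
    · rw [Category.assoc, ← gA_comp, h1, wit.theta_fac]
  unfold Wit.out
  rw [← e, Category.assoc, ← gA_comp, h2]

end Wit

section Prod

variable [HasPullbacks C] [PreservesLimitsOfShape WalkingCospan u]
variable {W W' : D} {w : W ⟶ u.obj U} {w' : W' ⟶ u.obj U}

/-- the fibre product of two objects of the sieve category. -/
noncomputable def prodObj (a a' : (sieveCat R).obj) : (sieveCat R).obj :=
  mkObj R (pullback.fst a.obj.hom a'.obj.hom ≫ a.obj.hom) (R.downward_closed a.property _)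

/-- first projection. -/
noncomputable def prodFst (a a' : (sieveCat R).obj) : prodObj a a' ⟶ a :=
  mkHom (pullback.fst a.obj.hom a'.obj.hom) rfl

/-- second projection. -/
noncomputable def prodSnd (a a' : (sieveCat R).obj) : prodObj a a' ⟶ a' :=
  mkHom (pullback.snd a.obj.hom a'.obj.hom) pullback.condition.symm

theorem isPullback_map (a a' : (sieveCat R).obj) :
    IsPullback (u.map (pullback.fst a.obj.hom a'.obj.hom)) (u.map (pullback.snd a.obj.hom a'.obj.hom))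
      (u.map a.obj.hom) (u.map a'.obj.hom) :=
  (IsPullback.of_hasPullback a.obj.hom a'.obj.hom).map u

/-- a morphism into the fibre product. -/
noncomputable def prodLift {a a' b : (sieveCat R).obj} (n₁ : b ⟶ a) (n₂ : b ⟶ a') : b ⟶ prodObj a a' :=
  mkHom (pullback.lift n₁.hom.left n₂.hom.left (by rw [hom_w, hom_w])) (by
    change pullback.lift _ _ _ ≫ pullback.fst _ _ ≫ _ = _
    rw [pullback.lift_fst_assoc, hom_w])

theorem prodLift_fst {a a' b : (sieveCat R).obj} (n₁ : b ⟶ a) (n₂ : b ⟶ a') :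
    prodLift n₁ n₂ ≫ prodFst a a' = n₁ := by
  apply hom_ext'
  change pullback.lift _ _ _ ≫ pullback.fst _ _ = _
  rw [pullback.lift_fst]

theorem prodLift_snd {a a' b : (sieveCat R).obj} (n₁ : b ⟶ a) (n₂ : b ⟶ a') :
    prodLift n₁ n₂ ≫ prodSnd a a' = n₂ := by
  apply hom_ext'
  change pullback.lift _ _ _ ≫ pullback.snd _ _ = _
  rw [pullback.lift_snd]

/-- the canonical witness given by the fibre product. -/
noncomputable def prodWit (π : Pres R u W w) (π' : Pres R u W' w') (m : W ⟶ W') (hm : m ≫ w' = w) :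
    Wit π π' m where
  a := prodObj π.a π'.a
  n₁ := prodFst π.a π'.a
  n₂ := prodSnd π.a π'.a
  k := (isPullback_map π.a π'.a).lift π.h (m ≫ π'.h) (by
    rw [π.fac, Category.assoc, π'.fac, hm])
  hk₁ := (isPullback_map π.a π'.a).lift_fst _ _ _
  hk₂ := (isPullback_map π.a π'.a).lift_snd _ _ _

/-- every witness has the same output as the canonical one. -/
theorem Wit.out_eq_prod {π : Pres R u W w} {π' : Pres R u W' w'} {m : W ⟶ W'} (hm : m ≫ w' = w)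
    (wit : Wit π π' m) : wit.out h𝒮 Ψ = (prodWit π π' m hm).out h𝒮 Ψ := by
  apply Wit.out_eq_of_map h𝒮 Ψ wit (prodWit π π' m hm) (prodLift wit.n₁ wit.n₂)
    (prodLift_fst _ _) (prodLift_snd _ _)
  apply (isPullback_map π.a π'.a).hom_ext
  · have e1 : (prodWit π π' m hm).k ≫ u.map (pullback.fst π.a.obj.hom π'.a.obj.hom) = π.h :=
      (prodWit π π' m hm).hk₁
    rw [e1, Category.assoc, ← u.map_comp]
    have : (prodLift wit.n₁ wit.n₂).hom.left ≫ pullback.fst π.a.obj.hom π'.a.obj.hom =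
        wit.n₁.hom.left := congrArg (fun n => n.hom.left) (prodLift_fst wit.n₁ wit.n₂)
    rw [this, wit.hk₁]
  · have e1 : (prodWit π π' m hm).k ≫ u.map (pullback.snd π.a.obj.hom π'.a.obj.hom) = m ≫ π'.h :=
      (prodWit π π' m hm).hk₂
    rw [e1, Category.assoc, ← u.map_comp]
    have : (prodLift wit.n₁ wit.n₂).hom.left ≫ pullback.snd π.a.obj.hom π'.a.obj.hom =
        wit.n₂.hom.left := congrArg (fun n => n.hom.left) (prodLift_snd wit.n₁ wit.n₂)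
    rw [this, wit.hk₂]

end Prod

section Rel

variable {W W' : D} {w : W ⟶ u.obj U} {w' : W' ⟶ u.obj U}

/-- the comparison relation: `χ` is the transition morphism between the chosen pullbacks. -/
def Rel (π : Pres R u W w) (π' : Pres R u W' w') (m : W ⟶ W') (χ : E h𝒮 Ψ π ⟶ E h𝒮 Ψ π') : Prop :=
  𝒮.p.IsHomLift m χ ∧ ∃ wit : Wit π π' m, wit.out h𝒮 Ψ = χ ≫ lamE h𝒮 Ψ π'

variable {π : Pres R u W w} {π' : Pres R u W' w'} {m : W ⟶ W'}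

theorem exists_chi (wit : Wit π π' m) :
    ∃ χ : E h𝒮 Ψ π ⟶ E h𝒮 Ψ π', 𝒮.p.IsHomLift m χ ∧ wit.out h𝒮 Ψ = χ ≫ lamE h𝒮 Ψ π' := by
  have := lamE_lift h𝒮 Ψ π'
  have := wit.out_lift h𝒮 Ψ
  obtain ⟨χ, ⟨h1, h2⟩, -⟩ := existsUnique_fac h𝒮 (π'.h ≫ (φA Ψ π'.a).hom) (lamE h𝒮 Ψ π') m
    (m ≫ π'.h ≫ (φA Ψ π'.a).hom) rfl (wit.out h𝒮 Ψ)
  exact ⟨χ, h1, h2.symm⟩

theorem Rel.unique [HasPullbacks C] [PreservesLimitsOfShape WalkingCospan u] (hm : m ≫ w' = w)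
    {χ χ' : E h𝒮 Ψ π ⟶ E h𝒮 Ψ π'} (h : Rel h𝒮 Ψ π π' m χ) (h' : Rel h𝒮 Ψ π π' m χ') : χ = χ' := by
  obtain ⟨l, wit, e⟩ := h
  obtain ⟨l', wit', e'⟩ := h'
  have := lamE_lift h𝒮 Ψ π'
  apply hom_ext_of_comp_eq h𝒮 (π'.h ≫ (φA Ψ π'.a).hom) (lamE h𝒮 Ψ π') m
  rw [← e, ← e', wit.out_eq_prod h𝒮 Ψ hm, wit'.out_eq_prod h𝒮 Ψ hm]

theorem Rel.exists [HasPullbacks C] [PreservesLimitsOfShape WalkingCospan u] (π : Pres R u W w)
    (π' : Pres R u W' w') (m : W ⟶ W') (hm : m ≫ w' = w) :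
    ∃ χ : E h𝒮 Ψ π ⟶ E h𝒮 Ψ π', Rel h𝒮 Ψ π π' m χ := by
  obtain ⟨χ, h1, h2⟩ := exists_chi h𝒮 Ψ (prodWit π π' m hm)
  exact ⟨χ, h1, prodWit π π' m hm, h2⟩

theorem Rel.id (π : Pres R u W w) : Rel h𝒮 Ψ π π (𝟙 W) (𝟙 (E h𝒮 Ψ π)) := by
  refine ⟨IsHomLift.id (E_base h𝒮 Ψ π), ?_⟩
  let wit : Wit π π (𝟙 W) :=
    { a := π.a
      n₁ := 𝟙 π.a
      n₂ := 𝟙 π.a
      k := π.h
      hk₁ := by rw [id_left, u.map_id, Category.comp_id]
      hk₂ := by rw [id_left, u.map_id, Category.comp_id, Category.id_comp] }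
  refine ⟨wit, ?_⟩
  have e : lamE h𝒮 Ψ π = wit.theta h𝒮 Ψ := by
    apply wit.theta_uniq h𝒮 Ψ
    · exact lamE_lift h𝒮 Ψ π
    · change lamE h𝒮 Ψ π ≫ gA Ψ (𝟙 π.a) = _
      rw [gA_id, Category.comp_id]
  unfold Wit.out
  rw [← e]
  change lamE h𝒮 Ψ π ≫ gA Ψ (𝟙 π.a) = _
  rw [gA_id, Category.comp_id, Category.id_comp]

end Rel

section Comp

variable [HasPullbacks C] [PreservesLimitsOfShape WalkingCospan u]
variable {W W' W'' : D} {w : W ⟶ u.obj U} {w' : W' ⟶ u.obj U} {w'' : W'' ⟶ u.obj U}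
variable {π : Pres R u W w} {π' : Pres R u W' w'} {π'' : Pres R u W'' w''} {m : W ⟶ W'} {m' : W' ⟶ W''}

theorem Rel.comp {χ : E h𝒮 Ψ π ⟶ E h𝒮 Ψ π'} {χ' : E h𝒮 Ψ π' ⟶ E h𝒮 Ψ π''}
    (h : Rel h𝒮 Ψ π π' m χ) (h' : Rel h𝒮 Ψ π' π'' m' χ') : Rel h𝒮 Ψ π π'' (m ≫ m') (χ ≫ χ') := by
  obtain ⟨l, wit₁, e⟩ := h
  obtain ⟨l', wit₂, e'⟩ := h'
  refine ⟨inferInstance, ?_⟩
  -- the fibre product of the two witnesses over `π'.a`
  let a₃ : (sieveCat R).obj := mkObj R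
    (pullback.fst wit₁.n₂.hom.left wit₂.n₁.hom.left ≫ wit₁.a.obj.hom)
    (R.downward_closed wit₁.a.property _)
  let p₁ : a₃ ⟶ wit₁.a := mkHom (pullback.fst wit₁.n₂.hom.left wit₂.n₁.hom.left) rfl
  let p₂ : a₃ ⟶ wit₂.a := mkHom (pullback.snd wit₁.n₂.hom.left wit₂.n₁.hom.left) (by
    change pullback.snd _ _ ≫ wit₂.a.obj.hom = pullback.fst _ _ ≫ wit₁.a.obj.hom
    rw [← hom_w wit₂.n₁, ← hom_w wit₁.n₂, ← Category.assoc, ← Category.assoc, pullback.condition])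
  have hp : p₁ ≫ wit₁.n₂ = p₂ ≫ wit₂.n₁ := by
    apply hom_ext'
    exact pullback.condition
  have hP : IsPullback (u.map (pullback.fst wit₁.n₂.hom.left wit₂.n₁.hom.left))
      (u.map (pullback.snd wit₁.n₂.hom.left wit₂.n₁.hom.left))
      (u.map wit₁.n₂.hom.left) (u.map wit₂.n₁.hom.left) :=
    (IsPullback.of_hasPullback wit₁.n₂.hom.left wit₂.n₁.hom.left).map u
  have hcond : wit₁.k ≫ u.map wit₁.n₂.hom.left = (m ≫ wit₂.k) ≫ u.map wit₂.n₁.hom.left := by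
    rw [wit₁.hk₂, Category.assoc, wit₂.hk₁]
  let wit₃ : Wit π π'' (m ≫ m') :=
    { a := a₃
      n₁ := p₁ ≫ wit₁.n₁
      n₂ := p₂ ≫ wit₂.n₂
      k := hP.lift wit₁.k (m ≫ wit₂.k) hcond
      hk₁ := by
        rw [comp_left, u.map_comp, ← Category.assoc]
        have : hP.lift wit₁.k (m ≫ wit₂.k) hcond ≫ u.map p₁.hom.left = wit₁.k := hP.lift_fst _ _ _
        rw [this, wit₁.hk₁]
      hk₂ := by
        rw [comp_left, u.map_comp, ← Category.assoc]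
        have : hP.lift wit₁.k (m ≫ wit₂.k) hcond ≫ u.map p₂.hom.left = m ≫ wit₂.k := hP.lift_snd _ _ _
        rw [this, Category.assoc, wit₂.hk₂, Category.assoc] }
  refine ⟨wit₃, ?_⟩
  have hk3₁ : wit₃.k ≫ u.map p₁.hom.left = wit₁.k := hP.lift_fst _ _ _
  have hk3₂ : wit₃.k ≫ u.map p₂.hom.left = m ≫ wit₂.k := hP.lift_snd _ _ _
  have l3 := wit₃.theta_lift h𝒮 Ψ
  -- `θ₃ ≫ g_{p₁} = θ₁`
  have e1 : wit₃.theta h𝒮 Ψ ≫ gA Ψ p₁ = wit₁.theta h𝒮 Ψ := by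
    apply wit₁.theta_uniq h𝒮 Ψ
    · have h1 : 𝒮.p.IsHomLift ((wit₃.k ≫ (φA Ψ wit₃.a).hom) ≫ 𝒮.p.map (gA Ψ p₁))
          (wit₃.theta h𝒮 Ψ ≫ gA Ψ p₁) := inferInstance
      have e : (wit₃.k ≫ (φA Ψ wit₃.a).hom) ≫ 𝒮.p.map (gA Ψ p₁) = wit₁.k ≫ (φA Ψ wit₁.a).hom := by
        rw [Category.assoc, φA_gA, ← Category.assoc, hk3₁]
      exact isHomLift_congr 𝒮.p e _
    · rw [Category.assoc, ← gA_comp]
      exact wit₃.theta_fac h𝒮 Ψ
  -- `θ₃ ≫ g_{p₂} = χ ≫ θ₂`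
  have e2 : wit₃.theta h𝒮 Ψ ≫ gA Ψ p₂ = χ ≫ wit₂.theta h𝒮 Ψ := by
    have l2 := wit₂.theta_lift h𝒮 Ψ
    have h1 : 𝒮.p.IsHomLift ((m ≫ wit₂.k) ≫ (φA Ψ wit₂.a).hom) (wit₃.theta h𝒮 Ψ ≫ gA Ψ p₂) := by
      have h1 : 𝒮.p.IsHomLift ((wit₃.k ≫ (φA Ψ wit₃.a).hom) ≫ 𝒮.p.map (gA Ψ p₂))
          (wit₃.theta h𝒮 Ψ ≫ gA Ψ p₂) := inferInstance
      have e : (wit₃.k ≫ (φA Ψ wit₃.a).hom) ≫ 𝒮.p.map (gA Ψ p₂) =
          (m ≫ wit₂.k) ≫ (φA Ψ wit₂.a).hom := by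
        rw [Category.assoc, φA_gA, ← Category.assoc, hk3₂]
      exact isHomLift_congr 𝒮.p e _
    have h2 : 𝒮.p.IsHomLift ((m ≫ wit₂.k) ≫ (φA Ψ wit₂.a).hom) (χ ≫ wit₂.theta h𝒮 Ψ) := by
      have h2 : 𝒮.p.IsHomLift (m ≫ wit₂.k ≫ (φA Ψ wit₂.a).hom) (χ ≫ wit₂.theta h𝒮 Ψ) :=
        inferInstance
      exact isHomLift_congr 𝒮.p (Category.assoc _ _ _).symm _
    apply hom_ext_of_comp_eq h𝒮 (𝒮.p.map (gA Ψ wit₂.n₁)) (gA Ψ wit₂.n₁)
      ((m ≫ wit₂.k) ≫ (φA Ψ wit₂.a).hom)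
    rw [Category.assoc, ← gA_comp, ← hp, gA_comp, ← Category.assoc, e1, Category.assoc,
      wit₂.theta_fac]
    exact e
  change wit₃.theta h𝒮 Ψ ≫ gA Ψ (p₂ ≫ wit₂.n₂) = _
  rw [gA_comp, ← Category.assoc, e2, Category.assoc, Category.assoc]
  congr 1

end Comp

section Psi'

variable [HasPullbacks C] [PreservesLimitsOfShape WalkingCospan u]
variable {W W' W'' : D} {w : W ⟶ u.obj U} {w' : W' ⟶ u.obj U} {w'' : W'' ⟶ u.obj U}

/-- the transition morphism between the chosen pullbacks of two presentations. -/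
noncomputable def T (π : Pres R u W w) (π' : Pres R u W' w') (m : W ⟶ W') (hm : m ≫ w' = w) :
    E h𝒮 Ψ π ⟶ E h𝒮 Ψ π' := (Rel.exists h𝒮 Ψ π π' m hm).choose

theorem T_rel (π : Pres R u W w) (π' : Pres R u W' w') (m : W ⟶ W') (hm : m ≫ w' = w) :
    Rel h𝒮 Ψ π π' m (T h𝒮 Ψ π π' m hm) := (Rel.exists h𝒮 Ψ π π' m hm).choose_spec

theorem T_eq {π : Pres R u W w} {π' : Pres R u W' w'} {m : W ⟶ W'} (hm : m ≫ w' = w)
    {χ : E h𝒮 Ψ π ⟶ E h𝒮 Ψ π'} (h : Rel h𝒮 Ψ π π' m χ) : χ = T h𝒮 Ψ π π' m hm :=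
  Rel.unique h𝒮 Ψ hm h (T_rel h𝒮 Ψ π π' m hm)

theorem T_lift (π : Pres R u W w) (π' : Pres R u W' w') (m : W ⟶ W') (hm : m ≫ w' = w) :
    𝒮.p.IsHomLift m (T h𝒮 Ψ π π' m hm) := (T_rel h𝒮 Ψ π π' m hm).1

theorem T_id (π : Pres R u W w) : T h𝒮 Ψ π π (𝟙 W) (Category.id_comp w) = 𝟙 _ :=
  (T_eq h𝒮 Ψ _ (Rel.id h𝒮 Ψ π)).symm

theorem T_comp (π : Pres R u W w) (π' : Pres R u W' w') (π'' : Pres R u W'' w'') (m : W ⟶ W')
    (m' : W' ⟶ W'') (hm : m ≫ w' = w) (hm' : m' ≫ w'' = w') :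
    T h𝒮 Ψ π π' m hm ≫ T h𝒮 Ψ π' π'' m' hm' =
      T h𝒮 Ψ π π'' (m ≫ m') (by rw [Category.assoc, hm', hm]) :=
  T_eq h𝒮 Ψ _ (Rel.comp h𝒮 Ψ (T_rel h𝒮 Ψ π π' m hm) (T_rel h𝒮 Ψ π' π'' m' hm'))

/-- the chosen presentation of an arrow of the pushed-forward sieve. -/
noncomputable def pres (b : (sieveCat (Sieve.functorPushforward u R)).obj) :
    Pres R u b.obj.left b.obj.hom :=
  { a := mkObj R b.property.choose_spec.choose b.property.choose_spec.choose_spec.choose_spec.1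
    h := b.property.choose_spec.choose_spec.choose
    fac := b.property.choose_spec.choose_spec.choose_spec.2.symm }

/-- the extension of the descent datum to the pushed-forward sieve. -/
noncomputable def Psi' : sieveCat (Sieve.functorPushforward u R) ⥤ᵇ 𝒮 :=
  mkBased (𝒳 := sieveCat (Sieve.functorPushforward u R))
    { obj := fun b => E h𝒮 Ψ (pres b)
      map := fun {b b'} m => T h𝒮 Ψ (pres b) (pres b') m.hom.left (Over.w m.hom)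
      map_id := fun b => T_id h𝒮 Ψ (pres b)
      map_comp := fun {b b' b''} m m' =>
        (T_comp h𝒮 Ψ (pres b) (pres b') (pres b'') m.hom.left m'.hom.left (Over.w m.hom)
          (Over.w m'.hom)).symm }
    (fun b => E_base h𝒮 Ψ (pres b))
    (fun {b b'} m => T_lift h𝒮 Ψ (pres b) (pres b') m.hom.left (Over.w m.hom))

theorem Psi'_obj (b : (sieveCat (Sieve.functorPushforward u R)).obj) :
    (Psi' h𝒮 Ψ).obj b = E h𝒮 Ψ (pres b) := rfl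

theorem Psi'_map {b b' : (sieveCat (Sieve.functorPushforward u R)).obj} (m : b ⟶ b') :
    (Psi' h𝒮 Ψ).map m = T h𝒮 Ψ (pres b) (pres b') m.hom.left (Over.w m.hom) := rfl

end Psi'

end Groth.Agent.Helper29.StkPbC
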