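import Mathlib
import Groth.Prelude.Def_AlgSt
import Groth.Agent.Lib.Helper19.FibLib
import Groth.Agent.Lib.Helper29.StkPbA
import Groth.Agent.Lib.Helper29.StkPbB
import Groth.Agent.Lib.Helper29.StkPbC

/-!
# The 2-fibre product `C ×_D 𝒮` of a stack along a cover-preserving, pullback-preserving functor is a
stack (helper29)
-/

set_option autoImplicit false
set_option backward.isDefEq.respectTransparency false

universe v₃ u₃ v₂ u₂ v u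

open CategoryTheory CategoryTheory.Limits

namespace Groth.Agent.Helper29.StkPbD

open FibCat Stk Groth.Agent.Helper19.FibLib Groth.Agent.Helper29.StkPbA Groth.Agent.Helper29.StkPbB
  Groth.Agent.Helper29.StkPbC

variable {C : Type u} [Category.{v} C] {D : Type u₂} [Category.{v₂} D] {u : C ⥤ D}
  {𝒮 : BasedCategory.{v₃, u₃} D} {U : C} {R : Sieve U}
  [HasPullbacks C] [PreservesLimitsOfShape WalkingCospan u]

variable (h𝒮 : IsFibGrpd 𝒮.p) (Ψ : sieveCat R ⥤ᵇ P u 𝒮)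

section FromU

variable {t : 𝒮.obj} (cu : UCocone Ψ t)

/-- the cocone over all presentations induced by a strict cocone. -/
noncomputable def nu {W : D} {w : W ⟶ u.obj U} (π : Pres R u W w) : E h𝒮 Ψ π ⟶ t :=
  lamE h𝒮 Ψ π ≫ cu.mu π.a

theorem nu_lift {W : D} {w : W ⟶ u.obj U} (π : Pres R u W w) :
    𝒮.p.IsHomLift w (nu h𝒮 Ψ cu π) := by
  have := lamE_lift h𝒮 Ψ π
  have := cu.lift π.a
  have h1 : 𝒮.p.IsHomLift ((π.h ≫ (φA Ψ π.a).hom) ≫ ((φA Ψ π.a).inv ≫ u.map π.a.obj.hom))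
      (lamE h𝒮 Ψ π ≫ cu.mu π.a) := inferInstance
  have e : (π.h ≫ (φA Ψ π.a).hom) ≫ ((φA Ψ π.a).inv ≫ u.map π.a.obj.hom) = w := by
    rw [Category.assoc, Iso.hom_inv_id_assoc, π.fac]
  exact isHomLift_congr 𝒮.p e (lamE h𝒮 Ψ π ≫ cu.mu π.a)

theorem nu_rel {W W' : D} {w : W ⟶ u.obj U} {w' : W' ⟶ u.obj U} {π : Pres R u W w}
    {π' : Pres R u W' w'} {m : W ⟶ W'} {χ : E h𝒮 Ψ π ⟶ E h𝒮 Ψ π'} (h : Rel h𝒮 Ψ π π' m χ) :
    χ ≫ nu h𝒮 Ψ cu π' = nu h𝒮 Ψ cu π := by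
  obtain ⟨l, wit, e⟩ := h
  unfold nu
  rw [← Category.assoc, ← e]
  unfold Wit.out
  rw [Category.assoc, cu.nat, ← cu.nat wit.n₁, ← Category.assoc, wit.theta_fac]

/-- the cocone of the extended datum induced by a strict cocone. -/
noncomputable def toCocone' : Cocone (Psi' h𝒮 Ψ) t where
  base := cu.base
  lam b := nu h𝒮 Ψ cu (pres b)
  lift b := nu_lift h𝒮 Ψ cu (pres b)
  nat {b b'} m := nu_rel h𝒮 Ψ cu (T_rel h𝒮 Ψ (pres b) (pres b') m.hom.left (Over.w m.hom))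

end FromU

/-- the identity presentation of an arrow of the sieve. -/
def presId (a : (sieveCat R).obj) : Pres R u (u.obj a.obj.left) (u.map a.obj.hom) :=
  ⟨a, 𝟙 _, Category.id_comp _⟩

/-- the object of the pushed-forward sieve attached to a presentation. -/
def bOf {W : D} {w : W ⟶ u.obj U} (π : Pres R u W w) : (sieveCat (Sieve.functorPushforward u R)).obj :=
  mkObj (Sieve.functorPushforward u R) w ⟨π.a.obj.left, π.a.obj.hom, π.h, π.a.property, π.fac.symm⟩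

theorem isIso_lamE_presId (a : (sieveCat R).obj) : IsIso (lamE h𝒮 Ψ (presId (u := u) a)) := by
  have := lamE_lift h𝒮 Ψ (presId (u := u) a)
  have : IsIso ((presId (u := u) a).h ≫ (φA Ψ (presId (u := u) a).a).hom) := by
    change IsIso (𝟙 _ ≫ (φA Ψ a).hom)
    infer_instance
  exact isIso_of_isHomLift h𝒮 ((presId (u := u) a).h ≫ (φA Ψ (presId (u := u) a).a).hom) _

/-- the comparison `E (presId a) ⟶ E (presId a')` induced by a morphism of the sieve category. -/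
theorem rel_presId {a a' : (sieveCat R).obj} (n : a ⟶ a') :
    haveI := isIso_lamE_presId h𝒮 Ψ a'
    Rel h𝒮 Ψ (presId (u := u) a) (presId (u := u) a') (u.map n.hom.left)
      (lamE h𝒮 Ψ (presId (u := u) a) ≫ gA Ψ n ≫ inv (lamE h𝒮 Ψ (presId (u := u) a'))) := by
  haveI := isIso_lamE_presId h𝒮 Ψ a'
  have l1 := lamE_lift h𝒮 Ψ (presId (u := u) a)
  have l2 := lamE_lift h𝒮 Ψ (presId (u := u) a')
  haveI : IsIso ((presId (u := u) a').h ≫ (φA Ψ (presId (u := u) a').a).hom) := by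
    change IsIso (𝟙 _ ≫ (φA Ψ a').hom)
    infer_instance
  refine ⟨?_, ?_⟩
  · have h1 : 𝒮.p.IsHomLift (((presId (u := u) a).h ≫ (φA Ψ (presId (u := u) a).a).hom) ≫
        𝒮.p.map (gA Ψ n) ≫ inv ((presId (u := u) a').h ≫ (φA Ψ (presId (u := u) a').a).hom))
        (lamE h𝒮 Ψ (presId (u := u) a) ≫ gA Ψ n ≫ inv (lamE h𝒮 Ψ (presId (u := u) a'))) :=
      inferInstance
    have e : ((presId (u := u) a).h ≫ (φA Ψ (presId (u := u) a).a).hom) ≫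
        𝒮.p.map (gA Ψ n) ≫ inv ((presId (u := u) a').h ≫ (φA Ψ (presId (u := u) a').a).hom) =
        u.map n.hom.left := by
      change (𝟙 _ ≫ (φA Ψ a).hom) ≫ 𝒮.p.map (gA Ψ n) ≫ inv (𝟙 _ ≫ (φA Ψ a').hom) = _
      rw [Category.id_comp, ← Category.assoc, φA_gA, Category.assoc]
      simp
    exact isHomLift_congr 𝒮.p e _
  · let wit : Wit (presId (u := u) a) (presId (u := u) a') (u.map n.hom.left) :=
      { a := a
        n₁ := 𝟙 a
        n₂ := n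
        k := 𝟙 _
        hk₁ := by
          change 𝟙 _ ≫ u.map (𝟙 a : a ⟶ a).hom.left = 𝟙 _
          rw [id_left, u.map_id, Category.comp_id]
        hk₂ := by
          change 𝟙 _ ≫ u.map n.hom.left = u.map n.hom.left ≫ 𝟙 _
          rw [Category.id_comp, Category.comp_id] }
    refine ⟨wit, ?_⟩
    have e : lamE h𝒮 Ψ (presId (u := u) a) = wit.theta h𝒮 Ψ := by
      apply wit.theta_uniq h𝒮 Ψ
      · exact l1
      · exact (congrArg (fun z => lamE h𝒮 Ψ (presId (u := u) a) ≫ z) (gA_id Ψ a)).trans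
          (Category.comp_id _)
    unfold Wit.out
    rw [← e]
    change lamE h𝒮 Ψ (presId (u := u) a) ≫ gA Ψ n = _
    simp

section ToU

variable {t : 𝒮.obj} (c' : Cocone (Psi' h𝒮 Ψ) t)

/-- the cocone over all presentations induced by a cocone of the extended datum. -/
noncomputable def nu' {W : D} {w : W ⟶ u.obj U} (π : Pres R u W w) : E h𝒮 Ψ π ⟶ t :=
  T h𝒮 Ψ π (pres (bOf π)) (𝟙 W) (Category.id_comp w) ≫ c'.lam (bOf π)

theorem nu'_lift {W : D} {w : W ⟶ u.obj U} (π : Pres R u W w) :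
    𝒮.p.IsHomLift w (nu' h𝒮 Ψ c' π) := by
  have := T_lift h𝒮 Ψ π (pres (bOf π)) (𝟙 W) (Category.id_comp w)
  have h2 : 𝒮.p.IsHomLift w (c'.lam (bOf π)) := c'.lift (bOf π)
  have h1 : 𝒮.p.IsHomLift (𝟙 W ≫ w)
      (T h𝒮 Ψ π (pres (bOf π)) (𝟙 W) (Category.id_comp w) ≫ c'.lam (bOf π)) := inferInstance
  exact isHomLift_congr 𝒮.p (Category.id_comp w)
    (T h𝒮 Ψ π (pres (bOf π)) (𝟙 W) (Category.id_comp w) ≫ c'.lam (bOf π))

theorem nu'_rel {W W' : D} {w : W ⟶ u.obj U} {w' : W' ⟶ u.obj U} {π : Pres R u W w}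
    {π' : Pres R u W' w'} {m : W ⟶ W'} (hm : m ≫ w' = w) {χ : E h𝒮 Ψ π ⟶ E h𝒮 Ψ π'}
    (h : Rel h𝒮 Ψ π π' m χ) : χ ≫ nu' h𝒮 Ψ c' π' = nu' h𝒮 Ψ c' π := by
  let mt : bOf π ⟶ bOf π' := mkHom m hm
  have r1 := Rel.comp h𝒮 Ψ h (T_rel h𝒮 Ψ π' (pres (bOf π')) (𝟙 W') (Category.id_comp w'))
  have r2 := Rel.comp h𝒮 Ψ (T_rel h𝒮 Ψ π (pres (bOf π)) (𝟙 W) (Category.id_comp w))
    (T_rel h𝒮 Ψ (pres (bOf π)) (pres (bOf π')) m hm)
  rw [Category.comp_id] at r1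
  rw [Category.id_comp] at r2
  have e := Rel.unique h𝒮 Ψ hm r1 r2
  have n := c'.nat mt
  have n' : T h𝒮 Ψ (pres (bOf π)) (pres (bOf π')) m hm ≫ c'.lam (bOf π') = c'.lam (bOf π) := n
  unfold nu'
  rw [← Category.assoc, e, Category.assoc, n']

/-- the strict cocone induced by a cocone of the extended datum. -/
noncomputable def ofCocone' : UCocone Ψ t where
  base := c'.base
  mu a :=
    haveI := isIso_lamE_presId h𝒮 Ψ (u := u) a
    inv (lamE h𝒮 Ψ (presId (u := u) a)) ≫ nu' h𝒮 Ψ c' (presId (u := u) a)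
  lift a := by
    haveI := isIso_lamE_presId h𝒮 Ψ (u := u) a
    have l1 := lamE_lift h𝒮 Ψ (presId (u := u) a)
    have l2 := nu'_lift h𝒮 Ψ c' (presId (u := u) a)
    haveI : IsIso ((presId (u := u) a).h ≫ (φA Ψ (presId (u := u) a).a).hom) := by
      change IsIso (𝟙 _ ≫ (φA Ψ a).hom)
      infer_instance
    have h1 : 𝒮.p.IsHomLift (inv ((presId (u := u) a).h ≫ (φA Ψ (presId (u := u) a).a).hom) ≫
        u.map a.obj.hom)
        (inv (lamE h𝒮 Ψ (presId (u := u) a)) ≫ nu' h𝒮 Ψ c' (presId (u := u) a)) := inferInstance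
    have e : inv ((presId (u := u) a).h ≫ (φA Ψ (presId (u := u) a).a).hom) ≫ u.map a.obj.hom =
        (φA Ψ a).inv ≫ u.map a.obj.hom := by
      change inv (𝟙 _ ≫ (φA Ψ a).hom) ≫ _ = _
      simp
    exact isHomLift_congr 𝒮.p e _
  nat {a a'} n := by
    haveI := isIso_lamE_presId h𝒮 Ψ (u := u) a
    haveI := isIso_lamE_presId h𝒮 Ψ (u := u) a'
    have hm : u.map n.hom.left ≫ u.map a'.obj.hom = u.map a.obj.hom := by
      rw [← u.map_comp, hom_w]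
    have r := nu'_rel h𝒮 Ψ c' hm (rel_presId h𝒮 Ψ n)
    rw [← r]
    simp

end ToU

include h𝒮 in
theorem eff_P (hE : Eff (Sieve.functorPushforward u R) 𝒮) : Eff R (P u 𝒮) := by
  intro Ψ
  obtain ⟨t, ⟨c'⟩⟩ := hE (Psi' h𝒮 Ψ)
  exact ⟨_, ⟨(ofCocone' h𝒮 Ψ c').toCocone⟩⟩

include h𝒮 in
theorem uniq_strict (hU : Uniq (Sieve.functorPushforward u R) 𝒮) {t t' : 𝒮.obj} (cu : UCocone Ψ t)
    (cu' : UCocone Ψ t') :
    ∃! h : t ⟶ t', 𝒮.p.IsHomLift (𝟙 (u.obj U)) h ∧ ∀ a, cu.mu a ≫ h = cu'.mu a := by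
  obtain ⟨h, ⟨h1, h2⟩, h3⟩ := hU (Psi' h𝒮 Ψ) t t' (toCocone' h𝒮 Ψ cu) (toCocone' h𝒮 Ψ cu')
  have h2' : ∀ b, nu h𝒮 Ψ cu (pres b) ≫ h = nu h𝒮 Ψ cu' (pres b) := h2
  refine ⟨h, ⟨h1, fun a => ?_⟩, ?_⟩
  · haveI := isIso_lamE_presId h𝒮 Ψ (u := u) a
    rw [← cancel_epi (lamE h𝒮 Ψ (presId (u := u) a))]
    have r := T_rel h𝒮 Ψ (presId (u := u) a) (pres (bOf (presId (u := u) a))) (𝟙 _)
      (Category.id_comp _)
    have e1 := nu_rel h𝒮 Ψ cu r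
    have e2 := nu_rel h𝒮 Ψ cu' r
    have goal : nu h𝒮 Ψ cu (presId (u := u) a) ≫ h = nu h𝒮 Ψ cu' (presId (u := u) a) := by
      rw [← e1, ← e2, Category.assoc, h2']
    have goal' : (lamE h𝒮 Ψ (presId (u := u) a) ≫ cu.mu a) ≫ h =
        lamE h𝒮 Ψ (presId (u := u) a) ≫ cu'.mu a := goal
    rw [Category.assoc] at goal'
    exact goal'
  · rintro h' ⟨h1', h2''⟩
    apply h3
    refine ⟨h1', fun b => ?_⟩
    change (lamE h𝒮 Ψ (pres b) ≫ cu.mu (pres b).a) ≫ h' = lamE h𝒮 Ψ (pres b) ≫ cu'.mu (pres b).a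
    rw [Category.assoc, h2'']

include h𝒮 in
theorem uniq_iso (hU : Uniq (Sieve.functorPushforward u R) 𝒮) {t t' : 𝒮.obj} (ic : ICocone Ψ t)
    (ic' : ICocone Ψ t') :
    ∃! h₂ : t ⟶ t', 𝒮.p.map h₂ = ic.tau.inv ≫ ic'.tau.hom ∧ ∀ a, ic.mu a ≫ h₂ = ic'.mu a := by
  obtain ⟨s, ρ, hρ⟩ := h𝒮.exists_lift (x := t) ic.tau.hom
  obtain ⟨s', ρ', hρ'⟩ := h𝒮.exists_lift (x := t') ic'.tau.hom
  haveI : IsIso ρ := isIso_of_isHomLift h𝒮 ic.tau.hom ρ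
  haveI : IsIso ρ' := isIso_of_isHomLift h𝒮 ic'.tau.hom ρ'
  obtain ⟨h, ⟨h1, h2⟩, h3⟩ := uniq_strict h𝒮 Ψ hU (ic.toU h𝒮 ρ) (ic'.toU h𝒮 ρ')
  have m1 : ∀ a, (ic.toU h𝒮 ρ).mu a = ic.mu a ≫ inv ρ := fun a => rfl
  have m2 : ∀ a, (ic'.toU h𝒮 ρ').mu a = ic'.mu a ≫ inv ρ' := fun a => rfl
  refine ⟨inv ρ ≫ h ≫ ρ', ⟨?_, fun a => ?_⟩, ?_⟩
  · have hl : 𝒮.p.IsHomLift (inv ic.tau.hom ≫ 𝟙 _ ≫ ic'.tau.hom) (inv ρ ≫ h ≫ ρ') := inferInstance
    have := IsHomLift.eq_of_isHomLift 𝒮.p (inv ic.tau.hom ≫ 𝟙 _ ≫ ic'.tau.hom) (inv ρ ≫ h ≫ ρ')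
    rw [← this]
    simp
  · have := h2 a
    rw [m1, m2, Category.assoc] at this
    calc ic.mu a ≫ inv ρ ≫ h ≫ ρ' = (ic.mu a ≫ inv ρ ≫ h) ≫ ρ' := by simp
      _ = (ic'.mu a ≫ inv ρ') ≫ ρ' := by rw [this]
      _ = ic'.mu a := by simp
  · rintro h₂' ⟨e1, e2⟩
    have hl0 : 𝒮.p.IsHomLift (𝒮.p.map h₂') h₂' := inferInstance
    have hl : 𝒮.p.IsHomLift (𝟙 (u.obj U)) (ρ ≫ h₂' ≫ inv ρ') := by
      have h1 : 𝒮.p.IsHomLift (ic.tau.hom ≫ 𝒮.p.map h₂' ≫ inv ic'.tau.hom) (ρ ≫ h₂' ≫ inv ρ') :=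
        inferInstance
      have e : ic.tau.hom ≫ 𝒮.p.map h₂' ≫ inv ic'.tau.hom = 𝟙 (u.obj U) := by
        rw [e1]
        simp
      exact isHomLift_congr 𝒮.p e _
    have e3 : ρ ≫ h₂' ≫ inv ρ' = h := by
      apply h3
      refine ⟨hl, fun a => ?_⟩
      rw [m1, m2, Category.assoc, IsIso.inv_hom_id_assoc, ← Category.assoc, e2]
    rw [← e3]
    simp

include h𝒮 in
theorem uniq_P (hU : Uniq (Sieve.functorPushforward u R) 𝒮) : Uniq R (P u 𝒮) := by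
  intro Ψ x x' c c'
  exact existsUnique_of_snd c c' (uniq_iso h𝒮 Ψ hU (ICocone.ofCocone c) (ICocone.ofCocone c'))

theorem isStack_P (J : GrothendieckTopology C) (K : GrothendieckTopology D)
    (hu : CoverPreserving J K u) (h : Stk.IsStack K 𝒮) : Stk.IsStack J (P u 𝒮) := by
  refine ⟨isFibGrpd_P h.1, fun U R hR => ?_⟩
  have hR' := hu.cover_preserve hR
  have hS := h.2 _ hR'
  exact isStackFor_of_eff_uniq (isFibGrpd_P h.1) (eff_P h.1 (eff_of_isStackFor hS))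
    (uniq_P h.1 (uniq_of_isStackFor h.1 hS))

end Groth.Agent.Helper29.StkPbD
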