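import Mathlib
open CategoryTheory CategoryTheory.Limits Opposite
universe u

set_option linter.unusedSectionVars false
set_option autoImplicit false

namespace Groth.Agent.Helper29.StrictPro

variable {C : Type u} [SmallCategory C] [HasFiniteLimits C] (F : C ⥤ Type u) [PreservesFiniteLimits F]

/-- minimal element of the category of elements. -/
def IsMin (e : F.Elements) : Prop :=
  ∀ (Y : C) (i : Y ⟶ e.1) [Mono i], e.2 ∈ Set.range (F.map i) → IsIso i

variable {F}

lemma eq_of_isMin {e : F.Elements} (he : IsMin F e) {Z : C} (g h : e.1 ⟶ Z)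
    (hgh : F.map g e.2 = F.map h e.2) : g = h := by
  have hlim := isLimitForkMapOfIsLimit F (equalizer.condition g h) (equalizerIsEqualizer g h)
  obtain ⟨y, hy, -⟩ := Types.unique_of_type_equalizer _ _ hlim e.2 hgh
  have : IsIso (equalizer.ι g h) := he _ (equalizer.ι g h) ⟨y, hy⟩
  exact (cancel_epi (equalizer.ι g h)).1 (equalizer.condition g h)

lemma exists_isMin (hart : ∀ X : C, IsArtinianObject X) (e : F.Elements) :
    ∃ (e' : F.Elements) (f : e'.1 ⟶ e.1), IsMin F e' ∧ F.map f e'.2 = e.2 := by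
  obtain ⟨X, x⟩ := e
  have := hart X
  let S : Set (Subobject X) := {T | x ∈ Set.range (F.map T.arrow)}
  have hS : S.Nonempty := by
    refine ⟨⊤, ⟨F.map (inv (⊤ : Subobject X).arrow) x, ?_⟩⟩
    rw [← Functor.map_comp_apply]
    simp
  obtain ⟨T, hT, hmin⟩ := WellFounded.has_min (wellFounded_lt (α := Subobject X)) S hS
  obtain ⟨y, hy⟩ := hT
  refine ⟨⟨(T : C), y⟩, T.arrow, ?_, hy⟩
  intro Y i _ hi
  obtain ⟨y', hy'⟩ := hi
  have hle : Subobject.mk (i ≫ T.arrow) ≤ T := Subobject.mk_le_of_comm i rfl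
  have hmem : Subobject.mk (i ≫ T.arrow) ∈ S := by
    refine ⟨F.map (Subobject.underlyingIso (i ≫ T.arrow)).inv y', ?_⟩
    rw [← Functor.map_comp_apply, Subobject.underlyingIso_arrow, Functor.map_comp_apply]
    rw [hy', hy]
  have heq : Subobject.mk (i ≫ T.arrow) = T := eq_of_le_of_not_lt hle (hmin _ hmem)
  have heq' : Subobject.mk (i ≫ T.arrow) = Subobject.mk T.arrow := by rw [heq, Subobject.mk_arrow]
  have h1 : (Subobject.isoOfMkEqMk _ _ heq').hom ≫ T.arrow = i ≫ T.arrow := by
    rw [Subobject.isoOfMkEqMk_hom, Subobject.ofMkLEMk_comp]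
  have h2 : (Subobject.isoOfMkEqMk _ _ heq').hom = i := (cancel_mono T.arrow).1 h1
  rw [← h2]
  infer_instance

variable (F)

/-- The category of minimal elements. -/
abbrev J := ObjectProperty.FullSubcategory (IsMin F : ObjectProperty F.Elements)

/-- The diagram. -/
abbrev D : J F ⥤ C := ObjectProperty.ι _ ⋙ CategoryOfElements.π F

variable {F}

lemma D_map_prop {j j' : J F} (a : j ⟶ j') : F.map ((D F).map a) j.obj.2 = j'.obj.2 :=
  a.hom.property

lemma hom_eq {j j' : J F} (a b : j ⟶ j') : a = b := by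
  apply ObjectProperty.hom_ext
  apply Subtype.ext
  exact eq_of_isMin j.property _ _ (a.hom.property.trans b.hom.property.symm)

lemma epi_D_map {j j' : J F} (a : j ⟶ j') : Epi ((D F).map a) := by
  constructor
  intro Z g h hgh
  apply eq_of_isMin j'.property
  have e1 : F.map ((D F).map a ≫ g) j.obj.2 = F.map ((D F).map a ≫ h) j.obj.2 := by rw [hgh]
  have e2 := D_map_prop a
  rw [Functor.map_comp_apply, Functor.map_comp_apply] at e1
  rw [← e2]
  exact e1

/-- make a morphism of `J F`. -/
def homMk {j j' : J F} (f : j.obj.1 ⟶ j'.obj.1) (hf : F.map f j.obj.2 = j'.obj.2) : j ⟶ j' :=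
  ObjectProperty.homMk ⟨f, hf⟩

lemma exists_J (hart : ∀ X : C, IsArtinianObject X) (X : C) (x : F.obj X) :
    ∃ (j : J F) (f : (D F).obj j ⟶ X), F.map f j.obj.2 = x := by
  obtain ⟨e', f, he', hf⟩ := exists_isMin hart ⟨X, x⟩
  exact ⟨⟨e', he'⟩, f, hf⟩


lemma exists_prod_elt (X Y : C) (x : F.obj X) (y : F.obj Y) :
    ∃ p : F.obj (X ⨯ Y), F.map prod.fst p = x ∧ F.map prod.snd p = y := by
  let φ := PreservesLimitPair.iso F X Y ≪≫ Types.binaryProductIso _ _
  have h1 : φ.inv ≫ F.map (prod.fst : X ⨯ Y ⟶ X) = ↾Prod.fst := by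
    simp only [φ, Iso.trans_inv, Category.assoc]
    rw [PreservesLimitPair.iso_inv_fst, Types.binaryProductIso_inv_comp_fst]
  have h2 : φ.inv ≫ F.map (prod.snd : X ⨯ Y ⟶ Y) = ↾Prod.snd := by
    simp only [φ, Iso.trans_inv, Category.assoc]
    rw [PreservesLimitPair.iso_inv_snd, Types.binaryProductIso_inv_comp_snd]
  refine ⟨φ.inv (x, y), ?_, ?_⟩
  · have := congrArg (fun f => f ((x, y) : F.obj X × F.obj Y)) h1
    exact this
  · have := congrArg (fun f => f ((x, y) : F.obj X × F.obj Y)) h2
    exact this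

lemma exists_terminal_elt : Nonempty (F.obj (⊤_ C)) := by
  exact ⟨(PreservesTerminal.iso F ≪≫ Types.terminalIso).inv PUnit.unit⟩

lemma isCofiltered_J (hart : ∀ X : C, IsArtinianObject X) : IsCofiltered (J F) := by
  have h1 : IsCofilteredOrEmpty (J F) := by
    constructor
    · intro j j'
      obtain ⟨p, hp1, hp2⟩ := exists_prod_elt (F := F) j.obj.1 j'.obj.1 j.obj.2 j'.obj.2
      obtain ⟨w, f, hf⟩ := exists_J hart _ p
      refine ⟨w, homMk (f ≫ prod.fst) ?_, homMk (f ≫ prod.snd) ?_, trivial⟩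
      · exact (Functor.map_comp_apply F f prod.fst _).trans
          ((congrArg (fun z => F.map prod.fst z) hf).trans hp1)
      · exact (Functor.map_comp_apply F f prod.snd _).trans
          ((congrArg (fun z => F.map prod.snd z) hf).trans hp2)
    · intro j j' f g
      exact ⟨j, 𝟙 j, by rw [hom_eq f g]⟩
  have h2 : Nonempty (J F) := by
    obtain ⟨t⟩ := exists_terminal_elt (F := F)
    obtain ⟨w, f, hf⟩ := exists_J hart _ t
    exact ⟨w⟩
  exact { }

/-- the cocone with point `F`. -/
noncomputable def cocone : Cocone ((D F).op ⋙ coyoneda) where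
  pt := F
  ι :=
    { app := fun j => coyonedaEquiv.symm (unop j).obj.2
      naturality := by
        intro j j' a
        ext Z g
        simp
        exact congrArg (fun z => F.map g z) a.unop.hom.property }

lemma cocone_ι_app (j : (J F)ᵒᵖ) (Z : C) (g : (D F).obj (unop j) ⟶ Z) :
    ((cocone (F := F)).ι.app j).app Z g = F.map g (unop j).obj.2 := by
  simp [cocone, coyonedaEquiv]
  rfl

/-- the cocone is a colimit. -/
noncomputable def isColimitCocone (hart : ∀ X : C, IsArtinianObject X) :
    IsColimit (cocone (F := F)) := by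
  apply evaluationJointlyReflectsColimits
  intro Z
  apply Types.FilteredColimit.isColimitOf
  · intro z
    obtain ⟨j, f, hf⟩ := exists_J (F := F) hart Z z
    refine ⟨op j, f, ?_⟩
    exact hf.symm.trans (cocone_ι_app (op j) Z f).symm
  · intro j j' g g' h
    have h' : F.map g (unop j).obj.2 = F.map g' (unop j').obj.2 :=
      (cocone_ι_app j Z g).symm.trans (h.trans (cocone_ι_app j' Z g'))
    have := isCofiltered_J (F := F) hart
    obtain ⟨w, a, b, -⟩ := IsCofilteredOrEmpty.cone_objs (unop j) (unop j')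
    refine ⟨op w, a.op, b.op, ?_⟩
    change (D F).map a ≫ g = (D F).map b ≫ g'
    apply eq_of_isMin w.property
    refine (Functor.map_comp_apply F _ g _).trans ?_
    refine Eq.trans ?_ (Functor.map_comp_apply F _ g' _).symm
    refine (congrArg (fun z => F.map g z) (D_map_prop a)).trans ?_
    refine Eq.trans ?_ (congrArg (fun z => F.map g' z) (D_map_prop b)).symm
    exact h'

theorem main (hart : ∀ X : C, IsArtinianObject X) :
    ∃ (J : Type u) (_ : SmallCategory J) (_ : IsCofiltered J) (D : J ⥤ C),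
      (∀ ⦃j j' : J⦄ (a : j ⟶ j'), Epi (D.map a)) ∧ Nonempty (F ≅ colimit (D.op ⋙ coyoneda)) :=
  ⟨J F, inferInstance, isCofiltered_J hart, D F, fun _ _ a => epi_D_map a,
    ⟨(isColimitCocone hart).coconePointUniqueUpToIso (colimit.isColimit _)⟩⟩


end Groth.Agent.Helper29.StrictPro
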