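import Mathlib

/-!
# Surjective endomorphisms of finitely presented algebras are bijective
-/

namespace Groth.Agent.Helper29.SurjEndo

universe u v

open TensorProduct MvPolynomial

/-- A surjective ring endomorphism of a Noetherian ring is injective. -/
lemma injective_of_surjective_of_noetherian {S : Type*} [CommRing S] [IsNoetherianRing S]
    (φ : S →+* S) (hφ : Function.Surjective φ) : Function.Injective φ := by
  let K : ℕ →o Ideal S :=
    ⟨fun n => RingHom.ker (φ ^ n), by
      intro a b hab x hx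
      obtain ⟨c, rfl⟩ := Nat.exists_eq_add_of_le hab
      rw [RingHom.mem_ker] at hx ⊢
      rw [add_comm, pow_add, RingHom.coe_mul, Function.comp_apply, hx, map_zero]⟩
  obtain ⟨n, hn⟩ := monotone_stabilizes_iff_noetherian.mpr inferInstance K
  have hsurj : Function.Surjective (φ ^ n) := by
    rw [RingHom.coe_pow]
    exact hφ.iterate n
  rw [injective_iff_map_eq_zero]
  intro x hx
  obtain ⟨y, rfl⟩ := hsurj x
  have h1 : y ∈ K (n + 1) := by
    show y ∈ RingHom.ker (φ ^ (n + 1))
    rw [RingHom.mem_ker, pow_succ', RingHom.coe_mul, Function.comp_apply]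
    exact hx
  have h2 : y ∈ K n := by rw [hn (n + 1) (Nat.le_succ n)]; exact h1
  exact h2

section Main

variable {R : Type u} [CommRing R] {R' : Type v} [CommRing R'] [Algebra R R'] {n m : ℕ}

lemma map_aeval' {R₁ R₂ : Type*} [CommRing R₁] [CommRing R₂] (φ : R₁ →+* R₂)
    (h : Fin n → MvPolynomial (Fin n) R₁) (r : MvPolynomial (Fin n) R₁) :
    MvPolynomial.map φ (aeval h r) =
      aeval (fun i => MvPolynomial.map φ (h i)) (MvPolynomial.map φ r) := by
  induction r using MvPolynomial.induction_on with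
  | C a => simp
  | add p q hp hq => simp only [map_add, hp, hq]
  | mul_X p i hp => simp only [map_mul, hp, aeval_X, map_X]

theorem main [Algebra.FinitePresentation R R'] (α : R' →ₐ[R] R') (hα : Function.Surjective α) :
    Function.Bijective α := by
  classical
  obtain ⟨n, m, ⟨P⟩⟩ := Algebra.Presentation.exists_presentation_fin R R'
  have hev : Function.Surjective (aeval P.val : MvPolynomial (Fin n) R →ₐ[R] R') := by
    intro x
    obtain ⟨p, hp⟩ := P.algebraMap_surjective x
    exact ⟨p, by rw [← hp, P.algebraMap_apply]⟩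
  have hker : ∀ p : MvPolynomial (Fin n) R, aeval P.val p = 0 →
      p ∈ Ideal.span (Set.range P.relation) := by
    intro p hp
    rw [P.span_range_relation_eq_ker, P.ker_eq_ker_aeval_val]
    exact hp
  -- polynomial data
  choose a ha using fun k => hev (α (P.val k))
  choose b hb using fun k => hev ((hα (P.val k)).choose)
  have hb' : ∀ k, α (aeval P.val (b k)) = P.val k := fun k => by
    rw [hb k]; exact (hα (P.val k)).choose_spec
  have hαev : ∀ p : MvPolynomial (Fin n) R, α (aeval P.val p) = aeval P.val (aeval a p) := by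
    intro p
    rw [MvPolynomial.comp_aeval_apply, MvPolynomial.comp_aeval_apply,
      show (fun i => α (P.val i)) = fun i => aeval P.val (a i) from
        _root_.funext fun k => (ha k).symm]
  have h1 : ∀ j, aeval a (P.relation j) ∈ Ideal.span (Set.range P.relation) := fun j =>
    hker _ (by rw [← hαev, P.aeval_val_relation, map_zero])
  have h2 : ∀ k, aeval a (b k) - X k ∈ Ideal.span (Set.range P.relation) := fun k =>
    hker _ (by rw [map_sub, ← hαev, hb' k, aeval_X, sub_self])
  choose c hc using fun j => Ideal.mem_span_range_iff_exists_fun.mp (h1 j)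
  choose d hd using fun k => Ideal.mem_span_range_iff_exists_fun.mp (h2 k)
  -- the subring of coefficients
  let W : Set R := (⋃ k, ((a k).coeffs : Set R)) ∪ (⋃ k, ((b k).coeffs : Set R)) ∪
    (⋃ j, ⋃ l, ((c j l).coeffs : Set R)) ∪ (⋃ k, ⋃ l, ((d k l).coeffs : Set R))
  have hW : W.Finite := by
    refine Set.Finite.union (Set.Finite.union (Set.Finite.union ?_ ?_) ?_) ?_
    · exact Set.finite_iUnion fun k => Finset.finite_toSet _
    · exact Set.finite_iUnion fun k => Finset.finite_toSet _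
    · exact Set.finite_iUnion fun j => Set.finite_iUnion fun l => Finset.finite_toSet _
    · exact Set.finite_iUnion fun k => Set.finite_iUnion fun l => Finset.finite_toSet _
  let R₁ : Subalgebra P.Core R := Algebra.adjoin P.Core W
  have hmem : ∀ p : MvPolynomial (Fin n) R, ((p.coeffs : Set R) ⊆ W) →
      p ∈ Set.range (MvPolynomial.map (σ := Fin n) (algebraMap R₁ R)) := by
    intro p hp
    rw [MvPolynomial.mem_range_map_iff_coeffs_subset]
    intro x hx
    exact ⟨⟨x, Algebra.subset_adjoin (hp hx)⟩, rfl⟩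
  choose a₀ ha₀ using fun k => hmem (a k) (fun x hx =>
    Or.inl (Or.inl (Or.inl (Set.mem_iUnion.mpr ⟨k, hx⟩))))
  choose b₀ hb₀ using fun k => hmem (b k) (fun x hx =>
    Or.inl (Or.inl (Or.inr (Set.mem_iUnion.mpr ⟨k, hx⟩))))
  choose c₀ hc₀ using fun j l => hmem (c j l) (fun x hx =>
    Or.inl (Or.inr (Set.mem_iUnion.mpr ⟨j, Set.mem_iUnion.mpr ⟨l, hx⟩⟩)))
  choose d₀ hd₀ using fun k l => hmem (d k l) (fun x hx =>
    Or.inr (Set.mem_iUnion.mpr ⟨k, Set.mem_iUnion.mpr ⟨l, hx⟩⟩))
  have hinj : Function.Injective (MvPolynomial.map (σ := Fin n) (algebraMap R₁ R)) :=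
    MvPolynomial.map_injective _ Subtype.val_injective
  let r₀ : Fin m → MvPolynomial (Fin n) R₁ := P.relationOfHasCoeffs R₁
  have hr₀ : ∀ j, MvPolynomial.map (algebraMap R₁ R) (r₀ j) = P.relation j :=
    P.map_relationOfHasCoeffs R₁
  -- identities over `R₁`
  have e1 : ∀ j, aeval a₀ (r₀ j) = ∑ l, c₀ j l * r₀ l := by
    intro j
    apply hinj
    rw [map_aeval', map_sum]
    simp only [map_mul, ha₀, hr₀, hc₀]
    exact (hc j).symm
  have e2 : ∀ k, aeval a₀ (b₀ k) - X k = ∑ l, d₀ k l * r₀ l := by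
    intro k
    apply hinj
    rw [map_sub, map_aeval', map_sum, map_X]
    simp only [map_mul, ha₀, hb₀, hr₀, hd₀]
    exact (hd k).symm
  -- the model and its endomorphism
  let J₀ : Ideal (MvPolynomial (Fin n) R₁) := Ideal.span (Set.range r₀)
  have hr₀J : ∀ l, r₀ l ∈ J₀ := fun l => Ideal.subset_span ⟨l, rfl⟩
  have hkill : ∀ p ∈ J₀, ((Ideal.Quotient.mkₐ R₁ J₀).comp (aeval a₀)) p = 0 := by
    have hle : J₀ ≤ Ideal.comap (aeval a₀ : MvPolynomial (Fin n) R₁ →ₐ[R₁] _) J₀ := by
      refine Ideal.span_le.mpr ?_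
      rintro _ ⟨j, rfl⟩
      show aeval a₀ (r₀ j) ∈ J₀
      rw [e1 j]
      exact Ideal.sum_mem _ fun l _ => Ideal.mul_mem_left _ _ (hr₀J l)
    intro p hp
    exact Ideal.Quotient.eq_zero_iff_mem.mpr (hle hp)
  let α₀ : P.ModelOfHasCoeffs R₁ →ₐ[R₁] P.ModelOfHasCoeffs R₁ :=
    Ideal.Quotient.liftₐ J₀ ((Ideal.Quotient.mkₐ R₁ J₀).comp (aeval a₀)) hkill
  have hα₀ : ∀ p : MvPolynomial (Fin n) R₁,
      α₀ (Ideal.Quotient.mk J₀ p) = Ideal.Quotient.mk J₀ (aeval a₀ p) := fun p => rfl
  have hα₀surj : Function.Surjective α₀ := by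
    intro s
    obtain ⟨p, rfl⟩ := Ideal.Quotient.mk_surjective s
    refine ⟨Ideal.Quotient.mk J₀ (aeval b₀ p), ?_⟩
    rw [hα₀, MvPolynomial.comp_aeval_apply]
    have hcomp : (Ideal.Quotient.mkₐ R₁ J₀).comp (aeval fun i => (aeval a₀) (b₀ i)) =
        Ideal.Quotient.mkₐ R₁ J₀ := by
      apply MvPolynomial.algHom_ext
      intro k
      rw [AlgHom.comp_apply, aeval_X]
      have := e2 k
      rw [sub_eq_iff_eq_add] at this
      rw [this, map_add, map_sum]
      have hz : ∀ l, (Ideal.Quotient.mkₐ R₁ J₀) (d₀ k l * r₀ l) = 0 := fun l =>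
        Ideal.Quotient.eq_zero_iff_mem.mpr (Ideal.mul_mem_left _ _ (hr₀J l))
      simp only [hz, Finset.sum_const_zero, zero_add]
    exact congrArg (fun φ => φ p) hcomp
  have hft : Algebra.FiniteType ℤ R₁ := by
    have h1 : Algebra.FiniteType P.Core R₁ :=
      (Subalgebra.fg_iff_finiteType R₁).mp ⟨hW.toFinset, by simp [R₁]⟩
    exact Algebra.FiniteType.trans (S := P.Core) inferInstance h1
  have hnoeth : IsNoetherianRing R₁ := Algebra.FiniteType.isNoetherianRing ℤ R₁
  have hα₀inj : Function.Injective α₀ :=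
    injective_of_surjective_of_noetherian α₀.toRingHom hα₀surj
  let α₀' : P.ModelOfHasCoeffs R₁ ≃ₐ[R₁] P.ModelOfHasCoeffs R₁ :=
    AlgEquiv.ofBijective α₀ ⟨hα₀inj, hα₀surj⟩
  let e := P.tensorModelOfHasCoeffsEquiv R₁
  let β : R ⊗[R₁] P.ModelOfHasCoeffs R₁ ≃ₐ[R] R ⊗[R₁] P.ModelOfHasCoeffs R₁ :=
    Algebra.TensorProduct.congr AlgEquiv.refl α₀'
  have hcomm : α.comp e.toAlgHom = e.toAlgHom.comp β.toAlgHom := by
    apply Algebra.TensorProduct.ext
    · ext
    · apply Ideal.Quotient.algHom_ext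
      apply MvPolynomial.algHom_ext
      intro k
      show α (e ((1 : R) ⊗ₜ[R₁] (Ideal.Quotient.mk J₀ (X k)))) =
        e ((1 : R) ⊗ₜ[R₁] α₀ (Ideal.Quotient.mk J₀ (X k)))
      rw [hα₀, aeval_X]
      show α (P.tensorModelOfHasCoeffsEquiv R₁ ((1 : R) ⊗ₜ[R₁] (Ideal.Quotient.mk _ (X k)))) =
        P.tensorModelOfHasCoeffsEquiv R₁ ((1 : R) ⊗ₜ[R₁] (Ideal.Quotient.mk _ (a₀ k)))
      rw [P.tensorModelOfHasCoeffsEquiv_tmul, P.tensorModelOfHasCoeffsEquiv_tmul, map_one, one_mul,
        one_mul, aeval_X, ← MvPolynomial.aeval_map_algebraMap R, ha₀, ha k]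
  have hα : (α : R' → R') = e ∘ β ∘ e.symm := by
    funext x
    have := congrArg (fun φ => φ (e.symm x)) hcomm
    change α (e (e.symm x)) = e (β (e.symm x)) at this
    rw [e.apply_symm_apply] at this
    exact this
  rw [hα]
  exact e.bijective.comp (β.bijective.comp e.symm.bijective)

end Main

end Groth.Agent.Helper29.SurjEndo
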