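import Mathlib

namespace Groth.Agent.Helper29.SwpA

open CategoryTheory Limits

universe u v

variable {A : Type u} [Category.{v} A] [Abelian A]

/-- Exactness of the pushout sequence, up to refinements. -/
lemma pushout_exact {X Y Z P : A} {f : X ⟶ Y} {g : X ⟶ Z} {inl : Y ⟶ P} {inr : Z ⟶ P}
    (h : IsPushout f g inl inr) {T : A} (u : T ⟶ Y) (v : T ⟶ Z) (huv : u ≫ inl = v ≫ inr) :
    ∃ (T' : A) (π : T' ⟶ T) (_ : Epi π) (w : T' ⟶ X), π ≫ u = w ≫ f ∧ π ≫ v = w ≫ g := by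
  have hex := h.exact_shortComplex
  obtain ⟨T', π, hπ, w, hw⟩ := hex.exact_up_to_refinements (biprod.lift u (-v))
    (by
      change biprod.lift u (-v) ≫ biprod.desc inl inr = 0
      rw [biprod.lift_desc, Preadditive.neg_comp, huv, add_neg_cancel])
  let w' : T' ⟶ X := w
  replace hw : π ≫ biprod.lift u (-v) = w' ≫ biprod.lift f (-g) := hw
  clear_value w'
  refine ⟨T', π, hπ, w', ?_, ?_⟩
  · have := hw =≫ biprod.fst
    simp only [Category.assoc, biprod.lift_fst] at this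
    exact this
  · have := hw =≫ biprod.snd
    simp only [Category.assoc, biprod.lift_snd, Preadditive.comp_neg] at this
    exact neg_injective this

variable (K : CochainComplex A ℤ) (M : ℤ → A) (ι : ∀ n, K.X n ⟶ M n)

/-- objects of the swept complex -/
noncomputable def X (n : ℤ) : A := pushout (ι (n - 1)) (K.d (n - 1) n ≫ ι n)

noncomputable def b (n : ℤ) : M n ⟶ X K M ι n := pushout.inr _ _

noncomputable def a (p n : ℤ) (hp : p + 1 = n) : M p ⟶ X K M ι n :=
  eqToHom (by rw [show p = n - 1 by omega]) ≫ pushout.inl _ _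

lemma isPushout (p n : ℤ) (hp : p + 1 = n) :
    IsPushout (ι p) (K.d p n ≫ ι n) (a K M ι p n hp) (b K M ι n) := by
  obtain rfl : p = n - 1 := by omega
  simp only [a, b, eqToHom_refl, Category.id_comp]
  exact IsPushout.of_hasPushout _ _

lemma w (p n : ℤ) (hp : p + 1 = n) :
    ι p ≫ a K M ι p n hp = K.d p n ≫ ι n ≫ b K M ι n := by
  simpa using (isPushout K M ι p n hp).w

noncomputable def d (n m : ℤ) : X K M ι n ⟶ X K M ι m :=
  if h : n + 1 = m then
    pushout.desc 0 (a K M ι n m h) (by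
      rw [comp_zero, Category.assoc, w, K.d_comp_d_assoc, zero_comp])
  else 0

lemma a_d (p n m : ℤ) (hp : p + 1 = n) : a K M ι p n hp ≫ d K M ι n m = 0 := by
  obtain rfl : p = n - 1 := by omega
  by_cases h : n + 1 = m
  · simp only [a, d, dif_pos h, eqToHom_refl, Category.id_comp]
    exact pushout.inl_desc _ _ _
  · simp [d, dif_neg h]

lemma b_d (n m : ℤ) (h : n + 1 = m) : b K M ι n ≫ d K M ι n m = a K M ι n m h := by
  simp only [b, d, dif_pos h]
  exact pushout.inr_desc _ _ _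

lemma hom_ext (n : ℤ) {T : A} {f g : X K M ι n ⟶ T}
    (h₁ : a K M ι (n - 1) n (by omega) ≫ f = a K M ι (n - 1) n (by omega) ≫ g)
    (h₂ : b K M ι n ≫ f = b K M ι n ≫ g) : f = g :=
  (isPushout K M ι (n - 1) n (by omega)).hom_ext h₁ h₂

noncomputable def R : CochainComplex A ℤ where
  X := X K M ι
  d := d K M ι
  shape := fun n m h => dif_neg h
  d_comp_d' := by
    intro n m k hnm hmk
    have hnm' : n + 1 = m := hnm
    apply hom_ext
    · rw [reassoc_of% (a_d K M ι (n - 1) n m (by omega)), zero_comp, comp_zero]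
    · rw [reassoc_of% (b_d K M ι n m hnm'), a_d, comp_zero]

noncomputable def φ : K ⟶ R K M ι where
  f n := ι n ≫ b K M ι n
  comm' := by
    intro n m hnm
    have hnm' : n + 1 = m := hnm
    change (ι n ≫ b K M ι n) ≫ d K M ι n m = K.d n m ≫ ι m ≫ b K M ι m
    rw [Category.assoc, b_d K M ι n m hnm', w]


@[simp] lemma R_X (n : ℤ) : (R K M ι).X n = X K M ι n := rfl
@[simp] lemma R_d (n m : ℤ) : (R K M ι).d n m = d K M ι n m := rfl
@[simp] lemma φ_f (n : ℤ) : (φ K M ι).f n = ι n ≫ b K M ι n := rfl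

variable [∀ n, Mono (ι n)]

lemma mono_aux (j : ℤ) {T : A} (x₂ : T ⟶ K.X j) (y₁ : T ⟶ X K M ι (j - 1))
    (hy : x₂ ≫ ι j ≫ b K M ι j = y₁ ≫ d K M ι (j - 1) j) :
    ∃ (T' : A) (π : T' ⟶ T) (_ : Epi π) (x₁ : T' ⟶ K.X (j - 1)),
      π ≫ x₂ = x₁ ≫ K.d (j - 1) j := by
  obtain ⟨T', π, hπ, α, β, hαβ⟩ :=
    (isPushout K M ι (j - 1 - 1) (j - 1) (by omega)).hom_eq_add_up_to_refinements y₁
  have h1 : (π ≫ x₂ ≫ ι j) ≫ b K M ι j = β ≫ a K M ι (j - 1) j (by omega) := by
    have : π ≫ x₂ ≫ ι j ≫ b K M ι j = π ≫ y₁ ≫ d K M ι (j - 1) j := by rw [hy]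
    rw [← Category.assoc π y₁, hαβ, Preadditive.add_comp, Category.assoc, Category.assoc,
      a_d, comp_zero, zero_add, b_d K M ι (j - 1) j (by omega)] at this
    simpa using this
  obtain ⟨T'', π', hπ', w, hw1, hw2⟩ :=
    pushout_exact (isPushout K M ι (j - 1) j (by omega)) β (π ≫ x₂ ≫ ι j) h1.symm
  refine ⟨T'', π' ≫ π, epi_comp _ _, w, ?_⟩
  rw [← cancel_mono (ι j)]
  simpa using hw2

lemma epi_aux (j : ℤ) {T : A} (y₂ : T ⟶ X K M ι j) (hy₂ : y₂ ≫ d K M ι j (j + 1) = 0) :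
    ∃ (T' : A) (π : T' ⟶ T) (_ : Epi π) (x₂ : T' ⟶ K.X j) (_ : x₂ ≫ K.d j (j + 1) = 0)
      (y₁ : T' ⟶ X K M ι (j - 1)),
      π ≫ y₂ = x₂ ≫ ι j ≫ b K M ι j + y₁ ≫ d K M ι (j - 1) j := by
  obtain ⟨T', π, hπ, α, β, hαβ⟩ :=
    (isPushout K M ι (j - 1) j (by omega)).hom_eq_add_up_to_refinements y₂
  have h1 : β ≫ a K M ι j (j + 1) rfl = (0 : T' ⟶ M (j + 1)) ≫ b K M ι (j + 1) := by
    have : π ≫ y₂ ≫ d K M ι j (j + 1) = π ≫ 0 := by rw [hy₂]
    rw [comp_zero, ← Category.assoc π y₂, hαβ, Preadditive.add_comp, Category.assoc,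
      Category.assoc, a_d, comp_zero, zero_add, b_d K M ι j (j + 1) rfl] at this
    rw [this, zero_comp]
  obtain ⟨T'', π', hπ', w, hw1, hw2⟩ :=
    pushout_exact (isPushout K M ι j (j + 1) rfl) β 0 h1
  have hw3 : w ≫ K.d j (j + 1) = 0 := by
    rw [← cancel_mono (ι (j + 1))]
    simpa using hw2.symm
  refine ⟨T'', π' ≫ π, epi_comp _ _, w, hw3, π' ≫ α ≫ b K M ι (j - 1), ?_⟩
  simp only [Category.assoc]
  rw [b_d K M ι (j - 1) j (by omega), hαβ, Preadditive.comp_add, ← reassoc_of% hw1, add_comm]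

lemma mono_homologyMap (j : ℤ) : Mono (HomologicalComplex.homologyMap (φ K M ι) j) := by
  rw [HomologicalComplex.mono_homologyMap_iff_up_to_refinements (φ K M ι) (j - 1) j (j + 1)
    (by simp) (by simp)]
  intro T x₂ hx₂ y₁ hy
  exact mono_aux K M ι j x₂ y₁ hy

lemma epi_homologyMap (j : ℤ) : Epi (HomologicalComplex.homologyMap (φ K M ι) j) := by
  rw [HomologicalComplex.epi_homologyMap_iff_up_to_refinements (φ K M ι) (j - 1) j (j + 1)
    (by simp) (by simp)]
  intro T y₂ hy₂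
  exact epi_aux K M ι j y₂ hy₂

lemma quasiIso_φ : QuasiIso (φ K M ι) := by
  rw [quasiIso_iff]
  intro j
  rw [quasiIsoAt_iff_isIso_homologyMap]
  have := mono_homologyMap K M ι j
  have := epi_homologyMap K M ι j
  exact isIso_of_mono_of_epi _

omit [∀ n, Mono (ι n)] in
lemma isIso_φ_f (n : ℤ) [IsIso (ι (n - 1))] [IsIso (ι n)] : IsIso ((φ K M ι).f n) := by
  have hb : IsIso (b K M ι n) := by
    unfold b
    exact pushout_inr_iso_of_left_iso _ _
  change IsIso (ι n ≫ b K M ι n)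
  exact IsIso.comp_isIso

lemma shortExact (n : ℤ) :
    ((isPushout K M ι (n - 1) n (by omega)).shortComplex).ShortExact := by
  have h := isPushout K M ι (n - 1) n (by omega)
  have : Mono h.shortComplex.f := by
    have : Mono (h.shortComplex.f ≫ biprod.fst) := by
      change Mono (biprod.lift (ι (n - 1)) (-(K.d (n - 1) n ≫ ι n)) ≫ biprod.fst)
      rw [biprod.lift_fst]
      infer_instance
    exact mono_of_mono _ biprod.fst
  have : Epi h.shortComplex.g := h.epi_shortComplex_g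
  exact ShortComplex.ShortExact.mk h.exact_shortComplex

end Groth.Agent.Helper29.SwpA
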