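import Groth.Agent.Lib.Helper29.SwpA

namespace Groth.Agent.Helper29.SwpB

open CategoryTheory Limits

universe u v

section General

variable {C : Type*} [Category C]

lemma isEventuallyConstantFrom_of_succ (G : ℕ ⥤ C) (i₀ : ℕ)
    (h : ∀ p, i₀ ≤ p → IsIso (G.map (homOfLE (Nat.le_succ p)))) :
    G.IsEventuallyConstantFrom i₀ := by
  intro j f
  obtain ⟨k, rfl⟩ := Nat.exists_eq_add_of_le (leOfHom f)
  induction k with
  | zero =>
    have : f = 𝟙 _ := Subsingleton.elim _ _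
    rw [this, G.map_id]
    infer_instance
  | succ k ih =>
    have : f = homOfLE (Nat.le_add_right i₀ k) ≫ homOfLE (Nat.le_succ (i₀ + k)) :=
      Subsingleton.elim _ _
    rw [this, G.map_comp]
    have := ih (homOfLE (Nat.le_add_right i₀ k))
    have := h (i₀ + k) (Nat.le_add_right _ _)
    infer_instance

end General

variable {A : Type u} [Category.{v} A] [Abelian A] (d : A → ℕ∞)
  (h1 : ∀ X : A, ∃ (Y : A) (ι : X ⟶ Y), Mono ι ∧ d Y = 0)

omit [Abelian A] in
include h1 in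
lemma exists_emb (X : A) :
    ∃ (Y : A) (ι : X ⟶ Y), Mono ι ∧ d Y = 0 ∧ (d X = 0 → IsIso ι) := by
  by_cases h : d X = 0
  · exact ⟨X, 𝟙 X, inferInstance, h, fun _ => inferInstance⟩
  · obtain ⟨Y, ι, h1, h2⟩ := h1 X
    exact ⟨Y, ι, h1, h2, fun h' => absurd h' h⟩

noncomputable def E (X : A) : A := (exists_emb d h1 X).choose

noncomputable def e (X : A) : X ⟶ E d h1 X := (exists_emb d h1 X).choose_spec.choose

instance mono_e (X : A) : Mono (e d h1 X) := (exists_emb d h1 X).choose_spec.choose_spec.1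

omit [Abelian A] in
lemma d_E (X : A) : d (E d h1 X) = 0 := (exists_emb d h1 X).choose_spec.choose_spec.2.1

omit [Abelian A] in
lemma isIso_e (X : A) (h : d X = 0) : IsIso (e d h1 X) :=
  (exists_emb d h1 X).choose_spec.choose_spec.2.2 h

noncomputable def step (K : CochainComplex A ℤ) : CochainComplex A ℤ :=
  SwpA.R K (fun n => E d h1 (K.X n)) (fun n => e d h1 (K.X n))

noncomputable def stepMap (K : CochainComplex A ℤ) : K ⟶ step d h1 K :=
  SwpA.φ K (fun n => E d h1 (K.X n)) (fun n => e d h1 (K.X n))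

lemma quasiIso_stepMap (K : CochainComplex A ℤ) : QuasiIso (stepMap d h1 K) :=
  SwpA.quasiIso_φ K (fun n => E d h1 (K.X n)) (fun n => e d h1 (K.X n))

lemma isIso_stepMap_f (K : CochainComplex A ℤ) (n : ℤ) (h₁ : d (K.X (n - 1)) = 0)
    (h₂ : d (K.X n) = 0) : IsIso ((stepMap d h1 K).f n) := by
  have := isIso_e d h1 _ h₁
  have := isIso_e d h1 _ h₂
  exact SwpA.isIso_φ_f K (fun n => E d h1 (K.X n)) (fun n => e d h1 (K.X n)) n

variable (h2 : ∀ X Y : A, d (X ⊞ Y) ≤ max (d X) (d Y))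
  (h3 : ∀ S : ShortComplex A, S.ShortExact → d S.X₃ ≤ max (d S.X₁ - 1) (d S.X₂))

include h2 h3 in
lemma d_step (K : CochainComplex A ℤ) (n : ℤ) :
    d ((step d h1 K).X n) ≤ d (K.X (n - 1)) - 1 := by
  have hS := SwpA.shortExact K (fun n => E d h1 (K.X n)) (fun n => e d h1 (K.X n)) n
  have := h3 _ hS
  refine this.trans ?_
  have h2' := h2 (E d h1 (K.X (n - 1))) (E d h1 (K.X n))
  rw [d_E d h1, d_E d h1, max_self] at h2'
  apply max_le le_rfl
  exact h2'.trans zero_le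

noncomputable def seq (K : CochainComplex A ℤ) : ℕ → CochainComplex A ℤ
  | 0 => K
  | p + 1 => step d h1 (seq K p)

noncomputable def seqMap (K : CochainComplex A ℤ) (p : ℕ) :
    seq d h1 K p ⟶ seq d h1 K (p + 1) := stepMap d h1 _

noncomputable def F (K : CochainComplex A ℤ) : ℕ ⥤ CochainComplex A ℤ :=
  Functor.ofSequence (seqMap d h1 K)

include h2 h3 in
lemma d_seq (K : CochainComplex A ℤ) (p : ℕ) (n : ℤ) :
    d ((seq d h1 K p).X n) ≤ d (K.X (n - p)) - p := by
  induction p generalizing n with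
  | zero => simp [seq]
  | succ p ih =>
    calc d ((seq d h1 K (p + 1)).X n) ≤ d ((seq d h1 K p).X (n - 1)) - 1 :=
          d_step d h1 h2 h3 _ n
      _ ≤ (d (K.X (n - 1 - p)) - p) - 1 := tsub_le_tsub_right (ih (n - 1)) 1
      _ = d (K.X (n - (p + 1 : ℕ))) - (p + 1 : ℕ) := by
          rw [tsub_tsub]
          have : n - 1 - (p : ℤ) = n - ((p + 1 : ℕ) : ℤ) := by push_cast; ring
          rw [this]
          push_cast
          rfl

include h2 h3 in
lemma exists_threshold (K : CochainComplex A ℤ)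
    (hK : ∀ m : ℤ, ∃ N : ℤ, ∀ n : ℤ, n ≤ N → ∃ k : ℕ, d (K.X n) = k ∧ n + k ≤ m) (n : ℤ) :
    ∃ p₀ : ℕ, ∀ p : ℕ, p₀ ≤ p → d ((seq d h1 K p).X n) = 0 := by
  obtain ⟨N, hN⟩ := hK n
  refine ⟨(n - N).toNat, fun p hp => ?_⟩
  obtain ⟨k, hk1, hk2⟩ := hN (n - p) (by omega)
  have hkp : k ≤ p := by omega
  have := d_seq d h1 h2 h3 K p n
  rw [hk1] at this
  have h0 : ((k : ℕ∞) - (p : ℕ∞)) = 0 := by
    rw [tsub_eq_zero_iff_le]
    exact_mod_cast hkp
  rw [h0] at this
  exact le_antisymm this zero_le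


lemma quasiIso_F_map (K : CochainComplex A ℤ) (j : ℕ) :
    QuasiIso ((F d h1 K).map (homOfLE (Nat.zero_le j))) := by
  induction j with
  | zero =>
    have : homOfLE (Nat.zero_le 0) = 𝟙 (0 : ℕ) := Subsingleton.elim _ _
    rw [this, CategoryTheory.Functor.map_id]
    infer_instance
  | succ j ih =>
    have : homOfLE (Nat.zero_le (j + 1)) = homOfLE (Nat.zero_le j) ≫ homOfLE (Nat.le_succ j) :=
      Subsingleton.elim _ _
    rw [this, Functor.map_comp]
    have h2 : QuasiIso ((F d h1 K).map (homOfLE (Nat.le_succ j))) := by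
      have : (F d h1 K).map (homOfLE (Nat.le_succ j)) = seqMap d h1 K j :=
        Functor.ofSequence_map_homOfLE_succ _ j
      rw [this]
      exact quasiIso_stepMap d h1 _
    infer_instance

section Colim

variable {J : Type*} [Category J] [IsFiltered J] (G : J ⥤ CochainComplex A ℤ)
  [∀ (j : ℤ), HasColimit (G ⋙ HomologicalComplex.eval A (ComplexShape.up ℤ) j)]
  {cG : Cocone G} (hcG : IsColimit cG)

include hcG in
lemma isIso_ι_f (q : ℤ) (j : J)
    (hq : (G ⋙ HomologicalComplex.eval A (ComplexShape.up ℤ) q).IsEventuallyConstantFrom j) :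
    IsIso ((cG.ι.app j).f q) :=
  hq.isIso_ι_of_isColimit
    (isColimitOfPreserves (HomologicalComplex.eval A (ComplexShape.up ℤ) q) hcG)

include hcG in
lemma quasiIsoAt_ι (q : ℤ) (j : J)
    (hq₀ : (G ⋙ HomologicalComplex.eval A (ComplexShape.up ℤ) (q - 1)).IsEventuallyConstantFrom j)
    (hq₁ : (G ⋙ HomologicalComplex.eval A (ComplexShape.up ℤ) q).IsEventuallyConstantFrom j)
    (hq₂ : (G ⋙ HomologicalComplex.eval A (ComplexShape.up ℤ) (q + 1)).IsEventuallyConstantFrom j) :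
    QuasiIsoAt (cG.ι.app j) q := by
  rw [quasiIsoAt_iff' _ (q - 1) q (q + 1) (by simp) (by simp)]
  let φ := (HomologicalComplex.shortComplexFunctor' A (ComplexShape.up ℤ)
    (q - 1) q (q + 1)).map (cG.ι.app j)
  have : IsIso φ.τ₁ := isIso_ι_f G hcG _ _ hq₀
  have : IsIso φ.τ₂ := isIso_ι_f G hcG _ _ hq₁
  have : IsIso φ.τ₃ := isIso_ι_f G hcG _ _ hq₂
  apply ShortComplex.quasiIso_of_epi_of_isIso_of_mono

end Colim

include h1 h2 h3 in
theorem main (hiso : ∀ ⦃X Y : A⦄, Nonempty (X ≅ Y) → d X = d Y) (K : CochainComplex A ℤ)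
    (hK : ∀ m : ℤ, ∃ N : ℤ, ∀ n : ℤ, n ≤ N → ∃ k : ℕ, d (K.X n) = k ∧ n + k ≤ m) :
    ∃ (L : CochainComplex A ℤ) (f : K ⟶ L), QuasiIso f ∧ ∀ n, d (L.X n) = 0 := by
  have hthr : ∀ n : ℤ, ∃ p₀ : ℕ,
      ((F d h1 K) ⋙ HomologicalComplex.eval A (ComplexShape.up ℤ) n).IsEventuallyConstantFrom p₀ ∧
        ∀ p : ℕ, p₀ ≤ p → d ((seq d h1 K p).X n) = 0 := by
    intro n
    obtain ⟨p₁, hp₁⟩ := exists_threshold d h1 h2 h3 K hK (n - 1)
    obtain ⟨p₂, hp₂⟩ := exists_threshold d h1 h2 h3 K hK n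
    refine ⟨max p₁ p₂, ?_, fun p hp => hp₂ p (le_trans (le_max_right _ _) hp)⟩
    apply isEventuallyConstantFrom_of_succ
    intro p hp
    have : ((F d h1 K) ⋙ HomologicalComplex.eval A (ComplexShape.up ℤ) n).map
        (homOfLE (Nat.le_succ p)) = (seqMap d h1 K p).f n := by
      have : (F d h1 K).map (homOfLE (Nat.le_succ p)) = seqMap d h1 K p :=
        Functor.ofSequence_map_homOfLE_succ _ p
      simp only [Functor.comp_map, HomologicalComplex.eval_map, this]
    rw [this]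
    exact isIso_stepMap_f d h1 _ n (hp₁ p (le_trans (le_max_left _ _) hp))
      (hp₂ p (le_trans (le_max_right _ _) hp))
  choose p₀ hp₀ hp₀' using hthr
  have : ∀ n, HasColimit (F d h1 K ⋙ HomologicalComplex.eval A (ComplexShape.up ℤ) n) :=
    fun n => (hp₀ n).hasColimit
  let cF := colimit.cocone (F d h1 K)
  have hcF : IsColimit cF := colimit.isColimit (F d h1 K)
  refine ⟨cF.pt, cF.ι.app 0, ?_, ?_⟩
  · rw [quasiIso_iff]
    intro q
    let j : ℕ := max (p₀ (q - 1)) (max (p₀ q) (p₀ (q + 1)))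
    let ψ : (F d h1 K).obj j ⟶ cF.pt := cF.ι.app j
    have e : cF.ι.app 0 = (F d h1 K).map (homOfLE (Nat.zero_le j)) ≫ ψ :=
      (cF.w _).symm
    rw [e]
    have := quasiIso_F_map d h1 K j
    have : QuasiIsoAt ψ q := by
      apply quasiIsoAt_ι (F d h1 K) hcF q j
      · exact (hp₀ (q - 1)).postcomp (homOfLE (le_max_left _ _))
      · exact (hp₀ q).postcomp (homOfLE (le_trans (le_max_left _ _) (le_max_right _ _)))
      · exact (hp₀ (q + 1)).postcomp (homOfLE (le_trans (le_max_right _ _) (le_max_right _ _)))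
    have h' : QuasiIsoAt ((F d h1 K).map (homOfLE (Nat.zero_le j))) q :=
      (quasiIso_F_map d h1 K j).quasiIsoAt q
    exact quasiIsoAt_comp (φ := (F d h1 K).map (homOfLE (Nat.zero_le j))) (φ' := ψ) (i := q)
      (hφ := h') (hφ' := this)
  · intro n
    have := isIso_ι_f (F d h1 K) hcF n (p₀ n) (hp₀ n)
    have e : d (cF.pt.X n) = d ((seq d h1 K (p₀ n)).X n) :=
      (hiso ⟨asIso ((cF.ι.app (p₀ n)).f n)⟩).symm
    rw [e]
    exact hp₀' n (p₀ n) le_rfl

end Groth.Agent.Helper29.SwpB
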