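import Mathlib

set_option autoImplicit false
set_option linter.unusedSectionVars false
set_option linter.unusedVariables false
set_option linter.unusedSimpArgs false

namespace Groth.Agent.Helper29.SymTensorA

open scoped TensorProduct

universe u

/-- multiplicity vector of a function -/
noncomputable def typ {m : ℕ} {J : Type*} (f : Fin m → J) : J →₀ ℕ :=
  ∑ i, Finsupp.single (f i) 1

theorem typ_apply {m : ℕ} {J : Type*} (f : Fin m → J) (j : J) :
    typ f j = Nat.card {i // f i = j} := by
  classical
  rw [typ, Finsupp.finsetSum_apply, Nat.card_eq_fintype_card, Fintype.card_subtype]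
  simp only [Finsupp.single_apply]
  rw [Finset.card_filter]

theorem exists_perm_of_typ_eq {m : ℕ} {J : Type*} {f g : Fin m → J} (h : typ f = typ g) :
    ∃ σ : Equiv.Perm (Fin m), ∀ i, f (σ i) = g i := by
  have hcard : ∀ j, Nat.card {i // g i = j} = Nat.card {i // f i = j} := by
    intro j
    rw [← typ_apply, ← typ_apply, h]
  have he : ∀ j, Nonempty ({i // g i = j} ≃ {i // f i = j}) := fun j =>
    Finite.card_eq.mp (hcard j)
  let e : ∀ j, {i // g i = j} ≃ {i // f i = j} := fun j => (he j).some
  exact ⟨Equiv.ofFiberEquiv e, fun i => Equiv.ofFiberEquiv_map e i⟩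

end Groth.Agent.Helper29.SymTensorA
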