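import Mathlib
import Groth.Agent.Lib.Helper29.SymTensorA

set_option autoImplicit false
set_option linter.unusedSectionVars false
set_option linter.unusedVariables false
set_option linter.unusedSimpArgs false

namespace Groth.Agent.Helper29.SymTensorB

open scoped TensorProduct
open SymTensorA Module

universe u

theorem typ_prod {m : ℕ} {J : Type*} {k : Type*} [CommSemiring k] (r : Fin m → J) (a : J → k) :
    (typ r).prod (fun j e => a j ^ e) = ∏ i, a (r i) := by
  classical
  rw [typ, ← Finsupp.prod_finsetSum_index]
  · apply Finset.prod_congr rfl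
    intro i _
    rw [Finsupp.prod_single_index (by simp), pow_one]
  · intro j; simp
  · intro j e₁ e₂; rw [pow_add]

theorem main13115 (k V : Type u) [Field k] [Infinite k] [AddCommGroup V] [Module k V] (m : ℕ)
    (x : ⨂[k] _ : Fin m, V)
    (hx : ∀ σ : Equiv.Perm (Fin m), PiTensorProduct.reindex k (fun _ : Fin m => V) σ x = x) :
    x ∈ Submodule.span k
      (Set.range fun v : V => PiTensorProduct.tprod k (fun _ : Fin m => v)) := by
  classical
  set U := Submodule.span k
    (Set.range fun v : V => PiTensorProduct.tprod k (fun _ : Fin m => v)) with hU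
  by_contra hxU
  obtain ⟨φ, hφx, hφU⟩ := Submodule.exists_dual_map_eq_bot_of_notMem hxU inferInstance
  have hφ0 : ∀ v : V, φ (PiTensorProduct.tprod k (fun _ : Fin m => v)) = 0 := by
    intro v
    have h1 : φ (PiTensorProduct.tprod k (fun _ : Fin m => v)) ∈ U.map φ :=
      Submodule.mem_map_of_mem (Submodule.subset_span ⟨v, rfl⟩)
    have h2 : φ (PiTensorProduct.tprod k (fun _ : Fin m => v)) ∈ (⊥ : Submodule k k) :=
      hφU ▸ h1
    exact (Submodule.mem_bot k).mp h2
  let J := Basis.ofVectorSpaceIndex k V
  let b : Basis J k V := Basis.ofVectorSpace k V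
  let B : Basis (Fin m → J) k (⨂[k] _ : Fin m, V) := Basis.piTensorProduct (fun _ => b)
  have hB : ∀ p : Fin m → J, B p = PiTensorProduct.tprod k (fun i => b (p i)) := fun p =>
    Basis.piTensorProduct_apply (fun _ => b) p
  let c := B.repr x
  have hc : ∀ (σ : Equiv.Perm (Fin m)) (f : Fin m → J), c (f ∘ σ) = c f := by
    intro σ f
    have gen : ∀ y, B.repr (PiTensorProduct.reindex k (fun _ : Fin m => V) σ y) f =
        B.repr y (f ∘ σ) := by
      intro y
      have h2 : (Finsupp.lapply f ∘ₗ B.repr.toLinearMap ∘ₗ
          (PiTensorProduct.reindex k (fun _ : Fin m => V) σ).toLinearMap) =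
          Finsupp.lapply (f ∘ σ) ∘ₗ B.repr.toLinearMap := by
        apply B.ext; intro p
        simp only [LinearMap.comp_apply, LinearEquiv.coe_toLinearMap, Finsupp.lapply_apply]
        rw [hB, PiTensorProduct.reindex_tprod]
        have h3 : (PiTensorProduct.tprod k fun i => b (p (σ.symm i))) = B (p ∘ σ.symm) := by
          rw [hB]; rfl
        rw [h3, ← hB, Basis.repr_self, Basis.repr_self, Finsupp.single_apply,
          Finsupp.single_apply]
        congr 1
        apply propext
        constructor
        · intro h; rw [← h]; funext i; simp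
        · intro h; rw [h]; funext i; simp
      exact LinearMap.congr_fun h2 y
    show B.repr x (f ∘ σ) = B.repr x f
    rw [← gen x, hx σ]
  let s := c.support
  let J₀ : Finset J := s.biUnion (fun f => Finset.univ.image f)
  let PF : Finset (Fin m → J) := Fintype.piFinset (fun _ : Fin m => J₀)
  have hsub : s ⊆ PF := by
    intro f hf
    rw [Fintype.mem_piFinset]
    intro i
    exact Finset.mem_biUnion.mpr ⟨f, hf, Finset.mem_image.mpr ⟨i, Finset.mem_univ _, rfl⟩⟩
  let p : MvPolynomial J k := ∑ r ∈ PF, MvPolynomial.monomial (typ r) (φ (B r))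
  have hp0 : p = 0 := by
    apply MvPolynomial.funext; intro a
    rw [map_zero]
    have h1 : (PiTensorProduct.tprod k (fun _ : Fin m => ∑ j ∈ J₀, a j • b j)) =
        ∑ r ∈ PF, PiTensorProduct.tprod k (fun i => a (r i) • b (r i)) :=
      MultilinearMap.map_sum_finset (PiTensorProduct.tprod k) (fun _ j => a j • b j)
        (fun _ => J₀)
    have h2 := hφ0 (∑ j ∈ J₀, a j • b j)
    rw [h1, map_sum] at h2
    rw [← h2, map_sum]
    apply Finset.sum_congr rfl; intro r _
    rw [MvPolynomial.eval_monomial, typ_prod, MultilinearMap.map_smul_univ, map_smul,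
      smul_eq_mul, hB, mul_comm]
  have hcoef : ∀ μ : J →₀ ℕ, ∑ r ∈ PF.filter (fun r => typ r = μ), φ (B r) = 0 := by
    intro μ
    have h3 := congrArg (MvPolynomial.coeff μ) hp0
    simp only [p, MvPolynomial.coeff_sum, MvPolynomial.coeff_monomial,
      MvPolynomial.coeff_zero] at h3
    rw [Finset.sum_filter]; exact h3
  have hφx' : φ x = ∑ r ∈ PF, c r * φ (B r) := by
    conv_lhs => rw [← B.linearCombination_repr x]
    rw [Finsupp.linearCombination_apply, Finsupp.sum, map_sum]
    rw [Finset.sum_subset hsub (fun r _ hr => by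
      rw [Finsupp.notMem_support_iff.mp hr, zero_smul, map_zero])]
    apply Finset.sum_congr rfl; intro r _
    rw [map_smul, smul_eq_mul]
  apply hφx
  rw [hφx', ← Finset.sum_fiberwise_of_maps_to (g := typ) (t := PF.image typ)
    (fun r hr => Finset.mem_image_of_mem _ hr)]
  apply Finset.sum_eq_zero; intro μ _
  by_cases hne : (PF.filter (fun r => typ r = μ)).Nonempty
  · obtain ⟨r₀, hr₀⟩ := hne
    have hconst : ∀ r ∈ PF.filter (fun r => typ r = μ), c r = c r₀ := by
      intro r hr
      have e1 : typ r₀ = typ r := by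
        rw [(Finset.mem_filter.mp hr₀).2, (Finset.mem_filter.mp hr).2]
      obtain ⟨σ, hσ⟩ := exists_perm_of_typ_eq e1
      have e2 : r = r₀ ∘ σ := funext (fun i => (hσ i).symm)
      rw [e2, hc]
    rw [Finset.sum_congr rfl (fun r hr => by rw [hconst r hr]), ← Finset.mul_sum, hcoef,
      mul_zero]
  · rw [Finset.not_nonempty_iff_eq_empty.mp hne, Finset.sum_empty]

end Groth.Agent.Helper29.SymTensorB
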