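import Mathlib
import Groth.Prelude.Def_W4stkadequateTF
import Groth.Agent.Lib.Helper29.TanA
import Groth.Agent.Lib.Helper29.TanB

namespace Groth.Agent.Helper29.TanC

open CategoryTheory Limits AdeqTF Groth.Agent.Helper29.TanA Groth.Agent.Helper29.TanB

universe u

variable {A : Type u} [CommRing A]

lemma row_zero (B : Adeq.Alg A) (F : Adeq.MVF A) (S : ShortComplex (ModuleCat.{u} B))
    (x : tangent B S.X₁ F) : tangentMap B F S.g (tangentMap B F S.f x) = 0 := by
  rw [← TanA.tangentMap_comp, S.zero, TanA.tangentMap_zero]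

theorem main8781 (C : ShortComplex (Adeq.MVF A))
    (hC : C.ShortExact)
    (h₁ : (∀ (B : Adeq.Alg A) (S : ShortComplex (ModuleCat.{u} B)), S.ShortExact →
        Function.Surjective (AdeqTF.tangentMap B C.X₁ S.g) ∧
          (AdeqTF.tangentMap B C.X₁ S.g).ker = (AdeqTF.tangentMap B C.X₁ S.f).range))
    (h₂ : (∀ (B : Adeq.Alg A) (S : ShortComplex (ModuleCat.{u} B)), S.ShortExact →
        Function.Surjective (AdeqTF.tangentMap B C.X₂ S.g) ∧
          (AdeqTF.tangentMap B C.X₂ S.g).ker = (AdeqTF.tangentMap B C.X₂ S.f).range)) :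
    (∀ (B : Adeq.Alg A) (S : ShortComplex (ModuleCat.{u} B)), S.ShortExact →
        Function.Surjective (AdeqTF.tangentMap B C.X₃ S.g) ∧
          (AdeqTF.tangentMap B C.X₃ S.g).ker = (AdeqTF.tangentMap B C.X₃ S.f).range) := by
  intro B S hS
  obtain ⟨hF1, hF2⟩ := h₁ B S hS
  obtain ⟨hG1, hG2⟩ := h₂ B S hS
  constructor
  · intro h2
    obtain ⟨g2, hg2⟩ := col_surj B S.X₃ C hC h2
    obtain ⟨g, hg⟩ := hG1 g2
    refine ⟨tanNat B S.X₂ C.g g, ?_⟩
    rw [← tanNat_tangentMap, hg, hg2]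
  · ext h
    rw [AddMonoidHom.mem_ker, AddMonoidHom.mem_range]
    constructor
    · intro hh
      obtain ⟨g, hg⟩ := col_surj B S.X₂ C hC h
      have e1 : tanNat B S.X₃ C.g (tangentMap B C.X₂ S.g g) = 0 := by
        rw [tanNat_tangentMap, hg, hh]
      obtain ⟨f2, hf2⟩ := col_exact B S.X₃ C hC _ e1
      obtain ⟨f, hf⟩ := hF1 f2
      have e2 : g - tanNat B S.X₂ C.f f ∈ (tangentMap B C.X₂ S.g).ker := by
        rw [AddMonoidHom.mem_ker, map_sub, ← tanNat_tangentMap, hf, hf2, sub_self]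
      rw [hG2] at e2
      obtain ⟨g1, hg1⟩ := e2
      refine ⟨tanNat B S.X₁ C.g g1, ?_⟩
      rw [← tanNat_tangentMap, hg1, map_sub, hg, col_zero, sub_zero]
    · rintro ⟨h1, rfl⟩
      exact row_zero B C.X₃ S h1

theorem main8782 (C : ShortComplex (Adeq.MVF A))
    (hC : C.ShortExact)
    (h₁ : (∀ (B : Adeq.Alg A) (S : ShortComplex (ModuleCat.{u} B)), S.ShortExact →
        Function.Surjective (AdeqTF.tangentMap B C.X₁ S.g) ∧
          (AdeqTF.tangentMap B C.X₁ S.g).ker = (AdeqTF.tangentMap B C.X₁ S.f).range))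
    (h₃ : (∀ (B : Adeq.Alg A) (S : ShortComplex (ModuleCat.{u} B)), S.ShortExact →
        Function.Surjective (AdeqTF.tangentMap B C.X₃ S.g) ∧
          (AdeqTF.tangentMap B C.X₃ S.g).ker = (AdeqTF.tangentMap B C.X₃ S.f).range)) :
    (∀ (B : Adeq.Alg A) (S : ShortComplex (ModuleCat.{u} B)), S.ShortExact →
        Function.Surjective (AdeqTF.tangentMap B C.X₂ S.g) ∧
          (AdeqTF.tangentMap B C.X₂ S.g).ker = (AdeqTF.tangentMap B C.X₂ S.f).range) := by
  intro B S hS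
  obtain ⟨hF1, hF2⟩ := h₁ B S hS
  obtain ⟨hH1, hH2⟩ := h₃ B S hS
  constructor
  · intro g2
    obtain ⟨h, hh⟩ := hH1 (tanNat B S.X₃ C.g g2)
    obtain ⟨g, hg⟩ := col_surj B S.X₂ C hC h
    have e1 : tanNat B S.X₃ C.g (g2 - tangentMap B C.X₂ S.g g) = 0 := by
      rw [map_sub, tanNat_tangentMap, hg, hh, sub_self]
    obtain ⟨f2, hf2⟩ := col_exact B S.X₃ C hC _ e1
    obtain ⟨f, hf⟩ := hF1 f2
    refine ⟨g + tanNat B S.X₂ C.f f, ?_⟩
    rw [map_add, ← tanNat_tangentMap, hf, hf2]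
    abel
  · ext g
    rw [AddMonoidHom.mem_ker, AddMonoidHom.mem_range]
    constructor
    · intro hg
      have e1 : tanNat B S.X₂ C.g g ∈ (tangentMap B C.X₃ S.g).ker := by
        rw [AddMonoidHom.mem_ker, ← tanNat_tangentMap, hg, _root_.map_zero]
      rw [hH2] at e1
      obtain ⟨h1, hh1⟩ := e1
      obtain ⟨g1, hg1⟩ := col_surj B S.X₁ C hC h1
      have e2 : tanNat B S.X₂ C.g (g - tangentMap B C.X₂ S.f g1) = 0 := by
        rw [map_sub, tanNat_tangentMap, hg1, hh1, sub_self]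
      obtain ⟨f, hf⟩ := col_exact B S.X₂ C hC _ e2
      have e3 : f ∈ (tangentMap B C.X₁ S.g).ker := by
        rw [AddMonoidHom.mem_ker]
        apply col_inj B S.X₃ C hC
        rw [tanNat_tangentMap, hf, map_sub, hg, row_zero, sub_zero, _root_.map_zero]
      rw [hF2] at e3
      obtain ⟨f1, hf1⟩ := e3
      refine ⟨g1 + tanNat B S.X₁ C.f f1, ?_⟩
      rw [map_add, ← tanNat_tangentMap, hf1, hf]
      abel
    · rintro ⟨g1, rfl⟩
      exact row_zero B C.X₂ S g1

end Groth.Agent.Helper29.TanC
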