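import Mathlib
import Groth.Agent.Lib.Helper29.TenCohB
import Groth.Agent.Lib.Helper5.LOC3
import Groth.Agent.Lib.Helper13.FinTypeRestrict

/-!
# The derived tensor product of objects of `D^-_Coh` on a locally Noetherian scheme
-/

set_option autoImplicit false
universe u
open CategoryTheory CategoryTheory.Limits AlgebraicGeometry DerivedCategory

attribute [local instance] HasDerivedCategory.standard

namespace Groth.Agent.Helper29.TenCohC

open Groth.Agent.Helper29.QcF Groth.Agent.Helper29.TenCohA Groth.Agent.Helper29.TenCohB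
  Groth.Agent.Helper13.QCohLocal Groth.Agent.Helper5 Groth.Agent.Helper5.LDer

section Factor

variable {X Y Z : Scheme.{u}}

/-- restriction along a composite -/
noncomputable def restrictFactorIso (j : Y ⟶ X) (k : Z ⟶ X) (t : Y ⟶ Z) [IsOpenImmersion j]
    [IsOpenImmersion k] [IsOpenImmersion t] (h : t ≫ k = j) (M : X.Modules) :
    (Scheme.Modules.restrictFunctor j).obj M ≅
      (Scheme.Modules.restrictFunctor t).obj ((Scheme.Modules.restrictFunctor k).obj M) := by
  subst h
  exact (Scheme.Modules.restrictFunctorComp t k).app M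

end Factor

variable {X : Scheme.{u}} [IsLocallyNoetherian X]

theorem local_case (E₀ F₀ : CochainComplex X.Modules ℤ)
    (hE₀ : DCoh.IsKFlat E₀) (hF₀ : DCoh.IsKFlat F₀)
    (hcE : ∀ i, Coh.IsCoh (E₀.homology i)) (hcF : ∀ i, Coh.IsCoh (F₀.homology i))
    (a b : ℤ) (ha : ∀ i, a < i → IsZero (E₀.homology i)) (hb : ∀ i, b < i → IsZero (F₀.homology i))
    (i : ℤ) :
    Coh.IsCoh ((T E₀ F₀).homology i) ∧ (a + b < i → IsZero ((T E₀ F₀).homology i)) := by
  have key : ∀ U : X.affineOpens,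
      Coh.IsCoh (((T E₀ F₀).homology i).restrict U.2.fromSpec) ∧
      (a + b < i → IsZero (((T E₀ F₀).homology i).restrict U.2.fromSpec)) := by
    intro U
    haveI : IsOpenImmersion U.2.fromSpec := IsAffineOpen.isOpenImmersion_fromSpec U.2
    haveI : IsNoetherianRing Γ(X, U.1) := IsLocallyNoetherian.component_noetherian U
    let j := U.2.fromSpec
    let r := (Scheme.Modules.restrictFunctor j).mapHomologicalComplex (ComplexShape.up ℤ)
    have hc : ∀ (G : CochainComplex X.Modules ℤ), (∀ i, Coh.IsCoh (G.homology i)) →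
        ∀ i, Coh.IsCoh ((r.obj G).homology i) := fun G hG i => by
      haveI := (hG i).1
      haveI := (hG i).2
      haveI := Groth.Agent.Helper13.FinType.isFiniteType_restrict j (G.homology i)
      have h1 : Coh.IsCoh ((G.homology i).restrict j) := ⟨inferInstance, inferInstance⟩
      exact Groth.Agent.Helper5.COHP.isCoh_of_iso (QcE.restrictHomologyIso j G i).symm h1
    have hz : ∀ (G : CochainComplex X.Modules ℤ) (c : ℤ), (∀ i, c < i → IsZero (G.homology i)) →
        ∀ i, c < i → IsZero ((r.obj G).homology i) := fun G c hG i hi =>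
      IsZero.of_iso ((Scheme.Modules.restrictFunctor j).map_isZero (hG i hi))
        (QcE.restrictHomologyIso j G i)
    have h1 := affine_case Γ(X, U.1) (r.obj E₀) (r.obj F₀) (isKFlat_restrict j E₀ hE₀)
      (isKFlat_restrict j F₀ hF₀) (hc E₀ hcE) (hc F₀ hcF) a b (hz E₀ a ha) (hz F₀ b hb) i
    have e : (T (r.obj E₀) (r.obj F₀)).homology i ≅
        (Scheme.Modules.restrictFunctor j).obj ((T E₀ F₀).homology i) :=
      (HomologicalComplex.homologyFunctor _ _ i).mapIso (TRS.restrictTensIso j E₀ F₀) ≪≫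
        QcE.restrictHomologyIso j _ i
    exact ⟨Groth.Agent.Helper5.COHP.isCoh_of_iso e h1.1, fun hi => IsZero.of_iso (h1.2 hi) e.symm⟩
  have hloc : ∀ x : X, ∃ V : X.affineOpens, x ∈ V.1 := by
    intro x
    obtain ⟨_, ⟨V, hV, rfl⟩, hxV, -⟩ := X.isBasis_affineOpens.exists_subset_of_mem_open
      (Set.mem_univ x) isOpen_univ
    exact ⟨⟨V, hV⟩, hxV⟩
  have hfac : ∀ V : X.affineOpens,
      (Scheme.Modules.restrictFunctor V.1.ι).obj ((T E₀ F₀).homology i) ≅
        (Scheme.Modules.restrictFunctor V.2.isoSpec.hom).obj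
          ((Scheme.Modules.restrictFunctor V.2.fromSpec).obj ((T E₀ F₀).homology i)) := fun V =>
    haveI : IsOpenImmersion V.2.fromSpec := IsAffineOpen.isOpenImmersion_fromSpec V.2
    restrictFactorIso V.1.ι V.2.fromSpec V.2.isoSpec.hom (IsAffineOpen.isoSpec_hom_fromSpec V.2) _
  refine ⟨⟨?_, ?_⟩, fun hi => ?_⟩
  · apply isQuasicoherent_of_restrict_fromSpec
    intro U
    exact (key U).1.1
  · apply Groth.Agent.Helper5.LOC.isFiniteType_of_local
    intro x
    obtain ⟨V, hxV⟩ := hloc x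
    refine ⟨V.1, hxV, ?_⟩
    haveI := (key V).1.2
    haveI := Groth.Agent.Helper13.FinType.isFiniteType_restrict V.2.isoSpec.hom
      (((T E₀ F₀).homology i).restrict V.2.fromSpec)
    exact Groth.Agent.Helper13.FinType.isFiniteType_of_epi (hfac V).inv
  · apply Groth.Agent.Helper5.LOC.isZero_of_local
    intro x
    obtain ⟨V, hxV⟩ := hloc x
    refine ⟨V.1, hxV, ?_⟩
    exact IsZero.of_iso ((Scheme.Modules.restrictFunctor V.2.isoSpec.hom).map_isZero ((key V).2 hi))
      (hfac V)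

theorem main6498 (E : CochainComplex X.Modules ℤ) [DCoh.HasLTensorCx E] (L : DCoh.D X)
    (hL : DCoh.IsCohD L) (hLb : ∃ a : ℤ, ∀ i, a < i → IsZero (DCoh.HD L i))
    (hE : DCoh.IsCohD (DCoh.toD X E))
    (hEb : ∃ b : ℤ, ∀ i, b < i → IsZero (DCoh.HD (DCoh.toD X E) i)) :
    DCoh.IsCohD ((DCoh.LTensorCx E).obj L) ∧
      ∃ n : ℤ, ∀ i, n < i → IsZero (DCoh.HD ((DCoh.LTensorCx E).obj L) i) := by
  obtain ⟨a, ha⟩ := hLb
  obtain ⟨b, hb⟩ := hEb
  obtain ⟨E₀, hE₀, ⟨e₀⟩⟩ := exists_kflat_repr L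
  have iE : ∀ i, E₀.homology i ≅ DCoh.HD L i := fun i =>
    ((DerivedCategory.homologyFunctorFactors X.Modules i).app E₀).symm ≪≫
      (DerivedCategory.homologyFunctor X.Modules i).mapIso e₀
  let F₀ := (KP X).obj E
  have hF₀ : DCoh.IsKFlat F₀ := KP_isKFlat E
  haveI := Kψ_quasiIso E
  let eF : Q.obj F₀ ≅ Q.obj E := asIso (Q.map ((Kψ X).app E))
  have iF : ∀ i, F₀.homology i ≅ DCoh.HD (DCoh.toD X E) i := fun i =>
    ((DerivedCategory.homologyFunctorFactors X.Modules i).app F₀).symm ≪≫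
      (DerivedCategory.homologyFunctor X.Modules i).mapIso eF
  have h1 := local_case E₀ F₀ hE₀ hF₀
    (fun i => Groth.Agent.Helper5.COHP.isCoh_of_iso (iE i).symm (hL i))
    (fun i => Groth.Agent.Helper5.COHP.isCoh_of_iso (iF i).symm (hE i)) a b
    (fun i hi => IsZero.of_iso (ha i hi) (iE i)) (fun i hi => IsZero.of_iso (hb i hi) (iF i))
  haveI := CXB.isIso_counit_tensorCxQ E E₀ hE₀
  let c := asIso (((DCoh.tensorCxQ E).totalLeftDerivedCounit DerivedCategory.Q
      (HomologicalComplex.quasiIso X.Modules (ComplexShape.up ℤ))).app E₀)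
  have e4 : Q.obj (T E₀ F₀) ≅ Q.obj (T E₀ E) :=
    Q.mapIso (CXB.braidCx E₀ F₀) ≪≫ TRS.tensQIsoRight E₀ hE₀ eF ≪≫
      Q.mapIso (CXB.braidCx E E₀)
  have e : ∀ i, (T E₀ F₀).homology i ≅ DCoh.HD ((DCoh.LTensorCx E).obj L) i := fun i =>
    ((DerivedCategory.homologyFunctorFactors X.Modules i).app _).symm ≪≫
      (DerivedCategory.homologyFunctor X.Modules i).mapIso
        (e4 ≪≫ c.symm ≪≫ (DCoh.LTensorCx E).mapIso e₀)
  exact ⟨fun i => Groth.Agent.Helper5.COHP.isCoh_of_iso (e i) (h1 i).1,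
    a + b, fun i hi => IsZero.of_iso ((h1 i).2 hi) (e i).symm⟩

end Groth.Agent.Helper29.TenCohC
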