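import Mathlib
import Groth.Prelude.Def_ModSite
import Groth.Agent.Lib.Helper17.MT10

/-!
# Tensor products of sheaves of modules: cokernel bookkeeping and `free I ⊗ free J ≅ free (I × J)`
-/

open CategoryTheory Limits MonoidalCategory Opposite

namespace Groth.Agent.Helper29.TensA

open Groth.Agent.Helper17.MT

universe u

section IsCok

variable {𝒜 : Type*} [Category 𝒜] [HasZeroMorphisms 𝒜]

/-- `e` is a cokernel of `r` -/
def IsCok {R P Q : 𝒜} (r : R ⟶ P) (e : P ⟶ Q) : Prop :=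
  ∃ w : r ≫ e = 0, Nonempty (IsColimit (CokernelCofork.ofπ e w))

namespace IsCok

variable {R P Q : 𝒜} {r : R ⟶ P} {e : P ⟶ Q}

theorem w (h : IsCok r e) : r ≫ e = 0 := h.1

theorem epi (h : IsCok r e) : Epi e := by
  obtain ⟨w, ⟨hc⟩⟩ := h
  exact epi_of_isColimit_cofork hc

theorem exists_desc (h : IsCok r e) {T : 𝒜} (g : P ⟶ T) (hg : r ≫ g = 0) :
    ∃ g' : Q ⟶ T, e ≫ g' = g := by
  obtain ⟨w, ⟨hc⟩⟩ := h
  exact ⟨CokernelCofork.IsColimit.desc' hc g hg |>.1, CokernelCofork.IsColimit.desc' hc g hg |>.2⟩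

theorem mk' (w : r ≫ e = 0) (he : Epi e)
    (hd : ∀ {T : 𝒜} (g : P ⟶ T), r ≫ g = 0 → ∃ g' : Q ⟶ T, e ≫ g' = g) : IsCok r e := by
  refine ⟨w, ⟨CokernelCofork.IsColimit.ofπ e w (fun g hg => (hd g hg).choose)
    (fun g hg => (hd g hg).choose_spec) ?_⟩⟩
  intro T g hg b hb
  rw [← cancel_epi e, hb, (hd g hg).choose_spec]

theorem of_isColimit {w : r ≫ e = 0} (hc : IsColimit (CokernelCofork.ofπ e w)) : IsCok r e :=
  ⟨w, ⟨hc⟩⟩

/-- change the middle object by an isomorphism -/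
theorem conj_mid (h : IsCok r e) {P' : 𝒜} (a : P' ≅ P) : IsCok (r ≫ a.inv) (a.hom ≫ e) := by
  have := h.epi
  refine mk' (by simp [h.w]) (epi_comp _ _) ?_
  intro T g hg
  obtain ⟨g', hg'⟩ := h.exists_desc (a.inv ≫ g) (by simpa using hg)
  exact ⟨g', by rw [Category.assoc, hg', a.hom_inv_id_assoc]⟩

/-- change the target by an isomorphism -/
theorem comp_iso (h : IsCok r e) {Q' : 𝒜} (b : Q ≅ Q') : IsCok r (e ≫ b.hom) := by
  have := h.epi
  refine mk' (by rw [← Category.assoc, h.w, zero_comp]) (epi_comp _ _) ?_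
  intro T g hg
  obtain ⟨g', hg'⟩ := h.exists_desc g hg
  exact ⟨b.inv ≫ g', by simp [hg']⟩

/-- only the maps killed by `r` matter -/
theorem of_kills_iff (h : IsCok r e) {R' : 𝒜} (r' : R' ⟶ P)
    (hk : ∀ {T : 𝒜} (g : P ⟶ T), r' ≫ g = 0 ↔ r ≫ g = 0) : IsCok r' e := by
  have := h.epi
  refine mk' ((hk e).mpr h.w) h.epi ?_
  intro T g hg
  exact h.exists_desc g ((hk g).mp hg)

/-- a functor preserving the cokernel maps cokernels to cokernels -/
theorem map {ℬ : Type*} [Category ℬ] [HasZeroMorphisms ℬ] (h : IsCok r e) (G : 𝒜 ⥤ ℬ)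
    [G.PreservesZeroMorphisms] [PreservesColimit (parallelPair r 0) G] :
    IsCok (G.map r) (G.map e) := by
  obtain ⟨w, ⟨hc⟩⟩ := h
  exact ⟨by rw [← G.map_comp, w, G.map_zero],
    ⟨(CokernelCofork.mapIsColimit (CokernelCofork.ofπ e w) hc G :)⟩⟩

/-- two-step cokernels: if `e₁ = coker r₁`, `e₂ = coker r₂`, and `r₂` lifts (up to an
epimorphism `q`) to `r₂'`, then `e₁ ≫ e₂` is a cokernel of any `ρ` killing the same maps as
`r₁` and `r₂'` jointly. -/
theorem comp {R₁ R₂ R₂' P Q T R : 𝒜} {r₁ : R₁ ⟶ P} {e₁ : P ⟶ Q} {r₂ : R₂ ⟶ Q} {e₂ : Q ⟶ T}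
    (h₁ : IsCok r₁ e₁) (h₂ : IsCok r₂ e₂) (r₂' : R₂' ⟶ P) (q : R₂' ⟶ R₂) [Epi q]
    (hq : r₂' ≫ e₁ = q ≫ r₂) (ρ : R ⟶ P)
    (hρ : ∀ {T' : 𝒜} (g : P ⟶ T'), ρ ≫ g = 0 ↔ (r₁ ≫ g = 0 ∧ r₂' ≫ g = 0)) :
    IsCok ρ (e₁ ≫ e₂) := by
  have := h₁.epi
  have := h₂.epi
  refine mk' ?_ (epi_comp _ _) ?_
  · rw [hρ]
    refine ⟨by rw [← Category.assoc, h₁.w, zero_comp], ?_⟩
    rw [← Category.assoc, hq, Category.assoc, h₂.w, comp_zero]
  · intro T' g hg
    obtain ⟨hg1, hg2⟩ := (hρ g).mp hg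
    obtain ⟨g', hg'⟩ := h₁.exists_desc g hg1
    have h0 : r₂ ≫ g' = 0 := by
      rw [← cancel_epi q, comp_zero, ← Category.assoc, ← hq, Category.assoc, hg', hg2]
    obtain ⟨g'', hg''⟩ := h₂.exists_desc g' h0
    exact ⟨g'', by rw [Category.assoc, hg'', hg']⟩

end IsCok

end IsCok

section Tens

variable {C : Type u} [SmallCategory C] {J : GrothendieckTopology C} (O : Sheaf J CommRingCat.{u})

/-- `A ⊗ B` -/
noncomputable abbrev tObj (A B : ModSite.Mod O) : ModSite.Mod O :=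
  ((ModSite.tensorBi O).obj A).obj B

variable {O}

/-- `f ⊗ g` -/
noncomputable def tHom {A A' B B' : ModSite.Mod O} (f : A ⟶ A') (g : B ⟶ B') :
    tObj O A B ⟶ tObj O A' B' :=
  (TR O B).map f ≫ (TL O A').map g

theorem tHom_eq' {A A' B B' : ModSite.Mod O} (f : A ⟶ A') (g : B ⟶ B') :
    tHom f g = (TL O A).map g ≫ (TR O B').map f :=
  (((ModSite.tensorBi O).map f).naturality g).symm

theorem tHom_id_right {A A' : ModSite.Mod O} (f : A ⟶ A') (B : ModSite.Mod O) :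
    tHom f (𝟙 B) = (TR O B).map f := by
  rw [tHom, CategoryTheory.Functor.map_id]
  exact Category.comp_id _

theorem tHom_id_left (A : ModSite.Mod O) {B B' : ModSite.Mod O} (g : B ⟶ B') :
    tHom (𝟙 A) g = (TL O A).map g := by
  rw [tHom, CategoryTheory.Functor.map_id]
  exact Category.id_comp _

theorem tHom_comp {A A' A'' B B' B'' : ModSite.Mod O} (f : A ⟶ A') (f' : A' ⟶ A'')
    (g : B ⟶ B') (g' : B' ⟶ B'') :
    tHom (f ≫ f') (g ≫ g') = tHom f g ≫ tHom f' g' := by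
  have h : (TL O A').map g ≫ (TR O B').map f' = (TR O B).map f' ≫ (TL O A'').map g :=
    (tHom_eq' f' g).symm
  simp only [tHom, Functor.map_comp, Category.assoc]
  rw [← Category.assoc ((TL O A').map g), h]
  simp only [Category.assoc]

instance epi_TR_map (B : ModSite.Mod O) {A A' : ModSite.Mod O} (f : A ⟶ A') [Epi f] :
    Epi ((TR O B).map f) := inferInstance

instance epi_TL_map (A : ModSite.Mod O) {B B' : ModSite.Mod O} (g : B ⟶ B') [Epi g] :
    Epi ((TL O A).map g) := inferInstance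

instance epi_tHom {A A' B B' : ModSite.Mod O} (f : A ⟶ A') (g : B ⟶ B') [Epi f] [Epi g] :
    Epi (tHom f g) := by
  unfold tHom
  exact epi_comp _ _

instance isIso_tHom {A A' B B' : ModSite.Mod O} (f : A ⟶ A') (g : B ⟶ B') [IsIso f] [IsIso g] :
    IsIso (tHom f g) := by
  unfold tHom
  infer_instance

end Tens

end Groth.Agent.Helper29.TensA
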