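import Mathlib
import Groth.Prelude.Def_ModSite
import Groth.Agent.Lib.Helper17.MT10
import Groth.Agent.Lib.Helper29.TensA

/-!
# Generating sections and presentations of a tensor product of sheaves of modules
-/

open CategoryTheory Limits MonoidalCategory Opposite

namespace Groth.Agent.Helper29.TensB

open Groth.Agent.Helper17.MT Groth.Agent.Helper29.TensA

universe u

variable {C : Type u} [SmallCategory C] {J : GrothendieckTopology C} (O : Sheaf J CommRingCat.{u})

/-- `free I ⊗ N ≅ ∐_I N` -/
noncomputable def freeTensIso (I : Type u) (N : ModSite.Mod O) :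
    tObj O (SheafOfModules.free (R := ModSite.ringSh O) I) N ≅ ∐ (fun _ : I => N) :=
  PreservesCoproduct.iso (TR O N) (fun _ : I => SheafOfModules.unit (ModSite.ringSh O)) ≪≫
    Sigma.mapIso (fun _ => (TLunitIso O).app N)

/-- `free (I × K) ≅ free I ⊗ free K` -/
noncomputable def freeProdIso (I K : Type u) :
    SheafOfModules.free (R := ModSite.ringSh O) (I × K) ≅
      tObj O (SheafOfModules.free (R := ModSite.ringSh O) I)
        (SheafOfModules.free (R := ModSite.ringSh O) K) :=
  (freeTensIso O I (SheafOfModules.free (R := ModSite.ringSh O) K) ≪≫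
    @sigmaSigmaIso _ _ I (fun _ : I => K) (fun _ _ => SheafOfModules.unit (ModSite.ringSh O))
      (fun _ => inferInstanceAs
        (HasCoproduct (fun _ : K => SheafOfModules.unit (ModSite.ringSh O))))
      (inferInstanceAs (HasCoproduct (fun _ : I =>
        ∐ (fun _ : K => SheafOfModules.unit (ModSite.ringSh O))))) ≪≫
    Sigma.whiskerEquiv (f := fun _ : (Σ _ : I, K) => SheafOfModules.unit (ModSite.ringSh O))
      (g := fun _ : I × K => SheafOfModules.unit (ModSite.ringSh O))
      (Equiv.sigmaEquivProd I K) (fun _ => Iso.refl _)).symm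

variable {O}

section Gen

variable {A B : ModSite.Mod O}

/-- generating sections of a tensor product -/
noncomputable def genTens (σ : A.GeneratingSections) (τ : B.GeneratingSections) :
    (tObj O A B).GeneratingSections where
  I := σ.I × τ.I
  s := (tObj O A B).freeHomEquiv ((freeProdIso O σ.I τ.I).hom ≫ tHom σ.π τ.π)
  epi := by
    rw [Equiv.symm_apply_apply]
    infer_instance

theorem genTens_π (σ : A.GeneratingSections) (τ : B.GeneratingSections) :
    (genTens σ τ).π = (freeProdIso O σ.I τ.I).hom ≫ tHom σ.π τ.π :=
  Equiv.symm_apply_apply _ _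

instance isIso_genTens_π (σ : A.GeneratingSections) (τ : B.GeneratingSections)
    [IsIso σ.π] [IsIso τ.π] : IsIso (genTens σ τ).π := by
  rw [genTens_π]
  have : IsIso (tHom σ.π τ.π) := isIso_tHom _ _
  exact IsIso.comp_isIso

instance isFiniteType_genTens (σ : A.GeneratingSections) (τ : B.GeneratingSections)
    [σ.IsFiniteType] [τ.IsFiniteType] : (genTens σ τ).IsFiniteType where
  finite := inferInstanceAs (Finite (σ.I × τ.I))

end Gen

section SumDesc

variable {X Y : Type u} {P T : ModSite.Mod O}

/-- the morphism out of `free (X ⊕ Y)` induced by two morphisms -/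
noncomputable def sumDesc (a : SheafOfModules.free (R := ModSite.ringSh O) X ⟶ P)
    (b : SheafOfModules.free (R := ModSite.ringSh O) Y ⟶ P) :
    SheafOfModules.free (R := ModSite.ringSh O) (X ⊕ Y) ⟶ P :=
  P.freeHomEquiv.symm (Sum.elim (P.freeHomEquiv a) (P.freeHomEquiv b))

theorem free_comp_eq_iff {Z : Type u} (a : SheafOfModules.free (R := ModSite.ringSh O) Z ⟶ P)
    (g g' : P ⟶ T) :
    a ≫ g = a ≫ g' ↔ ∀ z, SheafOfModules.sectionsMap g (P.freeHomEquiv a z) =
      SheafOfModules.sectionsMap g' (P.freeHomEquiv a z) := by
  rw [← (T.freeHomEquiv).apply_eq_iff_eq, funext_iff]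
  rfl

theorem sumDesc_comp_eq_iff (a : SheafOfModules.free (R := ModSite.ringSh O) X ⟶ P)
    (b : SheafOfModules.free (R := ModSite.ringSh O) Y ⟶ P) (g g' : P ⟶ T) :
    sumDesc a b ≫ g = sumDesc a b ≫ g' ↔ (a ≫ g = a ≫ g' ∧ b ≫ g = b ≫ g') := by
  rw [free_comp_eq_iff, free_comp_eq_iff, free_comp_eq_iff]
  have h : P.freeHomEquiv (sumDesc a b) = Sum.elim (P.freeHomEquiv a) (P.freeHomEquiv b) :=
    Equiv.apply_symm_apply _ _
  rw [h]
  constructor
  · intro hz
    exact ⟨fun x => hz (Sum.inl x), fun y => hz (Sum.inr y)⟩
  · rintro ⟨h1, h2⟩ (x | y)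
    · exact h1 x
    · exact h2 y

theorem sumDesc_comp_eq_zero_iff (a : SheafOfModules.free (R := ModSite.ringSh O) X ⟶ P)
    (b : SheafOfModules.free (R := ModSite.ringSh O) Y ⟶ P) (g : P ⟶ T) :
    sumDesc a b ≫ g = 0 ↔ (a ≫ g = 0 ∧ b ≫ g = 0) := by
  have := sumDesc_comp_eq_iff a b g 0
  simpa only [comp_zero] using this

end SumDesc

section Pres

variable {A B : ModSite.Mod O}

/-- the relations morphism of a presentation -/
noncomputable def presRel (P : A.Presentation) :
    SheafOfModules.free (R := ModSite.ringSh O) P.relations.I ⟶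
      SheafOfModules.free (R := ModSite.ringSh O) P.generators.I :=
  (SheafOfModules.freeHomEquiv _).symm P.relations.s ≫ kernel.ι _

theorem presRel_isCok (P : A.Presentation) : IsCok (presRel P) P.generators.π :=
  IsCok.of_isColimit P.isColimit

/-- the relations of the tensor product of two presentations -/
noncomputable def tensRel (P : A.Presentation) (Q : B.Presentation) :
    SheafOfModules.free (R := ModSite.ringSh O)
        ((P.relations.I × Q.generators.I) ⊕ (P.generators.I × Q.relations.I)) ⟶
      tObj O (SheafOfModules.free (R := ModSite.ringSh O) P.generators.I)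
        (SheafOfModules.free (R := ModSite.ringSh O) Q.generators.I) :=
  sumDesc ((freeProdIso O P.relations.I Q.generators.I).hom ≫ tHom (presRel P) (𝟙 _))
    ((freeProdIso O P.generators.I Q.relations.I).hom ≫ tHom (𝟙 _) (presRel Q))

theorem isCok_tens (P : A.Presentation) (Q : B.Presentation) :
    IsCok (tensRel P Q) (tHom P.generators.π Q.generators.π) := by
  have h₁ : IsCok (tHom (presRel P) (𝟙 (SheafOfModules.free (R := ModSite.ringSh O) Q.generators.I)))
      (tHom P.generators.π (𝟙 (SheafOfModules.free (R := ModSite.ringSh O) Q.generators.I))) := by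
    rw [tHom_id_right, tHom_id_right]
    exact (presRel_isCok P).map (TR O _)
  have h₂ : IsCok (tHom (𝟙 A) (presRel Q)) (tHom (𝟙 A) Q.generators.π) := by
    rw [tHom_id_left, tHom_id_left]
    exact (presRel_isCok Q).map (TL O _)
  have hcomp : tHom P.generators.π Q.generators.π =
      tHom P.generators.π (𝟙 _) ≫ tHom (𝟙 A) Q.generators.π := by
    rw [← tHom_comp, Category.comp_id, Category.id_comp]
  rw [hcomp]
  refine IsCok.comp h₁ h₂ (tHom (𝟙 _) (presRel Q)) (tHom P.generators.π (𝟙 _)) ?_ _ ?_
  · rw [← tHom_comp, ← tHom_comp, Category.comp_id, Category.id_comp, Category.comp_id,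
      Category.id_comp]
  · intro T' g
    rw [tensRel, sumDesc_comp_eq_zero_iff, Category.assoc, Category.assoc]
    constructor
    · rintro ⟨h1, h2⟩
      constructor
      · rw [← cancel_epi (freeProdIso O P.relations.I Q.generators.I).hom, h1, comp_zero]
      · rw [← cancel_epi (freeProdIso O P.generators.I Q.relations.I).hom, h2, comp_zero]
    · rintro ⟨h1, h2⟩
      rw [h1, h2, comp_zero, comp_zero]
      exact ⟨rfl, rfl⟩

/-- the relations of the tensor product, as a morphism of free modules -/
noncomputable def tensRel' (P : A.Presentation) (Q : B.Presentation) :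
    SheafOfModules.free (R := ModSite.ringSh O)
        ((P.relations.I × Q.generators.I) ⊕ (P.generators.I × Q.relations.I)) ⟶
      SheafOfModules.free (R := ModSite.ringSh O) (P.generators.I × Q.generators.I) :=
  tensRel P Q ≫ (freeProdIso O P.generators.I Q.generators.I).inv

/-- the generators of the tensor product, as a morphism from a free module -/
noncomputable def tensGen' (P : A.Presentation) (Q : B.Presentation) :
    SheafOfModules.free (R := ModSite.ringSh O) (P.generators.I × Q.generators.I) ⟶ tObj O A B :=
  (freeProdIso O P.generators.I Q.generators.I).hom ≫ tHom P.generators.π Q.generators.π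

theorem isCok_tens' (P : A.Presentation) (Q : B.Presentation) :
    IsCok (tensRel' P Q) (tensGen' P Q) :=
  (isCok_tens P Q).conj_mid _

/-- a presentation of the tensor product -/
noncomputable def presTens (P : A.Presentation) (Q : B.Presentation) :
    (tObj O A B).Presentation :=
  SheafOfModules.presentationOfIsCokernelFree (tensRel' P Q) (tensGen' P Q)
    (isCok_tens' P Q).w (isCok_tens' P Q).2.some

instance isFinite_presTens (P : A.Presentation) (Q : B.Presentation) [P.IsFinite] [Q.IsFinite] :
    (presTens P Q).IsFinite where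
  isFiniteType_generators := ⟨inferInstanceAs (Finite (P.generators.I × Q.generators.I))⟩
  isFiniteType_relations := ⟨inferInstanceAs
    (Finite ((P.relations.I × Q.generators.I) ⊕ (P.generators.I × Q.relations.I)))⟩

end Pres

end Groth.Agent.Helper29.TensB
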