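import Mathlib
import Groth.Prelude.Def_ModSite

/-!
# Restricting generating sections and presentations of `M.over U` along `V ⟶ U`
-/

open CategoryTheory Limits Opposite

namespace Groth.Agent.Helper29.TensC

universe u

variable {C : Type u} [SmallCategory C] [HasPullbacks C] {J : GrothendieckTopology C}
  {R : Sheaf J RingCat.{u}}

section

variable (M : SheafOfModules.{u} R) {U V : C} (f : V ⟶ U)

/-- `(M|_U)|_V ≅ M|_V` -/
noncomputable def overIso : (SheafOfModules.overMap.{u} R f).obj (M.over U) ≅ M.over V :=
  (SheafOfModules.overFunctorMap.{u} R f).app M

/-- restriction of generating sections -/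
noncomputable def restrGen (σ : (M.over U).GeneratingSections) : (M.over V).GeneratingSections :=
  (σ.map (SheafOfModules.overMap.{u} R f) (SheafOfModules.overMapUnitIso f).symm).ofEpi
    (overIso M f).hom

instance isFiniteType_restrGen (σ : (M.over U).GeneratingSections) [σ.IsFiniteType] :
    (restrGen M f σ).IsFiniteType := by
  unfold restrGen
  infer_instance

instance isIso_restrGen_π (σ : (M.over U).GeneratingSections) [IsIso σ.π] :
    IsIso (restrGen M f σ).π := by
  unfold restrGen
  rw [SheafOfModules.GeneratingSections.ofEpi_π]
  have : IsIso (σ.map (SheafOfModules.overMap.{u} R f)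
      (SheafOfModules.overMapUnitIso f).symm).π := by
    rw [SheafOfModules.GeneratingSections.map_π_eq]
    exact IsIso.comp_isIso
  exact @IsIso.comp_isIso _ _ _ _ _ _ _ this (Iso.isIso_hom _)

/-- restriction of presentations -/
noncomputable def restrPres (P : (M.over U).Presentation) : (M.over V).Presentation :=
  (P.map (SheafOfModules.overMap.{u} R f) (SheafOfModules.overMapUnitIso f).symm).ofIsIso
    (overIso M f).hom

instance isFinite_map (P : (M.over U).Presentation) [P.IsFinite] :
    (P.map (SheafOfModules.overMap.{u} R f) (SheafOfModules.overMapUnitIso f).symm).IsFinite where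
  isFiniteType_generators := ⟨inferInstanceAs (Finite P.generators.I)⟩
  isFiniteType_relations := ⟨inferInstanceAs (Finite P.relations.I)⟩

instance isFinite_restrPres (P : (M.over U).Presentation) [P.IsFinite] :
    (restrPres M f P).IsFinite := by
  unfold restrPres
  infer_instance

end

end Groth.Agent.Helper29.TensC
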