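import Mathlib
import Groth.Prelude.Def_ModSite
import Groth.Agent.Lib.Helper17.MT10
import Groth.Agent.Lib.Helper29.TensB
import Groth.Agent.Lib.Helper29.TensC

/-!
# Permanence of local properties of modules under tensor product on a ringed space
-/

open CategoryTheory Limits Opposite TopologicalSpace

namespace Groth.Agent.Helper29.TensD

open Groth.Agent.Helper17.MT Groth.Agent.Helper29.TensA Groth.Agent.Helper29.TensB
  Groth.Agent.Helper29.TensC

universe u

variable {X : TopCat.{u}} (O : Sheaf (Opens.grothendieckTopology X) CommRingCat.{u})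

theorem coversTop_inf {I I' : Type u} (Y : I → Opens X) (Y' : I' → Opens X)
    (h : (Opens.grothendieckTopology X).CoversTop Y)
    (h' : (Opens.grothendieckTopology X).CoversTop Y') :
    (Opens.grothendieckTopology X).CoversTop (fun ij : I × I' => Y ij.1 ⊓ Y' ij.2) := by
  intro W x hx
  obtain ⟨U₁, f₁, ⟨i, ⟨g₁⟩⟩, hx₁⟩ := h W x hx
  obtain ⟨U₂, f₂, ⟨j, ⟨g₂⟩⟩, hx₂⟩ := h' W x hx
  exact ⟨U₁ ⊓ U₂, homOfLE (inf_le_left.trans (leOfHom f₁)),
    ⟨(i, j), ⟨homOfLE (inf_le_inf (leOfHom g₁) (leOfHom g₂))⟩⟩, ⟨hx₁, hx₂⟩⟩

variable (F G : ModSite.Mod O)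

/-- restriction commutes with the tensor product -/
noncomputable def restrTensIso (W : Opens X) :
    (ModSite.restr O W).obj (tObj O F G) ≅
      tObj (O.over W) ((ModSite.restr O W).obj F) ((ModSite.restr O W).obj G) :=
  (main6154 O W F G).some

variable {F G}

/-- generating sections of `(F ⊗ G)|_W` from those of `F|_W` and `G|_W` -/
noncomputable def genOver (W : Opens X) (σ : (F.over W).GeneratingSections)
    (τ : (G.over W).GeneratingSections) : ((tObj O F G).over W).GeneratingSections :=
  (genTens (O := O.over W) σ τ).ofEpi (restrTensIso O F G W).inv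

instance isFiniteType_genOver (W : Opens X) (σ : (F.over W).GeneratingSections)
    (τ : (G.over W).GeneratingSections) [σ.IsFiniteType] [τ.IsFiniteType] :
    (genOver O W σ τ).IsFiniteType :=
  ⟨inferInstanceAs (Finite (σ.I × τ.I))⟩

instance isIso_genOver_π (W : Opens X) (σ : (F.over W).GeneratingSections)
    (τ : (G.over W).GeneratingSections) [hσ : IsIso σ.π] [hτ : IsIso τ.π] :
    IsIso (genOver O W σ τ).π := by
  have h : (genOver O W σ τ).π =
      (genTens (O := O.over W) σ τ).π ≫ (restrTensIso O F G W).inv :=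
    SheafOfModules.GeneratingSections.ofEpi_π _ _
  rw [h]
  have : IsIso (genTens (O := O.over W) σ τ).π :=
    @isIso_genTens_π _ _ _ (O.over W) _ _ σ τ hσ hτ
  exact @IsIso.comp_isIso _ _ _ _ _ _ _ this (Iso.isIso_inv _)

/-- a presentation of `(F ⊗ G)|_W` from those of `F|_W` and `G|_W` -/
noncomputable def presOver (W : Opens X) (P : (F.over W).Presentation)
    (Q : (G.over W).Presentation) : ((tObj O F G).over W).Presentation :=
  (presTens (O := O.over W) P Q).ofIsIso (restrTensIso O F G W).inv

instance isFinite_presOver (W : Opens X) (P : (F.over W).Presentation)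
    (Q : (G.over W).Presentation) [P.IsFinite] [Q.IsFinite] : (presOver O W P Q).IsFinite where
  isFiniteType_generators := ⟨inferInstanceAs (Finite (P.generators.I × Q.generators.I))⟩
  isFiniteType_relations := ⟨inferInstanceAs
    (Finite ((P.relations.I × Q.generators.I) ⊕ (P.generators.I × Q.relations.I)))⟩

/-- local generators of a tensor product -/
noncomputable def lgdTens (p : SheafOfModules.LocalGeneratorsData.{u} (R := ModSite.ringSh O) F)
    (q : SheafOfModules.LocalGeneratorsData.{u} (R := ModSite.ringSh O) G) :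
    SheafOfModules.LocalGeneratorsData.{u} (R := ModSite.ringSh O) (tObj O F G) where
  I := p.I × q.I
  X ij := p.X ij.1 ⊓ q.X ij.2
  coversTop := coversTop_inf p.X q.X p.coversTop q.coversTop
  generators ij := genOver O (p.X ij.1 ⊓ q.X ij.2)
    (restrGen F (homOfLE inf_le_left) (p.generators ij.1))
    (restrGen G (homOfLE inf_le_right) (q.generators ij.2))

instance isFiniteType_lgdTens (p : SheafOfModules.LocalGeneratorsData.{u} (R := ModSite.ringSh O) F)
    (q : SheafOfModules.LocalGeneratorsData.{u} (R := ModSite.ringSh O) G) [hp : p.IsFiniteType] [hq : q.IsFiniteType] :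
    (lgdTens O p q).IsFiniteType where
  isFiniteType ij := by
    have := hp.isFiniteType ij.1
    have := hq.isFiniteType ij.2
    exact isFiniteType_genOver O _ _ _

instance isLocallyFreeData_lgdTens (p : SheafOfModules.LocalGeneratorsData.{u} (R := ModSite.ringSh O) F)
    (q : SheafOfModules.LocalGeneratorsData.{u} (R := ModSite.ringSh O) G) [hp : p.IsLocallyFreeData]
    [hq : q.IsLocallyFreeData] : (lgdTens O p q).IsLocallyFreeData where
  isIso ij := by
    have := hp.isIso ij.1
    have := hq.isIso ij.2
    exact isIso_genOver_π O _ _ _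

/-- quasi-coherent data of a tensor product -/
noncomputable def qcdTens (p : SheafOfModules.QuasicoherentData.{u} (R := ModSite.ringSh O) F)
    (q : SheafOfModules.QuasicoherentData.{u} (R := ModSite.ringSh O) G) :
    SheafOfModules.QuasicoherentData.{u} (R := ModSite.ringSh O) (tObj O F G) where
  I := p.I × q.I
  X ij := p.X ij.1 ⊓ q.X ij.2
  coversTop := coversTop_inf p.X q.X p.coversTop q.coversTop
  presentation ij := presOver O (p.X ij.1 ⊓ q.X ij.2)
    (restrPres F (homOfLE inf_le_left) (p.presentation ij.1))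
    (restrPres G (homOfLE inf_le_right) (q.presentation ij.2))

instance isFinitePresentation_qcdTens (p : SheafOfModules.QuasicoherentData.{u} (R := ModSite.ringSh O) F)
    (q : SheafOfModules.QuasicoherentData.{u} (R := ModSite.ringSh O) G) [hp : p.IsFinitePresentation]
    [hq : q.IsFinitePresentation] : (qcdTens O p q).IsFinitePresentation where
  isFinite_presentation ij := by
    have := hp.isFinite_presentation ij.1
    have := hq.isFinite_presentation ij.2
    exact isFinite_presOver O _ _ _

theorem main6850 (F G : ModSite.Mod O) :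
    (Nonempty (SheafOfModules.LocalGeneratorsData.{u} (R := ModSite.ringSh O) F) →
        Nonempty (SheafOfModules.LocalGeneratorsData.{u} (R := ModSite.ringSh O) G) →
          Nonempty (SheafOfModules.LocalGeneratorsData.{u} (R := ModSite.ringSh O) (((ModSite.tensorBi O).obj F).obj G))) ∧
      (SheafOfModules.IsFiniteType (R := ModSite.ringSh O) F → SheafOfModules.IsFiniteType (R := ModSite.ringSh O) G →
        SheafOfModules.IsFiniteType (R := ModSite.ringSh O) (((ModSite.tensorBi O).obj F).obj G)) ∧
      (SheafOfModules.IsQuasicoherent (R := ModSite.ringSh O) F →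
        SheafOfModules.IsQuasicoherent (R := ModSite.ringSh O) G →
          SheafOfModules.IsQuasicoherent (R := ModSite.ringSh O) (((ModSite.tensorBi O).obj F).obj G)) ∧
      (SheafOfModules.IsFinitePresentation (R := ModSite.ringSh O) F →
        SheafOfModules.IsFinitePresentation (R := ModSite.ringSh O) G →
          SheafOfModules.IsFinitePresentation (R := ModSite.ringSh O) (((ModSite.tensorBi O).obj F).obj G)) ∧
      (SheafOfModules.IsLocallyFree (R := ModSite.ringSh O) F → SheafOfModules.IsLocallyFree (R := ModSite.ringSh O) G →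
        SheafOfModules.IsLocallyFree (R := ModSite.ringSh O) (((ModSite.tensorBi O).obj F).obj G)) := by
  refine ⟨?_, ?_, ?_, ?_, ?_⟩
  · rintro ⟨p⟩ ⟨q⟩
    exact ⟨lgdTens O p q⟩
  · rintro ⟨p, hp⟩ ⟨q, hq⟩
    exact { exists_localGeneratorsData := ⟨lgdTens O p q, isFiniteType_lgdTens O p q⟩ }
  · rintro ⟨⟨p⟩⟩ ⟨⟨q⟩⟩
    exact { nonempty_quasicoherentData := ⟨qcdTens O p q⟩ }
  · rintro ⟨p, hp⟩ ⟨q, hq⟩
    exact { exists_quasicoherentData := ⟨qcdTens O p q, isFinitePresentation_qcdTens O p q⟩ }
  · rintro ⟨p, hp⟩ ⟨q, hq⟩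
    exact { exists_isLocallyFreeData := ⟨lgdTens O p q, isLocallyFreeData_lgdTens O p q⟩ }

end Groth.Agent.Helper29.TensD
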