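import Mathlib.CategoryTheory.Sites.PrecoverageToGrothendieck
import Mathlib.CategoryTheory.Sites.Hypercover.Zero

/-!
# The topology generated by two precoverages `P`, `P'` (SGA3 IV 6.2.1): covering sieves
-/

set_option autoImplicit false
open CategoryTheory CategoryTheory.Limits
universe v₁ u₁

namespace Groth.Agent.Helper29.TopGenA

variable {C : Type u₁} [Category.{v₁} C] (C' : C → Prop) (P P' : Precoverage C)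

/-- non-dependent form of the "composite family" condition -/
def Comp₀ (X : C) (S' : Sieve X) : Prop :=
  ∃ R ∈ P X, ∀ ⦃Y : C⦄ ⦃f : Y ⟶ X⦄, R f → C' Y ∧ ∃ T ∈ P' Y, ∀ ⦃Z : C⦄ ⦃g : Z ⟶ Y⦄, T g → S' (g ≫ f)

/-- the form in the statement -/
def Comp (X : C) (S' : Sieve X) : Prop :=
  ∃ (R : Presieve X) (_ : R ∈ P X) (_ : ∀ ⦃Y : C⦄ ⦃f : Y ⟶ X⦄, R f → C' Y)
    (R' : ∀ ⦃Y : C⦄ ⦃f : Y ⟶ X⦄, R f → Presieve Y),
    (∀ ⦃Y : C⦄ ⦃f : Y ⟶ X⦄ (hf : R f), R' hf ∈ P' Y) ∧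
    ∀ ⦃Y : C⦄ ⦃f : Y ⟶ X⦄ (hf : R f) ⦃Z : C⦄ ⦃g : Z ⟶ Y⦄, R' hf g → S' (g ≫ f)

theorem comp_iff (X : C) (S' : Sieve X) : Comp C' P P' X S' ↔ Comp₀ C' P P' X S' := by
  constructor
  · rintro ⟨R, hR, hC, R', hR', h⟩
    exact ⟨R, hR, fun Y f hf => ⟨hC hf, R' hf, hR' hf, fun Z g hg => h hf hg⟩⟩
  · rintro ⟨R, hR, h⟩
    choose hC T hT hS using h
    exact ⟨R, hR, hC, T, hT, hS⟩

variable {C' P P'}

theorem mono {X : C} {S₁ S₂ : Sieve X} (h : S₁ ≤ S₂) (h₁ : Comp₀ C' P P' X S₁) :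
    Comp₀ C' P P' X S₂ := by
  obtain ⟨R, hR, hh⟩ := h₁
  refine ⟨R, hR, fun Y f hf => ⟨(hh hf).1, ?_⟩⟩
  obtain ⟨T, hT, hS⟩ := (hh hf).2
  exact ⟨T, hT, fun Z g hg => h _ (hS hg)⟩

section

variable [P.HasPullbacks] [P.IsStableUnderBaseChange] [P.IsStableUnderComposition]
  (hP'C : ∀ ⦃X : C⦄ ⦃R : Presieve X⦄, R ∈ P' X → C' X ∧ ∀ ⦃Y : C⦄ ⦃f : Y ⟶ X⦄, R f → C' Y)
  (hP'id : ∀ ⦃X : C⦄, C' X → Presieve.singleton (𝟙 X) ∈ P' X)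
  (ha : ∀ ⦃X : C⦄ ⦃R : Presieve X⦄, R ∈ P' X → ∀ ⦃T : C⦄ (g : T ⟶ X), C' T →
    ∃ _ : R.HasPullbacks g, Presieve.pullbackArrows g R ∈ P' T)
  (hb : ∀ X : C, ∃ R ∈ P X, ∀ ⦃Y : C⦄ ⦃f : Y ⟶ X⦄, R f → C' Y)

include hb in
omit [P.HasPullbacks] [P.IsStableUnderBaseChange] [P.IsStableUnderComposition] in
/-- every object has a `P`-zero-hypercover with sources in `C'` -/
theorem exists_cover (X : C) :
    ∃ E : P.ZeroHypercover.{max u₁ v₁} X, ∀ i, C' (E.X i) := by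
  obtain ⟨R, hR, hC⟩ := hb X
  obtain ⟨E, rfl⟩ := Precoverage.mem_iff_exists_zeroHypercover.1 hR
  exact ⟨E, fun i => hC (Presieve.ofArrows.mk i)⟩

include hb hP'id in
omit [P.HasPullbacks] [P.IsStableUnderBaseChange] in
/-- refine a `P`-cover to one with sources in `C'`, with identity `P'`-covers. -/
theorem comp₀_of_P {X : C} {R : Presieve X} (hR : R ∈ P X) :
    Comp₀ C' P P' X (Sieve.generate R) := by
  obtain ⟨E, rfl⟩ := Precoverage.mem_iff_exists_zeroHypercover.1 hR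
  choose G hG using fun i => exists_cover hb (E.X i)
  refine ⟨(E.bind G).presieve₀, (E.bind G).mem₀, ?_⟩
  rintro _ _ ⟨⟨i, k⟩⟩
  refine ⟨hG i k, Presieve.singleton (𝟙 _), hP'id (hG i k), ?_⟩
  rintro _ _ ⟨⟩
  rw [Category.id_comp]
  exact ⟨_, (G i).f k, E.f i, Presieve.ofArrows.mk i, rfl⟩

include hb hP'id in
omit [P.HasPullbacks] [P.IsStableUnderBaseChange] [P.IsStableUnderComposition] in
theorem comp₀_top (X : C) : Comp₀ C' P P' X ⊤ := by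
  obtain ⟨R, hR, hC⟩ := hb X
  exact ⟨R, hR, fun Y f hf => ⟨hC hf, Presieve.singleton (𝟙 _), hP'id (hC hf), fun _ _ _ => trivial⟩⟩

include hb ha hP'C in
omit [P.HasPullbacks] [P.IsStableUnderBaseChange] [P.IsStableUnderComposition] in
theorem comp₀_of_P' {X : C} {R : Presieve X} (hR : R ∈ P' X) :
    Comp₀ C' P P' X (Sieve.generate R) := by
  obtain ⟨R₀, hR₀, hC⟩ := hb X
  refine ⟨R₀, hR₀, fun Y f hf => ⟨hC hf, ?_⟩⟩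
  obtain ⟨hpb, hmem⟩ := ha hR f (hC hf)
  refine ⟨Presieve.pullbackArrows f R, hmem, ?_⟩
  rintro _ _ ⟨Z, h, hh⟩
  haveI := R.hasPullback f hh
  exact ⟨_, pullback.fst h f, h, hh, pullback.condition⟩

include hb ha in
theorem comp₀_pullback {X Y : C} {S : Sieve X} (hS : Comp₀ C' P P' X S) (f : Y ⟶ X) :
    Comp₀ C' P P' Y (S.pullback f) := by
  obtain ⟨R, hR, hh⟩ := hS
  obtain ⟨E, rfl⟩ := Precoverage.mem_iff_exists_zeroHypercover.1 hR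
  haveI := P.hasPullbacks_of_mem f E.mem₀
  haveI : ∀ i, HasPullback (E.f i) f := fun i =>
    E.presieve₀.hasPullback f (Presieve.ofArrows.mk i)
  choose G hG using fun i => exists_cover hb (pullback (E.f i) f)
  refine ⟨((E.pullback₂ f).bind G).presieve₀, ((E.pullback₂ f).bind G).mem₀, ?_⟩
  rintro _ _ ⟨⟨i, k⟩⟩
  refine ⟨hG i k, ?_⟩
  obtain ⟨T, hT, hTS⟩ := (hh (Presieve.ofArrows.mk i)).2
  obtain ⟨hpb, hmem⟩ := ha hT ((G i).f k ≫ pullback.fst (E.f i) f) (hG i k)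
  refine ⟨_, hmem, ?_⟩
  rintro _ _ ⟨Z, h, hh'⟩
  haveI := T.hasPullback ((G i).f k ≫ pullback.fst (E.f i) f) hh'
  change S ((pullback.snd h ((G i).f k ≫ pullback.fst (E.f i) f) ≫
    ((G i).f k ≫ pullback.snd (E.f i) f)) ≫ f)
  have e : (pullback.snd h ((G i).f k ≫ pullback.fst (E.f i) f) ≫
      ((G i).f k ≫ pullback.snd (E.f i) f)) ≫ f =
      pullback.fst h ((G i).f k ≫ pullback.fst (E.f i) f) ≫ h ≫ E.f i := by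
    rw [Category.assoc, Category.assoc, ← pullback.condition, ← Category.assoc ((G i).f k),
      ← pullback.condition_assoc]
  rw [e]
  exact S.downward_closed (hTS hh') _

theorem comp₀_transitive
    (hc : ∀ ⦃S : C⦄ ⦃R₁ : Presieve S⦄, R₁ ∈ P' S →
      ∀ (R₂ : ∀ ⦃Y : C⦄ ⦃f : Y ⟶ S⦄, R₁ f → Presieve Y),
        (∀ ⦃Y : C⦄ ⦃f : Y ⟶ S⦄ (hf : R₁ f), R₂ hf ∈ P Y ∧ ∀ ⦃Z : C⦄ ⦃g : Z ⟶ Y⦄, R₂ hf g → C' Z) →
      ∀ (R₃ : ∀ ⦃Y : C⦄ ⦃f : Y ⟶ S⦄ (hf : R₁ f) ⦃Z : C⦄ ⦃g : Z ⟶ Y⦄, R₂ hf g → Presieve Z),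
        (∀ ⦃Y : C⦄ ⦃f : Y ⟶ S⦄ (hf : R₁ f) ⦃Z : C⦄ ⦃g : Z ⟶ Y⦄ (hg : R₂ hf g), R₃ hf hg ∈ P' Z) →
      ∃ T ∈ P' S, ∀ ⦃W : C⦄ ⦃q : W ⟶ S⦄, T q →
        ∃ (Y Z V : C) (f : Y ⟶ S) (hf : R₁ f) (g : Z ⟶ Y) (hg : R₂ hf g) (h : V ⟶ Z)
          (_ : R₃ hf hg h) (r : W ⟶ V), r ≫ h ≫ g ≫ f = q)
    {X : C} {S R : Sieve X} (hS : Comp₀ C' P P' X S)
    (hR : ∀ ⦃Y : C⦄ ⦃f : Y ⟶ X⦄, S f → Comp₀ C' P P' Y (R.pullback f)) :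
    Comp₀ C' P P' X R := by
  obtain ⟨R₀, hR₀, hh⟩ := hS
  refine ⟨R₀, hR₀, fun Y f hf => ⟨(hh hf).1, ?_⟩⟩
  obtain ⟨T₁, hT₁, hT₁S⟩ := (hh hf).2
  have key : ∀ ⦃Z : C⦄ ⦃g : Z ⟶ Y⦄ (_ : T₁ g), Comp C' P P' Z (R.pullback (g ≫ f)) :=
    fun Z g hg => (comp_iff C' P P' Z _).2 (hR (hT₁S hg))
  choose R₂ hR₂ hC₂ R₃ hR₃ hS₃ using key
  obtain ⟨T, hT, hTq⟩ := hc hT₁ R₂ (fun Z g hg => ⟨hR₂ hg, hC₂ hg⟩) R₃
    (fun Z g hg Z' g' hg' => hR₃ hg hg')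
  refine ⟨T, hT, fun W q hq => ?_⟩
  obtain ⟨Y₁, Z₁, V, g, hg, g', hg', h, hh', r, rfl⟩ := hTq hq
  have h1 : R ((h ≫ g') ≫ g ≫ f) := hS₃ hg hg' hh'
  have h2 := R.downward_closed h1 r
  simpa only [Category.assoc] using h2

include hP'C hP'id ha hb in
theorem main6053
    (hc : ∀ ⦃S : C⦄ ⦃R₁ : Presieve S⦄, R₁ ∈ P' S →
      ∀ (R₂ : ∀ ⦃Y : C⦄ ⦃f : Y ⟶ S⦄, R₁ f → Presieve Y),
        (∀ ⦃Y : C⦄ ⦃f : Y ⟶ S⦄ (hf : R₁ f), R₂ hf ∈ P Y ∧ ∀ ⦃Z : C⦄ ⦃g : Z ⟶ Y⦄, R₂ hf g → C' Z) →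
      ∀ (R₃ : ∀ ⦃Y : C⦄ ⦃f : Y ⟶ S⦄ (hf : R₁ f) ⦃Z : C⦄ ⦃g : Z ⟶ Y⦄, R₂ hf g → Presieve Z),
        (∀ ⦃Y : C⦄ ⦃f : Y ⟶ S⦄ (hf : R₁ f) ⦃Z : C⦄ ⦃g : Z ⟶ Y⦄ (hg : R₂ hf g), R₃ hf hg ∈ P' Z) →
      ∃ T ∈ P' S, ∀ ⦃W : C⦄ ⦃q : W ⟶ S⦄, T q →
        ∃ (Y Z V : C) (f : Y ⟶ S) (hf : R₁ f) (g : Z ⟶ Y) (hg : R₂ hf g) (h : V ⟶ Z)
          (_ : R₃ hf hg h) (r : W ⟶ V), r ≫ h ≫ g ≫ f = q)
    (X : C) (S' : Sieve X) :
    S' ∈ (P ⊔ P').toGrothendieck X ↔ Comp C' P P' X S' := by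
  rw [comp_iff]
  constructor
  · intro h
    rw [Precoverage.mem_toGrothendieck_iff] at h
    induction h with
    | of X R hR =>
      rcases hR with hR | hR
      · exact comp₀_of_P hP'id hb hR
      · exact comp₀_of_P' hP'C ha hb hR
    | top X => exact comp₀_top hP'id hb X
    | pullback X S hS Y f ih => exact comp₀_pullback ha hb ih f
    | transitive X S R hS hR ih1 ih2 => exact comp₀_transitive hc ih1 ih2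
  · rintro ⟨R, hR, hh⟩
    have hRJ : Sieve.generate R ∈ (P ⊔ P').toGrothendieck X :=
      Precoverage.generate_mem_toGrothendieck (Or.inl hR)
    refine GrothendieckTopology.transitive _ hRJ S' ?_
    rintro Y f ⟨Z, a, b, hb', rfl⟩
    obtain ⟨-, T, hT, hTS⟩ := hh hb'
    rw [Sieve.pullback_comp]
    apply GrothendieckTopology.pullback_stable
    have hTJ : Sieve.generate T ∈ (P ⊔ P').toGrothendieck Z :=
      Precoverage.generate_mem_toGrothendieck (Or.inr hT)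
    refine GrothendieckTopology.superset_covering _ ?_ hTJ
    rw [Sieve.generate_le_iff]
    intro W g hg
    exact hTS hg

end

end Groth.Agent.Helper29.TopGenA
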