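import Groth.Agent.Lib.Helper29.TopGenA

/-!
# The topology generated by two precoverages `P`, `P'` (SGA3 IV 6.2.1): sheaves
-/

set_option autoImplicit false
open CategoryTheory CategoryTheory.Limits Opposite Presieve
universe w v₁ u₁

namespace Groth.Agent.Helper29.TopGenB

variable {C : Type u₁} [Category.{v₁} C]

theorem map_map (F : Cᵒᵖ ⥤ Type w) {X Y Z : C} (a : Z ⟶ Y) (u : Y ⟶ X) (t : F.obj (op X)) :
    F.map a.op (F.map u.op t) = F.map (a ≫ u).op t := by
  rw [op_comp, Functor.map_comp_apply]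

theorem fam_congr {F : Cᵒᵖ ⥤ Type w} {Y : C} {T : Presieve Y} (x : FamilyOfElements F T)
    {Z : C} {g g' : Z ⟶ Y} (e : g = g') (h : T g) (h' : T g') : x g h = x g' h' := by
  subst e
  rfl

variable {C' : C → Prop} {P P' : Precoverage C} (F : Cᵒᵖ ⥤ Type w)
  (ha : ∀ ⦃X : C⦄ ⦃R : Presieve X⦄, R ∈ P' X → ∀ ⦃T : C⦄ (g : T ⟶ X), C' T →
    ∃ _ : R.HasPullbacks g, Presieve.pullbackArrows g R ∈ P' T)
  (hb : ∀ X : C, ∃ R ∈ P X, ∀ ⦃Y : C⦄ ⦃f : Y ⟶ X⦄, R f → C' Y)
  (hP : ∀ ⦃X : C⦄ ⦃R : Presieve X⦄, R ∈ P X → IsSheafFor F R)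
  (hP' : ∀ ⦃X : C⦄ ⦃R : Presieve X⦄, R ∈ P' X → IsSheafFor F R)

include ha in
theorem pullback_eq_generate {X : C} {R : Presieve X} (hR : R ∈ P' X) {Y : C} (f : Y ⟶ X)
    (hY : C' Y) : ∃ R' ∈ P' Y, (Sieve.generate R).pullback f = Sieve.generate R' := by
  obtain ⟨hpb, hmem⟩ := ha hR f hY
  exact ⟨_, hmem, (Sieve.pullbackArrows_comm f R).symm⟩

include ha hb hP hP' in
theorem sep {X : C} {R : Presieve X} (hR : R ∈ P' X) {Y : C} (f : Y ⟶ X) :
    IsSeparatedFor F ((Sieve.generate R).pullback f).arrows := by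
  intro x t₁ t₂ h₁ h₂
  obtain ⟨U, hU, hC⟩ := hb Y
  apply (hP hU).isSeparatedFor.ext
  intro Y' u hu
  obtain ⟨R', hR', e⟩ := pullback_eq_generate ha hR (u ≫ f) (hC hu)
  apply ((isSeparatedFor_iff_generate).1 (hP' hR').isSeparatedFor).ext
  intro Z a ha'
  rw [← e] at ha'
  have hT : ((Sieve.generate R).pullback f) (a ≫ u) := by
    simpa only [Sieve.pullback_apply, Category.assoc] using ha'
  rw [map_map, map_map, h₁ (a ≫ u) hT, h₂ (a ≫ u) hT]

variable [P.HasPullbacks] [P.IsStableUnderBaseChange]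

include ha hb hP hP' in
theorem sheaf' {X : C} {R : Presieve X} (hR : R ∈ P' X) {Y : C} (f : Y ⟶ X) :
    IsSheafFor F ((Sieve.generate R).pullback f).arrows := by
  rw [← isSeparatedFor_and_exists_isAmalgamation_iff_isSheafFor]
  refine ⟨sep F ha hb hP hP' hR f, fun x hx => ?_⟩
  obtain ⟨U, hU, hC⟩ := hb Y
  have hTu : ∀ ⦃Y' : C⦄ ⦃u : Y' ⟶ Y⦄, U u →
      IsSheafFor F (((Sieve.generate R).pullback f).pullback u).arrows := by
    intro Y' u hu
    obtain ⟨R', hR', e⟩ := pullback_eq_generate ha hR (u ≫ f) (hC hu)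
    rw [← Sieve.pullback_comp, e, ← isSheafFor_iff_generate]
    exact hP' hR'
  let t : FamilyOfElements F U := fun Y' u hu =>
    (hTu hu).amalgamate (x.pullback u) (hx.pullback u)
  have ht : ∀ ⦃Y' : C⦄ ⦃u : Y' ⟶ Y⦄ (hu : U u) ⦃Z : C⦄ (a : Z ⟶ Y')
      (ha' : ((Sieve.generate R).pullback f) (a ≫ u)), F.map a.op (t u hu) = x (a ≫ u) ha' :=
    fun Y' u hu Z a ha' => (hTu hu).valid_glue (hx.pullback u) a ha'
  have htc : t.Compatible := by
    haveI := P.hasPairwisePullbacks_of_mem hU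
    rw [pullbackCompatible_iff]
    intro Y₁ Y₂ u₁ u₂ h₁ h₂
    haveI := HasPairwisePullbacks.has_pullbacks h₁ h₂
    have hs : IsSeparatedFor F
        (((Sieve.generate R).pullback f).pullback (pullback.fst u₁ u₂ ≫ u₁)).arrows := by
      rw [← Sieve.pullback_comp]
      exact sep F ha hb hP hP' hR _
    apply hs.ext
    intro Z b hb'
    have hb1 : ((Sieve.generate R).pullback f) ((b ≫ pullback.fst u₁ u₂) ≫ u₁) := by
      simpa only [Sieve.pullback_apply, Category.assoc] using hb'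
    have hb2 : ((Sieve.generate R).pullback f) ((b ≫ pullback.snd u₁ u₂) ≫ u₂) := by
      rw [Category.assoc, ← pullback.condition, ← Category.assoc]
      exact hb1
    rw [map_map, map_map, ht h₁ _ hb1, ht h₂ _ hb2]
    exact fam_congr x (by rw [Category.assoc, Category.assoc, pullback.condition]) _ _
  refine ⟨(hP hU).amalgamate t htc, ?_⟩
  have hs : ∀ ⦃Y' : C⦄ (u : Y' ⟶ Y) (hu : U u), F.map u.op ((hP hU).amalgamate t htc) = t u hu :=
    fun Y' u hu => (hP hU).valid_glue htc u hu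
  intro Z g hg
  haveI := P.hasPullbacks_of_mem g hU
  have hsep : IsSeparatedFor F ((Sieve.generate U).pullback g).arrows := by
    rw [← Sieve.pullbackArrows_comm, ← isSeparatedFor_iff_generate]
    exact (hP (P.pullbackArrows_mem g hU)).isSeparatedFor
  apply hsep.ext
  rintro W c ⟨Y', a, u, hu, hau⟩
  have hT : ((Sieve.generate R).pullback f) (a ≫ u) := by
    rw [hau]
    exact Sieve.downward_closed _ hg c
  rw [map_map, ← hau, ← map_map, hs u hu, ht hu a hT]
  rw [← hx.to_sieveCompatible g c hg]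
  exact fam_congr x hau _ _

include ha hb in
theorem main6052 [P.IsStableUnderComposition] :
    Presieve.IsSheaf (P ⊔ P').toGrothendieck F ↔
      (∀ ⦃X : C⦄ ⦃R : Presieve X⦄, R ∈ P X → Presieve.IsSheafFor F R) ∧
      (∀ ⦃X : C⦄ ⦃R : Presieve X⦄, R ∈ P' X → Presieve.IsSheafFor F R) := by
  constructor
  · intro h
    refine ⟨fun X R hR => ?_, fun X R hR => ?_⟩
    · rw [isSheafFor_iff_generate]
      exact h _ (Precoverage.generate_mem_toGrothendieck (Or.inl hR))
    · rw [isSheafFor_iff_generate]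
      exact h _ (Precoverage.generate_mem_toGrothendieck (Or.inr hR))
  · rintro ⟨hP, hP'⟩
    rw [Precoverage.isSheaf_toGrothendieck_iff]
    intro X Y f R hR
    rcases hR with hR | hR
    · haveI := P.hasPullbacks_of_mem f hR
      rw [← Sieve.pullbackArrows_comm, ← isSheafFor_iff_generate]
      exact hP (P.pullbackArrows_mem f hR)
    · exact sheaf' F ha hb hP hP' hR f

end Groth.Agent.Helper29.TopGenB
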