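import Mathlib
import Groth.Prelude.Def_SiteCmp
import Groth.Prelude.Def_WeakSerre

/-!
# The torsion subsheaf of an abelian sheaf on a small site
-/

universe u

open CategoryTheory CategoryTheory.Limits Opposite

namespace Groth.Agent.Helper29.TorsA

variable {C : Type u} [SmallCategory C] (J : GrothendieckTopology C)

/-- sectionwise-torsion sections -/
def tors₀ (F : Cᵒᵖ ⥤ AddCommGrpCat.{u}) : Subfunctor (F ⋙ forget AddCommGrpCat.{u}) where
  obj U := {s | IsOfFinAddOrder (show F.obj U from s)}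
  map := by
    intro U V i s hs
    exact (F.map i).hom.isOfFinAddOrder hs

/-- locally torsion sections -/
def tors (F : Cᵒᵖ ⥤ AddCommGrpCat.{u}) : Subfunctor (F ⋙ forget AddCommGrpCat.{u}) :=
  (tors₀ F).sheafify J

variable {J}

lemma mem_tors_iff (F : Cᵒᵖ ⥤ AddCommGrpCat.{u}) (U : Cᵒᵖ) (s : F.obj U) :
    s ∈ (tors J F).obj U ↔
      ∃ S ∈ J U.unop, ∀ ⦃V : C⦄ (g : V ⟶ U.unop), S g → IsOfFinAddOrder ((F.map g.op).hom s) := by
  constructor
  · intro h
    exact ⟨_, h, fun V g hg => hg⟩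
  · rintro ⟨S, hS, h⟩
    exact J.superset_covering (fun V g hg => h g hg) hS

variable (J)

/-- the subgroup of locally torsion sections -/
def tSub (F : Cᵒᵖ ⥤ AddCommGrpCat.{u}) (U : Cᵒᵖ) : AddSubgroup (F.obj U) where
  carrier := (tors J F).obj U
  zero_mem' := by
    refine (mem_tors_iff F U 0).2 ⟨⊤, J.top_mem _, fun V g _ => ?_⟩
    rw [map_zero]
    exact IsOfFinAddOrder.zero
  add_mem' := by
    intro a b ha hb
    obtain ⟨S, hS, h⟩ := (mem_tors_iff F U a).1 ha
    obtain ⟨S', hS', h'⟩ := (mem_tors_iff F U b).1 hb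
    refine (mem_tors_iff F U (a + b)).2 ⟨S ⊓ S', J.intersection_covering hS hS', fun V g hg => ?_⟩
    rw [map_add]
    exact (h g hg.1).add (h' g hg.2)
  neg_mem' := by
    intro a ha
    obtain ⟨S, hS, h⟩ := (mem_tors_iff F U a).1 ha
    refine (mem_tors_iff F U (-a)).2 ⟨S, hS, fun V g hg => ?_⟩
    rw [map_neg]
    exact (h g hg).neg

lemma map_mem_tSub (F : Cᵒᵖ ⥤ AddCommGrpCat.{u}) {U V : Cᵒᵖ} (i : U ⟶ V) (s : F.obj U)
    (hs : s ∈ tSub J F U) : (F.map i).hom s ∈ tSub J F V :=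
  (tors J F).map i hs

/-- the presheaf of locally torsion sections -/
def tP (F : Cᵒᵖ ⥤ AddCommGrpCat.{u}) : Cᵒᵖ ⥤ AddCommGrpCat.{u} where
  obj U := AddCommGrpCat.of (tSub J F U)
  map {U V} i := AddCommGrpCat.ofHom
    (((F.map i).hom.comp (tSub J F U).subtype).codRestrict (tSub J F V)
      (fun s => map_mem_tSub J F i s.1 s.2))
  map_id U := by
    ext s
    simp
  map_comp f g := by
    ext s
    simp

/-- the inclusion of the torsion part -/
def tPι (F : Cᵒᵖ ⥤ AddCommGrpCat.{u}) : tP J F ⟶ F where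
  app U := AddCommGrpCat.ofHom (tSub J F U).subtype
  naturality U V i := by
    ext s
    rfl

instance (F : Cᵒᵖ ⥤ AddCommGrpCat.{u}) : Mono (tPι J F) := by
  haveI : ∀ U, Mono ((tPι J F).app U) := fun U => by
    rw [AddCommGrpCat.mono_iff_injective]
    exact Subtype.val_injective
  exact NatTrans.mono_of_mono_app _

lemma isSheaf_tP (F : Cᵒᵖ ⥤ AddCommGrpCat.{u}) (hF : Presheaf.IsSheaf J F) :
    Presheaf.IsSheaf J (tP J F) := by
  rw [Presheaf.isSheaf_iff_isSheaf_forget J (tP J F) (forget AddCommGrpCat.{u}),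
    isSheaf_iff_isSheaf_of_type]
  have hF' : Presieve.IsSheaf J (F ⋙ forget AddCommGrpCat.{u}) :=
    (isSheaf_iff_isSheaf_of_type _ _).1
      ((Presheaf.isSheaf_iff_isSheaf_forget J F (forget AddCommGrpCat.{u})).1 hF)
  have h := (tors₀ F).sheafify_isSheaf hF'
  refine Presieve.isSheaf_iso J ?_ h
  exact NatIso.ofComponents (fun U => Iso.refl _) (fun f => rfl)

end Groth.Agent.Helper29.TorsA
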