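import Mathlib
import Groth.Prelude.Def_SiteCmp
import Groth.Prelude.Def_WeakSerre
import Groth.Agent.Lib.Helper29.TorsA

/-!
# The torsion subsheaf functor as a coreflector
-/

universe u

open CategoryTheory CategoryTheory.Limits Opposite

namespace Groth.Agent.Helper29.TorsB

open TorsA

variable {C : Type u} [SmallCategory C] (J : GrothendieckTopology C)

/-- the torsion subsheaf -/
def tSh (F : Sheaf J AddCommGrpCat.{u}) : Sheaf J AddCommGrpCat.{u} :=
  ⟨tP J F.obj, isSheaf_tP J F.obj F.property⟩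

/-- the inclusion of the torsion subsheaf -/
def tι (F : Sheaf J AddCommGrpCat.{u}) : tSh J F ⟶ F :=
  ObjectProperty.homMk (tPι J F.obj)

instance (F : Sheaf J AddCommGrpCat.{u}) : Mono (tι J F) := by
  haveI : Mono (tι J F).hom := by
    change Mono (tPι J F.obj)
    infer_instance
  exact Sheaf.Hom.mono_of_presheaf_mono _ _ _

lemma tι_app_apply (F : Sheaf J AddCommGrpCat.{u}) (U : Cᵒᵖ) (s : (tSh J F).obj.obj U) :
    ((tι J F).hom.app U).hom s = s.1 := rfl

lemma isTorsionSh_tSh (F : Sheaf J AddCommGrpCat.{u}) : SiteCmp.IsTorsionSh J (tSh J F) := by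
  intro U s
  obtain ⟨S, hS, h⟩ := (mem_tors_iff F.obj (op U) s.1).1 s.2
  refine ⟨S, hS, fun V g hg => ?_⟩
  obtain ⟨n, hn, hn'⟩ := isOfFinAddOrder_iff_nsmul_eq_zero.1 (h g hg)
  refine isOfFinAddOrder_iff_nsmul_eq_zero.2 ⟨n, hn, ?_⟩
  apply Subtype.ext
  exact hn'

/-- a locally torsion section lies in the torsion subsheaf -/
lemma mem_range_tι (F : Sheaf J AddCommGrpCat.{u}) (U : Cᵒᵖ) (s : F.obj.obj U)
    (hs : ∃ S ∈ J U.unop, ∀ ⦃V : C⦄ (g : V ⟶ U.unop), S g →
      IsOfFinAddOrder ((F.obj.map g.op).hom s)) :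
    ∃ a : (tSh J F).obj.obj U, ((tι J F).hom.app U).hom a = s :=
  ⟨⟨s, (mem_tors_iff F.obj U s).2 hs⟩, rfl⟩

variable {J}

lemma image_mem_tSub {X F : Sheaf J AddCommGrpCat.{u}} (hX : SiteCmp.IsTorsionSh J X) (φ : X ⟶ F)
    (U : Cᵒᵖ) (s : X.obj.obj U) : (φ.hom.app U).hom s ∈ tSub J F.obj U := by
  obtain ⟨S, hS, h⟩ := hX U.unop s
  refine (mem_tors_iff F.obj U _).2 ⟨S, hS, fun V g hg => ?_⟩
  have := (h g hg)
  have e : (F.obj.map g.op).hom ((φ.hom.app U).hom s) =
      (φ.hom.app (op V)).hom ((X.obj.map g.op).hom s) := by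
    have := φ.hom.naturality g.op
    exact (ConcreteCategory.congr_hom this s).symm
  rw [e]
  exact (φ.hom.app (op V)).hom.isOfFinAddOrder (h g hg)

/-- lifting a morphism from a torsion sheaf to the torsion subsheaf -/
def lift {X F : Sheaf J AddCommGrpCat.{u}} (hX : SiteCmp.IsTorsionSh J X) (φ : X ⟶ F) :
    X ⟶ tSh J F :=
  ObjectProperty.homMk
    { app := fun U => AddCommGrpCat.ofHom
        ((φ.hom.app U).hom.codRestrict (tSub J F.obj U) (image_mem_tSub hX φ U))
      naturality := fun U V i => by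
        ext s
        apply Subtype.ext
        exact ConcreteCategory.congr_hom (φ.hom.naturality i) s }

@[reassoc (attr := simp)]
lemma lift_tι {X F : Sheaf J AddCommGrpCat.{u}} (hX : SiteCmp.IsTorsionSh J X) (φ : X ⟶ F) :
    lift hX φ ≫ tι J F = φ := by
  apply Sheaf.hom_ext
  ext U s
  rfl

lemma lift_unique {X F : Sheaf J AddCommGrpCat.{u}} (hX : SiteCmp.IsTorsionSh J X) (φ : X ⟶ F)
    (ψ : X ⟶ tSh J F) (h : ψ ≫ tι J F = φ) : ψ = lift hX φ := by
  rw [← cancel_mono (tι J F), h, lift_tι]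

variable (J)

/-- the torsion subsheaf functor -/
def t : Sheaf J AddCommGrpCat.{u} ⥤ (SiteCmp.torsionSh J).FullSubcategory where
  obj F := ⟨tSh J F, isTorsionSh_tSh J F⟩
  map {F G} φ := ObjectProperty.homMk (lift (isTorsionSh_tSh J F) (tι J F ≫ φ))
  map_id F := by
    apply ObjectProperty.hom_ext
    symm
    refine lift_unique (isTorsionSh_tSh J F) _ _ ?_
    exact (Category.id_comp _).trans (Category.comp_id _).symm
  map_comp {F G H} φ ψ := by
    apply ObjectProperty.hom_ext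
    symm
    refine lift_unique (isTorsionSh_tSh J F) _ _ ?_
    change (lift (isTorsionSh_tSh J F) (tι J F ≫ φ) ≫ lift (isTorsionSh_tSh J G) (tι J G ≫ ψ)) ≫
      tι J H = tι J F ≫ φ ≫ ψ
    rw [Category.assoc, lift_tι, lift_tι_assoc, Category.assoc]

lemma t_map_tι {F G : Sheaf J AddCommGrpCat.{u}} (φ : F ⟶ G) :
    ((t J).map φ).hom ≫ tι J G = tι J F ≫ φ :=
  lift_tι (isTorsionSh_tSh J F) _

lemma hom_ext_tι {X : (SiteCmp.torsionSh J).FullSubcategory} {F : Sheaf J AddCommGrpCat.{u}}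
    (ψ ψ' : X ⟶ (t J).obj F) (h : ψ.hom ≫ tι J F = ψ'.hom ≫ tι J F) : ψ = ψ' := by
  apply ObjectProperty.hom_ext
  exact (cancel_mono (tι J F)).1 h

/-- the hom-set bijection of the coreflection -/
def homEquiv (X : (SiteCmp.torsionSh J).FullSubcategory) (F : Sheaf J AddCommGrpCat.{u}) :
    ((SiteCmp.torsionSh J).ι.obj X ⟶ F) ≃ (X ⟶ (t J).obj F) where
  toFun φ := ObjectProperty.homMk (lift (X := X.obj) (F := F) X.property φ)
  invFun ψ := ψ.hom ≫ tι J F
  left_inv φ := lift_tι (X := X.obj) (F := F) X.property φ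
  right_inv ψ := by
    apply hom_ext_tι
    exact lift_tι (X := X.obj) (F := F) X.property (ψ.hom ≫ tι J F)

lemma homEquiv_apply_tι (X : (SiteCmp.torsionSh J).FullSubcategory) (F : Sheaf J AddCommGrpCat.{u})
    (φ : (SiteCmp.torsionSh J).ι.obj X ⟶ F) : (homEquiv J X F φ).hom ≫ tι J F = φ :=
  lift_tι (X := X.obj) (F := F) X.property φ

lemma homEquiv_symm_apply (X : (SiteCmp.torsionSh J).FullSubcategory)
    (F : Sheaf J AddCommGrpCat.{u}) (ψ : X ⟶ (t J).obj F) :
    (homEquiv J X F).symm ψ = ψ.hom ≫ tι J F := rfl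

/-- torsion sheaves are coreflective in abelian sheaves -/
def adj : (SiteCmp.torsionSh J).ι ⊣ t J :=
  Adjunction.mkOfHomEquiv
    { homEquiv := homEquiv J
      homEquiv_naturality_left_symm := fun {X' X F} f g => by
        rw [homEquiv_symm_apply, homEquiv_symm_apply]
        exact Category.assoc f.hom g.hom (tι J F)
      homEquiv_naturality_right := fun {X F G} f g => by
        apply hom_ext_tι
        rw [homEquiv_apply_tι]
        have h1 := t_map_tι J g
        have h2 := homEquiv_apply_tι J X F f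
        calc f ≫ g = ((homEquiv J X F f).hom ≫ tι J F) ≫ g := congrArg (· ≫ g) h2.symm
          _ = (homEquiv J X F f).hom ≫ (tι J F ≫ g) := Category.assoc _ _ _
          _ = (homEquiv J X F f).hom ≫ (((t J).map g).hom ≫ tι J G) := congrArg _ h1.symm
          _ = ((homEquiv J X F f).hom ≫ ((t J).map g).hom) ≫ tι J G :=
            (Category.assoc _ _ _).symm }

lemma adj_counit_app (F : Sheaf J AddCommGrpCat.{u}) : (adj J).counit.app F = tι J F := by
  simp only [adj, Adjunction.mkOfHomEquiv_counit_app, homEquiv_symm_apply]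
  exact Category.id_comp (tι J F)

end Groth.Agent.Helper29.TorsB
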