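import Mathlib
import Groth.Prelude.Def_SiteCmp
import Groth.Prelude.Def_WeakSerre
import Groth.Agent.Lib.Helper29.TorsB
import Groth.Agent.Lib.Helper29.TFSh
import Groth.Agent.Lib.Helper29.TFVan

/-!
# Torsion sheaves versus uniquely divisible sheaves
-/

universe u

open CategoryTheory CategoryTheory.Limits Opposite

namespace Groth.Agent.Helper29.TorsC

open TorsA TorsB TFSh

variable {C : Type u} [SmallCategory C] {J : GrothendieckTopology C}

lemma nsmul_hom_app_apply (Y : Sheaf J AddCommGrpCat.{u}) (n : ℕ) (V : Cᵒᵖ) (y : Y.obj.obj V) :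
    ((n • 𝟙 Y : Y ⟶ Y).hom.app V).hom y = n • y := by
  have h1 : (n • 𝟙 Y : Y ⟶ Y).hom = n • 𝟙 Y.obj := by
    have := (sheafToPresheaf J AddCommGrpCat.{u}).map_nsmul (f := 𝟙 Y) (n := n)
    simpa using this
  rw [h1, NatTrans.app_nsmul]
  rfl

lemma sec_ext (Y : Sheaf J AddCommGrpCat.{u}) {U : Cᵒᵖ} (a b : Y.obj.obj U) (S : Sieve U.unop)
    (hS : S ∈ J U.unop)
    (h : ∀ ⦃V : C⦄ (g : V ⟶ U.unop), S g → (Y.obj.map g.op).hom a = (Y.obj.map g.op).hom b) :
    a = b := by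
  have hY : Presieve.IsSheaf J (Y.obj ⋙ forget AddCommGrpCat.{u}) :=
    (isSheaf_iff_isSheaf_of_type _ _).1
      ((Presheaf.isSheaf_iff_isSheaf_forget J Y.obj (forget AddCommGrpCat.{u})).1 Y.property)
  exact (hY S hS).isSeparatedFor.ext (fun V g hg => h g hg)

lemma naturality_apply {X Y : Sheaf J AddCommGrpCat.{u}} (f : X ⟶ Y) {U V : Cᵒᵖ} (i : U ⟶ V)
    (s : X.obj.obj U) :
    (Y.obj.map i).hom ((f.hom.app U).hom s) = (f.hom.app V).hom ((X.obj.map i).hom s) :=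
  (ConcreteCategory.congr_hom (f.hom.naturality i) s).symm

/-- a map from a torsion sheaf to a torsion-free sheaf vanishes -/
lemma eq_zero_of_torsion {X Y : Sheaf J AddCommGrpCat.{u}} (hX : SiteCmp.IsTorsionSh J X)
    (hY : ∀ n : ℕ, 0 < n → Mono (n • 𝟙 Y)) (f : X ⟶ Y) : f = 0 := by
  apply Sheaf.hom_ext
  ext U s
  change (f.hom.app U).hom s = 0
  obtain ⟨S, hS, h⟩ := hX U.unop s
  refine sec_ext Y _ _ S hS (fun V g hg => ?_)
  rw [map_zero, naturality_apply]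
  obtain ⟨n, hn, hn'⟩ := isOfFinAddOrder_iff_nsmul_eq_zero.1 (h g hg)
  haveI := hY n hn
  apply sheaf_mono_app_injective (n • 𝟙 Y) (op V)
  rw [nsmul_hom_app_apply, nsmul_hom_app_apply, ← map_nsmul, hn', map_zero, smul_zero]

lemma mono_of_app_injective {X Y : Sheaf J AddCommGrpCat.{u}} (f : X ⟶ Y)
    (h : ∀ V : Cᵒᵖ, Function.Injective (f.hom.app V).hom) : Mono f := by
  haveI : ∀ V, Mono (f.hom.app V) := fun V => (AddCommGrpCat.mono_iff_injective _).2 (h V)
  haveI : Mono f.hom := NatTrans.mono_of_mono_app _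
  exact Sheaf.Hom.mono_of_presheaf_mono _ _ _

/-- injective abelian sheaves are divisible -/
lemma epi_nsmul_of_injective (I : Sheaf J AddCommGrpCat.{u}) [Injective I] (n : ℕ) (hn : 0 < n) :
    Epi (n • 𝟙 I) := by
  let P := tfCover I
  have hP : TFS J P := tfs_tfCover I
  haveI : Mono (n • 𝟙 P) := by
    apply mono_of_app_injective
    intro V x y hxy
    rw [nsmul_hom_app_apply, nsmul_hom_app_apply] at hxy
    haveI := hP V
    exact IsAddTorsionFree.nsmul_right_injective hn.ne' hxy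
  let g : P ⟶ I := Injective.factorThru (tfCoverπ I) (n • 𝟙 P)
  have hg : (n • 𝟙 P) ≫ g = tfCoverπ I := Injective.comp_factorThru _ _
  have e : g ≫ (n • 𝟙 I) = tfCoverπ I := by
    rw [← hg, Preadditive.comp_nsmul, Preadditive.nsmul_comp, Category.comp_id, Category.id_comp]
  haveI : Epi (g ≫ (n • 𝟙 I)) := by rw [e]; infer_instance
  exact epi_of_epi g _

/-- the quotient of a divisible sheaf by its torsion subsheaf is uniquely divisible -/
lemma isIso_nsmul_X₃ {S : ShortComplex (Sheaf J AddCommGrpCat.{u})} (hS : S.ShortExact)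
    (h₁ : SiteCmp.IsTorsionSh J S.X₁)
    (hsat : ∀ (U : Cᵒᵖ) (s : S.X₂.obj.obj U),
      (∃ R ∈ J U.unop, ∀ ⦃V : C⦄ (g : V ⟶ U.unop), R g →
        IsOfFinAddOrder ((S.X₂.obj.map g.op).hom s)) → ∃ a, (S.f.hom.app U).hom a = s)
    (hdiv : ∀ n : ℕ, 0 < n → Epi (n • 𝟙 S.X₂)) (n : ℕ) (hn : 0 < n) :
    IsIso (n • 𝟙 S.X₃) := by
  haveI := hS.epi_g
  haveI : Epi (n • 𝟙 S.X₃) := by
    haveI := hdiv n hn
    have e : (n • 𝟙 S.X₂) ≫ S.g = S.g ≫ (n • 𝟙 S.X₃) := by
      rw [Preadditive.comp_nsmul, Preadditive.nsmul_comp, Category.comp_id, Category.id_comp]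
    haveI : Epi (S.g ≫ (n • 𝟙 S.X₃)) := by rw [← e]; infer_instance
    exact epi_of_epi S.g _
  haveI : Mono (n • 𝟙 S.X₃) := by
    apply mono_of_app_injective
    intro U
    rw [injective_iff_map_eq_zero]
    intro q hq
    rw [nsmul_hom_app_apply] at hq
    haveI : Sheaf.IsLocallySurjective S.g := (Sheaf.isLocallySurjective_iff_epi' (φ := S.g)).2 inferInstance
    have hcov := Presheaf.imageSieve_mem J S.g.hom q
    refine sec_ext S.X₃ _ _ _ hcov (fun V g hg => ?_)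
    rw [map_zero]
    obtain ⟨s, hs⟩ := hg
    have hs' : (S.g.hom.app (op V)).hom s = (S.X₃.obj.map g.op).hom q := hs
    have h0 : (S.g.hom.app (op V)).hom (n • s) = 0 := by
      rw [map_nsmul, hs', ← map_nsmul, hq, map_zero]
    obtain ⟨a, ha⟩ := TFVan.sections_exact hS (op V) (n • s) h0
    have hlt : ∃ R ∈ J V, ∀ ⦃W : C⦄ (k : W ⟶ V), R k →
        IsOfFinAddOrder ((S.X₂.obj.map k.op).hom s) := by
      obtain ⟨R, hR, h⟩ := h₁ V a
      refine ⟨R, hR, fun W k hk => ?_⟩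
      obtain ⟨m, hm, hm'⟩ := isOfFinAddOrder_iff_nsmul_eq_zero.1 (h k hk)
      refine isOfFinAddOrder_iff_nsmul_eq_zero.2 ⟨m * n, Nat.mul_pos hm hn, ?_⟩
      rw [mul_smul, ← map_nsmul (S.X₂.obj.map k.op).hom n s, ← ha, naturality_apply, ← map_nsmul,
        hm', map_zero]
    obtain ⟨a', ha'⟩ := hsat (op V) s hlt
    rw [← hs', ← ha']
    have hz : S.f ≫ S.g = 0 := S.zero
    have := congrArg (fun m : S.X₁ ⟶ S.X₃ => (m.hom.app (op V)).hom a') hz
    exact this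
  exact isIso_of_mono_of_epi _

end Groth.Agent.Helper29.TorsC
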