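import Mathlib
import Groth.Prelude.Def_SiteCmp
import Groth.Prelude.Def_WeakSerre
import Groth.Agent.Lib.Helper29.TorsC
import Groth.Agent.Lib.Helper29.DAdjA

/-!
# The torsion part of a termwise injective complex with torsion cohomology
-/

universe u

open CategoryTheory CategoryTheory.Limits Opposite

namespace Groth.Agent.Helper29.TorsD

open TorsA TorsB TorsC

variable {C : Type u} [SmallCategory C] (J : GrothendieckTopology C)

instance : (TorsB.t J).Additive := (TorsB.adj J).right_adjoint_additive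

variable [(SiteCmp.torsionSh J).IsSerreClass]

theorem quasiIso_counitCx (I : CochainComplex (Sheaf J AddCommGrpCat.{u}) ℤ)
    (hI : ∀ n, Injective (I.X n)) (hH : ∀ n, SiteCmp.torsionSh J (I.homology n)) :
    QuasiIso (DAdjA.counitCx (TorsB.adj J) (ComplexShape.up ℤ) I) := by
  let c := DAdjA.counitCx (TorsB.adj J) (ComplexShape.up ℤ) I
  have hc : ∀ k, c.f k = tι J (I.X k) := fun k => TorsB.adj_counit_app J (I.X k)
  haveI : ∀ k, Mono (c.f k) := fun k => by
    rw [hc]
    exact (inferInstance : Mono (tι J (I.X k)))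
  haveI : Mono c := HomologicalComplex.mono_of_mono_f c (fun k => inferInstance)
  let S := ShortComplex.mk c (cokernel.π c) (cokernel.condition c)
  have hS : S.ShortExact := { exact := ShortComplex.exact_cokernel c }
  have hdiv : ∀ (k : ℤ) (n : ℕ), 0 < n → IsIso (n • 𝟙 (S.X₃.X k)) := by
    intro k n hn
    have hSk : (S.map (HomologicalComplex.eval _ _ k)).ShortExact := hS.map_of_exact _
    refine TorsC.isIso_nsmul_X₃ hSk (TorsB.isTorsionSh_tSh J (I.X k)) ?_
      (fun n hn => haveI := hI k; TorsC.epi_nsmul_of_injective (I.X k) n hn) n hn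
    intro U s hs
    obtain ⟨a, ha⟩ := TorsB.mem_range_tι J (I.X k) U s hs
    refine ⟨a, ?_⟩
    have : (S.map (HomologicalComplex.eval _ _ k)).f = tι J (I.X k) := hc k
    rw [this]
    exact ha
  have hQ : ∀ (n : ℕ), 0 < n → IsIso (n • 𝟙 S.X₃) := fun n hn => by
    haveI : ∀ k, IsIso ((n • 𝟙 S.X₃ : S.X₃ ⟶ S.X₃).f k) := fun k => by
      rw [HomologicalComplex.nsmul_f_apply, HomologicalComplex.id_f]
      exact hdiv k n hn
    exact HomologicalComplex.Hom.isIso_of_components _
  have hHQ : ∀ (k : ℤ) (n : ℕ), 0 < n → IsIso (n • 𝟙 (S.X₃.homology k)) := fun k n hn => by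
    haveI := hQ n hn
    have : HomologicalComplex.homologyMap (n • 𝟙 S.X₃) k = n • 𝟙 (S.X₃.homology k) := by
      have h := (HomologicalComplex.homologyFunctor _ (ComplexShape.up ℤ) k).map_nsmul
        (f := 𝟙 S.X₃) (n := n)
      rw [CategoryTheory.Functor.map_id] at h
      exact h
    rw [← this]
    infer_instance
  have hT₁ : ∀ k, SiteCmp.torsionSh J (S.X₁.homology k) := fun k => by
    have h1 : SiteCmp.torsionSh J (S.X₁.X k) := TorsB.isTorsionSh_tSh J (I.X k)
    have h2 : SiteCmp.torsionSh J (S.X₁.cycles k) :=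
      (SiteCmp.torsionSh J).prop_of_mono (S.X₁.iCycles k) h1
    exact (SiteCmp.torsionSh J).prop_of_epi (S.X₁.homologyπ k) h2
  have hz : ∀ k, IsZero (S.X₃.homology k) := fun k => by
    have hmono : ∀ n : ℕ, 0 < n → Mono (n • 𝟙 (S.X₃.homology k)) := fun n hn => by
      haveI := hHQ k n hn
      infer_instance
    have h0 : HomologicalComplex.homologyMap S.g k = 0 :=
      TorsC.eq_zero_of_torsion (hH k) hmono _
    have hex := hS.homology_exact₃ k (k + 1) rfl
    haveI : Mono (hS.δ k (k + 1) rfl) := hex.mono_g h0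
    have hT : SiteCmp.torsionSh J (S.X₃.homology k) :=
      (SiteCmp.torsionSh J).prop_of_mono (hS.δ k (k + 1) rfl) (hT₁ (k + 1))
    rw [IsZero.iff_id_eq_zero]
    exact TorsC.eq_zero_of_torsion hT hmono _
  change QuasiIso S.f
  rw [quasiIso_iff]
  intro i
  rw [quasiIsoAt_iff_isIso_homologyMap]
  haveI : Mono (HomologicalComplex.homologyMap S.f i) :=
    (hS.homology_exact₁ (i - 1) i (by simp)).mono_g ((hz (i - 1)).eq_of_src _ _)
  haveI : Epi (HomologicalComplex.homologyMap S.f i) :=
    (hS.homology_exact₂ i).epi_f ((hz i).eq_of_tgt _ _)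
  exact isIso_of_mono_of_epi _

end Groth.Agent.Helper29.TorsD
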