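import Mathlib
import Groth.Agent.Lib.Helper29.DAdjA

/-!
# A criterion for `D(A) ⥤ D(B)` to be fully faithful with prescribed essential image

`F : A ⥤ B` exact with right adjoint `G`, `B` Grothendieck abelian, `P` a property of objects of `B`.
If for every termwise injective complex `I` of `B` with cohomology in `P` the counit
`F G I ⟶ I` is a quasi-isomorphism, if `F M` has cohomology in `P` for all complexes `M` of `A`, and
`F` reflects quasi-isomorphisms, then `D(A) ⥤ D(B)` is fully faithful with essential image the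
complexes with cohomology in `P`.
-/

set_option autoImplicit false

universe w' w v u v' u'

open CategoryTheory CategoryTheory.Limits DerivedCategory

namespace Groth.Agent.Helper29.TorsE

open DAdjA

variable {A : Type u} [Category.{v} A] [Abelian A] {B : Type u'} [Category.{v'} B] [Abelian B]
  [IsGrothendieckAbelian.{v'} B]
  {F : A ⥤ B} {G : B ⥤ A} (adj : F ⊣ G) [F.Additive] [G.Additive]
  [PreservesFiniteLimits F] [PreservesFiniteColimits F]
  [HasDerivedCategory.{w} A] [HasDerivedCategory.{w'} B]
  (P : ObjectProperty B) [P.IsClosedUnderIsomorphisms]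
  (hK : ∀ I : CochainComplex B ℤ, (∀ n, Injective (I.X n)) → (∀ n, P (I.homology n)) →
    QuasiIso (counitCx adj (ComplexShape.up ℤ) I))
  (hP : ∀ (M : CochainComplex A ℤ) (n : ℤ),
    P (((F.mapHomologicalComplex (ComplexShape.up ℤ)).obj M).homology n))
  (hrefl : ∀ {M N : CochainComplex A ℤ} (a : M ⟶ N),
    QuasiIso ((F.mapHomologicalComplex (ComplexShape.up ℤ)).map a) → QuasiIso a)

include hK in
/-- `cMap` is an isomorphism on termwise injective complexes with cohomology in `P` -/
lemma isIso_cMap (I : CochainComplex B ℤ) (hI : ∀ n, Injective (I.X n))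
    (hH : ∀ n, P (I.homology n)) : IsIso (cMap adj I) := by
  haveI := hK I hI hH
  haveI : IsIso (Q.map (counitCx adj (ComplexShape.up ℤ) I)) := by
    rw [isIso_Q_map_iff_quasiIso]
    infer_instance
  unfold cMap
  infer_instance

lemma prop_homology_of_quasiIso {M N : CochainComplex B ℤ} (r : M ⟶ N) [QuasiIso r]
    (hM : ∀ n, P (M.homology n)) (n : ℤ) : P (N.homology n) :=
  P.prop_of_iso (asIso (HomologicalComplex.homologyMap r n)) (hM n)

include hK hP hrefl in
/-- every object of `D(A)` is isomorphic to one of the form `Q (G I)` with good `I` -/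
lemma exists_model (X' : DerivedCategory A) :
    ∃ (I : CochainComplex B ℤ) (_ : I.IsKInjective) (_ : IsIso (cMap adj I)),
      Nonempty (X' ≅ Q.obj ((G.mapHomologicalComplex (ComplexShape.up ℤ)).obj I)) := by
  let M' := Q.objPreimage X'
  let e' : Q.obj M' ≅ X' := Q.objObjPreimageIso X'
  obtain ⟨I, r, hI, hr, -, hinj⟩ := KInjE.exists_kInjective_resolution
    ((F.mapHomologicalComplex (ComplexShape.up ℤ)).obj M')
  haveI := hr
  have hH : ∀ n, P (I.homology n) := prop_homology_of_quasiIso P r (hP M')
  haveI := hK I hinj hH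
  let a : M' ⟶ (G.mapHomologicalComplex (ComplexShape.up ℤ)).obj I :=
    (cxAdj adj (ComplexShape.up ℤ)).homEquiv _ _ r
  have ha : (F.mapHomologicalComplex (ComplexShape.up ℤ)).map a ≫
      counitCx adj (ComplexShape.up ℤ) I = r := by
    have := ((cxAdj adj (ComplexShape.up ℤ)).homEquiv M' I).symm_apply_apply r
    rw [Adjunction.homEquiv_counit] at this
    exact this
  haveI : QuasiIso ((F.mapHomologicalComplex (ComplexShape.up ℤ)).map a ≫
      counitCx adj (ComplexShape.up ℤ) I) := by rw [ha]; infer_instance
  have hFa : QuasiIso ((F.mapHomologicalComplex (ComplexShape.up ℤ)).map a) :=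
    quasiIso_of_comp_right _ (counitCx adj (ComplexShape.up ℤ) I)
  haveI := hrefl a hFa
  haveI : IsIso (Q.map a) := by
    rw [isIso_Q_map_iff_quasiIso]
    infer_instance
  exact ⟨I, hI, isIso_cMap adj P hK I hinj hH, ⟨e'.symm ≪≫ asIso (Q.map a)⟩⟩

include hK hP hrefl in
theorem map_bijective (X X' : DerivedCategory A) :
    Function.Bijective (F.mapDerivedCategory.map : (X ⟶ X') → _) := by
  obtain ⟨I, hI, hc, ⟨γ⟩⟩ := exists_model adj P hK hP hrefl X'
  haveI := hI
  haveI := hc
  have key : Function.Bijective (F.mapDerivedCategory.map :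
      (X ⟶ Q.obj ((G.mapHomologicalComplex (ComplexShape.up ℤ)).obj I)) → _) := by
    constructor
    · intro u₁ u₂ h
      have h' : F.mapDerivedCategory.map u₁ ≫ cMap adj I = F.mapDerivedCategory.map u₂ ≫ cMap adj I := by
        rw [h]
      exact (existsUnique_lift adj X I _).unique rfl h'.symm
    · intro v
      obtain ⟨u, hu, -⟩ := existsUnique_lift adj X I (v ≫ cMap adj I)
      exact ⟨u, (cancel_mono (cMap adj I)).1 hu⟩
  constructor
  · intro u₁ u₂ h
    have : u₁ ≫ γ.hom = u₂ ≫ γ.hom := key.1 (by
      rw [Functor.map_comp, Functor.map_comp, h])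
    exact (cancel_mono γ.hom).1 this
  · intro v
    obtain ⟨w, hw⟩ := key.2 (v ≫ F.mapDerivedCategory.map γ.hom)
    refine ⟨w ≫ γ.inv, ?_⟩
    rw [Functor.map_comp, hw, Category.assoc, ← Functor.map_comp, γ.hom_inv_id,
      CategoryTheory.Functor.map_id, Category.comp_id]

include hK hP hrefl in
theorem full : F.mapDerivedCategory.Full :=
  ⟨fun {X X'} => (map_bijective adj P hK hP hrefl X X').2⟩

include hK hP hrefl in
theorem faithful : F.mapDerivedCategory.Faithful :=
  ⟨fun {X X'} => (map_bijective adj P hK hP hrefl X X').1⟩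

include hK hP in
theorem essImage_iff (K : DerivedCategory B) :
    (∀ i : ℤ, P ((DerivedCategory.homologyFunctor B i).obj K)) ↔
      F.mapDerivedCategory.essImage K := by
  constructor
  · intro h
    let N := Q.objPreimage K
    let e : Q.obj N ≅ K := Q.objObjPreimageIso K
    obtain ⟨I, r, hI, hr, -, hinj⟩ := KInjE.exists_kInjective_resolution N
    haveI := hr
    have hN : ∀ n, P (N.homology n) := fun n =>
      P.prop_of_iso (((DerivedCategory.homologyFunctor B n).mapIso e).symm ≪≫
        (DerivedCategory.homologyFunctorFactors B n).app N) (h n)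
    have hH : ∀ n, P (I.homology n) := prop_homology_of_quasiIso P r hN
    haveI := isIso_cMap adj P hK I hinj hH
    haveI : IsIso (Q.map r) := by
      rw [isIso_Q_map_iff_quasiIso]
      infer_instance
    exact ⟨Q.obj ((G.mapHomologicalComplex (ComplexShape.up ℤ)).obj I),
      ⟨asIso (cMap adj I) ≪≫ (asIso (Q.map r)).symm ≪≫ e⟩⟩
  · rintro ⟨X, ⟨e⟩⟩ i
    let M := Q.objPreimage X
    let eM : Q.obj M ≅ X := Q.objObjPreimageIso X
    have iso : (DerivedCategory.homologyFunctor B i).obj K ≅
        ((F.mapHomologicalComplex (ComplexShape.up ℤ)).obj M).homology i :=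
      (DerivedCategory.homologyFunctor B i).mapIso
        (e.symm ≪≫ F.mapDerivedCategory.mapIso eM.symm ≪≫ F.mapDerivedCategoryFactors.app M) ≪≫
        (DerivedCategory.homologyFunctorFactors B i).app _
    exact P.prop_of_iso iso.symm (hP M i)

end Groth.Agent.Helper29.TorsE
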