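import Mathlib

set_option autoImplicit false
universe u

namespace Groth.Agent.Helper29.UFDDescent

/-- divisibility descends along a faithfully flat ring map -/
theorem dvd_of_map_dvd {R R' : Type u} [CommRing R] [CommRing R'] [Algebra R R']
    [Module.FaithfullyFlat R R'] (x y : R)
    (h : algebraMap R R' y ∣ algebraMap R R' x) : y ∣ x := by
  have h1 : x ∈ ((Ideal.span {y}).map (algebraMap R R')).comap (algebraMap R R') := by
    rw [Ideal.mem_comap, Ideal.map_span, Set.image_singleton, Ideal.mem_span_singleton]
    exact h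
  rw [Ideal.comap_map_eq_self_of_faithfullyFlat, Ideal.mem_span_singleton] at h1
  exact h1

theorem prime_of_irreducible {R R' : Type u} [CommRing R] [CommRing R'] [IsDomain R] [IsDomain R']
    [IsLocalRing R'] [Algebra R R'] [Module.FaithfullyFlat R R']
    [UniqueFactorizationMonoid R'] (p : R) (hp : Irreducible p) : Prime p := by
  classical
  let _ : GCDMonoid R' := UniqueFactorizationMonoid.toGCDMonoid R'
  have hinj : Function.Injective (algebraMap R R') := FaithfulSMul.algebraMap_injective R R'
  refine ⟨hp.ne_zero, hp.not_isUnit, ?_⟩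
  intro a b hab
  by_contra hcon
  push Not at hcon
  obtain ⟨hpa, hpb⟩ := hcon
  obtain ⟨p', a', hp', ha', hu⟩ := extract_gcd (algebraMap R R' p) (algebraMap R R' a)
  have hrel : IsRelPrime p' a' := gcd_isUnit_iff_isRelPrime.mp hu
  generalize gcd (algebraMap R R' p) (algebraMap R R' a) = g at hp' ha'
  have hιp : algebraMap R R' p ≠ 0 := by
    intro h0
    exact hp.ne_zero (hinj (by rw [h0, map_zero]))
  have hg0 : g ≠ 0 := by
    intro h0
    rw [h0, zero_mul] at hp'
    exact hιp hp'
  have hp'0 : p' ≠ 0 := by
    intro h0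
    rw [h0, mul_zero] at hp'
    exact hιp hp'
  obtain ⟨k, α, y, hxy, hα⟩ := Module.Flat.isTrivialRelation_of_sum_smul_eq_zero
    (R := R) (M := R') (f := ![a, -p]) (x := ![p', a']) (by
      simp only [Fin.sum_univ_two, Matrix.cons_val_zero, Matrix.cons_val_one,
        Algebra.smul_def, map_neg]
      rw [ha', hp']
      ring)
  have h0 := hxy 0
  simp only [Matrix.cons_val_zero] at h0
  have hαj : ∀ j, p ∣ a * α 0 j := by
    intro j
    have := hα j
    simp only [Fin.sum_univ_two, Matrix.cons_val_zero, Matrix.cons_val_one] at this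
    exact ⟨α 1 j, by linear_combination this⟩
  have hJ : ∀ r : R, p ∣ a * r → p' ∣ algebraMap R R' r := by
    rintro r ⟨t, ht⟩
    have h1 : algebraMap R R' a * algebraMap R R' r =
        algebraMap R R' p * algebraMap R R' t := by
      rw [← map_mul, ← map_mul, ht]
    rw [ha', hp'] at h1
    have h2 : a' * algebraMap R R' r = p' * algebraMap R R' t := by
      apply mul_left_cancel₀ hg0
      rw [← mul_assoc, ← mul_assoc]
      exact h1
    exact hrel.dvd_of_dvd_mul_left ⟨_, h2⟩
  choose s hs using fun j => hJ (α 0 j) (hαj j)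
  have hone : ∑ j, s j * y j = 1 := by
    apply mul_left_cancel₀ hp'0
    rw [Finset.mul_sum, mul_one]
    conv_rhs => rw [h0]
    refine Finset.sum_congr rfl fun j _ => ?_
    rw [Algebra.smul_def, hs j, mul_assoc]
  obtain ⟨j, hj⟩ : ∃ j, IsUnit (s j * y j) := by
    by_contra hnone
    push Not at hnone
    have hmem : ∑ j, s j * y j ∈ IsLocalRing.maximalIdeal R' :=
      Ideal.sum_mem _ (fun j _ => (IsLocalRing.mem_maximalIdeal _).mpr (hnone j))
    rw [hone] at hmem
    exact (IsLocalRing.maximalIdeal.isMaximal R').ne_top ((Ideal.eq_top_iff_one _).mpr hmem)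
  have hsj : IsUnit (s j) := isUnit_of_mul_isUnit_left hj
  have hr₀ : ∀ r : R, p ∣ a * r → α 0 j ∣ r := by
    intro r hr
    apply dvd_of_map_dvd (R' := R')
    rw [hs j]
    exact (hsj.mul_right_dvd).mpr (hJ r hr)
  obtain ⟨c, hc⟩ := hr₀ p ⟨a, mul_comm a p⟩
  rcases hp.isUnit_or_isUnit hc with hu₀ | hc'
  · exact hpa ((hu₀.dvd_mul_right).mp (hαj j))
  · apply hpb
    rw [hc]
    exact (hc'.mul_right_dvd).mpr (hr₀ b hab)

theorem main (R R' : Type u) [CommRing R] [CommRing R'] [IsDomain R] [IsDomain R']
    [IsNoetherianRing R] [IsLocalRing R'] [Algebra R R'] [Module.FaithfullyFlat R R']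
    [UniqueFactorizationMonoid R'] : UniqueFactorizationMonoid R :=
  { (inferInstance : IsCancelMulZero R), (inferInstance : WfDvdMonoid R) with
    irreducible_iff_prime := fun {p} =>
      ⟨fun hp => prime_of_irreducible (R' := R') p hp, Prime.irreducible⟩ }

/-- descent of principality of an ideal along a faithfully flat map to a local domain -/
theorem isPrincipal_of_map_isPrincipal (R R' : Type u) [CommRing R] [CommRing R'] [IsDomain R']
    [IsNoetherianRing R] [IsLocalRing R'] [Algebra R R'] [Module.FaithfullyFlat R R']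
    (p : Ideal R) (hp : (p.map (algebraMap R R')).IsPrincipal) : p.IsPrincipal := by
  classical
  have hinj : Function.Injective (algebraMap R R') := FaithfulSMul.algebraMap_injective R R'
  obtain ⟨c, hc⟩ := hp
  obtain ⟨n, r, hr⟩ := Submodule.fg_iff_exists_fin_generating_family.mp
    (IsNoetherian.noetherian p)
  have hrp : ∀ i, r i ∈ p := fun i => hr ▸ Submodule.subset_span ⟨i, rfl⟩
  have hdvd : ∀ x ∈ p, c ∣ algebraMap R R' x := by
    intro x hx
    have := Ideal.mem_map_of_mem (algebraMap R R') hx
    rw [hc] at this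
    exact Ideal.mem_span_singleton.mp this
  by_cases hc0 : c = 0
  · have : p = ⊥ := by
      rw [eq_bot_iff]
      intro x hx
      have := hdvd x hx
      rw [hc0, zero_dvd_iff] at this
      exact (Submodule.mem_bot R).mpr (hinj (by rw [this, map_zero]))
    rw [this]
    infer_instance
  · choose s hs using fun i => hdvd (r i) (hrp i)
    have hcmem : c ∈ Ideal.span (Set.range (fun i => algebraMap R R' (r i))) := by
      have h1 : c ∈ p.map (algebraMap R R') := by
        rw [hc]
        exact Submodule.mem_span_singleton_self c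
      have h2 : p.map (algebraMap R R') =
          Ideal.span (Set.range (fun i => algebraMap R R' (r i))) := by
        rw [← hr]
        show Ideal.map (algebraMap R R') (Ideal.span (Set.range r)) = _
        rw [Ideal.map_span, ← Set.range_comp]
        rfl
      rwa [h2] at h1
    obtain ⟨t, ht⟩ := (Submodule.mem_span_range_iff_exists_fun R').mp hcmem
    have hone : ∑ i, t i * s i = 1 := by
      apply mul_left_cancel₀ hc0
      rw [Finset.mul_sum, mul_one]
      conv_rhs => rw [← ht]
      refine Finset.sum_congr rfl fun i _ => ?_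
      rw [smul_eq_mul, hs i]
      ring
    obtain ⟨i, hi⟩ : ∃ i, IsUnit (t i * s i) := by
      by_contra hnone
      push Not at hnone
      have hmem : ∑ i, t i * s i ∈ IsLocalRing.maximalIdeal R' :=
        Ideal.sum_mem _ (fun i _ => (IsLocalRing.mem_maximalIdeal _).mpr (hnone i))
      rw [hone] at hmem
      exact (IsLocalRing.maximalIdeal.isMaximal R').ne_top ((Ideal.eq_top_iff_one _).mpr hmem)
    have hsi : IsUnit (s i) := isUnit_of_mul_isUnit_right hi
    refine ⟨r i, ?_⟩
    apply le_antisymm
    · intro x hx
      apply Ideal.mem_span_singleton.mpr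
      apply dvd_of_map_dvd (R' := R')
      rw [hs i]
      exact (hsi.mul_right_dvd).mpr (hdvd x hx)
    · rw [Submodule.span_singleton_le_iff_mem]
      exact hrp i

end Groth.Agent.Helper29.UFDDescent
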