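import Mathlib

/-!
# A ring endomorphism of finite invertible order acting trivially on the graded pieces is trivial
-/

namespace Groth.Agent.Helper29.Unip

variable {A : Type*} [CommRing A]

theorem sub_mem_pow_succ (M : Ideal A) (g : A →+* A)
    (h0 : ∀ a, g a - a ∈ M) (h1 : ∀ a ∈ M, g a - a ∈ M ^ 2) :
    ∀ (j : ℕ) (x : A), x ∈ M ^ j → g x - x ∈ M ^ (j + 1) := by
  intro j
  induction j with
  | zero => intro x _; simpa using h0 x
  | succ j ih =>
    intro x hx
    rw [pow_succ] at hx
    refine Submodule.mul_induction_on (C := fun x => g x - x ∈ M ^ (j + 1 + 1)) hx ?_ ?_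
    · intro r hr n hn
      have hgn : g n ∈ M := by
        have := M.add_mem (Ideal.pow_le_self two_ne_zero (h1 n hn)) hn
        simpa using this
      have e : g (r * n) - r * n = (g r - r) * g n + r * (g n - n) := by
        rw [map_mul]; ring
      change g (r * n) - r * n ∈ M ^ (j + 1 + 1)
      rw [e]
      refine Ideal.add_mem _ ?_ ?_
      · rw [pow_succ M (j + 1)]
        exact Ideal.mul_mem_mul (ih r hr) hgn
      · have : M ^ (j + 1 + 1) = M ^ j * M ^ 2 := by rw [← pow_add]
        rw [this]
        exact Ideal.mul_mem_mul hr (h1 n hn)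
    · intro x y hx hy
      have e : g (x + y) - (x + y) = (g x - x) + (g y - y) := by rw [map_add]; ring
      change g (x + y) - (x + y) ∈ M ^ (j + 1 + 1)
      rw [e]; exact Ideal.add_mem _ hx hy

theorem eq_self_of_iterate_eq (M : Ideal A) (hM : ⨅ j, M ^ j = ⊥) (g : A →+* A) (n : ℕ)
    (hn : ∀ (j : ℕ) (x : A), (n : A) * x ∈ M ^ j → x ∈ M ^ j)
    (hgn : ∀ a, g^[n] a = a)
    (h0 : ∀ a, g a - a ∈ M) (h1 : ∀ a ∈ M, g a - a ∈ M ^ 2) (a : A) : g a = a := by
  have hstep := sub_mem_pow_succ M g h0 h1
  have main : ∀ (j : ℕ) (a : A), g a - a ∈ M ^ j := by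
    intro j
    induction j with
    | zero => intro a; simp
    | succ j ih =>
      intro a
      have iter : ∀ m : ℕ, g^[m] a - a - (m : A) * (g a - a) ∈ M ^ (j + 1) := by
        intro m
        induction m with
        | zero => simp
        | succ m ihm =>
          rw [Function.iterate_succ_apply']
          have hba : g^[m] a - a ∈ M ^ j := by
            have h2 : (m : A) * (g a - a) ∈ M ^ j := Ideal.mul_mem_left _ _ (ih a)
            have h3 := Ideal.add_mem _ (Ideal.pow_le_pow_right (Nat.le_succ j) ihm) h2
            simpa using h3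
          have h4 := hstep j _ hba
          have e : g (g^[m] a) - a - ((m + 1 : ℕ) : A) * (g a - a)
              = (g (g^[m] a - a) - (g^[m] a - a)) + (g^[m] a - a - (m : A) * (g a - a)) := by
            rw [map_sub]; push_cast; ring
          rw [e]
          exact Ideal.add_mem _ h4 ihm
      have h5 := iter n
      rw [hgn a, sub_self, zero_sub] at h5
      exact hn _ _ (neg_mem_iff.1 h5)
  have : g a - a ∈ (⨅ j, M ^ j : Ideal A) := by
    rw [Ideal.mem_iInf]; exact fun j => main j a
  rw [hM, Ideal.mem_bot, sub_eq_zero] at this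
  exact this

end Groth.Agent.Helper29.Unip
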