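import Mathlib
import Groth.Agent.Lib.Helper29.ColimHom

/-!
# ℤ-models of finitely presented formally unramified algebras
-/

namespace Groth.Agent.Helper29.UnramModel

universe u

open TensorProduct
open Groth.Agent.Helper29.ColimTensor Groth.Agent.Helper29.ColimHom

section

variable (R₀ : Type u) [CommRing R₀] (R : Type u) [CommRing R] [Algebra R₀ R]

/-- The finitely generated `R₀`-subalgebras of `R`. -/
abbrev FGSub : Type u := {T : Subalgebra R₀ R // T.FG}

instance : IsDirected (FGSub R₀ R) (· ≤ ·) :=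
  ⟨fun T₁ T₂ => ⟨⟨T₁.1 ⊔ T₂.1, T₁.2.sup T₂.2⟩, le_sup_left (a := T₁.1), le_sup_right (a := T₁.1)⟩⟩

instance : Nonempty (FGSub R₀ R) := ⟨⟨⊥, Subalgebra.fg_bot⟩⟩

/-- Formal unramifiedness of a base change `R ⊗[R₀] C` descends to a finitely generated
`R₀`-subalgebra of `R`. -/
theorem exists_fg_subalgebra_formallyUnramified (C : Type u) [CommRing C] [Algebra R₀ C]
    [Algebra.FiniteType R₀ C] (h : Algebra.FormallyUnramified R (R ⊗[R₀] C)) :
    ∃ T : Subalgebra R₀ R, T.FG ∧ Algebra.FormallyUnramified T (T ⊗[R₀] C) := by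
  have hfg : ∀ a : R, (Algebra.adjoin R₀ ({a} : Set R)).FG := fun a =>
    ⟨{a}, by simp⟩
  obtain ⟨T, hT⟩ := unramified_stage' (ι := FGSub R₀ R) (A₀ := R₀)
    (G := fun T => ↥T.1) (fun T₁ T₂ h => Subalgebra.inclusion h) (A := R)
    (g := fun T => T.1.val) (fun _ _ _ => rfl)
    (fun a => ⟨⟨Algebra.adjoin R₀ {a}, hfg a⟩,
      ⟨a, Algebra.subset_adjoin (Set.mem_singleton a)⟩, rfl⟩)
    (fun T x hx => ⟨T, le_rfl, by
      have : x = 0 := Subtype.ext hx
      rw [this, map_zero]⟩) C h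
  exact ⟨T.1, T.2, hT⟩

end

theorem main (R : Type u) [CommRing R] (S : Type u) [CommRing S]
    [Algebra R S] [Algebra.FinitePresentation R S] [Algebra.FormallyUnramified R S] :
    ∃ (R₀ : Type u) (_ : CommRing R₀) (_ : Algebra.FiniteType ℤ R₀) (S₀ : Type u) (_ : CommRing S₀)
      (_ : Algebra R₀ S₀) (_ : Algebra.FinitePresentation R₀ S₀)
      (_ : Algebra.FormallyUnramified R₀ S₀)
      (_ : Algebra R₀ R), Nonempty (R ⊗[R₀] S₀ ≃ₐ[R] S) := by
  obtain ⟨n, m, ⟨P⟩⟩ := Algebra.Presentation.exists_presentation_fin R S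
  let e := P.tensorModelOfHasCoeffsEquiv P.Core
  have hfu : Algebra.FormallyUnramified R (R ⊗[P.Core] P.ModelOfHasCoeffs P.Core) :=
    Algebra.FormallyUnramified.of_equiv e.symm
  obtain ⟨T, hTfg, hT⟩ := exists_fg_subalgebra_formallyUnramified P.Core R
    (P.ModelOfHasCoeffs P.Core) hfu
  have hft : Algebra.FiniteType P.Core T := (Subalgebra.fg_iff_finiteType T).mp hTfg
  have hftZ : Algebra.FiniteType ℤ T := Algebra.FiniteType.trans (S := P.Core) inferInstance hft
  refine ⟨T, inferInstance, hftZ, T ⊗[P.Core] P.ModelOfHasCoeffs P.Core, inferInstance,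
    inferInstance, inferInstance, hT, inferInstance, ⟨?_⟩⟩
  exact (Algebra.TensorProduct.cancelBaseChange P.Core T R R (P.ModelOfHasCoeffs P.Core)).trans e

end Groth.Agent.Helper29.UnramModel
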