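import Mathlib
import Groth.Agent.Lib.Helper29.UnramModel

/-!
# An unramified algebra is a quotient of a finitely presented formally unramified algebra
-/

namespace Groth.Agent.Helper29.UnramFP

universe u

open TensorProduct

section Aux

variable {R : Type u} [CommRing R] {S' : Type u} [CommRing S'] [Algebra R S']

lemma lmul'_map {P : Type u} [CommRing P] [Algebra R P] (π : P →ₐ[R] S') (x : P ⊗[R] P) :
    Algebra.TensorProduct.lmul' R (Algebra.TensorProduct.map π π x) =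
      π (Algebra.TensorProduct.lmul' R x) := by
  induction x using TensorProduct.induction_on with
  | zero => simp
  | tmul a b => simp
  | add x y hx hy => simp only [map_add, hx, hy]

/-- The diagonal condition propagates from generators. -/
lemma diag_of_gens {n : ℕ} (π : MvPolynomial (Fin n) R →ₐ[R] S') (hπ : Function.Surjective π)
    (t : S' ⊗[R] S')
    (h : ∀ k, ((1 : S') ⊗ₜ[R] π (MvPolynomial.X k) - π (MvPolynomial.X k) ⊗ₜ[R] (1 : S')) * t = 0) :
    ∀ s : S', ((1 : S') ⊗ₜ[R] s - s ⊗ₜ[R] (1 : S')) * t = 0 := by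
  intro s
  obtain ⟨p, rfl⟩ := hπ s
  induction p using MvPolynomial.induction_on with
  | C r =>
    have : (1 : S') ⊗ₜ[R] π (MvPolynomial.C r) = π (MvPolynomial.C r) ⊗ₜ[R] (1 : S') := by
      rw [← MvPolynomial.algebraMap_eq, AlgHom.commutes, Algebra.algebraMap_eq_smul_one,
        TensorProduct.tmul_smul, TensorProduct.smul_tmul']
    rw [this, sub_self, zero_mul]
  | add p q hp hq =>
    rw [map_add, TensorProduct.tmul_add, TensorProduct.add_tmul]
    have : ((1 : S') ⊗ₜ[R] π p + (1 : S') ⊗ₜ[R] π q - (π p ⊗ₜ[R] (1 : S') + π q ⊗ₜ[R] (1 : S'))) * t =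
        ((1 : S') ⊗ₜ[R] π p - π p ⊗ₜ[R] (1 : S')) * t +
          ((1 : S') ⊗ₜ[R] π q - π q ⊗ₜ[R] (1 : S')) * t := by ring
    rw [this, hp, hq, add_zero]
  | mul_X p k hp =>
    rw [map_mul]
    have e : (1 : S') ⊗ₜ[R] (π p * π (MvPolynomial.X k)) - (π p * π (MvPolynomial.X k)) ⊗ₜ[R] (1 : S') =
        ((1 : S') ⊗ₜ[R] π p) * ((1 : S') ⊗ₜ[R] π (MvPolynomial.X k) - π (MvPolynomial.X k) ⊗ₜ[R] (1 : S')) +
        (π (MvPolynomial.X k) ⊗ₜ[R] (1 : S')) * ((1 : S') ⊗ₜ[R] π p - π p ⊗ₜ[R] (1 : S')) := by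
      simp only [mul_sub, Algebra.TensorProduct.tmul_mul_tmul, one_mul, mul_one]
      rw [mul_comm (π (MvPolynomial.X k)) (π p)]
      abel
    rw [e, add_mul, mul_assoc, h k, mul_zero, mul_assoc, hp, mul_zero, add_zero]

end Aux

theorem exists_fp_cover (R : Type u) [CommRing R] (S : Type u) [CommRing S] [Algebra R S]
    [Algebra.Unramified R S] :
    ∃ (S' : Type u) (_ : CommRing S') (_ : Algebra R S'), Algebra.FinitePresentation R S' ∧
      Algebra.FormallyUnramified R S' ∧ ∃ ψ : S' →ₐ[R] S, Function.Surjective ψ := by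
  classical
  obtain ⟨n, f, hf⟩ := Algebra.FiniteType.iff_quotient_mvPolynomial''.mp
    (inferInstance : Algebra.FiniteType R S)
  let P := MvPolynomial (Fin n) R
  let I : Ideal P := RingHom.ker f
  let t := Algebra.FormallyUnramified.elem R S
  obtain ⟨t₀, ht₀⟩ := Algebra.TensorProduct.map_surjective f f hf hf t
  let ff : P ⊗[R] P →ₐ[R] S ⊗[R] S := Algebra.TensorProduct.map f f
  let U : Set (P ⊗[R] P) :=
    (Algebra.TensorProduct.includeLeft : P →ₐ[R] P ⊗[R] P) '' (I : Set P) ∪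
      (Algebra.TensorProduct.includeRight : P →ₐ[R] P ⊗[R] P) '' (I : Set P)
  have hK : RingHom.ker ff = Ideal.span U := by
    rw [Algebra.TensorProduct.map_ker f f hf hf, Ideal.map, Ideal.map, ← Ideal.span_union]
  let z : Fin n → P ⊗[R] P := fun k =>
    ((1 : P) ⊗ₜ[R] (MvPolynomial.X k : P) - (MvPolynomial.X k : P) ⊗ₜ[R] (1 : P)) * t₀
  have hz : ∀ k, z k ∈ Ideal.span U := by
    intro k
    rw [← hK, RingHom.mem_ker]
    show ff (z k) = 0
    simp only [z, map_mul, map_sub, ff, Algebra.TensorProduct.map_tmul, map_one, ht₀]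
    exact Algebra.FormallyUnramified.one_tmul_sub_tmul_one_mul_elem _
  have hi₀ : Algebra.TensorProduct.lmul' R t₀ - 1 ∈ I := by
    show f (Algebra.TensorProduct.lmul' R t₀ - 1) = 0
    rw [map_sub, map_one, ← lmul'_map, ht₀, Algebra.FormallyUnramified.lmul_elem, sub_self]
  choose T hTU hzT using fun k => Submodule.mem_span_finite_of_mem_span (hz k)
  -- choice of an element of `I` for each generator
  have hU : ∀ u ∈ U, ∃ i ∈ I, u = i ⊗ₜ[R] (1 : P) ∨ u = (1 : P) ⊗ₜ[R] i := by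
    rintro u (⟨i, hi, rfl⟩ | ⟨i, hi, rfl⟩)
    · exact ⟨i, hi, Or.inl rfl⟩
    · exact ⟨i, hi, Or.inr rfl⟩
  let c : P ⊗[R] P → P := fun u =>
    if h : ∃ i ∈ I, u = i ⊗ₜ[R] (1 : P) ∨ u = (1 : P) ⊗ₜ[R] i then h.choose else 0
  have hc : ∀ u ∈ U, c u ∈ I ∧ (u = c u ⊗ₜ[R] (1 : P) ∨ u = (1 : P) ⊗ₜ[R] c u) := by
    intro u hu
    have h := hU u hu
    simp only [c, dif_pos h]
    exact h.choose_spec
  let F : Finset P := insert (Algebra.TensorProduct.lmul' R t₀ - 1)
    (Finset.univ.biUnion fun k => (T k).image c)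
  have hFI : (F : Set P) ⊆ I := by
    intro x hx
    rcases Finset.mem_insert.mp hx with rfl | hx
    · exact hi₀
    · obtain ⟨k, _, hx⟩ := Finset.mem_biUnion.mp hx
      obtain ⟨u, hu, rfl⟩ := Finset.mem_image.mp hx
      exact (hc u (hTU k hu)).1
  let J : Ideal P := Ideal.span (F : Set P)
  have hJI : J ≤ I := Ideal.span_le.mpr hFI
  let π : P →ₐ[R] P ⧸ J := Ideal.Quotient.mkₐ R J
  have hπ : Function.Surjective π := Ideal.Quotient.mkₐ_surjective R J
  have hπF : ∀ x ∈ F, π x = 0 := fun x hx =>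
    Ideal.Quotient.eq_zero_iff_mem.mpr (Ideal.subset_span hx)
  let ππ : P ⊗[R] P →ₐ[R] (P ⧸ J) ⊗[R] (P ⧸ J) := Algebra.TensorProduct.map π π
  let t' := ππ t₀
  have hT0 : ∀ k, ∀ u ∈ T k, ππ u = 0 := by
    intro k u hu
    have hcu := hc u (hTU k hu)
    have hmem : c u ∈ F := Finset.mem_insert_of_mem
      (Finset.mem_biUnion.mpr ⟨k, Finset.mem_univ k, Finset.mem_image_of_mem _ hu⟩)
    rcases hcu.2 with h | h
    · rw [h]
      simp only [ππ, Algebra.TensorProduct.map_tmul, hπF _ hmem, TensorProduct.zero_tmul]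
    · rw [h]
      simp only [ππ, Algebra.TensorProduct.map_tmul, hπF _ hmem, TensorProduct.tmul_zero]
  have hz0 : ∀ k, ππ (z k) = 0 := by
    intro k
    have hle : Ideal.span (T k : Set (P ⊗[R] P)) ≤ RingHom.ker ππ :=
      Ideal.span_le.mpr fun u hu => hT0 k u hu
    exact hle (hzT k)
  have h1 : ∀ k, ((1 : P ⧸ J) ⊗ₜ[R] π (MvPolynomial.X k) -
      π (MvPolynomial.X k) ⊗ₜ[R] (1 : P ⧸ J)) * t' = 0 := by
    intro k
    have := hz0 k
    simpa only [z, map_mul, map_sub, ππ, Algebra.TensorProduct.map_tmul, map_one] using this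
  have h2 : Algebra.TensorProduct.lmul' R t' = 1 := by
    rw [lmul'_map]
    have := hπF _ (Finset.mem_insert_self _ _)
    rwa [map_sub, map_one, sub_eq_zero] at this
  have hfu : Algebra.FormallyUnramified R (P ⧸ J) :=
    Algebra.FormallyUnramified.iff_exists_tensorProduct.mpr ⟨t', diag_of_gens π hπ t' h1, h2⟩
  have hfp : Algebra.FinitePresentation R (P ⧸ J) :=
    Algebra.FinitePresentation.quotient ⟨F, rfl⟩
  refine ⟨P ⧸ J, inferInstance, inferInstance, hfp, hfu,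
    Ideal.Quotient.liftₐ J f (fun a ha => hJI ha), ?_⟩
  intro s
  obtain ⟨p, rfl⟩ := hf s
  exact ⟨Ideal.Quotient.mk J p, rfl⟩

theorem main (R : Type u) [CommRing R] (S : Type u)
    [CommRing S] [Algebra R S] [Algebra.Unramified R S] :
    ∃ (R₀ : Type u) (_ : CommRing R₀) (_ : Algebra.FiniteType ℤ R₀) (S₀ : Type u) (_ : CommRing S₀)
      (_ : Algebra R₀ S₀) (_ : Algebra.Unramified R₀ S₀) (_ : Algebra R₀ R)
      (ψ : R ⊗[R₀] S₀ →ₐ[R] S), Function.Surjective ψ := by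
  obtain ⟨S', _, _, hfp, hfu, ψ, hψ⟩ := exists_fp_cover R S
  obtain ⟨R₀, _, hR₀, S₀, _, _, hfp₀, hfu₀, _, ⟨e⟩⟩ :=
    Groth.Agent.Helper29.UnramModel.main R S'
  exact ⟨R₀, inferInstance, hR₀, S₀, inferInstance, inferInstance, {}, inferInstance,
    ψ.comp e.toAlgHom, hψ.comp e.surjective⟩

end Groth.Agent.Helper29.UnramFP
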