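import Mathlib
import Groth.Prelude.Def_Versch
import Groth.Prelude.Def_SGA3b

set_option autoImplicit false
universe u

namespace Groth.Agent.Helper29.VerschLib

open TensorProduct WithConv Coalgebra

variable {k : Type u} [Field k] {A : Type u} [CommRing A] [HopfAlgebra k A]

/-- embedding of the dual into the convolution ring of endomorphisms -/
noncomputable def Φ (x : WithConv (A →ₗ[k] k)) : WithConv (A →ₗ[k] A) :=
  toConv ((Algebra.ofId k A).toLinearMap ∘ₗ x.ofConv)

theorem Φ_apply (x : WithConv (A →ₗ[k] k)) (a : A) :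
    (Φ x).ofConv a = algebraMap k A (x.ofConv a) := rfl

theorem Φ_mul (x y : WithConv (A →ₗ[k] k)) : Φ (x * y) = Φ x * Φ y := by
  have h := LinearMap.algHom_comp_convMul_distrib (Algebra.ofId k A) x y
  apply ofConv_injective
  exact h

theorem Φ_one : Φ (1 : WithConv (A →ₗ[k] k)) = 1 := by
  apply ofConv_injective
  ext a
  rw [Φ_apply, LinearMap.convOne_def, LinearMap.convOne_def]
  simp

theorem Φ_pow (x : WithConv (A →ₗ[k] k)) (n : ℕ) : Φ (x ^ n) = Φ x ^ n := by
  induction n with
  | zero => rw [pow_zero, pow_zero, Φ_one]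
  | succ n ih => rw [pow_succ, pow_succ, Φ_mul, ih]

theorem algebraMap_injective : Function.Injective (algebraMap k A) := by
  intro c c' h
  have := congrArg (Coalgebra.counit (R := k)) h
  simpa [Bialgebra.counit_algebraMap] using this

theorem id_eq_sum {ι : Type*} [Fintype ι] (b : Module.Basis ι k A) :
    (toConv (LinearMap.id : A →ₗ[k] A)) = ∑ i, (b i) • Φ (toConv (b.coord i)) := by
  apply ofConv_injective
  ext a
  simp only [ofConv_toConv, LinearMap.id_apply, ofConv_sum, ofConv_smul, LinearMap.sum_apply,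
    LinearMap.smul_apply, Φ_apply, smul_eq_mul]
  conv_lhs => rw [← b.sum_repr a]
  refine Finset.sum_congr rfl fun i _ => ?_
  rw [Algebra.smul_def, mul_comm]
  rfl

theorem powConv_apply (m : ℕ) (a : A) :
    SGA3b.powConv k A m a = ((toConv (LinearMap.id : A →ₗ[k] A)) ^ m).ofConv a := by
  have h := AlgHom.toLinearMap_convPow (toConv (AlgHom.id k A)) m
  have h2 := congrArg (fun f => f.ofConv a) h
  exact h2

theorem comp_pow {B : Type u} [CommRing B] [Algebra k B] (h : A →ₐ[k] B)
    (f : WithConv (A →ₐ[k] A)) (n : ℕ) :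
    h.comp (f ^ n).ofConv = ofConv ((toConv (h.comp f.ofConv)) ^ n) := by
  induction n with
  | zero =>
    rw [pow_zero, pow_zero]
    ext a
    simp [AlgHom.convOne_def]
  | succ n ih =>
    rw [pow_succ, pow_succ, AlgHom.comp_convMul_distrib, ih]

theorem powConv_comp (m n : ℕ) :
    (SGA3b.powConv k A m).comp (SGA3b.powConv k A n) = SGA3b.powConv k A (m * n) := by
  have h := comp_pow (SGA3b.powConv k A m) (toConv (AlgHom.id k A)) n
  unfold SGA3b.powConv at h ⊢
  rw [h, pow_mul]
  rfl

theorem counit_powConv (m : ℕ) (a : A) :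
    Coalgebra.counit (R := k) (SGA3b.powConv k A m a) = Coalgebra.counit (R := k) a := by
  have h := comp_pow (Bialgebra.counitAlgHom k A) (toConv (AlgHom.id k A)) m
  have h1 : toConv ((Bialgebra.counitAlgHom k A).comp (toConv (AlgHom.id k A)).ofConv) =
      (1 : WithConv (A →ₐ[k] k)) := by
    rw [AlgHom.convOne_def]
    congr 1
  rw [h1, one_pow] at h
  have h2 := congrArg (fun f => f a) h
  simpa [SGA3b.powConv, AlgHom.convOne_def] using h2


section CharP
variable (p : ℕ) [Fact p.Prime] [CharP k p] [Coalgebra.IsCocomm k A]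

omit [Fact p.Prime] [Coalgebra.IsCocomm k A] in
include k in
theorem charP_A : CharP A p := charP_of_injective_algebraMap (algebraMap_injective (k := k)) p

theorem charP_E : CharP (WithConv (A →ₗ[k] A)) p := by
  refine charP_of_injective_algebraMap (R := k) ?_ p
  intro c c' h
  have h1 := congrArg (fun f : WithConv (A →ₗ[k] A) => f.ofConv (1 : A)) h
  have h2 : c • (1 : A) = c' • (1 : A) := by
    simpa [LinearMap.convAlgebraMap_apply] using h1
  rw [← Algebra.algebraMap_eq_smul_one, ← Algebra.algebraMap_eq_smul_one] at h2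
  exact algebraMap_injective h2

theorem pow_id_eq_sum {ι : Type*} [Fintype ι] (b : Module.Basis ι k A) :
    (toConv (LinearMap.id : A →ₗ[k] A)) ^ p =
      ∑ i, (b i) ^ p • Φ ((toConv (b.coord i)) ^ p) := by
  have hchar : CharP (WithConv (A →ₗ[k] A)) p := charP_E p
  rw [id_eq_sum b, sum_pow_char]
  refine Finset.sum_congr rfl fun i _ => ?_
  rw [smul_pow, Φ_pow]

theorem exists_preimage_pow [Module.Finite k A] (v : A →+* FrobAlg.BaseChange p k A)
    (hv : Versch.IsVerschiebung p k A v) (hsurj : Function.Surjective v) (c : A) :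
    ∃ a : A, SGA3b.powConv k A p a = c ^ p := by
  classical
  obtain ⟨a, ha⟩ := hsurj (c ⊗ₜ (1 : FrobAlg.Twist p k))
  refine ⟨a, ?_⟩
  let b := Module.Free.chooseBasis k A
  have hcharA : CharP A p := charP_A (k := k) (A := A) p
  rw [Versch.isVerschiebung_iff p k A v] at hv
  have hcoord : ∀ i, ((toConv (b.coord i) : CartDual.D k A) ^ p).ofConv a = (b.coord i c) ^ p := by
    intro i
    have h1 := hv a (toConv (b.coord i))
    rw [ha, Versch.evTw_tmul', mul_one] at h1
    exact ((FrobAlg.toTwist p k).injective h1).symm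
  rw [powConv_apply, pow_id_eq_sum p b]
  simp only [ofConv_sum, ofConv_smul, LinearMap.sum_apply, LinearMap.smul_apply, Φ_apply,
    smul_eq_mul]
  conv_rhs => rw [← b.sum_repr c, sum_pow_char]
  refine Finset.sum_congr rfl fun i _ => ?_
  rw [hcoord i, Algebra.smul_def, mul_pow, map_pow, mul_comm]
  rfl

theorem main [Module.Finite k A]
    (n : ℕ)
    (hn : SGA3b.powConv k A (p ^ n) = (Algebra.ofId k A).comp (Bialgebra.counitAlgHom k A))
    (v : A →+* FrobAlg.BaseChange p k A) (hv : Versch.IsVerschiebung p k A v)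
    (hbij : Function.Bijective v)
    (a : A) (ha : Coalgebra.counit (R := k) a = 0) : a ^ (p ^ n) = 0 := by
  have key : ∀ m : ℕ, ∀ c : A, Coalgebra.counit (R := k) c = 0 →
      ∃ d : A, Coalgebra.counit (R := k) d = 0 ∧ c ^ (p ^ m) = SGA3b.powConv k A (p ^ m) d := by
    intro m
    induction m with
    | zero =>
      intro c hc
      refine ⟨c, hc, ?_⟩
      rw [pow_zero, pow_one, powConv_apply, pow_one]
      rfl
    | succ m ih =>
      intro c hc
      obtain ⟨a', ha'⟩ := exists_preimage_pow p v hv hbij.surjective c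
      have hε : Coalgebra.counit (R := k) a' = 0 := by
        have h := counit_powConv (k := k) p a'
        rw [ha'] at h
        have h2 : Coalgebra.counit (R := k) (c ^ p) = 0 := by
          have : Coalgebra.counit (R := k) (c ^ p) = (Bialgebra.counitAlgHom k A) (c ^ p) := rfl
          rw [this, map_pow]
          have : (Bialgebra.counitAlgHom k A) c = 0 := hc
          rw [this, zero_pow (Fact.out : p.Prime).ne_zero]
        rw [← h, h2]
      obtain ⟨d, hd, hd'⟩ := ih a' hε
      refine ⟨d, hd, ?_⟩
      rw [pow_succ, pow_mul', ← ha', ← map_pow, hd', mul_comm, ← powConv_comp]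
      rfl
  obtain ⟨d, hd, hd'⟩ := key n a ha
  rw [hd', hn]
  simp [hd]

end CharP

end Groth.Agent.Helper29.VerschLib
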