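import Mathlib
import Groth.Agent.Lib.Helper14.WeilAff1

/-!
# Finite type of the Weil-restriction ring `WR C e` when `C` is of finite type
-/

set_option autoImplicit false

universe u

namespace Groth.Agent.Helper29.WRft

open Groth.Agent.Helper14.WeilAff

variable {A B C : Type u} [CommRing A] [CommRing B] [CommRing C] [Algebra A B] [Algebra A C]
  {ι : Type u} [Fintype ι]

theorem adjoin_xb_top (e : Module.Basis ι A B) :
    Algebra.adjoin A (Set.range fun p : C × ι => xb e p.1 p.2) = ⊤ := by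
  have hsurj : Function.Surjective
      (Ideal.Quotient.mkₐ A (Ideal.span {p | Rel C e p})) :=
    Ideal.Quotient.mkₐ_surjective A _
  have h1 : (⊤ : Subalgebra A (WR C e)) =
      (⊤ : Subalgebra A (MvPolynomial (C × ι) A)).map
        (Ideal.Quotient.mkₐ A (Ideal.span {p | Rel C e p})) := by
    rw [Algebra.map_top]
    exact (AlgHom.range_eq_top _).mpr hsurj |>.symm
  rw [h1, ← MvPolynomial.adjoin_range_X, AlgHom.map_adjoin]
  congr 1
  ext x
  constructor
  · rintro ⟨p, rfl⟩
    exact ⟨MvPolynomial.X p, ⟨p, rfl⟩, rfl⟩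
  · rintro ⟨_, ⟨p, rfl⟩, rfl⟩
    exact ⟨p, rfl⟩

theorem xb_mem_of_adjoin (e : Module.Basis ι A B) (s : Set C)
    (hs : Algebra.adjoin A s = ⊤) (c : C) (k : ι) :
    xb e c k ∈ Algebra.adjoin A ((fun p : C × ι => xb e p.1 p.2) '' (s ×ˢ Set.univ)) := by
  set T := Algebra.adjoin A ((fun p : C × ι => xb e p.1 p.2) '' (s ×ˢ Set.univ)) with hT
  have hc : c ∈ Algebra.adjoin A s := by rw [hs]; exact Algebra.mem_top
  revert k
  induction hc using Algebra.adjoin_induction with
  | mem x hx =>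
    intro k
    exact Algebra.subset_adjoin ⟨(x, k), ⟨hx, Set.mem_univ _⟩, rfl⟩
  | algebraMap a =>
    intro k
    rw [xb_alg]
    exact Subalgebra.algebraMap_mem _ _
  | add x y _ _ hx hy =>
    intro k
    rw [xb_add]
    exact Subalgebra.add_mem _ (hx k) (hy k)
  | mul x y _ _ hx hy =>
    intro k
    rw [xb_mul]
    refine Subalgebra.sum_mem _ fun i _ => Subalgebra.sum_mem _ fun j _ => ?_
    exact Subalgebra.mul_mem _ (Subalgebra.mul_mem _ (Subalgebra.algebraMap_mem _ _) (hx i)) (hy j)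

theorem finiteType_WR (e : Module.Basis ι A B) [Algebra.FiniteType A C] :
    Algebra.FiniteType A (Groth.Agent.Helper14.WeilAff.WR C e) := by
  obtain ⟨s, hs⟩ := (Algebra.FiniteType.out : (⊤ : Subalgebra A C).FG)
  refine ⟨(Subalgebra.fg_def).mpr
    ⟨(fun p : C × ι => xb e p.1 p.2) '' ((s : Set C) ×ˢ Set.univ), ?_, ?_⟩⟩
  · exact (s.finite_toSet.prod Set.finite_univ).image _
  · apply top_le_iff.mp
    rw [← adjoin_xb_top e]
    apply Algebra.adjoin_le
    rintro _ ⟨p, rfl⟩
    exact xb_mem_of_adjoin e (s : Set C) hs p.1 p.2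

end Groth.Agent.Helper29.WRft
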