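import Mathlib

/-!
# Invariants of an Artin–Schreier type action: complete-intersection subalgebra (helper29)
-/

namespace Groth.Agent.Helper29.WildCI

universe u v

open Finset

section Basis

variable {R : Type u} [CommRing R] {A : Type v} [CommRing A] [Algebra R A]
  (σ : A ≃ₐ[R] A) (v b : A)

/-- The `b`-falling factorial basis `v (v - b) ⋯ (v - (l-1) b)`. -/
def ee (v b : A) : ℕ → A
  | 0 => 1
  | (l + 1) => ee v b l * (v - (l : A) * b)

theorem ee_zero : ee v b 0 = 1 := rfl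

theorem ee_succ (l : ℕ) : ee v b (l + 1) = ee v b l * (v - (l : A) * b) := rfl

theorem v_mul_ee (l : ℕ) : v * ee v b l = ee v b (l + 1) + (l : A) * b * ee v b l := by
  rw [ee_succ]; ring

variable (hv : σ v = v + b) (hb : σ b = b)

include hv hb in
theorem sigma_ee_succ (l : ℕ) : σ (ee v b (l + 1)) = (v + b) * ee v b l := by
  induction l with
  | zero => rw [ee_succ, ee_zero, map_mul, map_one, map_sub, map_mul, hv, hb]; simp
  | succ l ih =>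
    rw [ee_succ (l := l + 1), map_mul, ih, map_sub, map_mul, map_natCast, hv, hb, ee_succ]
    push_cast; ring

include hv hb in
theorem D_sum (d : ℕ) (c : ℕ → A) (hc : ∀ l, σ (c l) = c l) :
    σ (∑ l ∈ range (d + 1), c l * ee v b l) - ∑ l ∈ range (d + 1), c l * ee v b l =
      ∑ l ∈ range d, (((l + 1 : ℕ) : A) * b * c (l + 1)) * ee v b l := by
  rw [map_sum, ← sum_sub_distrib, sum_range_succ']
  have h0 : σ (c 0 * ee v b 0) - c 0 * ee v b 0 = 0 := by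
    rw [ee_zero, mul_one, hc, sub_self]
  rw [h0, add_zero]
  apply sum_congr rfl
  intro l _
  rw [map_mul, hc, sigma_ee_succ σ v b hv hb, ee_succ]; push_cast; ring

include hv hb in
theorem key (p : ℕ) (hunit : ∀ j : ℕ, 0 < j → j < p → ∃ w : A, w * (j : A) = 1) :
    ∀ d : ℕ, d < p → ∀ c : ℕ → A, (∀ l, σ (c l) = c l) →
      σ (∑ l ∈ range (d + 1), c l * ee v b l) = ∑ l ∈ range (d + 1), c l * ee v b l →
      ∃ N : ℕ, ∀ l, 1 ≤ l → l ≤ d → b ^ N * c l = 0 := by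
  intro d
  induction d with
  | zero => intro _ c _ _; exact ⟨0, fun l h1 h2 => by omega⟩
  | succ d ih =>
    intro hd c hc hfix
    have hΔ := D_sum σ v b hv hb (d + 1) c hc
    rw [hfix, sub_self] at hΔ
    have hc'' : ∀ l, σ (((l + 1 : ℕ) : A) * b * c (l + 1)) = ((l + 1 : ℕ) : A) * b * c (l + 1) := by
      intro l; rw [map_mul, map_mul, map_natCast, hb, hc]
    obtain ⟨N, hN⟩ := ih (by omega) (fun l => ((l + 1 : ℕ) : A) * b * c (l + 1)) hc''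
      (by rw [← hΔ, map_zero])
    have hN0 : b ^ N * (((0 + 1 : ℕ) : A) * b * c (0 + 1)) = 0 := by
      have h2 : b ^ N * ∑ l ∈ range (d + 1), (((l + 1 : ℕ) : A) * b * c (l + 1)) * ee v b l = 0 := by
        rw [← hΔ, mul_zero]
      rw [sum_range_succ', mul_add, mul_sum] at h2
      have h3 : ∑ i ∈ range d, b ^ N * ((((i + 1 + 1 : ℕ) : A) * b * c (i + 1 + 1)) *
          ee v b (i + 1)) = 0 := by
        apply sum_eq_zero
        intro i hi
        have := hN (i + 1) (by omega) (by have := mem_range.mp hi; omega)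
        rw [← mul_assoc, this, zero_mul]
      rw [h3, zero_add, ee_zero, mul_one] at h2
      exact h2
    have hall : ∀ l, l ≤ d → b ^ N * (((l + 1 : ℕ) : A) * b * c (l + 1)) = 0 := by
      intro l hl
      rcases Nat.eq_zero_or_pos l with rfl | hpos
      · exact hN0
      · exact hN l hpos hl
    refine ⟨N + 1, fun l h1 h2 => ?_⟩
    obtain ⟨l', rfl⟩ : ∃ l', l = l' + 1 := ⟨l - 1, by omega⟩
    obtain ⟨w, hw⟩ := hunit (l' + 1) (by omega) (by omega)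
    have h4 := hall l' (by omega)
    calc b ^ (N + 1) * c (l' + 1)
        = w * (b ^ N * (((l' + 1 : ℕ) : A) * b * c (l' + 1))) := by
          linear_combination (-(b ^ N * b * c (l' + 1))) * hw
      _ = 0 := by rw [h4, mul_zero]

include hv hb in
theorem invariant_of_rep (p : ℕ) (hp2 : 2 ≤ p)
    (hunit : ∀ j : ℕ, 0 < j → j < p → ∃ w : A, w * (j : A) = 1)
    (𝒞 : Subalgebra R A) (h𝒞 : ∀ s ∈ 𝒞, σ s = s) (hb𝒞 : b ∈ 𝒞) (c : ℕ → A)
    (hc : ∀ l, c l ∈ 𝒞) (t : A) (ht : t = ∑ l ∈ range p, c l * ee v b l) (hσt : σ t = t) :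
    ∃ N : ℕ, b ^ N * t ∈ 𝒞 := by
  obtain ⟨p', rfl⟩ : ∃ p', p = p' + 2 := ⟨p - 2, by omega⟩
  have hfix : σ (∑ l ∈ range (p' + 1 + 1), c l * ee v b l) =
      ∑ l ∈ range (p' + 1 + 1), c l * ee v b l := by rw [← ht]; exact hσt
  obtain ⟨N, hN⟩ := key σ v b hv hb (p' + 2) hunit (p' + 1) (by omega) c
    (fun l => h𝒞 _ (hc l)) hfix
  refine ⟨N, ?_⟩
  have : b ^ N * t = b ^ N * c 0 := by
    rw [ht, sum_range_succ', mul_add, mul_sum]
    have h3 : ∑ i ∈ range (p' + 1), b ^ N * (c (i + 1) * ee v b (i + 1)) = 0 := by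
      apply sum_eq_zero
      intro i hi
      rw [← mul_assoc, hN (i + 1) (by omega) (by have := mem_range.mp hi; omega), zero_mul]
    rw [h3, zero_add, ee_zero, mul_one]
  rw [this]
  exact 𝒞.mul_mem (𝒞.pow_mem hb𝒞 N) (hc 0)

end Basis

section Spans

variable {R : Type u} [CommRing R] {A : Type v} [CommRing A] [Algebra R A]
  (v b : A) (𝒞 : Subalgebra R A)

/-- Span of the first `d` falling factorials over `𝒞`. -/
def We (d : ℕ) : Submodule 𝒞 A := Submodule.span 𝒞 (Set.range fun i : Fin d => ee v b i)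

/-- Span of the first `d` powers of `v` over `𝒞`. -/
def Wv (d : ℕ) : Submodule 𝒞 A := Submodule.span 𝒞 (Set.range fun i : Fin d => v ^ (i : ℕ))

theorem ee_mem_We {d i : ℕ} (h : i < d) : ee v b i ∈ We v b 𝒞 d :=
  Submodule.subset_span ⟨⟨i, h⟩, rfl⟩

theorem pow_mem_Wv {d i : ℕ} (h : i < d) : v ^ i ∈ Wv v 𝒞 d :=
  Submodule.subset_span ⟨⟨i, h⟩, rfl⟩

theorem We_mono {d d' : ℕ} (h : d ≤ d') : We v b 𝒞 d ≤ We v b 𝒞 d' := by
  apply Submodule.span_le.mpr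
  rintro _ ⟨i, rfl⟩
  exact ee_mem_We v b 𝒞 (lt_of_lt_of_le i.2 h)

theorem smul_mem_of_mem {W : Submodule 𝒞 A} {s t : A} (hs : s ∈ 𝒞) (ht : t ∈ W) : s * t ∈ W := by
  have := W.smul_mem (⟨s, hs⟩ : 𝒞) ht
  exact this

theorem v_mul_We (hb𝒞 : b ∈ 𝒞) {d : ℕ} {t : A} (ht : t ∈ We v b 𝒞 d) :
    v * t ∈ We v b 𝒞 (d + 1) := by
  refine Submodule.span_induction (p := fun t _ => v * t ∈ We v b 𝒞 (d + 1)) ?_ ?_ ?_ ?_ ht
  · rintro _ ⟨i, rfl⟩
    show v * ee v b i ∈ _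
    rw [v_mul_ee]
    apply Submodule.add_mem
    · exact ee_mem_We v b 𝒞 (by have := i.2; omega)
    · exact smul_mem_of_mem 𝒞 (𝒞.mul_mem (natCast_mem 𝒞 _) hb𝒞)
        (ee_mem_We v b 𝒞 (by have := i.2; omega))
  · rw [mul_zero]; exact Submodule.zero_mem _
  · intro x y _ _ hx hy; rw [mul_add]; exact Submodule.add_mem _ hx hy
  · intro s x _ hx
    rw [mul_smul_comm]; exact Submodule.smul_mem _ s hx

theorem pow_mem_We (hb𝒞 : b ∈ 𝒞) (l : ℕ) : v ^ l ∈ We v b 𝒞 (l + 1) := by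
  induction l with
  | zero => rw [pow_zero, ← ee_zero v b]; exact ee_mem_We v b 𝒞 (by omega)
  | succ l ih => rw [pow_succ']; exact v_mul_We v b 𝒞 hb𝒞 ih

theorem Wv_le_We (hb𝒞 : b ∈ 𝒞) (d : ℕ) : Wv v 𝒞 d ≤ We v b 𝒞 d := by
  apply Submodule.span_le.mpr
  rintro _ ⟨i, rfl⟩
  exact We_mono v b 𝒞 (by have := i.2; omega) (pow_mem_We v b 𝒞 hb𝒞 i)

variable (p : ℕ) (hp2 : 2 ≤ p) (β ξ : A) (hβ : β ∈ 𝒞) (hξ : ξ ∈ 𝒞) (hrel : v ^ p = β * v + ξ)

include hp2 hβ hξ hrel in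
theorem v_mul_Wv {t : A} (ht : t ∈ Wv v 𝒞 p) : v * t ∈ Wv v 𝒞 p := by
  refine Submodule.span_induction (p := fun t _ => v * t ∈ Wv v 𝒞 p) ?_ ?_ ?_ ?_ ht
  · rintro _ ⟨i, rfl⟩
    show v * v ^ (i : ℕ) ∈ _
    rw [← pow_succ']
    by_cases h : (i : ℕ) + 1 < p
    · exact pow_mem_Wv v 𝒞 h
    · have : (i : ℕ) + 1 = p := by have := i.2; omega
      rw [this, hrel]
      apply Submodule.add_mem
      · have h1 : v ∈ Wv v 𝒞 p := by
          have := pow_mem_Wv v 𝒞 (show 1 < p by omega)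
          rwa [pow_one] at this
        exact smul_mem_of_mem 𝒞 hβ h1
      · have h0 : (1 : A) ∈ Wv v 𝒞 p := by
          have := pow_mem_Wv v 𝒞 (show 0 < p by omega)
          rwa [pow_zero] at this
        have := smul_mem_of_mem 𝒞 hξ h0
        rwa [mul_one] at this
  · rw [mul_zero]; exact Submodule.zero_mem _
  · intro x y _ _ hx hy; rw [mul_add]; exact Submodule.add_mem _ hx hy
  · intro s x _ hx
    rw [mul_smul_comm]; exact Submodule.smul_mem _ s hx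

include hp2 hβ hξ hrel in
theorem pow_mul_Wv (l : ℕ) {t : A} (ht : t ∈ Wv v 𝒞 p) : v ^ l * t ∈ Wv v 𝒞 p := by
  induction l with
  | zero => rw [pow_zero, one_mul]; exact ht
  | succ l ih => rw [pow_succ', mul_assoc]; exact v_mul_Wv v 𝒞 p hp2 β ξ hβ hξ hrel ih

include hp2 hβ hξ hrel in
theorem mul_mem_Wv {t t' : A} (ht : t ∈ Wv v 𝒞 p) (ht' : t' ∈ Wv v 𝒞 p) :
    t * t' ∈ Wv v 𝒞 p := by
  refine Submodule.span_induction (p := fun t _ => t * t' ∈ Wv v 𝒞 p) ?_ ?_ ?_ ?_ ht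
  · rintro _ ⟨i, rfl⟩
    exact pow_mul_Wv v 𝒞 p hp2 β ξ hβ hξ hrel i ht'
  · rw [zero_mul]; exact Submodule.zero_mem _
  · intro x y _ _ hx hy; rw [add_mul]; exact Submodule.add_mem _ hx hy
  · intro s x _ hx
    rw [smul_mul_assoc]; exact Submodule.smul_mem _ s hx

include hp2 in
theorem one_mem_Wv : (1 : A) ∈ Wv v 𝒞 p := by
  have := pow_mem_Wv v 𝒞 (show 0 < p by omega)
  rwa [pow_zero] at this

include hp2 in
theorem mem_Wv_of_mem {s : A} (hs : s ∈ 𝒞) : s ∈ Wv v 𝒞 p := by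
  have := smul_mem_of_mem 𝒞 hs (one_mem_Wv v 𝒞 p hp2)
  rwa [mul_one] at this

include hp2 in
theorem v_mem_Wv : v ∈ Wv v 𝒞 p := by
  have := pow_mem_Wv v 𝒞 (show 1 < p by omega)
  rwa [pow_one] at this

theorem exists_rep {d : ℕ} {t : A} (ht : t ∈ We v b 𝒞 d) :
    ∃ c : ℕ → A, (∀ l, c l ∈ 𝒞) ∧ t = ∑ l ∈ range d, c l * ee v b l := by
  obtain ⟨c, hc⟩ := (Submodule.mem_span_range_iff_exists_fun 𝒞).mp ht
  refine ⟨fun l => if h : l < d then (c ⟨l, h⟩ : A) else 0, ?_, ?_⟩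
  · intro l
    by_cases h : l < d
    · simp only [dif_pos h]; exact (c ⟨l, h⟩).2
    · simp only [dif_neg h]; exact 𝒞.zero_mem
  · rw [← hc, ← Fin.sum_univ_eq_sum_range
      (fun l => (if h : l < d then (c ⟨l, h⟩ : A) else 0) * ee v b l) d]
    apply Finset.sum_congr rfl
    intro i _
    simp only [dif_pos i.2, Fin.eta]
    rfl

end Spans

section Main

theorem main (k : Type u) [Field k] (p : ℕ) [Fact p.Prime] [CharP k p]
    {R : Type u} [CommRing R] [Algebra k R] {A : Type v} [CommRing A] [Algebra R A]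
    {ι : Type} [DecidableEq ι] (u : ι → A) (hgen : Algebra.adjoin R (Set.range u) = ⊤)
    (aR : ι → R) (μ : R) (i₀ : ι) (x : R)
    (hrel : u i₀ ^ p = algebraMap R A ((μ * aR i₀) ^ (p - 1)) * u i₀ + algebraMap R A x)
    (σ : A ≃ₐ[R] A) (hσ : ∀ i, σ (u i) = u i + algebraMap R A (μ * aR i))
    (z : {j : ι // j ≠ i₀} → A)
    (hz : ∀ j, z j = algebraMap R A (aR i₀) * u j.1 - algebraMap R A (aR j.1) * u i₀)
    (t : A) (ht : σ t = t) :
    ∃ N : ℕ, algebraMap R A (μ * aR i₀) ^ N * t ∈ Algebra.adjoin R (Set.range z) := by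
  have hp := (Fact.out : p.Prime)
  have hp2 : 2 ≤ p := hp.two_le
  obtain ⟨𝒞, h𝒞def⟩ : ∃ 𝒞 : Subalgebra R A, 𝒞 = Algebra.adjoin R (Set.range z) := ⟨_, rfl⟩
  rw [← h𝒞def]
  obtain ⟨v, hvdef⟩ : ∃ v, v = u i₀ := ⟨_, rfl⟩
  obtain ⟨b, hbdef⟩ : ∃ b, b = algebraMap R A (μ * aR i₀) := ⟨_, rfl⟩
  obtain ⟨aA, haAdef⟩ : ∃ aA, aA = algebraMap R A (aR i₀) := ⟨_, rfl⟩
  have hz𝒞 : ∀ j, z j ∈ 𝒞 := fun j => by rw [h𝒞def]; exact Algebra.subset_adjoin ⟨j, rfl⟩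
  have hR𝒞 : ∀ r : R, algebraMap R A r ∈ 𝒞 := fun r => 𝒞.algebraMap_mem r
  have hb𝒞 : b ∈ 𝒞 := by rw [hbdef]; exact hR𝒞 _
  have haA𝒞 : aA ∈ 𝒞 := by rw [haAdef]; exact hR𝒞 _
  have hv : σ v = v + b := by rw [hvdef, hbdef]; exact hσ i₀
  have hb : σ b = b := by rw [hbdef]; exact σ.commutes _
  have h𝒞inv : ∀ s ∈ 𝒞, σ s = s := by
    intro s hs
    rw [h𝒞def] at hs
    refine Algebra.adjoin_induction (p := fun s _ => σ s = s) ?_ ?_ ?_ ?_ hs
    · rintro _ ⟨j, rfl⟩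
      rw [hz, map_sub, map_mul, map_mul, σ.commutes, σ.commutes, hσ, hσ, map_mul, map_mul]
      ring
    · intro r; exact σ.commutes r
    · intro x y _ _ hx hy; rw [map_add, hx, hy]
    · intro x y _ _ hx hy; rw [map_mul, hx, hy]
  -- the relation
  have hrel' : v ^ p = algebraMap R A ((μ * aR i₀) ^ (p - 1)) * v + algebraMap R A x := by
    rw [hvdef]; exact hrel
  -- every element, after scaling, is in Wv
  have hscale : ∀ t : A, ∃ N : ℕ, aA ^ N * t ∈ Wv v 𝒞 p := by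
    intro t
    have htop : t ∈ Algebra.adjoin R (Set.range u) := by rw [hgen]; trivial
    refine Algebra.adjoin_induction (p := fun t _ => ∃ N : ℕ, aA ^ N * t ∈ Wv v 𝒞 p)
      ?_ ?_ ?_ ?_ htop
    · rintro _ ⟨j, rfl⟩
      by_cases hj : j = i₀
      · refine ⟨0, ?_⟩
        rw [pow_zero, one_mul, hj, ← hvdef]
        exact v_mem_Wv v 𝒞 p hp2
      · refine ⟨1, ?_⟩
        have h1 : aA ^ 1 * u j = z ⟨j, hj⟩ + algebraMap R A (aR j) * v := by
          rw [hz, haAdef, hvdef]; ring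
        rw [h1]
        exact Submodule.add_mem _ (mem_Wv_of_mem v 𝒞 p hp2 (hz𝒞 _))
          (smul_mem_of_mem 𝒞 (hR𝒞 _) (v_mem_Wv v 𝒞 p hp2))
    · intro r
      exact ⟨0, by rw [pow_zero, one_mul]; exact mem_Wv_of_mem v 𝒞 p hp2 (hR𝒞 r)⟩
    · rintro x y _ _ ⟨N1, h1⟩ ⟨N2, h2⟩
      refine ⟨N1 + N2, ?_⟩
      have : aA ^ (N1 + N2) * (x + y) = aA ^ N2 * (aA ^ N1 * x) + aA ^ N1 * (aA ^ N2 * y) := by
        rw [pow_add]; ring
      rw [this]
      exact Submodule.add_mem _ (smul_mem_of_mem 𝒞 (𝒞.pow_mem haA𝒞 _) h1)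
        (smul_mem_of_mem 𝒞 (𝒞.pow_mem haA𝒞 _) h2)
    · rintro x y _ _ ⟨N1, h1⟩ ⟨N2, h2⟩
      refine ⟨N1 + N2, ?_⟩
      have : aA ^ (N1 + N2) * (x * y) = (aA ^ N1 * x) * (aA ^ N2 * y) := by
        rw [pow_add]; ring
      rw [this]
      exact mul_mem_Wv v 𝒞 p hp2 _ _ (hR𝒞 _) (hR𝒞 _) hrel' h1 h2
  obtain ⟨N1, hN1⟩ := hscale t
  have hWe := Wv_le_We v b 𝒞 hb𝒞 p hN1
  obtain ⟨c, hc, hrep⟩ := exists_rep v b 𝒞 hWe
  have hinv : σ (aA ^ N1 * t) = aA ^ N1 * t := by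
    rw [map_mul, map_pow, ht, haAdef, σ.commutes]
  have hunit : ∀ j : ℕ, 0 < j → j < p → ∃ w : A, w * (j : A) = 1 := by
    intro j hj0 hjp
    have hjk : (j : k) ≠ 0 := by
      rw [Ne, CharP.cast_eq_zero_iff k p j]
      intro hdvd
      exact absurd (Nat.le_of_dvd hj0 hdvd) (by omega)
    refine ⟨algebraMap R A (algebraMap k R ((j : k)⁻¹)), ?_⟩
    have : (j : A) = algebraMap R A (algebraMap k R (j : k)) := by
      rw [map_natCast, map_natCast]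
    rw [this, ← map_mul, ← map_mul, inv_mul_cancel₀ hjk, map_one, map_one]
  obtain ⟨N2, hN2⟩ := invariant_of_rep σ v b hv hb p hp2 hunit 𝒞 h𝒞inv hb𝒞 c hc _ hrep hinv
  refine ⟨N1 + N2, ?_⟩
  have hμ𝒞 : algebraMap R A μ ∈ 𝒞 := hR𝒞 _
  have : algebraMap R A (μ * aR i₀) ^ (N1 + N2) * t =
      algebraMap R A μ ^ N1 * (b ^ N2 * (aA ^ N1 * t)) := by
    rw [hbdef, haAdef, map_mul, pow_add, mul_pow]; ring
  rw [this]
  exact 𝒞.mul_mem (𝒞.pow_mem hμ𝒞 _) hN2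

end Main

end Groth.Agent.Helper29.WildCI
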