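import Mathlib

/-!
# Order-`p` automorphisms of `k⟦X⟧` in characteristic `p` (helper29)
-/

namespace Groth.Agent.Helper29.WildPS

universe u

open PowerSeries Finset

section Exact

variable {k : Type u} [Field k]

/-- `f` has exact `X`-adic order `N`. -/
def ExactOrd (N : ℕ) (f : k⟦X⟧) : Prop := ∃ w : k⟦X⟧, constantCoeff w ≠ 0 ∧ f = X ^ N * w

theorem exactOrd_of_order {f : k⟦X⟧} {N : ℕ} (h : f.order = N) : ExactOrd N f := by
  have hf0 : f ≠ 0 := by
    intro h0; rw [h0, order_zero] at h; exact ENat.top_ne_coe N h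
  refine ⟨divXPowOrder f, constantCoeff_divXPowOrder_eq_zero_iff.not.mpr hf0, ?_⟩
  have := X_pow_order_mul_divXPowOrder (f := f)
  rw [h, ENat.toNat_coe] at this
  exact this.symm

theorem ExactOrd.order_eq {f : k⟦X⟧} {N : ℕ} (h : ExactOrd N f) : f.order = N := by
  obtain ⟨w, hw, rfl⟩ := h
  rw [order_mul, order_X_pow,
    order_zero_of_unit (isUnit_iff_constantCoeff.mpr (isUnit_iff_ne_zero.mpr hw)), add_zero]

theorem ExactOrd.ne_zero {f : k⟦X⟧} {N : ℕ} (h : ExactOrd N f) : f ≠ 0 := by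
  intro h0
  have := h.order_eq
  rw [h0, order_zero] at this
  exact ENat.top_ne_coe N this

theorem ExactOrd.dvd {f : k⟦X⟧} {N : ℕ} (h : ExactOrd N f) : X ^ N ∣ f := by
  obtain ⟨w, _, hw⟩ := h; exact ⟨w, hw⟩

theorem ExactOrd.mul {f g : k⟦X⟧} {N N' : ℕ} (h1 : ExactOrd N f) (h2 : ExactOrd N' g) :
    ExactOrd (N + N') (f * g) := by
  obtain ⟨w, hw, rfl⟩ := h1
  obtain ⟨w', hw', rfl⟩ := h2
  exact ⟨w * w', by rw [map_mul]; exact mul_ne_zero hw hw', by ring⟩

theorem ExactOrd.pow {f : k⟦X⟧} {N : ℕ} (h : ExactOrd N f) (j : ℕ) :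
    ExactOrd (N * j) (f ^ j) := by
  obtain ⟨w, hw, rfl⟩ := h
  exact ⟨w ^ j, by rw [map_pow]; exact pow_ne_zero j hw, by rw [mul_pow, ← pow_mul]⟩

theorem ExactOrd.add_dvd {f g : k⟦X⟧} {N : ℕ} (h : ExactOrd N f) (hg : X ^ (N + 1) ∣ g) :
    ExactOrd N (f + g) := by
  obtain ⟨w, hw, rfl⟩ := h
  obtain ⟨g', rfl⟩ := hg
  refine ⟨w + X * g', ?_, by ring⟩
  rw [map_add, map_mul, constantCoeff_X, zero_mul, add_zero]
  exact hw

theorem ExactOrd.exists_div {b f : k⟦X⟧} {N j : ℕ} (hb : ExactOrd N b)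
    (hf : ExactOrd (N + j) f) : ∃ r, ExactOrd j r ∧ f = b * r := by
  obtain ⟨wb, hwb, rfl⟩ := hb
  obtain ⟨wf, hwf, rfl⟩ := hf
  refine ⟨X ^ j * (wb⁻¹ * wf), ⟨wb⁻¹ * wf, ?_, rfl⟩, ?_⟩
  · rw [map_mul, constantCoeff_inv]
    exact mul_ne_zero (inv_ne_zero hwb) hwf
  · have := PowerSeries.mul_inv_cancel wb hwb
    calc X ^ (N + j) * wf = X ^ (N + j) * ((wb * wb⁻¹) * wf) := by rw [this, one_mul]
      _ = X ^ N * wb * (X ^ j * (wb⁻¹ * wf)) := by ring

theorem exactOrd_prod_range (f : ℕ → k⟦X⟧) (h : ∀ i, ExactOrd 1 (f i)) (n : ℕ) :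
    ExactOrd n (∏ i ∈ range n, f i) := by
  induction n with
  | zero => exact ⟨1, by simp, by simp⟩
  | succ n ih => rw [prod_range_succ]; exact ih.mul (h n)

end Exact

section Sigma

variable {k : Type u} [Field k] (σ : k⟦X⟧ ≃ₐ[k] k⟦X⟧) (m : ℕ)

theorem dvd_sub_self (he : X ^ (m + 1) ∣ σ X - X) :
    ∀ j, j ≤ m + 1 → ∀ h : k⟦X⟧, X ^ j ∣ σ h - h := by
  intro j
  induction j with
  | zero => intro _ h; rw [pow_zero]; exact one_dvd _
  | succ j ih =>
    intro hj h
    obtain ⟨h₁, c, hdec⟩ : ∃ (h₁ : k⟦X⟧) (c : k), h = X * h₁ + C c :=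
      ⟨_, _, eq_X_mul_shift_add_const h⟩
    have hC : σ (C c) = C c := σ.commutes c
    have : σ h - h = (σ X - X) * σ h₁ + X * (σ h₁ - h₁) := by
      rw [hdec, map_add, map_mul, hC]
      ring
    rw [this]
    apply dvd_add
    · exact dvd_mul_of_dvd_left (dvd_trans (pow_dvd_pow X hj) he) _
    · rw [pow_succ']
      exact mul_dvd_mul_left X (ih (by omega) h₁)

theorem constantCoeff_sigma (he : X ^ (m + 1) ∣ σ X - X) (w : k⟦X⟧) :
    constantCoeff (σ w) = constantCoeff w := by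
  have h1 := dvd_sub_self σ m he 1 (by omega) w
  rw [pow_one, X_dvd_iff, map_sub, sub_eq_zero] at h1
  exact h1

theorem X_dvd_sigma_X (he : X ^ (m + 1) ∣ σ X - X) : (X : k⟦X⟧) ∣ σ X := by
  have h1 : (X : k⟦X⟧) ∣ σ X - X := dvd_trans (dvd_pow_self X (Nat.succ_ne_zero m)) he
  have := dvd_add h1 (dvd_refl X)
  rwa [sub_add_cancel] at this

theorem dvd_pow_sub (he : X ^ (m + 1) ∣ σ X - X) (n : ℕ) :
    (X : k⟦X⟧) ^ (n + m) ∣ σ X ^ n - X ^ n := by
  rcases Nat.eq_zero_or_pos n with rfl | hn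
  · simp
  rw [← geom_sum₂_mul]
  have h1 : (X : k⟦X⟧) ^ (n - 1) ∣ ∑ i ∈ range n, σ X ^ i * X ^ (n - 1 - i) := by
    apply Finset.dvd_sum
    intro i hi
    have hi' : i < n := Finset.mem_range.mp hi
    have : (X : k⟦X⟧) ^ (n - 1) = X ^ i * X ^ (n - 1 - i) := by
      rw [← pow_add]; congr 1; omega
    rw [this]
    exact mul_dvd_mul_right (pow_dvd_pow_of_dvd (X_dvd_sigma_X σ m he) i) _
  have h2 : (X : k⟦X⟧) ^ (n + m) = X ^ (n - 1) * X ^ (m + 1) := by
    rw [← pow_add]; congr 1; omega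
  rw [h2]
  exact mul_dvd_mul h1 he

theorem dvd_D_of_dvd (he : X ^ (m + 1) ∣ σ X - X) (n : ℕ) {g : k⟦X⟧} (hg : X ^ n ∣ g) :
    X ^ (n + m) ∣ σ g - g := by
  obtain ⟨h, rfl⟩ := hg
  have : σ (X ^ n * h) - X ^ n * h = (σ X ^ n - X ^ n) * σ h + X ^ n * (σ h - h) := by
    rw [map_mul, map_pow]; ring
  rw [this]
  apply dvd_add
  · exact dvd_mul_of_dvd_left (dvd_pow_sub σ m he n) _
  · have h2 : (X : k⟦X⟧) ^ (n + m) ∣ X ^ n * X ^ (m + 1) := by
      rw [← pow_add]; exact pow_dvd_pow X (by omega)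
    exact dvd_trans h2 (mul_dvd_mul_left _ (dvd_sub_self σ m he (m + 1) le_rfl h))

theorem exactOrd_D (p : ℕ) [CharP k p] (hm1 : 1 ≤ m) (hexact : ExactOrd (m + 1) (σ X - X))
    {n : ℕ} (hn : ¬ p ∣ n) {g : k⟦X⟧} (hg : ExactOrd n g) : ExactOrd (n + m) (σ g - g) := by
  have he : X ^ (m + 1) ∣ σ X - X := hexact.dvd
  have hn0 : n ≠ 0 := fun h => hn (h ▸ dvd_zero p)
  obtain ⟨w, hw, rfl⟩ := hg
  have hdecomp : σ (X ^ n * w) - X ^ n * w = (σ X ^ n - X ^ n) * σ w + X ^ n * (σ w - w) := by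
    rw [map_mul, map_pow]; ring
  rw [hdecomp]
  obtain ⟨G, hG⟩ : ∃ G, G = ∑ i ∈ range n, σ X ^ i * X ^ (n - 1 - i) := ⟨_, rfl⟩
  have hGexact : ExactOrd (n - 1) G := by
    have h1 : X ^ (n - 1 + m) ∣ G - (n : k⟦X⟧) * X ^ (n - 1) := by
      have hsum : (n : k⟦X⟧) * X ^ (n - 1) = ∑ _i ∈ range n, (X : k⟦X⟧) ^ (n - 1) := by
        rw [sum_const, card_range, nsmul_eq_mul]
      have : G - (n : k⟦X⟧) * X ^ (n - 1) =
          ∑ i ∈ range n, (σ X ^ i - X ^ i) * X ^ (n - 1 - i) := by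
        rw [hG, hsum, ← sum_sub_distrib]
        apply sum_congr rfl
        intro i hi
        have hi' : i < n := mem_range.mp hi
        have : (X : k⟦X⟧) ^ (n - 1) = X ^ i * X ^ (n - 1 - i) := by
          rw [← pow_add]; congr 1; omega
        rw [this]; ring
      rw [this]
      apply dvd_sum
      intro i hi
      have hi' : i < n := mem_range.mp hi
      have h3 : (X : k⟦X⟧) ^ (n - 1 + m) = X ^ (i + m) * X ^ (n - 1 - i) := by
        rw [← pow_add]; congr 1; omega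
      rw [h3]
      exact mul_dvd_mul_right (dvd_pow_sub σ m he i) _
    obtain ⟨G', hG'⟩ := h1
    refine ⟨(n : k⟦X⟧) + X ^ m * G', ?_, ?_⟩
    · rw [map_add, map_natCast, map_mul, map_pow, constantCoeff_X, zero_pow (by omega), zero_mul,
        add_zero]
      exact (CharP.cast_eq_zero_iff k p n).not.mpr hn
    · have : G = (n : k⟦X⟧) * X ^ (n - 1) + X ^ (n - 1 + m) * G' := by rw [← hG']; ring
      rw [this, pow_add]; ring
  have hσw : ExactOrd 0 (σ w) :=
    ⟨σ w, by rw [constantCoeff_sigma σ m he]; exact hw, by simp⟩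
  have hfirst : ExactOrd (n + m) ((σ X ^ n - X ^ n) * σ w) := by
    rw [← geom_sum₂_mul, ← hG]
    have := (hGexact.mul hexact).mul hσw
    have hnm : n - 1 + (m + 1) + 0 = n + m := by omega
    rw [hnm] at this
    exact this
  apply hfirst.add_dvd
  have h2 : (X : k⟦X⟧) ^ (n + m + 1) = X ^ n * X ^ (m + 1) := by rw [← pow_add]; congr 1
  rw [h2]
  exact mul_dvd_mul_left _ (dvd_sub_self σ m he (m + 1) le_rfl w)

theorem D_iter_p (p : ℕ) [Fact p.Prime] [CharP k p] (hσp : σ ^ p = 1) (f : k⟦X⟧) :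
    (fun g => σ g - g)^[p] f = 0 := by
  have : CharP (Module.End k k⟦X⟧) p :=
    charP_of_injective_algebraMap (algebraMap k (Module.End k k⟦X⟧)).injective p
  let S : Module.End k k⟦X⟧ := σ.toLinearMap
  have hpow : ∀ j (g : k⟦X⟧), (S ^ j) g = (σ ^ j) g := by
    intro j
    induction j with
    | zero => intro g; rfl
    | succ j ih =>
      intro g
      rw [pow_succ, Module.End.mul_apply, ih, pow_succ, AlgEquiv.mul_apply]; rfl
  have hS : S ^ p = 1 := by
    apply LinearMap.ext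
    intro g
    rw [hpow, hσp]; rfl
  have h1 : (S - 1) ^ p = 0 := by
    rw [sub_pow_char_of_commute p (Commute.one_right S), hS, one_pow, sub_self]
  have h2 : ∀ j (g : k⟦X⟧), ((S - 1) ^ j) g = (fun g => σ g - g)^[j] g := by
    intro j
    induction j with
    | zero => intro g; rfl
    | succ j ih =>
      intro g
      rw [pow_succ, Module.End.mul_apply, ih, Function.iterate_succ_apply]; rfl
  rw [← h2, h1]; rfl

theorem one_le_m (p : ℕ) [Fact p.Prime] [CharP k p] (hσp : σ ^ p = 1)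
    (hexact : ExactOrd (m + 1) (σ X - X)) : 1 ≤ m := by
  by_contra hm
  have hm0 : m = 0 := by omega
  subst hm0
  obtain ⟨e₀, he₀, hee⟩ := hexact
  have he : X ^ (0 + 1) ∣ σ X - X := ⟨e₀, hee⟩
  have hσX : σ X = X * (1 + e₀) := by
    have : σ X = (σ X - X) + X := by ring
    rw [this, hee]; ring
  have key : ∀ j, ∃ w : k⟦X⟧, (fun g => σ g - g)^[j] X = X * w ∧
      constantCoeff w = constantCoeff e₀ ^ j := by
    intro j
    induction j with
    | zero => exact ⟨1, by simp, by simp⟩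
    | succ j ih =>
      obtain ⟨w, hw, hwc⟩ := ih
      refine ⟨(1 + e₀) * σ w - w, ?_, ?_⟩
      · rw [Function.iterate_succ_apply', hw, map_mul, hσX]; ring
      · rw [map_sub, map_mul, map_add, map_one, constantCoeff_sigma σ 0 he, hwc, pow_succ]; ring
  obtain ⟨w, hw, hwc⟩ := key p
  rw [D_iter_p σ p hσp] at hw
  have : w = 0 := by
    rcases mul_eq_zero.mp hw.symm with h | h
    · exact absurd h X_ne_zero
    · exact h
  rw [this, map_zero] at hwc
  exact pow_ne_zero p he₀ hwc.symm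

end Sigma

theorem main (p : ℕ) [Fact p.Prime] (k : Type u) [Field k] [CharP k p]
    (σ : PowerSeries k ≃ₐ[k] PowerSeries k) (hσp : σ ^ p = 1) (_hσ1 : σ ≠ 1)
    (m : ℕ) (hm : (σ PowerSeries.X - PowerSeries.X).order = ((m + 1 : ℕ) : ℕ∞)) :
    p ∣ m + 1 ↔
      ∃ s a : PowerSeries k, s.order = 1 ∧ σ a = a ∧ σ s = s + a := by
  have hp := (Fact.out : p.Prime)
  have hexact : ExactOrd (m + 1) (σ X - X) := exactOrd_of_order hm
  have he : X ^ (m + 1) ∣ σ X - X := hexact.dvd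
  have hm1 : 1 ≤ m := one_le_m σ m p hσp hexact
  have hfixed : ∀ {n : ℕ} {g : k⟦X⟧}, ExactOrd n g → σ g = g → p ∣ n := by
    intro n g hg hfix
    by_contra hn
    have := (exactOrd_D σ m p hm1 hexact hn hg).ne_zero
    rw [hfix, sub_self] at this
    exact this rfl
  constructor
  · intro hdvd
    obtain ⟨q, hq⟩ := hdvd
    have hpm : ¬ p ∣ m := by
      intro h
      have : p ∣ 1 := (Nat.dvd_add_right h).mp ⟨q, hq⟩
      exact hp.one_lt.ne' (Nat.dvd_one.mp this)
    obtain ⟨p', rfl⟩ : ∃ p', p = p' + 2 := ⟨p - 2, by have := hp.two_le; omega⟩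
    obtain ⟨D, hD⟩ : ∃ D : k⟦X⟧ → k⟦X⟧, D = fun g => σ g - g := ⟨_, rfl⟩
    have hDapp : ∀ g, D g = σ g - g := fun g => by rw [hD]
    have hθ : ∀ j, j ≤ p' + 1 → ExactOrd ((j + 1) * m) (D^[j] (X ^ m)) := by
      intro j
      induction j with
      | zero => intro _; exact ⟨1, by simp, by simp⟩
      | succ j ih =>
        intro hj
        have h1 := ih (by omega)
        have hnd : ¬ (p' + 2) ∣ (j + 1) * m := by
          intro h
          rcases (Nat.Prime.dvd_mul hp).mp h with h | h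
          · exact absurd (Nat.le_of_dvd (by omega) h) (by omega)
          · exact hpm h
        have := exactOrd_D σ m (p' + 2) hm1 hexact hnd h1
        rw [Function.iterate_succ_apply', hDapp]
        have e : (j + 1) * m + m = (j + 1 + 1) * m := by ring
        rw [e] at this
        exact this
    obtain ⟨z, hzdef⟩ : ∃ z, z = D^[p'] (X ^ m) := ⟨_, rfl⟩
    obtain ⟨T, hTdef⟩ : ∃ T, T = D^[p' + 1] (X ^ m) := ⟨_, rfl⟩
    have hz : ExactOrd ((p' + 1) * m) z := hzdef ▸ hθ p' (by omega)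
    have hT : ExactOrd ((p' + 1 + 1) * m) T := hTdef ▸ hθ (p' + 1) (by omega)
    have hDz : σ z - z = T := by
      rw [hzdef, hTdef, Function.iterate_succ_apply', hDapp]
    have hσT : σ T = T := by
      have h1 : σ T - T = D^[p' + 2] (X ^ m) := by
        rw [hTdef, Function.iterate_succ_apply' D (p' + 1), hDapp]
      have h2 := D_iter_p σ (p' + 2) hσp (X ^ m)
      rw [← hD] at h2
      rw [h2] at h1
      exact sub_eq_zero.mp h1
    have hσexact : ∀ {N : ℕ} {g : k⟦X⟧}, ExactOrd N g → ExactOrd N (σ g) := by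
      intro N g hg
      have h1 := hg.add_dvd (g := σ g - g)
        (dvd_trans (pow_dvd_pow X (by omega)) (dvd_D_of_dvd σ m he N hg.dvd))
      rwa [add_sub_cancel] at h1
    obtain ⟨f, hfdef⟩ : ∃ f : ℕ → k⟦X⟧, f = fun i => σ^[i] X := ⟨_, rfl⟩
    have hfapp : ∀ i, f i = σ^[i] X := fun i => by rw [hfdef]
    have hf1 : ∀ i, ExactOrd 1 (f i) := by
      intro i
      induction i with
      | zero => rw [hfapp]; exact ⟨1, by simp, by simp⟩
      | succ i ih =>
        rw [hfapp, Function.iterate_succ_apply', ← hfapp]; exact hσexact ih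
    obtain ⟨t, htdef⟩ : ∃ t, t = ∏ i ∈ range (p' + 2), f i := ⟨_, rfl⟩
    have ht : ExactOrd (p' + 2) t := htdef ▸ exactOrd_prod_range f hf1 (p' + 2)
    have hiter : ∀ j (g : k⟦X⟧), (σ ^ j) g = σ^[j] g := by
      intro j
      induction j with
      | zero => intro g; rfl
      | succ j ih =>
        intro g; rw [pow_succ, AlgEquiv.mul_apply, ih, Function.iterate_succ_apply]
    have hfp : f (p' + 2) = f 0 := by
      rw [hfapp, hfapp, ← hiter, hσp]; rfl
    have hσt : σ t = t := by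
      have h1 : σ t = ∏ i ∈ range (p' + 2), f (i + 1) := by
        rw [htdef, map_prod]
        apply prod_congr rfl
        intro i _
        rw [hfapp, hfapp, Function.iterate_succ_apply']
      have h2 : (∏ i ∈ range (p' + 2), f (i + 1)) * f 0 =
          (∏ i ∈ range (p' + 2), f i) * f (p' + 2) := by
        rw [← prod_range_succ', prod_range_succ]
      rw [hfp] at h2
      have hX0 : f 0 ≠ 0 := by rw [hfapp]; exact X_ne_zero
      rw [h1, htdef]
      exact mul_right_cancel₀ hX0 h2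
    have hq1 : 1 ≤ q := by
      rcases Nat.eq_zero_or_pos q with h | h
      · rw [h, mul_zero] at hq; omega
      · exact h
    have hqm : q ≤ m := by nlinarith
    obtain ⟨r, hr⟩ := Nat.exists_eq_add_of_le hqm
    have hzord : (p' + 1) * m = (p' + 2) * r + 1 := by
      subst hr; nlinarith
    have hTord : (p' + 1 + 1) * m = (p' + 2) * r + (m + 1) := by
      subst hr; nlinarith
    have htr : ExactOrd ((p' + 2) * r) (t ^ r) := ht.pow r
    rw [hzord] at hz
    rw [hTord] at hT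
    obtain ⟨s, hs, hzs⟩ := htr.exists_div hz
    obtain ⟨a, _, hTa⟩ := htr.exists_div hT
    have htr0 : t ^ r ≠ 0 := htr.ne_zero
    have hσtr : σ (t ^ r) = t ^ r := by rw [map_pow, hσt]
    refine ⟨s, a, ?_, ?_, ?_⟩
    · rw [hs.order_eq]; rfl
    · apply mul_left_cancel₀ htr0
      calc t ^ r * σ a = σ (t ^ r) * σ a := by rw [hσtr]
        _ = σ (t ^ r * a) := (map_mul σ _ _).symm
        _ = σ T := by rw [← hTa]
        _ = T := hσT
        _ = t ^ r * a := hTa
    · apply mul_left_cancel₀ htr0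
      calc t ^ r * σ s = σ (t ^ r) * σ s := by rw [hσtr]
        _ = σ (t ^ r * s) := (map_mul σ _ _).symm
        _ = σ z := by rw [← hzs]
        _ = z + T := by rw [← hDz]; ring
        _ = t ^ r * s + t ^ r * a := by rw [← hzs, ← hTa]
        _ = t ^ r * (s + a) := by ring
  · rintro ⟨s, a, hs, hσa, hσs⟩
    have hs1 : ExactOrd 1 s := exactOrd_of_order (by rw [hs]; rfl)
    have hnd : ¬ p ∣ 1 := fun h => hp.one_lt.ne' (Nat.dvd_one.mp h)
    have h1 := exactOrd_D σ m p hm1 hexact hnd hs1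
    have h2 : σ s - s = a := by rw [hσs]; ring
    rw [h2] at h1
    have := hfixed h1 hσa
    rwa [Nat.add_comm] at this

end Groth.Agent.Helper29.WildPS
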