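import Mathlib

set_option autoImplicit false
set_option linter.unusedSectionVars false
set_option linter.unusedVariables false
set_option linter.unusedSimpArgs false

namespace Groth.Agent.Helper29.ZetaRatA

open Polynomial

/-- integer polynomial to rational function -/
noncomputable abbrev ι (p : ℤ[X]) : RatFunc ℚ :=
  algebraMap ℚ[X] (RatFunc ℚ) (p.map (Int.castRingHom ℚ))

theorem ι_mul (p r : ℤ[X]) : ι (p * r) = ι p * ι r := by
  simp [ι, Polynomial.map_mul]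

theorem ι_add (p r : ℤ[X]) : ι (p + r) = ι p + ι r := by
  simp [ι, Polynomial.map_add]

theorem ι_neg (p : ℤ[X]) : ι (-p) = -ι p := by
  simp [ι, Polynomial.map_neg]

theorem ι_one : ι 1 = 1 := by simp [ι]

theorem ι_X : ι X = RatFunc.X := by simp [ι, RatFunc.algebraMap_X]

/-- the denominator polynomial is good -/
def GoodDen (E : ℤ[X]) : Prop :=
  E.Monic ∧ ∀ x : ℚ, 1 < x → (E.map (Int.castRingHom ℚ)).eval x ≠ 0

theorem GoodDen.one : GoodDen 1 := ⟨monic_one, fun x _ => by simp⟩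

theorem GoodDen.mul {E₁ E₂ : ℤ[X]} (h₁ : GoodDen E₁) (h₂ : GoodDen E₂) : GoodDen (E₁ * E₂) :=
  ⟨h₁.1.mul h₂.1, fun x hx => by
    rw [Polynomial.map_mul, eval_mul]
    exact mul_ne_zero (h₁.2 x hx) (h₂.2 x hx)⟩

theorem GoodDen.XX : GoodDen Polynomial.X := ⟨monic_X, fun x hx => by
  simp only [map_X, eval_X]; linarith⟩

theorem GoodDen.X_pow_sub_one (n : ℕ) : GoodDen ((Polynomial.X : ℤ[X]) ^ (n + 1) - 1) := by
  refine ⟨?_, fun x hx => ?_⟩
  · have := monic_X_pow_sub_C (1 : ℤ) (Nat.succ_ne_zero n)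
    simpa using this
  · simp only [Polynomial.map_sub, Polynomial.map_pow, map_X, Polynomial.map_one, eval_sub,
      eval_pow, eval_X, eval_one]
    have : 1 < x ^ (n + 1) := one_lt_pow₀ hx (Nat.succ_ne_zero n)
    linarith

/-- elements of the subring have the form `M / E` with `E` good -/
def Good (F : RatFunc ℚ) : Prop := ∃ E M : ℤ[X], GoodDen E ∧ F * ι E = ι M

theorem good_of_mem {F : RatFunc ℚ}
    (hF : F ∈ Subring.closure
      (({RatFunc.X, (RatFunc.X : RatFunc ℚ)⁻¹} : Set (RatFunc ℚ)) ∪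
        Set.range fun n : ℕ => ((RatFunc.X : RatFunc ℚ) ^ (n + 1) - 1)⁻¹)) : Good F := by
  induction hF using Subring.closure_induction with
  | mem x hx =>
    rcases hx with hx | ⟨n, rfl⟩
    · rcases hx with rfl | hx
      · exact ⟨1, X, GoodDen.one, by rw [ι_one, mul_one, ι_X]⟩
      · rw [Set.mem_singleton_iff] at hx
        subst hx
        refine ⟨X, 1, GoodDen.XX, ?_⟩
        rw [ι_X, ι_one, inv_mul_cancel₀ RatFunc.X_ne_zero]
    · refine ⟨X ^ (n + 1) - 1, 1, GoodDen.X_pow_sub_one n, ?_⟩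
      have h1 : ι (X ^ (n + 1) - 1) = (RatFunc.X : RatFunc ℚ) ^ (n + 1) - 1 := by
        simp [ι, RatFunc.algebraMap_X]
      rw [h1, ι_one]
      apply inv_mul_cancel₀
      rw [← h1]
      intro h0
      have h2 : (X ^ (n + 1) - 1 : ℤ[X]).map (Int.castRingHom ℚ) = 0 := by
        apply (FaithfulSMul.algebraMap_injective ℚ[X] (RatFunc ℚ))
        rw [map_zero]; exact h0
      have h3 := (GoodDen.X_pow_sub_one n).2 2 (by norm_num)
      rw [h2] at h3
      simp at h3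
  | zero => exact ⟨1, 0, GoodDen.one, by simp [ι]⟩
  | one => exact ⟨1, 1, GoodDen.one, by simp [ι]⟩
  | add x y _ _ hx hy =>
    obtain ⟨E₁, M₁, g₁, h₁⟩ := hx
    obtain ⟨E₂, M₂, g₂, h₂⟩ := hy
    refine ⟨E₁ * E₂, M₁ * E₂ + M₂ * E₁, g₁.mul g₂, ?_⟩
    rw [ι_mul, ι_add, ι_mul, ι_mul, ← h₁, ← h₂]; ring
  | neg x _ hx =>
    obtain ⟨E₁, M₁, g₁, h₁⟩ := hx
    exact ⟨E₁, -M₁, g₁, by rw [ι_neg, ← h₁]; ring⟩
  | mul x y _ _ hx hy =>
    obtain ⟨E₁, M₁, g₁, h₁⟩ := hx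
    obtain ⟨E₂, M₂, g₂, h₂⟩ := hy
    refine ⟨E₁ * E₂, M₁ * M₂, g₁.mul g₂, ?_⟩
    rw [ι_mul, ι_mul, ← h₁, ← h₂]; ring

end Groth.Agent.Helper29.ZetaRatA
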