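import Mathlib

set_option autoImplicit false
set_option linter.unusedSectionVars false
set_option linter.unusedVariables false
set_option linter.unusedSimpArgs false

namespace Groth.Agent.Helper29.ZetaRatB

open Polynomial PowerSeries

/-- the log-derivative identity -/
theorem logDeriv_identity (a : ℕ → ℚ) (P Q : ℚ[X])
    (h : (PowerSeries.exp ℚ).subst
        (PowerSeries.mk fun v : ℕ => if v = 0 then (0 : ℚ) else a v / (v : ℚ))
        * (Q : PowerSeries ℚ) = (P : PowerSeries ℚ)) :
    (PowerSeries.mk fun v : ℕ => a (v + 1)) * ((P * Q : ℚ[X]) : PowerSeries ℚ) =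
      ((derivative P * Q - P * derivative Q : ℚ[X]) : PowerSeries ℚ) := by
  set g : PowerSeries ℚ := PowerSeries.mk fun v : ℕ => if v = 0 then (0 : ℚ) else a v / (v : ℚ)
    with hgdef
  have hg : HasSubst g := HasSubst.of_constantCoeff_zero' (by simp [hgdef])
  set G := (PowerSeries.exp ℚ).subst g with hG
  have hdg : d⁄dX ℚ g = PowerSeries.mk fun v : ℕ => a (v + 1) := by
    ext n
    rw [PowerSeries.coeff_derivative, PowerSeries.coeff_mk, PowerSeries.coeff_mk, if_neg (Nat.succ_ne_zero n)]
    have : ((n : ℚ) + 1) ≠ 0 := by positivity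
    push_cast
    field_simp
  have hdG : d⁄dX ℚ G = G * d⁄dX ℚ g := by
    rw [hG, derivative_subst hg, derivative_exp]
  have h1 := congrArg (d⁄dX ℚ) h
  rw [Derivation.leibniz, PowerSeries.derivative_coe, PowerSeries.derivative_coe, hdG, smul_eq_mul, smul_eq_mul] at h1
  rw [← hdg, Polynomial.coe_sub, Polynomial.coe_mul, Polynomial.coe_mul, Polynomial.coe_mul,
    ← h1, ← h]
  ring

theorem exp_subst_ne_zero {g : PowerSeries ℚ} (hg : HasSubst g) :
    (PowerSeries.exp ℚ).subst g ≠ 0 := by
  intro h0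
  have h1 := congrArg (PowerSeries.subst g) (exp_mul_exp_neg_eq_one (A := ℚ))
  rw [subst_mul hg, h0, zero_mul, ← coe_substAlgHom hg, map_one] at h1
  exact zero_ne_one h1

/-- the linear recurrence -/
theorem recurrence (a : ℕ → ℚ) (P Q : ℚ[X]) (hQ : Q ≠ 0)
    (h : (PowerSeries.exp ℚ).subst
        (PowerSeries.mk fun v : ℕ => if v = 0 then (0 : ℚ) else a v / (v : ℚ))
        * (Q : PowerSeries ℚ) = (P : PowerSeries ℚ)) :
    ∃ W : ℚ[X], W ≠ 0 ∧ ∃ u₀ : ℕ, ∀ u, u₀ ≤ u →
      ∑ j ∈ Finset.range (W.natDegree + 1), W.coeff (W.natDegree - j) * a (u + j + 1) = 0 := by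
  have hg : HasSubst (PowerSeries.mk fun v : ℕ => if v = 0 then (0 : ℚ) else a v / (v : ℚ)) :=
    HasSubst.of_constantCoeff_zero' (by simp)
  have hP : P ≠ 0 := by
    rintro rfl
    rw [Polynomial.coe_zero] at h
    rcases mul_eq_zero.mp h with h1 | h1
    · exact exp_subst_ne_zero hg h1
    · exact hQ (Polynomial.coe_injective ℚ (by rw [h1, Polynomial.coe_zero]))
  have key := logDeriv_identity a P Q h
  set W := P * Q with hW
  set V := derivative P * Q - P * derivative Q with hV
  set r := W.natDegree with hr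
  refine ⟨W, mul_ne_zero hP hQ, V.natDegree + 1, fun u hu => ?_⟩
  have h1 := congrArg (PowerSeries.coeff (u + r)) key
  rw [Polynomial.coeff_coe, Polynomial.coeff_eq_zero_of_natDegree_lt (by omega), mul_comm,
    PowerSeries.coeff_mul, Finset.Nat.sum_antidiagonal_eq_sum_range_succ_mk] at h1
  have h2 : ∑ k ∈ Finset.range (u + r).succ,
      PowerSeries.coeff k (W : PowerSeries ℚ) * PowerSeries.coeff (u + r - k)
        (PowerSeries.mk fun v : ℕ => a (v + 1)) =
      ∑ k ∈ Finset.range (r + 1), W.coeff k * a (u + r - k + 1) := by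
    have h3 : ∑ k ∈ Finset.range (u + r).succ,
        PowerSeries.coeff k (W : PowerSeries ℚ) * PowerSeries.coeff (u + r - k)
          (PowerSeries.mk fun v : ℕ => a (v + 1)) =
        ∑ k ∈ Finset.range (u + r).succ, W.coeff k * a (u + r - k + 1) := by
      apply Finset.sum_congr rfl
      intro k hk
      rw [Polynomial.coeff_coe, PowerSeries.coeff_mk]
    rw [h3]
    symm
    apply Finset.sum_subset
    · intro k hk
      rw [Finset.mem_range] at hk ⊢
      omega
    · intro k hk hk'
      rw [Finset.mem_range] at hk hk'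
      rw [Polynomial.coeff_eq_zero_of_natDegree_lt (by omega), zero_mul]
  rw [h2] at h1
  rw [← Finset.sum_range_reflect] at h1
  rw [← h1]
  apply Finset.sum_congr rfl
  intro j hj
  rw [Finset.mem_range] at hj
  have e1 : r + 1 - 1 - j = r - j := by omega
  have e2 : u + r - (r - j) + 1 = u + j + 1 := by omega
  rw [e1, e2]

end Groth.Agent.Helper29.ZetaRatB
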