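import Mathlib

set_option autoImplicit false
set_option linter.unusedSectionVars false
set_option linter.unusedVariables false
set_option linter.unusedSimpArgs false

namespace Groth.Agent.Helper29.ZetaRatC

open Polynomial

/-- the auxiliary polynomial clearing denominators in the recurrence -/
noncomputable def T (q : ℚ) (N D W : ℚ[X]) : ℚ[X] :=
  ∑ j ∈ Finset.range (W.natDegree + 1),
    C (W.coeff (W.natDegree - j)) * N.comp (C (q ^ j) * X) *
      ∏ j' ∈ (Finset.range (W.natDegree + 1)).erase j, D.comp (C (q ^ j') * X)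

theorem T_eval (q : ℚ) (N D W : ℚ[X]) (x : ℚ) :
    (T q N D W).eval x = ∑ j ∈ Finset.range (W.natDegree + 1),
      W.coeff (W.natDegree - j) * N.eval (q ^ j * x) *
        ∏ j' ∈ (Finset.range (W.natDegree + 1)).erase j, D.eval (q ^ j' * x) := by
  simp [T, eval_finsetSum, eval_prod, eval_comp]

theorem T_aeval (q : ℚ) (N D W : ℚ[X]) (z : ℂ) :
    aeval z (T q N D W) = ∑ j ∈ Finset.range (W.natDegree + 1),
      (W.coeff (W.natDegree - j) : ℂ) * aeval ((q : ℂ) ^ j * z) N *
        ∏ j' ∈ (Finset.range (W.natDegree + 1)).erase j, aeval ((q : ℂ) ^ j' * z) D := by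
  simp [T, map_sum, map_prod, aeval_comp]

theorem T_eq_zero (q : ℚ) (hq : 1 < q) (N D W : ℚ[X])
    (hD : ∀ v : ℕ, 1 ≤ v → D.eval (q ^ v) ≠ 0) (u₀ : ℕ)
    (hrec : ∀ u, u₀ ≤ u → ∑ j ∈ Finset.range (W.natDegree + 1),
      W.coeff (W.natDegree - j) * (N.eval (q ^ (u + j + 1)) / D.eval (q ^ (u + j + 1))) = 0) :
    T q N D W = 0 := by
  apply Polynomial.eq_zero_of_infinite_isRoot
  have hinj : Function.Injective (fun u : ℕ => q ^ (u₀ + u + 1)) := by
    intro u u' h
    have := pow_right_injective₀ (by linarith : (0 : ℚ) < q) (ne_of_gt hq) h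
    omega
  apply Set.infinite_of_injective_forall_mem hinj
  intro u
  show (T q N D W).IsRoot _
  rw [IsRoot.def, T_eval]
  have h1 := hrec (u₀ + u) (Nat.le_add_right _ _)
  set r := W.natDegree
  have h2 : ∀ j ∈ Finset.range (r + 1),
      W.coeff (r - j) * N.eval (q ^ j * q ^ (u₀ + u + 1)) *
        ∏ j' ∈ (Finset.range (r + 1)).erase j, D.eval (q ^ j' * q ^ (u₀ + u + 1)) =
      (∏ j' ∈ Finset.range (r + 1), D.eval (q ^ j' * q ^ (u₀ + u + 1))) *
        (W.coeff (r - j) * (N.eval (q ^ (u₀ + u + j + 1)) / D.eval (q ^ (u₀ + u + j + 1)))) := by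
    intro j hj
    rw [← Finset.mul_prod_erase _ _ hj]
    have e : q ^ j * q ^ (u₀ + u + 1) = q ^ (u₀ + u + j + 1) := by
      rw [← pow_add]; congr 1; omega
    rw [e]
    have hne : D.eval (q ^ (u₀ + u + j + 1)) ≠ 0 := hD _ (by omega)
    have gen : ∀ (a b c d : ℚ), d ≠ 0 → c * a * b = (d * b) * (c * (a / d)) :=
      fun a b c d hd => by field_simp
    exact gen _ _ _ _ hne
  rw [Finset.sum_congr rfl h2, ← Finset.mul_sum, h1, mul_zero]

theorem no_nonzero_root (q : ℚ) (hq : 1 < q) (N D W : ℚ[X]) (hW : W ≠ 0)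
    (hcop : IsCoprime N D) (hD0 : D ≠ 0) (hT : T q N D W = 0) :
    ∀ z : ℂ, z ≠ 0 → aeval z D ≠ 0 := by
  by_contra hcon
  push Not at hcon
  set Z : Set ℂ := {z : ℂ | z ≠ 0 ∧ aeval z D = 0} with hZ
  have hfin : Z.Finite := by
    apply Set.Finite.subset (Polynomial.rootSet_finite D ℂ)
    intro z hz
    rw [Polynomial.mem_rootSet]
    exact ⟨hD0, hz.2⟩
  have hne : Z.Nonempty := hcon
  obtain ⟨z₀, hz₀, hmax⟩ := Set.exists_max_image Z (fun z => ‖z‖) hfin hne
  have h1 := T_aeval q N D W z₀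
  rw [hT, map_zero] at h1
  set r := W.natDegree with hr
  have hq0 : (0 : ℚ) < q := by linarith
  rw [Finset.sum_eq_single 0] at h1
  · simp only [pow_zero, one_mul, Nat.sub_zero] at h1
    have hc : ((W.coeff r : ℚ) : ℂ) ≠ 0 := by
      rw [hr, Polynomial.coeff_natDegree]
      exact_mod_cast (Polynomial.leadingCoeff_ne_zero.mpr hW)
    have hN : aeval z₀ N ≠ 0 := by
      obtain ⟨a, b, hab⟩ := hcop
      have h2 := congrArg (aeval z₀) hab
      simp only [map_add, map_mul, map_one, hz₀.2, mul_zero, add_zero] at h2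
      intro h0
      rw [h0, mul_zero] at h2
      exact zero_ne_one h2
    have hprod : ∏ j' ∈ (Finset.range (r + 1)).erase 0, aeval ((q : ℂ) ^ j' * z₀) D ≠ 0 := by
      rw [Finset.prod_ne_zero_iff]
      intro j' hj' h0
      rw [Finset.mem_erase] at hj'
      have hqc : (q : ℂ) ^ j' ≠ 0 := by
        apply pow_ne_zero
        exact_mod_cast hq0.ne'
      have hmem : (q : ℂ) ^ j' * z₀ ∈ Z := ⟨mul_ne_zero hqc hz₀.1, h0⟩
      have h3 := hmax _ hmem
      simp only [norm_mul, norm_pow] at h3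
      have h4 : ‖(q : ℂ)‖ = (q : ℝ) := by
        rw [show (q : ℂ) = ((q : ℝ) : ℂ) by push_cast; rfl, Complex.norm_real,
          Real.norm_of_nonneg]
        exact_mod_cast hq0.le
      rw [h4] at h3
      have h5 : (1 : ℝ) < (q : ℝ) ^ j' := by
        apply one_lt_pow₀ _ hj'.1
        exact_mod_cast hq
      have h6 : 0 < ‖z₀‖ := norm_pos_iff.mpr hz₀.1
      nlinarith
    exact absurd h1.symm (mul_ne_zero (mul_ne_zero hc hN) hprod)
  · intro j hj hj0
    have h0mem : 0 ∈ (Finset.range (r + 1)).erase j := by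
      rw [Finset.mem_erase, Finset.mem_range]
      exact ⟨fun h => hj0 h.symm, Nat.succ_pos r⟩
    rw [Finset.prod_eq_zero h0mem (by simp [hz₀.2]), mul_zero]
  · intro h0
    exact absurd (Finset.mem_range.mpr (Nat.succ_pos r)) h0

theorem eq_X_pow (D : ℚ[X]) (hD : D.Monic) (h : ∀ z : ℂ, z ≠ 0 → aeval z D ≠ 0) :
    ∃ n : ℕ, D = X ^ n := by
  set D' := D.map (algebraMap ℚ ℂ) with hD'
  have hm : D'.Monic := hD.map _
  have hs : D'.Splits := IsAlgClosed.splits D'
  have hroots : D'.roots = Multiset.replicate (Multiset.card D'.roots) 0 := by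
    rw [Multiset.eq_replicate]
    refine ⟨rfl, fun z hz => ?_⟩
    by_contra hz0
    rw [Polynomial.mem_roots hm.ne_zero, IsRoot.def, hD', Polynomial.eval_map_algebraMap] at hz
    exact h z hz0 hz
  have h1 := hs.eq_prod_roots_of_monic hm
  rw [hroots, Multiset.map_replicate, Multiset.prod_replicate, C_0, sub_zero] at h1
  refine ⟨Multiset.card D'.roots, ?_⟩
  apply Polynomial.map_injective (algebraMap ℚ ℂ) (algebraMap ℚ ℂ).injective
  rw [Polynomial.map_pow, Polynomial.map_X]
  exact h1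

end Groth.Agent.Helper29.ZetaRatC
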