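import Mathlib
import Groth.Agent.Lib.Helper29.ZetaRatA
import Groth.Agent.Lib.Helper29.ZetaRatB
import Groth.Agent.Lib.Helper29.ZetaRatC

set_option autoImplicit false
set_option linter.unusedSectionVars false
set_option linter.unusedVariables false
set_option linter.unusedSimpArgs false

namespace Groth.Agent.Helper29.ZetaRatD

open Polynomial PowerSeries ZetaRatA ZetaRatB ZetaRatC

theorem main14193 (q : ℤ) (hq : 1 < q) (F : RatFunc ℚ)
    (hF : F ∈ Subring.closure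
      (({RatFunc.X, (RatFunc.X : RatFunc ℚ)⁻¹} : Set (RatFunc ℚ)) ∪
        Set.range fun n : ℕ => ((RatFunc.X : RatFunc ℚ) ^ (n + 1) - 1)⁻¹))
    (hrat : ∃ P Q : Polynomial ℚ, Q ≠ 0 ∧
      (PowerSeries.exp ℚ).subst
          (PowerSeries.mk fun v : ℕ => if v = 0 then (0 : ℚ)
            else F.eval (RingHom.id ℚ) ((q : ℚ) ^ v) / (v : ℚ))
        * (Q : PowerSeries ℚ) = (P : PowerSeries ℚ)) :
    ∃ (P : Polynomial ℤ) (a : ℕ),
      F * RatFunc.X ^ a = algebraMap (Polynomial ℚ) (RatFunc ℚ) (P.map (Int.castRingHom ℚ)) := by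
  obtain ⟨E, M, ⟨hEmonic, hEne⟩, hEM⟩ := good_of_mem hF
  obtain ⟨P, Q, hQ, hPQ⟩ := hrat
  have hq' : (1 : ℚ) < (q : ℚ) := by exact_mod_cast hq
  set N := F.num with hN
  set D := F.denom with hDdef
  set E' := E.map (Int.castRingHom ℚ) with hE'
  have hE'0 : E' ≠ 0 := (hEmonic.map _).ne_zero
  have hιE0 : ι E ≠ 0 := by
    intro h0
    exact hE'0 (FaithfulSMul.algebraMap_injective ℚ[X] (RatFunc ℚ) (by rw [map_zero]; exact h0))
  have hdvd : D ∣ E' := by
    rw [hDdef, RatFunc.denom_dvd hE'0]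
    refine ⟨M.map (Int.castRingHom ℚ), ?_⟩
    rw [eq_div_iff hιE0]
    exact hEM
  have hDv : ∀ v : ℕ, 1 ≤ v → D.eval ((q : ℚ) ^ v) ≠ 0 := by
    intro v hv h0
    have h1 : (1 : ℚ) < (q : ℚ) ^ v := one_lt_pow₀ hq' (by omega)
    exact hEne _ h1 (Polynomial.eval_eq_zero_of_dvd_of_eval_eq_zero hdvd h0)
  have ha : ∀ v : ℕ, F.eval (RingHom.id ℚ) ((q : ℚ) ^ v) =
      N.eval ((q : ℚ) ^ v) / D.eval ((q : ℚ) ^ v) := by
    intro v
    rw [RatFunc.eval, Polynomial.eval₂_id, Polynomial.eval₂_id]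
  obtain ⟨W, hW, u₀, hrec⟩ :=
    recurrence (fun v => F.eval (RingHom.id ℚ) ((q : ℚ) ^ v)) P Q hQ hPQ
  have hT : T (q : ℚ) N D W = 0 := by
    apply T_eq_zero (q : ℚ) hq' N D W hDv u₀
    intro u hu
    have := hrec u hu
    simp only [ha] at this
    exact this
  have hroot := no_nonzero_root (q : ℚ) hq' N D W hW (RatFunc.isCoprime_num_denom F)
    (RatFunc.denom_ne_zero F) hT
  obtain ⟨n, hn⟩ := eq_X_pow D (RatFunc.monic_denom F) hroot
  have hFn : F * RatFunc.X ^ n = algebraMap ℚ[X] (RatFunc ℚ) N := by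
    have h1 := RatFunc.num_div_denom F
    rw [← hN, ← hDdef, hn, map_pow, RatFunc.algebraMap_X] at h1
    rw [← h1, div_mul_cancel₀]
    exact pow_ne_zero _ RatFunc.X_ne_zero
  -- integrality
  have h2 : N * E' = ((Polynomial.X : ℤ[X]) ^ n * M).map (Int.castRingHom ℚ) := by
    apply FaithfulSMul.algebraMap_injective ℚ[X] (RatFunc ℚ)
    rw [map_mul, ← hFn, Polynomial.map_mul, Polynomial.map_pow, Polynomial.map_X, map_mul,
      map_pow, RatFunc.algebraMap_X]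
    have : ι M = algebraMap ℚ[X] (RatFunc ℚ) (M.map (Int.castRingHom ℚ)) := rfl
    rw [← this, ← hEM]
    show F * RatFunc.X ^ n * ι E = _
    ring
  refine ⟨((Polynomial.X : ℤ[X]) ^ n * M) /ₘ E, n, ?_⟩
  rw [hFn, Polynomial.map_divByMonic _ hEmonic, ← h2, mul_comm N E',
    Polynomial.mul_divByMonic_cancel_left _ (hEmonic.map _)]

end Groth.Agent.Helper29.ZetaRatD
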